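import Mathlib.Data.Set.Finite.Basic
import Mathlib.Order.Directed
import Mathlib.Topology.Constructible
import Mathlib.Topology.Irreducible
import Mathlib.Topology.NoetherianSpace
import Mathlib.Topology.Semicontinuity.Basic
import Mathlib.Topology.Sober

set_option autoImplicit false
universe u v

namespace Groth.Agent.Lib.Helper12

open Topology TopologicalSpace Set

variable {X : Type u} [TopologicalSpace X]

/-- Noetherian induction on closed subsets, split into empty / union / irreducible cases. -/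
theorem closed_induction [NoetherianSpace X] (Q : Set X → Prop)
    (h_empty : Q ∅)
    (h_union : ∀ Z₁ Z₂ : Set X, IsClosed Z₁ → IsClosed Z₂ → Q Z₁ → Q Z₂ → Q (Z₁ ∪ Z₂))
    (h_irr : ∀ Z : Set X, IsClosed Z → IsIrreducible Z →
      (∀ Z' : Set X, IsClosed Z' → Z' ⊂ Z → Q Z') → Q Z)
    (Z : Set X) (hZ : IsClosed Z) : Q Z := by
  suffices H : ∀ C : Closeds X, Q (C : Set X) from H ⟨Z, hZ⟩
  intro C
  induction C using WellFoundedLT.induction with
  | ind C ih =>
    by_cases hne : (C : Set X) = ∅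
    · rw [hne]; exact h_empty
    by_cases hirr : IsIrreducible (C : Set X)
    · refine h_irr _ C.isClosed hirr ?_
      intro Z' hZ' hlt
      exact ih ⟨Z', hZ'⟩ (by
        rw [← SetLike.coe_ssubset_coe]
        exact hlt)
    · have hnp : ¬ IsPreirreducible (C : Set X) := fun hp =>
        hirr ⟨Set.nonempty_iff_ne_empty.mpr hne, hp⟩
      rw [isPreirreducible_iff_isClosed_union_isClosed] at hnp
      push Not at hnp
      obtain ⟨z₁, z₂, hz₁, hz₂, hsub, hn₁, hn₂⟩ := hnp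
      have e : (C : Set X) = ((C : Set X) ∩ z₁) ∪ ((C : Set X) ∩ z₂) := by
        rw [← Set.inter_union_distrib_left]
        exact (Set.inter_eq_left.mpr hsub).symm
      rw [e]
      refine h_union _ _ (C.isClosed.inter hz₁) (C.isClosed.inter hz₂) ?_ ?_
      · refine ih ⟨(C : Set X) ∩ z₁, C.isClosed.inter hz₁⟩ ?_
        rw [← SetLike.coe_ssubset_coe]
        refine ⟨Set.inter_subset_left, fun h => hn₁ fun x hx => (h hx).2⟩
      · refine ih ⟨(C : Set X) ∩ z₂, C.isClosed.inter hz₂⟩ ?_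
        rw [← SetLike.coe_ssubset_coe]
        refine ⟨Set.inter_subset_left, fun h => hn₂ fun x hx => (h hx).2⟩

/-- A constructible set or its complement contains a nonempty relatively open subset of any
irreducible set. -/
theorem constructible_dichotomy {E : Set X} (hE : IsConstructible E) {Y : Set X}
    (hY : IsIrreducible Y) :
    ∃ U : Set X, IsOpen U ∧ (U ∩ Y).Nonempty ∧ (U ∩ Y ⊆ E ∨ U ∩ Y ⊆ Eᶜ) := by
  induction hE using IsConstructible.empty_union_induction with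
  | open_retrocompact U hUopen hUcomp =>
    by_cases hne : (U ∩ Y).Nonempty
    · exact ⟨U, hUopen, hne, Or.inl Set.inter_subset_left⟩
    · refine ⟨Set.univ, isOpen_univ, by simpa using hY.nonempty, Or.inr ?_⟩
      intro y hy hyU
      exact hne ⟨y, hyU, hy.2⟩
  | union s hs t ht hs' ht' =>
    obtain ⟨U₁, hU₁, hne₁, h₁⟩ := hs'
    obtain ⟨U₂, hU₂, hne₂, h₂⟩ := ht'
    rcases h₁ with h₁ | h₁
    · exact ⟨U₁, hU₁, hne₁, Or.inl (h₁.trans Set.subset_union_left)⟩
    rcases h₂ with h₂ | h₂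
    · exact ⟨U₂, hU₂, hne₂, Or.inl (h₂.trans Set.subset_union_right)⟩
    have hne : (Y ∩ (U₁ ∩ U₂)).Nonempty :=
      hY.isPreirreducible U₁ U₂ hU₁ hU₂ (by rwa [Set.inter_comm]) (by rwa [Set.inter_comm])
    refine ⟨U₁ ∩ U₂, hU₁.inter hU₂, by rwa [Set.inter_comm], Or.inr ?_⟩
    rintro y ⟨⟨hy₁, hy₂⟩, hyY⟩ (hys | hyt)
    · exact h₁ ⟨hy₁, hyY⟩ hys
    · exact h₂ ⟨hy₂, hyY⟩ hyt
  | compl s hs hs' =>
    obtain ⟨U, hU, hne, h⟩ := hs'
    refine ⟨U, hU, hne, h.symm.imp id ?_⟩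
    rw [compl_compl]
    exact id

/-- A constructible set whose trace on an irreducible set is dense there contains a nonempty
relatively open subset of it. -/
theorem exists_open_subset_of_dense {E : Set X} (hE : IsConstructible E) {Y : Set X}
    (hY : IsIrreducible Y) (hd : Y ⊆ closure (E ∩ Y)) :
    ∃ U : Set X, IsOpen U ∧ (U ∩ Y).Nonempty ∧ U ∩ Y ⊆ E := by
  obtain ⟨U, hU, hne, h | h⟩ := constructible_dichotomy hE hY
  · exact ⟨U, hU, hne, h⟩
  · exfalso
    obtain ⟨y, hyU, hyY⟩ := hne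
    have := mem_closure_iff.mp (hd hyY) U hU hyU
    obtain ⟨z, hzU, hzE, hzY⟩ := this
    exact h ⟨hzU, hzY⟩ hzE

theorem isConstructible_of_isOpen [NoetherianSpace X] {U : Set X} (hU : IsOpen U) :
    IsConstructible U :=
  IsRetrocompact.isConstructible hU fun _ _ _ => NoetherianSpace.isCompact _

theorem isConstructible_of_isClosed [NoetherianSpace X] {Z : Set X} (hZ : IsClosed Z) :
    IsConstructible Z :=
  (isConstructible_of_isOpen hZ.isOpen_compl).of_compl

/-- S2397 -/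
theorem eq_of_directed_constructible_cover [NoetherianSpace X] {ι : Type v} [Preorder ι]
    [IsDirected ι (· ≤ ·)] [Nonempty ι]
    (E : ι → Set X) (hmono : Monotone E) (hE : ∀ a, IsConstructible (E a))
    (hirr : ∀ Y : Set X, IsClosed Y → IsIrreducible Y → ∃ a, Y ⊆ closure (E a ∩ Y)) :
    ∃ a, E a = Set.univ := by
  have key : ∀ Z : Set X, IsClosed Z → ∃ a, Z ⊆ E a := by
    apply closed_induction
    · exact ⟨Classical.arbitrary ι, Set.empty_subset _⟩
    · rintro Z₁ Z₂ - - ⟨a₁, h₁⟩ ⟨a₂, h₂⟩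
      obtain ⟨c, hc₁, hc₂⟩ := exists_ge_ge a₁ a₂
      exact ⟨c, Set.union_subset (h₁.trans (hmono hc₁)) (h₂.trans (hmono hc₂))⟩
    · intro Z hZ hZirr ih
      obtain ⟨a, ha⟩ := hirr Z hZ hZirr
      obtain ⟨U, hU, hne, hUE⟩ := exists_open_subset_of_dense (hE a) hZirr ha
      obtain ⟨b, hb⟩ := ih (Z \ U) (hZ.sdiff hU) (by
        refine ⟨Set.sdiff_subset, fun h => ?_⟩
        obtain ⟨y, hyU, hyZ⟩ := hne
        exact (h hyZ).2 hyU)
      obtain ⟨c, hc₁, hc₂⟩ := exists_ge_ge a b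
      refine ⟨c, fun z hz => ?_⟩
      by_cases hzU : z ∈ U
      · exact hmono hc₁ (hUE ⟨hzU, hz⟩)
      · exact hmono hc₂ (hb ⟨hz, hzU⟩)
  obtain ⟨a, ha⟩ := key Set.univ isClosed_univ
  exact ⟨a, Set.univ_subset_iff.mp ha⟩

/-- S2398, reverse direction in terms of closures. -/
theorem mem_nhds_of_dense_on_irreducible_closed [NoetherianSpace X] (x : X) {E : Set X}
    (hE : IsConstructible E)
    (H : ∀ Y : Set X, IsClosed Y → IsIrreducible Y → x ∈ Y → Y ⊆ closure (E ∩ Y)) :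
    E ∈ nhds x := by
  have key : ∀ Z : Set X, IsClosed Z → x ∈ Z → ∃ V : Set X, IsOpen V ∧ x ∈ V ∧ V ∩ Z ⊆ E := by
    apply closed_induction
    · intro h; exact h.elim
    · intro Z₁ Z₂ hZ₁ hZ₂ h₁ h₂ hx
      by_cases hx₁ : x ∈ Z₁ <;> by_cases hx₂ : x ∈ Z₂
      · obtain ⟨V₁, hV₁, hxV₁, hVE₁⟩ := h₁ hx₁
        obtain ⟨V₂, hV₂, hxV₂, hVE₂⟩ := h₂ hx₂
        refine ⟨V₁ ∩ V₂, hV₁.inter hV₂, ⟨hxV₁, hxV₂⟩, ?_⟩
        rintro z ⟨⟨hz₁, hz₂⟩, hz | hz⟩
        · exact hVE₁ ⟨hz₁, hz⟩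
        · exact hVE₂ ⟨hz₂, hz⟩
      · obtain ⟨V₁, hV₁, hxV₁, hVE₁⟩ := h₁ hx₁
        refine ⟨V₁ ∩ Z₂ᶜ, hV₁.inter hZ₂.isOpen_compl, ⟨hxV₁, hx₂⟩, ?_⟩
        rintro z ⟨⟨hz₁, hz₂⟩, hz | hz⟩
        · exact hVE₁ ⟨hz₁, hz⟩
        · exact (hz₂ hz).elim
      · obtain ⟨V₂, hV₂, hxV₂, hVE₂⟩ := h₂ hx₂
        refine ⟨V₂ ∩ Z₁ᶜ, hV₂.inter hZ₁.isOpen_compl, ⟨hxV₂, hx₁⟩, ?_⟩
        rintro z ⟨⟨hz₁, hz₂⟩, hz | hz⟩
        · exact (hz₂ hz).elim
        · exact hVE₂ ⟨hz₁, hz⟩
      · exact (hx.elim hx₁ hx₂).elim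
    · intro Z hZ hZirr ih hx
      obtain ⟨U, hU, hne, hUE⟩ := exists_open_subset_of_dense hE hZirr (H Z hZ hZirr hx)
      by_cases hxU : x ∈ U
      · exact ⟨U, hU, hxU, hUE⟩
      · obtain ⟨V, hV, hxV, hVE⟩ := ih (Z \ U) (hZ.sdiff hU) (by
          refine ⟨Set.sdiff_subset, fun h => ?_⟩
          obtain ⟨y, hyU, hyZ⟩ := hne
          exact (h hyZ).2 hyU) ⟨hx, hxU⟩
        refine ⟨V, hV, hxV, ?_⟩
        rintro z ⟨hzV, hzZ⟩
        by_cases hzU : z ∈ U
        · exact hUE ⟨hzU, hzZ⟩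
        · exact hVE ⟨hzV, hzZ, hzU⟩
  obtain ⟨V, hV, hxV, hVE⟩ := key Set.univ isClosed_univ (Set.mem_univ x)
  rw [Set.inter_univ] at hVE
  exact Filter.mem_of_superset (hV.mem_nhds hxV) hVE

theorem dense_preimage_val_iff {E Y : Set X} :
    Dense (Subtype.val ⁻¹' E : Set Y) ↔ Y ⊆ closure (E ∩ Y) := by
  rw [Subtype.dense_iff, Subtype.image_preimage_coe, Set.inter_comm]

/-- S2398 -/
theorem mem_nhds_iff_dense_on_irreducible_closed [NoetherianSpace X] (x : X) {E : Set X}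
    (hE : IsConstructible E) :
    E ∈ nhds x ↔
      ∀ Y : Set X, IsClosed Y → IsIrreducible Y → x ∈ Y → Dense (Subtype.val ⁻¹' E : Set Y) := by
  constructor
  · intro h Y hY hYirr hxY
    rw [dense_preimage_val_iff]
    obtain ⟨U, hUE, hU, hxU⟩ := mem_nhds_iff.mp h
    intro y hyY
    rw [mem_closure_iff]
    intro V hV hyV
    obtain ⟨z, hzY, hzV, hzU⟩ := hYirr.isPreirreducible V U hV hU ⟨y, hyY, hyV⟩ ⟨x, hxY, hxU⟩
    exact ⟨z, hzV, hUE hzU, hzY⟩
  · intro H
    refine mem_nhds_of_dense_on_irreducible_closed x hE fun Y hY hYirr hxY => ?_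
    rw [← dense_preimage_val_iff]
    exact H Y hY hYirr hxY

/-- S2399 -/
theorem isOpen_iff_forall_irreducible_closed [NoetherianSpace X] (E : Set X) :
    IsOpen E ↔
      ∀ Y : Set X, IsClosed Y → IsIrreducible Y → (E ∩ Y).Nonempty →
        ∃ U : Set X, IsOpen U ∧ (U ∩ Y).Nonempty ∧ U ∩ Y ⊆ E := by
  constructor
  · intro hE Y _ _ hne
    exact ⟨E, hE, hne, Set.inter_subset_left⟩
  · intro H
    have key : ∀ Z : Set X, IsClosed Z → IsClosed (Z \ E) := by
      apply closed_induction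
      · simp
      · intro Z₁ Z₂ _ _ h₁ h₂
        rw [Set.union_sdiff_distrib]
        exact h₁.union h₂
      · intro Z hZ hZirr ih
        by_cases hne : (E ∩ Z).Nonempty
        · obtain ⟨U, hU, hUne, hUE⟩ := H Z hZ hZirr hne
          have := ih (Z \ U) (hZ.sdiff hU) (by
            refine ⟨Set.sdiff_subset, fun h => ?_⟩
            obtain ⟨y, hyU, hyZ⟩ := hUne
            exact (h hyZ).2 hyU)
          have e : Z \ E = (Z \ U) \ E := by
            ext z
            constructor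
            · rintro ⟨hzZ, hzE⟩
              exact ⟨⟨hzZ, fun hzU => hzE (hUE ⟨hzU, hzZ⟩)⟩, hzE⟩
            · rintro ⟨⟨hzZ, -⟩, hzE⟩
              exact ⟨hzZ, hzE⟩
          rw [e]
          exact this
        · have e : Z \ E = Z := by
            ext z
            constructor
            · exact fun h => h.1
            · exact fun hz => ⟨hz, fun hzE => hne ⟨z, hzE, hz⟩⟩
          rw [e]
          exact hZ
    have := key Set.univ isClosed_univ
    rw [← Set.compl_eq_univ_sdiff] at this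
    exact isClosed_compl_iff.mp this

/-- S2400, reverse direction. -/
theorem constructible_function_of_locally_constant [NoetherianSpace X] {T : Type v} (h : X → T)
    (H : ∀ Y : Set X, IsClosed Y → IsIrreducible Y →
        ∃ U : Set X, IsOpen U ∧ (U ∩ Y).Nonempty ∧ ∀ a ∈ U ∩ Y, ∀ b ∈ U ∩ Y, h a = h b) :
    (∀ t, IsConstructible (h ⁻¹' {t})) ∧ (Set.range h).Finite := by
  have key : ∀ Z : Set X, IsClosed Z →
      ((h '' Z).Finite ∧ ∀ t, IsConstructible (h ⁻¹' {t} ∩ Z)) := by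
    apply closed_induction
    · simp
    · rintro Z₁ Z₂ - - ⟨hf₁, hc₁⟩ ⟨hf₂, hc₂⟩
      refine ⟨by rw [Set.image_union]; exact hf₁.union hf₂, fun t => ?_⟩
      rw [Set.inter_union_distrib_left]
      exact (hc₁ t).union (hc₂ t)
    · intro Z hZ hZirr ih
      obtain ⟨U, hU, ⟨y, hyU, hyZ⟩, hconst⟩ := H Z hZ hZirr
      obtain ⟨hf, hc⟩ := ih (Z \ U) (hZ.sdiff hU) (by
        refine ⟨Set.sdiff_subset, fun h => ?_⟩
        exact (h hyZ).2 hyU)
      constructor
      · refine (hf.union (Set.finite_singleton (h y))).subset ?_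
        rintro _ ⟨z, hzZ, rfl⟩
        by_cases hzU : z ∈ U
        · exact Or.inr (hconst z ⟨hzU, hzZ⟩ y ⟨hyU, hyZ⟩)
        · exact Or.inl ⟨z, ⟨hzZ, hzU⟩, rfl⟩
      · intro t
        by_cases ht : t = h y
        · have e : h ⁻¹' {t} ∩ Z = (h ⁻¹' {t} ∩ (Z \ U)) ∪ (U ∩ Z) := by
            ext z
            constructor
            · rintro ⟨hzt, hzZ⟩
              by_cases hzU : z ∈ U
              · exact Or.inr ⟨hzU, hzZ⟩
              · exact Or.inl ⟨hzt, hzZ, hzU⟩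
            · rintro (⟨hzt, hzZ, -⟩ | ⟨hzU, hzZ⟩)
              · exact ⟨hzt, hzZ⟩
              · exact ⟨by rw [ht]; exact hconst z ⟨hzU, hzZ⟩ y ⟨hyU, hyZ⟩, hzZ⟩
          rw [e]
          exact (hc t).union ((isConstructible_of_isOpen hU).inter (isConstructible_of_isClosed hZ))
        · have e : h ⁻¹' {t} ∩ Z = h ⁻¹' {t} ∩ (Z \ U) := by
            ext z
            constructor
            · rintro ⟨hzt, hzZ⟩
              refine ⟨hzt, hzZ, fun hzU => ht ?_⟩
              rw [← hzt]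
              exact hconst z ⟨hzU, hzZ⟩ y ⟨hyU, hyZ⟩
            · rintro ⟨hzt, hzZ, -⟩
              exact ⟨hzt, hzZ⟩
          rw [e]
          exact hc t
  obtain ⟨hf, hc⟩ := key Set.univ isClosed_univ
  refine ⟨fun t => by simpa using hc t, by simpa using hf⟩

/-- S2400, forward direction. -/
theorem locally_constant_of_constructible_function {T : Type v} (h : X → T)
    (hc : ∀ t, IsConstructible (h ⁻¹' {t})) (hf : (Set.range h).Finite)
    (Y : Set X) (hYirr : IsIrreducible Y) :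
    ∃ U : Set X, IsOpen U ∧ (U ∩ Y).Nonempty ∧ ∀ a ∈ U ∩ Y, ∀ b ∈ U ∩ Y, h a = h b := by
  classical
  have hsub : Y ⊆ ⋃₀ ((hf.toFinset.image fun t => closure (h ⁻¹' {t} ∩ Y) : Finset (Set X)) :
      Set (Set X)) := by
    intro y hy
    refine ⟨closure (h ⁻¹' {h y} ∩ Y), ?_, subset_closure ⟨rfl, hy⟩⟩
    simp only [Finset.coe_image, Set.mem_image, Finset.mem_coe, Set.Finite.mem_toFinset]
    exact ⟨h y, ⟨y, rfl⟩, rfl⟩
  obtain ⟨z, hz, hYz⟩ := (isIrreducible_iff_sUnion_isClosed.mp hYirr) _ (by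
    intro z hz
    simp only [Finset.mem_image] at hz
    obtain ⟨t, -, rfl⟩ := hz
    exact isClosed_closure) hsub
  simp only [Finset.mem_image] at hz
  obtain ⟨t, -, rfl⟩ := hz
  obtain ⟨U, hU, hne, hUE⟩ := exists_open_subset_of_dense (hc t) hYirr hYz
  exact ⟨U, hU, hne, fun a ha b hb => (hUE ha).trans (hUE hb).symm⟩

/-- In a quasi-sober space, a set containing the generic point of an irreducible closed set has
dense trace on it. -/
theorem exists_mem_subset_closure_of_quasiSober [QuasiSober X] {Y : Set X} (hY : IsClosed Y)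
    (hYirr : IsIrreducible Y) : ∃ y ∈ Y, (∀ x ∈ Y, y ⤳ x) ∧
      ∀ E : Set X, y ∈ E → Y ⊆ closure (E ∩ Y) := by
  obtain ⟨y, hy⟩ := QuasiSober.sober hYirr hY
  have hyY : y ∈ Y := hy.mem
  refine ⟨y, hyY, fun x hx => ?_, fun E hyE => ?_⟩
  · rw [specializes_iff_mem_closure, hy.def]
    exact hx
  · have h1 : Y = closure {y} := hy.def.symm
    have h2 : closure {y} ⊆ closure (E ∩ Y) :=
      closure_mono (Set.singleton_subset_iff.mpr ⟨hyE, hyY⟩)
    exact h1.le.trans h2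

end Groth.Agent.Lib.Helper12
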