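import Mathlib
import Groth.Agent.Lib.Helper25.GFScheme
import Groth.Agent.Lib.Helper25.RedFiber

set_option autoImplicit false
universe u
open CategoryTheory CategoryTheory.Limits AlgebraicGeometry Opposite TopologicalSpace

namespace Groth.Agent.Lib.Helper12.H12NearGeneric

variable {X Y : Scheme.{u}} (f : X ⟶ Y)

theorem exists_open_generalizing [IrreducibleSpace Y] [LocallyOfFiniteType f] [QuasiCompact f] :
    ∃ V : Y.Opens, (V : Set Y).Nonempty ∧ ∀ x : X, f x ∈ V → ∀ y' : Y, y' ⤳ f x →
      ∃ x' : X, x' ⤳ x ∧ f x' = y' := by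
  set i := Y.nilradical.subschemeι with hi
  haveI : IsReduced Y.nilradical.subscheme :=
    Groth.Agent.Lib.Helper25.RedFiber.isReduced_nilradical_subscheme Y
  have hisurj : Function.Surjective i := by
    rw [← Set.range_eq_univ, hi, Scheme.IdealSheafData.range_subschemeι, Scheme.support_nilradical]
    rfl
  haveI : Surjective i := ⟨hisurj⟩
  set f' := pullback.snd f i with hf'
  set pr := pullback.fst f i with hpr
  have hprsurj : Function.Surjective pr := Scheme.Hom.surjective pr
  obtain ⟨U', hU'dense, hU'flat, -⟩ := Groth.Agent.Lib.Helper25.GFScheme.generic_flatness f'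
  have hclosed : IsClosed (i '' ((U' : Set Y.nilradical.subscheme)ᶜ)) :=
    i.isClosedEmbedding.isClosedMap _ U'.isOpen.isClosed_compl
  let V : Y.Opens := ⟨(i '' ((U' : Set Y.nilradical.subscheme)ᶜ))ᶜ, hclosed.isOpen_compl⟩
  have hV : ∀ y0 : Y.nilradical.subscheme, i y0 ∈ V ↔ y0 ∈ U' := by
    intro y0
    constructor
    · intro h
      by_contra hn
      exact h ⟨y0, hn, rfl⟩
    · rintro h ⟨y1, hy1, he⟩
      have := i.isClosedEmbedding.injective he
      rw [this] at hy1
      exact hy1 h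
  refine ⟨V, ?_, ?_⟩
  · obtain ⟨y⟩ : Nonempty Y := inferInstance
    obtain ⟨y0, rfl⟩ := hisurj y
    haveI : Nonempty Y.nilradical.subscheme := ⟨y0⟩
    obtain ⟨y1, hy1⟩ := hU'dense.nonempty
    exact ⟨i y1, (hV y1).mpr hy1⟩
  · intro x hx y' hy'
    obtain ⟨x'', rfl⟩ := hprsurj x
    have hcond : f (pr x'') = i (f' x'') := by
      rw [← Scheme.Hom.comp_apply, ← Scheme.Hom.comp_apply, pullback.condition]
    rw [hcond] at hx hy'
    obtain ⟨y0', rfl⟩ := hisurj y'
    have hy0 : f' x'' ∈ U' := (hV _).mp hx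
    have hspec : y0' ⤳ f' x'' := i.isClosedEmbedding.isInducing.specializes_iff.mp hy'
    have hy0' : y0' ∈ U' := hspec.mem_open U'.isOpen hy0
    have hgen := Flat.generalizingMap (f' ∣_ U')
    let a : ↑(f' ⁻¹ᵁ U') := ⟨x'', hy0⟩
    let b : ↑U' := ⟨y0', hy0'⟩
    have hba : b ⤳ (f' ∣_ U') a := by
      apply (subtype_specializes_iff (p := fun z => z ∈ U') b ((f' ∣_ U') a)).mpr
      change y0' ⤳ ((f' ∣_ U') a).1
      rw [morphismRestrict_base_coe]
      exact hspec
    obtain ⟨a', ha', hfa'⟩ := hgen hba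
    refine ⟨pr a'.1, ?_, ?_⟩
    · exact (ha'.map continuous_subtype_val).map pr.continuous
    · have : f (pr a'.1) = i (f' a'.1) := by
        rw [← Scheme.Hom.comp_apply, ← Scheme.Hom.comp_apply, pullback.condition]
      rw [this]
      congr 1
      have := congrArg Subtype.val hfa'
      rw [morphismRestrict_base_coe] at this
      exact this

theorem exists_open_subset_range [IrreducibleSpace Y] [LocallyOfFiniteType f] [QuasiCompact f]
    (hη : genericPoint Y ∈ Set.range f) :
    ∃ V : Y.Opens, genericPoint Y ∈ V ∧ (V : Set Y) ⊆ Set.range f := by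
  set i := Y.nilradical.subschemeι with hi
  haveI : IsReduced Y.nilradical.subscheme :=
    Groth.Agent.Lib.Helper25.RedFiber.isReduced_nilradical_subscheme Y
  have hisurj : Function.Surjective i := by
    rw [← Set.range_eq_univ, hi, Scheme.IdealSheafData.range_subschemeι, Scheme.support_nilradical]
    rfl
  haveI : Surjective i := ⟨hisurj⟩
  set f' := pullback.snd f i with hf'
  set pr := pullback.fst f i with hpr
  have hprsurj : Function.Surjective pr := Scheme.Hom.surjective pr
  obtain ⟨U', hU'dense, hU'flat, hU'fp⟩ := Groth.Agent.Lib.Helper25.GFScheme.generic_flatness f'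
  have hopen : IsOpenMap (f' ∣_ U') := (f' ∣_ U').isOpenMap
  have hcond : ∀ x'' , f (pr x'') = i (f' x'') := by
    intro x''
    rw [← Scheme.Hom.comp_apply, ← Scheme.Hom.comp_apply, pullback.condition]
  let O : Set Y.nilradical.subscheme := Subtype.val '' Set.range (f' ∣_ U')
  have hO : IsOpen O := U'.isOpen.isOpenMap_subtype_val _ hopen.isOpen_range
  have hclosed : IsClosed (i '' Oᶜ) :=
    i.isClosedEmbedding.isClosedMap _ hO.isClosed_compl
  let V : Y.Opens := ⟨(i '' Oᶜ)ᶜ, hclosed.isOpen_compl⟩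
  have hV : ∀ y0 : Y.nilradical.subscheme, i y0 ∈ V ↔ y0 ∈ O := by
    intro y0
    constructor
    · intro h
      by_contra hn
      exact h ⟨y0, hn, rfl⟩
    · rintro h ⟨y1, hy1, he⟩
      have := i.isClosedEmbedding.injective he
      rw [this] at hy1
      exact hy1 h
  refine ⟨V, ?_, ?_⟩
  · obtain ⟨x, hx⟩ := hη
    obtain ⟨x'', rfl⟩ := hprsurj x
    rw [hcond] at hx
    rw [← hx, hV]
    have hgen : ∀ z, f' x'' ⤳ z := by
      intro z
      apply i.isClosedEmbedding.isInducing.specializes_iff.mp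
      rw [hx]
      exact genericPoint_specializes _
    haveI : Nonempty Y.nilradical.subscheme := ⟨f' x''⟩
    obtain ⟨y1, hy1⟩ := hU'dense.nonempty
    have hmem : f' x'' ∈ U' := (hgen y1).mem_open U'.isOpen hy1
    refine ⟨(f' ∣_ U') ⟨x'', hmem⟩, ⟨_, rfl⟩, ?_⟩
    rw [morphismRestrict_base_coe]
  · intro y hy
    obtain ⟨y0, rfl⟩ := hisurj y
    obtain ⟨_, ⟨a, rfl⟩, ha⟩ := (hV y0).mp hy
    rw [morphismRestrict_base_coe] at ha
    refine ⟨pr a.1, ?_⟩
    rw [hcond, ha]

theorem exists_open_disjoint_of_closed [IrreducibleSpace Y] [LocallyOfFiniteType f]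
    [QuasiCompact f] (W : Set X) (hW : IsClosed W) (hη : ∀ x ∈ W, f x ≠ genericPoint Y) :
    ∃ V : Y.Opens, (V : Set Y).Nonempty ∧ ∀ x ∈ W, f x ∉ V := by
  set I := Scheme.IdealSheafData.vanishingIdeal ⟨W, hW⟩ with hI
  have hrange : Set.range I.subschemeι = W := by
    rw [Scheme.IdealSheafData.range_subschemeι, Scheme.IdealSheafData.coe_support_vanishingIdeal]
    rfl
  obtain ⟨V, hVne, hV⟩ := exists_open_generalizing (I.subschemeι ≫ f)
  refine ⟨V, hVne, ?_⟩
  intro x hx hfx
  rw [← hrange] at hx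
  obtain ⟨z, rfl⟩ := hx
  have h1 : (I.subschemeι ≫ f) z ∈ V := hfx
  obtain ⟨z', -, hz'⟩ := hV z h1 (genericPoint Y) (genericPoint_specializes _)
  refine hη (I.subschemeι z') ?_ hz'
  rw [← hrange]
  exact ⟨z', rfl⟩

theorem exists_open_subset_image_of_closed [IrreducibleSpace Y] [LocallyOfFiniteType f]
    [QuasiCompact f] (W : Set X) (hW : IsClosed W) (hη : ∃ x ∈ W, f x = genericPoint Y) :
    ∃ V : Y.Opens, genericPoint Y ∈ V ∧ (V : Set Y) ⊆ f '' W := by
  set I := Scheme.IdealSheafData.vanishingIdeal ⟨W, hW⟩ with hI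
  have hrange : Set.range I.subschemeι = W := by
    rw [Scheme.IdealSheafData.range_subschemeι, Scheme.IdealSheafData.coe_support_vanishingIdeal]
    rfl
  obtain ⟨V, hVη, hV⟩ := exists_open_subset_range (I.subschemeι ≫ f) (by
    obtain ⟨x, hx, hfx⟩ := hη
    rw [← hrange] at hx
    obtain ⟨z, rfl⟩ := hx
    exact ⟨z, hfx⟩)
  refine ⟨V, hVη, ?_⟩
  intro y hy
  obtain ⟨z, hz⟩ := hV hy
  refine ⟨I.subschemeι z, ?_, hz⟩
  rw [← hrange]
  exact ⟨z, rfl⟩


theorem apply_fiberι' (y : Y) (t : f.fiber y) : f (f.fiberι y t) = y := by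
  have : f.fiberι y t ∈ Set.range (f.fiberι y) := ⟨t, rfl⟩
  rw [f.range_fiberι] at this
  exact this

theorem card_connectedComponents_le [IrreducibleSpace Y] [LocallyOfFiniteType f] [QuasiCompact f]
    (n : ℕ)
    (h : ENat.card (_root_.ConnectedComponents ↑(f.fiber (genericPoint ↑Y))) = n) :
    ∃ V : Y.Opens, (V : Set ↑Y).Nonempty ∧
      ∀ y ∈ V, (n : ℕ∞) ≤ ENat.card (_root_.ConnectedComponents ↑(f.fiber y)) := by
  classical
  set η := genericPoint ↑Y with hηdef
  set K := _root_.ConnectedComponents ↑(f.fiber η) with hK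
  haveI hfin : Finite K := by
    rw [← ENat.card_lt_top, h]
    exact ENat.natCast_lt_top n
  set ι := f.fiberι η with hι
  have hιemb : Topology.IsEmbedding ι := (f.fiberι η).isEmbedding
  let C : K → Set ↑(f.fiber η) := fun c => ConnectedComponents.mk ⁻¹' {c}
  have hCclosed : ∀ c, IsClosed (C c) := by
    intro c
    obtain ⟨t, rfl⟩ := ConnectedComponents.surjective_coe c
    change IsClosed (ConnectedComponents.mk ⁻¹' {ConnectedComponents.mk t})
    rw [connectedComponents_preimage_singleton]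
    exact isClosed_connectedComponent
  let T : K → Set X := fun c => closure (ι '' C c)
  have hTclosed : ∀ c, IsClosed (T c) := fun c => isClosed_closure
  have hTι : ∀ c t, ι t ∈ T c ↔ t ∈ C c := by
    intro c t
    have := hιemb.isInducing.closure_eq_preimage_closure_image (C c)
    rw [(hCclosed c).closure_eq] at this
    constructor
    · intro hh
      rw [this]
      exact hh
    · intro hh
      rw [this] at hh
      exact hh
  have hopenη : ∀ V : Y.Opens, (V : Set Y).Nonempty → η ∈ V := by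
    intro V hV
    exact ((genericPoint_spec Y).mem_open_set_iff V.isOpen).mpr (by simpa using hV)
  obtain ⟨V0, hV0ne, hV0⟩ := exists_open_generalizing f
  have hV0η : η ∈ V0 := hopenη V0 hV0ne
  have hb : ∀ p : K × K, ∃ V : Y.Opens, η ∈ V ∧
      (p.1 ≠ p.2 → ∀ x ∈ T p.1 ∩ T p.2, f x ∉ V) := by
    intro p
    by_cases hp : p.1 = p.2
    · exact ⟨⊤, trivial, fun h => absurd hp h⟩
    · obtain ⟨V, hVne, hV⟩ := exists_open_disjoint_of_closed f (T p.1 ∩ T p.2)
        ((hTclosed _).inter (hTclosed _)) (by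
          intro x hx hfx
          obtain ⟨t, rfl⟩ : x ∈ Set.range ι := by
            rw [f.range_fiberι]; exact hfx
          have h1 : ConnectedComponents.mk t = p.1 := (hTι _ t).mp hx.1
          have h2 : ConnectedComponents.mk t = p.2 := (hTι _ t).mp hx.2
          exact hp (h1.symm.trans h2))
      exact ⟨V, hopenη V hVne, fun _ => hV⟩
  choose Vb hVbη hVb using hb
  have hc : ∀ c : K, ∃ V : Y.Opens, η ∈ V ∧ (V : Set Y) ⊆ f '' T c := by
    intro c
    obtain ⟨t, rfl⟩ := ConnectedComponents.surjective_coe c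
    apply exists_open_subset_image_of_closed f (T _) (hTclosed _)
    exact ⟨ι t, (hTι _ t).mpr rfl, apply_fiberι' f η t⟩
  choose Vc hVcη hVc using hc
  let V : Y.Opens := ⟨((V0 : Set Y) ∩ (⋂ p, (Vb p : Set Y))) ∩ (⋂ c, (Vc c : Set Y)),
    ((V0.isOpen).inter (isOpen_iInter_of_finite fun p => (Vb p).isOpen)).inter
      (isOpen_iInter_of_finite fun c => (Vc c).isOpen)⟩
  refine ⟨V, ⟨η, ⟨⟨hV0η, Set.mem_iInter.mpr hVbη⟩, Set.mem_iInter.mpr hVcη⟩⟩, ?_⟩
  rintro y ⟨⟨hy0, hyb⟩, hyc⟩
  rw [Set.mem_iInter] at hyb hyc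
  set ιy := f.fiberι y with hιy
  have hfy : ∀ t, f (ιy t) = y := apply_fiberι' f y
  let A : K → Set (f.fiber y) := fun c => ιy ⁻¹' T c
  have hAclosed : ∀ c, IsClosed (A c) := fun c => (hTclosed c).preimage ιy.continuous
  have hAcover : ∀ t, ∃ c, t ∈ A c := by
    intro t
    obtain ⟨x', hx', hfx'⟩ := hV0 (ιy t) (by rw [hfy]; exact hy0) η (genericPoint_specializes _)
    obtain ⟨t', rfl⟩ : x' ∈ Set.range ι := by
      rw [f.range_fiberι]; exact hfx'
    refine ⟨ConnectedComponents.mk t', ?_⟩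
    change ιy t ∈ T _
    exact hx'.mem_closed (hTclosed _) ((hTι _ t').mpr rfl)
  have hAdisj : ∀ c c' t, t ∈ A c → t ∈ A c' → c = c' := by
    intro c c' t h1 h2
    by_contra hne
    exact hVb (c, c') hne (ιy t) ⟨h1, h2⟩ (by rw [hfy]; exact hyb (c, c'))
  have hAne : ∀ c, ∃ t, t ∈ A c := by
    intro c
    obtain ⟨x, hxT, hfx⟩ := hVc c (hyc c)
    obtain ⟨t, rfl⟩ : x ∈ Set.range ιy := by
      rw [f.range_fiberι]; exact hfx
    exact ⟨t, hxT⟩
  choose φ hφ using hAcover
  have hφeq : ∀ t c, φ t = c ↔ t ∈ A c :=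
    fun t c => ⟨fun h => h ▸ hφ t, fun h => hAdisj _ _ t (hφ t) h⟩
  have hnat : Nat.card K = n := by
    have := ENat.card_eq_coe_natCard K
    rw [h] at this
    exact_mod_cast this.symm
  let e : K ≃ Fin n := Finite.equivFinOfCardEq hnat
  let φ' : f.fiber y → Fin n := fun t => e (φ t)
  have hφ'cont : Continuous φ' := by
    rw [continuous_discrete_rng]
    intro b
    have : φ' ⁻¹' {b} = (⋃ c ∈ {c : K | c ≠ e.symm b}, A c)ᶜ := by
      ext t
      simp only [Set.mem_preimage, Set.mem_singleton_iff, Set.mem_compl_iff, Set.mem_iUnion,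
        Set.mem_ofPred_eq, exists_prop, not_exists, not_and, φ']
      constructor
      · intro ht c hc htc
        apply hc
        rw [← (hφeq t c).mpr htc, ← ht, Equiv.symm_apply_apply]
      · intro ht
        by_contra hne
        apply ht (φ t) _ (hφ t)
        intro h1
        apply hne
        rw [h1, Equiv.apply_symm_apply]
    rw [this]
    exact (Set.Finite.isClosed_biUnion (Set.toFinite _) fun c _ => hAclosed c).isOpen_compl
  have hψsurj : Function.Surjective hφ'cont.connectedComponentsLift := by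
    intro b
    obtain ⟨t, ht⟩ := hAne (e.symm b)
    refine ⟨ConnectedComponents.mk t, ?_⟩
    rw [Continuous.connectedComponentsLift_apply_coe]
    change e (φ t) = b
    rw [(hφeq t _).mpr ht, Equiv.apply_symm_apply]
  calc (n : ℕ∞) = ENat.card (Fin n) := by simp
    _ ≤ ENat.card (_root_.ConnectedComponents (f.fiber y)) :=
      ENat.card_le_card_of_injective (Function.injective_surjInv hψsurj)


end Groth.Agent.Lib.Helper12.H12NearGeneric
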