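import Mathlib
import Groth.Agent.Lib.Helper18.FibSemi
import Groth.Agent.Lib.Helper12.NearGeneric

set_option autoImplicit false
universe u
open AlgebraicGeometry CategoryTheory TopologicalSpace

namespace Groth.Agent.Lib.Helper12.H12FibDimGen

open Groth.Agent.Lib.Helper18.FibSemi Groth.Agent.Lib.Helper12.H12NearGeneric

variable {X Y : Scheme.{u}} (f : X ⟶ Y)

/-- the fibre dimension is at least the local fibre dimension at any point of the fibre -/
theorem fibreDimAt_le_topologicalKrullDim_fiber (x : X) :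
    FlatMor.fibreDimAt f x ≤ topologicalKrullDim ↥(f.fiber (f x)) := by
  rw [Groth.Agent.Lib.Helper18.TopDim.topologicalKrullDim_eq_iSup_localDim]
  exact le_iSup (fun t => FlatMor.localDim (f.fiber (f x)) t) (f.asFiber x)

theorem main [IrreducibleSpace ↑Y] [LocallyOfFiniteType f] [QuasiCompact f] (n : ℕ)
    (h : topologicalKrullDim ↑(f.fiber (genericPoint ↑Y)) = n) :
    ∃ V : Y.Opens, (V : Set ↑Y).Nonempty ∧ ∀ y ∈ V, topologicalKrullDim ↑(f.fiber y) = n := by
  -- upper bound
  have hW1 : IsClosed {x : X | ((n + 1 : ℕ) : WithBot ℕ∞) ≤ FlatMor.fibreDimAt f x} :=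
    isClosed_setOf_le_fibreDimAt f (n + 1)
  obtain ⟨V₁, hV₁ne, hV₁⟩ := exists_open_disjoint_of_closed f _ hW1 (by
    intro x hx hfx
    have h1 := fibreDimAt_le_topologicalKrullDim_fiber f x
    rw [hfx, h] at h1
    have h2 : ((n + 1 : ℕ) : WithBot ℕ∞) ≤ (n : WithBot ℕ∞) := le_trans hx h1
    have h3 : n + 1 ≤ n := by exact_mod_cast h2
    omega)
  -- lower bound
  have hW2 : IsClosed {x : X | (n : WithBot ℕ∞) ≤ FlatMor.fibreDimAt f x} :=
    isClosed_setOf_le_fibreDimAt f n
  have hex : ∃ x ∈ {x : X | (n : WithBot ℕ∞) ≤ FlatMor.fibreDimAt f x},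
      f x = genericPoint ↑Y := by
    rcases Nat.eq_zero_or_pos n with rfl | hn
    · have hne : Nonempty ↑(f.fiber (genericPoint ↑Y)) := by
        by_contra hcon
        rw [not_nonempty_iff] at hcon
        haveI : IsEmpty (IrreducibleCloseds ↑(f.fiber (genericPoint ↑Y))) :=
          ⟨fun Z => hcon.elim Z.isIrreducible.nonempty.some⟩
        unfold topologicalKrullDim at h
        rw [Order.krullDim_eq_bot] at h
        exact WithBot.bot_ne_coe h
      obtain ⟨t⟩ := hne
      refine ⟨f.fiberι _ t, ?_, apply_fiberι' f _ t⟩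
      change ((0 : ℕ) : WithBot ℕ∞) ≤ _
      rw [Nat.cast_zero]
      exact Groth.Agent.Lib.Helper18.TopDim.zero_le_localDim _
    · have := (le_topologicalKrullDim_fiber_iff f (genericPoint ↑Y) n hn.ne').mp (le_of_eq h.symm)
      obtain ⟨x, hx, hnx⟩ := this
      exact ⟨x, hnx, hx⟩
  obtain ⟨V₂, hηV₂, hV₂⟩ := exists_open_subset_image_of_closed f _ hW2 hex
  refine ⟨V₁ ⊓ V₂, ?_, ?_⟩
  · obtain ⟨y, hy⟩ := hV₁ne
    refine ⟨genericPoint ↑Y, ?_, hηV₂⟩
    exact (genericPoint_specializes y).mem_open V₁.isOpen hy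
  · intro y hy
    apply le_antisymm
    · by_contra hcon
      rw [not_le] at hcon
      have h1 : ((n + 1 : ℕ) : WithBot ℕ∞) ≤ topologicalKrullDim ↑(f.fiber y) := by
        generalize topologicalKrullDim ↑(f.fiber y) = d at hcon ⊢
        induction d using WithBot.recBotCoe with
        | bot => exact absurd hcon (not_lt_bot)
        | coe d =>
          induction d using ENat.recTopCoe with
          | top => exact le_top
          | coe d =>
            have : n < d := by exact_mod_cast hcon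
            exact_mod_cast Nat.succ_le_of_lt this
      obtain ⟨x, hxy, hx⟩ := (le_topologicalKrullDim_fiber_iff f y (n + 1) (Nat.succ_ne_zero n)).mp h1
      exact hV₁ x hx (hxy ▸ hy.1)
    · obtain ⟨x, hx, rfl⟩ := hV₂ hy.2
      exact le_trans hx (fibreDimAt_le_topologicalKrullDim_fiber f x)

end Groth.Agent.Lib.Helper12.H12FibDimGen
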