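import Groth.Agent.Lib.Helper12.Codim

/-!
# Catenary posets and order embeddings with order-connected range; subspaces
-/

universe u v

namespace Groth.Agent.Lib.Helper12.Codim

section Abstract

variable {P : Type*} {Q : Type*} [PartialOrder P] [PartialOrder Q]

/-- lifting a chain along an order embedding -/
lemma exists_lift (e : Q ↪o P) (s : LTSeries P) (h : ∀ i, s i ∈ Set.range e) :
    ∃ t : LTSeries Q, t.map e e.strictMono = s := by
  choose f hf using h
  refine ⟨LTSeries.mk s.length f ?_, ?_⟩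
  · intro i j hij
    rw [← e.lt_iff_lt, hf, hf]
    exact s.strictMono hij
  · apply RelSeries.ext (by rfl)
    funext i
    exact hf i

lemma mem_range_of_chain (e : Q ↪o P) (hr : (Set.range e).OrdConnected) {a b : Q}
    (s : LTSeries P) (h1 : s.head = e a) (h2 : s.last ≤ e b) (i : Fin (s.length + 1)) :
    s i ∈ Set.range e :=
  hr.out ⟨a, rfl⟩ ⟨b, rfl⟩ ⟨h1 ▸ s.head_le i, (s.monotone (Fin.le_last i)).trans h2⟩

lemma cd_map (e : Q ↪o P) (hr : (Set.range e).OrdConnected) (a b : Q) :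
    cd (e a) (e b) = cd a b := by
  apply le_antisymm
  · rw [cd_le_iff]
    intro s h1 h2
    obtain ⟨t, rfl⟩ := exists_lift e s (mem_range_of_chain e hr s h1 h2)
    rw [LTSeries.head_map] at h1
    rw [LTSeries.last_map] at h2
    rw [LTSeries.map_length]
    exact le_cd t (e.injective h1) (e.le_iff_le.1 h2)
  · rw [cd_le_iff]
    intro t h1 h2
    have := le_cd (a := e a) (b := e b) (t.map e e.strictMono)
      (by rw [LTSeries.head_map, h1]) (by rw [LTSeries.last_map]; exact e.monotone h2)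
    rwa [LTSeries.map_length] at this

theorem isCat_of_embedding (e : Q ↪o P) (hr : (Set.range e).OrdConnected) (hP : IsCat P) :
    IsCat Q := by
  intro a b hab
  obtain ⟨h1, h2⟩ := hP (e a) (e b) (e.monotone hab)
  rw [cd_map e hr] at h1 h2
  refine ⟨h1, fun s hs1 hs2 hsat => ?_⟩
  have := h2 (s.map e e.strictMono) (by rw [LTSeries.head_map, hs1])
    (by rw [LTSeries.last_map, hs2]) (fun i => (hsat i).image e hr)
  rwa [LTSeries.map_length] at this

theorem isCat_of_local
    (h : ∀ a b : P, a ≤ b → ∃ (Q : Type v) (_ : PartialOrder Q) (e : Q ↪o P),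
      (Set.range e).OrdConnected ∧ IsCat Q ∧ a ∈ Set.range e ∧ b ∈ Set.range e) : IsCat P := by
  intro a b hab
  obtain ⟨Q, _, e, hr, hQ, ⟨a', rfl⟩, ⟨b', rfl⟩⟩ := h a b hab
  have hab' : a' ≤ b' := e.le_iff_le.1 hab
  obtain ⟨h1, h2⟩ := hQ a' b' hab'
  rw [cd_map e hr]
  refine ⟨h1, fun s hs1 hs2 hsat => ?_⟩
  obtain ⟨t, rfl⟩ := exists_lift e s (mem_range_of_chain e hr s hs1 hs2.le)
  rw [LTSeries.head_map] at hs1
  rw [LTSeries.last_map] at hs2
  have := h2 t (e.injective hs1) (e.injective hs2) (fun i => CovBy.of_image e (hsat i))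
  rwa [LTSeries.map_length]

end Abstract

section Top

open TopologicalSpace

variable {X : Type u} [TopologicalSpace X]

/-- the order embedding of irreducible closed subsets of a subspace (closure in the big space) -/
noncomputable def subEmb (S : Set X) : IrreducibleCloseds S ↪o IrreducibleCloseds X :=
  OrderEmbedding.ofMapLEIff
    (IrreducibleCloseds.map (Subtype.val : S → X) continuous_subtype_val) (by
    intro T T'
    refine ⟨fun h => ?_, fun h => IrreducibleCloseds.map_mono continuous_subtype_val h⟩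
    have h' : closure (Subtype.val '' (T : Set S)) ⊆ closure (Subtype.val '' (T' : Set S)) := h
    have e1 := Topology.IsInducing.subtypeVal.closure_eq_preimage_closure_image (T : Set S)
    have e2 := Topology.IsInducing.subtypeVal.closure_eq_preimage_closure_image (T' : Set S)
    rw [T.isClosed.closure_eq] at e1
    rw [T'.isClosed.closure_eq] at e2
    change (T : Set S) ⊆ (T' : Set S)
    rw [e1, e2]
    exact Set.preimage_mono h')

lemma coe_subEmb (S : Set X) (T : IrreducibleCloseds S) :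
    ((subEmb S T : IrreducibleCloseds X) : Set X) = closure (Subtype.val '' (T : Set S)) := rfl

lemma mem_range_subEmb {S O C : Set X} (hO : IsOpen O) (hC : IsClosed C) (hS : S = O ∩ C)
    (W : IrreducibleCloseds X) (hWC : (W : Set X) ⊆ C) (hWO : ((W : Set X) ∩ O).Nonempty) :
    W ∈ Set.range (subEmb S) := by
  subst hS
  have hne : ((Subtype.val : ↥(O ∩ C) → X) ⁻¹' (W : Set X)).Nonempty := by
    obtain ⟨w, hwW, hwO⟩ := hWO
    exact ⟨⟨w, hwO, hWC hwW⟩, hwW⟩
  have hpre : IsPreirreducible ((Subtype.val : ↥(O ∩ C) → X) ⁻¹' (W : Set X)) := by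
    rintro u v hu hv ⟨p, hpW, hpu⟩ ⟨q, hqW, hqv⟩
    obtain ⟨u', hu', rfl⟩ := isOpen_induced_iff.1 hu
    obtain ⟨v', hv', rfl⟩ := isOpen_induced_iff.1 hv
    obtain ⟨r, hrW, hr1, hr2⟩ := W.isIrreducible.2 (u' ∩ O) (v' ∩ O) (hu'.inter hO) (hv'.inter hO)
      ⟨p, hpW, hpu, p.2.1⟩ ⟨q, hqW, hqv, q.2.1⟩
    exact ⟨⟨r, hr1.2, hWC hrW⟩, hrW, hr1.1, hr2.1⟩
  refine ⟨⟨_, ⟨hne, hpre⟩, W.isClosed.preimage continuous_subtype_val⟩, ?_⟩
  apply IrreducibleCloseds.ext
  rw [coe_subEmb]
  change closure (Subtype.val '' ((Subtype.val : ↥(O ∩ C) → X) ⁻¹' (W : Set X))) = (W : Set X)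
  apply Set.Subset.antisymm
  · apply closure_minimal _ W.isClosed
    rintro _ ⟨p, hp, rfl⟩
    exact hp
  · refine (subset_closure_inter_of_isPreirreducible_of_isOpen W.isIrreducible.2 hO hWO).trans ?_
    apply closure_mono
    rintro w ⟨hwW, hwO⟩
    exact ⟨⟨w, hwO, hWC hwW⟩, hwW, rfl⟩

lemma ordConnected_range_subEmb {S : Set X} (hS : IsLocallyClosed S) :
    (Set.range (subEmb S)).OrdConnected := by
  obtain ⟨O, C, hO, hC, rfl⟩ := hS
  refine ⟨?_⟩
  rintro _ ⟨T, rfl⟩ _ ⟨T', rfl⟩ W ⟨h1, h2⟩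
  apply mem_range_subEmb hO hC rfl W
  · have h2' : (W : Set X) ⊆ closure (Subtype.val '' (T' : Set ↥(O ∩ C))) := h2
    refine h2'.trans (closure_minimal ?_ hC)
    rintro _ ⟨p, _, rfl⟩
    exact p.2.2
  · obtain ⟨t, ht⟩ := T.isIrreducible.nonempty
    have h1' : closure (Subtype.val '' (T : Set ↥(O ∩ C))) ⊆ (W : Set X) := h1
    exact ⟨t, h1' (subset_closure ⟨t, ht, rfl⟩), t.2.1⟩

theorem isCatenarySpace_of_isLocallyClosed (h : PtTop.IsCatenarySpace X) {S : Set X}
    (hS : IsLocallyClosed S) : PtTop.IsCatenarySpace S :=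
  isCat_of_embedding (subEmb S) (ordConnected_range_subEmb hS) h

theorem isCatenarySpace_of_local
    (h : ∀ x : X, ∃ U : Opens X, x ∈ U ∧ PtTop.IsCatenarySpace U) : PtTop.IsCatenarySpace X := by
  apply isCat_of_local.{_, u}
  intro a b hab
  obtain ⟨x, hx⟩ := a.isIrreducible.nonempty
  obtain ⟨U, hxU, hU⟩ := h x
  refine ⟨IrreducibleCloseds (U : Set X), inferInstance, subEmb (U : Set X),
    ordConnected_range_subEmb U.2.isLocallyClosed, hU, ?_, ?_⟩
  · exact mem_range_subEmb U.2 isClosed_univ (Set.inter_univ _).symm a (Set.subset_univ _)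
      ⟨x, hx, hxU⟩
  · exact mem_range_subEmb U.2 isClosed_univ (Set.inter_univ _).symm b (Set.subset_univ _)
      ⟨x, hab hx, hxU⟩

end Top

end Groth.Agent.Lib.Helper12.Codim
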