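import Groth.Agent.Lib.Helper12.CatRing

/-!
# Catenary spaces and generization embeddings (stalks)
-/

universe u

namespace Groth.Agent.Lib.Helper12.Codim

open TopologicalSpace

section Gen

variable {X : Type u} {Y : Type u} [TopologicalSpace X] [TopologicalSpace Y]

/-- the order embedding on irreducible closed subsets induced by an inducing map -/
noncomputable def mapEmb (f : Y → X) (hf : Topology.IsInducing f) :
    IrreducibleCloseds Y ↪o IrreducibleCloseds X :=
  OrderEmbedding.ofMapLEIff (IrreducibleCloseds.map f hf.continuous) (by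
    intro T T'
    refine ⟨fun h => ?_, fun h => IrreducibleCloseds.map_mono hf.continuous h⟩
    have h' : closure (f '' (T : Set Y)) ⊆ closure (f '' (T' : Set Y)) := h
    have e1 := hf.closure_eq_preimage_closure_image (T : Set Y)
    have e2 := hf.closure_eq_preimage_closure_image (T' : Set Y)
    rw [T.isClosed.closure_eq] at e1
    rw [T'.isClosed.closure_eq] at e2
    change (T : Set Y) ⊆ (T' : Set Y)
    rw [e1, e2]
    exact Set.preimage_mono h')

lemma coe_mapEmb (f : Y → X) (hf : Topology.IsInducing f) (T : IrreducibleCloseds Y) :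
    ((mapEmb f hf T : IrreducibleCloseds X) : Set X) = closure (f '' (T : Set Y)) := rfl

lemma range_mapEmb_of_generizations [QuasiSober X] (f : Y → X) (hf : Topology.IsInducing f) (x : X)
    (hr : Set.range f = {y | y ⤳ x}) :
    Set.range (mapEmb f hf) = {Z : IrreducibleCloseds X | x ∈ Z} := by
  apply Set.Subset.antisymm
  · rintro _ ⟨T, rfl⟩
    obtain ⟨t, ht⟩ := T.isIrreducible.nonempty
    have h1 : f t ⤳ x := by
      have : f t ∈ Set.range f := ⟨t, rfl⟩
      rw [hr] at this
      exact this
    change x ∈ closure (f '' (T : Set Y))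
    have h2 : ({f t} : Set X) ⊆ f '' (T : Set Y) := Set.singleton_subset_iff.2 ⟨t, ht, rfl⟩
    exact closure_mono h2 (specializes_iff_mem_closure.1 h1)
  · intro Z hxZ
    have hη : IsGenericPoint Z.isIrreducible.genericPoint (Z : Set X) :=
      Z.isIrreducible.isGenericPoint_genericPoint Z.isClosed
    have h1 : Z.isIrreducible.genericPoint ⤳ x := hη.specializes hxZ
    have h2 : Z.isIrreducible.genericPoint ∈ Set.range f := by
      rw [hr]
      exact h1
    obtain ⟨η', hη'⟩ := h2
    refine ⟨⟨closure {η'}, isIrreducible_singleton.closure, isClosed_closure⟩, ?_⟩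
    apply IrreducibleCloseds.ext
    rw [coe_mapEmb]
    change closure (f '' closure {η'}) = (Z : Set X)
    rw [closure_image_closure hf.continuous, Set.image_singleton, hη']
    exact hη.def

lemma ordConnected_mem (x : X) : ({Z : IrreducibleCloseds X | x ∈ Z}).OrdConnected := by
  refine ⟨?_⟩
  intro a ha b _ c hc
  exact hc.1 ha

end Gen

end Groth.Agent.Lib.Helper12.Codim
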