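import Groth.Agent.Lib.Helper12.CatStalk
import Groth.Agent.S12446

/-!
# Universally catenary: rings versus schemes
-/

universe u

namespace Groth.Agent.Lib.Helper12.Codim

section Abstract

variable {P : Type*} {Q : Type*} {Q₁ : Type*} {Q₂ : Type*}
  [PartialOrder P] [PartialOrder Q] [PartialOrder Q₁] [PartialOrder Q₂]

theorem catForm_of_embedding (e : Q ↪o P) (hr : (Set.range e).OrdConnected) (h : CatForm P) :
    CatForm Q :=
  isCat_iff_catForm.1 (isCat_of_embedding e hr (isCat_iff_catForm.2 h))

theorem catForm_of_range_subset (e₁ : Q₁ ↪o P) (e₂ : Q₂ ↪o P)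
    (hsub : Set.range e₁ ⊆ Set.range e₂) (hconn : (Set.range e₁).OrdConnected)
    (h : CatForm Q₂) : CatForm Q₁ := by
  have hex : ∀ a : Q₁, ∃ b : Q₂, e₂ b = e₁ a := fun a => hsub ⟨a, rfl⟩
  choose g hg using hex
  let e : Q₁ ↪o Q₂ := OrderEmbedding.ofMapLEIff g (by
    intro a b
    rw [← e₂.le_iff_le, hg, hg, e₁.le_iff_le])
  refine catForm_of_embedding e ⟨?_⟩ h
  rintro _ ⟨a, rfl⟩ _ ⟨a', rfl⟩ c ⟨h1, h2⟩
  have h1' : e₁ a ≤ e₂ c := by
    rw [← hg a]
    exact e₂.monotone h1
  have h2' : e₂ c ≤ e₁ a' := by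
    rw [← hg a']
    exact e₂.monotone h2
  obtain ⟨a'', ha''⟩ := hconn.out ⟨a, rfl⟩ ⟨a', rfl⟩ ⟨h1', h2'⟩
  refine ⟨a'', ?_⟩
  apply e₂.injective
  change e₂ (g a'') = e₂ c
  rw [hg, ha'']

end Abstract

section Ring

variable {C : Type u} {B : Type u} [CommRing C] [CommRing B]

/-- comap along a surjective ring hom as an order embedding of prime spectra -/
def comapEmbOfSurjective (φ : C →+* B) (hφ : Function.Surjective φ) :
    PrimeSpectrum B ↪o PrimeSpectrum C :=
  OrderEmbedding.ofMapLEIff (PrimeSpectrum.comap φ) (by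
    intro p q
    exact Ideal.comap_le_comap_iff_of_surjective φ hφ p.asIdeal q.asIdeal)

theorem isCatenary_of_surjective (φ : C →+* B) (hφ : Function.Surjective φ)
    (h : CAlg.IsCatenary C) : CAlg.IsCatenary B := by
  refine catForm_of_embedding (comapEmbOfSurjective φ hφ) ?_ h
  have : Set.range (comapEmbOfSurjective φ hφ) = PrimeSpectrum.zeroLocus (RingHom.ker φ) :=
    range_comap_of_surjective _ φ hφ
  rw [this]
  refine ⟨?_⟩
  intro a ha b _ c hc
  rw [PrimeSpectrum.mem_zeroLocus] at ha ⊢
  exact ha.trans hc.1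

/-- comap along a localization map as an order embedding of prime spectra -/
def comapEmbOfIsLocalization (M : Submonoid C) [Algebra C B] [IsLocalization M B] :
    PrimeSpectrum B ↪o PrimeSpectrum C :=
  OrderEmbedding.ofMapLEIff (PrimeSpectrum.comap (algebraMap C B)) (by
    intro p q
    exact IsLocalization.under_le_under_iff M (I := p.asIdeal) (J := q.asIdeal))

lemma range_comapEmbOfIsLocalization (M : Submonoid C) [Algebra C B] [IsLocalization M B] :
    Set.range (comapEmbOfIsLocalization (B := B) M) = {p | Disjoint (M : Set C) p.asIdeal} :=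
  PrimeSpectrum.localization_comap_range B M

lemma ordConnected_disjoint (M : Submonoid C) :
    ({p : PrimeSpectrum C | Disjoint (M : Set C) p.asIdeal}).OrdConnected := by
  refine ⟨?_⟩
  intro a _ b hb c hc
  exact Set.disjoint_of_subset_right (show (c.asIdeal : Set C) ⊆ b.asIdeal from hc.2) hb

theorem isCatenary_of_isLocalization (M : Submonoid C) [Algebra C B] [IsLocalization M B]
    (h : CAlg.IsCatenary C) : CAlg.IsCatenary B := by
  refine catForm_of_embedding (comapEmbOfIsLocalization (B := B) M) ?_ h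
  rw [range_comapEmbOfIsLocalization]
  exact ordConnected_disjoint M

end Ring

section Local

variable {P : Type*} [PartialOrder P]

theorem catForm_of_local
    (h : ∀ a b : P, a ≤ b → ∃ (Q : Type u) (_ : PartialOrder Q) (e : Q ↪o P),
      (Set.range e).OrdConnected ∧ CatForm Q ∧ a ∈ Set.range e ∧ b ∈ Set.range e) : CatForm P := by
  rw [← isCat_iff_catForm]
  apply isCat_of_local.{u, _}
  intro a b hab
  obtain ⟨Q, i, e, h1, h2, h3, h4⟩ := h a b hab
  exact ⟨Q, i, e, h1, isCat_iff_catForm.2 h2, h3, h4⟩

lemma disjoint_primeCompl_of_le {C : Type u} [CommRing C] (m : Ideal C) [m.IsPrime]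
    (a : PrimeSpectrum C) (h : a.asIdeal ≤ m) : Disjoint (m.primeCompl : Set C) a.asIdeal := by
  rw [Set.disjoint_left]
  intro x hx hxa
  exact hx (h hxa)

theorem isCatenary_iff_localization_maximal (R : Type u) [CommRing R] :
    CAlg.IsCatenary R ↔
      ∀ (m : Ideal R) [m.IsMaximal], CAlg.IsCatenary (Localization.AtPrime m) := by
  constructor
  · intro h m _
    exact isCatenary_of_isLocalization m.primeCompl h
  · intro h
    apply catForm_of_local.{u}
    intro a b hab
    obtain ⟨m, hm, hbm⟩ := Ideal.exists_le_maximal b.asIdeal b.2.ne_top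
    refine ⟨PrimeSpectrum (Localization.AtPrime m), inferInstance,
      comapEmbOfIsLocalization (B := Localization.AtPrime m) m.primeCompl, ?_, h m, ?_, ?_⟩
    · rw [range_comapEmbOfIsLocalization]
      exact ordConnected_disjoint _
    · rw [range_comapEmbOfIsLocalization]
      exact disjoint_primeCompl_of_le m a (le_trans hab hbm)
    · rw [range_comapEmbOfIsLocalization]
      exact disjoint_primeCompl_of_le m b hbm

end Local

section UnivCatLocal

attribute [local instance] MvPolynomial.algebraMvPolynomial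

theorem isCatenary_localization_of_le {B : Type u} [CommRing B] (M N : Submonoid B) (hMN : M ≤ N)
    (D E : Type u) [CommRing D] [CommRing E] [Algebra B D] [Algebra B E] [IsLocalization M D]
    [IsLocalization N E] (hD : CAlg.IsCatenary D) : CAlg.IsCatenary E := by
  refine catForm_of_range_subset (comapEmbOfIsLocalization (B := E) N)
    (comapEmbOfIsLocalization (B := D) M) ?_ ?_ hD
  · rw [range_comapEmbOfIsLocalization, range_comapEmbOfIsLocalization]
    intro P hP
    exact Set.disjoint_of_subset_left (show (M : Set B) ⊆ N from hMN) hP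
  · rw [range_comapEmbOfIsLocalization]
    exact ordConnected_disjoint _

theorem isUniversallyCatenary_of_isLocalization {R : Type u} [CommRing R] (M : Submonoid R)
    (A : Type u) [CommRing A] [Algebra R A] [IsLocalization M A] [IsNoetherianRing A]
    (hR : ∀ n : ℕ, CAlg.IsCatenary (MvPolynomial (Fin n) R)) : CAlg.IsUniversallyCatenary A := by
  refine ⟨inferInstance, fun B _ _ hB => ?_⟩
  obtain ⟨n, ψ, hψ⟩ := Algebra.FiniteType.iff_quotient_mvPolynomial''.1 hB
  apply isCatenary_of_surjective ψ.toRingHom hψ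
  haveI : IsLocalization (M.map (MvPolynomial.C (σ := Fin n))) (MvPolynomial (Fin n) A) :=
    MvPolynomial.isLocalization _ _
  exact isCatenary_of_isLocalization (M.map (MvPolynomial.C (σ := Fin n))) (hR n)

theorem isUniversallyCatenary_iff_localization_maximal (R : Type u) [CommRing R]
    [IsNoetherianRing R] :
    CAlg.IsUniversallyCatenary R ↔
      ∀ (m : Ideal R) [m.IsMaximal], CAlg.IsUniversallyCatenary (Localization.AtPrime m) := by
  constructor
  · intro h m _
    haveI : IsNoetherianRing (Localization.AtPrime m) :=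
      IsLocalization.isNoetherianRing m.primeCompl _ inferInstance
    exact isUniversallyCatenary_of_isLocalization m.primeCompl _
      (fun n => h.2 (MvPolynomial (Fin n) R) inferInstance)
  · intro h
    refine ⟨inferInstance, fun B _ _ hB => ?_⟩
    rw [isCatenary_iff_localization_maximal]
    intro n _
    have hp : (n.comap (algebraMap R B)) ≠ ⊤ := (Ideal.comap_isPrime (algebraMap R B) n).ne_top
    obtain ⟨m, hm, hpm⟩ := Ideal.exists_le_maximal _ hp
    let M : Submonoid B := m.primeCompl.map (algebraMap R B)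
    have hM : M ≤ n.primeCompl := by
      rintro _ ⟨r, hr, rfl⟩
      intro hmem
      exact hr (hpm hmem)
    have hg := RingHom.finiteType_localizationPreserves (algebraMap R B) m.primeCompl
      (Localization.AtPrime m) (Localization M) (RingHom.finiteType_algebraMap.2 hB)
    letI : Algebra (Localization.AtPrime m) (Localization M) := RingHom.toAlgebra
      (IsLocalization.map (Localization M) (algebraMap R B) (Submonoid.le_comap_map m.primeCompl))
    have hD : CAlg.IsCatenary (Localization M) := (h m).2 (Localization M) hg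
    exact isCatenary_localization_of_le M n.primeCompl hM (Localization M)
      (Localization.AtPrime n) hD

end UnivCatLocal

section Scheme

open AlgebraicGeometry CategoryTheory

attribute [local instance] MvPolynomial.algebraMvPolynomial

theorem isUniversallyCatenary_stalk (S : Scheme.{u}) [IsLocallyNoetherian S]
    (h : ∀ (X : Scheme.{u}) (f : X ⟶ S), LocallyOfFiniteType f → PtTop.IsCatenarySpace X) (s : S) :
    CAlg.IsUniversallyCatenary (S.presheaf.stalk s) := by
  refine ⟨inferInstance, fun B _ _ hB => ?_⟩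
  obtain ⟨U, hU, hsU, -⟩ := exists_isAffineOpen_mem_and_subset (x := s) (U := ⊤) trivial
  letI : Algebra Γ(S, U) (S.presheaf.stalk s) := S.presheaf.algebra_section_stalk ⟨s, hsU⟩
  haveI : IsLocalization.AtPrime (S.presheaf.stalk s) (hU.primeIdealOf ⟨s, hsU⟩).asIdeal :=
    hU.isLocalization_stalk ⟨s, hsU⟩
  obtain ⟨n, ψ, hψ⟩ := Algebra.FiniteType.iff_quotient_mvPolynomial''.1 hB
  apply isCatenary_of_surjective ψ.toRingHom hψ
  haveI : IsLocalization ((hU.primeIdealOf ⟨s, hsU⟩).asIdeal.primeCompl.map
      (MvPolynomial.C (σ := Fin n))) (MvPolynomial (Fin n) (S.presheaf.stalk s)) :=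
    MvPolynomial.isLocalization _ _
  apply isCatenary_of_isLocalization ((hU.primeIdealOf ⟨s, hsU⟩).asIdeal.primeCompl.map
      (MvPolynomial.C (σ := Fin n)))
  rw [← isCatenarySpace_primeSpectrum_iff]
  have hC : (MvPolynomial.C (σ := Fin n) (R := Γ(S, U))).FiniteType := by
    have : (algebraMap Γ(S, U) (MvPolynomial (Fin n) Γ(S, U))).FiniteType :=
      RingHom.finiteType_algebraMap.2 inferInstance
    rwa [MvPolynomial.algebraMap_eq] at this
  have : LocallyOfFiniteType (Spec.map (CommRingCat.ofHom
      (MvPolynomial.C (σ := Fin n) (R := Γ(S, U))))) :=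
    (HasRingHomProperty.Spec_iff (P := @LocallyOfFiniteType)).2 hC
  exact h (Spec (CommRingCat.of (MvPolynomial (Fin n) Γ(S, U))))
    (Spec.map (CommRingCat.ofHom (MvPolynomial.C (σ := Fin n) (R := Γ(S, U)))) ≫ hU.fromSpec)
    inferInstance

theorem isCatenarySpace_of_stalks_univCat (S : Scheme.{u})
    (h : ∀ s : S, CAlg.IsUniversallyCatenary (S.presheaf.stalk s))
    (X : Scheme.{u}) (f : X ⟶ S) [LocallyOfFiniteType f] : PtTop.IsCatenarySpace X := by
  rw [Groth.Agent.S12446.result]
  intro x
  obtain ⟨U, hU, hsU, -⟩ := exists_isAffineOpen_mem_and_subset (x := f x) (U := ⊤) trivial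
  obtain ⟨V, hV, hxV, hVU⟩ := exists_isAffineOpen_mem_and_subset (x := x) (U := f ⁻¹ᵁ U) hsU
  have hVU' : V ≤ f ⁻¹ᵁ U := hVU
  letI : Algebra Γ(S, U) (S.presheaf.stalk (f x)) := S.presheaf.algebra_section_stalk ⟨f x, hsU⟩
  haveI : IsLocalization.AtPrime (S.presheaf.stalk (f x)) (hU.primeIdealOf ⟨f x, hsU⟩).asIdeal :=
    hU.isLocalization_stalk ⟨f x, hsU⟩
  letI : Algebra Γ(X, V) (X.presheaf.stalk x) := X.presheaf.algebra_section_stalk ⟨x, hxV⟩
  haveI : IsLocalization.AtPrime (X.presheaf.stalk x) (hV.primeIdealOf ⟨x, hxV⟩).asIdeal :=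
    hV.isLocalization_stalk ⟨x, hxV⟩
  have hφ : (f.appLE U V hVU').hom.FiniteType := f.finiteType_appLE hU hV hVU'
  have hpq : (hV.primeIdealOf ⟨x, hxV⟩).asIdeal.comap (f.appLE U V hVU').hom =
      (hU.primeIdealOf ⟨f x, hsU⟩).asIdeal :=
    congrArg PrimeSpectrum.asIdeal (IsAffineOpen.comap_primeIdealOf_appLE U hU V hV hVU' hxV)
  -- the intermediate localization
  let M : Submonoid Γ(X, V) :=
    (hU.primeIdealOf ⟨f x, hsU⟩).asIdeal.primeCompl.map (f.appLE U V hVU').hom
  have hM : M ≤ (hV.primeIdealOf ⟨x, hxV⟩).asIdeal.primeCompl := by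
    rintro _ ⟨r, hr, rfl⟩
    intro hmem
    apply hr
    rw [← hpq]
    exact hmem
  have hg := RingHom.finiteType_localizationPreserves (f.appLE U V hVU').hom
    (hU.primeIdealOf ⟨f x, hsU⟩).asIdeal.primeCompl (S.presheaf.stalk (f x)) (Localization M) hφ
  letI : Algebra (S.presheaf.stalk (f x)) (Localization M) := RingHom.toAlgebra
    (IsLocalization.map (Localization M) (f.appLE U V hVU').hom
      (Submonoid.le_comap_map (hU.primeIdealOf ⟨f x, hsU⟩).asIdeal.primeCompl))
  have hD : CAlg.IsCatenary (Localization M) := (h (f x)).2 (Localization M) hg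
  refine catForm_of_range_subset
    (comapEmbOfIsLocalization (B := X.presheaf.stalk x)
      (hV.primeIdealOf ⟨x, hxV⟩).asIdeal.primeCompl)
    (comapEmbOfIsLocalization (B := Localization M) M) ?_ ?_ hD
  · rw [range_comapEmbOfIsLocalization, range_comapEmbOfIsLocalization]
    intro P hP
    exact Set.disjoint_of_subset_left (show (M : Set Γ(X, V)) ⊆ _ from hM) hP
  · rw [range_comapEmbOfIsLocalization]
    exact ordConnected_disjoint _

end Scheme

end Groth.Agent.Lib.Helper12.Codim
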