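import Groth.Agent.Lib.Helper12.UnivCat

/-!
# Catenary Noetherian local rings and the dimension function `p ↦ dim A/p`
-/

universe u

namespace Groth.Agent.Lib.Helper12.Codim

section

variable {P : Type*} [PartialOrder P] [OrderTop P]

lemma cd_top_eq_coheight (p : P) : cd p ⊤ = Order.coheight p := by
  rw [Order.coheight_eq_iSup_head_eq]
  unfold cd
  apply iSup_congr
  intro s
  apply le_antisymm
  · rw [iSup_le_iff]
    intro h
    exact le_iSup_of_le h.1 le_rfl
  · rw [iSup_le_iff]
    intro h
    exact le_iSup_of_le ⟨h, le_top⟩ le_rfl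

lemma one_le_cd_of_lt {P : Type*} [PartialOrder P] {a b : P} (h : a < b) : 1 ≤ cd a b := by
  have := le_cd (a := a) (b := b) ((RelSeries.singleton _ a).snoc b (by
    rw [RelSeries.last_singleton]; exact h)) (by
      rw [RelSeries.head_snoc, RelSeries.head_singleton]) (by rw [RelSeries.last_snoc])
  rw [RelSeries.snoc_length] at this
  simpa using this

end

section Ring

variable (A : Type u) [CommRing A] [IsNoetherianRing A] [IsLocalRing A]

lemma ringKrullDim_quotient_eq_coheight (p : PrimeSpectrum A) :
    ringKrullDim (A ⧸ p.asIdeal) = ((Order.coheight p : ℕ∞) : WithBot ℕ∞) := by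
  rw [ringKrullDim_quotient, Order.coheight_eq_krullDim_Ici]
  have : PrimeSpectrum.zeroLocus (p.asIdeal : Set A) = Set.Ici p := by
    ext q
    rw [PrimeSpectrum.mem_zeroLocus, Set.mem_Ici]
    rfl
  rw [this]

lemma coheight_ne_top (p : PrimeSpectrum A) : Order.coheight p ≠ ⊤ := by
  intro h
  have h1 : ((Order.coheight p : ℕ∞) : WithBot ℕ∞) ≤ Order.krullDim (PrimeSpectrum A) :=
    Order.coheight_le_krullDim p
  rw [h] at h1
  have h2 : ringKrullDim A ≠ ⊤ := ringKrullDim_ne_top
  apply h2
  exact top_le_iff.1 h1

/-- the closed point is the top element of the prime spectrum of a local ring -/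
def orderTopPrimeSpectrum : OrderTop (PrimeSpectrum A) where
  top := IsLocalRing.closedPoint A
  le_top p := IsLocalRing.le_maximalIdeal p.2.ne_top

attribute [local instance] orderTopPrimeSpectrum

theorem isCatenary_iff_dimFun :
    CAlg.IsCatenary A ↔
      ∀ p q : PrimeSpectrum A, p < q →
        ringKrullDim (A ⧸ q.asIdeal) < ringKrullDim (A ⧸ p.asIdeal) ∧
          (p ⋖ q → ringKrullDim (A ⧸ p.asIdeal) = ringKrullDim (A ⧸ q.asIdeal) + 1) := by
  simp only [ringKrullDim_quotient_eq_coheight]
  constructor
  · intro h
    have hcat : IsCat (PrimeSpectrum A) := isCat_iff_catForm.2 h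
    obtain ⟨hfin, hadd⟩ := isCat_iff.1 hcat
    intro p q hpq
    have e := hadd p q ⊤ hpq.le le_top
    rw [cd_top_eq_coheight, cd_top_eq_coheight] at e
    have h1 := one_le_cd_of_lt hpq
    have f1 := hfin p q hpq.le
    have f2 := coheight_ne_top A q
    constructor
    · rw [e]
      have : Order.coheight q < cd p q + Order.coheight q := by
        calc Order.coheight q < 1 + Order.coheight q := by
              rw [add_comm]
              exact ENat.lt_add_one_iff f2 |>.2 le_rfl
          _ ≤ cd p q + Order.coheight q := add_le_add_left h1 _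
      exact_mod_cast this
    · intro hcov
      rw [e, cd_of_covBy hcov, add_comm]
      rfl
  · intro H
    let c : PrimeSpectrum A → ℕ := fun p => (Order.coheight p).toNat
    have hc : ∀ p, Order.coheight p = (c p : ℕ∞) := fun p =>
      (ENat.natCast_toNat (coheight_ne_top A p)).symm
    have key := isCat_of_dimFun (P := PrimeSpectrum A) (fun p => -(c p : ℤ)) (by
      intro p q hpq
      have := (H p q hpq).1
      rw [hc p, hc q] at this
      have h2 : c q < c p := by exact_mod_cast this
      change -(c p : ℤ) < -(c q : ℤ)
      omega) (by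
      intro p q hcov
      have := (H p q hcov.lt).2 hcov
      rw [hc p, hc q] at this
      have h2 : c p = c q + 1 := by exact_mod_cast this
      change -(c q : ℤ) = -(c p : ℤ) + 1
      omega)
    exact isCat_iff_catForm.1 key.1

end Ring

end Groth.Agent.Lib.Helper12.Codim
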