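import Mathlib.RingTheory.Ideal.HasGoingUp
import Mathlib.RingTheory.Ideal.GoingUp
import Mathlib.RingTheory.KrullDimension.Basic

/-!
# Integral injective extensions preserve Krull dimension
-/

set_option autoImplicit false

namespace Groth.Agent.Lib.Helper12

open Ideal

/-- For an integral algebra `S` over `R`, `dim S ≤ dim R` (incomparability). -/
theorem ringKrullDim_le_of_isIntegral (R S : Type*) [CommRing R] [CommRing S] [Algebra R S]
    [Algebra.IsIntegral R S] : ringKrullDim S ≤ ringKrullDim R := by
  refine Order.krullDim_le_of_strictMono (PrimeSpectrum.comap (algebraMap R S)) ?_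
  intro P Q hPQ
  have hPQ' : P.asIdeal < Q.asIdeal := (PrimeSpectrum.asIdeal_lt_asIdeal P Q).mpr hPQ
  obtain ⟨x, hxQ, hxP⟩ := SetLike.exists_of_lt hPQ'
  have := P.2
  have h := Ideal.comap_lt_comap_of_integral_mem_sdiff (R := R) (le_of_lt hPQ') ⟨hxQ, hxP⟩
    (Algebra.IsIntegral.isIntegral x)
  exact (PrimeSpectrum.asIdeal_lt_asIdeal _ _).mp h

/-- For an integral injective extension `R → S`, `dim R ≤ dim S` (lying over and going up). -/
theorem ringKrullDim_le_of_isIntegral_of_injective (R S : Type*) [CommRing R] [CommRing S]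
    [Algebra R S] [Algebra.IsIntegral R S] (hinj : Function.Injective (algebraMap R S)) :
    ringKrullDim R ≤ ringKrullDim S := by
  refine iSup_le fun l => ?_
  have hker : (⊥ : Ideal S).comap (algebraMap R S) ≤ l.head.asIdeal := by
    rw [← RingHom.ker_eq_comap_bot, (RingHom.injective_iff_ker_eq_bot _).mp hinj]
    exact bot_le
  obtain ⟨Q, -, hQ, hQ'⟩ := Ideal.exists_ideal_over_prime_of_isIntegral l.head.asIdeal ⊥ hker
  have : Q.LiesOver l.head.asIdeal := ⟨hQ'.symm⟩
  obtain ⟨L, hL, -, -⟩ := Ideal.exists_ltSeries_of_hasGoingUp l Q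
  rw [← hL]
  exact Order.LTSeries.length_le_krullDim L

/-- An integral injective ring extension preserves the Krull dimension. -/
theorem ringKrullDim_eq_of_isIntegral_of_injective (R S : Type*) [CommRing R] [CommRing S]
    [Algebra R S] [Algebra.IsIntegral R S] (hinj : Function.Injective (algebraMap R S)) :
    ringKrullDim R = ringKrullDim S :=
  le_antisymm (ringKrullDim_le_of_isIntegral_of_injective R S hinj)
    (ringKrullDim_le_of_isIntegral R S)

end Groth.Agent.Lib.Helper12
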