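import Groth.Agent.Lib.Helper12.CodimEmb
import Groth.Prelude.Def_Found

/-!
# Catenary rings versus catenary spaces
-/

universe u

namespace Groth.Agent.Lib.Helper12.Codim

section Abstract

variable {P : Type*} {Q : Type*} [PartialOrder P] [PartialOrder Q]

/-- the form of the catenary condition used for rings -/
def CatForm (P : Type*) [PartialOrder P] : Prop :=
  (∀ p q : P, p ≤ q → ∃ n : ℕ, ∀ s : LTSeries P, s.head = p → s.last = q → s.length ≤ n) ∧
  ∀ s t : LTSeries P, s.head = t.head → s.last = t.last →
    (∀ i : Fin s.length, s (Fin.castSucc i) ⋖ s (Fin.succ i)) →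
    (∀ i : Fin t.length, t (Fin.castSucc i) ⋖ t (Fin.succ i)) → s.length = t.length

theorem isCat_iff_catForm : IsCat P ↔ CatForm P := by
  constructor
  · intro hP
    refine ⟨fun p q hpq => ⟨(cd p q).toNat, fun s h1 h2 => ?_⟩, fun s t h1 h2 hs ht => ?_⟩
    · have := le_cd (a := p) (b := q) s h1 h2.le
      rw [← ENat.natCast_toNat (hP p q hpq).1] at this
      exact_mod_cast this
    · have hab : s.head ≤ s.last := LTSeries.head_le_last s
      have e1 := (hP s.head s.last hab).2 s rfl rfl hs
      have e2 := (hP s.head s.last hab).2 t h1.symm h2.symm ht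
      rw [← e2] at e1
      exact_mod_cast e1
  · rintro ⟨hb, hs⟩ a b hab
    obtain ⟨n, hn⟩ := hb a b hab
    have hle : cd a b ≤ (n : ℕ∞) := by
      rw [cd_le_iff]
      intro s h1 h2
      by_cases e : s.last = b
      · exact_mod_cast hn s h1 e
      · have hlt : s.last < b := lt_of_le_of_ne h2 e
        have := hn (s.snoc b hlt) (by rw [RelSeries.head_snoc]; exact h1)
          (by rw [RelSeries.last_snoc])
        rw [RelSeries.snoc_length] at this
        have : s.length ≤ n := by omega
        exact_mod_cast this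
    have hfin : cd a b ≠ ⊤ := ne_top_of_le_ne_top (ENat.natCast_ne_top _) hle
    refine ⟨hfin, fun s h1 h2 hsat => ?_⟩
    obtain ⟨m, hm1, hm2, hm3⟩ := exists_max hab hfin
    have l := last_eq_of_max m hm1 hm2 hm3 hfin
    have sat := saturated_of_max m hm1 hm2 hm3 hfin
    rw [← hm3, hs s m (by rw [h1, hm1]) (by rw [h2, l]) hsat sat]

theorem catForm_of_orderIso (e : P ≃o Q) (hP : CatForm P) : CatForm Q := by
  obtain ⟨hb, hs⟩ := hP
  refine ⟨fun p q hpq => ?_, fun s t h1 h2 hs' ht' => ?_⟩
  · obtain ⟨n, hn⟩ := hb (e.symm p) (e.symm q) (e.symm.monotone hpq)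
    refine ⟨n, fun s h1 h2 => ?_⟩
    have := hn (s.map e.symm e.symm.strictMono) (by rw [LTSeries.head_map, h1])
      (by rw [LTSeries.last_map, h2])
    rwa [LTSeries.map_length] at this
  · have := hs (s.map e.symm e.symm.strictMono) (t.map e.symm e.symm.strictMono)
      (by rw [LTSeries.head_map, LTSeries.head_map, h1])
      (by rw [LTSeries.last_map, LTSeries.last_map, h2])
      (fun i => (apply_covBy_apply_iff e.symm).2 (hs' i))
      (fun i => (apply_covBy_apply_iff e.symm).2 (ht' i))
    rwa [LTSeries.map_length, LTSeries.map_length] at this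

/-- reversing a chain in the order dual -/
def revSeries (s : LTSeries Pᵒᵈ) : LTSeries P :=
  LTSeries.mk s.length (fun i => OrderDual.ofDual (s i.rev)) (by
    intro i j hij
    have : s j.rev < s i.rev := s.strictMono (Fin.rev_lt_rev.2 hij)
    exact this)

lemma revSeries_length (s : LTSeries Pᵒᵈ) : (revSeries s).length = s.length := rfl

lemma revSeries_head (s : LTSeries Pᵒᵈ) : (revSeries s).head = OrderDual.ofDual s.last := by
  change OrderDual.ofDual (s (Fin.rev 0)) = _
  rw [Fin.rev_zero]
  rfl

lemma revSeries_last (s : LTSeries Pᵒᵈ) : (revSeries s).last = OrderDual.ofDual s.head := by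
  change OrderDual.ofDual (s (Fin.rev (Fin.last _))) = _
  rw [Fin.rev_last]
  rfl

lemma revSeries_saturated (s : LTSeries Pᵒᵈ)
    (hs : ∀ i : Fin s.length, s (Fin.castSucc i) ⋖ s (Fin.succ i)) :
    ∀ i : Fin (revSeries s).length, (revSeries s) (Fin.castSucc i) ⋖ (revSeries s) (Fin.succ i) := by
  intro i
  change OrderDual.ofDual (s (Fin.rev (Fin.castSucc i))) ⋖ OrderDual.ofDual (s (Fin.rev (Fin.succ i)))
  rw [ofDual_covBy_ofDual_iff, Fin.rev_castSucc, Fin.rev_succ]
  exact hs (Fin.rev i)

theorem catForm_dual (hP : CatForm P) : CatForm Pᵒᵈ := by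
  obtain ⟨hb, hs⟩ := hP
  refine ⟨fun p q hpq => ?_, fun s t h1 h2 hs' ht' => ?_⟩
  · obtain ⟨n, hn⟩ := hb (OrderDual.ofDual q) (OrderDual.ofDual p) hpq
    refine ⟨n, fun s h1 h2 => ?_⟩
    exact hn (revSeries s) (by rw [revSeries_head, h2]) (by rw [revSeries_last, h1])
  · exact hs (revSeries s) (revSeries t) (by rw [revSeries_head, revSeries_head, h2])
      (by rw [revSeries_last, revSeries_last, h1]) (revSeries_saturated s hs')
      (revSeries_saturated t ht')

theorem catForm_dual_iff : CatForm Pᵒᵈ ↔ CatForm P :=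
  ⟨fun h => catForm_of_orderIso (OrderIso.dualDual P).symm (catForm_dual h), catForm_dual⟩

end Abstract

section Top

open TopologicalSpace

variable {X : Type u} [TopologicalSpace X] {Y : Type u} [TopologicalSpace Y]

/-- a homeomorphism induces an order isomorphism on irreducible closed subsets -/
def icCongr (e : X ≃ₜ Y) : IrreducibleCloseds X ≃o IrreducibleCloseds Y where
  toFun Z := ⟨e '' (Z : Set X), Z.isIrreducible.image e e.continuous.continuousOn,
    e.isClosedMap _ Z.isClosed⟩
  invFun W := ⟨e.symm '' (W : Set Y), W.isIrreducible.image e.symm e.symm.continuous.continuousOn,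
    e.symm.isClosedMap _ W.isClosed⟩
  left_inv Z := by
    apply IrreducibleCloseds.ext
    change e.symm '' (e '' (Z : Set X)) = (Z : Set X)
    rw [Set.image_image]
    simp
  right_inv W := by
    apply IrreducibleCloseds.ext
    change e '' (e.symm '' (W : Set Y)) = (W : Set Y)
    rw [Set.image_image]
    simp
  map_rel_iff' := by
    intro Z Z'
    exact Set.image_subset_image_iff e.injective

theorem isCatenarySpace_of_homeomorph (e : X ≃ₜ Y) (h : PtTop.IsCatenarySpace X) :
    PtTop.IsCatenarySpace Y :=
  isCat_of_embedding (icCongr e).symm.toOrderEmbedding (by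
    have : Set.range (icCongr e).symm.toOrderEmbedding = Set.univ :=
      (icCongr e).symm.surjective.range_eq
    rw [this]
    exact Set.ordConnected_univ) h

theorem isCatenarySpace_primeSpectrum_iff (R : Type u) [CommRing R] :
    PtTop.IsCatenarySpace (PrimeSpectrum R) ↔ CAlg.IsCatenary R := by
  change IsCat (IrreducibleCloseds (PrimeSpectrum R)) ↔ CatForm (PrimeSpectrum R)
  rw [isCat_iff_catForm, ← catForm_dual_iff]
  exact ⟨catForm_of_orderIso (PrimeSpectrum.pointsEquivIrreducibleCloseds R).symm,
    catForm_of_orderIso (PrimeSpectrum.pointsEquivIrreducibleCloseds R)⟩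

end Top

end Groth.Agent.Lib.Helper12.Codim
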