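import Mathlib
import Groth.Prelude.Def_CAlgX

/-!
# Quasi-regular sequences: invariance under change of generators

Linear substitutions in multivariate polynomial rings and the fact that quasi-regularity of a
sequence only depends on the ideal it generates (for sequences of the same length).
-/

universe u

namespace Groth.Agent.Lib.Helper12.QR

open MvPolynomial

section lsub

variable {R : Type*} [CommRing R] {l m n : ℕ}

/-- The linear substitution `X i ↦ ∑ j, M i j • X j`. -/
noncomputable def lsub (M : Matrix (Fin m) (Fin n) R) :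
    MvPolynomial (Fin m) R →ₐ[R] MvPolynomial (Fin n) R :=
  aeval (fun i => ∑ j, C (M i j) * X j)

lemma lsub_X (M : Matrix (Fin m) (Fin n) R) (i : Fin m) :
    lsub M (X i) = ∑ j, C (M i j) * X j := by
  simp [lsub]

lemma lsub_isHomogeneous (M : Matrix (Fin m) (Fin n) R) {P : MvPolynomial (Fin m) R} {d : ℕ}
    (hP : P.IsHomogeneous d) : (lsub M P).IsHomogeneous d := by
  have := hP.aeval (n := 1) (fun i => ∑ j, C (M i j) * X j)
    (fun i => IsHomogeneous.sum _ _ _ (fun j _ => isHomogeneous_C_mul_X _ _))
  simpa [lsub] using this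

lemma eval_lsub (M : Matrix (Fin m) (Fin n) R) (f : Fin n → R) (P : MvPolynomial (Fin m) R) :
    eval f (lsub M P) = eval (M.mulVec f) P := by
  induction P using MvPolynomial.induction_on with
  | C a => simp [lsub]
  | add p q hp hq => simp [hp, hq]
  | mul_X p i hp =>
    rw [map_mul, map_mul, hp, map_mul, lsub_X]
    congr 1
    simp [Matrix.mulVec, dotProduct]

lemma lsub_lsub (M : Matrix (Fin m) (Fin n) R) (N : Matrix (Fin l) (Fin m) R)
    (P : MvPolynomial (Fin l) R) : lsub M (lsub N P) = lsub (N * M) P := by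
  induction P using MvPolynomial.induction_on with
  | C a => simp [lsub]
  | add p q hp hq => simp [hp, hq]
  | mul_X p i hp =>
    rw [map_mul, map_mul, hp, map_mul]
    congr 1
    rw [lsub_X, lsub_X, map_sum]
    simp_rw [map_mul, lsub_X, Matrix.mul_apply, map_sum, Finset.sum_mul, Finset.mul_sum]
    rw [Finset.sum_comm]
    refine Finset.sum_congr rfl fun j _ => Finset.sum_congr rfl fun k _ => ?_
    have : lsub M (C (N i k)) = C (N i k) := by simp [lsub]
    rw [this, map_mul, mul_assoc]

lemma lsub_one (P : MvPolynomial (Fin n) R) : lsub (1 : Matrix (Fin n) (Fin n) R) P = P := by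
  induction P using MvPolynomial.induction_on with
  | C a => simp [lsub]
  | add p q hp hq => simp [hp, hq]
  | mul_X p i hp =>
    rw [map_mul, hp, lsub_X]
    congr 1
    rw [Finset.sum_eq_single i]
    · simp
    · intro j _ hj
      simp [Matrix.one_apply_ne' hj]
    · simp

lemma map_lsub {S : Type*} [CommRing S] (φ : R →+* S) (M : Matrix (Fin m) (Fin n) R)
    (P : MvPolynomial (Fin m) R) :
    map φ (lsub M P) = lsub (M.map φ) (map φ P) := by
  induction P using MvPolynomial.induction_on with
  | C a => simp [lsub]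
  | add p q hp hq => simp [hp, hq]
  | mul_X p i hp =>
    rw [map_mul, map_mul, hp, map_mul, map_mul, lsub_X, map_X, lsub_X]
    congr 1
    simp

end lsub

section main

variable {A : Type*} [CommRing A] {n : ℕ}

lemma coeff_mem_iff_map_eq_zero (J : Ideal A) (P : MvPolynomial (Fin n) A) :
    (∀ d, P.coeff d ∈ J) ↔ map (Ideal.Quotient.mk J) P = 0 := by
  rw [MvPolynomial.ext_iff]
  simp [coeff_map, Ideal.Quotient.eq_zero_iff_mem]

/-- If `f = K.mulVec f` for a quasi-regular `f`, then `K ≡ 1` modulo the ideal. -/
lemma map_eq_one_of_mulVec_eq {A : Type u} [CommRing A] {n : ℕ} (f : Fin n → A)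
    (hf : CAlgX.IsQuasiRegular f) (K : Matrix (Fin n) (Fin n) A) (hK : K.mulVec f = f) :
    K.map (Ideal.Quotient.mk (Ideal.span (Set.range f))) = 1 := by
  classical
  ext i k
  rw [Matrix.map_apply]
  -- linear form `X i - ∑ k, K i k X k`
  set L : MvPolynomial (Fin n) A := X i - ∑ j, C (K i j) * X j with hL
  have hLh : L.IsHomogeneous 1 :=
    (isHomogeneous_X _ _).sub (IsHomogeneous.sum _ _ _ (fun j _ => isHomogeneous_C_mul_X _ _))
  have hev : eval f L = 0 := by
    have := congrFun hK i
    simp only [Matrix.mulVec, dotProduct] at this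
    simp [hL, this]
  have hc := hf 1 L hLh (by rw [hev]; exact zero_mem _) (Finsupp.single k 1)
  have hcoef : L.coeff (Finsupp.single k 1) = (if i = k then 1 else 0) - K i k := by
    rw [hL, coeff_sub, coeff_sum, coeff_X]
    congr 1
    · simp [Finsupp.single_left_inj]
    · rw [Finset.sum_eq_single k]
      · simp
      · intro j _ hj
        rw [coeff_C_mul, coeff_X, if_neg, mul_zero]
        simpa [Finsupp.single_left_inj] using hj
      · simp
  rw [hcoef] at hc
  have := (Ideal.Quotient.eq_zero_iff_mem).2 hc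
  rw [map_sub, sub_eq_zero] at this
  rw [← this, Matrix.one_apply]
  split_ifs <;> simp

/-- Quasi-regularity of a sequence only depends on the ideal it generates, among sequences of the
same length. -/
theorem isQuasiRegular_of_span_eq {A : Type u} [CommRing A] {n : ℕ} (f f' : Fin n → A)
    (hf : CAlgX.IsQuasiRegular f) (h : Ideal.span (Set.range f') = Ideal.span (Set.range f)) :
    CAlgX.IsQuasiRegular f' := by
  classical
  have h1 : ∀ i, ∃ c : Fin n → A, ∑ j, c j * f j = f' i := fun i =>
    (Ideal.mem_span_range_iff_exists_fun).1 (by rw [← h]; exact Ideal.subset_span ⟨i, rfl⟩)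
  have h2 : ∀ i, ∃ c : Fin n → A, ∑ j, c j * f' j = f i := fun i =>
    (Ideal.mem_span_range_iff_exists_fun).1 (by rw [h]; exact Ideal.subset_span ⟨i, rfl⟩)
  choose M hM using h1
  choose N hN using h2
  have hMf : Matrix.mulVec (Matrix.of M) f = f' := by
    ext i; simpa [Matrix.mulVec, dotProduct] using hM i
  have hNf : Matrix.mulVec (Matrix.of N) f' = f := by
    ext i; simpa [Matrix.mulVec, dotProduct] using hN i
  have hNM : ((Matrix.of N) * (Matrix.of M)).mulVec f = f := by
    rw [← Matrix.mulVec_mulVec, hMf, hNf]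
  have hone := map_eq_one_of_mulVec_eq f hf _ hNM
  rw [Matrix.map_mul] at hone
  have hone' := mul_eq_one_comm.1 hone
  intro d P hP hev e
  rw [h]
  revert e
  rw [coeff_mem_iff_map_eq_zero]
  have hQ : ∀ e, (lsub (Matrix.of M) P).coeff e ∈ Ideal.span (Set.range f) := by
    refine hf d _ (lsub_isHomogeneous _ hP) ?_
    rw [eval_lsub, hMf, ← h]
    exact hev
  rw [coeff_mem_iff_map_eq_zero, map_lsub] at hQ
  have := congrArg (lsub ((Matrix.of N).map (Ideal.Quotient.mk (Ideal.span (Set.range f))))) hQ
  rw [lsub_lsub, hone', lsub_one, map_zero] at this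
  exact this

lemma sum_smul_toCotangent {A : Type u} [CommRing A] (I : Ideal A) {m : ℕ} (f : Fin m → I)
    (a : Fin m → A) :
    ∑ i, (Ideal.Quotient.mk I (a i)) • I.toCotangent (f i) = I.toCotangent (∑ i, a i • f i) := by
  rw [map_sum]
  refine Finset.sum_congr rfl fun i _ => ?_
  rw [map_smul, ← Ideal.Quotient.algebraMap_eq, algebraMap_smul]

/-- A quasi-regular sequence generating `I` gives a basis of `I/I²`. -/
theorem cotangent_basis_of_isQuasiRegular {A : Type u} [CommRing A] (I : Ideal A) {m : ℕ}
    (f : Fin m → I) (hf : CAlgX.IsQuasiRegular (fun i => (f i : A)))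
    (hs : Ideal.span (Set.range fun i => (f i : A)) = I) :
    LinearIndependent (A ⧸ I) (fun i => I.toCotangent (f i)) ∧
      Submodule.span (A ⧸ I) (Set.range fun i => I.toCotangent (f i)) = ⊤ := by
  classical
  constructor
  · rw [Fintype.linearIndependent_iff]
    intro c hc i
    choose a ha using fun i => Ideal.Quotient.mk_surjective (I := I) (c i)
    have h1 := sum_smul_toCotangent I f a
    simp_rw [ha] at h1
    rw [h1, Ideal.toCotangent_eq_zero] at hc
    set P : MvPolynomial (Fin m) A := ∑ j, C (a j) * X j with hPdef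
    have hP : P.IsHomogeneous 1 :=
      IsHomogeneous.sum _ _ _ fun j _ => isHomogeneous_C_mul_X _ _
    have hev : eval (fun i => (f i : A)) P = ∑ i, a i * f i := by simp [hPdef]
    have hmem : eval (fun i => (f i : A)) P ∈
        Ideal.span (Set.range fun i => (f i : A)) ^ (1 + 1) := by
      rw [hev, hs]
      simpa using hc
    have := hf 1 P hP hmem (Finsupp.single i 1)
    have hco : P.coeff (Finsupp.single i 1) = a i := by
      rw [hPdef, coeff_sum, Finset.sum_eq_single i]
      · simp
      · intro j _ hj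
        rw [coeff_C_mul, coeff_X, if_neg, mul_zero]
        simpa [Finsupp.single_left_inj] using hj
      · simp
    rw [hco, hs] at this
    rw [← ha i]
    exact Ideal.Quotient.eq_zero_iff_mem.2 this
  · rw [eq_top_iff]
    rintro x -
    obtain ⟨y, rfl⟩ := I.toCotangent_surjective x
    have hy : (y : A) ∈ Ideal.span (Set.range fun i => (f i : A)) := by rw [hs]; exact y.2
    obtain ⟨c, hc⟩ := Ideal.mem_span_range_iff_exists_fun.1 hy
    have : y = ∑ i, c i • f i := by
      ext
      simp [hc]
    rw [this, map_sum]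
    refine Submodule.sum_mem _ fun i _ => ?_
    rw [map_smul, ← algebraMap_smul (A ⧸ I) (c i)]
    exact Submodule.smul_mem _ _ (Submodule.subset_span ⟨i, rfl⟩)

/-- Nakayama: lifts of generators of `I/I²` generate `I`. -/
theorem span_eq_of_cotangent_span_eq_top {A : Type u} [CommRing A] (I : Ideal A) (hfg : I.FG)
    (hI : I ≤ Ideal.jacobson ⊥) {m : ℕ} (f : Fin m → I)
    (hs : Submodule.span (A ⧸ I) (Set.range fun i => I.toCotangent (f i)) = ⊤) :
    Ideal.span (Set.range fun i => (f i : A)) = I := by
  apply le_antisymm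
  · rw [Ideal.span_le]
    rintro _ ⟨i, rfl⟩
    exact (f i).2
  · apply Submodule.le_of_le_smul_of_le_jacobson_bot hfg hI
    intro x hx
    have hmem : I.toCotangent ⟨x, hx⟩ ∈
        Submodule.span (A ⧸ I) (Set.range fun i => I.toCotangent (f i)) := by
      rw [hs]; trivial
    obtain ⟨c, hc⟩ := (Submodule.mem_span_range_iff_exists_fun _).1 hmem
    choose a ha using fun i => Ideal.Quotient.mk_surjective (I := I) (c i)
    have h1 := sum_smul_toCotangent I f a
    simp_rw [ha] at h1
    rw [h1, Ideal.toCotangent_eq] at hc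
    have hx' : x = (∑ i, a i * (f i : A)) - ((∑ i, a i * (f i : A)) - x) := by ring
    rw [hx']
    refine Submodule.sub_mem _ (Submodule.mem_sup_left ?_) (Submodule.mem_sup_right ?_)
    · exact Submodule.sum_mem _ fun i _ =>
        Ideal.mul_mem_left _ _ (Ideal.subset_span ⟨i, rfl⟩)
    · rw [Ideal.smul_eq_mul, ← pow_two]
      simpa using hc

/-- In a local ring, for an ideal generated by a quasi-regular sequence, a family in `I` is a
quasi-regular system of generators iff its classes form a basis of `I/I²`. -/
theorem isQuasiRegular_and_span_iff_cotangent_basis {A : Type u} [CommRing A] [IsLocalRing A]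
    (I : Ideal A) (hI : I ≤ IsLocalRing.maximalIdeal A)
    (hq : ∃ (r : ℕ) (g : Fin r → A), CAlgX.IsQuasiRegular g ∧ Ideal.span (Set.range g) = I)
    {m : ℕ} (f : Fin m → I) :
    (CAlgX.IsQuasiRegular (fun i => (f i : A)) ∧ Ideal.span (Set.range fun i => (f i : A)) = I) ↔
      (LinearIndependent (A ⧸ I) (fun i => I.toCotangent (f i)) ∧
        Submodule.span (A ⧸ I) (Set.range fun i => I.toCotangent (f i)) = ⊤) := by
  obtain ⟨r, g, hg, hgI⟩ := hq
  constructor
  · rintro ⟨h1, h2⟩
    exact cotangent_basis_of_isQuasiRegular I f h1 h2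
  · rintro ⟨hli, hsp⟩
    have hfg : I.FG := by
      rw [← hgI]
      exact Submodule.fg_span (Set.finite_range g)
    have hspan := span_eq_of_cotangent_span_eq_top I hfg
      (hI.trans (IsLocalRing.maximalIdeal_le_jacobson ⊥)) f hsp
    refine ⟨?_, hspan⟩
    have hgmem : ∀ i, g i ∈ I := fun i => by
      rw [← hgI]; exact Ideal.subset_span ⟨i, rfl⟩
    have hg' := cotangent_basis_of_isQuasiRegular I (fun i => (⟨g i, hgmem i⟩ : I)) hg hgI
    have : Nontrivial (A ⧸ I) := by
      rw [Ideal.Quotient.nontrivial_iff]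
      rintro rfl
      exact (IsLocalRing.maximalIdeal.isMaximal A).ne_top (top_le_iff.1 hI)
    let b1 := Module.Basis.mk hli (by rw [hsp])
    let b2 := Module.Basis.mk hg'.1 (by rw [hg'.2])
    have hmr : r = m := Fin.equiv_iff_eq.1 ⟨b2.indexEquiv b1⟩
    subst hmr
    exact isQuasiRegular_of_span_eq g _ hg (hspan.trans hgI.symm)

end main

end Groth.Agent.Lib.Helper12.QR
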