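import Mathlib
import Groth.Prelude.Def_CAlgX
import Groth.Agent.Lib.Helper12.QuasiReg

/-!
# Regular sequences are quasi-regular (ring case)
-/

universe u

namespace Groth.Agent.Lib.Helper12.QR

open MvPolynomial

section

variable {A : Type u} [CommRing A] {c : ℕ}

/-- The value at `g` of a monomial of degree `n` lies in `(g)^n`. -/
lemma eval_mem_pow_of_isHomogeneous (g : Fin c → A) {n : ℕ} {P : MvPolynomial (Fin c) A}
    (hP : P.IsHomogeneous n) : eval g P ∈ Ideal.span (Set.range g) ^ n :=
  (Ideal.mem_span_pow_iff_exists_isHomogeneous g _).2 ⟨P, hP, rfl⟩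

/-- A homogeneous polynomial of degree `n` with coefficients in `K` takes at `g` a value in
`K * (g)^n`. -/
lemma eval_mem_mul_pow_of_coeff_mem (g : Fin c → A) (K : Ideal A) {n : ℕ}
    {P : MvPolynomial (Fin c) A} (hP : P.IsHomogeneous n) (hK : ∀ d, P.coeff d ∈ K) :
    eval g P ∈ K * Ideal.span (Set.range g) ^ n := by
  classical
  rw [P.as_sum, map_sum]
  refine Ideal.sum_mem _ fun d hd => ?_
  have hdeg : d.degree = n := by
    by_contra h
    exact (mem_support_iff.1 hd) (hP.coeff_eq_zero h)
  have : monomial d (P.coeff d) = C (P.coeff d) * monomial d 1 := by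
    rw [C_mul_monomial, mul_one]
  rw [this, map_mul, eval_C]
  exact Ideal.mul_mem_mul (hK d)
    (eval_mem_pow_of_isHomogeneous g (isHomogeneous_monomial 1 hdeg))

/-- Every element of `J * (g)^n` is the value of a homogeneous polynomial of degree `n` with
coefficients in `J`. -/
lemma exists_of_mem_mul_pow (g : Fin c → A) (K : Ideal A) (n : ℕ) (y : A)
    (hy : y ∈ K * Ideal.span (Set.range g) ^ n) :
    ∃ Q : MvPolynomial (Fin c) A, Q.IsHomogeneous n ∧ (∀ d, Q.coeff d ∈ K) ∧ eval g Q = y := by
  refine Submodule.mul_induction_on hy ?_ ?_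
  · intro a ha b hb
    obtain ⟨Qb, hQb, rfl⟩ := (Ideal.mem_span_pow_iff_exists_isHomogeneous g _).1 hb
    refine ⟨C a * Qb, hQb.C_mul a, fun d => ?_, by simp⟩
    rw [coeff_C_mul]
    exact Ideal.mul_mem_right _ _ ha
  · rintro _ _ ⟨Q1, h1, h1', rfl⟩ ⟨Q2, h2, h2', rfl⟩
    exact ⟨Q1 + Q2, h1.add h2, fun d => by rw [coeff_add]; exact add_mem (h1' d) (h2' d),
      by simp⟩

/-- To check quasi-regularity in degree `n` it suffices to treat relations that vanish. -/
lemma qr_of_qr0 (g : Fin c → A) (n : ℕ)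
    (h0 : ∀ P : MvPolynomial (Fin c) A, P.IsHomogeneous n → eval g P = 0 →
      ∀ d, P.coeff d ∈ Ideal.span (Set.range g))
    (P : MvPolynomial (Fin c) A) (hP : P.IsHomogeneous n)
    (hev : eval g P ∈ Ideal.span (Set.range g) ^ (n + 1)) (d : Fin c →₀ ℕ) :
    P.coeff d ∈ Ideal.span (Set.range g) := by
  rw [pow_succ'] at hev
  obtain ⟨Q, hQ, hQc, hQe⟩ := exists_of_mem_mul_pow g _ n _ hev
  have := h0 (P - Q) (hP.sub hQ) (by rw [map_sub, hQe, sub_self]) d
  rw [coeff_sub] at this
  have h2 := add_mem this (hQc d)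
  rwa [sub_add_cancel] at h2

/-- If `g'` is quasi-regular and `x` is a nonzerodivisor modulo `(g')`, then `x` is a
nonzerodivisor modulo every power of `(g')`. -/
lemma mem_pow_of_mul_mem_pow (g' : Fin c → A) (hg' : CAlgX.IsQuasiRegular g') (x : A)
    (hx : ∀ a, x * a ∈ Ideal.span (Set.range g') → a ∈ Ideal.span (Set.range g')) :
    ∀ (n : ℕ) (a : A), x * a ∈ Ideal.span (Set.range g') ^ n →
      a ∈ Ideal.span (Set.range g') ^ n := by
  intro n
  induction n with
  | zero => intro a _; simp
  | succ n ih =>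
    intro a ha
    have h1 : a ∈ Ideal.span (Set.range g') ^ n :=
      ih a (Ideal.pow_le_pow_right (Nat.le_succ n) ha)
    obtain ⟨P, hP, rfl⟩ := (Ideal.mem_span_pow_iff_exists_isHomogeneous g' _).1 h1
    have hc : ∀ d, (C x * P).coeff d ∈ Ideal.span (Set.range g') :=
      hg' n (C x * P) (hP.C_mul x) (by simpa using ha)
    have hc' : ∀ d, P.coeff d ∈ Ideal.span (Set.range g') := fun d => by
      have := hc d
      rw [coeff_C_mul] at this
      exact hx _ this
    rw [pow_succ']
    exact eval_mem_mul_pow_of_coeff_mem g' _ hP hc'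

/-- Decomposition of a homogeneous polynomial in `c+1` variables along the variable `0`:
`P = H + X₀ G`. -/
lemma exists_decomp (P : MvPolynomial (Fin (c + 1)) A) (n : ℕ) (hP : P.IsHomogeneous (n + 1)) :
    ∃ (G : MvPolynomial (Fin (c + 1)) A) (H : MvPolynomial (Fin c) A),
      G.IsHomogeneous n ∧ H.IsHomogeneous (n + 1) ∧
      (∀ (x : A) (g' : Fin c → A), eval (Fin.cons x g' : Fin (c + 1) → A) P =
        eval g' H + x * eval (Fin.cons x g' : Fin (c + 1) → A) G) ∧
      (∀ K : Ideal A, (∀ d, G.coeff d ∈ K) → (∀ d, H.coeff d ∈ K) → ∀ d, P.coeff d ∈ K) := by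
  set q := finSuccEquiv A c P with hq
  set G := (finSuccEquiv A c).symm q.divX with hGdef
  have hG : finSuccEquiv A c G = q.divX := by rw [hGdef, AlgEquiv.apply_symm_apply]
  have coeffG : ∀ (m : Fin c →₀ ℕ) (i : ℕ), G.coeff (m.cons i) = P.coeff (m.cons (i + 1)) := by
    intro m i
    rw [← finSuccEquiv_coeff_coeff, hG, Polynomial.coeff_divX, hq, finSuccEquiv_coeff_coeff]
  refine ⟨G, q.coeff 0, ?_, IsHomogeneous.finSuccEquiv_coeff_isHomogeneous hP 0 (n + 1) (by simp), ?_, ?_⟩
  · intro d hd
    rw [← Finsupp.cons_tail d] at hd ⊢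
    rw [coeffG] at hd
    have h' := hP hd
    simp only [Finsupp.weight_apply, Pi.one_apply, smul_eq_mul, mul_one, Finsupp.sum_cons] at h' ⊢
    omega
  · intro x g'
    rw [eval_eq_eval_mv_eval', eval_eq_eval_mv_eval', hG, ← hq]
    have h1 : Polynomial.eval x (Polynomial.map (eval g') (q.divX * Polynomial.X +
        Polynomial.C (q.coeff 0))) =
        (eval g') (q.coeff 0) + x * Polynomial.eval x (Polynomial.map (eval g') q.divX) := by
      simp only [Polynomial.map_add, Polynomial.map_mul, Polynomial.map_X, Polynomial.map_C,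
        Polynomial.eval_add, Polynomial.eval_mul, Polynomial.eval_X, Polynomial.eval_C]
      ring
    rwa [Polynomial.divX_mul_X_add] at h1
  · intro K hGK hHK d
    rw [← Finsupp.cons_tail d]
    rcases Nat.eq_zero_or_eq_succ_pred (d 0) with h0 | h0
    · rw [h0, ← finSuccEquiv_coeff_coeff]
      exact hHK _
    · rw [h0, Nat.succ_eq_add_one, ← coeffG]
      exact hGK _

/-- Adding to a quasi-regular sequence an element which is a nonzerodivisor modulo the ideal of
the sequence gives a quasi-regular sequence. -/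
theorem isQuasiRegular_cons (g' : Fin c → A) (hg' : CAlgX.IsQuasiRegular g') (x : A)
    (hx : ∀ a, x * a ∈ Ideal.span (Set.range g') → a ∈ Ideal.span (Set.range g')) :
    CAlgX.IsQuasiRegular (Fin.cons x g' : Fin (c + 1) → A) := by
  have hxJ : x ∈ Ideal.span (Set.range (Fin.cons x g' : Fin (c + 1) → A)) :=
    Ideal.subset_span ⟨0, by simp⟩
  have hJ'J : Ideal.span (Set.range g') ≤
      Ideal.span (Set.range (Fin.cons x g' : Fin (c + 1) → A)) := by
    apply Ideal.span_mono
    rintro _ ⟨i, rfl⟩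
    exact ⟨i.succ, by simp⟩
  have key : ∀ (n : ℕ) (P : MvPolynomial (Fin (c + 1)) A), P.IsHomogeneous n →
      eval (Fin.cons x g' : Fin (c + 1) → A) P = 0 →
      ∀ d, P.coeff d ∈ Ideal.span (Set.range (Fin.cons x g' : Fin (c + 1) → A)) := by
    intro n
    induction n with
    | zero =>
      intro P hP hev d
      have hPC : P = C (P.coeff 0) :=
        totalDegree_eq_zero_iff_eq_C.1 ((totalDegree_zero_iff_isHomogeneous _).2 hP)
      rw [hPC, eval_C] at hev
      rw [hPC, hev]
      simp
    | succ n ih =>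
      intro P hP hev
      obtain ⟨G, H, hGh, hHh, hevd, hco⟩ := exists_decomp P n hP
      have h1 := hevd x g'
      rw [hev] at h1
      have hHmem : eval g' H ∈ Ideal.span (Set.range g') ^ (n + 1) :=
        eval_mem_pow_of_isHomogeneous g' hHh
      have hxG : x * eval (Fin.cons x g' : Fin (c + 1) → A) G ∈
          Ideal.span (Set.range g') ^ (n + 1) := by
        have : x * eval (Fin.cons x g' : Fin (c + 1) → A) G = -(eval g' H) := by
          linear_combination -h1
        rw [this]
        exact neg_mem hHmem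
      have hG' := mem_pow_of_mul_mem_pow g' hg' x hx (n + 1) _ hxG
      obtain ⟨H'', hH''h, hH''e⟩ := (Ideal.mem_span_pow_iff_exists_isHomogeneous g' _).1 hG'
      have hGc : ∀ d, G.coeff d ∈ Ideal.span (Set.range (Fin.cons x g' : Fin (c + 1) → A)) :=
        qr_of_qr0 _ n ih G hGh (Ideal.pow_right_mono hJ'J _ hG')
      have hHc' : ∀ d, (C x * H'' + H).coeff d ∈ Ideal.span (Set.range g') := by
        refine hg' (n + 1) _ ((hH''h.C_mul x).add hHh) ?_
        rw [map_add, map_mul, eval_C, hH''e]
        have : x * eval (Fin.cons x g' : Fin (c + 1) → A) G + eval g' H = 0 := by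
          linear_combination -h1
        rw [this]
        exact zero_mem _
      have hHc : ∀ d, H.coeff d ∈ Ideal.span (Set.range (Fin.cons x g' : Fin (c + 1) → A)) := by
        intro d
        have := hJ'J (hHc' d)
        rw [coeff_add, coeff_C_mul] at this
        have h2 := sub_mem this (Ideal.mul_mem_right (H''.coeff d) _ hxJ)
        rwa [add_sub_cancel_left] at h2
      exact hco _ hGc hHc
  intro n P hP hev d
  exact qr_of_qr0 _ n (key n) P hP hev d

lemma ofList_ofFn (g : Fin c → A) : Ideal.ofList (List.ofFn g) = Ideal.span (Set.range g) := by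
  unfold Ideal.ofList
  congr 1
  ext y
  simp [List.mem_ofFn]

omit [CommRing A] in
lemma range_eq_insert_last (f : Fin (c + 1) → A) :
    Set.range f = insert (f (Fin.last c)) (Set.range fun i : Fin c => f i.castSucc) := by
  ext y
  constructor
  · rintro ⟨i, rfl⟩
    refine Fin.lastCases ?_ (fun j => ?_) i
    · exact Set.mem_insert _ _
    · exact Set.mem_insert_of_mem _ ⟨j, rfl⟩
  · rintro (rfl | ⟨j, rfl⟩)
    · exact ⟨_, rfl⟩
    · exact ⟨_, rfl⟩

/-- A (weakly) regular sequence in a ring is quasi-regular. -/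
theorem isQuasiRegular_of_isWeaklyRegular : ∀ (c : ℕ) (f : Fin c → A),
    RingTheory.Sequence.IsWeaklyRegular A (List.ofFn f) → CAlgX.IsQuasiRegular f
  | 0, f, _ => by
    intro n P hP hev d
    have hPC : P = C (P.coeff 0) := eq_C_of_isEmpty P
    have hd : d = 0 := Subsingleton.elim _ _
    rw [hPC, eval_C] at hev
    rw [hd]
    exact Ideal.pow_le_self (Nat.succ_ne_zero n) hev
  | c + 1, f, h => by
    rw [List.ofFn_succ', List.concat_eq_append,
      RingTheory.Sequence.isWeaklyRegular_append_iff] at h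
    obtain ⟨h1, h2⟩ := h
    have ih := isQuasiRegular_of_isWeaklyRegular c (fun i => f i.castSucc) h1
    rw [RingTheory.Sequence.isWeaklyRegular_singleton_iff,
      isSMulRegular_on_quot_iff_lsmul_comap_le] at h2
    have hx : ∀ a, f (Fin.last c) * a ∈ Ideal.span (Set.range fun i : Fin c => f i.castSucc) →
        a ∈ Ideal.span (Set.range fun i : Fin c => f i.castSucc) := by
      intro a ha
      have hmem : a ∈ Submodule.comap (LinearMap.lsmul A A (f (Fin.last c)))
          (Ideal.ofList (List.ofFn fun i : Fin c => f i.castSucc) • (⊤ : Submodule A A)) := by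
        rw [Submodule.mem_comap, ofList_ofFn, Ideal.smul_top_eq_map, Algebra.algebraMap_self,
          Ideal.map_id]
        simpa using ha
      have := h2 hmem
      rw [ofList_ofFn, Ideal.smul_top_eq_map, Algebra.algebraMap_self, Ideal.map_id] at this
      simpa using this
    have hg := isQuasiRegular_cons (fun i : Fin c => f i.castSucc) ih (f (Fin.last c)) hx
    refine isQuasiRegular_of_span_eq _ f hg ?_
    rw [range_eq_insert_last, Fin.range_cons]

end

section inter

variable {A : Type u} [CommRing A]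

/-- Key step: for `f` regular on `A/J` and `R = (f)`, `J ∩ Rⁿ ≤ J Rⁿ + J ∩ Rⁿ⁺¹`. -/
lemma inf_pow_le_step (J : Ideal A) {r : ℕ} (f : Fin r → A)
    (hf : RingTheory.Sequence.IsWeaklyRegular (A ⧸ J) (List.ofFn f)) (n : ℕ) :
    J ⊓ Ideal.span (Set.range f) ^ n ≤
      J * Ideal.span (Set.range f) ^ n ⊔ J ⊓ Ideal.span (Set.range f) ^ (n + 1) := by
  have hf' : RingTheory.Sequence.IsWeaklyRegular (A ⧸ J)
      (List.ofFn (fun i => Ideal.Quotient.mk J (f i))) := by
    have := (RingTheory.Sequence.isWeaklyRegular_map_algebraMap_iff (A ⧸ J) (A ⧸ J)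
      (List.ofFn f)).2 hf
    rwa [List.map_ofFn] at this
  have hqr := isQuasiRegular_of_isWeaklyRegular r _ hf'
  have hspan : Ideal.span (Set.range fun i => Ideal.Quotient.mk J (f i)) =
      (Ideal.span (Set.range f)).map (Ideal.Quotient.mk J) := by
    rw [Ideal.map_span, ← Set.range_comp]
    rfl
  rintro x ⟨hxJ, hxR⟩
  obtain ⟨P, hP, rfl⟩ := (Ideal.mem_span_pow_iff_exists_isHomogeneous f _).1 hxR
  have hev : eval (fun i => Ideal.Quotient.mk J (f i)) (map (Ideal.Quotient.mk J) P) = 0 := by
    have h1 : eval (fun i => Ideal.Quotient.mk J (f i)) (map (Ideal.Quotient.mk J) P) =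
        Ideal.Quotient.mk J (eval f P) := by
      rw [eval_map]
      exact (eval₂_comp (Ideal.Quotient.mk J) f P).symm
    rw [h1]
    exact Ideal.Quotient.eq_zero_iff_mem.2 hxJ
  have hco : ∀ d, P.coeff d ∈ J ⊔ Ideal.span (Set.range f) := by
    intro d
    have := hqr n _ (hP.map _) (by rw [hev]; exact zero_mem _) d
    rw [coeff_map, hspan, ← Ideal.mem_comap,
      Ideal.comap_map_of_surjective _ Ideal.Quotient.mk_surjective,
      ← RingHom.ker_eq_comap_bot, Ideal.mk_ker] at this
    rwa [sup_comm]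
  have hmem := eval_mem_mul_pow_of_coeff_mem f _ hP hco
  rw [Ideal.sup_mul, ← pow_succ'] at hmem
  obtain ⟨a, ha, b, hb, hab⟩ := Submodule.mem_sup.1 hmem
  refine Submodule.mem_sup.2 ⟨a, ha, b, ⟨?_, hb⟩, hab⟩
  have hb' : b = eval f P - a := by rw [← hab]; ring
  rw [hb']
  exact sub_mem hxJ (Ideal.mul_le_left ha)

/-- For `f` regular on `A/J` and `R = (f)`: `J ∩ Rⁿ = J Rⁿ + J ∩ R^N` for `n ≤ N`. -/
theorem inf_pow_eq_mul_pow_sup_inf_pow (J : Ideal A) {r : ℕ} (f : Fin r → A)
    (hf : RingTheory.Sequence.IsWeaklyRegular (A ⧸ J) (List.ofFn f)) (n N : ℕ) (hnN : n ≤ N) :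
    J ⊓ Ideal.span (Set.range f) ^ n =
      J * Ideal.span (Set.range f) ^ n ⊔ J ⊓ Ideal.span (Set.range f) ^ N := by
  apply le_antisymm
  · obtain ⟨k, rfl⟩ := Nat.exists_eq_add_of_le hnN
    induction k with
    | zero => exact le_sup_right
    | succ k ih =>
      refine (ih (Nat.le_add_right _ _)).trans (sup_le le_sup_left ?_)
      refine (inf_pow_le_step J f hf (n + k)).trans (sup_le ?_ ?_)
      · exact le_sup_of_le_left
          (Ideal.mul_mono_right (Ideal.pow_le_pow_right (Nat.le_add_right _ _)))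
      · rw [add_assoc]
        exact le_sup_right
  · exact sup_le (le_inf Ideal.mul_le_left Ideal.mul_le_right)
      (inf_le_inf_left _ (Ideal.pow_le_pow_right hnN))

/-- Krull: in a Noetherian ring, an ideal is closed for the `R`-adic topology when `R` is in the
Jacobson radical. -/
lemma mem_of_forall_mem_sup_pow [IsNoetherianRing A] (K R : Ideal A)
    (hR : R ≤ Ideal.jacobson ⊥) (x : A) (hx : ∀ N : ℕ, x ∈ K ⊔ R ^ N) : x ∈ K := by
  have h := Ideal.iInf_pow_smul_eq_bot_of_le_jacobson (M := A ⧸ K) R hR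
  have hmem : (Submodule.Quotient.mk x : A ⧸ K) ∈ (⨅ i : ℕ, R ^ i • ⊤ : Submodule A (A ⧸ K)) := by
    rw [Submodule.mem_iInf]
    intro i
    obtain ⟨a, ha, b, hb, hab⟩ := Submodule.mem_sup.1 (hx i)
    have : (Submodule.Quotient.mk x : A ⧸ K) = b • (Submodule.Quotient.mk 1 : A ⧸ K) := by
      rw [← Submodule.Quotient.mk_smul, smul_eq_mul, mul_one, ← hab, Submodule.Quotient.mk_add,
        (Submodule.Quotient.mk_eq_zero K).2 ha, zero_add]
    rw [this]
    exact Submodule.smul_mem_smul hb trivial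
  rw [h, Submodule.mem_bot] at hmem
  exact (Submodule.Quotient.mk_eq_zero K).1 hmem

theorem inf_pow_eq_mul_pow_of_le_jacobson [IsNoetherianRing A] (J : Ideal A)
    {r : ℕ} (f : Fin r → A) (hf : RingTheory.Sequence.IsWeaklyRegular (A ⧸ J) (List.ofFn f))
    (hrad : Ideal.span (Set.range f) ≤ (⊥ : Ideal A).jacobson) :
    (∀ n : ℕ, J ⊓ Ideal.span (Set.range f) ^ n = J * Ideal.span (Set.range f) ^ n) ∧
      J ⊓ (J ⊔ Ideal.span (Set.range f)) ^ 2 = J * (J ⊔ Ideal.span (Set.range f)) := by
  have h1 : ∀ n : ℕ, J ⊓ Ideal.span (Set.range f) ^ n = J * Ideal.span (Set.range f) ^ n := by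
    intro n
    apply le_antisymm
    · intro x hx
      apply mem_of_forall_mem_sup_pow _ _ hrad
      intro N
      rcases le_total n N with hnN | hNn
      · rw [inf_pow_eq_mul_pow_sup_inf_pow J f hf n N hnN] at hx
        have hle : J * Ideal.span (Set.range f) ^ n ⊔ J ⊓ Ideal.span (Set.range f) ^ N ≤
            J * Ideal.span (Set.range f) ^ n ⊔ Ideal.span (Set.range f) ^ N :=
          sup_le_sup_left inf_le_right _
        exact hle hx
      · exact Submodule.mem_sup_right (Ideal.pow_le_pow_right hNn hx.2)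
    · exact le_inf Ideal.mul_le_left Ideal.mul_le_right
  refine ⟨h1, ?_⟩
  set R := Ideal.span (Set.range f) with hR
  apply le_antisymm
  · rintro x ⟨hxJ, hxQ⟩
    have hQ2 : (J ⊔ R) ^ 2 = J * (J ⊔ R) ⊔ R ^ 2 := by
      apply le_antisymm
      · rw [pow_two, Ideal.sup_mul]
        refine sup_le le_sup_left ?_
        rw [Ideal.mul_sup]
        refine sup_le ?_ ?_
        · rw [mul_comm]
          exact le_sup_of_le_left (Ideal.mul_mono_right le_sup_right)
        · rw [pow_two]; exact le_sup_right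
      · refine sup_le ?_ (Ideal.pow_right_mono le_sup_right 2)
        rw [pow_two]
        exact Ideal.mul_mono_left le_sup_left
    rw [hQ2] at hxQ
    obtain ⟨a, ha, b, hb, hab⟩ := Submodule.mem_sup.1 hxQ
    have hbJ : b ∈ J := by
      have hb' : b = x - a := by rw [← hab]; ring
      rw [hb']
      exact sub_mem hxJ (Ideal.mul_le_left ha)
    have hb2 : b ∈ J * R ^ 2 := by
      rw [← h1 2]
      exact ⟨hbJ, hb⟩
    rw [← hab]
    refine add_mem ha (Ideal.mul_mono_right ?_ hb2)
    exact (Ideal.pow_le_self two_ne_zero).trans le_sup_right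
  · refine le_inf Ideal.mul_le_left ?_
    rw [pow_two]
    exact Ideal.mul_mono_left le_sup_left

end inter

end Groth.Agent.Lib.Helper12.QR
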