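import Mathlib

set_option autoImplicit false
universe u v w u'

open CategoryTheory TensorProduct

/-! # Vanishing of tensors along a directed system of algebras (elementwise form) -/

namespace Groth.Agent.Lib.Helper12.H12ModLim


section Sys

variable {A₀ B : Type u} [CommRing A₀] [CommRing B] [Algebra A₀ B]
  {K : Type v} [Category.{w} K] (A : K → Type u) [∀ k, CommRing (A k)] [∀ k, Algebra A₀ (A k)]
  (ρ : ∀ k, A k →ₐ[A₀] B) (τ : ∀ {k k' : K}, (k ⟶ k') → (A k →ₐ[A₀] A k'))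
  (τ_comp : ∀ {k k' k'' : K} (f : k ⟶ k') (g : k' ⟶ k'') (a : A k), τ (f ≫ g) a = τ g (τ f a))
  (ρ_τ : ∀ {k k' : K} (f : k ⟶ k') (a : A k), ρ k' (τ f a) = ρ k a)
  (dir : ∀ k k' : K, ∃ k'' : K, Nonempty (k ⟶ k'') ∧ Nonempty (k' ⟶ k''))
  (E1 : ∀ b : B, ∃ (k : K) (a : A k), ρ k a = b)
  (E2 : ∀ (k : K) (a : A k), ρ k a = 0 → ∃ (k' : K) (f : k ⟶ k'), τ f a = 0)

include ρ_τ dir E1 in
theorem exists_common_lift {ι : Type*} [DecidableEq ι] (S : Finset ι) (b : ι → B) (k : K) :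
    ∃ (k' : K) (_ : k ⟶ k') (a' : ι → A k'), ∀ t ∈ S, ρ k' (a' t) = b t := by
  induction S using Finset.induction_on with
  | empty => exact ⟨k, 𝟙 k, fun _ => 0, fun t ht => absurd ht (Finset.notMem_empty t)⟩
  | insert t₀ S ht₀ ih =>
    obtain ⟨k', f, a', ha'⟩ := ih
    obtain ⟨k₁, a₁, ha₁⟩ := E1 (b t₀)
    obtain ⟨k'', ⟨g⟩, ⟨g₁⟩⟩ := dir k' k₁
    refine ⟨k'', f ≫ g, fun t => if t = t₀ then τ g₁ a₁ else τ g (a' t), fun t ht => ?_⟩
    by_cases h : t = t₀
    · subst h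
      simp only [if_true]
      rw [ρ_τ, ha₁]
    · simp only [if_neg h]
      rw [ρ_τ]
      exact ha' t ((Finset.mem_insert.mp ht).resolve_left h)

include τ_comp ρ_τ E2 in
theorem exists_common_kill {ι : Type*} [DecidableEq ι] (S : Finset ι) (k : K) (e : ι → A k)
    (he : ∀ t ∈ S, ρ k (e t) = 0) :
    ∃ (k' : K) (f : k ⟶ k'), ∀ t ∈ S, τ f (e t) = 0 := by
  induction S using Finset.induction_on with
  | empty => exact ⟨k, 𝟙 k, fun t ht => absurd ht (Finset.notMem_empty t)⟩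
  | insert t₀ S ht₀ ih =>
    obtain ⟨k', f, hf⟩ := ih (fun t ht => he t (Finset.mem_insert_of_mem ht))
    have h0 : ρ k' (τ f (e t₀)) = 0 := by
      rw [ρ_τ]; exact he t₀ (Finset.mem_insert_self _ _)
    obtain ⟨k'', g, hg⟩ := E2 k' _ h0
    refine ⟨k'', f ≫ g, fun t ht => ?_⟩
    rw [τ_comp]
    rcases Finset.mem_insert.mp ht with rfl | ht
    · exact hg
    · rw [hf t ht, map_zero]

include τ_comp ρ_τ dir E1 E2 in
theorem exists_rTensor_eq_zero (N : Type u') [AddCommGroup N] [Module A₀ N] (k : K)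
    (x : A k ⊗[A₀] N) (hx : (ρ k).toLinearMap.rTensor N x = 0) :
    ∃ (k' : K) (f : k ⟶ k'), (τ f).toLinearMap.rTensor N x = 0 := by
  classical
  obtain ⟨r, a, n, rfl⟩ := TensorProduct.exists_sum_tmul_eq x
  let P : Submodule A₀ B := Submodule.span A₀ (Set.range fun l => ρ k (a l))
  have hP : P.FG := Submodule.fg_span (Set.finite_range _)
  have haP : ∀ l, ρ k (a l) ∈ P := fun l => Submodule.subset_span ⟨l, rfl⟩
  let t : P ⊗[A₀] N := ∑ l, (⟨ρ k (a l), haP l⟩ : P) ⊗ₜ n l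
  have ht : LinearMap.rTensor N P.subtype t = 0 := by
    simp only [t, map_sum, LinearMap.rTensor_tmul, Submodule.subtype_apply]
    simpa [map_sum, LinearMap.rTensor_tmul] using hx
  obtain ⟨Q, hPQ, hQ, hQt⟩ := TensorProduct.eq_zero_of_fg_of_subtype_eq_zero hP ht
  obtain ⟨s, q, hq⟩ := Submodule.fg_iff_exists_fin_generating_family.mp hQ
  have hqQ : ∀ i, q i ∈ Q := fun i => hq ▸ Submodule.subset_span ⟨i, rfl⟩
  let m : Fin r ⊕ Fin s → Q :=
    Sum.elim (fun l => ⟨ρ k (a l), hPQ (haP l)⟩) (fun i => ⟨q i, hqQ i⟩)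
  let nn : Fin r ⊕ Fin s → N := Sum.elim n (fun _ => 0)
  have hm : Submodule.span A₀ (Set.range m) = ⊤ := by
    rw [eq_top_iff]
    rintro ⟨z, hz⟩ -
    have hz' : z ∈ Submodule.span A₀ (Set.range q) := hq ▸ hz
    have : (⟨z, hz⟩ : Q) ∈ Submodule.span A₀ (Set.range m) := by
      have key : ∀ z (hz' : z ∈ Submodule.span A₀ (Set.range q)),
          ∃ hzQ : z ∈ Q, (⟨z, hzQ⟩ : Q) ∈ Submodule.span A₀ (Set.range m) := by
        intro z hz'
        refine Submodule.span_induction (p := fun z _ => ∃ hzQ : z ∈ Q,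
          (⟨z, hzQ⟩ : Q) ∈ Submodule.span A₀ (Set.range m)) ?_ ?_ ?_ ?_ hz'
        · rintro _ ⟨i, rfl⟩
          exact ⟨hqQ i, Submodule.subset_span ⟨Sum.inr i, rfl⟩⟩
        · exact ⟨Q.zero_mem, by
            have : (⟨0, Q.zero_mem⟩ : Q) = 0 := rfl
            rw [this]; exact Submodule.zero_mem _⟩
        · rintro x y _ _ ⟨hx, hx'⟩ ⟨hy, hy'⟩
          exact ⟨Q.add_mem hx hy, by
            have : (⟨x + y, Q.add_mem hx hy⟩ : Q) = ⟨x, hx⟩ + ⟨y, hy⟩ := rfl
            rw [this]; exact Submodule.add_mem _ hx' hy'⟩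
        · rintro c x _ ⟨hx, hx'⟩
          exact ⟨Q.smul_mem c hx, by
            have : (⟨c • x, Q.smul_mem c hx⟩ : Q) = c • ⟨x, hx⟩ := rfl
            rw [this]; exact Submodule.smul_mem _ c hx'⟩
      exact (key z hz').2
    exact this
  have hmn : ∑ i, m i ⊗ₜ[A₀] nn i = 0 := by
    rw [Fintype.sum_sum_type]
    simp only [m, nn, Sum.elim_inl, Sum.elim_inr, tmul_zero, Finset.sum_const_zero, add_zero]
    rw [← hQt]
    simp only [t, map_sum, LinearMap.rTensor_tmul]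
    rfl
  obtain ⟨κ, cc, y, h1, h2⟩ := TensorProduct.vanishesTrivially_of_sum_tmul_eq_zero A₀ hm hmn
  obtain ⟨k', f, q', hq'⟩ := exists_common_lift A ρ τ ρ_τ dir E1 Finset.univ q k
  let m' : Fin r ⊕ Fin s → A k' := Sum.elim (fun l => τ f (a l)) q'
  have hm' : ∀ i, ρ k' (m' i) = (m i : B) := by
    rintro (l | i)
    · simp only [m', m, Sum.elim_inl]; rw [ρ_τ]
    · simp only [m', m, Sum.elim_inr]; exact hq' i (Finset.mem_univ _)
  let e : Fin κ → A k' := fun j => ∑ i, cc i j • m' i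
  have he : ∀ j ∈ (Finset.univ : Finset (Fin κ)), ρ k' (e j) = 0 := by
    intro j _
    simp only [e, map_sum, map_smul, hm']
    have := congrArg (Subtype.val) (h2 j)
    simpa using this
  obtain ⟨k'', g, hg⟩ := exists_common_kill A ρ τ τ_comp ρ_τ E2 Finset.univ k' e he
  refine ⟨k'', f ≫ g, ?_⟩
  have hv : TensorProduct.VanishesTrivially A₀ (fun i => τ g (m' i)) nn := by
    refine ⟨κ, cc, y, h1, fun j => ?_⟩
    have := hg j (Finset.mem_univ _)
    simpa [e, map_sum, map_smul] using this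
  have h3 := TensorProduct.sum_tmul_eq_zero_of_vanishesTrivially A₀ hv
  rw [Fintype.sum_sum_type] at h3
  simp only [m', nn, Sum.elim_inl, Sum.elim_inr, tmul_zero, Finset.sum_const_zero, add_zero] at h3
  simp only [map_sum, LinearMap.rTensor_tmul, AlgHom.toLinearMap_apply, τ_comp]
  exact h3

end Sys

end Groth.Agent.Lib.Helper12.H12ModLim
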