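import Mathlib
import Groth.Agent.Lib.Helper12.ModLim2

set_option autoImplicit false
universe u

open CategoryTheory CategoryTheory.Limits AlgebraicGeometry TopologicalSpace Opposite TensorProduct

/-! # The directed system of section rings over an affine open of a stage -/

namespace Groth.Agent.Lib.Helper12.H12ModLim


theorem appLE_congr_hom {X Y : Scheme.{u}} {f g : X ⟶ Y} (h : f = g) (U : Y.Opens) (W : X.Opens)
    (e : W ≤ f ⁻¹ᵁ U) (e' : W ≤ g ⁻¹ᵁ U) : f.appLE U W e = g.appLE U W e' := by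
  subst h; rfl

section Sys
variable {I : Type u} [SmallCategory I] (D : I ⥤ Scheme.{u}) (c : Cone D)
  (i₀ : I) (V : (D.obj i₀).Opens)

/-- Sections over the preimage of `V` at the stage `k`. -/
def StA (k : (Over i₀)ᵒᵖ) : Type u := Γ(D.obj k.unop.left, D.map k.unop.hom ⁻¹ᵁ V)

noncomputable instance (k : (Over i₀)ᵒᵖ) : CommRing (StA D i₀ V k) :=
  inferInstanceAs (CommRing Γ(D.obj k.unop.left, D.map k.unop.hom ⁻¹ᵁ V))

noncomputable instance (k : (Over i₀)ᵒᵖ) : Algebra Γ(D.obj i₀, V) (StA D i₀ V k) :=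
  ((D.map k.unop.hom).appLE V (D.map k.unop.hom ⁻¹ᵁ V) le_rfl).hom.toAlgebra

/-- Sections over the preimage of `V` in the limit. -/
def StB : Type u := Γ(c.pt, c.π.app i₀ ⁻¹ᵁ V)

noncomputable instance : CommRing (StB D c i₀ V) :=
  inferInstanceAs (CommRing Γ(c.pt, c.π.app i₀ ⁻¹ᵁ V))

noncomputable instance : Algebra Γ(D.obj i₀, V) (StB D c i₀ V) :=
  ((c.π.app i₀).appLE V (c.π.app i₀ ⁻¹ᵁ V) le_rfl).hom.toAlgebra

theorem algebraMap_StA (k : (Over i₀)ᵒᵖ) (r : Γ(D.obj i₀, V)) :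
    algebraMap Γ(D.obj i₀, V) (StA D i₀ V k) r =
      (D.map k.unop.hom).appLE V (D.map k.unop.hom ⁻¹ᵁ V) le_rfl r := rfl

theorem algebraMap_StB (r : Γ(D.obj i₀, V)) :
    algebraMap Γ(D.obj i₀, V) (StB D c i₀ V) r =
      (c.π.app i₀).appLE V (c.π.app i₀ ⁻¹ᵁ V) le_rfl r := rfl

/-- The map from stage `k` to the limit. -/
noncomputable def stρ (k : (Over i₀)ᵒᵖ) : StA D i₀ V k →ₐ[Γ(D.obj i₀, V)] StB D c i₀ V where
  toRingHom := ((c.π.app k.unop.left).appLE (D.map k.unop.hom ⁻¹ᵁ V) (c.π.app i₀ ⁻¹ᵁ V)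
    (by rw [← Scheme.Hom.comp_preimage, c.w])).hom
  commutes' r := by
    rw [algebraMap_StA, algebraMap_StB]
    change ((D.map k.unop.hom).appLE V (D.map k.unop.hom ⁻¹ᵁ V) le_rfl ≫
      (c.π.app k.unop.left).appLE (D.map k.unop.hom ⁻¹ᵁ V) (c.π.app i₀ ⁻¹ᵁ V) _) r = _
    rw [Scheme.Hom.appLE_comp_appLE]
    exact ConcreteCategory.congr_hom (appLE_congr_hom (c.w k.unop.hom) _ _ _ _) r

/-- The transition maps. -/
noncomputable def stτ {k k' : (Over i₀)ᵒᵖ} (g : k ⟶ k') :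
    StA D i₀ V k →ₐ[Γ(D.obj i₀, V)] StA D i₀ V k' where
  toRingHom := ((D.map g.unop.left).appLE (D.map k.unop.hom ⁻¹ᵁ V) (D.map k'.unop.hom ⁻¹ᵁ V)
    (by rw [← Scheme.Hom.comp_preimage, ← D.map_comp, Over.w g.unop])).hom
  commutes' r := by
    rw [algebraMap_StA, algebraMap_StA]
    change ((D.map k.unop.hom).appLE V (D.map k.unop.hom ⁻¹ᵁ V) le_rfl ≫
      (D.map g.unop.left).appLE (D.map k.unop.hom ⁻¹ᵁ V) (D.map k'.unop.hom ⁻¹ᵁ V) _) r = _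
    rw [Scheme.Hom.appLE_comp_appLE]
    refine ConcreteCategory.congr_hom (appLE_congr_hom ?_ _ _ _ _) r
    rw [← D.map_comp, Over.w g.unop]

theorem stτ_comp {k k' k'' : (Over i₀)ᵒᵖ} (f : k ⟶ k') (g : k' ⟶ k'') (a : StA D i₀ V k) :
    stτ D i₀ V (f ≫ g) a = stτ D i₀ V g (stτ D i₀ V f a) := by
  change _ = ((D.map f.unop.left).appLE _ _ _ ≫ (D.map g.unop.left).appLE _ _ _) a
  rw [Scheme.Hom.appLE_comp_appLE]
  refine ConcreteCategory.congr_hom (appLE_congr_hom ?_ _ _ _ _) a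
  rw [← D.map_comp]; rfl

theorem stρ_τ {k k' : (Over i₀)ᵒᵖ} (f : k ⟶ k') (a : StA D i₀ V k) :
    stρ D c i₀ V k' (stτ D i₀ V f a) = stρ D c i₀ V k a := by
  change ((D.map f.unop.left).appLE _ _ _ ≫ (c.π.app k'.unop.left).appLE _ _ _) a = _
  rw [Scheme.Hom.appLE_comp_appLE]
  exact ConcreteCategory.congr_hom (appLE_congr_hom (c.w f.unop.left) _ _ _ _) a

end Sys


section SysApply
variable {I : Type u} [SmallCategory I] (D : I ⥤ Scheme.{u}) (c : Cone D)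
  (i₀ : I) (V : (D.obj i₀).Opens)

theorem stρ_apply (k : (Over i₀)ᵒᵖ) (a : StA D i₀ V k) :
    stρ D c i₀ V k a = (c.π.app k.unop.left).appLE (D.map k.unop.hom ⁻¹ᵁ V) (c.π.app i₀ ⁻¹ᵁ V)
    (by rw [← Scheme.Hom.comp_preimage, c.w]) a := rfl

theorem stτ_apply {k k' : (Over i₀)ᵒᵖ} (g : k ⟶ k') (a : StA D i₀ V k) :
    stτ D i₀ V g a = (D.map g.unop.left).appLE (D.map k.unop.hom ⁻¹ᵁ V) (D.map k'.unop.hom ⁻¹ᵁ V)
    (by rw [← Scheme.Hom.comp_preimage, ← D.map_comp, Over.w g.unop]) a := rfl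

end SysApply


section Lim
variable {I : Type u} [SmallCategory I] [IsCofiltered I] (D : I ⥤ Scheme.{u}) (c : Cone D)
  (hc : IsLimit c)

set_option backward.defeqAttrib.useBackward true in
set_option backward.isDefEq.respectTransparency false in
theorem topIso_appTop_topIso (i₀ : I) (V : (D.obj i₀).Opens) (k : Over i₀) :
    (D.map k.hom ⁻¹ᵁ V).topIso.inv ≫ ((opensCone D c i₀ V).π.app k).appTop ≫
        (c.π.app i₀ ⁻¹ᵁ V).topIso.hom =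
      (c.π.app k.left).appLE (D.map k.hom ⁻¹ᵁ V) (c.π.app i₀ ⁻¹ᵁ V)
        (by rw [← Scheme.Hom.comp_preimage, c.w]) := by
  simp [Scheme.Hom.app_eq_appLE, Scheme.Hom.resLE_appLE]

include hc in
theorem exists_appLE_eq [∀ {i j : I} (f : i ⟶ j), IsAffineHom (D.map f)] (i₀ : I)
    (V : (D.obj i₀).Opens) (hV : IsAffineOpen V) (b : Γ(c.pt, c.π.app i₀ ⁻¹ᵁ V)) :
    ∃ (k : Over i₀) (a : Γ(D.obj k.left, D.map k.hom ⁻¹ᵁ V)),
      (c.π.app k.left).appLE (D.map k.hom ⁻¹ᵁ V) (c.π.app i₀ ⁻¹ᵁ V)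
        (by rw [← Scheme.Hom.comp_preimage, c.w]) a = b := by
  have : ∀ k, IsAffine ((opensDiagram D i₀ V).obj k) := fun k => hV.preimage _
  obtain ⟨k, t, ht⟩ := exists_appTop_π_eq_of_isAffine_of_isLimit _ _
    (isLimitOpensCone D c hc i₀ V) ((c.π.app i₀ ⁻¹ᵁ V).topIso.inv b)
  refine ⟨k, (D.map k.hom ⁻¹ᵁ V).topIso.hom t, ?_⟩
  have e := ConcreteCategory.congr_hom (topIso_appTop_topIso D c i₀ V k)
    ((D.map k.hom ⁻¹ᵁ V).topIso.hom t)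
  rw [← e]
  have h1 : (D.map k.hom ⁻¹ᵁ V).topIso.inv ((D.map k.hom ⁻¹ᵁ V).topIso.hom t) = t := by
    rw [← CommRingCat.comp_apply, Iso.hom_inv_id]; rfl
  have h2 : (c.π.app i₀ ⁻¹ᵁ V).topIso.hom ((c.π.app i₀ ⁻¹ᵁ V).topIso.inv b) = b := by
    rw [← CommRingCat.comp_apply, Iso.inv_hom_id]; rfl
  change (c.π.app i₀ ⁻¹ᵁ V).topIso.hom (((opensCone D c i₀ V).π.app k).appTop
    ((D.map k.hom ⁻¹ᵁ V).topIso.inv ((D.map k.hom ⁻¹ᵁ V).topIso.hom t))) = b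
  rw [h1]
  exact (congrArg _ ht).trans h2

end Lim



theorem app_eq_zero_of_appLE_eq_zero {X Y : Scheme.{u}} (f : X ⟶ Y) (U : Y.Opens) (W : X.Opens)
    (e : W ≤ f ⁻¹ᵁ U) (e' : f ⁻¹ᵁ U ≤ W) (a : Γ(Y, U)) (h : f.appLE U W e a = 0) :
    f.app U a = 0 := by
  obtain rfl : W = f ⁻¹ᵁ U := le_antisymm e e'
  rw [← Scheme.Hom.app_eq_appLE] at h
  exact h

theorem appLE_eq_zero_of_app_eq_zero {X Y : Scheme.{u}} (f : X ⟶ Y) (U : Y.Opens) (W : X.Opens)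
    (e : W ≤ f ⁻¹ᵁ U) (a : Γ(Y, U)) (h : f.app U a = 0) : f.appLE U W e a = 0 := by
  rw [Scheme.Hom.appLE, CommRingCat.comp_apply, h, map_zero]

section Lim
variable {I : Type u} [SmallCategory I] [IsCofiltered I] (D : I ⥤ Scheme.{u}) (c : Cone D)
  (hc : IsLimit c)

include hc in
theorem exists_appLE_eq_zero [∀ {i j : I} (f : i ⟶ j), IsAffineHom (D.map f)] (i₀ : I)
    (V : (D.obj i₀).Opens) (hV : IsAffineOpen V) (k : Over i₀)
    (a : Γ(D.obj k.left, D.map k.hom ⁻¹ᵁ V))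
    (ha : (c.π.app k.left).appLE (D.map k.hom ⁻¹ᵁ V) (c.π.app i₀ ⁻¹ᵁ V)
        (by rw [← Scheme.Hom.comp_preimage, c.w]) a = 0) :
    ∃ (k' : Over i₀) (g : k' ⟶ k),
      (D.map g.left).appLE (D.map k.hom ⁻¹ᵁ V) (D.map k'.hom ⁻¹ᵁ V)
        (by rw [← Scheme.Hom.comp_preimage, ← D.map_comp, Over.w g]) a = 0 := by
  have hW : c.π.app k.left ⁻¹ᵁ (D.map k.hom ⁻¹ᵁ V) = c.π.app i₀ ⁻¹ᵁ V := by
    rw [← Scheme.Hom.comp_preimage, c.w]
  have hs : (c.π.app k.left).app (D.map k.hom ⁻¹ᵁ V) a = 0 :=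
    app_eq_zero_of_appLE_eq_zero (X := c.pt) (c.π.app k.left) _ _ hW.ge hW.le a ha
  obtain ⟨j', f, hf⟩ := exists_app_map_eq_zero_of_isLimit D c hc
    ((hV.preimage (D.map k.hom)).isCompact) a hs
  refine ⟨Over.mk (f ≫ k.hom), Over.homMk f, ?_⟩
  exact appLE_eq_zero_of_app_eq_zero (D.map f) _ _ _ a hf

end Lim


section Lim2
variable {I : Type u} [SmallCategory I] [IsCofiltered I] (D : I ⥤ Scheme.{u}) (c : Cone D)
  (hc : IsLimit c) [∀ {i j : I} (f : i ⟶ j), IsAffineHom (D.map f)]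

variable (i₀ : I) (V : (D.obj i₀).Opens)

include hc in
theorem exists_stage_rTensor_eq_zero (hV : IsAffineOpen V) (N : Type u) [AddCommGroup N]
    [Module Γ(D.obj i₀, V) N] (k : (Over i₀)ᵒᵖ) (x : StA D i₀ V k ⊗[Γ(D.obj i₀, V)] N)
    (hx : (stρ D c i₀ V k).toLinearMap.rTensor N x = 0) :
    ∃ (k' : (Over i₀)ᵒᵖ) (f : k ⟶ k'), (stτ D i₀ V f).toLinearMap.rTensor N x = 0 := by
  refine exists_rTensor_eq_zero (StA D i₀ V) (stρ D c i₀ V) (fun f => stτ D i₀ V f)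
    (fun f g a => stτ_comp D i₀ V f g a) (fun f a => stρ_τ D c i₀ V f a) ?_ ?_ ?_ N k x hx
  · intro k k'
    exact ⟨IsFiltered.max k k', ⟨IsFiltered.leftToMax k k'⟩, ⟨IsFiltered.rightToMax k k'⟩⟩
  · intro b
    obtain ⟨k, a, ha⟩ := exists_appLE_eq D c hc i₀ V hV b
    exact ⟨op k, a, (stρ_apply D c i₀ V (op k) a).trans ha⟩
  · intro k a ha
    rw [stρ_apply] at ha
    obtain ⟨k', g, hg⟩ := exists_appLE_eq_zero D c hc i₀ V hV k.unop a ha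
    exact ⟨op k', g.op, (stτ_apply D i₀ V g.op a).trans hg⟩


end Lim2

end Groth.Agent.Lib.Helper12.H12ModLim
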