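import Mathlib
import Groth.Agent.Lib.Helper12.ModLim3

set_option autoImplicit false
universe u v w

open CategoryTheory CategoryTheory.Limits AlgebraicGeometry TopologicalSpace Opposite TensorProduct

namespace Groth.Agent.Lib.Helper12.H12FlatLim

open Groth.Agent.Lib.Helper12.H12ModLim

section Sys

variable {A₀ B : Type u} [CommRing A₀] [CommRing B] [Algebra A₀ B]
  {K : Type v} [Category.{w} K] (A : K → Type u) [∀ k, CommRing (A k)] [∀ k, Algebra A₀ (A k)]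
  (ρ : ∀ k, A k →ₐ[A₀] B) (τ : ∀ {k k' : K}, (k ⟶ k') → (A k →ₐ[A₀] A k'))
  (τ_comp : ∀ {k k' k'' : K} (f : k ⟶ k') (g : k' ⟶ k'') (a : A k), τ (f ≫ g) a = τ g (τ f a))
  (ρ_τ : ∀ {k k' : K} (f : k ⟶ k') (a : A k), ρ k' (τ f a) = ρ k a)
  (dir : ∀ k k' : K, ∃ k'' : K, Nonempty (k ⟶ k'') ∧ Nonempty (k' ⟶ k''))
  (E1 : ∀ b : B, ∃ (k : K) (a : A k), ρ k a = b)
  (E2 : ∀ (k : K) (a : A k), ρ k a = 0 → ∃ (k' : K) (f : k ⟶ k'), τ f a = 0)

include ρ_τ dir E1 E2 in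
/-- A directed union of flat algebras is flat (elementwise form). -/
theorem flat_of_directed_system [Nonempty K] (hflat : ∀ k, Module.Flat A₀ (A k)) :
    Module.Flat A₀ B := by
  classical
  rw [Module.Flat.iff_forall_isTrivialRelation]
  intro l f x hx
  obtain ⟨k₀⟩ := ‹Nonempty K›
  obtain ⟨k, -, x', hx'⟩ := exists_common_lift A ρ τ ρ_τ dir E1 (Finset.univ : Finset (Fin l)) x k₀
  have h0 : ρ k (∑ i, f i • x' i) = 0 := by
    rw [map_sum, ← hx]
    refine Finset.sum_congr rfl fun i _ => ?_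
    rw [map_smul, hx' i (Finset.mem_univ i)]
  obtain ⟨k', g, hg⟩ := E2 k _ h0
  have h1 : ∑ i, f i • τ g (x' i) = 0 := by
    rw [← hg, map_sum]
    refine Finset.sum_congr rfl fun i _ => ?_
    rw [map_smul]
  obtain ⟨n, a, y, hxy, hfa⟩ := (Module.Flat.iff_forall_isTrivialRelation.mp (hflat k')) h1
  refine ⟨n, a, fun j => ρ k' (y j), fun i => ?_, hfa⟩
  have hxy' : τ g (x' i) = ∑ j, a i j • y j := hxy i
  rw [← hx' i (Finset.mem_univ i), ← ρ_τ g (x' i), hxy', map_sum]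
  refine Finset.sum_congr rfl fun j _ => ?_
  rw [map_smul]

end Sys

section Lim
variable {I : Type u} [SmallCategory I] [IsCofiltered I] (D : I ⥤ Scheme.{u}) (c : Cone D)
  (hc : IsLimit c) [∀ {i j : I} (f : i ⟶ j), IsAffineHom (D.map f)]

include hc in
theorem flat_StB (i₀ : I) (V : (D.obj i₀).Opens) (hV : IsAffineOpen V)
    (hflat : ∀ k : (Over i₀)ᵒᵖ, Module.Flat Γ(D.obj i₀, V) (StA D i₀ V k)) :
    Module.Flat Γ(D.obj i₀, V) (StB D c i₀ V) := by
  haveI : Nonempty (Over i₀)ᵒᵖ := ⟨op (Over.mk (𝟙 i₀))⟩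
  refine flat_of_directed_system (StA D i₀ V) (stρ D c i₀ V) (fun f => stτ D i₀ V f)
    (fun f a => stρ_τ D c i₀ V f a) ?_ ?_ ?_ hflat
  · intro k k'
    exact ⟨IsFiltered.max k k', ⟨IsFiltered.leftToMax k k'⟩, ⟨IsFiltered.rightToMax k k'⟩⟩
  · intro b
    obtain ⟨k, a, ha⟩ := exists_appLE_eq D c hc i₀ V hV b
    exact ⟨op k, a, (stρ_apply D c i₀ V (op k) a).trans ha⟩
  · intro k a ha
    rw [stρ_apply] at ha
    obtain ⟨k', g, hg⟩ := exists_appLE_eq_zero D c hc i₀ V hV k.unop a ha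
    exact ⟨op k', g.op, (stτ_apply D i₀ V g.op a).trans hg⟩

include hc in
/-- The projections of a limit with flat affine transition maps are flat. -/
theorem flat_π_app (hfl : ∀ {i j : I} (φ : i ⟶ j), Flat (D.map φ)) (i₀ : I) :
    Flat (c.π.app i₀) := by
  haveI : IsAffineHom (c.π.app i₀) := isAffineHom_π_app D c hc i₀
  rw [HasRingHomProperty.iff_exists_appLE (P := @Flat)
    (RingHom.Flat.stableUnderComposition.stableUnderCompositionWithLocalizationAway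
      RingHom.Flat.holdsForLocalizationAway).left]
  intro x
  obtain ⟨_, ⟨V, hV, rfl⟩, hxV, -⟩ := (D.obj i₀).isBasis_affineOpens.exists_subset_of_mem_open
    (Set.mem_univ (c.π.app i₀ x)) isOpen_univ
  refine ⟨⟨V, hV⟩, ⟨c.π.app i₀ ⁻¹ᵁ V, hV.preimage _⟩, hxV, le_rfl, ?_⟩
  have : Module.Flat Γ(D.obj i₀, V) (StB D c i₀ V) := by
    refine flat_StB D c hc i₀ V hV fun k => ?_
    have := hfl k.unop.hom
    exact HasRingHomProperty.appLE (P := @Flat) (D.map k.unop.hom) inferInstance ⟨V, hV⟩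
      ⟨D.map k.unop.hom ⁻¹ᵁ V, hV.preimage _⟩ le_rfl
  exact this

end Lim

end Groth.Agent.Lib.Helper12.H12FlatLim
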