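import Mathlib
import Groth.Agent.Lib.Helper12.ConstrTop
import Groth.Agent.Lib.Helper16.ReducedSub

set_option autoImplicit false
universe u

namespace Groth.Agent.Lib.Helper12.H12ConsP

open AlgebraicGeometry CategoryTheory Limits TopologicalSpace Topology

/-- the reduced closed subscheme on an irreducible closed subset, packaged. -/
theorem exists_integral_closed_subscheme {S : Scheme.{u}} [IsNoetherian S] (T : Set S)
    (hT : IsClosed T) (hTirr : IsIrreducible T) :
    ∃ (W : Scheme.{u}) (ι : W ⟶ S), IsClosedImmersion ι ∧ IsIntegral W ∧ IsNoetherian W ∧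
      Set.range ι = T := by
  set I := Scheme.IdealSheafData.vanishingIdeal ⟨T, hT⟩ with hI
  have hrange : Set.range I.subschemeι = T := by
    rw [Scheme.IdealSheafData.range_subschemeι, Scheme.IdealSheafData.coe_support_vanishingIdeal]
    rfl
  set ι := I.subschemeι with hι
  haveI : IrreducibleSpace I.subscheme := by
    haveI : IrreducibleSpace (Set.range ι) := by
      rw [hrange]
      exact Subtype.irreducibleSpace hTirr
    exact (ι.isEmbedding.toHomeomorph.irreducibleSpace_iff).mpr inferInstance
  haveI : IsReduced I.subscheme :=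
    Groth.Agent.Lib.Helper16.isReduced_subscheme_vanishingIdeal ⟨T, hT⟩
  haveI : IsIntegral I.subscheme := isIntegral_of_irreducibleSpace_of_isReduced _
  haveI : IsLocallyNoetherian I.subscheme := LocallyOfFiniteType.isLocallyNoetherian ι
  haveI : CompactSpace I.subscheme := QuasiCompact.compactSpace_of_compactSpace ι
  haveI : IsNoetherian I.subscheme := {}
  exact ⟨I.subscheme, ι, inferInstance, inferInstance, inferInstance, hrange⟩

/-- **Noetherian induction for constructibility**: a subset of a Noetherian scheme whose trace on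
every integral closed subscheme contains, or misses, a nonempty open is constructible. -/
theorem isConstructible_of_forall_closed_integral {S : Scheme.{u}} [IsNoetherian S] (E : Set S)
    (H : ∀ (W : Scheme.{u}) (ι : W ⟶ S) [IsClosedImmersion ι] [IsIntegral W] [IsNoetherian W],
      (interior (ι ⁻¹' E)).Nonempty ∨ (interior (ι ⁻¹' E)ᶜ).Nonempty) : IsConstructible E := by
  have key := (Groth.Agent.Lib.Helper12.constructible_function_of_locally_constant
    (fun s : S => s ∈ E) ?_).1 True
  · convert key using 1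
    ext w
    simp
  intro T hT hTirr
  obtain ⟨W, ι, h1, h2, h3, hrange⟩ := exists_integral_closed_subscheme T hT hTirr
  have hconst : ∃ V : Set W, IsOpen V ∧ V.Nonempty ∧
      ∀ a ∈ V, ∀ b ∈ V, (a ∈ ι ⁻¹' E ↔ b ∈ ι ⁻¹' E) := by
    rcases H W ι with h | h
    · refine ⟨interior (ι ⁻¹' E), isOpen_interior, h, fun a ha b hb => ?_⟩
      exact ⟨fun _ => interior_subset hb, fun _ => interior_subset ha⟩
    · refine ⟨interior (ι ⁻¹' E)ᶜ, isOpen_interior, h, fun a ha b hb => ?_⟩
      exact ⟨fun h' => absurd h' (interior_subset ha), fun h' => absurd h' (interior_subset hb)⟩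
  obtain ⟨V, hVo, hVne, hV⟩ := hconst
  obtain ⟨O, hO, hOV⟩ := ι.isEmbedding.isInducing.isOpen_iff.mp hVo
  refine ⟨O, hO, ?_, ?_⟩
  · obtain ⟨z, hz⟩ := hVne
    refine ⟨ι z, ?_, ?_⟩
    · have : z ∈ ι ⁻¹' O := by rw [hOV]; exact hz
      exact this
    · rw [← hrange]; exact ⟨z, rfl⟩
  · rintro a ⟨haU, haZ⟩ b ⟨hbU, hbZ⟩
    rw [← hrange] at haZ hbZ
    obtain ⟨a', rfl⟩ := haZ
    obtain ⟨b', rfl⟩ := hbZ
    have ha' : a' ∈ V := by
      have : a' ∈ ι ⁻¹' O := haU
      rw [hOV] at this; exact this
    have hb' : b' ∈ V := by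
      have : b' ∈ ι ⁻¹' O := hbU
      rw [hOV] at this; exact this
    exact propext (hV a' ha' b' hb')

/-- **Ind-constructible version**: a subset of a Noetherian scheme whose trace on every integral
closed subscheme contains a nonempty open as soon as it contains the generic point is a union of
constructible sets. -/
theorem exists_constructible_cover_of_forall_closed_integral {S : Scheme.{u}} [IsNoetherian S]
    (E : Set S)
    (H : ∀ (W : Scheme.{u}) (ι : W ⟶ S) [IsClosedImmersion ι] [IsIntegral W] [IsNoetherian W],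
      genericPoint W ∈ ι ⁻¹' E → (interior (ι ⁻¹' E)).Nonempty) :
    ∃ 𝒞 : Set (Set S), (∀ C ∈ 𝒞, IsConstructible C) ∧ E = ⋃₀ 𝒞 := by
  have hpt : ∀ t ∈ E, ∃ C : Set S, IsConstructible C ∧ t ∈ C ∧ C ⊆ E := by
    intro t ht
    obtain ⟨W, ι, h1, h2, h3, hrange⟩ := exists_integral_closed_subscheme (closure {t})
      isClosed_closure isIrreducible_singleton.closure
    have hgen : ι (genericPoint W) = t := by
      have h4 : IsGenericPoint (ι (genericPoint W)) (closure {t}) := by
        have := (genericPoint_spec W).image ι.continuous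
        rw [Set.image_univ, hrange, closure_closure] at this
        exact this
      exact h4.eq isGenericPoint_closure
    obtain ⟨z, hz⟩ := H W ι (by rw [Set.mem_preimage, hgen]; exact ht)
    obtain ⟨O, hO, hOV⟩ := ι.isEmbedding.isInducing.isOpen_iff.mp
      (isOpen_interior (s := ι ⁻¹' E))
    have hηV : genericPoint W ∈ interior (ι ⁻¹' E) :=
      (genericPoint_specializes z).mem_open isOpen_interior hz
    refine ⟨O ∩ closure {t}, ?_, ⟨?_, subset_closure rfl⟩, ?_⟩
    · exact (Groth.Agent.Lib.Helper12.isConstructible_of_isOpen hO).inter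
        (Groth.Agent.Lib.Helper12.isConstructible_of_isClosed isClosed_closure)
    · have : genericPoint W ∈ ι ⁻¹' O := by rw [hOV]; exact hηV
      rw [← hgen]
      exact this
    · rintro x ⟨hxO, hxT⟩
      rw [← hrange] at hxT
      obtain ⟨y, rfl⟩ := hxT
      have : y ∈ ι ⁻¹' O := hxO
      rw [hOV] at this
      have h5 : y ∈ ι ⁻¹' E := interior_subset this
      exact h5
  choose C hC using hpt
  refine ⟨{D | ∃ t, ∃ ht : t ∈ E, D = C t ht}, ?_, ?_⟩
  · rintro D ⟨t, ht, rfl⟩
    exact (hC t ht).1
  · ext x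
    simp only [Set.mem_sUnion, Set.mem_ofPred_eq]
    constructor
    · intro hx
      exact ⟨C x hx, ⟨x, hx, rfl⟩, (hC x hx).2.1⟩
    · rintro ⟨D, ⟨t, ht, rfl⟩, hxD⟩
      exact (hC t ht).2.2 hxD

end Groth.Agent.Lib.Helper12.H12ConsP
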