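import Mathlib
import Groth.Prelude.Def_EGA4Misc
import Groth.Prelude.Def_W4ega4s0809p4Pair

set_option autoImplicit false
universe u

namespace Groth.Agent.Lib.Helper12.H12ConsP

open AlgebraicGeometry CategoryTheory Limits TopologicalSpace Topology

instance subsingleton_spec_residueField {S : Scheme.{u}} (s : S) :
    Subsingleton ↥(Spec (S.residueField s)) :=
  inferInstanceAs (Subsingleton (PrimeSpectrum (S.residueField s)))

/-- Base change of the locus of a field-stable relation on schemes. -/
theorem locus_baseChange {P : ∀ ⦃Y T : Scheme.{u}⦄, (Y ⟶ T) → Prop}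
    (hP : ConsProp.IsFieldStable P) {X' X S' S : Scheme.{u}} {e : X' ⟶ X} {u' : X' ⟶ S'}
    {u : X ⟶ S} {h : S' ⟶ S} (hpb : IsPullback e u' u h) [LocallyOfFiniteType u]
    [QuasiCompact u] : ConsProp.locus P u' = h ⁻¹' ConsProp.locus P u := by
  ext s'
  have h1 := isPullback_fiberToSpecResidueField_of_isPullback hpb s'
  have i1 : LocallyOfFiniteType (u.fiberToSpecResidueField (h s')) :=
    MorphismProperty.pullback_snd _ _ inferInstance
  have i2 : QuasiCompact (u.fiberToSpecResidueField (h s')) :=
    MorphismProperty.pullback_snd _ _ inferInstance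
  exact (@hP _ _ _ _ (u.fiberToSpecResidueField (h s')) (u'.fiberToSpecResidueField s') _ _
    inferInstance inferInstance inferInstance inferInstance i1 i2 h1).symm

/-- Base change of the locus of a field-stable relation on pairs of schemes. -/
theorem locusPair_baseChange {P : ∀ ⦃X Y T : Scheme.{u}⦄, (X ⟶ T) → (Y ⟶ T) → Prop}
    (hP : ConsPropPair.IsFieldStablePair P) {X' X Y' Y S' S : Scheme.{u}} {eX : X' ⟶ X}
    {u' : X' ⟶ S'} {u : X ⟶ S} {eY : Y' ⟶ Y} {v' : Y' ⟶ S'} {v : Y ⟶ S} {h : S' ⟶ S}
    (hX : IsPullback eX u' u h) (hY : IsPullback eY v' v h)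
    [LocallyOfFiniteType u] [QuasiCompact u] [LocallyOfFiniteType v] [QuasiCompact v] :
    ConsPropPair.locusPair P u' v' = h ⁻¹' ConsPropPair.locusPair P u v := by
  ext s'
  have h1 := isPullback_fiberToSpecResidueField_of_isPullback hX s'
  have h2 := isPullback_fiberToSpecResidueField_of_isPullback hY s'
  have i1 : LocallyOfFiniteType (u.fiberToSpecResidueField (h s')) :=
    MorphismProperty.pullback_snd _ _ inferInstance
  have i2 : QuasiCompact (u.fiberToSpecResidueField (h s')) :=
    MorphismProperty.pullback_snd _ _ inferInstance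
  have i3 : LocallyOfFiniteType (v.fiberToSpecResidueField (h s')) :=
    MorphismProperty.pullback_snd _ _ inferInstance
  have i4 : QuasiCompact (v.fiberToSpecResidueField (h s')) :=
    MorphismProperty.pullback_snd _ _ inferInstance
  exact (@hP _ _ _ _ _ _ (u.fiberToSpecResidueField (h s')) (v.fiberToSpecResidueField (h s'))
    (u'.fiberToSpecResidueField s') (v'.fiberToSpecResidueField s') _ _ _
    inferInstance inferInstance inferInstance inferInstance i1 i2 i3 i4 h1 h2).symm

section Mor

variable {X' X Y' Y S' S : Scheme.{u}} {eX : X' ⟶ X} {f' : X' ⟶ Y'} {f : X ⟶ Y}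
  {eY : Y' ⟶ Y} {g' : Y' ⟶ S'} {g : Y ⟶ S} {h : S' ⟶ S}

theorem fiberMap_fiberι (f : X ⟶ Y) (g : Y ⟶ S) (s : S) :
    MoreMor.fiberMap f g s ≫ g.fiberι s = (f ≫ g).fiberι s ≫ f :=
  pullback.lift_fst _ _ _

theorem fiberMap_fiberToSpecResidueField (f : X ⟶ Y) (g : Y ⟶ S) (s : S) :
    MoreMor.fiberMap f g s ≫ g.fiberToSpecResidueField s = (f ≫ g).fiberToSpecResidueField s :=
  pullback.lift_snd _ _ _

/-- the fibre square of a composite. -/
theorem isPullback_fiberMap (f : X ⟶ Y) (g : Y ⟶ S) (s : S) :
    IsPullback ((f ≫ g).fiberι s) (MoreMor.fiberMap f g s) f (g.fiberι s) := by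
  have hr : IsPullback (g.fiberToSpecResidueField s) (g.fiberι s) (S.fromSpecResidueField s) g :=
    (IsPullback.of_hasPullback g (S.fromSpecResidueField s)).flip
  have hb : IsPullback ((f ≫ g).fiberToSpecResidueField s) ((f ≫ g).fiberι s)
      (S.fromSpecResidueField s) (f ≫ g) :=
    (IsPullback.of_hasPullback (f ≫ g) (S.fromSpecResidueField s)).flip
  refine (IsPullback.of_right ?_ (fiberMap_fiberι f g s) hr).flip
  rw [fiberMap_fiberToSpecResidueField]
  exact hb

/-- Base change of the locus of a field-stable relation on morphisms. -/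
theorem locusMor_baseChange {P : ∀ ⦃X Y T : Scheme.{u}⦄, (X ⟶ Y) → (Y ⟶ T) → Prop}
    (hP : ConsProp.IsFieldStableMor P) (hY : IsPullback eY g' g h) (hX : IsPullback eX f' f eY)
    [LocallyOfFiniteType g] [QuasiCompact g] [LocallyOfFiniteType (f ≫ g)]
    [QuasiCompact (f ≫ g)] :
    ConsProp.locusMor P f' g' = h ⁻¹' ConsProp.locusMor P f g := by
  ext s'
  have hXY : IsPullback eX (f' ≫ g') (f ≫ g) h := hX.paste_vert hY
  let mY : g'.fiber s' ⟶ g.fiber (h s') :=
    pullback.map g' (S'.fromSpecResidueField s') g (S.fromSpecResidueField (h s')) eY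
      (Spec.map (h.residueFieldMap s')) h hY.w.symm (by simp)
  let mX : (f' ≫ g').fiber s' ⟶ (f ≫ g).fiber (h s') :=
    pullback.map (f' ≫ g') (S'.fromSpecResidueField s') (f ≫ g)
      (S.fromSpecResidueField (h s')) eX (Spec.map (h.residueFieldMap s')) h hXY.w.symm (by simp)
  have h1 : IsPullback mY (g'.fiberToSpecResidueField s') (g.fiberToSpecResidueField (h s'))
      (Spec.map (h.residueFieldMap s')) :=
    isPullback_fiberToSpecResidueField_of_isPullback hY s'
  have h2 : IsPullback mX ((f' ≫ g').fiberToSpecResidueField s')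
      ((f ≫ g).fiberToSpecResidueField (h s')) (Spec.map (h.residueFieldMap s')) :=
    isPullback_fiberToSpecResidueField_of_isPullback hXY s'
  have mYι : mY ≫ g.fiberι (h s') = g'.fiberι s' ≫ eY := pullback.lift_fst _ _ _
  have mXι : mX ≫ (f ≫ g).fiberι (h s') = (f' ≫ g').fiberι s' ≫ eX := pullback.lift_fst _ _ _
  have hcomm : mX ≫ MoreMor.fiberMap f g (h s') = MoreMor.fiberMap f' g' s' ≫ mY := by
    apply pullback.hom_ext
    · change (mX ≫ MoreMor.fiberMap f g (h s')) ≫ g.fiberι (h s') =
        (MoreMor.fiberMap f' g' s' ≫ mY) ≫ g.fiberι (h s')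
      rw [Category.assoc, fiberMap_fiberι, reassoc_of% mXι, Category.assoc, mYι,
        reassoc_of% (fiberMap_fiberι f' g' s'), hX.w]
    · change (mX ≫ MoreMor.fiberMap f g (h s')) ≫ g.fiberToSpecResidueField (h s') =
        (MoreMor.fiberMap f' g' s' ≫ mY) ≫ g.fiberToSpecResidueField (h s')
      rw [Category.assoc, fiberMap_fiberToSpecResidueField, h2.w, Category.assoc, h1.w,
        reassoc_of% (fiberMap_fiberToSpecResidueField f' g' s')]
  have h3 : IsPullback mX (MoreMor.fiberMap f' g' s') (MoreMor.fiberMap f g (h s')) mY := by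
    refine IsPullback.of_bot ?_ hcomm h1
    rw [fiberMap_fiberToSpecResidueField, fiberMap_fiberToSpecResidueField]
    exact h2
  have i1 : LocallyOfFiniteType (g.fiberToSpecResidueField (h s')) :=
    MorphismProperty.pullback_snd _ _ inferInstance
  have i2 : QuasiCompact (g.fiberToSpecResidueField (h s')) :=
    MorphismProperty.pullback_snd _ _ inferInstance
  have i3 : LocallyOfFiniteType
      (MoreMor.fiberMap f g (h s') ≫ g.fiberToSpecResidueField (h s')) := by
    rw [fiberMap_fiberToSpecResidueField]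
    exact MorphismProperty.pullback_snd _ _ inferInstance
  have i4 : QuasiCompact (MoreMor.fiberMap f g (h s') ≫ g.fiberToSpecResidueField (h s')) := by
    rw [fiberMap_fiberToSpecResidueField]
    exact MorphismProperty.pullback_snd _ _ inferInstance
  exact (@hP _ _ _ _ _ _ (MoreMor.fiberMap f g (h s')) (g.fiberToSpecResidueField (h s'))
    (MoreMor.fiberMap f' g' s') (g'.fiberToSpecResidueField s') mX mY
    (Spec.map (h.residueFieldMap s'))
    inferInstance inferInstance inferInstance inferInstance i1 i2 i3 i4 h1 h3).symm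

end Mor

end Groth.Agent.Lib.Helper12.H12ConsP
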