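import Mathlib
import Groth.Prelude.Def_PBC
import Groth.Agent.Lib.Helper1.UnderColimit

/-!
# An algebra is the filtered colimit of its finitely generated subalgebras (helper12)

`isIndEtale_of_forall_fg_etale`: if every finitely generated subalgebra of `B` is étale over `K`,
then `B` is ind-étale over `K` in the sense of `EtPBC.IsIndEtale`.
-/

set_option autoImplicit false
universe u
open CategoryTheory CategoryTheory.Limits

namespace Groth.Agent.Lib.Helper12.IndFG

variable (K B : Type u) [CommRing K] [CommRing B] [Algebra K B]

/-- the index type: finitely generated subalgebras -/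
abbrev FGSub : Type u := {S : Subalgebra K B // S.FG}

instance : SemilatticeSup (FGSub K B) :=
  Subtype.semilatticeSup fun _ _ hS hT => Subalgebra.FG.sup hS hT

instance : Nonempty (FGSub K B) := ⟨⟨⊥, Subalgebra.fg_bot⟩⟩

/-- the diagram of finitely generated subalgebras -/
noncomputable def diag : FGSub K B ⥤ Under (CommRingCat.of K) where
  obj S := Under.mk (CommRingCat.ofHom (algebraMap K S.1))
  map {S T} h := Under.homMk (CommRingCat.ofHom (Subalgebra.inclusion h.le).toRingHom) (by
    ext x; rfl)
  map_id S := by
    ext x; rfl
  map_comp f g := by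
    ext x; rfl

/-- the cocone with vertex `B` -/
noncomputable def cocone : Cocone (diag K B) where
  pt := Under.mk (CommRingCat.ofHom (algebraMap K B))
  ι :=
    { app := fun S => Under.homMk (CommRingCat.ofHom S.1.val.toRingHom) (by ext x; rfl)
      naturality := by
        intro S T h
        ext x
        rfl }

theorem nonempty_isColimit : Nonempty (IsColimit (cocone K B)) := by
  refine Groth.Agent.Lib.Helper1.isColimit_under_of_surj_inj (diag K B) (cocone K B) ?_ ?_
  · intro (x : B)
    have hfg : (Algebra.adjoin K {x}).FG := by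
      have := Subalgebra.fg_adjoin_finset (R := K) ({x} : Finset B)
      simpa using this
    exact ⟨⟨Algebra.adjoin K {x}, hfg⟩, ⟨x, Algebra.subset_adjoin rfl⟩, rfl⟩
  · intro S T xs xt h
    refine ⟨S ⊔ T, homOfLE le_sup_left, homOfLE le_sup_right, ?_⟩
    apply Subtype.ext
    exact h

theorem isIndEtale_of_forall_fg_etale
    (h : ∀ S : Subalgebra K B, S.FG → Algebra.Etale K S) : EtPBC.IsIndEtale K B := by
  obtain ⟨hc⟩ := nonempty_isColimit K B
  refine ⟨FGSub K B, inferInstance, inferInstance, diag K B, cocone K B, hc, ?_, ⟨Iso.refl _⟩⟩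
  intro S
  have : ((diag K B).obj S).hom.hom.toAlgebra = (inferInstance : Algebra K S.1) :=
    Algebra.algebra_ext _ _ (fun _ => rfl)
  show @Algebra.Etale K S.1 _ _ ((diag K B).obj S).hom.hom.toAlgebra
  rw [this]
  exact h S.1 S.2

end Groth.Agent.Lib.Helper12.IndFG
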