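import Mathlib
import Groth.Agent.Lib.Helper1.ObjDescMain
import Groth.Agent.Lib.Helper1.RSLimit

set_option autoImplicit false
universe u

namespace Groth.Agent.Lib.Helper12.H12ConsP

open AlgebraicGeometry CategoryTheory Limits TopologicalSpace Topology
open Groth.Agent.Lib.Helper12.IndFG Groth.Agent.Lib.Helper1.RSLimit Groth.Agent.Lib.Helper1.ObjDesc

section

variable (R : Type u) [CommRing R] [Algebra (ULift.{u} ℤ) R]

/-- the cofiltered system of spectra of finitely generated subrings. -/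
noncomputable abbrev fgD : (FGSub (ULift.{u} ℤ) R)ᵒᵖ ⥤ Scheme.{u} :=
  (fgDiag (ULift.{u} ℤ) R).op ⋙ Scheme.Spec

noncomputable abbrev fgC : Cone (fgD R) :=
  Scheme.Spec.mapCone (fgCocone (ULift.{u} ℤ) R).op

noncomputable def fgIsLimit : IsLimit (fgC R) :=
  isLimitOfPreserves Scheme.Spec (nonempty_isColimit_fgCocone (ULift.{u} ℤ) R).some.op

instance fgD_isAffineHom {i j : (FGSub (ULift.{u} ℤ) R)ᵒᵖ} (t : i ⟶ j) :
    IsAffineHom ((fgD R).map t) := by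
  dsimp [fgD]; infer_instance

instance fgD_isAffine (i : (FGSub (ULift.{u} ℤ) R)ᵒᵖ) : IsAffine ((fgD R).obj i) := by
  dsimp [fgD]; infer_instance

theorem fgD_isNoetherian (i : (FGSub (ULift.{u} ℤ) R)ᵒᵖ) : IsNoetherian ((fgD R).obj i) := by
  have hft : Algebra.FiniteType (ULift.{u} ℤ) i.unop.1 := (Subalgebra.fg_iff_finiteType _).mp i.unop.2
  haveI : IsNoetherianRing (ULift.{u} ℤ) := isNoetherianRing_of_ringEquiv ℤ ULift.ringEquiv.symm
  haveI : IsNoetherianRing i.unop.1 := Algebra.FiniteType.isNoetherianRing (ULift.{u} ℤ) _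
  change IsNoetherian (Spec (CommRingCat.of i.unop.1))
  infer_instance

end

section GNA

variable {X Y S : Scheme.{u}}

/-- transport of a pullback square along the isomorphism of an affine scheme with its spectrum. -/
theorem isPullback_of_isoSpec [IsAffine S] {Y V T : Scheme.{u}} {e : Y ⟶ V} {g : Y ⟶ S}
    {v : V ⟶ T} {π : Spec Γ(S, ⊤) ⟶ T} (h : IsPullback e (g ≫ S.isoSpec.hom) v π) :
    IsPullback e g v (S.isoSpec.hom ≫ π) := by
  refine h.of_iso (Iso.refl _) (Iso.refl _) S.isoSpec.symm (Iso.refl _) ?_ ?_ ?_ ?_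
  · simp
  · simp
  · simp
  · simp

/-- **Global Noetherian approximation of a morphism** over an affine base. -/
theorem exists_noetherian_model_mor [IsAffine S] (f : X ⟶ Y) (g : Y ⟶ S)
    [LocallyOfFinitePresentation g] [QuasiCompact g] [QuasiSeparated g]
    [LocallyOfFinitePresentation (f ≫ g)] [QuasiCompact (f ≫ g)] [QuasiSeparated (f ≫ g)] :
    ∃ (X₀ Y₀ S₀ : Scheme.{u}) (f₀ : X₀ ⟶ Y₀) (g₀ : Y₀ ⟶ S₀) (h : S ⟶ S₀) (eY : Y ⟶ Y₀)
      (eX : X ⟶ X₀), IsNoetherian S₀ ∧ LocallyOfFiniteType g₀ ∧ QuasiCompact g₀ ∧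
      LocallyOfFiniteType (f₀ ≫ g₀) ∧ QuasiCompact (f₀ ≫ g₀) ∧
      IsPullback eY g g₀ h ∧ IsPullback eX f f₀ eY := by
  letI : Algebra (ULift.{u} ℤ) Γ(S, ⊤) := ULift.algebra' ℤ _
  let D := fgD Γ(S, ⊤)
  let c := fgC Γ(S, ⊤)
  let hc : IsLimit c := fgIsLimit Γ(S, ⊤)
  let z' : Y ⟶ c.pt := g ≫ S.isoSpec.hom
  let z : X ⟶ c.pt := f ≫ z'
  haveI : LocallyOfFinitePresentation z' := by dsimp only [z']; infer_instance
  haveI : QuasiCompact z' := by dsimp only [z']; infer_instance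
  haveI : QuasiSeparated z' := by dsimp only [z']; infer_instance
  haveI : LocallyOfFinitePresentation z := by
    dsimp only [z, z']; rw [← Category.assoc]; infer_instance
  haveI : QuasiCompact z := by
    dsimp only [z, z']; rw [← Category.assoc]; infer_instance
  haveI : QuasiSeparated z := by
    dsimp only [z, z']; rw [← Category.assoc]; infer_instance
  obtain ⟨i₁, V₁, v₁, e₁, a1, b1, c1, sq₁⟩ := desc_of_finitePresentation hc z'
  obtain ⟨i₂, V₂, v₂, e₂, a2, b2, c2, sq₂⟩ := desc_of_finitePresentation hc z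
  let A₁ : Model D c z' i₁ := ⟨V₁, v₁, e₁, sq₁⟩
  let A₂ : Model D c z i₂ := ⟨V₂, v₂, e₂, sq₂⟩
  have hA₁ : A₁.IsFP := ⟨a1, b1, c1⟩
  have hA₂ : A₂.IsFP := ⟨a2, b2, c2⟩
  let M₁ : Model D c z' (IsCofiltered.min i₁ i₂) :=
    A₁.reindex (Over.mk (IsCofiltered.minToLeft i₁ i₂))
  let M₂ : Model D c z (IsCofiltered.min i₁ i₂) :=
    A₂.reindex (Over.mk (IsCofiltered.minToRight i₁ i₂))
  have hM₁ : M₁.IsFP := Model.reindex_isFP hA₁ _
  have hM₂ : M₂.IsFP := Model.reindex_isFP hA₂ _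
  obtain ⟨k, ψ, r⟩ := Model.exists_hom hc M₂ M₁ hM₂.2.1 hM₂.2.2 hM₁.1 f rfl
  have hN₁ : (M₁.reindex k).IsFP := Model.reindex_isFP hM₁ k
  have hN₂ : (M₂.reindex k).IsFP := Model.reindex_isFP hM₂ k
  obtain ⟨n1, n2, n3⟩ := hN₁
  obtain ⟨m1, m2, m3⟩ := hN₂
  haveI := fgD_isNoetherian Γ(S, ⊤) k.left
  refine ⟨(M₂.reindex k).V, (M₁.reindex k).V, D.obj k.left, ψ, (M₁.reindex k).v,
    S.isoSpec.hom ≫ c.π.app k.left, (M₁.reindex k).g, (M₂.reindex k).g, inferInstance,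
    inferInstance, n2, ?_, ?_, isPullback_of_isoSpec (M₁.reindex k).sq, r.isPullback rfl⟩
  · rw [r.over]; infer_instance
  · rw [r.over]; exact m2

/-- **Global Noetherian approximation of a pair of schemes** over an affine base. -/
theorem exists_noetherian_model_pair [IsAffine S] (u : X ⟶ S) (v : Y ⟶ S)
    [LocallyOfFinitePresentation u] [QuasiCompact u] [QuasiSeparated u]
    [LocallyOfFinitePresentation v] [QuasiCompact v] [QuasiSeparated v] :
    ∃ (X₀ Y₀ S₀ : Scheme.{u}) (u₀ : X₀ ⟶ S₀) (v₀ : Y₀ ⟶ S₀) (h : S ⟶ S₀) (eX : X ⟶ X₀)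
      (eY : Y ⟶ Y₀), IsNoetherian S₀ ∧ LocallyOfFiniteType u₀ ∧ QuasiCompact u₀ ∧
      LocallyOfFiniteType v₀ ∧ QuasiCompact v₀ ∧
      IsPullback eX u u₀ h ∧ IsPullback eY v v₀ h := by
  letI : Algebra (ULift.{u} ℤ) Γ(S, ⊤) := ULift.algebra' ℤ _
  let D := fgD Γ(S, ⊤)
  let c := fgC Γ(S, ⊤)
  let hc : IsLimit c := fgIsLimit Γ(S, ⊤)
  let z' : Y ⟶ c.pt := v ≫ S.isoSpec.hom
  let z : X ⟶ c.pt := u ≫ S.isoSpec.hom
  haveI : LocallyOfFinitePresentation z' := by dsimp only [z']; infer_instance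
  haveI : QuasiCompact z' := by dsimp only [z']; infer_instance
  haveI : QuasiSeparated z' := by dsimp only [z']; infer_instance
  haveI : LocallyOfFinitePresentation z := by dsimp only [z]; infer_instance
  haveI : QuasiCompact z := by dsimp only [z]; infer_instance
  haveI : QuasiSeparated z := by dsimp only [z]; infer_instance
  obtain ⟨i₁, V₁, v₁, e₁, a1, b1, c1, sq₁⟩ := desc_of_finitePresentation hc z'
  obtain ⟨i₂, V₂, v₂, e₂, a2, b2, c2, sq₂⟩ := desc_of_finitePresentation hc z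
  let A₁ : Model D c z' i₁ := ⟨V₁, v₁, e₁, sq₁⟩
  let A₂ : Model D c z i₂ := ⟨V₂, v₂, e₂, sq₂⟩
  have hA₁ : A₁.IsFP := ⟨a1, b1, c1⟩
  have hA₂ : A₂.IsFP := ⟨a2, b2, c2⟩
  let M₁ : Model D c z' (IsCofiltered.min i₁ i₂) :=
    A₁.reindex (Over.mk (IsCofiltered.minToLeft i₁ i₂))
  let M₂ : Model D c z (IsCofiltered.min i₁ i₂) :=
    A₂.reindex (Over.mk (IsCofiltered.minToRight i₁ i₂))
  obtain ⟨n1, n2, n3⟩ : M₁.IsFP := Model.reindex_isFP hA₁ _
  obtain ⟨m1, m2, m3⟩ : M₂.IsFP := Model.reindex_isFP hA₂ _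
  haveI := fgD_isNoetherian Γ(S, ⊤) (IsCofiltered.min i₁ i₂)
  exact ⟨M₂.V, M₁.V, D.obj (IsCofiltered.min i₁ i₂), M₂.v, M₁.v,
    S.isoSpec.hom ≫ c.π.app (IsCofiltered.min i₁ i₂), M₂.g, M₁.g, inferInstance,
    inferInstance, m2, inferInstance, n2, isPullback_of_isoSpec M₂.sq,
    isPullback_of_isoSpec M₁.sq⟩

end GNA

end Groth.Agent.Lib.Helper12.H12ConsP
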