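import Mathlib
import Groth.Prelude.Def_ProCons

set_option autoImplicit false
universe u

namespace Groth.Agent.Lib.Helper12.H12ConsP

open AlgebraicGeometry CategoryTheory Limits TopologicalSpace Topology

theorem isLocallyConstructible_of_local_models {S : Scheme.{u}} (E : Set S)
    (H : ∀ U : S.Opens, IsAffineOpen U → ∃ (S₀ : Scheme.{u}) (h : (U : Scheme.{u}) ⟶ S₀)
      (E₀ : Set S₀), IsConstructible E₀ ∧ U.ι ⁻¹' E = h ⁻¹' E₀) :
    IsLocallyConstructible E := by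
  intro s
  obtain ⟨_, ⟨U, hU, rfl⟩, hsU, -⟩ :=
    S.isBasis_affineOpens.exists_subset_of_mem_open (Set.mem_univ s) isOpen_univ
  refine ⟨U, U.2.mem_nhds hsU, U.2, ?_⟩
  obtain ⟨S₀, h, E₀, hE₀, heq⟩ := H U hU
  have h2 := h.isConstructible_preimage hE₀
  rw [← heq] at h2
  exact h2

theorem isIndConstructible_of_local_models {S : Scheme.{u}} (E : Set S)
    (H : ∀ U : S.Opens, IsAffineOpen U → ∃ (S₀ : Scheme.{u}) (h : (U : Scheme.{u}) ⟶ S₀)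
      (𝒞 : Set (Set S₀)), (∀ C ∈ 𝒞, IsConstructible C) ∧ U.ι ⁻¹' E = h ⁻¹' ⋃₀ 𝒞) :
    ProCons.IsIndConstructible E := by
  intro s
  obtain ⟨_, ⟨U, hU, rfl⟩, hsU, -⟩ :=
    S.isBasis_affineOpens.exists_subset_of_mem_open (Set.mem_univ s) isOpen_univ
  refine ⟨U, U.2, hsU, ?_⟩
  obtain ⟨S₀, h, 𝒞, h𝒞, heq⟩ := H U hU
  refine ⟨(fun C => h ⁻¹' C) '' 𝒞, ?_, ?_⟩
  · rintro _ ⟨C, hC, rfl⟩
    exact (h.isConstructible_preimage (h𝒞 C hC)).isLocallyConstructible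
  · have h1 : (Subtype.val ⁻¹' E : Set ↥(U : Set S)) = (Scheme.Opens.ι U) ⁻¹' E := rfl
    rw [h1, heq, Set.preimage_sUnion, Set.sUnion_image]
    rfl

end Groth.Agent.Lib.Helper12.H12ConsP
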