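import Mathlib
import Groth.Agent.Lib.Helper12.ConsP1
import Groth.Agent.Lib.Helper12.ConsP2
import Groth.Agent.Lib.Helper12.ConsP3
import Groth.Agent.Lib.Helper12.ConsP4

set_option autoImplicit false
universe u

namespace Groth.Agent.Lib.Helper12.H12ConsP

open AlgebraicGeometry CategoryTheory Limits TopologicalSpace Topology

section Mor

variable {P : ∀ ⦃X Y T : Scheme.{u}⦄, (X ⟶ Y) → (Y ⟶ T) → Prop}

/-- base change of the family `(f, g)` along a morphism `ι : W ⟶ S` and its locus. -/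
theorem locusMor_pullback (hP : ConsProp.IsFieldStableMor P) {X Y S W : Scheme.{u}} (f : X ⟶ Y)
    (g : Y ⟶ S) (ι : W ⟶ S) [LocallyOfFiniteType g] [QuasiCompact g]
    [LocallyOfFiniteType (f ≫ g)] [QuasiCompact (f ≫ g)] :
    ∃ (XW YW : Scheme.{u}) (fW : XW ⟶ YW) (gW : YW ⟶ W), LocallyOfFiniteType gW ∧
      QuasiCompact gW ∧ LocallyOfFiniteType (fW ≫ gW) ∧ QuasiCompact (fW ≫ gW) ∧
      ConsProp.locusMor P fW gW = ι ⁻¹' ConsProp.locusMor P f g := by
  have hY : IsPullback (pullback.fst g ι) (pullback.snd g ι) g ι := IsPullback.of_hasPullback g ι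
  have hX : IsPullback (pullback.fst f (pullback.fst g ι)) (pullback.snd f (pullback.fst g ι)) f
      (pullback.fst g ι) := IsPullback.of_hasPullback _ _
  have hXY := hX.paste_vert hY
  refine ⟨_, _, pullback.snd f (pullback.fst g ι), pullback.snd g ι, inferInstance, inferInstance,
    MorphismProperty.of_isPullback hXY inferInstance,
    MorphismProperty.of_isPullback hXY inferInstance, locusMor_baseChange hP hY hX⟩

theorem isConstructible_locusMor_of_isNoetherian (hP : ConsProp.IsConsMor P)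
    {X Y S : Scheme.{u}} [IsNoetherian S] (f : X ⟶ Y) (g : Y ⟶ S) [LocallyOfFiniteType g]
    [QuasiCompact g] [LocallyOfFiniteType (f ≫ g)] [QuasiCompact (f ≫ g)] :
    IsConstructible (ConsProp.locusMor P f g) := by
  refine isConstructible_of_forall_closed_integral _ ?_
  intro W ι _ _ _
  obtain ⟨XW, YW, fW, gW, h1, h2, h3, h4, heq⟩ := locusMor_pullback hP.1 f g ι
  rw [← heq]
  exact hP.2 fW gW

theorem exists_cover_locusMor_of_isNoetherian (hP : ConsProp.IsIndConsMor P)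
    {X Y S : Scheme.{u}} [IsNoetherian S] (f : X ⟶ Y) (g : Y ⟶ S) [LocallyOfFiniteType g]
    [QuasiCompact g] [LocallyOfFiniteType (f ≫ g)] [QuasiCompact (f ≫ g)] :
    ∃ 𝒞 : Set (Set S), (∀ C ∈ 𝒞, IsConstructible C) ∧ ConsProp.locusMor P f g = ⋃₀ 𝒞 := by
  refine exists_constructible_cover_of_forall_closed_integral _ ?_
  intro W ι _ _ _
  obtain ⟨XW, YW, fW, gW, h1, h2, h3, h4, heq⟩ := locusMor_pullback hP.1 f g ι
  rw [← heq]
  exact hP.2 fW gW

theorem exists_local_model_mor (hP : ConsProp.IsFieldStableMor P) {X Y S : Scheme.{u}}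
    (f : X ⟶ Y) (g : Y ⟶ S)
    [LocallyOfFinitePresentation g] [QuasiCompact g] [QuasiSeparated g]
    [LocallyOfFinitePresentation (f ≫ g)] [QuasiCompact (f ≫ g)] [QuasiSeparated (f ≫ g)]
    (U : S.Opens) (hU : IsAffineOpen U) :
    ∃ (X₀ Y₀ S₀ : Scheme.{u}) (f₀ : X₀ ⟶ Y₀) (g₀ : Y₀ ⟶ S₀) (h : (U : Scheme.{u}) ⟶ S₀),
      IsNoetherian S₀ ∧ LocallyOfFiniteType g₀ ∧ QuasiCompact g₀ ∧
      LocallyOfFiniteType (f₀ ≫ g₀) ∧ QuasiCompact (f₀ ≫ g₀) ∧
      U.ι ⁻¹' ConsProp.locusMor P f g = h ⁻¹' ConsProp.locusMor P f₀ g₀ := by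
  haveI : IsAffine (U : Scheme.{u}) := hU
  have hY : IsPullback (g ⁻¹ᵁ U).ι (g ∣_ U) g U.ι := (isPullback_morphismRestrict g U).flip
  have hX : IsPullback (f ⁻¹ᵁ (g ⁻¹ᵁ U)).ι (f ∣_ (g ⁻¹ᵁ U)) f (g ⁻¹ᵁ U).ι :=
    (isPullback_morphismRestrict f (g ⁻¹ᵁ U)).flip
  have hXY := hX.paste_vert hY
  haveI : LocallyOfFinitePresentation (g ∣_ U) := MorphismProperty.of_isPullback hY inferInstance
  haveI : QuasiCompact (g ∣_ U) := MorphismProperty.of_isPullback hY inferInstance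
  haveI : QuasiSeparated (g ∣_ U) := MorphismProperty.of_isPullback hY inferInstance
  haveI : LocallyOfFinitePresentation (f ∣_ (g ⁻¹ᵁ U) ≫ g ∣_ U) :=
    MorphismProperty.of_isPullback hXY inferInstance
  haveI : QuasiCompact (f ∣_ (g ⁻¹ᵁ U) ≫ g ∣_ U) :=
    MorphismProperty.of_isPullback hXY inferInstance
  haveI : QuasiSeparated (f ∣_ (g ⁻¹ᵁ U) ≫ g ∣_ U) :=
    MorphismProperty.of_isPullback hXY inferInstance
  obtain ⟨X₀, Y₀, S₀, f₀, g₀, h, eY, eX, i1, i2, i3, i4, i5, sqY, sqX⟩ :=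
    exists_noetherian_model_mor (f ∣_ (g ⁻¹ᵁ U)) (g ∣_ U)
  refine ⟨X₀, Y₀, S₀, f₀, g₀, h, i1, i2, i3, i4, i5, ?_⟩
  rw [← locusMor_baseChange hP hY hX, locusMor_baseChange hP sqY sqX]

/-- **S5880** -/
theorem isLocallyConstructible_locusMor (hP : ConsProp.IsConsMor P) {X Y S : Scheme.{u}}
    (f : X ⟶ Y) (g : Y ⟶ S)
    [LocallyOfFinitePresentation g] [QuasiCompact g] [QuasiSeparated g]
    [LocallyOfFinitePresentation (f ≫ g)] [QuasiCompact (f ≫ g)] [QuasiSeparated (f ≫ g)] :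
    IsLocallyConstructible (ConsProp.locusMor P f g) := by
  refine isLocallyConstructible_of_local_models _ fun U hU => ?_
  obtain ⟨X₀, Y₀, S₀, f₀, g₀, h, i1, i2, i3, i4, i5, heq⟩ := exists_local_model_mor hP.1 f g U hU
  exact ⟨S₀, h, _, isConstructible_locusMor_of_isNoetherian hP f₀ g₀, heq⟩

/-- **S5881** -/
theorem isIndConstructible_locusMor (hP : ConsProp.IsIndConsMor P) {X Y S : Scheme.{u}}
    (f : X ⟶ Y) (g : Y ⟶ S)
    [LocallyOfFinitePresentation g] [QuasiCompact g] [QuasiSeparated g]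
    [LocallyOfFinitePresentation (f ≫ g)] [QuasiCompact (f ≫ g)] [QuasiSeparated (f ≫ g)] :
    ProCons.IsIndConstructible (ConsProp.locusMor P f g) := by
  refine isIndConstructible_of_local_models _ fun U hU => ?_
  obtain ⟨X₀, Y₀, S₀, f₀, g₀, h, i1, i2, i3, i4, i5, heq⟩ := exists_local_model_mor hP.1 f g U hU
  obtain ⟨𝒞, h𝒞, hcov⟩ := exists_cover_locusMor_of_isNoetherian hP f₀ g₀
  exact ⟨S₀, h, 𝒞, h𝒞, by rw [heq, hcov]⟩

end Mor

section Pair

variable {P : ∀ ⦃X Y T : Scheme.{u}⦄, (X ⟶ T) → (Y ⟶ T) → Prop}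

theorem locusPair_pullback (hP : ConsPropPair.IsFieldStablePair P) {X Y S W : Scheme.{u}}
    (u : X ⟶ S) (v : Y ⟶ S) (ι : W ⟶ S) [LocallyOfFiniteType u] [QuasiCompact u]
    [LocallyOfFiniteType v] [QuasiCompact v] :
    ∃ (XW YW : Scheme.{u}) (uW : XW ⟶ W) (vW : YW ⟶ W), LocallyOfFiniteType uW ∧
      QuasiCompact uW ∧ LocallyOfFiniteType vW ∧ QuasiCompact vW ∧
      ConsPropPair.locusPair P uW vW = ι ⁻¹' ConsPropPair.locusPair P u v :=
  ⟨_, _, pullback.snd u ι, pullback.snd v ι, inferInstance, inferInstance, inferInstance,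
    inferInstance, locusPair_baseChange hP (IsPullback.of_hasPullback u ι)
      (IsPullback.of_hasPullback v ι)⟩

theorem isConstructible_locusPair_of_isNoetherian (hP : ConsPropPair.IsConsPair P)
    {X Y S : Scheme.{u}} [IsNoetherian S] (u : X ⟶ S) (v : Y ⟶ S) [LocallyOfFiniteType u]
    [QuasiCompact u] [LocallyOfFiniteType v] [QuasiCompact v] :
    IsConstructible (ConsPropPair.locusPair P u v) := by
  refine isConstructible_of_forall_closed_integral _ ?_
  intro W ι _ _ _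
  obtain ⟨XW, YW, uW, vW, h1, h2, h3, h4, heq⟩ := locusPair_pullback hP.1 u v ι
  rw [← heq]
  exact hP.2 uW vW

theorem exists_cover_locusPair_of_isNoetherian (hP : ConsPropPair.IsIndConsPair P)
    {X Y S : Scheme.{u}} [IsNoetherian S] (u : X ⟶ S) (v : Y ⟶ S) [LocallyOfFiniteType u]
    [QuasiCompact u] [LocallyOfFiniteType v] [QuasiCompact v] :
    ∃ 𝒞 : Set (Set S), (∀ C ∈ 𝒞, IsConstructible C) ∧ ConsPropPair.locusPair P u v = ⋃₀ 𝒞 := by
  refine exists_constructible_cover_of_forall_closed_integral _ ?_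
  intro W ι _ _ _
  obtain ⟨XW, YW, uW, vW, h1, h2, h3, h4, heq⟩ := locusPair_pullback hP.1 u v ι
  rw [← heq]
  exact hP.2 uW vW

theorem exists_local_model_pair (hP : ConsPropPair.IsFieldStablePair P) {X Y S : Scheme.{u}}
    (u : X ⟶ S) (v : Y ⟶ S)
    [LocallyOfFinitePresentation u] [QuasiCompact u] [QuasiSeparated u]
    [LocallyOfFinitePresentation v] [QuasiCompact v] [QuasiSeparated v]
    (U : S.Opens) (hU : IsAffineOpen U) :
    ∃ (X₀ Y₀ S₀ : Scheme.{u}) (u₀ : X₀ ⟶ S₀) (v₀ : Y₀ ⟶ S₀) (h : (U : Scheme.{u}) ⟶ S₀),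
      IsNoetherian S₀ ∧ LocallyOfFiniteType u₀ ∧ QuasiCompact u₀ ∧
      LocallyOfFiniteType v₀ ∧ QuasiCompact v₀ ∧
      U.ι ⁻¹' ConsPropPair.locusPair P u v = h ⁻¹' ConsPropPair.locusPair P u₀ v₀ := by
  haveI : IsAffine (U : Scheme.{u}) := hU
  have hX : IsPullback (u ⁻¹ᵁ U).ι (u ∣_ U) u U.ι := (isPullback_morphismRestrict u U).flip
  have hY : IsPullback (v ⁻¹ᵁ U).ι (v ∣_ U) v U.ι := (isPullback_morphismRestrict v U).flip
  haveI : LocallyOfFinitePresentation (u ∣_ U) := MorphismProperty.of_isPullback hX inferInstance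
  haveI : QuasiCompact (u ∣_ U) := MorphismProperty.of_isPullback hX inferInstance
  haveI : QuasiSeparated (u ∣_ U) := MorphismProperty.of_isPullback hX inferInstance
  haveI : LocallyOfFinitePresentation (v ∣_ U) := MorphismProperty.of_isPullback hY inferInstance
  haveI : QuasiCompact (v ∣_ U) := MorphismProperty.of_isPullback hY inferInstance
  haveI : QuasiSeparated (v ∣_ U) := MorphismProperty.of_isPullback hY inferInstance
  obtain ⟨X₀, Y₀, S₀, u₀, v₀, h, eX, eY, i1, i2, i3, i4, i5, sqX, sqY⟩ :=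
    exists_noetherian_model_pair (u ∣_ U) (v ∣_ U)
  refine ⟨X₀, Y₀, S₀, u₀, v₀, h, i1, i2, i3, i4, i5, ?_⟩
  rw [← locusPair_baseChange hP hX hY, locusPair_baseChange hP sqX sqY]

/-- **S5906** -/
theorem isLocallyConstructible_locusPair (hP : ConsPropPair.IsConsPair P) {X Y S : Scheme.{u}}
    (u : X ⟶ S) (v : Y ⟶ S)
    [LocallyOfFinitePresentation u] [QuasiCompact u] [QuasiSeparated u]
    [LocallyOfFinitePresentation v] [QuasiCompact v] [QuasiSeparated v] :
    IsLocallyConstructible (ConsPropPair.locusPair P u v) := by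
  refine isLocallyConstructible_of_local_models _ fun U hU => ?_
  obtain ⟨X₀, Y₀, S₀, u₀, v₀, h, i1, i2, i3, i4, i5, heq⟩ :=
    exists_local_model_pair hP.1 u v U hU
  exact ⟨S₀, h, _, isConstructible_locusPair_of_isNoetherian hP u₀ v₀, heq⟩

/-- **S5907** -/
theorem isIndConstructible_locusPair (hP : ConsPropPair.IsIndConsPair P) {X Y S : Scheme.{u}}
    (u : X ⟶ S) (v : Y ⟶ S)
    [LocallyOfFinitePresentation u] [QuasiCompact u] [QuasiSeparated u]
    [LocallyOfFinitePresentation v] [QuasiCompact v] [QuasiSeparated v] :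
    ProCons.IsIndConstructible (ConsPropPair.locusPair P u v) := by
  refine isIndConstructible_of_local_models _ fun U hU => ?_
  obtain ⟨X₀, Y₀, S₀, u₀, v₀, h, i1, i2, i3, i4, i5, heq⟩ :=
    exists_local_model_pair hP.1 u v U hU
  obtain ⟨𝒞, h𝒞, hcov⟩ := exists_cover_locusPair_of_isNoetherian hP u₀ v₀
  exact ⟨S₀, h, 𝒞, h𝒞, by rw [heq, hcov]⟩

end Pair

end Groth.Agent.Lib.Helper12.H12ConsP
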