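import Mathlib
import Groth.Agent.Lib.Helper12.ConsP5
import Groth.Agent.Lib.Helper17.ProCons
import Groth.Agent.Lib.Helper11.LimRange

set_option autoImplicit false
universe u

namespace Groth.Agent.Lib.Helper12.H12ConsP

open AlgebraicGeometry CategoryTheory Limits TopologicalSpace Topology

section Limit

variable {I : Type u} [SmallCategory I] [IsCofiltered I]
    (D : I ⥤ Scheme.{u}) (c : Limits.Cone D) (hc : Limits.IsLimit c)
    [∀ (i j : I) (a : i ⟶ j), IsAffineHom (D.map a)]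

include hc in
/-- EGA IV 8.3.4: an ind-constructible subset of a quasi-compact stage whose preimage in the
limit is everything already has full preimage at some stage. -/
theorem exists_stage_preimage_univ (i₀ : I) [CompactSpace ↥(D.obj i₀)] (E₀ : Set ↥(D.obj i₀))
    (hE₀ : ProCons.IsIndConstructible E₀) (h : ∀ s : ↥c.pt, c.π.app i₀ s ∈ E₀) :
    ∃ (j : I) (φ : j ⟶ i₀), ∀ t : ↥(D.obj j), D.map φ t ∈ E₀ := by
  classical
  let F : Over i₀ → Set ↥(D.obj i₀) := fun k => Set.range ⇑(D.map k.hom)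
  have hF : ∀ k, ProCons.IsProConstructible (F k) := by
    intro k
    have := Groth.Agent.Lib.Helper17.ProConsLib.isProConstructible_image (D.map k.hom)
      (E := Set.univ) (Groth.Agent.Lib.Helper17.ProConsLib.isProConstructible_of_isClosed isClosed_univ)
    simpa [F] using this
  have hsub : ⋂ k, F k ⊆ E₀ := by
    intro x hx
    have : x ∈ Set.range ⇑(c.π.app i₀) := by
      rw [Groth.Agent.Lib.Helper11.range_π_eq_iInter_range_map D c hc i₀]
      simp only [Set.mem_iInter] at hx ⊢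
      intro j φ
      exact hx (Over.mk φ)
    obtain ⟨s, rfl⟩ := this
    exact h s
  obtain ⟨J, hJ⟩ := Groth.Agent.Lib.Helper17.ProConsLib.exists_finset_biInter_subset_scheme hE₀ F hF hsub
  obtain ⟨k, hk⟩ := IsCofiltered.inf_objs_exists J
  refine ⟨k.left, k.hom, fun t => hJ ?_⟩
  simp only [Set.mem_iInter]
  intro k' hk'
  obtain ⟨a⟩ := hk hk'
  refine ⟨D.map a.left t, ?_⟩
  rw [← Scheme.Hom.comp_apply, ← D.map_comp, Over.w a]

include hc in
/-- **S5891** -/
theorem forall_locusMor_iff_stage {P : ∀ ⦃X Y T : Scheme.{u}⦄, (X ⟶ Y) → (Y ⟶ T) → Prop}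
    (hP : ConsProp.IsIndConsMor P) (i₀ : I) [CompactSpace ↥(D.obj i₀)]
    {X₀ Y₀ : Scheme.{u}} (f₀ : X₀ ⟶ Y₀) (g₀ : Y₀ ⟶ D.obj i₀)
    [LocallyOfFinitePresentation g₀] [QuasiCompact g₀] [QuasiSeparated g₀]
    [LocallyOfFinitePresentation (f₀ ≫ g₀)] [QuasiCompact (f₀ ≫ g₀)] [QuasiSeparated (f₀ ≫ g₀)]
    {X Y : Scheme.{u}} (f : X ⟶ Y) (g : Y ⟶ c.pt) (qY : Y ⟶ Y₀) (qX : X ⟶ X₀)
    (hY : IsPullback qY g g₀ (c.π.app i₀)) (hX : IsPullback qX f f₀ qY) :
    (∀ s : ↥c.pt, s ∈ ConsProp.locusMor P f g) ↔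
      ∃ (j : I) (φ : j ⟶ i₀) (Xj Yj : Scheme.{u}) (fj : Xj ⟶ Yj) (gj : Yj ⟶ D.obj j)
        (pY : Yj ⟶ Y₀) (pX : Xj ⟶ X₀), IsPullback pY gj g₀ (D.map φ) ∧ IsPullback pX fj f₀ pY ∧
          ∀ t : ↥(D.obj j), t ∈ ConsProp.locusMor P fj gj := by
  have e1 : ConsProp.locusMor P f g = (c.π.app i₀) ⁻¹' ConsProp.locusMor P f₀ g₀ :=
    locusMor_baseChange hP.1 hY hX
  constructor
  · intro h
    obtain ⟨j, φ, hj⟩ := exists_stage_preimage_univ D c hc i₀ _
      (isIndConstructible_locusMor hP f₀ g₀) (fun s => by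
        have := h s
        rw [e1] at this
        exact this)
    refine ⟨j, φ, pullback f₀ (pullback.fst g₀ (D.map φ)), pullback g₀ (D.map φ),
      pullback.snd _ _, pullback.snd _ _, pullback.fst _ _, pullback.fst _ _,
      IsPullback.of_hasPullback _ _, IsPullback.of_hasPullback _ _, fun t => ?_⟩
    rw [locusMor_baseChange hP.1 (IsPullback.of_hasPullback _ _) (IsPullback.of_hasPullback _ _)]
    exact hj t
  · rintro ⟨j, φ, Xj, Yj, fj, gj, pY, pX, h1, h2, h3⟩ s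
    rw [e1]
    have e2 := locusMor_baseChange hP.1 h1 h2
    have := h3 (c.π.app j s)
    rw [e2] at this
    have hw : D.map φ (c.π.app j s) = c.π.app i₀ s := by
      rw [← Scheme.Hom.comp_apply, c.w]
    rw [Set.mem_preimage, hw] at this
    exact this

include hc in
/-- **S5908** -/
theorem forall_locusPair_iff_stage {P : ∀ ⦃X Y T : Scheme.{u}⦄, (X ⟶ T) → (Y ⟶ T) → Prop}
    (hP : ConsPropPair.IsIndConsPair P) (i₀ : I) [CompactSpace ↥(D.obj i₀)]
    {X₀ Y₀ : Scheme.{u}} (u₀ : X₀ ⟶ D.obj i₀) (v₀ : Y₀ ⟶ D.obj i₀)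
    [LocallyOfFinitePresentation u₀] [QuasiCompact u₀] [QuasiSeparated u₀]
    [LocallyOfFinitePresentation v₀] [QuasiCompact v₀] [QuasiSeparated v₀]
    {X Y : Scheme.{u}} (u : X ⟶ c.pt) (v : Y ⟶ c.pt) (qX : X ⟶ X₀) (qY : Y ⟶ Y₀)
    (hX : IsPullback qX u u₀ (c.π.app i₀)) (hY : IsPullback qY v v₀ (c.π.app i₀)) :
    (∀ s : ↥c.pt, s ∈ ConsPropPair.locusPair P u v) ↔
      ∃ (j : I) (φ : j ⟶ i₀) (Xj Yj : Scheme.{u}) (uj : Xj ⟶ D.obj j) (vj : Yj ⟶ D.obj j)
        (pX : Xj ⟶ X₀) (pY : Yj ⟶ Y₀), IsPullback pX uj u₀ (D.map φ) ∧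
          IsPullback pY vj v₀ (D.map φ) ∧
          ∀ t : ↥(D.obj j), t ∈ ConsPropPair.locusPair P uj vj := by
  have e1 : ConsPropPair.locusPair P u v = (c.π.app i₀) ⁻¹' ConsPropPair.locusPair P u₀ v₀ :=
    locusPair_baseChange hP.1 hX hY
  constructor
  · intro h
    obtain ⟨j, φ, hj⟩ := exists_stage_preimage_univ D c hc i₀ _
      (isIndConstructible_locusPair hP u₀ v₀) (fun s => by
        have := h s
        rw [e1] at this
        exact this)
    refine ⟨j, φ, pullback u₀ (D.map φ), pullback v₀ (D.map φ),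
      pullback.snd _ _, pullback.snd _ _, pullback.fst _ _, pullback.fst _ _,
      IsPullback.of_hasPullback _ _, IsPullback.of_hasPullback _ _, fun t => ?_⟩
    rw [locusPair_baseChange hP.1 (IsPullback.of_hasPullback _ _) (IsPullback.of_hasPullback _ _)]
    exact hj t
  · rintro ⟨j, φ, Xj, Yj, uj, vj, pX, pY, h1, h2, h3⟩ s
    rw [e1]
    have e2 := locusPair_baseChange hP.1 h1 h2
    have := h3 (c.π.app j s)
    rw [e2] at this
    have hw : D.map φ (c.π.app j s) = c.π.app i₀ s := by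
      rw [← Scheme.Hom.comp_apply, c.w]
    rw [Set.mem_preimage, hw] at this
    exact this

end Limit

end Groth.Agent.Lib.Helper12.H12ConsP
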