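import Mathlib
import Groth.Agent.Lib.Helper12.ConsP8
import Groth.Agent.Lib.Helper29.QCohPullbackSupp

set_option autoImplicit false
universe u

namespace Groth.Agent.Lib.Helper12.H12ModLim

open AlgebraicGeometry CategoryTheory Limits TopologicalSpace Topology
open Groth.Agent.Lib.Helper12.H12ConsP Groth.Agent.Lib.Helper29.QCoh

variable {I : Type u} [SmallCategory I] [IsCofiltered I]
    (D : I ⥤ Scheme.{u}) (c : Limits.Cone D) (hc : Limits.IsLimit c)
    [∀ (i j : I) (a : i ⟶ j), IsAffineHom (D.map a)]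

include hc in
/-- **S4793**: surjectivity of a pulled-back homomorphism descends to a finite stage. -/
theorem epi_pullback_iff_stage (i₀ : I) [CompactSpace ↥(D.obj i₀)]
    {F₀ G₀ : (D.obj i₀).Modules} [F₀.IsQuasicoherent] [G₀.IsQuasicoherent] [G₀.IsFiniteType]
    (f₀ : F₀ ⟶ G₀) :
    Epi ((Scheme.Modules.pullback (c.π.app i₀)).map f₀) ↔
      ∃ (j : I) (φ : j ⟶ i₀), Epi ((Scheme.Modules.pullback (D.map φ)).map f₀) := by
  haveI : (cokernel f₀).IsFiniteType := isFiniteType_cokernel f₀
  have hopen : IsOpen {y : ↥(D.obj i₀) | Subsingleton ((cokernel f₀).presheaf.stalk y)} :=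
    isOpen_setOf_subsingleton_stalk (cokernel f₀)
  constructor
  · intro h
    rw [epi_pullback_map_iff] at h
    obtain ⟨j, φ, hj⟩ := exists_stage_preimage_univ D c hc i₀ _
      (Groth.Agent.Lib.Helper17.ProConsLib.isIndConstructible_of_isOpen hopen) h
    exact ⟨j, φ, (epi_pullback_map_iff (D.map φ) f₀).mpr hj⟩
  · rintro ⟨j, φ, hj⟩
    rw [epi_pullback_map_iff] at hj ⊢
    intro s
    have := hj (c.π.app j s)
    rwa [← Scheme.Hom.comp_apply, c.w] at this

end Groth.Agent.Lib.Helper12.H12ModLim
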