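import Mathlib
import Groth.Agent.Lib.Helper12.ModLim3
import Groth.Agent.Lib.Helper29.IsoCover
import Groth.Agent.Lib.Helper29.PullSect
import Groth.Agent.Lib.Helper29.QCohQcqs
import Groth.Agent.Lib.Helper29.QCohFinite
import Groth.Agent.Helper19.PullUnit

set_option autoImplicit false
universe u

open CategoryTheory CategoryTheory.Limits AlgebraicGeometry TopologicalSpace Opposite TensorProduct
open Groth.Agent.Lib.Helper29.QCoh

/-! # Equality of pulled-back homomorphisms in a limit holds at a stage (EGA IV 8.5.2 (i), injectivity) -/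

namespace Groth.Agent.Lib.Helper12.H12ModLim


variable {X : Scheme.{u}}

/-- Two morphisms out of a quasi-coherent module agree as soon as they agree on spanning sets of
sections over the members of an affine open cover. -/
theorem hom_ext_of_affine_cover {M H : X.Modules} [M.IsQuasicoherent] (α β : M ⟶ H)
    {ι : Type*} (U : ι → X.Opens) (hU : ∀ i, IsAffineOpen (U i)) (hcov : ∀ x : X, ∃ i, x ∈ U i)
    (S : ∀ i, Set Γ(M, U i)) (hS : ∀ i, Submodule.span Γ(X, U i) (S i) = ⊤)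
    (h : ∀ i, ∀ m ∈ S i, α.app (U i) m = β.app (U i) m) : α = β := by
  have h1 : ∀ i (m : Γ(M, U i)), α.app (U i) m = β.app (U i) m := by
    intro i m
    have hm : m ∈ Submodule.span Γ(X, U i) (S i) := by rw [hS i]; trivial
    refine Submodule.span_induction (p := fun m _ => α.app (U i) m = β.app (U i) m)
      (h i) ?_ ?_ ?_ hm
    · simp
    · intro a b _ _ ha hb
      rw [map_add, map_add, ha, hb]
    · intro r a _ ha
      rw [app_smul', app_smul', ha]
  have h2 : ∀ (x : X) (t : M.presheaf.stalk x), stalkMap α x t = stalkMap β x t := by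
    intro x t
    obtain ⟨i, hx⟩ := hcov x
    obtain ⟨r, m, hxr, e⟩ := exists_smul_germ_eq M (hU i) x hx t
    have hr := isUnit_germ_of_mem_basicOpen r x hx hxr
    have e1 : X.presheaf.germ (U i) x hx r • (stalkMap α x t - stalkMap β x t) = 0 := by
      rw [smul_sub, ← stalkMap_smul, ← stalkMap_smul, e, stalkMap_germ, stalkMap_germ, h1 i m,
        sub_self]
    exact sub_eq_zero.mp (eq_zero_of_isUnit_smul hr e1)
  apply Scheme.Modules.hom_ext
  intro W
  ext m
  refine section_ext H _ _ fun x hx => ?_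
  rw [← stalkMap_germ, ← stalkMap_germ, h2]


section PB
variable {X : Scheme.{u}}
variable {Y : Scheme.{u}} (f : X ⟶ Y)

theorem pullSect_eq_of_pullback_map_eq {F G : Y.Modules} (φ ψ : F ⟶ G)
    (h : (Scheme.Modules.pullback f).map φ = (Scheme.Modules.pullback f).map ψ)
    (V : Y.Opens) (m : Γ(F, V)) :
    pullSect f G V (φ.app V m) = pullSect f G V (ψ.app V m) := by
  rw [← pullSect_naturality, ← pullSect_naturality, h]

theorem pullback_map_eq_of_pullSect_eq {F G : Y.Modules} [F.IsQuasicoherent] (φ ψ : F ⟶ G)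
    {ι : Type*} (V : ι → Y.Opens) (hV : ∀ i, IsAffineOpen (V i)) (hcov : ∀ y : Y, ∃ i, y ∈ V i)
    (S : ∀ i, Set Γ(F, V i)) (hS : ∀ i, Submodule.span Γ(Y, V i) (S i) = ⊤)
    (h : ∀ i, ∀ m ∈ S i,
      pullSect f G (V i) (φ.app (V i) m) = pullSect f G (V i) (ψ.app (V i) m)) :
    (Scheme.Modules.pullback f).map φ = (Scheme.Modules.pullback f).map ψ := by
  let adj := Scheme.Modules.pullbackPushforwardAdjunction f
  apply (adj.homEquiv _ _).injective
  rw [Adjunction.homEquiv_unit, Adjunction.homEquiv_unit]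
  have e1 := adj.unit.naturality φ
  have e2 := adj.unit.naturality ψ
  simp only [Functor.id_obj, Functor.id_map, Functor.comp_obj, Functor.comp_map] at e1 e2
  rw [← e1, ← e2]
  refine hom_ext_of_affine_cover _ _ V hV hcov S hS fun i m hm => ?_
  rw [app_comp, app_comp]
  exact h i m hm


theorem pullback_map_eq_of_comp {Z : Scheme.{u}} (g : Y ⟶ Z) {F G : Z.Modules} (φ ψ : F ⟶ G)
    (h : (Scheme.Modules.pullback g).map φ = (Scheme.Modules.pullback g).map ψ) :
    (Scheme.Modules.pullback (f ≫ g)).map φ = (Scheme.Modules.pullback (f ≫ g)).map ψ := by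
  have n1 := (Scheme.Modules.pullbackComp f g).hom.naturality φ
  have n2 := (Scheme.Modules.pullbackComp f g).hom.naturality ψ
  simp only [Functor.comp_map] at n1 n2
  rw [h] at n1
  exact (cancel_epi _).mp (n1.symm.trans n2)


end PB


set_option maxRecDepth 8000 in
theorem pullSect_eq_zero_iff {X Y : Scheme.{u}} (f : X ⟶ Y) (F : Y.Modules) [F.IsQuasicoherent]
    {V : Y.Opens} (hV : IsAffineOpen V) (hU : IsAffineOpen (f ⁻¹ᵁ V)) (n : Γ(F, V)) :
    letI := (f.appLE V (f ⁻¹ᵁ V) le_rfl).hom.toAlgebra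
    pullSect f F V n = 0 ↔ (1 : Γ(X, f ⁻¹ᵁ V)) ⊗ₜ[Γ(Y, V)] n = 0 := by
  letI := (f.appLE V (f ⁻¹ᵁ V) le_rfl).hom.toAlgebra
  have key := Groth.Agent.Helper19.PullUnit.pullbackSectionsEquiv_pullSect f F hU hV le_rfl n
  have e0 : res ((Scheme.Modules.pullback f).obj F) (le_refl _) (pullSect f F V n) =
      pullSect f F V n := res_self _ _
  constructor
  · intro h
    have h1 : pullbackSectionsEquiv f F hU hV le_rfl
        (res ((Scheme.Modules.pullback f).obj F) (le_refl _) (pullSect f F V n)) = 0 := by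
      rw [e0, h, map_zero]
    exact key.symm.trans h1
  · intro h
    have h1 : pullbackSectionsEquiv f F hU hV le_rfl
        (res ((Scheme.Modules.pullback f).obj F) (le_refl _) (pullSect f F V n)) = 0 := key.trans h
    have h2 := (LinearEquiv.map_eq_zero_iff _).mp h1
    exact e0.symm.trans h2

section Lim
variable {I : Type u} [SmallCategory I] [IsCofiltered I] (D : I ⥤ Scheme.{u}) (c : Cone D)
  (hc : IsLimit c) [∀ {i j : I} (f : i ⟶ j), IsAffineHom (D.map f)]
  (i₀ : I) (G₀ : (D.obj i₀).Modules) [G₀.IsQuasicoherent] (V : (D.obj i₀).Opens)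

theorem pullSect_stage_eq_zero_iff (hV : IsAffineOpen V) (k : (Over i₀)ᵒᵖ) (n : Γ(G₀, V)) :
    pullSect (D.map k.unop.hom) G₀ V n = 0 ↔
      (1 : StA D i₀ V k) ⊗ₜ[Γ(D.obj i₀, V)] n = 0 :=
  pullSect_eq_zero_iff (D.map k.unop.hom) G₀ hV (hV.preimage _) n

include hc in
theorem pullSect_limit_eq_zero_iff (hV : IsAffineOpen V) (n : Γ(G₀, V)) :
    pullSect (c.π.app i₀) G₀ V n = 0 ↔
      (1 : StB D c i₀ V) ⊗ₜ[Γ(D.obj i₀, V)] n = 0 := by
  haveI := isAffineHom_π_app D c hc i₀
  exact pullSect_eq_zero_iff (X := c.pt) (c.π.app i₀) G₀ hV (hV.preimage _) n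

include hc in
theorem exists_stage_pullSect_eq_zero (hV : IsAffineOpen V) (n : Γ(G₀, V))
    (h : pullSect (c.π.app i₀) G₀ V n = 0) :
    ∃ k : Over i₀, pullSect (D.map k.hom) G₀ V n = 0 := by
  rw [pullSect_limit_eq_zero_iff D c hc i₀ G₀ V hV] at h
  let k₀ : (Over i₀)ᵒᵖ := op (Over.mk (𝟙 i₀))
  have hx : (stρ D c i₀ V k₀).toLinearMap.rTensor Γ(G₀, V)
      ((1 : StA D i₀ V k₀) ⊗ₜ[Γ(D.obj i₀, V)] n) = 0 := by
    rw [LinearMap.rTensor_tmul, AlgHom.toLinearMap_apply, map_one]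
    exact h
  obtain ⟨k', f, hf⟩ := exists_stage_rTensor_eq_zero D c hc i₀ V hV Γ(G₀, V) k₀ _ hx
  rw [LinearMap.rTensor_tmul, AlgHom.toLinearMap_apply, map_one] at hf
  exact ⟨k'.unop, (pullSect_stage_eq_zero_iff D i₀ G₀ V hV k' n).mpr hf⟩

theorem pullSect_stage_eq_zero_of_hom (hV : IsAffineOpen V) {k k' : Over i₀} (g : k' ⟶ k)
    (n : Γ(G₀, V)) (h : pullSect (D.map k.hom) G₀ V n = 0) :
    pullSect (D.map k'.hom) G₀ V n = 0 := by
  rw [show k.hom = (op k).unop.hom from rfl, pullSect_stage_eq_zero_iff D i₀ G₀ V hV (op k)] at h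
  rw [show k'.hom = (op k').unop.hom from rfl, pullSect_stage_eq_zero_iff D i₀ G₀ V hV (op k')]
  have := congrArg ((stτ D i₀ V g.op).toLinearMap.rTensor Γ(G₀, V)) h
  rw [LinearMap.rTensor_tmul, AlgHom.toLinearMap_apply, map_one, map_zero] at this
  exact this



include hc in
theorem pullback_map_eq_iff_stage [CompactSpace (D.obj i₀)] {F₀ G₀ : (D.obj i₀).Modules}
    [F₀.IsQuasicoherent] [F₀.IsFiniteType] [G₀.IsQuasicoherent] (φ₀ ψ₀ : F₀ ⟶ G₀) :
    (Scheme.Modules.pullback (c.π.app i₀)).map φ₀ = (Scheme.Modules.pullback (c.π.app i₀)).map ψ₀ ↔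
      ∃ (j : I) (φ : j ⟶ i₀),
        (Scheme.Modules.pullback (D.map φ)).map φ₀ = (Scheme.Modules.pullback (D.map φ)).map ψ₀ := by
  classical
  constructor
  · intro h
    obtain ⟨N, V, hV, -, hcov⟩ := exists_finite_affine_cover (X := D.obj i₀) (U := ⊤)
      (isCompact_univ)
    have hcov' : ∀ y : D.obj i₀, ∃ a, y ∈ V a := fun y => by
      simpa using Opens.mem_iSup.mp (hcov (show y ∈ (⊤ : (D.obj i₀).Opens) from trivial))
    have hfin : ∀ a, Module.Finite Γ(D.obj i₀, V a) Γ(F₀, V a) := fun a =>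
      module_finite_of_isFiniteType F₀ (hV a)
    choose s hs using fun a => (hfin a).fg_top
    let ι := Σ a : Fin N, {m // m ∈ s a}
    have key : ∀ p : ι, ∃ k : Over i₀, pullSect (D.map k.hom) G₀ (V p.1)
        (φ₀.app (V p.1) p.2.1 - ψ₀.app (V p.1) p.2.1) = 0 := by
      intro p
      apply exists_stage_pullSect_eq_zero D c hc i₀ G₀ (V p.1) (hV p.1)
      rw [map_sub, sub_eq_zero]
      exact pullSect_eq_of_pullback_map_eq (X := c.pt) (c.π.app i₀) φ₀ ψ₀ h _ _
    choose kk hkk using key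
    obtain ⟨k, hk⟩ := IsCofiltered.inf_objs_exists (Finset.univ.image kk)
    refine ⟨k.left, k.hom, ?_⟩
    refine pullback_map_eq_of_pullSect_eq (D.map k.hom) φ₀ ψ₀ V hV hcov' (fun a => (s a : Set _))
      hs fun a m hm => ?_
    have h1 := hkk ⟨a, ⟨m, hm⟩⟩
    obtain ⟨g⟩ := hk (X := kk ⟨a, ⟨m, hm⟩⟩) (Finset.mem_image_of_mem _ (Finset.mem_univ _))
    have h2 := pullSect_stage_eq_zero_of_hom D i₀ G₀ (V a) (hV a) g _ h1
    rw [map_sub, sub_eq_zero] at h2
    exact h2
  · rintro ⟨j, φ, h⟩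
    have := pullback_map_eq_of_comp (c.π.app j) (D.map φ) φ₀ ψ₀ h
    rwa [c.w] at this


end Lim

end Groth.Agent.Lib.Helper12.H12ModLim
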