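import Mathlib
import Groth.Agent.Lib.Helper12.ModLim1
import Groth.Agent.Lib.Helper12.ModLim4
import Groth.Agent.Lib.Helper29.QCohGen
import Groth.Agent.Lib.Helper29.QCohFP2

universe u

open CategoryTheory CategoryTheory.Limits AlgebraicGeometry TopologicalSpace Opposite TensorProduct
open Groth.Agent.Lib.Helper29.QCoh

namespace Groth.Agent.Lib.Helper12.H12ModLim

section Ker
variable {X : Scheme.{u}}

theorem app_injective_of_mono {M N : X.Modules} (φ : M ⟶ N) [Mono φ] (U : X.Opens) :
    Function.Injective (φ.app U) := by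
  rw [injective_iff_map_eq_zero]
  intro m hm
  refine eq_zero_of_germ_eq_zero M m fun x hx => ?_
  apply (mono_iff_stalkMap_injective φ).mp inferInstance x
  rw [stalkMap_germ, hm, map_zero, map_zero]

theorem isFiniteType_kernel_of_epi {F G : X.Modules} [F.IsQuasicoherent] [F.IsFiniteType]
    [G.IsQuasicoherent] [G.IsFinitePresentation] (f : F ⟶ G) [Epi f] :
    (kernel f).IsFiniteType := by
  refine isFiniteType_of_module_finite (kernel f) (fun U : X.affineOpens => (U : X.Opens))
    (isOpenCover_affineOpens X) (fun U => U.2) fun U => ?_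
  have hfin : Module.Finite Γ(X, U.1) Γ(F, U.1) := module_finite_of_isFiniteType F U.2
  have hfp : Module.FinitePresentation Γ(X, U.1) Γ(G, U.1) :=
    module_finitePresentation_of_isFinitePresentation G U.2
  have hsurj : Function.Surjective (appₗ f U.1) := app_surjective_of_epi f U.2
  have hinj : Function.Injective (appₗ (kernel.ι f) U.1) := app_injective_of_mono _ _
  have hex : Function.Exact (appₗ (kernel.ι f) U.1) (appₗ f U.1) :=
    app_exact_of_exact (ShortComplex.mk (kernel.ι f) f (kernel.condition f))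
      (ShortComplex.exact_kernel f) U.2
  have hker : (LinearMap.ker (appₗ f U.1)).FG := Module.FinitePresentation.fg_ker _ hsurj
  have hrange : LinearMap.range (appₗ (kernel.ι f) U.1) = LinearMap.ker (appₗ f U.1) :=
    (LinearMap.exact_iff.mp hex).symm
  rw [← hrange] at hker
  have e := LinearEquiv.ofInjective (appₗ (kernel.ι f) U.1) hinj
  have : Module.Finite Γ(X, U.1) (LinearMap.range (appₗ (kernel.ι f) U.1)) :=
    Module.Finite.iff_fg.mpr hker
  exact Module.Finite.equiv e.symm

end Ker

section PBIso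
variable {X Y Z : Scheme.{u}}

theorem isIso_pullback_map_comp_iff (f : X ⟶ Y) (g : Y ⟶ Z) (h : X ⟶ Z) (w : f ≫ g = h)
    {M N : Z.Modules} (a : M ⟶ N) :
    IsIso ((Scheme.Modules.pullback f).map ((Scheme.Modules.pullback g).map a)) ↔
      IsIso ((Scheme.Modules.pullback h).map a) := by
  subst w
  exact NatIso.isIso_map_iff (Scheme.Modules.pullbackComp f g) a

theorem pullback_map_comp_eq_zero_iff (f : X ⟶ Y) (g : Y ⟶ Z) (h : X ⟶ Z) (w : f ≫ g = h)
    {M N : Z.Modules} (a : M ⟶ N) :
    (Scheme.Modules.pullback f).map ((Scheme.Modules.pullback g).map a) = 0 ↔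
      (Scheme.Modules.pullback h).map a = 0 := by
  subst w
  have n1 := (Scheme.Modules.pullbackComp f g).hom.naturality a
  simp only [Functor.comp_map] at n1
  constructor
  · intro h0
    rw [h0, zero_comp] at n1
    exact (cancel_epi _).mp (n1.symm.trans comp_zero.symm)
  · intro h0
    rw [h0, comp_zero] at n1
    exact (cancel_mono _).mp (n1.trans zero_comp.symm)

/-- Pullback of modules is right exact: an epimorphism with kernel killed by pullback
pulls back to an isomorphism. -/
theorem isIso_pullback_map_of_epi_of_kernel_zero (g : X ⟶ Y) {M N : Y.Modules} (a : M ⟶ N) [Epi a]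
    (h0 : (Scheme.Modules.pullback g).map (kernel.ι a) = 0) :
    IsIso ((Scheme.Modules.pullback g).map a) := by
  haveI : PreservesColimitsOfSize.{0, 0} (Scheme.Modules.pullback g) :=
    (Scheme.Modules.pullbackPushforwardAdjunction g).leftAdjoint_preservesColimits
  haveI : PreservesFiniteColimits (Scheme.Modules.pullback g) := ⟨fun _ _ _ => inferInstance⟩
  have h21 := (Functor.preservesFiniteColimits_tfae (Scheme.Modules.pullback g)).out 3 1
  have := h21.mp inferInstance (ShortComplex.mk (kernel.ι a) a (kernel.condition a))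
    ⟨ShortComplex.exact_kernel a, inferInstance⟩
  obtain ⟨hex, hepi⟩ := this
  haveI : Mono ((Scheme.Modules.pullback g).map a) := (ShortComplex.exact_iff_mono _ h0).mp hex
  haveI : Epi ((Scheme.Modules.pullback g).map a) := hepi
  exact isIso_of_mono_of_epi _

end PBIso

section
variable {I : Type u} [SmallCategory I] [IsCofiltered I]
    (D : I ⥤ Scheme.{u}) (c : Limits.Cone D) (hc : Limits.IsLimit c)
    [∀ (i j : I) (a : i ⟶ j), IsAffineHom (D.map a)]

include hc in
theorem isIso_pullback_iff_stage (i₀ : I) [CompactSpace (D.obj i₀)] {F₀ G₀ : (D.obj i₀).Modules}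
    [F₀.IsQuasicoherent] [F₀.IsFiniteType] [G₀.IsQuasicoherent] [G₀.IsFinitePresentation]
    (f₀ : F₀ ⟶ G₀) :
    IsIso ((Scheme.Modules.pullback (c.π.app i₀)).map f₀) ↔
      ∃ (j : I) (φ : j ⟶ i₀), IsIso ((Scheme.Modules.pullback (D.map φ)).map f₀) := by
  have hA : ∀ {i j : I} (f : i ⟶ j), IsAffineHom (D.map f) := fun f => inferInstance
  constructor
  · intro h
    haveI := h
    -- Step 1: surjective at a stage
    obtain ⟨j₁, φ₁, hepi⟩ := (epi_pullback_iff_stage D c hc i₀ f₀).mp inferInstance
    haveI := hepi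
    haveI : CompactSpace (D.obj j₁) :=
      QuasiCompact.compactSpace_of_compactSpace (D.map φ₁)
    set f₁ := (Scheme.Modules.pullback (D.map φ₁)).map f₀ with hf₁
    haveI : (kernel f₁).IsFiniteType := isFiniteType_kernel_of_epi f₁
    -- Step 3
    have hiso1 : IsIso ((Scheme.Modules.pullback (c.π.app j₁)).map f₁) :=
      (isIso_pullback_map_comp_iff (X := c.pt) (c.π.app j₁) (D.map φ₁) (c.π.app i₀) (c.w φ₁) f₀).mpr h
    haveI := hiso1
    have hz : (Scheme.Modules.pullback (c.π.app j₁)).map (kernel.ι f₁) =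
        (Scheme.Modules.pullback (c.π.app j₁)).map 0 := by
      rw [Functor.map_zero]
      apply (cancel_mono ((Scheme.Modules.pullback (c.π.app j₁)).map f₁)).mp
      rw [← Functor.map_comp, kernel.condition, Functor.map_zero, zero_comp]
    obtain ⟨j₂, φ₂, h2⟩ := (pullback_map_eq_iff_stage D c hc j₁ (kernel.ι f₁) 0).mp hz
    rw [Functor.map_zero] at h2
    have hiso2 := isIso_pullback_map_of_epi_of_kernel_zero (D.map φ₂) f₁ h2
    refine ⟨j₂, φ₂ ≫ φ₁, ?_⟩
    exact (isIso_pullback_map_comp_iff (D.map φ₂) (D.map φ₁) (D.map (φ₂ ≫ φ₁))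
      (D.map_comp _ _).symm f₀).mp hiso2
  · rintro ⟨j, φ, hj⟩
    haveI := hj
    have : IsIso ((Scheme.Modules.pullback (c.π.app j)).map
        ((Scheme.Modules.pullback (D.map φ)).map f₀)) := inferInstance
    exact (isIso_pullback_map_comp_iff (X := c.pt) (c.π.app j) (D.map φ) (c.π.app i₀) (c.w φ) f₀).mp this

end

end Groth.Agent.Lib.Helper12.H12ModLim
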