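import Mathlib
import Groth.Agent.Lib.Helper12.ModLim5

universe u v

open CategoryTheory CategoryTheory.Limits AlgebraicGeometry TopologicalSpace Opposite TensorProduct
open Groth.Agent.Lib.Helper29.QCoh

namespace Groth.Agent.Lib.Helper12.H12ModLim

section Abstract
variable {C : Type u} [Category.{v} C] [Abelian C]

/-- `A ⟶ B ⟶ B' ⟶ 0` is exact. -/
def RightExact {A B B' : C} (a : A ⟶ B) (b : B ⟶ B') : Prop :=
  ∃ w : a ≫ b = 0, (ShortComplex.mk a b w).Exact ∧ Epi b

theorem rightExact_cokernel {A B : C} (a : A ⟶ B) : RightExact a (cokernel.π a) :=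
  ⟨cokernel.condition a, ShortComplex.exact_cokernel a, inferInstance⟩

theorem rightExact_iff_of_iso {A B B' A' B₁ B₁' : C} {a : A ⟶ B} {b : B ⟶ B'} {a' : A' ⟶ B₁}
    {b' : B₁ ⟶ B₁'} (e₁ : A ≅ A') (e₂ : B ≅ B₁) (e₃ : B' ≅ B₁')
    (h₁ : a ≫ e₂.hom = e₁.hom ≫ a') (h₂ : b ≫ e₃.hom = e₂.hom ≫ b') :
    RightExact a b ↔ RightExact a' b' := by
  have hw : a ≫ b = 0 ↔ a' ≫ b' = 0 := by
    constructor
    · intro w
      have : e₁.hom ≫ a' ≫ b' = 0 := by
        rw [← reassoc_of% h₁, ← h₂, reassoc_of% w, zero_comp]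
      exact (cancel_epi e₁.hom).mp (this.trans comp_zero.symm)
    · intro w
      have : a ≫ b ≫ e₃.hom = 0 := by
        rw [h₂, reassoc_of% h₁, w, comp_zero]
      exact (cancel_mono e₃.hom).mp ((Category.assoc _ _ _).trans (this.trans zero_comp.symm))
  have hepi : Epi b ↔ Epi b' := by
    have hb' : b' = e₂.inv ≫ b ≫ e₃.hom := by rw [h₂, Iso.inv_hom_id_assoc]
    have hb : b = e₂.hom ≫ b' ≫ e₃.inv := by rw [← reassoc_of% h₂, Iso.hom_inv_id, Category.comp_id]
    constructor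
    · intro _; rw [hb']; infer_instance
    · intro _; rw [hb]; infer_instance
  constructor
  · rintro ⟨w, hex, hep⟩
    refine ⟨hw.mp w, ?_, hepi.mp hep⟩
    exact (ShortComplex.exact_iff_of_iso
      (ShortComplex.isoMk (S₁ := ShortComplex.mk a b w) (S₂ := ShortComplex.mk a' b' (hw.mp w))
        e₁ e₂ e₃ h₁.symm h₂.symm)).mp hex
  · rintro ⟨w, hex, hep⟩
    refine ⟨hw.mpr w, ?_, hepi.mpr hep⟩
    exact (ShortComplex.exact_iff_of_iso
      (ShortComplex.isoMk (S₁ := ShortComplex.mk a b (hw.mpr w)) (S₂ := ShortComplex.mk a' b' w)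
        e₁ e₂ e₃ h₁.symm h₂.symm)).mpr hex

/-- Lemma A. -/
theorem rightExact_comp_iff_isIso {A B Q H : C} {a : A ⟶ B} {q : B ⟶ Q} (hq : RightExact a q)
    (u : Q ⟶ H) : RightExact a (q ≫ u) ↔ IsIso u := by
  obtain ⟨wq, hexq, hepq⟩ := hq
  constructor
  · rintro ⟨wb, hexb, hepb⟩
    haveI := hepq
    haveI := hepb
    let u' : H ⟶ Q := hexb.desc q wq
    have hu' : (q ≫ u) ≫ u' = q := hexb.g_desc q wq
    refine ⟨u', ?_, ?_⟩
    · apply (cancel_epi q).mp
      rw [← Category.assoc, hu', Category.comp_id]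
    · apply (cancel_epi (q ≫ u)).mp
      rw [← Category.assoc, hu', Category.comp_id]
  · intro hu
    exact (rightExact_iff_of_iso (a := a) (b := q) (a' := a) (b' := q ≫ u)
      (Iso.refl _) (Iso.refl _) (asIso u) (by simp) (by simp)).mp ⟨wq, hexq, hepq⟩

theorem RightExact.map {D : Type*} [Category D] [Abelian D] (P : C ⥤ D) [P.Additive]
    [PreservesFiniteColimits P] {A B B' : C} {a : A ⟶ B} {b : B ⟶ B'} (h : RightExact a b) :
    RightExact (P.map a) (P.map b) := by
  obtain ⟨w, hex, hep⟩ := h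
  have h31 := (Functor.preservesFiniteColimits_tfae P).out 3 1
  have := h31.mp inferInstance (ShortComplex.mk a b w) ⟨hex, hep⟩
  exact ⟨by rw [← P.map_comp, w, P.map_zero], this.1, this.2⟩

/-- Lemma B (abstract). -/
theorem rightExact_map_iff_isIso {D : Type*} [Category D] [Abelian D] (P : C ⥤ D) [P.Additive]
    [PreservesFiniteColimits P] {A B H : C} (a : A ⟶ B) (b : B ⟶ H) (w : a ≫ b = 0) :
    RightExact (P.map a) (P.map b) ↔ IsIso (P.map (cokernel.desc a b w)) := by
  have h1 : RightExact (P.map a) (P.map (cokernel.π a)) := (rightExact_cokernel a).map P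
  have := rightExact_comp_iff_isIso h1 (P.map (cokernel.desc a b w))
  rwa [← P.map_comp, cokernel.π_desc] at this

end Abstract

section PB
variable {X Y Z : Scheme.{u}}

instance preservesFiniteColimits_pullback (g : X ⟶ Y) :
    PreservesFiniteColimits (Scheme.Modules.pullback g) := by
  haveI : PreservesColimitsOfSize.{0, 0} (Scheme.Modules.pullback g) :=
    (Scheme.Modules.pullbackPushforwardAdjunction g).leftAdjoint_preservesColimits
  exact ⟨fun _ _ _ => inferInstance⟩

theorem rightExact_pullback_comp_iff (f : X ⟶ Y) (g : Y ⟶ Z) (h : X ⟶ Z) (w : f ≫ g = h)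
    {M N P : Z.Modules} (a : M ⟶ N) (b : N ⟶ P) :
    RightExact ((Scheme.Modules.pullback f).map ((Scheme.Modules.pullback g).map a))
        ((Scheme.Modules.pullback f).map ((Scheme.Modules.pullback g).map b)) ↔
      RightExact ((Scheme.Modules.pullback h).map a) ((Scheme.Modules.pullback h).map b) := by
  subst w
  refine rightExact_iff_of_iso ((Scheme.Modules.pullbackComp f g).app M)
    ((Scheme.Modules.pullbackComp f g).app N) ((Scheme.Modules.pullbackComp f g).app P) ?_ ?_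
  · exact (Scheme.Modules.pullbackComp f g).hom.naturality a
  · exact (Scheme.Modules.pullbackComp f g).hom.naturality b

/-- After pullback, `p₂` factors through the epimorphism `p₁` iff the pullback of
`ker p₁ ⟶ F ⟶ G₂` vanishes. -/
theorem exists_factor_pullback_iff (g : X ⟶ Y) {F G₁ G₂ : Y.Modules} (p₁ : F ⟶ G₁) [Epi p₁]
    (p₂ : F ⟶ G₂) :
    (∃ k, (Scheme.Modules.pullback g).map p₁ ≫ k = (Scheme.Modules.pullback g).map p₂) ↔
      (Scheme.Modules.pullback g).map (kernel.ι p₁ ≫ p₂) = 0 := by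
  constructor
  · rintro ⟨k, hk⟩
    rw [Functor.map_comp, ← hk, ← Category.assoc, ← Functor.map_comp, kernel.condition,
      Functor.map_zero, zero_comp]
  · intro h0
    have hRE : RightExact (kernel.ι p₁) p₁ :=
      ⟨kernel.condition p₁, ShortComplex.exact_kernel p₁, inferInstance⟩
    obtain ⟨w, hex, hep⟩ := hRE.map (Scheme.Modules.pullback g)
    haveI := hep
    rw [Functor.map_comp] at h0
    exact ⟨hex.desc _ h0, hex.g_desc _ h0⟩

end PB

section
variable {I : Type u} [SmallCategory I] [IsCofiltered I]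
    (D : I ⥤ Scheme.{u}) (c : Limits.Cone D) (hc : Limits.IsLimit c)
    [∀ (i j : I) (a : i ⟶ j), IsAffineHom (D.map a)]

include hc in
theorem exists_factor_pullback_iff_stage (i₀ : I) [CompactSpace (D.obj i₀)]
    {F₀ G₁ G₂ : (D.obj i₀).Modules} [F₀.IsQuasicoherent] [G₁.IsQuasicoherent] [G₂.IsQuasicoherent]
    [F₀.IsFiniteType] [G₁.IsFinitePresentation] (p₁ : F₀ ⟶ G₁) (p₂ : F₀ ⟶ G₂) [Epi p₁] :
    (∃ k : (Scheme.Modules.pullback (c.π.app i₀)).obj G₁ ⟶ (Scheme.Modules.pullback (c.π.app i₀)).obj G₂, (Scheme.Modules.pullback (c.π.app i₀)).map p₁ ≫ k = (Scheme.Modules.pullback (c.π.app i₀)).map p₂) ↔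
      ∃ (j : I) (φ : j ⟶ i₀) (k : (Scheme.Modules.pullback (D.map φ)).obj G₁ ⟶ (Scheme.Modules.pullback (D.map φ)).obj G₂),
        (Scheme.Modules.pullback (D.map φ)).map p₁ ≫ k = (Scheme.Modules.pullback (D.map φ)).map p₂ := by
  haveI : (kernel p₁).IsFiniteType := isFiniteType_kernel_of_epi p₁
  have key := pullback_map_eq_iff_stage D c hc i₀ (kernel.ι p₁ ≫ p₂) 0
  simp only [Functor.map_zero] at key
  rw [exists_factor_pullback_iff (X := c.pt) (c.π.app i₀) p₁ p₂, key]
  refine exists_congr fun j => exists_congr fun φ => ?_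
  exact (exists_factor_pullback_iff (D.map φ) p₁ p₂).symm

include hc in
theorem rightExact_pullback_iff_stage (i₀ : I) [CompactSpace (D.obj i₀)]
    {F₀ G₀ H₀ : (D.obj i₀).Modules} [F₀.IsQuasicoherent] [G₀.IsQuasicoherent] [H₀.IsQuasicoherent]
    [F₀.IsFiniteType] [G₀.IsFiniteType] [H₀.IsFinitePresentation] (f₀ : F₀ ⟶ G₀) (g₀ : G₀ ⟶ H₀) :
    RightExact ((Scheme.Modules.pullback (c.π.app i₀)).map f₀)
        ((Scheme.Modules.pullback (c.π.app i₀)).map g₀) ↔
      ∃ (j : I) (φ : j ⟶ i₀), RightExact ((Scheme.Modules.pullback (D.map φ)).map f₀)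
        ((Scheme.Modules.pullback (D.map φ)).map g₀) := by
  constructor
  · intro h
    have hw : (Scheme.Modules.pullback (c.π.app i₀)).map (f₀ ≫ g₀) =
        (Scheme.Modules.pullback (c.π.app i₀)).map 0 := by
      rw [Functor.map_comp, Functor.map_zero]; exact h.1
    obtain ⟨j₁, φ₁, h1⟩ := (pullback_map_eq_iff_stage D c hc i₀ (f₀ ≫ g₀) 0).mp hw
    rw [Functor.map_zero, Functor.map_comp] at h1
    haveI : CompactSpace (D.obj j₁) :=
      QuasiCompact.compactSpace_of_compactSpace (D.map φ₁)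
    set f₁ := (Scheme.Modules.pullback (D.map φ₁)).map f₀ with hf₁
    set g₁ := (Scheme.Modules.pullback (D.map φ₁)).map g₀ with hg₁
    haveI : (cokernel f₁).IsFiniteType := isFiniteType_cokernel f₁
    have h2 : RightExact ((Scheme.Modules.pullback (c.π.app j₁)).map f₁)
        ((Scheme.Modules.pullback (c.π.app j₁)).map g₁) :=
      (rightExact_pullback_comp_iff (X := c.pt) (c.π.app j₁) (D.map φ₁) (c.π.app i₀) (c.w φ₁)
        f₀ g₀).mpr h
    have h3 := (rightExact_map_iff_isIso (Scheme.Modules.pullback (c.π.app j₁)) f₁ g₁ h1).mp h2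
    obtain ⟨j₂, φ₂, h4⟩ := (isIso_pullback_iff_stage D c hc j₁ (cokernel.desc f₁ g₁ h1)).mp h3
    have h5 := (rightExact_map_iff_isIso (Scheme.Modules.pullback (D.map φ₂)) f₁ g₁ h1).mpr h4
    refine ⟨j₂, φ₂ ≫ φ₁, ?_⟩
    exact (rightExact_pullback_comp_iff (D.map φ₂) (D.map φ₁) (D.map (φ₂ ≫ φ₁))
      (D.map_comp _ _).symm f₀ g₀).mp h5
  · rintro ⟨j, φ, hj⟩
    have := hj.map (Scheme.Modules.pullback (c.π.app j))
    exact (rightExact_pullback_comp_iff (X := c.pt) (c.π.app j) (D.map φ) (c.π.app i₀) (c.w φ)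
      f₀ g₀).mp this

end

end Groth.Agent.Lib.Helper12.H12ModLim
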