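import Mathlib
import Groth.Agent.Lib.Helper12.ModLim6
import Groth.Agent.Lib.Helper12.FlatLim1

set_option autoImplicit false
universe u v w

open CategoryTheory CategoryTheory.Limits AlgebraicGeometry TopologicalSpace Opposite TensorProduct
open Groth.Agent.Lib.Helper29.QCoh

namespace Groth.Agent.Lib.Helper12.H12FlatLim

open Groth.Agent.Lib.Helper12.H12ModLim

section Nat
variable {X Y : Scheme.{u}} (f : X ⟶ Y) {M N : Y.Modules} [M.IsQuasicoherent] [N.IsQuasicoherent]
  (a : M ⟶ N) {U : X.Opens} (hU : IsAffineOpen U) {V : Y.Opens} (hV : IsAffineOpen V)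
  (e : U ≤ f ⁻¹ᵁ V)

set_option maxRecDepth 8000 in
/-- Naturality of `pullbackSectionsEquiv` in the module. -/
theorem pullbackSectionsEquiv_map (t : Γ((Scheme.Modules.pullback f).obj M, U)) :
    letI := (f.appLE V U e).hom.toAlgebra
    pullbackSectionsEquiv f N hU hV e (((Scheme.Modules.pullback f).map a).app U t) =
      LinearMap.lTensor Γ(X, U) (appₗ a V) (pullbackSectionsEquiv f M hU hV e t) := by
  letI := (f.appLE V U e).hom.toAlgebra
  obtain ⟨x, rfl⟩ := (pullbackSectionsEquiv f M hU hV e).symm.surjective t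
  rw [LinearEquiv.apply_symm_apply]
  induction x using TensorProduct.induction_on with
  | zero => simp
  | tmul b m =>
    have h1 : (pullbackSectionsEquiv f M hU hV e).symm (b ⊗ₜ[Γ(Y, V)] m) =
        b • res ((Scheme.Modules.pullback f).obj M) e (pullSect f M V m) := by
      rw [LinearEquiv.symm_apply_eq, map_smul,
        Groth.Agent.Helper19.PullUnit.pullbackSectionsEquiv_pullSect f M hU hV e m,
        TensorProduct.smul_tmul', smul_eq_mul, mul_one]
    rw [h1, app_smul', app_res, pullSect_naturality, map_smul,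
      Groth.Agent.Helper19.PullUnit.pullbackSectionsEquiv_pullSect f N hU hV e,
      TensorProduct.smul_tmul', smul_eq_mul, mul_one, LinearMap.lTensor_tmul]
    rfl
  | add x y hx hy =>
    rw [map_add, map_add, map_add, hx, hy, map_add]

end Nat

section Mono
variable {X : Scheme.{u}}

/-- A morphism of quasi-coherent modules which is injective on sections over the members of an
affine open cover is a monomorphism. -/
theorem mono_of_app_injective_of_affine_cover {M N : X.Modules} [M.IsQuasicoherent]
    [N.IsQuasicoherent] (φ : M ⟶ N) {ι : Type*} (U : ι → X.Opens)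
    (hU : ∀ i, IsAffineOpen (U i)) (hcov : ∀ x : X, ∃ i, x ∈ U i)
    (h : ∀ i, Function.Injective (φ.app (U i))) : Mono φ := by
  rw [mono_iff_stalkMap_injective]
  intro x
  obtain ⟨i, hx⟩ := hcov x
  rw [injective_iff_map_eq_zero]
  intro t ht
  obtain ⟨r, m, hxr, e⟩ := exists_smul_germ_eq M (hU i) x hx t
  have hr := isUnit_germ_of_mem_basicOpen r x hx hxr
  have h1 : N.presheaf.germ (U i) x hx (φ.app (U i) m) = 0 := by
    rw [← stalkMap_germ, ← e, stalkMap_smul, ht, smul_zero]
  obtain ⟨r', hxr', e'⟩ := exists_smul_eq_zero_of_germ_eq_zero N (hU i) x hx _ h1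
  have hr' := isUnit_germ_of_mem_basicOpen r' x hx hxr'
  rw [← app_smul'] at e'
  have h2 : r' • m = 0 := (h i) (e'.trans (map_zero _).symm)
  have h3 := congrArg (M.presheaf.germ (U i) x hx) h2
  rw [germ_smul, map_zero] at h3
  have h4 := eq_zero_of_isUnit_smul hr' h3
  rw [h4] at e
  exact eq_zero_of_isUnit_smul hr e

end Mono

section FlatMono
variable {X Y : Scheme.{u}} (f : X ⟶ Y) [Flat f] {M N : Y.Modules} [M.IsQuasicoherent]
  [N.IsQuasicoherent]

set_option maxRecDepth 8000 in
/-- Pullback along a flat morphism preserves monomorphisms of quasi-coherent modules. -/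
theorem mono_pullback_map_of_flat (a : M ⟶ N) [Mono a] :
    Mono ((Scheme.Modules.pullback f).map a) := by
  let ι := {p : X.affineOpens × Y.affineOpens // (p.1 : X.Opens) ≤ f ⁻¹ᵁ (p.2 : Y.Opens)}
  refine mono_of_app_injective_of_affine_cover _ (fun p : ι => (p.1.1 : X.Opens))
    (fun p => p.1.1.2) (fun x => ?_) (fun p => ?_)
  · obtain ⟨U, V, hU, hV, hxU, hUV⟩ := exists_affine_pair f x
    exact ⟨⟨(⟨U, hU⟩, ⟨V, hV⟩), hUV⟩, hxU⟩
  · obtain ⟨⟨⟨U, hU⟩, ⟨V, hV⟩⟩, e⟩ := p
    letI := (f.appLE V U e).hom.toAlgebra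
    have hflat : Module.Flat Γ(Y, V) Γ(X, U) :=
      HasRingHomProperty.appLE (P := @Flat) f inferInstance ⟨V, hV⟩ ⟨U, hU⟩ e
    have hinj : Function.Injective (appₗ a V) := app_injective_of_mono a V
    have hinj2 := Module.Flat.lTensor_preserves_injective_linearMap (M := Γ(X, U)) (appₗ a V) hinj
    rw [injective_iff_map_eq_zero]
    intro t ht
    have key := pullbackSectionsEquiv_map f a hU hV e t
    rw [ht, map_zero] at key
    have h0 := hinj2 (key.symm.trans (map_zero _).symm)
    exact (pullbackSectionsEquiv f M hU hV e).injective (h0.trans (map_zero _).symm)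

end FlatMono

end Groth.Agent.Lib.Helper12.H12FlatLim
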