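import Mathlib
import Groth.Agent.Lib.Helper29.QCohExact
import Groth.Agent.Lib.Helper29.QCohFinite
import Groth.Agent.Lib.Helper29.Cocycle

/-! # Morphisms of modules which are isomorphisms over an open -/

set_option autoImplicit false
universe u

open CategoryTheory CategoryTheory.Limits AlgebraicGeometry TopologicalSpace Opposite Function
open Groth.Agent.Lib.Helper29.QCoh

namespace Groth.Agent.Lib.Helper12.H12ModGlue

section Basic
variable {X : Scheme.{u}}

/-- The morphism `a` is bijective on the stalks at all points of the open `O`. -/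
def IsoOver (O : X.Opens) {M N : X.Modules} (a : M ⟶ N) : Prop :=
  ∀ x : X, x ∈ O → Function.Bijective (stalkMap a x)

theorem isoOver_of_isIso (O : X.Opens) {M N : X.Modules} (a : M ⟶ N) [IsIso a] : IsoOver O a :=
  fun x _ => (isIso_iff_stalkMap_bijective a).mp inferInstance x

theorem IsoOver.mono {O O' : X.Opens} (h : O' ≤ O) {M N : X.Modules} {a : M ⟶ N}
    (ha : IsoOver O a) : IsoOver O' a := fun x hx => ha x (h hx)

theorem isoOver_top_iff {M N : X.Modules} (a : M ⟶ N) : IsoOver ⊤ a ↔ IsIso a := by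
  rw [isIso_iff_stalkMap_bijective]
  exact ⟨fun h x => h x trivial, fun h x _ => h x⟩

theorem stalkMap_comp_fun {M N P : X.Modules} (a : M ⟶ N) (b : N ⟶ P) (x : X) :
    (stalkMap (a ≫ b) x : _ → _) = (stalkMap b x : _ → _) ∘ (stalkMap a x : _ → _) := by
  funext t
  exact stalkMap_comp_apply a b x t

theorem IsoOver.comp {O : X.Opens} {M N P : X.Modules} {a : M ⟶ N} {b : N ⟶ P}
    (ha : IsoOver O a) (hb : IsoOver O b) : IsoOver O (a ≫ b) := fun x hx => by
  rw [stalkMap_comp_fun]
  exact (hb x hx).comp (ha x hx)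

theorem IsoOver.of_comp_right {O : X.Opens} {M N P : X.Modules} {a : M ⟶ N} {b : N ⟶ P}
    (hab : IsoOver O (a ≫ b)) (hb : IsoOver O b) : IsoOver O a := fun x hx => by
  have h := hab x hx
  rw [stalkMap_comp_fun] at h
  refine ⟨Function.Injective.of_comp h.1, fun t => ?_⟩
  obtain ⟨s, hs⟩ := h.2 (stalkMap b x t)
  exact ⟨s, (hb x hx).1 hs⟩

theorem IsoOver.of_comp_left {O : X.Opens} {M N P : X.Modules} {a : M ⟶ N} {b : N ⟶ P}
    (hab : IsoOver O (a ≫ b)) (ha : IsoOver O a) : IsoOver O b := fun x hx => by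
  have h := hab x hx
  rw [stalkMap_comp_fun] at h
  refine ⟨fun s t hst => ?_, Function.Surjective.of_comp h.2⟩
  obtain ⟨s', rfl⟩ := (ha x hx).2 s
  obtain ⟨t', rfl⟩ := (ha x hx).2 t
  exact congrArg _ (h.1 hst)

theorem IsoOver.app_bijective {O : X.Opens} {M N : X.Modules} {a : M ⟶ N} (ha : IsoOver O a)
    {T : X.Opens} (hT : T ≤ O) : Function.Bijective (a.app T) :=
  TopCat.Presheaf.app_bijective_of_stalkFunctor_map_bijective
    (F := (toSheafAb X).obj M) (G := (toSheafAb X).obj N) ((toSheafAb X).map a) T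
    (fun x hx => ha x (hT hx))

theorem isoOver_of_app_bijective {O : X.Opens} {M N : X.Modules} {a : M ⟶ N}
    (h : ∀ T : X.Opens, T ≤ O → Function.Bijective (a.app T)) : IsoOver O a := by
  intro x hx
  constructor
  · rw [injective_iff_map_eq_zero]
    intro t ht
    obtain ⟨U, hxU, s, rfl⟩ := M.presheaf.exists_germ_eq t
    have hxT : x ∈ U ⊓ O := ⟨hxU, hx⟩
    rw [stalkMap_germ] at ht
    have h1 : N.presheaf.germ (U ⊓ O) x hxT (res N inf_le_left (a.app U s)) = 0 := by
      rw [germ_res]; exact ht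
    obtain ⟨W, hWle, hxW, hW0⟩ := exists_res_eq_zero_of_germ_eq_zero N x hxT _ h1
    rw [res_res, ← app_res] at hW0
    have h2 : res M (hWle.trans inf_le_left) s = 0 :=
      (h W (hWle.trans inf_le_right)).1 (hW0.trans (map_zero _).symm)
    rw [← germ_res M (hWle.trans inf_le_left) x hxW s, h2, map_zero]
  · intro t
    obtain ⟨U, hxU, n, rfl⟩ := N.presheaf.exists_germ_eq t
    have hxT : x ∈ U ⊓ O := ⟨hxU, hx⟩
    obtain ⟨m, hm⟩ := (h (U ⊓ O) inf_le_right).2 (res N inf_le_left n)
    refine ⟨M.presheaf.germ (U ⊓ O) x hxT m, ?_⟩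
    rw [stalkMap_germ, hm, germ_res]

end Basic

section Restrict
variable {Y X : Scheme.{u}} (j : Y ⟶ X) [IsOpenImmersion j]

theorem bijective_stalkMap_restrict_iff {M N : X.Modules} (a : M ⟶ N) (y : Y) :
    Function.Bijective (stalkMap ((Scheme.Modules.restrictFunctor j).map a) y) ↔
      Function.Bijective (stalkMap a (j y)) := by
  rw [← ConcreteCategory.isIso_iff_bijective, ← ConcreteCategory.isIso_iff_bijective]
  exact NatIso.isIso_map_iff (Scheme.Modules.restrictStalkNatIso j y) a

/-- Being an isomorphism over the range of an open immersion means that the restriction is an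
isomorphism. -/
theorem isoOver_opensRange_iff {M N : X.Modules} (a : M ⟶ N) :
    IsoOver j.opensRange a ↔ IsIso ((Scheme.Modules.restrictFunctor j).map a) := by
  rw [isIso_iff_stalkMap_bijective]
  constructor
  · intro h y
    rw [bijective_stalkMap_restrict_iff]
    exact h (j y) ⟨y, rfl⟩
  · rintro h x ⟨y, rfl⟩
    rw [← bijective_stalkMap_restrict_iff]
    exact h y

end Restrict

section RestrictOpen
variable {X : Scheme.{u}}

theorem isoOver_iff_isIso_restrict (O : X.Opens) {M N : X.Modules} (a : M ⟶ N) :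
    IsoOver O a ↔ IsIso ((Scheme.Modules.restrictFunctor O.ι).map a) := by
  rw [← isoOver_opensRange_iff, Scheme.Opens.opensRange_ι]

end RestrictOpen

end Groth.Agent.Lib.Helper12.H12ModGlue
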