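import Mathlib
import Groth.Agent.Lib.Helper12.ModGlue1
import Groth.Agent.Lib.Helper29.QCohPush
import Groth.Agent.Lib.Helper29.QCohRestrict
import Groth.Agent.Lib.Helper29.QCohQcqs

/-! # The functor `j_* j^*` for an open immersion `j` -/

set_option autoImplicit false
universe u

open CategoryTheory CategoryTheory.Limits AlgebraicGeometry TopologicalSpace Opposite Function
open Groth.Agent.Lib.Helper29.QCoh

namespace Groth.Agent.Lib.Helper12.H12ModGlue

section OnImm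
variable {Y X : Scheme.{u}} (j : Y ⟶ X) [IsOpenImmersion j]

/-- `j_* j^*` for an open immersion `j`. -/
noncomputable def onImm : X.Modules ⥤ X.Modules :=
  Scheme.Modules.restrictFunctor j ⋙ Scheme.Modules.pushforward j

/-- The unit `M ⟶ j_* j^* M`. -/
noncomputable def ηI : 𝟭 X.Modules ⟶ onImm j := (Scheme.Modules.restrictAdjunction j).unit

theorem onImm_sections (M : X.Modules) (V : X.Opens) :
    Γ((onImm j).obj M, V) = Γ(M, j ''ᵁ (j ⁻¹ᵁ V)) := rfl

theorem ηI_app_app (M : X.Modules) (V : X.Opens) (m : Γ(M, V)) :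
    ((ηI j).app M).app V m = res M (j.image_preimage_le V) m := rfl

theorem onImm_map_app {M N : X.Modules} (a : M ⟶ N) (V : X.Opens)
    (m : Γ((onImm j).obj M, V)) :
    ((onImm j).map a).app V m = a.app (j ''ᵁ (j ⁻¹ᵁ V)) m := rfl

theorem onImm_res (M : X.Modules) {V V' : X.Opens} (h : V' ≤ V) (m : Γ((onImm j).obj M, V)) :
    res ((onImm j).obj M) h m =
      res M (j.image_mono (j.preimage_mono h)) (show Γ(M, j ''ᵁ (j ⁻¹ᵁ V)) from m) := rfl

theorem onImm_smul (M : X.Modules) (V : X.Opens) (r : Γ(X, V)) (m : Γ(M, j ''ᵁ (j ⁻¹ᵁ V))) :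
    HSMul.hSMul (α := Γ(X, V)) (β := Γ((onImm j).obj M, V)) r m =
      HSMul.hSMul (α := Γ(X, j ''ᵁ (j ⁻¹ᵁ V))) (β := Γ(M, j ''ᵁ (j ⁻¹ᵁ V)))
        (X.presheaf.map (homOfLE (j.image_preimage_le V)).op r) m := by
  have h1 : HSMul.hSMul (α := Γ(X, V)) (β := Γ((onImm j).obj M, V)) r m =
      HSMul.hSMul (α := Γ(X, j ''ᵁ (j ⁻¹ᵁ V))) (β := Γ(M, j ''ᵁ (j ⁻¹ᵁ V)))
        ((j.appIso (j ⁻¹ᵁ V)).inv (j.app V r)) m := rfl
  rw [h1]
  have h2 : (j.appIso (j ⁻¹ᵁ V)).inv (j.app V r) =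
      X.presheaf.map (homOfLE (j.image_preimage_le V)).op r :=
    congrArg (fun k => k.hom r) (j.app_appIso_inv V)
  rw [h2]

end OnImm

section ResEq
variable {X : Scheme.{u}}

theorem res_bijective_of_eq (M : X.Modules) {U V : X.Opens} (e : V = U) :
    Function.Bijective (res M e.le) := by
  refine ⟨res_injective_of_eq M e, fun t => ⟨res M e.ge t, ?_⟩⟩
  rw [res_res, res_self]

theorem hom_ext_app {M N : X.Modules} (f g : M ⟶ N)
    (H : ∀ (U : X.Opens) (m : Γ(M, U)), f.app U m = g.app U m) : f = g := by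
  apply Scheme.Modules.hom_ext
  intro U
  ext m
  exact H U m

end ResEq

section Rho
variable {Y₁ Y₂ X : Scheme.{u}} (j₁ : Y₁ ⟶ X) (j₂ : Y₂ ⟶ X) [IsOpenImmersion j₁]
  [IsOpenImmersion j₂] (h : j₁.opensRange ≤ j₂.opensRange)

include h in
theorem image_preimage_le_of_le (V : X.Opens) : j₁ ''ᵁ (j₁ ⁻¹ᵁ V) ≤ j₂ ''ᵁ (j₂ ⁻¹ᵁ V) := by
  rw [Scheme.Hom.image_preimage_eq_opensRange_inf, Scheme.Hom.image_preimage_eq_opensRange_inf]
  exact inf_le_inf_right _ h

/-- The restriction maps on sections. -/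
noncomputable def ρFun (M : X.Modules) (V : X.Opens) :
    Γ((onImm j₂).obj M, V) →+ Γ((onImm j₁).obj M, V) :=
  res M (image_preimage_le_of_le j₁ j₂ h V)

theorem ρFun_apply (M : X.Modules) (V : X.Opens) (m : Γ(M, j₂ ''ᵁ (j₂ ⁻¹ᵁ V))) :
    ρFun j₁ j₂ h M V m = res M (image_preimage_le_of_le j₁ j₂ h V) m := rfl

theorem ρFun_smul (M : X.Modules) (V : X.Opens) (r : Γ(X, V)) (σ : Γ((onImm j₂).obj M, V)) :
    ρFun j₁ j₂ h M V (r • σ) = r • ρFun j₁ j₂ h M V σ := by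
  have e1 := onImm_smul j₂ M V r σ
  have e2 := onImm_smul j₁ M V r (ρFun j₁ j₂ h M V σ)
  refine Eq.trans ?_ e2.symm
  refine (congrArg (ρFun j₁ j₂ h M V) e1).trans ?_
  refine (res_smul M (image_preimage_le_of_le j₁ j₂ h V) _ _).trans ?_
  rw [map_map_apply]
  rfl

theorem ρFun_res (M : X.Modules) {V V' : X.Opens} (hV : V' ≤ V) (σ : Γ((onImm j₂).obj M, V)) :
    ρFun j₁ j₂ h M V' (res ((onImm j₂).obj M) hV σ) =
      res ((onImm j₁).obj M) hV (ρFun j₁ j₂ h M V σ) := by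
  refine (congrArg (ρFun j₁ j₂ h M V') (onImm_res j₂ M hV σ)).trans ?_
  refine Eq.trans ?_ (onImm_res j₁ M hV (ρFun j₁ j₂ h M V σ)).symm
  exact (res_res M _ _ _).trans (res_res M _ _ _).symm

/-- The restriction `j₂_* j₂^* M ⟶ j₁_* j₁^* M` when the range of `j₁` lies in that of `j₂`. -/
noncomputable def ρI (M : X.Modules) : (onImm j₂).obj M ⟶ (onImm j₁).obj M :=
  homOfApp (M := (onImm j₂).obj M) (N := (onImm j₁).obj M) (ρFun j₁ j₂ h M)
    (ρFun_smul j₁ j₂ h M) (fun hV σ => ρFun_res j₁ j₂ h M hV σ)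

theorem ρI_app (M : X.Modules) (V : X.Opens) (m : Γ((onImm j₂).obj M, V)) :
    (ρI j₁ j₂ h M).app V m =
      res M (image_preimage_le_of_le j₁ j₂ h V) (show Γ(M, j₂ ''ᵁ (j₂ ⁻¹ᵁ V)) from m) := rfl

theorem ρI_naturality {M N : X.Modules} (a : M ⟶ N) :
    (onImm j₂).map a ≫ ρI j₁ j₂ h N = ρI j₁ j₂ h M ≫ (onImm j₁).map a := by
  apply hom_ext_app
  intro V m
  rw [app_comp, app_comp, ρI_app, ρI_app, onImm_map_app, onImm_map_app]
  exact (app_res a _ _).symm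

theorem ηI_ρI (M : X.Modules) : (ηI j₂).app M ≫ ρI j₁ j₂ h M = (ηI j₁).app M := by
  apply hom_ext_app
  intro V m
  rw [app_comp, ρI_app, ηI_app_app, ηI_app_app]
  exact res_res M _ _ m

theorem ηI_app_bijective (M : X.Modules) {T : X.Opens} (hT : T ≤ j₁.opensRange) :
    Function.Bijective (((ηI j₁).app M).app T) := by
  have e : j₁ ''ᵁ (j₁ ⁻¹ᵁ T) = T := by
    rw [Scheme.Hom.image_preimage_eq_opensRange_inf]
    exact inf_eq_right.mpr hT
  exact res_bijective_of_eq M e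

theorem ρI_app_bijective (M : X.Modules) {T : X.Opens} (hT : j₂.opensRange ⊓ T ≤ j₁.opensRange) :
    Function.Bijective ((ρI j₁ j₂ h M).app T) := by
  have e : j₁ ''ᵁ (j₁ ⁻¹ᵁ T) = j₂ ''ᵁ (j₂ ⁻¹ᵁ T) := by
    rw [Scheme.Hom.image_preimage_eq_opensRange_inf, Scheme.Hom.image_preimage_eq_opensRange_inf]
    exact le_antisymm (inf_le_inf_right _ h) (le_inf hT inf_le_right)
  exact res_bijective_of_eq M e

theorem isoOver_ηI (M : X.Modules) : IsoOver j₁.opensRange ((ηI j₁).app M) :=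
  isoOver_of_app_bijective fun _ hT => ηI_app_bijective j₁ M hT

end Rho

end Groth.Agent.Lib.Helper12.H12ModGlue
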