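import Mathlib
import Groth.Agent.Lib.Helper12.ModGlue2
import Groth.Agent.Lib.Helper29.QCohExt
import Groth.Agent.Lib.Helper29.QCohCrit
import Groth.Agent.Lib.Helper29.QCohLocFree

/-! # Sections of pullbacks and biproducts of modules; quasi-coherence -/

set_option autoImplicit false
universe u

open CategoryTheory CategoryTheory.Limits AlgebraicGeometry TopologicalSpace Opposite Function
open Groth.Agent.Lib.Helper29.QCoh

namespace Groth.Agent.Lib.Helper12.H12ModGlue

section SP
variable {X : Scheme.{u}} {A B C : X.Modules} (f : A ⟶ C) (g : B ⟶ C)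

theorem isPullback_sections (V : X.Opens) :
    IsPullback ((forget Ab).map ((pullback.fst f g).app V)) ((forget Ab).map ((pullback.snd f g).app V))
      ((forget Ab).map (f.app V)) ((forget Ab).map (g.app V)) :=
  (IsPullback.of_hasPullback f g).map (sectionsFunctor X V ⋙ forget Ab)

theorem pullback_app_ext (V : X.Opens) (z z' : Γ(pullback f g, V))
    (h1 : (pullback.fst f g).app V z = (pullback.fst f g).app V z')
    (h2 : (pullback.snd f g).app V z = (pullback.snd f g).app V z') : z = z' :=
  Types.ext_of_isPullback (isPullback_sections f g V) h1 h2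

theorem pullback_app_exists (V : X.Opens) (a : Γ(A, V)) (b : Γ(B, V))
    (h : f.app V a = g.app V b) :
    ∃ z : Γ(pullback f g, V), (pullback.fst f g).app V z = a ∧ (pullback.snd f g).app V z = b :=
  Types.exists_of_isPullback (isPullback_sections f g V) a b h

end SP

section Biprod
variable {X : Scheme.{u}} {A B : X.Modules}

theorem biprod_app_ext (V : X.Opens) (x x' : Γ(A ⊞ B, V))
    (h1 : (biprod.fst : A ⊞ B ⟶ A).app V x = (biprod.fst : A ⊞ B ⟶ A).app V x')
    (h2 : (biprod.snd : A ⊞ B ⟶ B).app V x = (biprod.snd : A ⊞ B ⟶ B).app V x') : x = x' := by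
  have key : ∀ y : Γ(A ⊞ B, V), y = (biprod.inl : A ⟶ A ⊞ B).app V ((biprod.fst : A ⊞ B ⟶ A).app V y) +
      (biprod.inr : B ⟶ A ⊞ B).app V ((biprod.snd : A ⊞ B ⟶ B).app V y) := by
    intro y
    have h := congrArg (fun φ : A ⊞ B ⟶ A ⊞ B => φ.app V y) (biprod.total (X := A) (Y := B))
    simp only [Scheme.Modules.Hom.add_app] at h
    rw [← app_comp, ← app_comp]
    exact h.symm
  rw [key x, key x', h1, h2]

theorem biprod_lift_app_fst {T : X.Modules} (f : T ⟶ A) (g : T ⟶ B) (V : X.Opens) (t : Γ(T, V)) :
    (biprod.fst : A ⊞ B ⟶ A).app V ((biprod.lift f g).app V t) = f.app V t := by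
  rw [← app_comp, biprod.lift_fst]

theorem biprod_lift_app_snd {T : X.Modules} (f : T ⟶ A) (g : T ⟶ B) (V : X.Opens) (t : Γ(T, V)) :
    (biprod.snd : A ⊞ B ⟶ B).app V ((biprod.lift f g).app V t) = g.app V t := by
  rw [← app_comp, biprod.lift_snd]

instance isQuasicoherent_biprod [A.IsQuasicoherent] [B.IsQuasicoherent] :
    (A ⊞ B).IsQuasicoherent := by
  have hS := (ShortComplex.Splitting.ofHasBinaryBiproduct A B).shortExact
  exact isQuasicoherent_of_shortExact _ hS

end Biprod

section PullbackQC
variable {X : Scheme.{u}} {A B C : X.Modules} (f : A ⟶ C) (g : B ⟶ C)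

instance isQuasicoherent_pullbackObj [A.IsQuasicoherent] [B.IsQuasicoherent] [C.IsQuasicoherent] :
    (pullback f g).IsQuasicoherent := by
  have hz : Abelian.PullbackToBiproductIsKernel.pullbackToBiproduct f g ≫ biprod.desc f (-g) = 0 :=
    (Abelian.PullbackToBiproductIsKernel.pullbackToBiproductFork f g).condition
  let S : ShortComplex X.Modules := ShortComplex.mk _ _ hz
  have hS : S.Exact := ShortComplex.exact_of_f_is_kernel S
    (Abelian.PullbackToBiproductIsKernel.isLimitPullbackToBiproduct f g)
  haveI : Mono S.f := mono_of_isLimit_fork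
    (Abelian.PullbackToBiproductIsKernel.isLimitPullbackToBiproduct f g)
  haveI : S.X₂.IsQuasicoherent := inferInstanceAs (A ⊞ B).IsQuasicoherent
  haveI : S.X₃.IsQuasicoherent := inferInstanceAs C.IsQuasicoherent
  exact isQuasicoherent_of_exact_of_mono S hS

end PullbackQC

section OnImmQC
variable {Y X : Scheme.{u}} (j : Y ⟶ X) [IsOpenImmersion j]

theorem isQuasicoherent_onImm [QuasiCompact j] (M : X.Modules) [M.IsQuasicoherent] :
    ((onImm j).obj M).IsQuasicoherent := by
  haveI : ((Scheme.Modules.restrictFunctor j).obj M).IsQuasicoherent :=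
    Scheme.Modules.isQuasicoherent_restrictFunctor j M
  exact isQuasicoherent_pushforward_of_qcqs j _

end OnImmQC

end Groth.Agent.Lib.Helper12.H12ModGlue
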