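import Mathlib.LinearAlgebra.Projection
import Mathlib.Order.CompactlyGenerated.Basic
import Mathlib.Order.Zorn
import Mathlib.Algebra.DirectSum.Module
import Mathlib.LinearAlgebra.Span.Basic
import Mathlib.Data.Set.Countable
import Mathlib.Algebra.Module.Submodule.Lattice
import Mathlib.RingTheory.Finiteness.Basic
import Mathlib.LinearAlgebra.Finsupp.Span

/-!
# Kaplansky's theorem on direct summands of direct sums of countably generated modules
-/

set_option autoImplicit false
universe u v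

namespace Groth.Agent.Lib.Helper12.Kap

variable {R : Type*} [CommRing R] {M : Type*} [AddCommGroup M] [Module R M]

/-- A countably generated submodule. -/
def CG (L : Submodule R M) : Prop := ∃ s : Set M, s.Countable ∧ Submodule.span R s = L

lemma CG.map {M' : Type*} [AddCommGroup M'] [Module R M'] (f : M →ₗ[R] M') {L : Submodule R M}
    (h : CG L) : CG (L.map f) := by
  obtain ⟨s, hs, rfl⟩ := h
  exact ⟨f '' s, hs.image f, by rw [Submodule.map_span]⟩

lemma CG.biSup {ι : Type*} {C : Set ι} (hC : C.Countable) {L : ι → Submodule R M}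
    (h : ∀ i ∈ C, CG (L i)) : CG (⨆ i ∈ C, L i) := by
  choose! s hs hspan using h
  refine ⟨⋃ i ∈ C, s i, hC.biUnion (fun i hi => hs i hi), ?_⟩
  rw [Submodule.span_iUnion₂]
  exact iSup_congr fun i => iSup_congr fun hi => hspan i hi

/-- If `L` is a complement of `A` inside `A ⊔ D'` with `D'` countably generated then `L` is
countably generated. -/
lemma CG.of_compl {A L D' : Submodule R M} (hdisj : Disjoint A L) (hle : L ≤ A ⊔ D')
    (hD'le : D' ≤ A ⊔ L) (hD' : CG D') : CG L := by
  obtain ⟨G, hG, rfl⟩ := hD'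
  have hex : ∀ g ∈ G, ∃ l ∈ L, ∃ a ∈ A, a + l = g := by
    intro g hg
    obtain ⟨a, ha, l, hl, h⟩ := Submodule.mem_sup.1 (hD'le (Submodule.subset_span hg))
    exact ⟨l, hl, a, ha, h⟩
  choose! l hl a ha hal using hex
  set L₀ : Submodule R M := Submodule.span R (l '' G) with hL₀
  have hL₀le : L₀ ≤ L := by
    rw [hL₀, Submodule.span_le]
    rintro _ ⟨g, hg, rfl⟩
    exact hl g hg
  have hGle : Submodule.span R G ≤ A ⊔ L₀ := by
    rw [Submodule.span_le]
    intro g hg
    rw [SetLike.mem_coe, ← hal g hg]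
    exact Submodule.add_mem_sup (ha g hg) (Submodule.subset_span ⟨g, hg, rfl⟩)
  have hLle : L ≤ L₀ ⊔ A := by
    rw [sup_comm]
    exact hle.trans (sup_le le_sup_left hGle)
  have : L = L₀ := by
    calc L = (L₀ ⊔ A) ⊓ L := (inf_eq_right.2 hLle).symm
      _ = L₀ ⊔ A ⊓ L := sup_inf_assoc_of_le A hL₀le
      _ = L₀ := by rw [hdisj.eq_bot, sup_bot_eq]
  exact ⟨l '' G, hG.image l, this ▸ hL₀.symm⟩

lemma CG.comap_subtype {P K : Submodule R M} (hK : CG K) (hle : K ≤ P) :
    CG (K.comap P.subtype) := by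
  obtain ⟨s, hs, rfl⟩ := hK
  refine ⟨P.subtype ⁻¹' s, hs.preimage P.subtype_injective, ?_⟩
  apply Submodule.map_injective_of_injective P.subtype_injective
  rw [Submodule.map_span, Submodule.map_comap_subtype, inf_eq_right.2 hle,
    Set.image_preimage_eq_inter_range]
  congr 1
  apply Set.inter_eq_left.2
  intro x hx
  exact ⟨⟨x, hle (Submodule.subset_span hx)⟩, rfl⟩

lemma CG.to_type {K : Submodule R M} (h : CG K) :
    ∃ s : Set K, s.Countable ∧ Submodule.span R s = ⊤ := by
  obtain ⟨s, hs, hspan⟩ := h.comap_subtype (le_refl K)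
  exact ⟨s, hs, by rw [hspan, Submodule.comap_subtype_self]⟩

lemma CG.of_type {K : Submodule R M} (h : ∃ s : Set K, s.Countable ∧ Submodule.span R s = ⊤) :
    CG K := by
  obtain ⟨s, hs, hspan⟩ := h
  refine ⟨K.subtype '' s, hs.image _, ?_⟩
  rw [← Submodule.map_span, hspan, Submodule.map_subtype_top]

lemma sSupIndep_insert {α : Type*} [CompleteLattice α] [IsModularLattice α] {s : Set α} {a : α}
    (hs : sSupIndep s) (ha : Disjoint a (sSup s)) : sSupIndep (insert a s) := by
  by_cases has : a ∈ s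
  · rwa [Set.insert_eq_of_mem has]
  intro b hb
  rcases hb with rfl | hb
  · refine ha.mono_right (sSup_le_sSup ?_)
    rintro x ⟨hx, hxb⟩
    rcases hx with rfl | hx
    · exact absurd rfl hxb
    · exact hx
  · have hba : a ∉ ({b} : Set α) := by
      rintro (rfl : a = b)
      exact has hb
    rw [Set.insert_sdiff_of_notMem _ hba, sSup_insert, sup_comm]
    apply Disjoint.disjoint_sup_right_of_disjoint_sup_left (hs hb)
    refine ha.symm.mono_left ?_
    apply sup_le (le_sSup hb) (sSup_le_sSup Set.sdiff_subset)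

section Main

variable {ι : Type*} (N : ι → Submodule R M)

/-- The partial sum `⨆ i ∈ I, N i`. -/
def MI (I : Set ι) : Submodule R M := ⨆ i ∈ I, N i

lemma MI_mono {I J : Set ι} (h : I ⊆ J) : MI N I ≤ MI N J :=
  biSup_mono h

lemma MI_union (I J : Set ι) : MI N (I ∪ J) = MI N I ⊔ MI N J :=
  iSup_union

lemma MI_univ : MI N Set.univ = iSup N := by
  simp [MI]

lemma MI_iUnion {η : Type*} (I : η → Set ι) : MI N (⋃ a, I a) = ⨆ a, MI N (I a) := by
  simp only [MI]
  rw [iSup_iUnion]

lemma le_MI {I : Set ι} {i : ι} (hi : i ∈ I) : N i ≤ MI N I :=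
  le_biSup N hi

lemma disjoint_MI (hind : iSupIndep N) {I J : Set ι} (h : Disjoint I J) :
    Disjoint (MI N I) (MI N J) :=
  hind.disjoint_biSup_biSup h

variable {N} {P Q : Submodule R M} (hPQ : IsCompl P Q)

/-- `I` is good if the projection onto `P` preserves `MI N I`. -/
def Good (N : ι → Submodule R M) (I : Set ι) : Prop :=
  (MI N I).map (P.projection Q hPQ) ≤ MI N I

lemma Good.proj_mem {I : Set ι} (h : Good hPQ N I) {x : M} (hx : x ∈ MI N I) :
    P.projection Q hPQ x ∈ P ⊓ MI N I :=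
  ⟨Submodule.projection_apply_mem hPQ x, h (Submodule.mem_map_of_mem hx)⟩

lemma Good.decomp {I : Set ι} (h : Good hPQ N I) :
    MI N I = (P ⊓ MI N I) ⊔ (Q ⊓ MI N I) := by
  apply le_antisymm _ (sup_le inf_le_right inf_le_right)
  intro x hx
  have h1 := h.proj_mem hPQ hx
  have h2 : Q.projection P hPQ.symm x ∈ Q ⊓ MI N I := by
    refine ⟨Submodule.projection_apply_mem hPQ.symm x, ?_⟩
    have := Submodule.projection_add_projection_eq_self hPQ x
    have e : Q.projection P hPQ.symm x = x - P.projection Q hPQ x :=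
      eq_sub_of_add_eq' this
    rw [e]
    exact Submodule.sub_mem _ hx h1.2
  rw [← Submodule.projection_add_projection_eq_self hPQ x]
  exact Submodule.add_mem_sup h1 h2

lemma Good.iUnion {η : Type*} {I : η → Set ι} (h : ∀ a, Good hPQ N (I a)) :
    Good hPQ N (⋃ a, I a) := by
  unfold Good
  rw [MI_iUnion, Submodule.map_iSup]
  exact iSup_mono fun a => h a

lemma Good.union {I J : Set ι} (hI : Good hPQ N I) (hJ : Good hPQ N J) :
    Good hPQ N (I ∪ J) := by
  unfold Good
  rw [MI_union, Submodule.map_sup]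
  exact sup_le_sup hI hJ

lemma good_empty : Good hPQ N (∅ : Set ι) := by
  unfold Good
  simp [MI]

/-- The countable closure step. -/
lemma exists_countable_closure (htop : iSup N = ⊤) (hc : ∀ i, CG (N i)) (i₀ : ι) :
    ∃ C : Set ι, C.Countable ∧ i₀ ∈ C ∧ Good hPQ N C := by
  classical
  -- the countable set `T i`
  have hT : ∀ i, ∃ T : Set ι, T.Countable ∧ (N i).map (P.projection Q hPQ) ≤ MI N T := by
    intro i
    obtain ⟨s, hs, hspan⟩ := hc i
    have hF : ∀ g : M, ∃ F : Finset ι, P.projection Q hPQ g ∈ ⨆ j ∈ F, N j := by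
      intro g
      have : P.projection Q hPQ g ∈ iSup N := htop ▸ Submodule.mem_top
      exact (Submodule.mem_iSup_iff_exists_finset).1 this
    choose F hF using hF
    refine ⟨⋃ g ∈ s, (F g : Set ι), hs.biUnion fun g _ => (F g).countable_toSet, ?_⟩
    rw [← hspan, Submodule.map_span, Submodule.span_le]
    rintro _ ⟨g, hg, rfl⟩
    have hle : (⨆ j ∈ F g, N j) ≤ MI N (⋃ g ∈ s, (F g : Set ι)) := by
      apply iSup₂_le
      intro j hj
      exact le_MI N (Set.mem_biUnion hg (by simpa using hj))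
    exact hle (hF g)
  choose T hTc hT using hT
  let Cn : ℕ → Set ι := fun n => Nat.rec {i₀} (fun _ C => C ∪ ⋃ i ∈ C, T i) n
  have hCn0 : Cn 0 = {i₀} := rfl
  have hCnS : ∀ n, Cn (n + 1) = Cn n ∪ ⋃ i ∈ Cn n, T i := fun n => rfl
  have hCnc : ∀ n, (Cn n).Countable := by
    intro n
    induction n with
    | zero => rw [hCn0]; exact Set.countable_singleton i₀
    | succ n ih =>
      rw [hCnS]
      exact ih.union (ih.biUnion fun i _ => hTc i)
  refine ⟨⋃ n, Cn n, Set.countable_iUnion hCnc, Set.mem_iUnion.2 ⟨0, by rw [hCn0]; rfl⟩, ?_⟩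
  unfold Good
  rw [MI_iUnion, Submodule.map_iSup]
  apply iSup_le
  intro n
  have : (MI N (Cn n)).map (P.projection Q hPQ) ≤ MI N (Cn (n + 1)) := by
    unfold MI
    rw [Submodule.map_iSup]
    apply iSup_le
    intro i
    rw [Submodule.map_iSup]
    apply iSup_le
    intro hi
    refine (hT i).trans (MI_mono N ?_)
    rw [hCnS]
    exact Set.subset_union_of_subset_right (Set.subset_biUnion_of_mem hi) _
  exact this.trans (le_iSup (fun n => MI N (Cn n)) (n + 1))

/-- Extension step: enlarging a good set by a countable good set adds a countably generated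
direct summand to the `P`-part. -/
lemma exists_extension (hind : iSupIndep N) (hc : ∀ i, CG (N i)) {I' C : Set ι}
    (hC : C.Countable) (hI' : Good hPQ N I') (hCg : Good hPQ N C) :
    ∃ L : Submodule R M, CG L ∧ Disjoint (P ⊓ MI N I') L ∧
      (P ⊓ MI N I') ⊔ L = P ⊓ MI N (I' ∪ C) := by
  have hI'' : Good hPQ N (I' ∪ C) := hI'.union hPQ hCg
  set D : Submodule R M := MI N (C \ I') with hD
  have hMI : MI N (I' ∪ C) = MI N I' ⊔ D := by
    rw [hD, ← MI_union, Set.union_sdiff_self]
  have hdisjD : Disjoint (MI N I') D := disjoint_MI N hind Set.disjoint_sdiff_right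
  set P' := P ⊓ MI N I' with hP'
  set Q' := Q ⊓ MI N I' with hQ'
  set P'' := P ⊓ MI N (I' ∪ C) with hP''
  set X := Q' ⊔ D with hX
  have hP'le : P' ≤ P'' := inf_le_inf_left _ (MI_mono N Set.subset_union_left)
  have hP''le : P'' ≤ P' ⊔ X := by
    calc P'' ≤ MI N (I' ∪ C) := inf_le_right
      _ = (P' ⊔ Q') ⊔ D := by rw [hMI, ← hI'.decomp hPQ]
      _ = P' ⊔ X := by rw [hX, sup_assoc]
  have hdisjX : Disjoint P' X := by
    rw [Submodule.disjoint_def]
    intro x hxP' hxX
    obtain ⟨q, hq, d, hd, rfl⟩ := Submodule.mem_sup.1 hxX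
    have hd' : d ∈ MI N I' := by
      have : d = (q + d) - q := by abel
      rw [this]
      exact Submodule.sub_mem _ hxP'.2 hq.2
    have hd0 : d = 0 := by
      have := (Submodule.disjoint_def.1 hdisjD) d hd' hd
      exact this
    rw [hd0, add_zero] at hxP' ⊢
    exact (Submodule.disjoint_def.1 hPQ.disjoint) q hxP'.1 hq.1
  refine ⟨P'' ⊓ X, ?_, hdisjX.mono_right inf_le_right, ?_⟩
  · -- countably generated
    have hsum : P' ⊔ P'' ⊓ X = P'' := by
      calc P' ⊔ P'' ⊓ X = P' ⊔ X ⊓ P'' := by rw [inf_comm]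
        _ = (P' ⊔ X) ⊓ P'' := (sup_inf_assoc_of_le X hP'le).symm
        _ = P'' := inf_eq_right.2 hP''le
    refine CG.of_compl (A := P') (D' := D.map (P.projection Q hPQ))
      (hdisjX.mono_right inf_le_right) ?_ ?_ ?_
    · refine inf_le_left.trans ?_
      intro x hx
      have hx' : x ∈ MI N I' ⊔ D := hMI ▸ hx.2
      obtain ⟨m, hm, d, hd, rfl⟩ := Submodule.mem_sup.1 hx'
      have hfix : P.projection Q hPQ (m + d) = m + d :=
        Submodule.projection_apply_of_mem_left hPQ hx.1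
      rw [← hfix, map_add]
      exact Submodule.add_mem_sup (hI'.proj_mem hPQ hm) (Submodule.mem_map_of_mem hd)
    · rw [hsum]
      rintro _ ⟨d, hd, rfl⟩
      exact hI''.proj_mem hPQ (MI_mono N (Set.sdiff_subset.trans Set.subset_union_right) hd)
    · exact (CG.biSup (hC.mono Set.sdiff_subset) (fun i _ => hc i)).map _
  · calc P' ⊔ P'' ⊓ X = P' ⊔ X ⊓ P'' := by rw [inf_comm]
      _ = (P' ⊔ X) ⊓ P'' := (sup_inf_assoc_of_le X hP'le).symm
      _ = P'' := inf_eq_right.2 hP''le

include hPQ in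
/-- **Kaplansky's theorem**, set form: a direct summand `P` of a direct sum of countably generated
submodules is itself the direct sum of a set of countably generated submodules. -/
theorem kaplansky_set (hind : iSupIndep N) (htop : iSup N = ⊤) (hc : ∀ i, CG (N i)) :
    ∃ 𝓛 : Set (Submodule R M), sSupIndep 𝓛 ∧ sSup 𝓛 = P ∧ ∀ L ∈ 𝓛, CG L := by
  classical
  let S : Set (Set ι × Set (Submodule R M)) :=
    {p | Good hPQ N p.1 ∧ sSupIndep p.2 ∧ sSup p.2 = P ⊓ MI N p.1 ∧ ∀ L ∈ p.2, CG L}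
  have h0 : ((∅ : Set ι), (∅ : Set (Submodule R M))) ∈ S :=
    ⟨good_empty hPQ, sSupIndep_empty, by simp [MI], by simp⟩
  have hchainub : ∀ c ⊆ S, IsChain (· ≤ ·) c → ∀ y ∈ c, ∃ ub ∈ S, ∀ z ∈ c, z ≤ ub := by
    intro c hcS hchain y hy
    have : Nonempty c := ⟨⟨y, hy⟩⟩
    have hdir1 : Directed (· ⊆ ·) (fun p : c => p.1.2) := by
      intro p q
      rcases hchain.total p.2 q.2 with h | h
      · exact ⟨q, h.2, subset_rfl⟩
      · exact ⟨p, subset_rfl, h.2⟩
    have hdir2 : Directed (· ≤ ·) (fun p : c => MI N p.1.1) := by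
      intro p q
      rcases hchain.total p.2 q.2 with h | h
      · exact ⟨q, MI_mono N h.1, le_rfl⟩
      · exact ⟨p, le_rfl, MI_mono N h.1⟩
    refine ⟨(⋃ p : c, p.1.1, ⋃ p : c, p.1.2), ⟨?_, ?_, ?_, ?_⟩, ?_⟩
    · exact Good.iUnion hPQ (fun p => (hcS p.2).1)
    · exact sSupIndep_iUnion_of_directed hdir1 (fun p => (hcS p.2).2.1)
    · change sSup (⋃ p : c, p.1.2) = P ⊓ MI N (⋃ p : c, p.1.1)
      rw [sSup_iUnion, MI_iUnion, hdir2.inf_iSup_eq]
      exact iSup_congr fun p => (hcS p.2).2.2.1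
    · intro L hL
      obtain ⟨p, hp⟩ := Set.mem_iUnion.1 hL
      exact (hcS p.2).2.2.2 L hp
    · intro z hz
      exact ⟨Set.subset_iUnion (fun p : c => p.1.1) ⟨z, hz⟩,
        Set.subset_iUnion (fun p : c => p.1.2) ⟨z, hz⟩⟩
  obtain ⟨m, -, hmS, hmax⟩ := zorn_le_nonempty₀ S hchainub _ h0
  obtain ⟨hg, hi, hs, hcg⟩ := hmS
  have huniv : m.1 = Set.univ := by
    by_contra hne
    obtain ⟨i₀, hi₀⟩ : ∃ i₀, i₀ ∉ m.1 := (Set.ne_univ_iff_exists_notMem _).1 hne
    obtain ⟨C, hCc, hi₀C, hCg⟩ := exists_countable_closure hPQ htop hc i₀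
    obtain ⟨L, hL, hdisj, hsup⟩ := exists_extension hPQ hind hc hCc hg hCg
    have hm' : (m.1 ∪ C, insert L m.2) ∈ S := by
      refine ⟨hg.union hPQ hCg, sSupIndep_insert hi ?_, ?_, ?_⟩
      · rw [hs]
        exact hdisj.symm
      · change sSup (insert L m.2) = P ⊓ MI N (m.1 ∪ C)
        rw [sSup_insert, hs, sup_comm, hsup]
      · intro L' hL'
        rcases hL' with rfl | hL'
        · exact hL
        · exact hcg L' hL'
    have hle : m ≤ (m.1 ∪ C, insert L m.2) :=
      ⟨Set.subset_union_left, Set.subset_insert _ _⟩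
    have := hmax hm' hle
    exact hi₀ (this.1 (Or.inr hi₀C))
  refine ⟨m.2, hi, ?_, hcg⟩
  rw [hs, huniv, MI_univ, htop, inf_top_eq]

include hPQ in
/-- **Kaplansky's theorem**, indexed form inside `P`. -/
theorem kaplansky (hind : iSupIndep N) (htop : iSup N = ⊤) (hc : ∀ i, CG (N i)) :
    ∃ 𝓛 : Set (Submodule R M), iSupIndep (fun k : 𝓛 => (k.1.comap P.subtype)) ∧
      (⨆ k : 𝓛, k.1.comap P.subtype) = ⊤ ∧
      ∀ k : 𝓛, ∃ s : Set (k.1.comap P.subtype), s.Countable ∧ Submodule.span R s = ⊤ := by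
  obtain ⟨𝓛, hi, hs, hcg⟩ := kaplansky_set hPQ hind htop hc
  have hle : ∀ k : 𝓛, k.1 ≤ P := fun k => hs ▸ le_sSup k.2
  have hmap : ∀ k : 𝓛, (k.1.comap P.subtype).map P.subtype = k.1 := fun k => by
    rw [Submodule.map_comap_subtype, inf_eq_right.2 (hle k)]
  refine ⟨𝓛, ?_, ?_, fun k => ((hcg k.1 k.2).comap_subtype (hle k)).to_type⟩
  · rw [← iSupIndep_map_orderIso_iff (Submodule.mapIic P)]
    apply iSupIndep.of_coe_Iic_comp
    have : ((↑) ∘ (Submodule.mapIic P) ∘ fun k : 𝓛 => (k.1.comap P.subtype)) =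
        fun k : 𝓛 => k.1 := by
      funext k
      exact hmap k
    rw [this]
    exact (sSupIndep_iff _).1 hi
  · apply Submodule.map_injective_of_injective P.subtype_injective
    rw [Submodule.map_iSup, Submodule.map_subtype_top]
    conv_rhs => rw [← hs, sSup_eq_iSup']
    exact iSup_congr hmap

end Main

end Groth.Agent.Lib.Helper12.Kap
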