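import Mathlib.LinearAlgebra.TensorProduct.Vanishing
import Mathlib.LinearAlgebra.TensorProduct.Pi
import Mathlib.LinearAlgebra.TensorProduct.Tower
import Mathlib.Algebra.Colimit.TensorProduct
import Mathlib.RingTheory.Flat.FaithfullyFlat.Basic
import Mathlib.RingTheory.Flat.FaithfullyFlat.Algebra

/-!
# Pure (universally injective) linear maps, in "matrix" form

`MatrixPure J`: every finite linear system with coefficients in `R` and right-hand side in `A`
which becomes solvable in `B` after applying `J : A → B` is already solvable in `A`.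
Such maps stay injective after tensoring with any module.
-/

set_option autoImplicit false
universe u v w

open TensorProduct

namespace Groth.Agent.Lib.Helper12

variable {R : Type*} [CommRing R]

/-- Matrix form of purity. -/
def MatrixPure {A B : Type*} [AddCommGroup A] [Module R A] [AddCommGroup B] [Module R B]
    (J : A →ₗ[R] B) : Prop :=
  ∀ (K k : ℕ) (c : Fin K → Fin k → R) (a : Fin K → A) (y : Fin k → B),
    (∀ i, J (a i) = ∑ j, c i j • y j) → ∃ a' : Fin k → A, ∀ i, a i = ∑ j, c i j • a' j

/-- every element of `M ⊗ Q` is a combination of a generating family of `M` -/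
lemma exists_sum_tmul_of_span_eq_top {M : Type*} [AddCommGroup M] [Module R M]
    {n : ℕ} (s : Fin n → M) (hs : Submodule.span R (Set.range s) = ⊤)
    (Q : Type*) [AddCommGroup Q] [Module R Q] (z : M ⊗[R] Q) :
    ∃ q : Fin n → Q, z = ∑ i, s i ⊗ₜ[R] q i := by
  classical
  induction z using TensorProduct.induction_on with
  | zero => exact ⟨fun _ => 0, by simp⟩
  | tmul m q =>
    have hm : m ∈ Submodule.span R (Set.range s) := hs ▸ Submodule.mem_top
    obtain ⟨c, hc⟩ := (Submodule.mem_span_range_iff_exists_fun R).1 hm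
    refine ⟨fun i => c i • q, ?_⟩
    rw [← hc, TensorProduct.sum_tmul]
    refine Finset.sum_congr rfl fun a _ => ?_
    rw [TensorProduct.smul_tmul]
  | add x y hx hy =>
    obtain ⟨q₁, h₁⟩ := hx
    obtain ⟨q₂, h₂⟩ := hy
    refine ⟨fun m => q₁ m + q₂ m, ?_⟩
    simp only [h₁, h₂, TensorProduct.tmul_add, Finset.sum_add_distrib]

/-- A matrix-pure map stays injective after tensoring with an arbitrary module. -/
theorem lTensor_injective_of_matrixPure {A B : Type*} [AddCommGroup A] [Module R A]
    [AddCommGroup B] [Module R B] {J : A →ₗ[R] B} (hJ : MatrixPure J)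
    (M : Type*) [AddCommGroup M] [Module R M] :
    Function.Injective (J.lTensor M) := by
  rw [injective_iff_map_eq_zero]
  intro x hx
  -- Step 1: descend to a finitely generated submodule
  obtain ⟨M₀, hM₀, hx₀⟩ := TensorProduct.exists_finite_submodule_left_of_setFinite
    ({x} : Set (M ⊗[R] A)) (Set.finite_singleton x)
  obtain ⟨x₀, rfl⟩ := hx₀ (Set.mem_singleton x)
  have hM₀fg : M₀.FG := Module.Finite.iff_fg.1 hM₀
  have h0 : M₀.subtype.rTensor B (J.lTensor M₀ x₀) = M₀.subtype.rTensor B 0 := by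
    rw [map_zero, ← hx, ← LinearMap.comp_apply, ← LinearMap.comp_apply,
      LinearMap.rTensor_comp_lTensor, LinearMap.lTensor_comp_rTensor]
  obtain ⟨M₁, hM₁fg, hle, h1⟩ := Submodule.FG.exists_rTensor_fg_inclusion_eq hM₀fg h0
  rw [map_zero] at h1
  set x₁ : M₁ ⊗[R] A := (Submodule.inclusion hle).rTensor A x₀ with hx₁
  have hx₁0 : J.lTensor M₁ x₁ = 0 := by
    rw [← h1, hx₁, ← LinearMap.comp_apply, ← LinearMap.comp_apply,
      LinearMap.rTensor_comp_lTensor, LinearMap.lTensor_comp_rTensor]
  have hxx₁ : M₀.subtype.rTensor A x₀ = M₁.subtype.rTensor A x₁ := by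
    rw [hx₁, ← LinearMap.comp_apply, ← LinearMap.rTensor_comp]
    rfl
  rw [hxx₁]
  -- Step 2: equational criterion in `M₁`
  have : Module.Finite R M₁ := Module.Finite.iff_fg.2 hM₁fg
  obtain ⟨n, s, hs⟩ := Module.Finite.exists_fin (R := R) (M := M₁)
  obtain ⟨a, ha⟩ := exists_sum_tmul_of_span_eq_top s hs A x₁
  have hsum : ∑ i, s i ⊗ₜ[R] J (a i) = (0 : M₁ ⊗[R] B) := by
    rw [← hx₁0, ha, map_sum]
    rfl
  obtain ⟨k, c, y, hy1, hy2⟩ := TensorProduct.vanishesTrivially_of_sum_tmul_eq_zero R hs hsum
  obtain ⟨a', ha'⟩ := hJ n k c a y hy1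
  have hv : TensorProduct.VanishesTrivially R s a := ⟨k, c, a', ha', hy2⟩
  rw [ha, TensorProduct.sum_tmul_eq_zero_of_vanishesTrivially R hv, map_zero]

/-- For a faithfully flat `R`-algebra `S`, the map `Q → S ⊗ Q` is matrix-pure. -/
theorem matrixPure_mk_of_faithfullyFlat (S : Type*) [CommRing S] [Algebra R S]
    [Module.FaithfullyFlat R S] (Q : Type*) [AddCommGroup Q] [Module R Q] :
    MatrixPure (TensorProduct.mk R S Q 1) := by
  classical
  intro K k c a y hy
  let cQ : (Fin k → Q) →ₗ[R] (Fin K → Q) :=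
    LinearMap.pi (fun i => ∑ j, c i j • LinearMap.proj j)
  have hcQ : ∀ (a' : Fin k → Q) i, cQ a' i = ∑ j, c i j • a' j := by
    intro a' i
    simp [cQ]
  let π := (LinearMap.range cQ).mkQ
  have hex : Function.Exact cQ π := LinearMap.exact_map_mkQ_range cQ
  have hex' : Function.Exact (cQ.lTensor S) (π.lTensor S) :=
    lTensor_exact S hex (Submodule.mkQ_surjective _)
  let w : S ⊗[R] (Fin k → Q) := (TensorProduct.piRight R R S (fun _ : Fin k => Q)).symm y
  have key : ∀ (w : S ⊗[R] (Fin k → Q)) i,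
      piRightHom R R S (fun _ : Fin K => Q) (cQ.lTensor S w) i =
        ∑ j, c i j • piRightHom R R S (fun _ : Fin k => Q) w j := by
    intro w i
    induction w using TensorProduct.induction_on with
    | zero => simp
    | tmul s a' => simp [hcQ, tmul_sum, tmul_smul]
    | add x y hx hy => simp only [map_add, Pi.add_apply, hx, hy, smul_add, Finset.sum_add_distrib]
  have hw : cQ.lTensor S w = (1 : S) ⊗ₜ[R] a := by
    apply (TensorProduct.piRight R R S (fun _ : Fin K => Q)).injective
    ext i
    rw [piRight_apply, key, ← piRight_apply, LinearEquiv.apply_symm_apply, piRight_apply,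
      piRightHom_tmul, ← hy i]
    rfl
  have hπ : π a = 0 := by
    apply Module.FaithfullyFlat.tensorProduct_mk_injective (A := R) (B := S)
    rw [map_zero]
    have : (TensorProduct.mk R S _ 1) (π a) = π.lTensor S ((1 : S) ⊗ₜ[R] a) := rfl
    rw [this, ← hw]
    exact (hex' _).2 ⟨w, rfl⟩
  obtain ⟨a', ha'⟩ := (hex a).1 hπ
  exact ⟨a', fun i => by rw [← ha', hcQ]⟩

/-- A product of matrix-pure maps is matrix-pure. -/
theorem matrixPure_pi {ι : Type*} {A B : ι → Type*} [∀ i, AddCommGroup (A i)]
    [∀ i, Module R (A i)] [∀ i, AddCommGroup (B i)] [∀ i, Module R (B i)]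
    (J : ∀ i, A i →ₗ[R] B i) (hJ : ∀ i, MatrixPure (J i)) :
    MatrixPure (LinearMap.pi (fun i => (J i) ∘ₗ LinearMap.proj i) :
      (∀ i, A i) →ₗ[R] (∀ i, B i)) := by
  intro K k c a y hy
  have : ∀ i, ∃ a' : Fin k → A i, ∀ l, a l i = ∑ j, c l j • a' j := by
    intro i
    apply hJ i K k c (fun l => a l i) (fun j => y j i)
    intro l
    have := congrFun (hy l) i
    simpa using this
  choose a' ha' using this
  refine ⟨fun j i => a' i j, fun l => ?_⟩
  ext i
  rw [ha' i l]
  simp

end Groth.Agent.Lib.Helper12
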