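import Mathlib
import Groth.Agent.Lib.Helper12.ModGlue3

/-! # Gluing two modules along a cospan which is an isomorphism over the intersection -/

set_option autoImplicit false
universe u

open CategoryTheory CategoryTheory.Limits AlgebraicGeometry TopologicalSpace Opposite Function
open Groth.Agent.Lib.Helper29.QCoh

namespace Groth.Agent.Lib.Helper12.H12ModGlue

section PB
variable {X : Scheme.{u}} {A B C : X.Modules} (f : A ⟶ C) (g : B ⟶ C)

theorem pullback_fst_app_bijective_of (V : X.Opens)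
    (h : ∀ a : Γ(A, V), ∃! b : Γ(B, V), f.app V a = g.app V b) :
    Function.Bijective ((pullback.fst f g).app V) := by
  constructor
  · intro z z' hz
    refine pullback_app_ext f g V z z' hz ?_
    obtain ⟨b, -, hb⟩ := h ((pullback.fst f g).app V z)
    have h1 : f.app V ((pullback.fst f g).app V z) = g.app V ((pullback.snd f g).app V z) := by
      rw [← app_comp, ← app_comp, pullback.condition]
    have h2 : f.app V ((pullback.fst f g).app V z) = g.app V ((pullback.snd f g).app V z') := by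
      rw [hz, ← app_comp, ← app_comp, pullback.condition]
    rw [hb _ h1, hb _ h2]
  · intro a
    obtain ⟨b, hb, -⟩ := h a
    obtain ⟨z, hz, -⟩ := pullback_app_exists f g V a b hb
    exact ⟨z, hz⟩

theorem pullback_fst_app_bijective (V : X.Opens) (hg : Function.Bijective (g.app V)) :
    Function.Bijective ((pullback.fst f g).app V) := by
  apply pullback_fst_app_bijective_of
  intro a
  obtain ⟨b, hb⟩ := hg.2 (f.app V a)
  exact ⟨b, hb.symm, fun b' hb' => hg.1 (hb'.symm.trans hb.symm)⟩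

theorem pullback_snd_app_bijective (V : X.Opens) (hf : Function.Bijective (f.app V)) :
    Function.Bijective ((pullback.snd f g).app V) := by
  constructor
  · intro z z' hz
    refine pullback_app_ext f g V z z' ?_ hz
    apply hf.1
    have h1 : f.app V ((pullback.fst f g).app V z) = g.app V ((pullback.snd f g).app V z) := by
      rw [← app_comp, ← app_comp, pullback.condition]
    have h2 : f.app V ((pullback.fst f g).app V z') = g.app V ((pullback.snd f g).app V z') := by
      rw [← app_comp, ← app_comp, pullback.condition]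
    rw [h1, h2, hz]
  · intro b
    obtain ⟨a, ha⟩ := hf.2 (g.app V b)
    obtain ⟨z, -, hz⟩ := pullback_app_exists f g V a b ha
    exact ⟨z, hz⟩

end PB

section Transfer
variable {X : Scheme.{u}} {YA YB YZ : Scheme.{u}} (jA : YA ⟶ X) (jB : YB ⟶ X) (jZ : YZ ⟶ X)
  [IsOpenImmersion jA] [IsOpenImmersion jB] [IsOpenImmersion jZ]
  (hZA : jZ.opensRange ≤ jA.opensRange) (hZB : jZ.opensRange ≤ jB.opensRange)
  (hZ : jA.opensRange ⊓ jB.opensRange ≤ jZ.opensRange)
  {GA GB H N : X.Modules} (α : GA ⟶ H) (β : GB ⟶ H) (τA : GA ⟶ N) (τB : GB ⟶ N)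

include hZ in
theorem compat_transfer
    (hc : ∀ T : X.Opens, T ≤ jZ.opensRange → ∀ (sA : Γ(GA, T)) (sB : Γ(GB, T)),
      α.app T sA = β.app T sB → τA.app T sA = τB.app T sB)
    {T : X.Opens} (hT : T ≤ jA.opensRange)
    (qA : Γ((onImm jA).obj GA, T)) (qB : Γ((onImm jB).obj GB, T))
    (hd : (ρI jZ jA hZA GA ≫ (onImm jZ).map α).app T qA =
      (ρI jZ jB hZB GB ≫ (onImm jZ).map β).app T qB)
    (n : Γ(N, T)) (hn : ((onImm jA).map τA).app T qA = ((ηI jA).app N).app T n) :
    ((onImm jB).map τB).app T qB = ((ηI jB).app N).app T n := by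
  rw [app_comp, app_comp, ρI_app, ρI_app, onImm_map_app, onImm_map_app] at hd
  rw [onImm_map_app, ηI_app_app] at hn ⊢
  have hTZ : jZ ''ᵁ (jZ ⁻¹ᵁ T) ≤ jZ.opensRange := by
    rw [Scheme.Hom.image_preimage_eq_opensRange_inf]; exact inf_le_left
  have h1 := hc _ hTZ _ _ hd
  rw [app_res, app_res, hn, res_res] at h1
  have e : jZ ''ᵁ (jZ ⁻¹ᵁ T) = jB ''ᵁ (jB ⁻¹ᵁ T) := by
    rw [Scheme.Hom.image_preimage_eq_opensRange_inf, Scheme.Hom.image_preimage_eq_opensRange_inf]
    refine le_antisymm (inf_le_inf_right _ hZB) (le_inf ?_ inf_le_right)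
    exact (le_inf (inf_le_right.trans hT) inf_le_left).trans hZ
  apply res_injective_of_eq N e
  rw [res_res]
  exact h1.symm

end Transfer

section GlueConstr
variable {X : Scheme.{u}} {YW YU YZ : Scheme.{u}} (jW : YW ⟶ X) (jU : YU ⟶ X) (jZ : YZ ⟶ X)
  [IsOpenImmersion jW] [IsOpenImmersion jU] [IsOpenImmersion jZ]
  (hZW : jZ.opensRange ≤ jW.opensRange) (hZU : jZ.opensRange ≤ jU.opensRange)
  (hZ : jW.opensRange ⊓ jU.opensRange ≤ jZ.opensRange)
  {G₁ G₂ H N : X.Modules} (a : G₁ ⟶ H) (b : G₂ ⟶ H) (t₁ : G₁ ⟶ N) (t₂ : G₂ ⟶ N)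

/-- The first map to the module on the overlap. -/
noncomputable def glD₁ : (onImm jW).obj G₁ ⟶ (onImm jZ).obj H :=
  ρI jZ jW hZW G₁ ≫ (onImm jZ).map a

/-- The second map to the module on the overlap. -/
noncomputable def glD₂ : (onImm jU).obj G₂ ⟶ (onImm jZ).obj H :=
  ρI jZ jU hZU G₂ ≫ (onImm jZ).map b

/-- Pairs of sections agreeing on the overlap. -/
noncomputable def glE : X.Modules := pullback (glD₁ jW jZ hZW a) (glD₂ jU jZ hZU b)

/-- The map recording the images in `N`. -/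
noncomputable def glM : glE jW jU jZ hZW hZU a b ⟶ (onImm jW).obj N ⊞ (onImm jU).obj N :=
  biprod.lift (pullback.fst (glD₁ jW jZ hZW a) (glD₂ jU jZ hZU b) ≫ (onImm jW).map t₁)
    (pullback.snd (glD₁ jW jZ hZW a) (glD₂ jU jZ hZU b) ≫ (onImm jU).map t₂)

/-- The restrictions of `N` to the two opens. -/
noncomputable def glη (N : X.Modules) : N ⟶ (onImm jW).obj N ⊞ (onImm jU).obj N :=
  biprod.lift ((ηI jW).app N) ((ηI jU).app N)

/-- The glued module. -/
noncomputable def glG : X.Modules := pullback (glM jW jU jZ hZW hZU a b t₁ t₂) (glη jW jU N)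

/-- Projection to the first module. -/
noncomputable def glP₁ : glG jW jU jZ hZW hZU a b t₁ t₂ ⟶ (onImm jW).obj G₁ :=
  pullback.fst (glM jW jU jZ hZW hZU a b t₁ t₂) (glη jW jU N) ≫
    pullback.fst (glD₁ jW jZ hZW a) (glD₂ jU jZ hZU b)

/-- Projection to the second module. -/
noncomputable def glP₂ : glG jW jU jZ hZW hZU a b t₁ t₂ ⟶ (onImm jU).obj G₂ :=
  pullback.fst (glM jW jU jZ hZW hZU a b t₁ t₂) (glη jW jU N) ≫
    pullback.snd (glD₁ jW jZ hZW a) (glD₂ jU jZ hZU b)

/-- The structure map to `N`. -/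
noncomputable def glT : glG jW jU jZ hZW hZU a b t₁ t₂ ⟶ N :=
  pullback.snd (glM jW jU jZ hZW hZU a b t₁ t₂) (glη jW jU N)

theorem glP₁_T : glP₁ jW jU jZ hZW hZU a b t₁ t₂ ≫ (onImm jW).map t₁ =
    glT jW jU jZ hZW hZU a b t₁ t₂ ≫ (ηI jW).app N := by
  have h := pullback.condition (f := glM jW jU jZ hZW hZU a b t₁ t₂) (g := glη jW jU N)
  have h1 := congrArg (fun φ => φ ≫ (biprod.fst : (onImm jW).obj N ⊞ (onImm jU).obj N ⟶ _)) h
  simp only [Category.assoc, glM, glη, biprod.lift_fst] at h1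
  exact h1

theorem glP₂_T : glP₂ jW jU jZ hZW hZU a b t₁ t₂ ≫ (onImm jU).map t₂ =
    glT jW jU jZ hZW hZU a b t₁ t₂ ≫ (ηI jU).app N := by
  have h := pullback.condition (f := glM jW jU jZ hZW hZU a b t₁ t₂) (g := glη jW jU N)
  have h1 := congrArg (fun φ => φ ≫ (biprod.snd : (onImm jW).obj N ⊞ (onImm jU).obj N ⟶ _)) h
  simp only [Category.assoc, glM, glη, biprod.lift_snd] at h1
  exact h1

end GlueConstr

section GlueProps
variable {X : Scheme.{u}} {YW YU YZ : Scheme.{u}} (jW : YW ⟶ X) (jU : YU ⟶ X) (jZ : YZ ⟶ X)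
  [IsOpenImmersion jW] [IsOpenImmersion jU] [IsOpenImmersion jZ]
  (hZW : jZ.opensRange ≤ jW.opensRange) (hZU : jZ.opensRange ≤ jU.opensRange)
  (hZ : jW.opensRange ⊓ jU.opensRange ≤ jZ.opensRange)
  {G₁ G₂ H N : X.Modules} (a : G₁ ⟶ H) (b : G₂ ⟶ H) (t₁ : G₁ ⟶ N) (t₂ : G₂ ⟶ N)

theorem app_comp_bijective {A B C : X.Modules} (φ : A ⟶ B) (ψ : B ⟶ C) (T : X.Opens)
    (h1 : Function.Bijective (φ.app T)) (h2 : Function.Bijective (ψ.app T)) :
    Function.Bijective ((φ ≫ ψ).app T) := by
  have : ((φ ≫ ψ).app T : _ → _) = (ψ.app T : _ → _) ∘ (φ.app T : _ → _) := by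
    funext m; exact app_comp φ ψ T m
  rw [this]
  exact h2.comp h1

theorem onImm_map_app_bijective {Y : Scheme.{u}} (j : Y ⟶ X) [IsOpenImmersion j]
    {M M' : X.Modules} (c : M ⟶ M') (hc : IsoOver j.opensRange c) (T : X.Opens) :
    Function.Bijective (((onImm j).map c).app T) := by
  have hT : j ''ᵁ (j ⁻¹ᵁ T) ≤ j.opensRange := by
    rw [Scheme.Hom.image_preimage_eq_opensRange_inf]; exact inf_le_left
  exact hc.app_bijective hT

include hZ in
theorem glD₂_app_bijective (hb : IsoOver jZ.opensRange b) {T : X.Opens}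
    (hT : T ≤ jW.opensRange) : Function.Bijective ((glD₂ jU jZ hZU b).app T) := by
  refine app_comp_bijective _ _ T (ρI_app_bijective jZ jU hZU G₂ ?_)
    (onImm_map_app_bijective jZ b hb T)
  exact (le_inf (inf_le_right.trans hT) inf_le_left).trans hZ

include hZ in
theorem glD₁_app_bijective (ha : IsoOver jZ.opensRange a) {T : X.Opens}
    (hT : T ≤ jU.opensRange) : Function.Bijective ((glD₁ jW jZ hZW a).app T) := by
  refine app_comp_bijective _ _ T (ρI_app_bijective jZ jW hZW G₁ ?_)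
    (onImm_map_app_bijective jZ a ha T)
  exact (le_inf inf_le_left (inf_le_right.trans hT)).trans hZ

variable (hcompat : ∀ T : X.Opens, T ≤ jZ.opensRange → ∀ (s₁ : Γ(G₁, T)) (s₂ : Γ(G₂, T)),
      a.app T s₁ = b.app T s₂ → t₁.app T s₁ = t₂.app T s₂)

include hZ hcompat in
theorem glP₁_app_bijective (hb : IsoOver jZ.opensRange b) {T : X.Opens}
    (hT : T ≤ jW.opensRange) :
    Function.Bijective ((glP₁ jW jU jZ hZW hZU a b t₁ t₂).app T) := by
  refine app_comp_bijective _ _ T ?_
    (pullback_fst_app_bijective _ _ T (glD₂_app_bijective jW jU jZ hZU hZ b hb hT))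
  apply pullback_fst_app_bijective_of
  intro e
  obtain ⟨n, hn⟩ := (ηI_app_bijective jW N hT).2
    (((onImm jW).map t₁).app T ((pullback.fst (glD₁ jW jZ hZW a) (glD₂ jU jZ hZU b)).app T e))
  have hd : (glD₁ jW jZ hZW a).app T
        ((pullback.fst (glD₁ jW jZ hZW a) (glD₂ jU jZ hZU b)).app T e) =
      (glD₂ jU jZ hZU b).app T
        ((pullback.snd (glD₁ jW jZ hZW a) (glD₂ jU jZ hZU b)).app T e) := by
    rw [← app_comp, ← app_comp, pullback.condition]
  refine ⟨n, ?_, ?_⟩
  · apply biprod_app_ext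
    · unfold glM glη
      rw [biprod_lift_app_fst, biprod_lift_app_fst, app_comp]
      exact hn.symm
    · unfold glM glη
      rw [biprod_lift_app_snd, biprod_lift_app_snd, app_comp]
      exact compat_transfer jW jU jZ hZW hZU hZ a b t₁ t₂ hcompat hT _ _ hd n hn.symm
  · intro n' hn'
    apply (ηI_app_bijective jW N hT).1
    have h1 := congrArg ((biprod.fst : (onImm jW).obj N ⊞ (onImm jU).obj N ⟶ _).app T) hn'
    unfold glM glη at h1
    rw [biprod_lift_app_fst, biprod_lift_app_fst, app_comp] at h1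
    exact h1.symm.trans hn.symm

include hZ hcompat in
theorem glP₂_app_bijective (ha : IsoOver jZ.opensRange a) {T : X.Opens}
    (hT : T ≤ jU.opensRange) :
    Function.Bijective ((glP₂ jW jU jZ hZW hZU a b t₁ t₂).app T) := by
  refine app_comp_bijective _ _ T ?_
    (pullback_snd_app_bijective _ _ T (glD₁_app_bijective jW jU jZ hZW hZ a ha hT))
  apply pullback_fst_app_bijective_of
  intro e
  obtain ⟨n, hn⟩ := (ηI_app_bijective jU N hT).2
    (((onImm jU).map t₂).app T ((pullback.snd (glD₁ jW jZ hZW a) (glD₂ jU jZ hZU b)).app T e))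
  have hd : (glD₁ jW jZ hZW a).app T
        ((pullback.fst (glD₁ jW jZ hZW a) (glD₂ jU jZ hZU b)).app T e) =
      (glD₂ jU jZ hZU b).app T
        ((pullback.snd (glD₁ jW jZ hZW a) (glD₂ jU jZ hZU b)).app T e) := by
    rw [← app_comp, ← app_comp, pullback.condition]
  have hZ' : jU.opensRange ⊓ jW.opensRange ≤ jZ.opensRange := by rw [inf_comm]; exact hZ
  refine ⟨n, ?_, ?_⟩
  · apply biprod_app_ext
    · unfold glM glη
      rw [biprod_lift_app_fst, biprod_lift_app_fst, app_comp]
      exact compat_transfer jU jW jZ hZU hZW hZ' b a t₂ t₁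
        (fun T hT s₂ s₁ h => (hcompat T hT s₁ s₂ h.symm).symm) hT _ _ hd.symm n hn.symm
    · unfold glM glη
      rw [biprod_lift_app_snd, biprod_lift_app_snd, app_comp]
      exact hn.symm
  · intro n' hn'
    apply (ηI_app_bijective jU N hT).1
    have h1 := congrArg ((biprod.snd : (onImm jW).obj N ⊞ (onImm jU).obj N ⟶ _).app T) hn'
    unfold glM glη at h1
    rw [biprod_lift_app_snd, biprod_lift_app_snd, app_comp] at h1
    exact h1.symm.trans hn.symm

include hZ hcompat in
theorem isoOver_glP₁ (hb : IsoOver jZ.opensRange b) :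
    IsoOver jW.opensRange (glP₁ jW jU jZ hZW hZU a b t₁ t₂) :=
  isoOver_of_app_bijective fun _ hT =>
    glP₁_app_bijective jW jU jZ hZW hZU hZ a b t₁ t₂ hcompat hb hT

include hZ hcompat in
theorem isoOver_glP₂ (ha : IsoOver jZ.opensRange a) :
    IsoOver jU.opensRange (glP₂ jW jU jZ hZW hZU a b t₁ t₂) :=
  isoOver_of_app_bijective fun _ hT =>
    glP₂_app_bijective jW jU jZ hZW hZU hZ a b t₁ t₂ hcompat ha hT

theorem isQuasicoherent_glG [QuasiCompact jW] [QuasiCompact jU] [QuasiCompact jZ]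
    [G₁.IsQuasicoherent] [G₂.IsQuasicoherent] [H.IsQuasicoherent] [N.IsQuasicoherent] :
    (glG jW jU jZ hZW hZU a b t₁ t₂).IsQuasicoherent := by
  haveI := isQuasicoherent_onImm jW G₁
  haveI := isQuasicoherent_onImm jU G₂
  haveI := isQuasicoherent_onImm jZ H
  haveI := isQuasicoherent_onImm jW N
  haveI := isQuasicoherent_onImm jU N
  haveI : (glE jW jU jZ hZW hZU a b).IsQuasicoherent := by
    unfold glE; infer_instance
  unfold glG
  infer_instance

end GlueProps

end Groth.Agent.Lib.Helper12.H12ModGlue
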