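import Mathlib
import Groth.Agent.Lib.Helper12.ModGlue4
import Groth.Agent.Lib.Helper29.HomSec3
import Groth.Agent.Lib.Helper29.RegDim1
import Groth.Agent.Lib.Helper3.ExtendLN
import Groth.Agent.Lib.Helper9.CohGlue
import Groth.Agent.Lib.Lead.LinLES.Biprod

/-! # The correspondence lemma: spreading out a map of stalks of coherent modules -/

set_option autoImplicit false
universe u

open CategoryTheory CategoryTheory.Limits AlgebraicGeometry TopologicalSpace Opposite Function
open Groth.Agent.Lib.Helper29.QCoh Groth.Agent.Lib.Helper29.QCoh.Dual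
open Groth.Agent.Lib.Helper12.H12ModGlue

namespace Groth.Agent.Lib.Helper12.H12Dev

section HomOfSec
variable {X : Scheme.{u}} {A B : X.Modules} (U : X.Opens) (θ : Γ(RefHull.homSh A B, U))

theorem image_preimage_le_self (V : X.Opens) : U.ι ''ᵁ (U.ι ⁻¹ᵁ V) ≤ U := by
  rw [Scheme.Hom.image_preimage_eq_opensRange_inf, Scheme.Opens.opensRange_ι]
  exact inf_le_left

/-- Section-level map, with the target written as sections of `B`. -/
noncomputable def secFun₀ (V : X.Opens) : Γ(A, V) →+ Γ(B, U.ι ''ᵁ (U.ι ⁻¹ᵁ V)) where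
  toFun a := ev (res (RefHull.homSh A B) (image_preimage_le_self U V) θ)
    (res A (U.ι.image_preimage_le V) a)
  map_zero' := by
    rw [map_zero]
    have := ev_smul_right (0 : Γ(X, U.ι ''ᵁ (U.ι ⁻¹ᵁ V)))
      (res (RefHull.homSh A B) (image_preimage_le_self U V) θ) (0 : Γ(A, U.ι ''ᵁ (U.ι ⁻¹ᵁ V)))
    rwa [zero_smul, zero_smul] at this
  map_add' a b := by
    rw [map_add]
    exact ev_add_right _ _ _

/-- Section-level map of the morphism `A ⟶ j_* j^* B` defined by a section of the sheaf Hom. -/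
noncomputable def secFun (V : X.Opens) : Γ(A, V) →+ Γ((onImm U.ι).obj B, V) :=
  secFun₀ U θ V

theorem secFun_apply (V : X.Opens) (a : Γ(A, V)) :
    secFun U θ V a = ev (res (RefHull.homSh A B) (image_preimage_le_self U V) θ)
      (res A (U.ι.image_preimage_le V) a) := rfl

theorem secFun_smul (V : X.Opens) (r : Γ(X, V)) (a : Γ(A, V)) :
    secFun U θ V (r • a) = r • secFun U θ V a := by
  refine Eq.trans ?_ (onImm_smul U.ι B V r (secFun U θ V a)).symm
  rw [secFun_apply, secFun_apply, res_smul, ev_smul_right]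

theorem secFun_res {V V' : X.Opens} (h : V' ≤ V) (a : Γ(A, V)) :
    secFun U θ V' (res A h a) = res ((onImm U.ι).obj B) h (secFun U θ V a) := by
  refine Eq.trans ?_ (onImm_res U.ι B h (secFun U θ V a)).symm
  rw [secFun_apply, secFun_apply, res_ev, res_res, res_res, res_res]

/-- The morphism `A ⟶ j_* j^* B` defined by a section over `U` of the sheaf Hom. -/
noncomputable def homOfSec : A ⟶ (onImm U.ι).obj B :=
  homOfApp (secFun U θ) (secFun_smul U θ) (fun h a => secFun_res U θ h a)

theorem homOfSec_app (V : X.Opens) (a : Γ(A, V)) :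
    (homOfSec U θ).app V a = secFun U θ V a := rfl

end HomOfSec

section Stalk
variable {X : Scheme.{u}} {A B : X.Modules} (U : X.Opens) (θ : Γ(RefHull.homSh A B, U))

theorem homOfSec_app_of_le {V : X.Opens} (hV : V ≤ U) (a : Γ(A, V)) :
    (homOfSec U θ).app V a =
      ((ηI U.ι).app B).app V (ev (res (RefHull.homSh A B) hV θ) a) := by
  rw [homOfSec_app, secFun_apply, ηI_app_app, res_ev, res_res]

theorem stalkMap_homOfSec (x : X) (hx : x ∈ U) (t : A.presheaf.stalk x) :
    stalkMap (homOfSec U θ) x t = stalkMap ((ηI U.ι).app B) x (θ.1 ⟨x, hx⟩ t) := by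
  obtain ⟨V, hxV, a, rfl⟩ := A.presheaf.exists_germ_eq t
  have hxW : x ∈ V ⊓ U := ⟨hxV, hx⟩
  rw [← germ_res A (inf_le_left : V ⊓ U ≤ V) x hxW a, stalkMap_germ,
    homOfSec_app_of_le U θ inf_le_right, ← stalkMap_germ, germ_ev]
  rfl

/-- The correspondence object: the fibre product of `A ⟶ j_* j^* B ⟵ B`. -/
noncomputable def corrH : X.Modules := pullback (homOfSec U θ) ((ηI U.ι).app B)

/-- The projection to `A`. -/
noncomputable def corrV : corrH U θ ⟶ A := pullback.fst _ _

/-- The projection to `B`. -/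
noncomputable def corrW : corrH U θ ⟶ B := pullback.snd _ _

theorem corr_condition : corrV U θ ≫ homOfSec U θ = corrW U θ ≫ (ηI U.ι).app B :=
  pullback.condition

theorem isoOver_corrV : IsoOver U (corrV U θ) := by
  apply isoOver_of_app_bijective
  intro T hT
  apply pullback_fst_app_bijective
  apply ηI_app_bijective
  rw [Scheme.Opens.opensRange_ι]
  exact hT

theorem stalkMap_corrW (x : X) (hx : x ∈ U) (t : (corrH U θ).presheaf.stalk x) :
    stalkMap (corrW U θ) x t = θ.1 ⟨x, hx⟩ (stalkMap (corrV U θ) x t) := by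
  have hη : IsoOver U ((ηI U.ι).app B) := by
    have := isoOver_ηI U.ι B
    rwa [Scheme.Opens.opensRange_ι] at this
  apply (hη x hx).1
  rw [← stalkMap_homOfSec U θ x hx, ← stalkMap_comp_apply, ← stalkMap_comp_apply, corr_condition]

instance mono_corrV [Mono ((ηI U.ι).app B)] : Mono (corrV U θ) :=
  inferInstanceAs (Mono (pullback.fst (homOfSec U θ) ((ηI U.ι).app B)))

instance mono_corr_lift : Mono (biprod.lift (corrV U θ) (corrW U θ)) := by
  refine ⟨fun {T} a b h => ?_⟩
  have h1 : a ≫ corrV U θ = b ≫ corrV U θ := by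
    have := congrArg (· ≫ biprod.fst) h
    simpa using this
  have h2 : a ≫ corrW U θ = b ≫ corrW U θ := by
    have := congrArg (· ≫ biprod.snd) h
    simpa using this
  exact pullback.hom_ext h1 h2

end Stalk

section CohP
variable {X : Scheme.{u}} [IsNoetherian X] {A B : X.Modules}

theorem quasiCompact_ι (U : X.Opens) : QuasiCompact U.ι :=
  Groth.Agent.Lib.Helper3.quasiCompact_ι_of_locallyNoetherian
    (fun _ => ⟨⊤, trivial, inferInstance⟩) U

theorem isCoh_corrH (hA : Coh.IsCoh A) (hB : Coh.IsCoh B) (U : X.Opens)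
    (θ : Γ(RefHull.homSh A B, U)) : Coh.IsCoh (corrH U θ) := by
  haveI := hA.1
  haveI := hA.2
  haveI := hB.1
  haveI := hB.2
  haveI := quasiCompact_ι U
  haveI : ((onImm U.ι).obj B).IsQuasicoherent := isQuasicoherent_onImm U.ι B
  haveI : ((𝟭 X.Modules).obj B).IsQuasicoherent := hB.1
  haveI : (corrH U θ).IsQuasicoherent :=
    isQuasicoherent_pullbackObj (homOfSec U θ) ((ηI U.ι).app B)
  haveI : (A ⊞ B).IsFiniteType := Groth.Agent.Lib.Helper9.CohGlue.isFiniteType_biprod A B
  exact ⟨inferInstance, isFiniteType_of_mono (biprod.lift (corrV U θ) (corrW U θ))⟩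

/-- Every `O_{X,y}`-linear map between the stalks of coherent modules is the value at `y`
of a section of the sheaf Hom over a neighbourhood. -/
theorem exists_homSh_eq (hA : Coh.IsCoh A) (y : X) (ψ : RefHull.StalkHom A B y) :
    ∃ (U : X.Opens) (hy : y ∈ U) (θ : Γ(RefHull.homSh A B, U)), θ.1 ⟨y, hy⟩ = ψ := by
  haveI := Groth.Agent.Lib.Helper29.QCoh.isFinitePresentation_of_isCoh A hA
  obtain ⟨g, hg⟩ := HomSec.evalStalk_surjective (F := A) (G := B) y ψ
  obtain ⟨U, hy, θ, rfl⟩ := (RefHull.homSh A B).presheaf.exists_germ_eq g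
  exact ⟨U, hy, θ, by rw [← hg, RefHull.evalStalk_germ]⟩

/-- **Correspondence lemma.** -/
theorem exists_correspondence (hA : Coh.IsCoh A) (hB : Coh.IsCoh B) (y : X)
    (ψ : RefHull.StalkHom A B y) :
    ∃ (H : X.Modules) (v : H ⟶ A) (w : H ⟶ B) (U : X.Opens), Coh.IsCoh H ∧ y ∈ U ∧
      IsoOver U v ∧ (∀ t, stalkMap w y t = ψ (stalkMap v y t)) ∧
      (Mono ((ηI U.ι).app B) → Mono v) ∧ Mono (biprod.lift v w) := by
  obtain ⟨U, hy, θ, rfl⟩ := exists_homSh_eq hA y ψ
  exact ⟨corrH U θ, corrV U θ, corrW U θ, U, isCoh_corrH hA hB U θ, hy, isoOver_corrV U θ,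
    fun t => stalkMap_corrW U θ y hy t, fun _ => inferInstance, inferInstance⟩

end CohP

end Groth.Agent.Lib.Helper12.H12Dev
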