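import Mathlib
import Groth.Agent.Lib.Helper12.Dev1
import Groth.Agent.Lib.Helper18.CycLen

/-! # Stalks, supports and lengths: bookkeeping for the dévissage -/

set_option autoImplicit false
universe u v

open CategoryTheory CategoryTheory.Limits AlgebraicGeometry TopologicalSpace Opposite Function
open Groth.Agent.Lib.Helper29.QCoh
open Groth.Agent.Lib.Helper12.H12ModGlue

namespace Groth.Agent.Lib.Helper12.H12Dev

open IsLocalRing

section Alg
variable {R : Type u} [CommRing R] [IsLocalRing R]

/-- Two simple modules over a local ring are isomorphic. -/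
theorem nonempty_linearEquiv_of_isSimpleModule (M N : Type v) [AddCommGroup M] [Module R M]
    [AddCommGroup N] [Module R N] [IsSimpleModule R M] [IsSimpleModule R N] :
    Nonempty (M ≃ₗ[R] N) := by
  obtain ⟨I, hI, ⟨e⟩⟩ := isSimpleModule_iff_quot_maximal.mp (inferInstance : IsSimpleModule R M)
  obtain ⟨J, hJ, ⟨e'⟩⟩ := isSimpleModule_iff_quot_maximal.mp (inferInstance : IsSimpleModule R N)
  have h1 : I = maximalIdeal R := IsLocalRing.eq_maximalIdeal hI
  have h2 : J = maximalIdeal R := IsLocalRing.eq_maximalIdeal hJ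
  subst h1
  subst h2
  exact ⟨e.trans e'.symm⟩

/-- A nonzero module of finite length over a local ring has an endomorphism with simple range. -/
theorem exists_end_isSimpleModule_range (M : Type v) [AddCommGroup M] [Module R M]
    [Nontrivial M] (hM : IsFiniteLength R M) :
    ∃ ψ : M →ₗ[R] M, IsSimpleModule R (LinearMap.range ψ) := by
  rw [isFiniteLength_iff_isNoetherian_isArtinian] at hM
  obtain ⟨hN, hA⟩ := hM
  obtain ⟨S, hS⟩ : ∃ S : Submodule R M, IsAtom S := by
    haveI : IsAtomic (Submodule R M) := isAtomic_of_orderBot_wellFounded_lt (wellFounded_lt)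
    obtain ⟨S, hS, -⟩ := (eq_bot_or_exists_atom_le (⊤ : Submodule R M)).resolve_left top_ne_bot
    exact ⟨S, hS⟩
  obtain ⟨N, hN'⟩ : ∃ N : Submodule R M, IsCoatom N := by
    haveI : IsCoatomic (Submodule R M) := isCoatomic_of_orderTop_gt_wellFounded (wellFounded_gt)
    obtain ⟨N, hN', -⟩ := (eq_top_or_exists_le_coatom (⊥ : Submodule R M)).resolve_left bot_ne_top
    exact ⟨N, hN'⟩
  haveI : IsSimpleModule R S := isSimpleModule_iff_isAtom.mpr hS
  haveI : IsSimpleModule R (M ⧸ N) := isSimpleModule_iff_isCoatom.mpr hN'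
  obtain ⟨e⟩ := nonempty_linearEquiv_of_isSimpleModule (R := R) (M ⧸ N) S
  refine ⟨S.subtype ∘ₗ e.toLinearMap ∘ₗ N.mkQ, ?_⟩
  have : LinearMap.range (S.subtype ∘ₗ e.toLinearMap ∘ₗ N.mkQ) = S := by
    rw [LinearMap.range_comp, LinearMap.range_comp, Submodule.range_mkQ, Submodule.map_top,
      LinearEquiv.range, Submodule.map_top, Submodule.range_subtype]
  rw [this]
  infer_instance

end Alg

section Supp
variable {X : Scheme.{u}}

theorem stalkMapₗ_apply {M N : X.Modules} (φ : M ⟶ N) (x : X) (t : M.presheaf.stalk x) :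
    RefHull.stalkMapₗ φ x t = stalkMap φ x t := rfl

theorem isClosed_support (F : X.Modules) [F.IsFiniteType] : IsClosed (CohB1.support F) := by
  have h := isOpen_setOf_subsingleton_stalk F
  have e : CohB1.support F = {x : X | Subsingleton (F.presheaf.stalk x)}ᶜ := rfl
  rw [e]
  exact h.isClosed_compl

theorem notMem_support_iff (F : X.Modules) (x : X) :
    x ∉ CohB1.support F ↔ Subsingleton (F.presheaf.stalk x) := not_not

theorem mem_support_iff (F : X.Modules) (x : X) :
    x ∈ CohB1.support F ↔ Nontrivial (F.presheaf.stalk x) :=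
  not_subsingleton_iff_nontrivial

theorem support_subset_of_mono {M N : X.Modules} (f : M ⟶ N) [Mono f] :
    CohB1.support M ⊆ CohB1.support N := by
  intro x hx hN
  apply hx
  have hinj := (mono_iff_stalkMap_injective f).mp inferInstance x
  exact ⟨fun a b => hinj (Subsingleton.elim _ _)⟩

theorem support_subset_of_epi {M N : X.Modules} (f : M ⟶ N) [Epi f] :
    CohB1.support N ⊆ CohB1.support M := by
  intro x hx hM
  apply hx
  have hsurj := (epi_iff_stalkMap_surjective f).mp inferInstance x
  refine ⟨fun a b => ?_⟩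
  obtain ⟨a', rfl⟩ := hsurj a
  obtain ⟨b', rfl⟩ := hsurj b
  rw [Subsingleton.elim a' b']

theorem isZero_of_support_eq_empty (F : X.Modules) (h : CohB1.support F = ∅) : IsZero F := by
  rw [isZero_iff_stalk_subsingleton]
  intro x
  rw [← notMem_support_iff, h]
  exact Set.notMem_empty x

theorem stalkMap_zero_apply {M N : X.Modules} (x : X) (t : M.presheaf.stalk x) :
    stalkMap (0 : M ⟶ N) x t = 0 := by
  have h : stalkMap (0 : M ⟶ N) x = 0 := (stalkFunctor X x).map_zero _ _
  rw [h]
  rfl

theorem notMem_support_kernel {A B : X.Modules} (u : A ⟶ B) (y : X)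
    (h : Function.Injective (stalkMap u y)) : y ∉ CohB1.support (kernel u) := by
  rw [notMem_support_iff]
  have hinj := (mono_iff_stalkMap_injective (kernel.ι u)).mp inferInstance y
  refine ⟨fun a b => ?_⟩
  apply hinj
  apply h
  rw [← stalkMap_comp_apply, ← stalkMap_comp_apply, kernel.condition, stalkMap_zero_apply,
    stalkMap_zero_apply]

theorem notMem_support_cokernel {A B : X.Modules} (u : A ⟶ B) (y : X)
    (h : Function.Surjective (stalkMap u y)) : y ∉ CohB1.support (cokernel u) := by
  rw [notMem_support_iff]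
  have hsurj := (epi_iff_stalkMap_surjective (cokernel.π u)).mp inferInstance y
  have key : ∀ t : (cokernel u).presheaf.stalk y, t = 0 := by
    intro t
    obtain ⟨b, rfl⟩ := hsurj t
    obtain ⟨a, rfl⟩ := h b
    rw [← stalkMap_comp_apply, cokernel.condition, stalkMap_zero_apply]
  exact ⟨fun a b => by rw [key a, key b]⟩

end Supp

section Len
variable {X : Scheme.{u}}

/-- The length of the stalk at `y`. -/
noncomputable def len (F : X.Modules) (y : X) : ℕ∞ :=
  Module.length (X.presheaf.stalk y) (F.presheaf.stalk y)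

theorem len_eq_add (S : ShortComplex X.Modules) (hS : S.ShortExact) (y : X) :
    len S.X₂ y = len S.X₁ y + len S.X₃ y := by
  haveI := hS.mono_f
  haveI := hS.epi_g
  exact Module.length_eq_add_of_exact (RefHull.stalkMapₗ S.f y) (RefHull.stalkMapₗ S.g y)
    ((mono_iff_stalkMap_injective S.f).mp inferInstance y)
    ((epi_iff_stalkMap_surjective S.g).mp inferInstance y)
    ((exact_iff_stalk_function_exact S).mp hS.exact y)

theorem len_eq_zero_iff (F : X.Modules) (y : X) : len F y = 0 ↔ y ∉ CohB1.support F := by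
  rw [len, Module.length_eq_zero_iff, notMem_support_iff]

theorem isFiniteLength_stalk [IsLocallyNoetherian X] (F : X.Modules) (hF : Coh.IsCoh F) (y : X)
    (h : CohB1.support F ⊆ closure {y}) :
    IsFiniteLength (X.presheaf.stalk y) (F.presheaf.stalk y) := by
  haveI := hF.1
  haveI := hF.2
  apply Groth.Agent.Lib.Helper18.CycLen.isFiniteLength_stalk_of_maximal F y
  intro x hx hxy
  have : y ⤳ x := specializes_iff_mem_closure.mpr (h hx)
  exact (hxy.antisymm this).eq

theorem len_ne_top [IsLocallyNoetherian X] (F : X.Modules) (hF : Coh.IsCoh F) (y : X)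
    (h : CohB1.support F ⊆ closure {y}) : len F y ≠ ⊤ :=
  Module.length_ne_top_iff.mpr (isFiniteLength_stalk F hF y h)

end Len

section CohOps
variable {X : Scheme.{u}} [IsLocallyNoetherian X] {A B : X.Modules}

theorem isCoh_kernel (u : A ⟶ B) (hA : Coh.IsCoh A) (hB : Coh.IsCoh B) :
    Coh.IsCoh (kernel u) := by
  haveI := hA.1
  haveI := hA.2
  haveI := hB.1
  exact ⟨inferInstance, isFiniteType_kernel u⟩

theorem isCoh_cokernel (u : A ⟶ B) (hA : Coh.IsCoh A) (hB : Coh.IsCoh B) :
    Coh.IsCoh (cokernel u) := by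
  haveI := hA.1
  haveI := hB.1
  haveI := hB.2
  exact ⟨inferInstance, isFiniteType_cokernel u⟩

theorem isCoh_image (u : A ⟶ B) (hA : Coh.IsCoh A) (hB : Coh.IsCoh B) :
    Coh.IsCoh (Abelian.image u) :=
  isCoh_kernel (cokernel.π u) hB (isCoh_cokernel u hA hB)

theorem isCoh_of_iso (e : A ≅ B) (hA : Coh.IsCoh A) : Coh.IsCoh B := by
  haveI := hA.1
  haveI := hA.2
  haveI : B.IsQuasicoherent := isQuasicoherent_of_iso e
  exact ⟨inferInstance, isFiniteType_of_epi e.hom⟩

end CohOps

section SES
variable {X : Scheme.{u}} {A B : X.Modules} (u : A ⟶ B)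

/-- `0 ⟶ ker u ⟶ A ⟶ im u ⟶ 0`. -/
noncomputable def sesKerIm : ShortComplex X.Modules :=
  ShortComplex.mk (kernel.ι u) (Abelian.factorThruImage u) (by
    rw [← cancel_mono (Abelian.image.ι u), Category.assoc, Abelian.image.fac, kernel.condition,
      zero_comp])

theorem sesKerIm_shortExact : (sesKerIm u).ShortExact := by
  haveI : Mono (sesKerIm u).f := inferInstanceAs (Mono (kernel.ι u))
  haveI : Epi (sesKerIm u).g := inferInstanceAs (Epi (Abelian.factorThruImage u))
  refine ShortComplex.ShortExact.mk (ShortComplex.exact_of_f_is_kernel _ ?_)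
  exact isKernelOfComp (Abelian.image.ι u) u (kernelIsKernel u) _ (Abelian.image.fac u)

/-- `0 ⟶ im u ⟶ B ⟶ coker u ⟶ 0`. -/
noncomputable def sesImCoker : ShortComplex X.Modules :=
  ShortComplex.mk (Abelian.image.ι u) (cokernel.π u) (kernel.condition _)

theorem sesImCoker_shortExact : (sesImCoker u).ShortExact := by
  haveI : Mono (sesImCoker u).f := inferInstanceAs (Mono (Abelian.image.ι u))
  haveI : Epi (sesImCoker u).g := inferInstanceAs (Epi (cokernel.π u))
  exact ShortComplex.ShortExact.mk (ShortComplex.exact_kernel (cokernel.π u))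

end SES

end Groth.Agent.Lib.Helper12.H12Dev
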