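import Mathlib
import Groth.Prelude.Def_Formal
import Groth.Prelude.Def_KLin

/-! # Formal functions, part 2: the subobjects `I^k M ⊆ M` -/

set_option autoImplicit false
universe u
open CategoryTheory CategoryTheory.Limits AlgebraicGeometry TopologicalSpace Opposite

namespace Groth.Agent.Lib.Helper12.H12FF

variable {A : Type u} [CommRing A] {X : Scheme.{u}} [X.Over (Spec (CommRingCat.of A))]

theorem smulMod_mul (M : X.Modules) (a b : A) :
    Formal.smulMod A M (a * b) = Formal.smulMod A M a ≫ Formal.smulMod A M b := by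
  unfold Formal.smulMod
  rw [map_mul, KLin.smulModΓ_mul]

theorem smulMod_add (M : X.Modules) (a b : A) :
    Formal.smulMod A M (a + b) = Formal.smulMod A M a + Formal.smulMod A M b := by
  unfold Formal.smulMod
  rw [map_add, KLin.smulModΓ_add]

theorem smulMod_zero (M : X.Modules) : Formal.smulMod A M (0 : A) = 0 := by
  unfold Formal.smulMod
  rw [map_zero, KLin.smulModΓ_zero]

theorem smulMod_one (M : X.Modules) : Formal.smulMod A M (1 : A) = 𝟙 M := by
  unfold Formal.smulMod
  rw [map_one, KLin.smulModΓ_one]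

theorem comp_smulMod {M N : X.Modules} (φ : M ⟶ N) (a : A) :
    φ ≫ Formal.smulMod A N a = Formal.smulMod A M a ≫ φ :=
  KLin.comp_smulModΓ φ _

theorem ι_smulFamily (J : Ideal A) (M : X.Modules) (a : J) :
    Sigma.ι (fun _ : J => M) a ≫ Formal.smulFamily J M = Formal.smulMod A M (a : A) := by
  unfold Formal.smulFamily
  rw [colimit.ι_desc]
  rfl

theorem smulMod_modPowπ (I : Ideal A) (k : ℕ) (M : X.Modules) (a : A) (ha : a ∈ I ^ k) :
    Formal.smulMod A M a ≫ Formal.modPowπ I k M = 0 := by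
  have h := ι_smulFamily (I ^ k) M ⟨a, ha⟩
  rw [← h, Category.assoc]
  unfold Formal.modPowπ Formal.modPow
  rw [cokernel.condition, comp_zero]

/-- `I^k M` -/
noncomputable def Kk (I : Ideal A) (k : ℕ) (M : X.Modules) : X.Modules :=
  kernel (Formal.modPowπ I k M)

/-- `I^k M ⊆ M` -/
noncomputable def inclK (I : Ideal A) (k : ℕ) (M : X.Modules) : Kk I k M ⟶ M :=
  kernel.ι (Formal.modPowπ I k M)

instance (I : Ideal A) (k : ℕ) (M : X.Modules) : Mono (inclK I k M) :=
  inferInstanceAs (Mono (kernel.ι (Formal.modPowπ I k M)))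

theorem inclK_modPowπ (I : Ideal A) (k : ℕ) (M : X.Modules) :
    inclK I k M ≫ Formal.modPowπ I k M = 0 := kernel.condition _

/-- `⨁_{a ∈ I^k} M ↠ I^k M` -/
noncomputable def liftK (I : Ideal A) (k : ℕ) (M : X.Modules) :
    (∐ fun _ : ↥(I ^ k) => M) ⟶ Kk I k M :=
  Abelian.factorThruImage (Formal.smulFamily (I ^ k) M)

instance (I : Ideal A) (k : ℕ) (M : X.Modules) : Epi (liftK I k M) :=
  inferInstanceAs (Epi (Abelian.factorThruImage (Formal.smulFamily (I ^ k) M)))

theorem liftK_inclK (I : Ideal A) (k : ℕ) (M : X.Modules) :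
    liftK I k M ≫ inclK I k M = Formal.smulFamily (I ^ k) M :=
  Abelian.image.fac _

/-- lifting a morphism into `M` killed by `M → M/I^k M` -/
noncomputable def toK (I : Ideal A) (k : ℕ) {M N : X.Modules} (φ : N ⟶ M)
    (h : φ ≫ Formal.modPowπ I k M = 0) : N ⟶ Kk I k M :=
  kernel.lift _ φ h

theorem toK_inclK (I : Ideal A) (k : ℕ) {M N : X.Modules} (φ : N ⟶ M)
    (h : φ ≫ Formal.modPowπ I k M = 0) : toK I k φ h ≫ inclK I k M = φ :=
  kernel.lift_ι _ _ _

theorem inclK_smulMod_modPowπ (I : Ideal A) (k : ℕ) (M : X.Modules) (a : A) (ha : a ∈ I) :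
    (inclK I k M ≫ Formal.smulMod A M a) ≫ Formal.modPowπ I (k + 1) M = 0 := by
  rw [← cancel_epi (liftK I k M), comp_zero, ← Category.assoc, ← Category.assoc, liftK_inclK]
  apply Sigma.hom_ext
  intro b
  rw [comp_zero, ← Category.assoc, ← Category.assoc, ι_smulFamily, ← smulMod_mul]
  apply smulMod_modPowπ
  rw [pow_succ]
  exact Ideal.mul_mem_mul b.2 ha

/-- multiplication by `a ∈ I` maps `I^k M` to `I^(k+1) M` -/
noncomputable def mulK (I : Ideal A) (M : X.Modules) (a : A) (ha : a ∈ I) (k : ℕ) :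
    Kk I k M ⟶ Kk I (k + 1) M :=
  toK I (k + 1) (inclK I k M ≫ Formal.smulMod A M a) (inclK_smulMod_modPowπ I k M a ha)

theorem mulK_inclK (I : Ideal A) (M : X.Modules) (a : A) (ha : a ∈ I) (k : ℕ) :
    mulK I M a ha k ≫ inclK I (k + 1) M = inclK I k M ≫ Formal.smulMod A M a :=
  toK_inclK _ _ _ _

theorem inclK_succ_modPowπ (I : Ideal A) (k : ℕ) (M : X.Modules) :
    inclK I (k + 1) M ≫ Formal.modPowπ I k M = 0 := by
  rw [← Formal.modPowπ_trans, ← Category.assoc, inclK_modPowπ, zero_comp]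

/-- `I^(k+1) M ⊆ I^k M` -/
noncomputable def stepK (I : Ideal A) (M : X.Modules) (k : ℕ) : Kk I (k + 1) M ⟶ Kk I k M :=
  toK I k (inclK I (k + 1) M) (inclK_succ_modPowπ I k M)

theorem stepK_inclK (I : Ideal A) (M : X.Modules) (k : ℕ) :
    stepK I M k ≫ inclK I k M = inclK I (k + 1) M :=
  toK_inclK _ _ _ _

/-- `0 → I^k M → M → M/I^k M → 0` -/
noncomputable def sesK (I : Ideal A) (k : ℕ) (M : X.Modules) : ShortComplex X.Modules :=
  ShortComplex.mk (inclK I k M) (Formal.modPowπ I k M) (inclK_modPowπ I k M)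

theorem sesK_shortExact (I : Ideal A) (k : ℕ) (M : X.Modules) : (sesK I k M).ShortExact := by
  haveI : Mono (sesK I k M).f := inferInstanceAs (Mono (inclK I k M))
  haveI : Epi (sesK I k M).g := by
    exact inferInstanceAs (Epi (cokernel.π (Formal.smulFamily (I ^ k) M)))
  exact ShortComplex.ShortExact.mk' (ShortComplex.exact_of_f_is_kernel _ (kernelIsKernel _))
    inferInstance inferInstance

end Groth.Agent.Lib.Helper12.H12FF
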