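import Mathlib
import Groth.Agent.Lib.Helper22.Cech.Top

/-! # The Čech complex of a direct image -/

set_option autoImplicit false
universe u

open CategoryTheory CategoryTheory.Limits Opposite TopologicalSpace

namespace Groth.Agent.Lib.Helper12.H12Fin

open Groth.Agent.Lib.Helper22.Cech

variable {X Y : TopCat.{u}} (f : X ⟶ Y) {ι : Type u} (V : ι → Opens Y)
  (P : (Opens X)ᵒᵖ ⥤ AddCommGrpCat.{u})

/-- The preimage family. -/
abbrev preV : ι → Opens X := fun i => (Opens.map f).obj (V i)

/-- The direct image presheaf. -/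
abbrev pushP : (Opens Y)ᵒᵖ ⥤ AddCommGrpCat.{u} := (Opens.map f).op ⋙ P

lemma map_Uσ {n : ℕ} (σ : Fin (n + 1) → ι) :
    (Opens.map f).obj (Uσ V σ) = Uσ (preV f V) σ := by
  apply le_antisymm
  · exact le_Uσ (preV f V) σ fun j => leOfHom ((Opens.map f).map (homOfLE (Uσ_le V σ j)))
  · intro x hx
    change f x ∈ Uσ V σ
    rw [Uσ_eq_iInf]
    have h1 : ∀ k, x ∈ preV f V (σ k) := fun k => Uσ_le (preV f V) σ k hx
    have : f x ∈ ((⨅ k, V (σ k) : Opens Y) : Set Y) := by
      rw [Opens.coe_iInf]
      exact Set.mem_iInter.mpr fun k => h1 k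
    exact this

lemma hom_ext_proj {X' : TopCat.{u}} (U : ι → Opens X') (Q : (Opens X')ᵒᵖ ⥤ AddCommGrpCat.{u})
    {n : ℕ} {A : AddCommGrpCat.{u}} (g h : A ⟶ (CK U Q).X n)
    (H : ∀ σ : Fin (n + 1) → ι, g ≫ proj U Q n σ = h ≫ proj U Q n σ) : g = h :=
  Pi.hom_ext (f := fun τ : Fin (n + 1) → ι => Q.obj (op (Uσ U τ))) g h H

/-- The comparison in degree `n`. -/
noncomputable def pushCechT (n : ℕ) : (CK V (pushP f P)).X n ⟶ (CK (preV f V) P).X n :=
  Pi.lift fun σ : Fin (n + 1) → ι =>
    proj V (pushP f P) n σ ≫ P.map (homOfLE (map_Uσ f V σ).ge).op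

/-- The inverse comparison in degree `n`. -/
noncomputable def pushCechS (n : ℕ) : (CK (preV f V) P).X n ⟶ (CK V (pushP f P)).X n :=
  Pi.lift fun σ : Fin (n + 1) → ι =>
    proj (preV f V) P n σ ≫ P.map (homOfLE (map_Uσ f V σ).le).op

lemma pushCechT_proj (n : ℕ) (σ : Fin (n + 1) → ι) :
    pushCechT f V P n ≫ proj (preV f V) P n σ =
      proj V (pushP f P) n σ ≫ P.map (homOfLE (map_Uσ f V σ).ge).op :=
  Pi.lift_π _ _

lemma pushCechS_proj (n : ℕ) (σ : Fin (n + 1) → ι) :
    pushCechS f V P n ≫ proj V (pushP f P) n σ =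
      proj (preV f V) P n σ ≫ P.map (homOfLE (map_Uσ f V σ).le).op :=
  Pi.lift_π _ _

lemma pushCechT_S (n : ℕ) : pushCechT f V P n ≫ pushCechS f V P n = 𝟙 _ := by
  refine hom_ext_proj V (pushP f P) _ _ fun σ => ?_
  have key : P.map (homOfLE (map_Uσ f V σ).ge).op ≫ P.map (homOfLE (map_Uσ f V σ).le).op = 𝟙 _ := by
    rw [← P.map_comp]
    exact (congrArg P.map (Subsingleton.elim _ _)).trans (P.map_id _)
  rw [Category.assoc, pushCechS_proj, ← Category.assoc, pushCechT_proj, Category.assoc,
    key, Category.id_comp]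
  exact Category.comp_id _

lemma pushCechS_T (n : ℕ) : pushCechS f V P n ≫ pushCechT f V P n = 𝟙 _ := by
  refine hom_ext_proj (preV f V) P _ _ fun σ => ?_
  have key : P.map (homOfLE (map_Uσ f V σ).le).op ≫ P.map (homOfLE (map_Uσ f V σ).ge).op = 𝟙 _ := by
    rw [← P.map_comp]
    exact (congrArg P.map (Subsingleton.elim _ _)).trans (P.map_id _)
  rw [Category.assoc, pushCechT_proj, ← Category.assoc, pushCechS_proj, Category.assoc,
    key, Category.id_comp]
  exact Category.comp_id _

lemma pushCechT_comm (n : ℕ) :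
    pushCechT f V P n ≫ (CK (preV f V) P).d n (n + 1) =
      (CK V (pushP f P)).d n (n + 1) ≫ pushCechT f V P (n + 1) := by
  refine hom_ext_proj (preV f V) P _ _ fun σ => ?_
  rw [Category.assoc, d_proj, Category.assoc, pushCechT_proj, ← Category.assoc, d_proj,
    Preadditive.comp_sum, Preadditive.sum_comp]
  refine Finset.sum_congr rfl fun k _ => ?_
  rw [Preadditive.comp_zsmul, Preadditive.zsmul_comp]
  congr 1
  rw [← Category.assoc, pushCechT_proj, Category.assoc, Category.assoc, ← P.map_comp]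
  change _ = proj V (pushP f P) n (σ ∘ k.succAbove) ≫
    P.map ((Opens.map f).map (face V σ k)).op ≫ P.map _
  rw [← P.map_comp]
  congr 2

/-- The Čech complex of a direct image is the Čech complex of the preimage family. -/
noncomputable def pushCechIso : CK V (pushP f P) ≅ CK (preV f V) P :=
  HomologicalComplex.Hom.isoOfComponents
    (fun n => ⟨pushCechT f V P n, pushCechS f V P n, pushCechT_S f V P n, pushCechS_T f V P n⟩)
    (by
      intro i j hij
      have : i + 1 = j := hij
      subst this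
      exact pushCechT_comm f V P i)

lemma pushCechIso_hom_f (n : ℕ) : (pushCechIso f V P).hom.f n = pushCechT f V P n := rfl

/-- Naturality of the comparison in the presheaf. -/
lemma pushCechIso_naturality {Q : (Opens X)ᵒᵖ ⥤ AddCommGrpCat.{u}} (φ : P ⟶ Q) :
    (cechComplexFunctor V).map (Functor.whiskerLeft (Opens.map f).op φ) ≫ (pushCechIso f V Q).hom =
      (pushCechIso f V P).hom ≫ (cechComplexFunctor (preV f V)).map φ := by
  apply HomologicalComplex.hom_ext
  intro n
  rw [HomologicalComplex.comp_f, HomologicalComplex.comp_f, pushCechIso_hom_f, pushCechIso_hom_f]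
  refine hom_ext_proj (preV f V) Q _ _ fun σ => ?_
  rw [Category.assoc, pushCechT_proj, ← Category.assoc, map_proj, Category.assoc, Category.assoc,
    map_proj, ← Category.assoc (pushCechT f V P n), pushCechT_proj, Category.assoc]
  congr 1
  exact (φ.naturality _).symm

end Groth.Agent.Lib.Helper12.H12Fin
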