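import Mathlib
import Groth.Agent.Lib.Lead.NatLeray.Scheme
import Groth.Agent.Lib.Helper12.Fin2

/-! # Leray's theorem for a direct image, via Čech cohomology, compatibly with endomorphisms -/

set_option autoImplicit false
universe u

open CategoryTheory CategoryTheory.Limits Opposite TopologicalSpace Abelian

namespace Groth.Agent.Lib.Helper12.H12Fin

open Groth.Agent.Lib.Helper22.Cech Groth.Agent.Lib.Helper22 Groth.Agent.Lib.Helper22.ExtCompare
open Groth.Agent.Lib.Lead.NatLeray

section top

variable {X : TopCat.{u}} {ι : Type u} (U : ι → Opens X)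

/-- Čech cohomology of a Leray covering computes cohomology, naturally in endomorphisms. -/
theorem exists_cech_addEquiv_H_natural (hcov : iSup U = ⊤) (F : CohTop.Ab X)
    (hF : LerayGood U F) (p : ℕ) :
    ∃ a : (CK U F.obj).homology p ≃+ CohTop.H F p,
      ∀ (φ : F ⟶ F) (c : (CK U F.obj).homology p),
        a (cechMap U φ p c) = (a c).comp (Ext.mk₀ φ) (add_zero p) := by
  have key : ∃ θ : (CK U F.obj).homology p ≃+ Ext (CohTop.ZU (iSup U)) F p, IsNat U F p θ := by
    cases p with
    | zero => exact exists_nat_zero U F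
    | succ p => exact exists_nat_succ U p F hF
  obtain ⟨θ, hθ⟩ := key
  obtain ⟨i₁⟩ := nonempty_ZU_top_iso_constZ X
  let i₂ : CohTop.ZU (⊤ : Opens X) ≅ CohTop.ZU (iSup U) :=
    eqToIso (congrArg CohTop.ZU hcov.symm)
  let e' := extPrecompEquiv (i₁ ≪≫ i₂) F p
  refine ⟨θ.trans e', ?_⟩
  intro φ c
  change e' (θ _) = _
  rw [hθ φ c]
  exact extPrecompEquiv_nat (i₁ ≪≫ i₂) p (θ c) φ

end top

section push

variable {X Y : TopCat.{u}} (f : X ⟶ Y) {ι : Type u} (V : ι → Opens Y)

lemma iSup_preV (hcov : iSup V = ⊤) : iSup (preV f V) = ⊤ := by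
  rw [eq_top_iff]
  intro x _
  have : f x ∈ iSup V := by rw [hcov]; trivial
  obtain ⟨i, hi⟩ := Opens.mem_iSup.mp this
  exact Opens.mem_iSup.mpr ⟨i, hi⟩

/-- **Leray**: if `F` is acyclic on the finite intersections of the preimages of a covering of `Y`
and `f_* F` is acyclic on the finite intersections of the covering, then
`H^p(X, F) ≃ H^p(Y, f_* F)`, compatibly with endomorphisms of `F`. -/
theorem exists_H_addEquiv_push_natural (hcov : iSup V = ⊤) (F : CohTop.Ab X)
    (hX : LerayGood (preV f V) F) (hY : LerayGood V ((CohTop.push f).obj F)) (p : ℕ) :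
    ∃ e : CohTop.H F p ≃+ CohTop.H ((CohTop.push f).obj F) p,
      ∀ (φ : F ⟶ F) (x : CohTop.H F p),
        e (x.comp (Ext.mk₀ φ) (add_zero p)) =
          (e x).comp (Ext.mk₀ ((CohTop.push f).map φ)) (add_zero p) := by
  obtain ⟨aX, haX⟩ := exists_cech_addEquiv_H_natural (preV f V) (iSup_preV f V hcov) F hX p
  obtain ⟨aY, haY⟩ := exists_cech_addEquiv_H_natural V hcov ((CohTop.push f).obj F) hY p
  let eC : (CK V ((CohTop.push f).obj F).obj).homology p ≅ (CK (preV f V) F.obj).homology p :=
    (HomologicalComplex.homologyFunctor _ _ p).mapIso (pushCechIso f V F.obj)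
  have hnat : ∀ (φ : F ⟶ F) (c : (CK V ((CohTop.push f).obj F).obj).homology p),
      eC.hom (cechMap V ((CohTop.push f).map φ) p c) = cechMap (preV f V) φ p (eC.hom c) := by
    intro φ c
    have h := congrArg (fun k => HomologicalComplex.homologyMap k p)
      (pushCechIso_naturality f V F.obj φ.hom)
    simp only [HomologicalComplex.homologyMap_comp] at h
    exact ConcreteCategory.congr_hom h c
  let eCe : (CK V ((CohTop.push f).obj F).obj).homology p ≃+ (CK (preV f V) F.obj).homology p :=
    eC.addCommGroupIsoToAddEquiv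
  refine ⟨aX.symm.trans (eCe.symm.trans aY), ?_⟩
  intro φ x
  obtain ⟨c, rfl⟩ := aX.surjective x
  rw [← haX φ c]
  change aY (eCe.symm (aX.symm (aX _))) = (aY (eCe.symm (aX.symm (aX c)))).comp _ _
  rw [AddEquiv.symm_apply_apply, AddEquiv.symm_apply_apply]
  obtain ⟨c', rfl⟩ := eCe.surjective c
  have h2 : cechMap (preV f V) φ p (eCe c') = eCe (cechMap V ((CohTop.push f).map φ) p c') :=
    (hnat φ c').symm
  rw [h2, AddEquiv.symm_apply_apply, AddEquiv.symm_apply_apply]
  exact haY _ c'

end push

end Groth.Agent.Lib.Helper12.H12Fin
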