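import Mathlib
import Groth.Agent.Lib.Helper12.Fin3
import Groth.Agent.Lib.Helper5.HZKoszul
import Groth.Agent.Lib.Lead.LinLES.Basic

/-! # Leray for schemes over an affine base, linearly -/

set_option autoImplicit false
universe u

open CategoryTheory CategoryTheory.Limits Opposite TopologicalSpace Abelian AlgebraicGeometry

namespace Groth.Agent.Lib.Helper12.H12Fin

open Groth.Agent.Lib.Helper22.Cech Groth.Agent.Lib.Helper22 Groth.Agent.Lib.Helper22.ExtCompare
open Groth.Agent.Lib.Lead.NatLeray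

section

variable {X Y : Scheme.{u}} (π : X ⟶ Y) (M : X.Modules)

/-- The direct image of multiplication by the pullback of a global function. -/
lemma push_smulAb (r : Coh.Γtop Y) :
    (CohTop.push π.base).map (Coh.smulAb M (π.appTop.hom r)) =
      Coh.smulAb ((Coh.push π).obj M) r := by
  apply Sheaf.hom_ext
  ext U m
  change (Coh.smulAb M (π.appTop.hom r)).hom.app (op ((Opens.map π.base).obj U.unop)) m =
    (Coh.smulAb ((Coh.push π).obj M) r).hom.app U m
  rw [Coh.smulAb_app, Coh.smulAb_app]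
  have h : (Coh.resTop X (op ((Opens.map π.base).obj U.unop))) (π.appTop.hom r) =
      (π.app U.unop).hom (Coh.resTop Y U r) := by
    have := π.naturality (homOfLE (le_top : U.unop ≤ ⊤)).op
    exact (ConcreteCategory.congr_hom this r).symm
  rw [h]
  rfl

end

section linear

variable (A : Type u) [CommRing A] {X Y : Scheme.{u}} [X.Over (Spec (CommRingCat.of A))]
  [Y.Over (Spec (CommRingCat.of A))] (π : X ⟶ Y)
  (hπ : π ≫ (Y ↘ Spec (CommRingCat.of A)) = X ↘ Spec (CommRingCat.of A)) (M : X.Modules)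

include hπ in
lemma toGlobal_eq (a : A) :
    Coh.toGlobal (X ↘ Spec (CommRingCat.of A)) a =
      π.appTop.hom (Coh.toGlobal (Y ↘ Spec (CommRingCat.of A)) a) := by
  unfold Coh.toGlobal
  rw [← hπ, Scheme.Hom.comp_appTop]
  rfl

include hπ in
/-- **Leray, linearly**: for `π : X ⟶ Y` over `Spec A`, a covering `V` of `Y` such that `M` is
acyclic on the finite intersections of the `π⁻¹ V_i` and `π_* M` is acyclic on the finite
intersections of the `V_i`, the cohomology of `M` and of `π_* M` are isomorphic `A`-modules. -/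
theorem nonempty_HH_linearEquiv_push {ι : Type u} (V : ι → Y.Opens) (hcov : iSup V = ⊤)
    (hX : LerayGood (X := X.carrier) (fun i => π ⁻¹ᵁ V i) (Coh.toAb M))
    (hY : LerayGood (X := Y.carrier) V (Coh.toAb ((Coh.push π).obj M))) (p : ℕ) :
    Nonempty (Coh.HH X M p ≃ₗ[A] Coh.HH Y ((Coh.push π).obj M) p) := by
  obtain ⟨e, he⟩ := exists_H_addEquiv_push_natural π.base V hcov (Coh.toAb M) hX hY p
  let e' : Coh.HH X M p ≃+ Coh.HH Y ((Coh.push π).obj M) p := e
  refine ⟨{ e' with map_smul' := ?_ }⟩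
  intro a x
  change e' (a • x) = a • e' x
  rw [Groth.Agent.Lib.Lead.LinLES.smul_def, Groth.Agent.Lib.Lead.LinLES.smul_def,
    toGlobal_eq A π hπ a, ← push_smulAb]
  exact he _ x

end linear

section good

variable {X : Scheme.{u}} (M : X.Modules) {ι : Type u} (U : ι → X.Opens)

/-- A covering is Leray for `M` as soon as `M` is acyclic on the finite intersections, in terms
of the cohomology of the open subschemes. -/
theorem lerayGood_of_HHon (h : ∀ (n : ℕ) (σ : Fin (n + 1) → ι) (q : ℕ),
    Subsingleton (Coh.HHon X M (Uσ U σ) (q + 1))) :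
    LerayGood (X := X.carrier) U (Coh.toAb M) := by
  intro n σ q x
  obtain ⟨e⟩ := Groth.Agent.Lib.Helper5.HZKoszul.nonempty_HU_addEquiv_HHon M (Uσ U σ) (q + 1)
  haveI := h n σ q
  have hs : Subsingleton (CohTop.HU (Coh.toAb M) (q + 1) (Uσ U σ)) := e.toEquiv.subsingleton
  exact Subsingleton.elim (α := CohTop.HU (Coh.toAb M) (q + 1) (Uσ U σ)) x 0

lemma Uσ_eq_biInf [DecidableEq ι] {n : ℕ} (σ : Fin (n + 1) → ι) :
    Uσ U σ = ⨅ i ∈ Finset.univ.image σ, U i := by
  rw [Uσ_eq_iInf]
  apply le_antisymm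
  · refine le_iInf₂ fun i hi => ?_
    obtain ⟨k, -, rfl⟩ := Finset.mem_image.mp hi
    exact iInf_le _ k
  · refine le_iInf fun k => ?_
    exact iInf₂_le (σ k) (Finset.mem_image_of_mem σ (Finset.mem_univ k))

/-- Version with finite subsets of the index set. -/
theorem lerayGood_of_HHon_finset (h : ∀ s : Finset ι, s.Nonempty → ∀ q : ℕ,
    Subsingleton (Coh.HHon X M (⨅ i ∈ s, U i) (q + 1))) :
    LerayGood (X := X.carrier) U (Coh.toAb M) := by
  classical
  refine lerayGood_of_HHon M U fun n σ q => ?_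
  rw [Uσ_eq_biInf]
  exact h _ ⟨σ 0, Finset.mem_image_of_mem σ (Finset.mem_univ 0)⟩ q

/-- A covering with affine finite intersections is Leray for quasi-coherent modules. -/
theorem lerayGood_of_isAffineOpen [M.IsQuasicoherent]
    (h : ∀ s : Finset ι, s.Nonempty → IsAffineOpen (⨅ i ∈ s, U i)) :
    LerayGood (X := X.carrier) U (Coh.toAb M) := by
  classical
  intro n σ q x
  have hs : Subsingleton (CohTop.HU (Coh.toAb M) (q + 1) (Uσ U σ)) := by
    apply subsingleton_HU_succ_of_isAffineOpen
    rw [Uσ_eq_biInf]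
    exact h _ ⟨σ 0, Finset.mem_image_of_mem σ (Finset.mem_univ 0)⟩
  exact Subsingleton.elim (α := CohTop.HU (Coh.toAb M) (q + 1) (Uσ U σ)) x 0

end good

end Groth.Agent.Lib.Helper12.H12Fin
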