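import Mathlib
import Groth.Prelude.Def_KLin
import Groth.Agent.Lib.Helper12.Fin4

/-! # Higher direct images are linear over the functions of the base -/

set_option autoImplicit false
universe u v v' u' u''

open CategoryTheory CategoryTheory.Limits Opposite TopologicalSpace Abelian AlgebraicGeometry

namespace Groth.Agent.Lib.Helper12.H12RP

section abstract

variable {D : Type u'} [Category.{v'} D] [Abelian D]

/-- A chain map which is a central endomorphism in each degree induces that central
endomorphism on homology. -/
lemma homologyMap_central (γ : 𝟭 D ⟶ 𝟭 D) (K : CochainComplex D ℕ) (n : ℕ)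
    (g : K ⟶ K) (hg : ∀ i, g.f i = γ.app (K.X i)) :
    HomologicalComplex.homologyMap g n = γ.app (K.homology n) := by
  have h1 : HomologicalComplex.cyclesMap g n = γ.app (K.cycles n) := by
    rw [← cancel_mono (K.iCycles n), HomologicalComplex.cyclesMap_i, hg]
    exact (γ.naturality (K.iCycles n))
  rw [← cancel_epi (K.homologyπ n), HomologicalComplex.homologyπ_naturality, h1]
  exact (γ.naturality (K.homologyπ n)).symm

variable {C : Type u''} [Category.{v} C] [Abelian C] [HasInjectiveResolutions C]

/-- Right derived functors are compatible with central endomorphisms. -/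
theorem rightDerived_map_central (G : C ⥤ D) [G.Additive] (β : 𝟭 C ⟶ 𝟭 C) (γ : 𝟭 D ⟶ 𝟭 D)
    (h : ∀ M : C, G.map (β.app M) = γ.app (G.obj M)) (n : ℕ) (M : C) :
    (G.rightDerived n).map (β.app M) = γ.app ((G.rightDerived n).obj M) := by
  let P : InjectiveResolution M := injectiveResolution M
  let g : P.cocomplex ⟶ P.cocomplex :=
    { f := fun i => β.app (P.cocomplex.X i)
      comm' := fun i j _ => (β.naturality (P.cocomplex.d i j)).symm }
  have w : P.ι ≫ g = (CochainComplex.single₀ C).map (β.app M) ≫ P.ι := by
    apply HomologicalComplex.from_single_hom_ext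
    rw [HomologicalComplex.comp_f, HomologicalComplex.comp_f, CochainComplex.single₀_map_f_zero]
    exact (β.naturality (P.ι.f 0))
  rw [Functor.rightDerived_map_eq G n (β.app M) g w]
  have h2 : (HomologicalComplex.homologyFunctor D (ComplexShape.up ℕ) n).map
      ((G.mapHomologicalComplex (ComplexShape.up ℕ)).map g) =
      γ.app (((G.mapHomologicalComplex (ComplexShape.up ℕ)).obj P.cocomplex).homology n) :=
    homologyMap_central γ _ n _ (fun i => h _)
  rw [Functor.comp_map, h2]
  have h3 := γ.naturality (P.isoRightDerivedObj G n).inv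
  simp only [Functor.id_map] at h3
  exact (congrArg (fun k => (P.isoRightDerivedObj G n).hom ≫ k) h3.symm).trans
    (Iso.hom_inv_id_assoc _ _)

end abstract

section scheme

variable {X Y : Scheme.{u}}

/-- multiplication by a global function, as a central endomorphism of the category of modules -/
noncomputable def smulNat (X : Scheme.{u}) (r : Coh.Γtop X) : 𝟭 X.Modules ⟶ 𝟭 X.Modules where
  app M := Formal.smulModΓ M r
  naturality _ _ φ := KLin.comp_smulModΓ φ r

lemma toSheaf_map_smulModΓ (M : X.Modules) (r : Coh.Γtop X) :
    (SheafOfModules.toSheaf X.ringCatSheaf).map (Formal.smulModΓ M r) = Coh.smulAb M r := rfl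

lemma pushforward_map_smulModΓ (f : X ⟶ Y) (b : Coh.Γtop Y) (M : X.Modules) :
    (Scheme.Modules.pushforward f).map (Formal.smulModΓ M (f.appTop.hom b)) =
      Formal.smulModΓ ((Scheme.Modules.pushforward f).obj M) b := by
  apply (SheafOfModules.toSheaf Y.ringCatSheaf).map_injective
  rw [toSheaf_map_smulModΓ]
  exact Groth.Agent.Lib.Helper12.H12Fin.push_smulAb f M b

/-- **Higher direct images are linear over the functions on the base.** -/
theorem Rpush_map_smulModΓ (f : X ⟶ Y) [HasInjectiveResolutions X.Modules] (b : Coh.Γtop Y)
    (M : X.Modules) (q : ℕ) :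
    (Coh.Rpush f q).map (Formal.smulModΓ M (f.appTop.hom b)) =
      Formal.smulModΓ ((Coh.Rpush f q).obj M) b :=
  rightDerived_map_central (Scheme.Modules.pushforward f) (smulNat X (f.appTop.hom b))
    (smulNat Y b) (fun M => pushforward_map_smulModΓ f b M) q M

end scheme

end Groth.Agent.Lib.Helper12.H12RP
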