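import Mathlib
import Groth.Agent.Lib.Helper12.FF2
import Groth.Agent.Lib.Helper12.RP1
import Groth.Agent.Lib.Lead.SD.FiniteDual

/-! # Proper support, part 3: pullback along an `A`-morphism commutes with `M ↦ M/JM`;
the comparison map `H^p(X, N) → H^p(Z, i^* N)` -/

set_option autoImplicit false
universe u
open CategoryTheory CategoryTheory.Limits AlgebraicGeometry TopologicalSpace Opposite

namespace Groth.Agent.Lib.Helper12.H12PS
open Groth.Agent.Lib.Helper12.H12FF
open Groth.Agent.Lib.Lead.LinLES

section
variable (A : Type u) [CommRing A] {X Z : Scheme.{u}} [X.Over (Spec (CommRingCat.of A))]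
  [Z.Over (Spec (CommRingCat.of A))] (i : Z ⟶ X)
  (hi : i ≫ (X ↘ Spec (CommRingCat.of A)) = Z ↘ Spec (CommRingCat.of A))

include hi in
theorem pushforward_map_smulMod (G : Z.Modules) (a : A) :
    (Scheme.Modules.pushforward i).map (Formal.smulMod A G a) =
      Formal.smulMod A ((Scheme.Modules.pushforward i).obj G) a := by
  unfold Formal.smulMod
  rw [Groth.Agent.Lib.Lead.SD.toGlobal_eq A i hi a]
  exact Groth.Agent.Lib.Helper12.H12RP.pushforward_map_smulModΓ i _ G

include hi in
theorem pullback_map_smulMod (N : X.Modules) (a : A) :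
    (Scheme.Modules.pullback i).map (Formal.smulMod A N a) =
      Formal.smulMod A ((Scheme.Modules.pullback i).obj N) a := by
  apply ((Scheme.Modules.pullbackPushforwardAdjunction i).homEquiv _ _).injective
  rw [Adjunction.homEquiv_unit, Adjunction.homEquiv_unit, pushforward_map_smulMod A i hi]
  have h := comp_smulMod (A := A) (M := N)
    (N := (Scheme.Modules.pushforward i).obj ((Scheme.Modules.pullback i).obj N))
    ((Scheme.Modules.pullbackPushforwardAdjunction i).unit.app N) a
  refine Eq.trans ?_ h.symm
  exact ((Scheme.Modules.pullbackPushforwardAdjunction i).unit.naturality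
    (Formal.smulMod A N a)).symm

end

section LemmaC
variable {A : Type u} [CommRing A] {X Z : Scheme.{u}} [X.Over (Spec (CommRingCat.of A))]
  [Z.Over (Spec (CommRingCat.of A))]

theorem exists_iso_cokernel_smulFamily {L : X.Modules ⥤ Z.Modules} {R : Z.Modules ⥤ X.Modules}
    (adj : L ⊣ R) [L.Additive] [R.Additive]
    (hL : ∀ (N : X.Modules) (a : A), L.map (Formal.smulMod A N a) = Formal.smulMod A (L.obj N) a)
    (J : Ideal A) (N : X.Modules) :
    ∃ κ : L.obj (cokernel (Formal.smulFamily J N)) ≅ cokernel (Formal.smulFamily J (L.obj N)),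
      L.map (cokernel.π (Formal.smulFamily J N)) ≫ κ.hom =
        cokernel.π (Formal.smulFamily J (L.obj N)) := by
  haveI : L.PreservesEpimorphisms := L.preservesEpimorphisms_of_adjunction adj
  have h0 : Formal.smulFamily J (L.obj N) ≫ L.map (cokernel.π (Formal.smulFamily J N)) = 0 := by
    apply Sigma.hom_ext
    intro a
    rw [comp_zero, ← Category.assoc, ι_smulFamily, ← hL, ← L.map_comp, ← ι_smulFamily J N a,
      Category.assoc, cokernel.condition, comp_zero, L.map_zero]
  have h1 : Formal.smulFamily J N ≫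
      adj.homEquiv _ _ (cokernel.π (Formal.smulFamily J (L.obj N))) = 0 := by
    apply Sigma.hom_ext
    intro a
    rw [comp_zero, ← Category.assoc, ι_smulFamily, ← adj.homEquiv_naturality_left, hL,
      ← ι_smulFamily J (L.obj N) a, Category.assoc, cokernel.condition, comp_zero,
      Adjunction.homEquiv_unit, R.map_zero, comp_zero]
  have hβ : L.map (cokernel.π (Formal.smulFamily J N)) ≫
      (adj.homEquiv _ _).symm (cokernel.desc _ _ h1) =
        cokernel.π (Formal.smulFamily J (L.obj N)) := by
    rw [← adj.homEquiv_naturality_left_symm, cokernel.π_desc, Equiv.symm_apply_apply]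
  have hα : cokernel.π (Formal.smulFamily J (L.obj N)) ≫ cokernel.desc _ _ h0 =
      L.map (cokernel.π (Formal.smulFamily J N)) := cokernel.π_desc _ _ _
  refine ⟨⟨(adj.homEquiv _ _).symm (cokernel.desc _ _ h1), cokernel.desc _ _ h0, ?_, ?_⟩, hβ⟩
  · rw [← cancel_epi (L.map (cokernel.π (Formal.smulFamily J N))), ← Category.assoc, hβ, hα,
      Category.comp_id]
  · rw [← cancel_epi (cokernel.π (Formal.smulFamily J (L.obj N))), ← Category.assoc, hα, hβ,
      Category.comp_id]

end LemmaC

section Theta
variable (A : Type u) [CommRing A] {X Z : Scheme.{u}} [X.Over (Spec (CommRingCat.of A))]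
  [Z.Over (Spec (CommRingCat.of A))] (i : Z ⟶ X)
  (hi : i ≫ (X ↘ Spec (CommRingCat.of A)) = Z ↘ Spec (CommRingCat.of A))

/-- the comparison `H^p(X, N) → H^p(X, i_* i^* N) → H^p(Z, i^* N)` -/
noncomputable def Theta (N : X.Modules) (p : ℕ) :
    Coh.HH X N p →ₗ[A] Coh.HH Z ((Scheme.Modules.pullback i).obj N) p :=
  (Groth.Agent.Lib.Lead.SD.edgeLin A i hi ((Scheme.Modules.pullback i).obj N) p).comp
    (Canon.HHlin A ((Scheme.Modules.pullbackPushforwardAdjunction i).unit.app N) p)

theorem Theta_apply (N : X.Modules) (p : ℕ) (x : Coh.HH X N p) :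
    Theta A i hi N p x = Groth.Agent.Lib.Lead.SD.edgeLin A i hi ((Scheme.Modules.pullback i).obj N) p
      (Canon.HHlin A ((Scheme.Modules.pullbackPushforwardAdjunction i).unit.app N) p x) := rfl

theorem Theta_natural {N N' : X.Modules} (φ : N ⟶ N') (p : ℕ) (x : Coh.HH X N p) :
    Theta A i hi N' p (Canon.HHlin A φ p x) =
      Canon.HHlin A ((Scheme.Modules.pullback i).map φ) p (Theta A i hi N p x) := by
  have hnat : φ ≫ (Scheme.Modules.pullbackPushforwardAdjunction i).unit.app N' =
      (Scheme.Modules.pullbackPushforwardAdjunction i).unit.app N ≫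
        (Scheme.Modules.pushforward i).map ((Scheme.Modules.pullback i).map φ) :=
    (Scheme.Modules.pullbackPushforwardAdjunction i).unit.naturality φ
  rw [Theta_apply, Theta_apply, ← Groth.Agent.Lib.Lead.SD.edgeLin_HHlin, ← HHlin_comp,
    ← HHlin_comp, hnat]

theorem Theta_bijective [IsAffineHom i] (N : X.Modules) [N.IsQuasicoherent]
    (hN : IsIso ((Scheme.Modules.pullbackPushforwardAdjunction i).unit.app N))
    (hq : ((Scheme.Modules.pullback i).obj N).IsQuasicoherent) (p : ℕ) :
    Function.Bijective (Theta A i hi N p) := by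
  have h1 := Groth.Agent.Lib.Lead.SD.bijective_edgeLin A i hi ((Scheme.Modules.pullback i).obj N)
    hq p
  have h2 : Function.Bijective
      (Canon.HHlin A ((Scheme.Modules.pullbackPushforwardAdjunction i).unit.app N) p) := by
    haveI := hN
    constructor
    · intro x y hxy
      have := congrArg (Canon.HHlin A
        (inv ((Scheme.Modules.pullbackPushforwardAdjunction i).unit.app N)) p) hxy
      rwa [← HHlin_comp, ← HHlin_comp, IsIso.hom_inv_id, HHlin_id, HHlin_id] at this
    · intro y
      refine ⟨Canon.HHlin A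
        (inv ((Scheme.Modules.pullbackPushforwardAdjunction i).unit.app N)) p y, ?_⟩
      rw [← HHlin_comp, IsIso.inv_hom_id, HHlin_id]
  exact h1.comp h2

end Theta

end Groth.Agent.Lib.Helper12.H12PS
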