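import Mathlib
import Groth.Agent.Lib.Helper12.PS3
import Groth.Agent.Helper19.ClImmUnit
import Groth.Agent.Lib.Helper17.QCohSubMax

/-! # Proper support, part 4: transfer of the system `H^p(X, M/I^(n+1)M)` to a closed subscheme
on which `M` (and its quotients) live -/

set_option autoImplicit false
universe u
open CategoryTheory CategoryTheory.Limits AlgebraicGeometry TopologicalSpace Opposite

namespace Groth.Agent.Lib.Helper12.H12PS
open Groth.Agent.Lib.Helper12.H12FF
open Groth.Agent.Lib.Lead.LinLES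
open Groth.Agent.Lib.Helper29.QCoh

section Iso
variable (A : Type u) [CommRing A] {Z : Scheme.{u}} [Z.Over (Spec (CommRingCat.of A))]

/-- an isomorphism of modules induces an additive equivalence on cohomology -/
noncomputable def HHisoEquiv {M N : Z.Modules} (e : M ≅ N) (q : ℕ) :
    Coh.HH Z M q ≃+ Coh.HH Z N q where
  toFun := Canon.HHlin A e.hom q
  invFun := Canon.HHlin A e.inv q
  left_inv x := by
    rw [← HHlin_comp, e.hom_inv_id, HHlin_id]
  right_inv x := by
    rw [← HHlin_comp, e.inv_hom_id, HHlin_id]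
  map_add' x y := map_add _ x y

theorem HHisoEquiv_apply {M N : Z.Modules} (e : M ≅ N) (q : ℕ) (x : Coh.HH Z M q) :
    HHisoEquiv A e q x = Canon.HHlin A e.hom q x := rfl

end Iso

section Transfer
variable (A : Type u) [CommRing A] (I : Ideal A) {X Z : Scheme.{u}}
  [X.Over (Spec (CommRingCat.of A))] [Z.Over (Spec (CommRingCat.of A))] (i : Z ⟶ X)
  [IsClosedImmersion i]
  (hi : i ≫ (X ↘ Spec (CommRingCat.of A)) = Z ↘ Spec (CommRingCat.of A))
  (M : X.Modules) [M.IsQuasicoherent]
  (hk : ∀ (N : X.Modules) (π : M ⟶ N), Epi π → ∀ (U : X.affineOpens) (a : Γ(X, U.1)),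
    a ∈ i.ker.ideal U → ∀ s : Γ(N, U.1), a • s = 0)
  (p : ℕ)

instance isQuasicoherent_modPow (k : ℕ) : (Formal.modPow I k M).IsQuasicoherent := by
  haveI : (∐ fun _ : ↥(I ^ k) => M).IsQuasicoherent :=
    Groth.Agent.Lib.Helper17.QCohSubMax.isQuasicoherent_sigma _ (fun _ => inferInstance)
  exact inferInstanceAs (cokernel (Formal.smulFamily (I ^ k) M)).IsQuasicoherent

instance epi_modPowπ (k : ℕ) : Epi (Formal.modPowπ I k M) :=
  inferInstanceAs (Epi (cokernel.π (Formal.smulFamily (I ^ k) M)))

theorem toHHmodPow_eq_HHlin (n : ℕ) (x : Coh.HH X M p) :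
    Formal.toHHmodPow I M p n x = Canon.HHlin A (Formal.modPowπ I (n + 1) M) p x := rfl

theorem HHmodPowTrans_eq_HHlin (n : ℕ) (y : Formal.HHmodPow I M p (n + 1)) :
    Formal.HHmodPowTrans I M p n y = Canon.HHlin A (Formal.modPowTrans I (n + 1) M) p y := rfl

include hi hk in
theorem exists_transfer :
    ∃ (e : Coh.HH X M p ≃ₗ[A] Coh.HH Z ((Scheme.Modules.pullback i).obj M) p)
      (en : ∀ n, Formal.HHmodPow I M p n ≃+
        Formal.HHmodPow I ((Scheme.Modules.pullback i).obj M) p n),
      (∀ n x, en n (Formal.toHHmodPow I M p n x) =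
        Formal.toHHmodPow I ((Scheme.Modules.pullback i).obj M) p n (e x)) ∧
      (∀ n y, en n (Formal.HHmodPowTrans I M p n y) =
        Formal.HHmodPowTrans I ((Scheme.Modules.pullback i).obj M) p n (en (n + 1) y)) := by
  let adj := Scheme.Modules.pullbackPushforwardAdjunction i
  haveI : IsAffineHom i := inferInstance
  have hκ : ∀ k : ℕ, ∃ κ : (Scheme.Modules.pullback i).obj (Formal.modPow I k M) ≅
      Formal.modPow I k ((Scheme.Modules.pullback i).obj M),
      (Scheme.Modules.pullback i).map (Formal.modPowπ I k M) ≫ κ.hom =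
        Formal.modPowπ I k ((Scheme.Modules.pullback i).obj M) := fun k =>
    exists_iso_cokernel_smulFamily (A := A) adj (pullback_map_smulMod A i hi) (I ^ k) M
  choose κ hκ using hκ
  have hη : ∀ (N : X.Modules) [N.IsQuasicoherent] (π : M ⟶ N), Epi π →
      IsIso (adj.unit.app N) := fun N _ π hπ =>
    Groth.Agent.Helper19.ClImmUnit.isIso_unit_of_killed i N (hk N π hπ)
  have hηM : IsIso (adj.unit.app M) := hη M (𝟙 M) inferInstance
  have hηn : ∀ k, IsIso (adj.unit.app (Formal.modPow I k M)) := fun k =>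
    hη (Formal.modPow I k M) (Formal.modPowπ I k M) inferInstance
  have hb : Function.Bijective (Theta A i hi M p) :=
    Theta_bijective A i hi M hηM (isQuasicoherent_pullback _ M) p
  have hbn : ∀ k, Function.Bijective (Theta A i hi (Formal.modPow I k M) p) := fun k =>
    Theta_bijective A i hi (Formal.modPow I k M) (hηn k) (isQuasicoherent_pullback _ _) p
  let e : Coh.HH X M p ≃ₗ[A] Coh.HH Z ((Scheme.Modules.pullback i).obj M) p :=
    LinearEquiv.ofBijective (Theta A i hi M p) hb
  let en : ∀ n, Formal.HHmodPow I M p n ≃+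
      Formal.HHmodPow I ((Scheme.Modules.pullback i).obj M) p n := fun n =>
    (AddEquiv.ofBijective (Theta A i hi (Formal.modPow I (n + 1) M) p).toAddMonoidHom
      (hbn (n + 1))).trans (HHisoEquiv A (κ (n + 1)) p)
  have hen : ∀ n y, en n y = Canon.HHlin A (κ (n + 1)).hom p
      (Theta A i hi (Formal.modPow I (n + 1) M) p y) := fun n y => rfl
  refine ⟨e, en, ?_, ?_⟩
  · intro n x
    rw [hen, toHHmodPow_eq_HHlin A, toHHmodPow_eq_HHlin A, Theta_natural, ← HHlin_comp]
    rw [hκ (n + 1)]
    rfl
  · intro n y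
    rw [hen, hen, HHmodPowTrans_eq_HHlin A, HHmodPowTrans_eq_HHlin A, Theta_natural,
      ← HHlin_comp, ← HHlin_comp]
    have h1 := hκ (n + 1)
    have h2 := hκ (n + 1 + 1)
    haveI : (Scheme.Modules.pullback i).PreservesEpimorphisms :=
      (Scheme.Modules.pullback i).preservesEpimorphisms_of_adjunction adj
    have key : (Scheme.Modules.pullback i).map (Formal.modPowTrans I (n + 1) M) ≫
        (κ (n + 1)).hom = (κ (n + 1 + 1)).hom ≫
          Formal.modPowTrans I (n + 1) ((Scheme.Modules.pullback i).obj M) := by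
      rw [← cancel_epi ((Scheme.Modules.pullback i).map (Formal.modPowπ I (n + 1 + 1) M)),
        ← Category.assoc, ← Functor.map_comp, Formal.modPowπ_trans, h1, ← Category.assoc, h2,
        Formal.modPowπ_trans]
    rw [key]

end Transfer

end Groth.Agent.Lib.Helper12.H12PS
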