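import Mathlib
import Groth.Agent.Lib.Helper29.HomSec2

set_option autoImplicit false
universe u

namespace Groth.Agent.Lib.Helper12.H12HomGlue

open AlgebraicGeometry CategoryTheory TopologicalSpace Opposite
open Groth.Agent.Lib.Helper29.QCoh Groth.Agent.Lib.Helper29.QCoh.Dual
  Groth.Agent.Lib.Helper29.QCoh.HomSec

variable {X : Scheme.{u}} {F Q : X.Modules}

/-- A linear map on the sections over an affine open defines a section of the sheaf Hom. -/
theorem exists_homSh_of_linear [F.IsQuasicoherent] {U : X.Opens} (hU : IsAffineOpen U)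
    (l : Γ(F, U) →ₗ[Γ(X, U)] Γ(Q, U)) :
    ∃ θ : Γ(RefHull.homSh F Q, U), ∀ (y : X) (hy : y ∈ U) (m : Γ(F, U)),
      θ.1 ⟨y, hy⟩ (F.presheaf.germ U y hy m) = Q.presheaf.germ U y hy (l m) := by
  obtain ⟨θ, hθ⟩ := exists_homSh_of_semilinear (G := Q) hU le_rfl l.toAddMonoidHom (fun a m => by
    have h1 : X.presheaf.map (homOfLE (le_refl U)).op a = a := by
      have : X.presheaf.map (homOfLE (le_refl U)).op = 𝟙 _ := X.presheaf.map_id (op U)
      rw [this]; rfl
    rw [h1]
    exact l.map_smul a m)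
  exact ⟨θ, fun y hy m => hθ y hy m⟩

/-- **Gluing of homomorphisms**: linear maps on the sections over the members of an affine open
cover which are compatible on overlaps (tested on generators) glue to a morphism of modules. -/
theorem exists_hom_of_local [F.IsQuasicoherent] {ι : Type*} (U : ι → X.Opens)
    (hU : ∀ k, IsAffineOpen (U k)) (hcov : ∀ x : X, ∃ k, x ∈ U k)
    (S : ∀ k, Set Γ(F, U k)) (hS : ∀ k, Submodule.span Γ(X, U k) (S k) = ⊤)
    (v : ∀ k, Γ(F, U k) →ₗ[Γ(X, U k)] Γ(Q, U k))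
    (hcompat : ∀ (k l : ι) (x : X) (_ : x ∈ U k) (_ : x ∈ U l) (m : Γ(F, U k)), m ∈ S k →
      ∃ (W : X.Opens) (_ : x ∈ W) (hWk : W ≤ U k) (hWl : W ≤ U l) (n : ℕ) (a : Fin n → Γ(X, W))
        (m' : Fin n → Γ(F, U l)),
        res F hWk m = ∑ i, a i • res F hWl (m' i) ∧
        res Q hWk (v k m) = ∑ i, a i • res Q hWl (v l (m' i))) :
    ∃ g : F ⟶ Q, ∀ (k : ι) (m : Γ(F, U k)), g.app (U k) m = v k m := by
  choose θ hθ using fun k => exists_homSh_of_linear (Q := Q) (hU k) (v k)
  have hst : ∀ (k l : ι) (x : X) (hk : x ∈ U k) (hl : x ∈ U l),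
      (θ k).1 ⟨x, hk⟩ = (θ l).1 ⟨x, hl⟩ := by
    intro k l x hk hl
    apply stalkHom_ext_of_germ (hU k) x hk
    intro m
    have hm : m ∈ Submodule.span Γ(X, U k) (S k) := by rw [hS k]; trivial
    induction hm using Submodule.span_induction with
    | mem m hmS =>
      obtain ⟨W, hxW, hWk, hWl, n, a, m', e1, e2⟩ := hcompat k l x hk hl m hmS
      rw [hθ k x hk m]
      have h1 : F.presheaf.germ (U k) x hk m =
          ∑ i, X.presheaf.germ W x hxW (a i) • F.presheaf.germ (U l) x hl (m' i) := by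
        rw [← germ_res F hWk x hxW m, e1, map_sum]
        refine Finset.sum_congr rfl fun i _ => ?_
        rw [germ_smul, germ_res]
      have h2 : Q.presheaf.germ (U k) x hk (v k m) =
          ∑ i, X.presheaf.germ W x hxW (a i) • Q.presheaf.germ (U l) x hl (v l (m' i)) := by
        rw [← germ_res Q hWk x hxW, e2, map_sum]
        refine Finset.sum_congr rfl fun i _ => ?_
        rw [germ_smul, germ_res]
      rw [h1, h2, map_sum]
      refine Finset.sum_congr rfl fun i _ => ?_
      rw [map_smul, hθ l x hl]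
    | zero => rw [map_zero, map_zero, map_zero]
    | add a b _ _ ha hb => rw [map_add, map_add, map_add, ha, hb]
    | smul r a _ ha => rw [germ_smul, map_smul, map_smul, ha]
  have hcomp : ∀ k l, res (RefHull.homSh F Q) (inf_le_left : U k ⊓ U l ≤ U k) (θ k) =
      res (RefHull.homSh F Q) (inf_le_right : U k ⊓ U l ≤ U l) (θ l) := by
    intro k l
    apply Subtype.ext
    funext y
    exact hst k l y.1 y.2.1 y.2.2
  obtain ⟨Φ, hΦ⟩ := exists_gluing (RefHull.homSh F Q) U ⊤ (fun _ => le_top)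
    (fun x _ => Opens.mem_iSup.mpr (hcov x)) θ hcomp
  refine ⟨homOfGlobal Φ, fun k m => ?_⟩
  rw [homOfGlobal_app]
  apply ev_eq_of_germ
  intro x hx
  rw [hΦ k]
  exact hθ k x hx m

/-- On an affine open `W` inside an affine open `V`, the sections of a quasi-coherent module over
`W` are spanned by the restrictions of the sections over `V`. -/
theorem span_res_eq_top (M : X.Modules) [M.IsQuasicoherent] {V W : X.Opens} (hV : IsAffineOpen V)
    (hW : IsAffineOpen W) (h : W ≤ V) :
    Submodule.span Γ(X, W) (Set.range fun m : Γ(M, V) => res M h m) = ⊤ := by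
  apply span_eq_top_of_forall_span_germ_eq_top M hW
  intro y hy
  have h1 := span_germ_eq_top_of_span_eq_top M hV (fun m : Γ(M, V) => m)
    (by rw [eq_top_iff]; intro m _; exact Submodule.subset_span ⟨m, rfl⟩) y (h hy)
  rw [← h1]
  congr 1
  ext t
  constructor
  · rintro ⟨m, rfl⟩
    exact ⟨m, (germ_res M h y hy m).symm⟩
  · rintro ⟨m, rfl⟩
    exact ⟨m, germ_res M h y hy m⟩

theorem exists_sum_smul_res (M : X.Modules) [M.IsQuasicoherent] {V W : X.Opens}
    (hV : IsAffineOpen V) (hW : IsAffineOpen W) (h : W ≤ V) (t : Γ(M, W)) :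
    ∃ (n : ℕ) (a : Fin n → Γ(X, W)) (m' : Fin n → Γ(M, V)), t = ∑ i, a i • res M h (m' i) := by
  have ht : t ∈ Submodule.span Γ(X, W) (Set.range fun m : Γ(M, V) => res M h m) := by
    rw [span_res_eq_top M hV hW h]; trivial
  obtain ⟨n, a, g, hg⟩ := Submodule.mem_span_set'.mp ht
  choose m' hm' using fun i => (g i).2
  refine ⟨n, a, m', ?_⟩
  rw [← hg]
  refine Finset.sum_congr rfl fun i _ => ?_
  rw [← hm' i]

end Groth.Agent.Lib.Helper12.H12HomGlue
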