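import Mathlib

set_option autoImplicit false
universe u v w u' u''

open CategoryTheory TensorProduct

/-! # Linear maps from a finitely presented module into a directed union of modules -/

namespace Groth.Agent.Lib.Helper12.H12ModLim

section ModSys

variable {A₀ : Type u} [CommRing A₀]
  {K : Type v} [Category.{w} K] (T : K → Type u') [∀ k, AddCommGroup (T k)] [∀ k, Module A₀ (T k)]
  {Tl : Type u''} [AddCommGroup Tl] [Module A₀ Tl]
  (σ : ∀ k, T k →ₗ[A₀] Tl) (t : ∀ {k k' : K}, (k ⟶ k') → (T k →ₗ[A₀] T k'))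
  (t_comp : ∀ {k k' k'' : K} (f : k ⟶ k') (g : k' ⟶ k'') (a : T k), t (f ≫ g) a = t g (t f a))
  (σ_t : ∀ {k k' : K} (f : k ⟶ k') (a : T k), σ k' (t f a) = σ k a)
  (dir : ∀ k k' : K, ∃ k'' : K, Nonempty (k ⟶ k'') ∧ Nonempty (k' ⟶ k''))
  (E1 : ∀ b : Tl, ∃ (k : K) (a : T k), σ k a = b)
  (E2 : ∀ (k : K) (a : T k), σ k a = 0 → ∃ (k' : K) (f : k ⟶ k'), t f a = 0)

include σ_t dir E1 in
theorem mod_exists_common_lift {ι : Type*} [DecidableEq ι] (S : Finset ι) (b : ι → Tl) (k : K) :
    ∃ (k' : K) (_ : k ⟶ k') (a' : ι → T k'), ∀ i ∈ S, σ k' (a' i) = b i := by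
  induction S using Finset.induction_on with
  | empty => exact ⟨k, 𝟙 k, fun _ => 0, fun i hi => absurd hi (Finset.notMem_empty i)⟩
  | insert i₀ S hi₀ ih =>
    obtain ⟨k', f, a', ha'⟩ := ih
    obtain ⟨k₁, a₁, ha₁⟩ := E1 (b i₀)
    obtain ⟨k'', ⟨g⟩, ⟨g₁⟩⟩ := dir k' k₁
    refine ⟨k'', f ≫ g, fun i => if i = i₀ then t g₁ a₁ else t g (a' i), fun i hi => ?_⟩
    by_cases h : i = i₀
    · subst h
      simp only [if_true]
      rw [σ_t, ha₁]
    · simp only [if_neg h]
      rw [σ_t]
      exact ha' i ((Finset.mem_insert.mp hi).resolve_left h)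

include t_comp σ_t E2 in
theorem mod_exists_common_kill {ι : Type*} [DecidableEq ι] (S : Finset ι) (k : K) (e : ι → T k)
    (he : ∀ i ∈ S, σ k (e i) = 0) :
    ∃ (k' : K) (f : k ⟶ k'), ∀ i ∈ S, t f (e i) = 0 := by
  induction S using Finset.induction_on with
  | empty => exact ⟨k, 𝟙 k, fun i hi => absurd hi (Finset.notMem_empty i)⟩
  | insert i₀ S hi₀ ih =>
    obtain ⟨k', f, hf⟩ := ih (fun i hi => he i (Finset.mem_insert_of_mem hi))
    have h0 : σ k' (t f (e i₀)) = 0 := by
      rw [σ_t]; exact he i₀ (Finset.mem_insert_self _ _)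
    obtain ⟨k'', g, hg⟩ := E2 k' _ h0
    refine ⟨k'', f ≫ g, fun i hi => ?_⟩
    rw [t_comp]
    rcases Finset.mem_insert.mp hi with rfl | hi
    · exact hg
    · rw [hf i hi, map_zero]

include t_comp σ_t dir E1 E2 in
/-- **HomLift**: a linear map from a finitely presented module to the union of a directed system
factors through a stage. -/
theorem exists_hom_lift [Nonempty K] (M : Type*) [AddCommGroup M] [Module A₀ M]
    [Module.FinitePresentation A₀ M] (v : M →ₗ[A₀] Tl) :
    ∃ (k : K) (vk : M →ₗ[A₀] T k), ∀ m, σ k (vk m) = v m := by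
  classical
  obtain ⟨k₀⟩ := ‹Nonempty K›
  obtain ⟨p, q, f, g, hf, hfg⟩ := Module.FinitePresentation.exists_fin' A₀ M
  obtain ⟨k, -, w', hw'⟩ := mod_exists_common_lift T σ t σ_t dir E1 (Finset.univ : Finset (Fin p))
    (fun i => v (f (Pi.single i 1))) k₀
  let V : (Fin p → A₀) →ₗ[A₀] T k := Fintype.linearCombination A₀ w'
  have hV : ∀ c, σ k (V c) = v (f c) := by
    intro c
    have : (σ k) ∘ₗ V = v ∘ₗ f := by
      refine LinearMap.pi_ext' fun i => ?_
      ext
      simp only [LinearMap.coe_comp, LinearMap.coe_single, Function.comp_apply, V,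
        Fintype.linearCombination_apply_single, one_smul]
      exact hw' i (Finset.mem_univ i)
    exact LinearMap.congr_fun this c
  have hkill : ∀ l ∈ (Finset.univ : Finset (Fin q)), σ k (V (g (Pi.single l 1))) = 0 := by
    intro l _
    rw [hV, hfg.apply_apply_eq_zero, map_zero]
  obtain ⟨k', h, hh⟩ := mod_exists_common_kill T σ t t_comp σ_t E2 Finset.univ k
    (fun l => V (g (Pi.single l 1))) hkill
  let V' : (Fin p → A₀) →ₗ[A₀] T k' := (t h) ∘ₗ V
  have hV'g : V' ∘ₗ g = 0 := by
    refine LinearMap.pi_ext' fun l => ?_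
    ext
    simp only [LinearMap.coe_comp, LinearMap.coe_single, Function.comp_apply, V',
      LinearMap.zero_comp, LinearMap.zero_apply]
    exact hh l (Finset.mem_univ l)
  have hker : LinearMap.ker f ≤ LinearMap.ker V' := by
    intro c hc
    obtain ⟨d, rfl⟩ := (hfg c).mp hc
    exact LinearMap.congr_fun hV'g d
  let vk : M →ₗ[A₀] T k' :=
    ((LinearMap.ker f).liftQ V' hker) ∘ₗ (LinearMap.quotKerEquivOfSurjective f hf).symm.toLinearMap
  refine ⟨k', vk, fun m => ?_⟩
  obtain ⟨c, rfl⟩ := hf m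
  have h1 : vk (f c) = V' c := by
    simp only [vk, LinearMap.coe_comp, LinearEquiv.coe_coe, Function.comp_apply]
    have : (LinearMap.quotKerEquivOfSurjective f hf).symm (f c) = Submodule.Quotient.mk c := by
      rw [LinearEquiv.symm_apply_eq]
      rfl
    rw [this, Submodule.liftQ_apply]
  rw [h1]
  simp only [V', LinearMap.coe_comp, Function.comp_apply]
  rw [σ_t, hV]

include t_comp σ_t E2 in
/-- **HomInj**: two maps from a finitely generated module into a stage which agree in the union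
agree at a later stage. -/
theorem exists_hom_eq (M : Type*) [AddCommGroup M] [Module A₀ M] [Module.Finite A₀ M] (k : K)
    (v w : M →ₗ[A₀] T k) (h : ∀ m, σ k (v m) = σ k (w m)) :
    ∃ (k' : K) (f : k ⟶ k'), ∀ m, t f (v m) = t f (w m) := by
  classical
  obtain ⟨S, hS⟩ := (Module.Finite.fg_top : (⊤ : Submodule A₀ M).FG)
  obtain ⟨k', f, hf⟩ := mod_exists_common_kill T σ t t_comp σ_t E2 S k (fun m => v m - w m)
    (fun m _ => by rw [map_sub, h m, sub_self])
  refine ⟨k', f, fun m => ?_⟩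
  have : (t f) ∘ₗ v = (t f) ∘ₗ w := by
    apply LinearMap.ext_on hS
    intro x hx
    have := hf x hx
    rw [map_sub, sub_eq_zero] at this
    exact this
  exact LinearMap.congr_fun this m

end ModSys

end Groth.Agent.Lib.Helper12.H12ModLim
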