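import Mathlib
import Groth.Agent.Lib.Helper12.HomGlue1
import Groth.Agent.Lib.Helper12.ModLim7
import Groth.Agent.Lib.Helper12.ModLim4
import Groth.Agent.Lib.Helper29.QCohQcqs
import Groth.Agent.Lib.Helper29.QCohFP2
import Groth.Agent.Lib.Helper29.QCohLocFree

set_option autoImplicit false
universe u v w

/-! # Homomorphisms from a finitely presented module into a directed union of modules on a
quasi-compact quasi-separated scheme factor through a stage -/

namespace Groth.Agent.Lib.Helper12.H12HomGlue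

open AlgebraicGeometry CategoryTheory TopologicalSpace Opposite
open Groth.Agent.Lib.Helper29.QCoh Groth.Agent.Lib.Helper12.H12ModLim

section HomColim

variable {X : Scheme.{u}} {K : Type v} [Category.{w} K]
  (Qs : K → X.Modules) (Q : X.Modules)
  (θ : ∀ k, Qs k ⟶ Q) (τ : ∀ {k k' : K}, (k ⟶ k') → (Qs k ⟶ Qs k'))
  (τ_comp : ∀ (U : X.Opens), IsAffineOpen U → ∀ {k k' k'' : K} (f : k ⟶ k') (g : k' ⟶ k'')
    (a : Γ(Qs k, U)), (τ (f ≫ g)).app U a = (τ g).app U ((τ f).app U a))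
  (θ_τ : ∀ (U : X.Opens), IsAffineOpen U → ∀ {k k' : K} (f : k ⟶ k') (a : Γ(Qs k, U)),
    (θ k').app U ((τ f).app U a) = (θ k).app U a)
  (dir : ∀ k k' : K, ∃ k'' : K, Nonempty (k ⟶ k'') ∧ Nonempty (k' ⟶ k''))
  (E1 : ∀ (U : X.Opens), IsAffineOpen U → ∀ q : Γ(Q, U),
    ∃ (k : K) (a : Γ(Qs k, U)), (θ k).app U a = q)
  (E2 : ∀ (U : X.Opens), IsAffineOpen U → ∀ (k : K) (a : Γ(Qs k, U)), (θ k).app U a = 0 →
    ∃ (k' : K) (f : k ⟶ k'), (τ f).app U a = 0)

include dir in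
theorem exists_common_target [Nonempty K] {ι : Type*} (S : Finset ι) (ks : ι → K) :
    ∃ k : K, ∀ i ∈ S, Nonempty (ks i ⟶ k) := by
  classical
  induction S using Finset.induction_on with
  | empty => exact ⟨Classical.arbitrary K, fun i hi => absurd hi (Finset.notMem_empty i)⟩
  | insert i₀ S hi₀ ih =>
    obtain ⟨k, hk⟩ := ih
    obtain ⟨k', ⟨f⟩, ⟨g⟩⟩ := dir k (ks i₀)
    refine ⟨k', fun i hi => ?_⟩
    rcases Finset.mem_insert.mp hi with rfl | hi
    · exact ⟨g⟩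
    · obtain ⟨h⟩ := hk i hi
      exact ⟨h ≫ f⟩

include τ_comp θ_τ E2 in
theorem exists_common_kill_family {ι : Type*} (S : Finset ι) (W : ι → X.Opens)
    (hW : ∀ i, IsAffineOpen (W i)) (k : K) (e : ∀ i, Γ(Qs k, W i))
    (he : ∀ i ∈ S, (θ k).app (W i) (e i) = 0) :
    ∃ (k' : K) (f : k ⟶ k'), ∀ i ∈ S, (τ f).app (W i) (e i) = 0 := by
  classical
  induction S using Finset.induction_on with
  | empty => exact ⟨k, 𝟙 k, fun i hi => absurd hi (Finset.notMem_empty i)⟩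
  | insert i₀ S hi₀ ih =>
    obtain ⟨k', f, hf⟩ := ih (fun i hi => he i (Finset.mem_insert_of_mem hi))
    have h0 : (θ k').app (W i₀) ((τ f).app (W i₀) (e i₀)) = 0 := by
      rw [θ_τ (W i₀) (hW i₀)]
      exact he i₀ (Finset.mem_insert_self _ _)
    obtain ⟨k'', g, hg⟩ := E2 (W i₀) (hW i₀) k' _ h0
    refine ⟨k'', f ≫ g, fun i hi => ?_⟩
    rw [τ_comp (W i) (hW i)]
    rcases Finset.mem_insert.mp hi with rfl | hi
    · exact hg
    · rw [hf i hi, map_zero]

include τ_comp θ_τ dir E1 E2 in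
/-- **HomColim**: on a quasi-compact quasi-separated scheme, a homomorphism from a quasi-coherent
module of finite presentation into the union `Q` of a directed system `Qs` of modules factors
through a stage. -/
theorem exists_hom_factor [CompactSpace X] [QuasiSeparatedSpace X] [Nonempty K]
    (F : X.Modules) [F.IsQuasicoherent] [F.IsFinitePresentation] (g : F ⟶ Q) :
    ∃ (k : K) (gk : F ⟶ Qs k), gk ≫ θ k = g := by
  classical
  obtain ⟨n, V, hV, -, hVcov⟩ := exists_finite_affine_cover (X := X) (U := ⊤)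
    (by simpa using isCompact_univ)
  have hcov : ∀ x : X, ∃ i, x ∈ V i := fun x =>
    Opens.mem_iSup.mp (hVcov (show x ∈ (⊤ : X.Opens) from trivial))
  have hfp : ∀ i, Module.FinitePresentation Γ(X, V i) Γ(F, V i) := fun i =>
    module_finitePresentation_of_isFinitePresentation F (hV i)
  -- local lifts
  have hlift : ∀ i, ∃ (k : K) (vk : Γ(F, V i) →ₗ[Γ(X, V i)] Γ(Qs k, V i)),
      ∀ m, (θ k).app (V i) (vk m) = g.app (V i) m := by
    intro i
    haveI := hfp i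
    exact exists_hom_lift (A₀ := Γ(X, V i)) (T := fun k => Γ(Qs k, V i)) (Tl := Γ(Q, V i))
      (fun k => appₗ (θ k) (V i)) (fun f => appₗ (τ f) (V i))
      (fun f g a => τ_comp (V i) (hV i) f g a)
      (fun f a => θ_τ (V i) (hV i) f a)
      dir (E1 (V i) (hV i)) (E2 (V i) (hV i)) Γ(F, V i) (appₗ g (V i))
  choose k₁ v₁ hv₁ using hlift
  obtain ⟨k₂, hk₂⟩ := exists_common_target dir (Finset.univ : Finset (Fin n)) k₁
  have f₁ : ∀ i, k₁ i ⟶ k₂ := fun i => (hk₂ i (Finset.mem_univ i)).some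
  let v₂ : ∀ i, Γ(F, V i) →ₗ[Γ(X, V i)] Γ(Qs k₂, V i) := fun i =>
    (appₗ (τ (f₁ i)) (V i)) ∘ₗ (v₁ i)
  have hv₂ : ∀ i m, (θ k₂).app (V i) (v₂ i m) = g.app (V i) m := by
    intro i m
    change (θ k₂).app (V i) ((τ (f₁ i)).app (V i) (v₁ i m)) = _
    rw [θ_τ (V i) (hV i), hv₁]
  -- generators
  have hfg : ∀ i, ∃ (p : ℕ) (s : Fin p → Γ(F, V i)),
      Submodule.span Γ(X, V i) (Set.range s) = ⊤ := fun i => by
    haveI := hfp i
    exact Module.Finite.exists_fin (R := Γ(X, V i)) (M := Γ(F, V i))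
  choose p s hs using hfg
  -- finite affine covers of the overlaps
  have hov : ∀ i l, ∃ (r : ℕ) (W : Fin r → X.Opens), (∀ j, IsAffineOpen (W j)) ∧
      (∀ j, W j ≤ V i ⊓ V l) ∧ V i ⊓ V l ≤ iSup W := fun i l =>
    exists_finite_affine_cover (X := X) (U := V i ⊓ V l)
      (QuasiSeparatedSpace.inter_isCompact _ _ (V i).2 (hV i).isCompact (V l).2 (hV l).isCompact)
  choose r W hWaff hWle hWcov using hov
  have hWi : ∀ i l j, W i l j ≤ V i := fun i l j => (hWle i l j).trans inf_le_left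
  have hWl : ∀ i l j, W i l j ≤ V l := fun i l j => (hWle i l j).trans inf_le_right
  -- decompositions of the generators on the overlaps
  have hdec : ∀ i l (j : Fin (r i l)) (t : Fin (p i)), ∃ (n' : ℕ) (a : Fin n' → Γ(X, W i l j))
      (m' : Fin n' → Γ(F, V l)),
      res F (hWi i l j) (s i t) = ∑ e, a e • res F (hWl i l j) (m' e) := fun i l j t =>
    exists_sum_smul_res F (hV l) (hWaff i l j) (hWl i l j) _
  choose n' a m' hdec using hdec
  -- the defects
  let Idx := Σ (i : Fin n) (l : Fin n) (_ : Fin (r i l)), Fin (p i)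
  let WI : Idx → X.Opens := fun x => W x.1 x.2.1 x.2.2.1
  let d : ∀ x : Idx, Γ(Qs k₂, WI x) := fun x =>
    res (Qs k₂) (hWi x.1 x.2.1 x.2.2.1) (v₂ x.1 (s x.1 x.2.2.2)) -
      ∑ e, a x.1 x.2.1 x.2.2.1 x.2.2.2 e •
        res (Qs k₂) (hWl x.1 x.2.1 x.2.2.1) (v₂ x.2.1 (m' x.1 x.2.1 x.2.2.1 x.2.2.2 e))
  have hd : ∀ x : Idx, (θ k₂).app (WI x) (d x) = 0 := by
    rintro ⟨i, l, j, t⟩
    change (θ k₂).app (W i l j) (res (Qs k₂) (hWi i l j) (v₂ i (s i t)) -
      ∑ e, a i l j t e • res (Qs k₂) (hWl i l j) (v₂ l (m' i l j t e))) = 0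
    rw [map_sub, map_sum, app_res, hv₂, ← app_res, hdec i l j t, map_sum, sub_eq_zero]
    refine Finset.sum_congr rfl fun e _ => ?_
    rw [app_smul', app_smul', app_res, app_res, hv₂]
  obtain ⟨k₃, f₃, hkill⟩ := exists_common_kill_family Qs Q θ τ τ_comp θ_τ E2
    (Finset.univ : Finset Idx) WI (fun x => hWaff x.1 x.2.1 x.2.2.1) k₂ d (fun x _ => hd x)
  let v₃ : ∀ i, Γ(F, V i) →ₗ[Γ(X, V i)] Γ(Qs k₃, V i) := fun i =>
    (appₗ (τ f₃) (V i)) ∘ₗ (v₂ i)
  have hv₃ : ∀ i m, (θ k₃).app (V i) (v₃ i m) = g.app (V i) m := by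
    intro i m
    change (θ k₃).app (V i) ((τ f₃).app (V i) (v₂ i m)) = _
    rw [θ_τ (V i) (hV i), hv₂]
  obtain ⟨gk, hgk⟩ := exists_hom_of_local (F := F) (Q := Qs k₃) V hV hcov
    (fun i => Set.range (s i)) hs v₃ (by
      rintro i l x hxi hxl _ ⟨t, rfl⟩
      obtain ⟨j, hxj⟩ := Opens.mem_iSup.mp (hWcov i l ⟨hxi, hxl⟩)
      refine ⟨W i l j, hxj, hWi i l j, hWl i l j, n' i l j t, a i l j t, m' i l j t,
        hdec i l j t, ?_⟩
      have h0 := hkill ⟨i, l, j, t⟩ (Finset.mem_univ _)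
      change (τ f₃).app (W i l j) (res (Qs k₂) (hWi i l j) (v₂ i (s i t)) -
        ∑ e, a i l j t e • res (Qs k₂) (hWl i l j) (v₂ l (m' i l j t e))) = 0 at h0
      rw [map_sub, sub_eq_zero, map_sum] at h0
      change res (Qs k₃) (hWi i l j) ((τ f₃).app (V i) (v₂ i (s i t))) =
        ∑ e, a i l j t e • res (Qs k₃) (hWl i l j) ((τ f₃).app (V l) (v₂ l (m' i l j t e)))
      rw [← app_res, h0]
      refine Finset.sum_congr rfl fun e _ => ?_
      rw [app_smul', app_res])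
  refine ⟨k₃, gk, ?_⟩
  refine hom_ext_of_affine_cover (gk ≫ θ k₃) g V hV hcov (fun i => Set.univ)
    (fun i => by rw [Submodule.span_univ]) (fun i m _ => ?_)
  rw [app_comp, hgk, hv₃]

end HomColim

end Groth.Agent.Lib.Helper12.H12HomGlue
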