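import Mathlib
import Groth.Agent.Lib.Helper29.PullSect
import Groth.Agent.Helper19.PullUnit

set_option autoImplicit false
universe u

namespace Groth.Agent.Lib.Helper12.H12HomGlue

open AlgebraicGeometry CategoryTheory TopologicalSpace Opposite
open Groth.Agent.Lib.Helper29.QCoh

section CompMap
variable {X Y Z : Scheme.{u}} (f : X ⟶ Y) (g : Y ⟶ Z) (h : X ⟶ Z) (e : f ≫ g = h) (M : Z.Modules)

/-- The canonical isomorphism `f^* g^* M ≅ h^* M` for `f ≫ g = h`. -/
noncomputable def compIso :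
    (Scheme.Modules.pullback f).obj ((Scheme.Modules.pullback g).obj M) ≅
      (Scheme.Modules.pullback h).obj M :=
  (Scheme.Modules.pullbackComp f g ≪≫ Scheme.Modules.pullbackCongr e).app M

/-- The canonical map `g_* g^* M ⟶ h_* h^* M` for `f ≫ g = h`. -/
noncomputable def compMap :
    (Scheme.Modules.pushforward g).obj ((Scheme.Modules.pullback g).obj M) ⟶
      (Scheme.Modules.pushforward h).obj ((Scheme.Modules.pullback h).obj M) :=
  (Scheme.Modules.pushforward g).map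
      ((Scheme.Modules.pullbackPushforwardAdjunction f).unit.app
        ((Scheme.Modules.pullback g).obj M)) ≫
    (Scheme.Modules.pushforwardComp f g).hom.app _ ≫
      (Scheme.Modules.pushforwardCongr e).hom.app _ ≫
        (Scheme.Modules.pushforward h).map (compIso f g h e M).hom

theorem compMap_app_of_rfl (V : Z.Opens) (a : Γ((Scheme.Modules.pullback g).obj M, g ⁻¹ᵁ V)) :
    (compMap f g (f ≫ g) rfl M).app V a =
      ((Scheme.Modules.pullbackComp f g).hom.app M).app ((f ≫ g) ⁻¹ᵁ V)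
        (pullSect f ((Scheme.Modules.pullback g).obj M) (g ⁻¹ᵁ V) a) := by
  unfold compMap compIso
  rw [app_comp, app_comp, app_comp]
  have h1 : ((Scheme.Modules.pullbackComp f g ≪≫ Scheme.Modules.pullbackCongr (rfl : f ≫ g = f ≫ g)).app M).hom =
      (Scheme.Modules.pullbackComp f g).hom.app M := by
    simp [Scheme.Modules.pullbackCongr]
  rw [h1]
  have h2 : ∀ (N : X.Modules) (x : Γ(N, (f ≫ g) ⁻¹ᵁ V)),
      ((Scheme.Modules.pushforwardCongr (rfl : f ≫ g = f ≫ g)).hom.app N).app V x = x := by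
    intro N x
    rw [Scheme.Modules.pushforwardCongr_hom_app_app]
    simp
    rfl
  rw [h2]
  rfl

/-- `compMap` on sections, with the natural types. -/
noncomputable def compSec (V : Z.Opens) :
    Γ((Scheme.Modules.pullback g).obj M, g ⁻¹ᵁ V) →+ Γ((Scheme.Modules.pullback h).obj M, h ⁻¹ᵁ V) :=
  ((compMap f g h e M).app V).hom

theorem compSec_apply (V : Z.Opens) (a : Γ((Scheme.Modules.pullback g).obj M, g ⁻¹ᵁ V)) :
    compSec f g h e M V a = (compMap f g h e M).app V a := rfl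

include e in
theorem preimage_le_of_comp_eq (V : Z.Opens) : h ⁻¹ᵁ V ≤ f ⁻¹ᵁ (g ⁻¹ᵁ V) := by
  subst e; exact le_rfl

theorem compSec_pullSect (V : Z.Opens) (m : Γ(M, V)) :
    compSec f g h e M V (pullSect g M V m) = pullSect h M V m := by
  subst e
  rw [compSec_apply, compMap_app_of_rfl, ← pullbackComp_inv_pullSect, ← app_comp]
  simp
  rfl

theorem compSec_smul (V : Z.Opens) (b : Γ(Y, g ⁻¹ᵁ V))
    (a : Γ((Scheme.Modules.pullback g).obj M, g ⁻¹ᵁ V)) :
    compSec f g h e M V (b • a) =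
      (f.appLE (g ⁻¹ᵁ V) (h ⁻¹ᵁ V) (preimage_le_of_comp_eq f g h e V) b) •
        compSec f g h e M V a := by
  subst e
  rw [compSec_apply, compSec_apply, compMap_app_of_rfl, compMap_app_of_rfl, pullSect_smul]
  erw [Scheme.Modules.Hom.app_smul]
  congr 1
  rw [Scheme.Hom.app_eq_appLE]
  rfl

theorem compSec_sum (V : Z.Opens) {ι : Type*} (S : Finset ι) (b : ι → Γ(Y, g ⁻¹ᵁ V))
    (m : ι → Γ(M, V)) :
    compSec f g h e M V (∑ p ∈ S, b p • pullSect g M V (m p)) =
      ∑ p ∈ S, (f.appLE (g ⁻¹ᵁ V) (h ⁻¹ᵁ V) (preimage_le_of_comp_eq f g h e V) (b p)) •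
        pullSect h M V (m p) := by
  rw [map_sum]
  refine Finset.sum_congr rfl fun p _ => ?_
  rw [compSec_smul, compSec_pullSect]

end CompMap

section SpanZero
open TensorProduct
variable {Y Z : Scheme.{u}} (g : Y ⟶ Z) (M : Z.Modules) [M.IsQuasicoherent] {V : Z.Opens}
  (hV : IsAffineOpen V) (hU : IsAffineOpen (g ⁻¹ᵁ V))

set_option maxRecDepth 8000 in
theorem pse_sum {ι : Type*} (S : Finset ι) (b : ι → Γ(Y, g ⁻¹ᵁ V)) (m : ι → Γ(M, V)) :
    letI := (g.appLE V (g ⁻¹ᵁ V) le_rfl).hom.toAlgebra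
    pullbackSectionsEquiv g M hU hV le_rfl (∑ p ∈ S, b p • pullSect g M V (m p)) =
      ∑ p ∈ S, b p ⊗ₜ[Γ(Z, V)] m p := by
  letI := (g.appLE V (g ⁻¹ᵁ V) le_rfl).hom.toAlgebra
  rw [map_sum]
  refine Finset.sum_congr rfl fun p _ => ?_
  have key := Groth.Agent.Helper19.PullUnit.pullbackSectionsEquiv_pullSect g M hU hV le_rfl (m p)
  rw [res_self] at key
  rw [map_smul, key, TensorProduct.smul_tmul', smul_eq_mul, mul_one]

include hV hU in
set_option maxRecDepth 8000 in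
theorem exists_sum_pullSect (a : Γ((Scheme.Modules.pullback g).obj M, g ⁻¹ᵁ V)) :
    ∃ S : Finset (Γ(Y, g ⁻¹ᵁ V) × Γ(M, V)), a = ∑ p ∈ S, p.1 • pullSect g M V p.2 := by
  letI := (g.appLE V (g ⁻¹ᵁ V) le_rfl).hom.toAlgebra
  obtain ⟨S, hS⟩ := TensorProduct.exists_finset (pullbackSectionsEquiv g M hU hV le_rfl a)
  refine ⟨S, ?_⟩
  apply (pullbackSectionsEquiv g M hU hV le_rfl).injective
  rw [hS]
  exact (pse_sum g M hV hU S (fun p => p.1) (fun p => p.2)).symm

include hV hU in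
set_option maxRecDepth 8000 in
theorem sum_pullSect_eq_zero_iff {ι : Type*} (S : Finset ι) (b : ι → Γ(Y, g ⁻¹ᵁ V))
    (m : ι → Γ(M, V)) :
    letI := (g.appLE V (g ⁻¹ᵁ V) le_rfl).hom.toAlgebra
    ∑ p ∈ S, b p • pullSect g M V (m p) = 0 ↔ ∑ p ∈ S, b p ⊗ₜ[Γ(Z, V)] m p = 0 := by
  letI := (g.appLE V (g ⁻¹ᵁ V) le_rfl).hom.toAlgebra
  rw [← pse_sum g M hV hU S b m]
  exact (LinearEquiv.map_eq_zero_iff _).symm

end SpanZero

end Groth.Agent.Lib.Helper12.H12HomGlue
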