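import Mathlib
import Groth.Agent.Lib.Helper12.HomGlue2
import Groth.Agent.Lib.Helper12.HomGlue3

set_option autoImplicit false
universe u

/-! # The directed system `φ_{k*} φ_k^* G₀` on a stage of a limit of schemes -/

namespace Groth.Agent.Lib.Helper12.H12HomGlue

open AlgebraicGeometry CategoryTheory CategoryTheory.Limits TopologicalSpace Opposite TensorProduct
open Groth.Agent.Lib.Helper29.QCoh Groth.Agent.Lib.Helper12.H12ModLim

section Stage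
variable {I : Type u} [SmallCategory I] [IsCofiltered I] (D : I ⥤ Scheme.{u}) (c : Cone D)
  (hc : IsLimit c) [∀ {i j : I} (f : i ⟶ j), IsAffineHom (D.map f)]
  (i₀ : I) (G₀ : (D.obj i₀).Modules) [G₀.IsQuasicoherent]

/-- The stage module `φ_{k*} φ_k^* G₀`. -/
noncomputable def stQ (k : (Over i₀)ᵒᵖ) : (D.obj i₀).Modules :=
  (Scheme.Modules.pushforward (D.map k.unop.hom)).obj
    ((Scheme.Modules.pullback (D.map k.unop.hom)).obj G₀)

/-- The limit module `π_* π^* G₀`. -/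
noncomputable def limQ : (D.obj i₀).Modules :=
  (Scheme.Modules.pushforward (c.π.app i₀)).obj ((Scheme.Modules.pullback (c.π.app i₀)).obj G₀)

/-- The map from a stage to the limit. -/
noncomputable def stθ (k : (Over i₀)ᵒᵖ) : stQ D i₀ G₀ k ⟶ limQ D c i₀ G₀ :=
  compMap (c.π.app k.unop.left) (D.map k.unop.hom) (c.π.app i₀) (c.w k.unop.hom) G₀

/-- The transition maps. -/
noncomputable def stT {k k' : (Over i₀)ᵒᵖ} (f : k ⟶ k') : stQ D i₀ G₀ k ⟶ stQ D i₀ G₀ k' :=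
  compMap (D.map f.unop.left) (D.map k.unop.hom) (D.map k'.unop.hom)
    (by rw [← D.map_comp, Over.w f.unop]) G₀

variable (V : (D.obj i₀).Opens)

theorem stθ_sum (k : (Over i₀)ᵒᵖ) {ι : Type*} (S : Finset ι)
    (b : ι → Γ(D.obj k.unop.left, D.map k.unop.hom ⁻¹ᵁ V)) (m : ι → Γ(G₀, V)) :
    (stθ D c i₀ G₀ k).app V (∑ p ∈ S, b p • pullSect (D.map k.unop.hom) G₀ V (m p)) =
      ∑ p ∈ S, ((c.π.app k.unop.left).appLE (D.map k.unop.hom ⁻¹ᵁ V) (c.π.app i₀ ⁻¹ᵁ V)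
        (by rw [← Scheme.Hom.comp_preimage, c.w]) (b p)) • pullSect (c.π.app i₀) G₀ V (m p) :=
  compSec_sum (c.π.app k.unop.left) (D.map k.unop.hom) (c.π.app i₀) (c.w k.unop.hom) G₀ V S b m

theorem stT_sum {k k' : (Over i₀)ᵒᵖ} (f : k ⟶ k') {ι : Type*} (S : Finset ι)
    (b : ι → Γ(D.obj k.unop.left, D.map k.unop.hom ⁻¹ᵁ V)) (m : ι → Γ(G₀, V)) :
    (stT D i₀ G₀ f).app V (∑ p ∈ S, b p • pullSect (D.map k.unop.hom) G₀ V (m p)) =
      ∑ p ∈ S, ((D.map f.unop.left).appLE (D.map k.unop.hom ⁻¹ᵁ V) (D.map k'.unop.hom ⁻¹ᵁ V)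
        (by rw [← Scheme.Hom.comp_preimage, ← D.map_comp, Over.w f.unop]) (b p)) •
          pullSect (D.map k'.unop.hom) G₀ V (m p) :=
  compSec_sum (D.map f.unop.left) (D.map k.unop.hom) (D.map k'.unop.hom)
    (by rw [← D.map_comp, Over.w f.unop]) G₀ V S b m

include hc in
theorem stage_E1 (hV : IsAffineOpen V) (q : Γ(limQ D c i₀ G₀, V)) :
    ∃ (k : (Over i₀)ᵒᵖ) (a : Γ(stQ D i₀ G₀ k, V)), (stθ D c i₀ G₀ k).app V a = q := by
  classical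
  haveI := isAffineHom_π_app D c hc i₀
  have hU : IsAffineOpen (c.π.app i₀ ⁻¹ᵁ V) := hV.preimage (c.π.app i₀)
  obtain ⟨S, hS⟩ := exists_sum_pullSect (c.π.app i₀) G₀ hV hU q
  obtain ⟨k, -, a', ha'⟩ := exists_common_lift (StA D i₀ V) (stρ D c i₀ V)
    (fun f => stτ D i₀ V f) (fun f a => stρ_τ D c i₀ V f a)
    (fun k k' => ⟨IsFiltered.max k k', ⟨IsFiltered.leftToMax k k'⟩, ⟨IsFiltered.rightToMax k k'⟩⟩)
    (fun b => by
      obtain ⟨k, a, ha⟩ := exists_appLE_eq D c hc i₀ V hV b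
      exact ⟨op k, a, (stρ_apply D c i₀ V (op k) a).trans ha⟩)
    S (fun p => p.1) (op (Over.mk (𝟙 i₀)))
  obtain ⟨a'', rfl⟩ : ∃ a'' : Γ(c.pt, c.π.app i₀ ⁻¹ᵁ V) × Γ(G₀, V) →
      Γ(D.obj k.unop.left, D.map k.unop.hom ⁻¹ᵁ V), a'' = a' := ⟨a', rfl⟩
  refine ⟨k, ∑ p ∈ S, a'' p • pullSect (D.map k.unop.hom) G₀ V p.2, ?_⟩
  rw [stθ_sum D c i₀ G₀ V k S a'' (fun p => p.2), hS]
  refine Finset.sum_congr rfl fun p hp => ?_
  have := ha' p hp
  rw [stρ_apply] at this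
  rw [this]

include hc in
set_option maxRecDepth 8000 in
theorem stage_E2 (hV : IsAffineOpen V) (k : (Over i₀)ᵒᵖ) (a : Γ(stQ D i₀ G₀ k, V))
    (ha : (stθ D c i₀ G₀ k).app V a = 0) :
    ∃ (k' : (Over i₀)ᵒᵖ) (f : k ⟶ k'), (stT D i₀ G₀ f).app V a = 0 := by
  classical
  haveI := isAffineHom_π_app D c hc i₀
  have hU : IsAffineOpen (c.π.app i₀ ⁻¹ᵁ V) := hV.preimage (c.π.app i₀)
  obtain ⟨S, hS⟩ := exists_sum_pullSect (D.map k.unop.hom) G₀ hV (hV.preimage _) a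
  subst hS
  have ha' := (stθ_sum D c i₀ G₀ V k S (fun p => p.1) (fun p => p.2)).symm.trans ha
  have h1 := (sum_pullSect_eq_zero_iff (c.π.app i₀) G₀ hV hU S _ _).mp ha'
  let x : StA D i₀ V k ⊗[Γ(D.obj i₀, V)] Γ(G₀, V) := ∑ p ∈ S, (p.1 : StA D i₀ V k) ⊗ₜ p.2
  have hx : (stρ D c i₀ V k).toLinearMap.rTensor Γ(G₀, V) x = 0 := by
    simp only [x, map_sum, LinearMap.rTensor_tmul, AlgHom.toLinearMap_apply]
    exact h1
  obtain ⟨k', f, hf⟩ := exists_stage_rTensor_eq_zero D c hc i₀ V hV Γ(G₀, V) k x hx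
  refine ⟨k', f, ?_⟩
  refine (stT_sum D i₀ G₀ V f S (fun p => p.1) (fun p => p.2)).trans ?_
  refine (sum_pullSect_eq_zero_iff (D.map k'.unop.hom) G₀ hV (hV.preimage _) S _ _).mpr ?_
  simp only [x, map_sum, LinearMap.rTensor_tmul, AlgHom.toLinearMap_apply] at hf
  exact hf

theorem stage_T_comp (hV : IsAffineOpen V) {k k' k'' : (Over i₀)ᵒᵖ} (f : k ⟶ k') (g : k' ⟶ k'')
    (a : Γ(stQ D i₀ G₀ k, V)) :
    (stT D i₀ G₀ (f ≫ g)).app V a = (stT D i₀ G₀ g).app V ((stT D i₀ G₀ f).app V a) := by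
  obtain ⟨S, hS⟩ := exists_sum_pullSect (D.map k.unop.hom) G₀ hV (hV.preimage _) a
  subst hS
  refine (stT_sum D i₀ G₀ V (f ≫ g) S (fun p => p.1) (fun p => p.2)).trans ?_
  refine Eq.trans ?_ (congrArg ((stT D i₀ G₀ g).app V)
    (stT_sum D i₀ G₀ V f S (fun p => p.1) (fun p => p.2))).symm
  refine Eq.trans ?_ (stT_sum D i₀ G₀ V g S _ (fun p => p.2)).symm
  refine Finset.sum_congr rfl fun p _ => ?_
  congr 1
  exact stτ_comp D i₀ V f g p.1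

theorem stage_θ_T (hV : IsAffineOpen V) {k k' : (Over i₀)ᵒᵖ} (f : k ⟶ k')
    (a : Γ(stQ D i₀ G₀ k, V)) :
    (stθ D c i₀ G₀ k').app V ((stT D i₀ G₀ f).app V a) = (stθ D c i₀ G₀ k).app V a := by
  obtain ⟨S, hS⟩ := exists_sum_pullSect (D.map k.unop.hom) G₀ hV (hV.preimage _) a
  subst hS
  refine Eq.trans ?_ (stθ_sum D c i₀ G₀ V k S (fun p => p.1) (fun p => p.2)).symm
  refine (congrArg ((stθ D c i₀ G₀ k').app V)
    (stT_sum D i₀ G₀ V f S (fun p => p.1) (fun p => p.2))).trans ?_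
  refine (stθ_sum D c i₀ G₀ V k' S _ (fun p => p.2)).trans ?_
  refine Finset.sum_congr rfl fun p _ => ?_
  congr 1
  exact stρ_τ D c i₀ V f p.1

include hc in
/-- **Hom descent, adjoint form**: a homomorphism `F₀ ⟶ π_* π^* G₀` from a quasi-coherent module
of finite presentation on a quasi-compact quasi-separated stage factors through
`φ_{k*} φ_k^* G₀` for some stage `k`. -/
theorem exists_stage_hom [CompactSpace (D.obj i₀)] [QuasiSeparatedSpace (D.obj i₀)]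
    (F₀ : (D.obj i₀).Modules) [F₀.IsQuasicoherent] [F₀.IsFinitePresentation]
    (g : F₀ ⟶ limQ D c i₀ G₀) :
    ∃ (k : (Over i₀)ᵒᵖ) (gk : F₀ ⟶ stQ D i₀ G₀ k), gk ≫ stθ D c i₀ G₀ k = g :=
  haveI : Nonempty (Over i₀)ᵒᵖ := ⟨op (Over.mk (𝟙 i₀))⟩
  exists_hom_factor (stQ D i₀ G₀) (limQ D c i₀ G₀) (stθ D c i₀ G₀) (fun f => stT D i₀ G₀ f)
    (fun U hU _ _ _ f g a => stage_T_comp D i₀ G₀ U hU f g a)
    (fun U hU _ _ f a => stage_θ_T D c i₀ G₀ U hU f a)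
    (fun k k' => ⟨IsFiltered.max k k', ⟨IsFiltered.leftToMax k k'⟩, ⟨IsFiltered.rightToMax k k'⟩⟩)
    (fun U hU q => stage_E1 D c hc i₀ G₀ U hU q)
    (fun U hU k a ha => stage_E2 D c hc i₀ G₀ U hU k a ha) F₀ g

end Stage

end Groth.Agent.Lib.Helper12.H12HomGlue
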