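import Mathlib
import Groth.Agent.Lib.Helper12.HomGlue4

set_option autoImplicit false
universe u

/-! # Descent of homomorphisms of modules to a stage of a limit of schemes (EGA IV 8.5.2 (i)) -/

namespace Groth.Agent.Lib.Helper12.H12HomGlue

open AlgebraicGeometry CategoryTheory CategoryTheory.Limits TopologicalSpace Opposite TensorProduct
open Groth.Agent.Lib.Helper29.QCoh Groth.Agent.Lib.Helper12.H12ModLim

section Adj
variable {X Y Z : Scheme.{u}}

theorem homEquiv_app_eq (f : X ⟶ Y) (M : Y.Modules) (N : X.Modules)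
    (ψ : (Scheme.Modules.pullback f).obj M ⟶ N) (V : Y.Opens) (m : Γ(M, V)) :
    ((Scheme.Modules.pullbackPushforwardAdjunction f).homEquiv M N ψ).app V m =
      ψ.app (f ⁻¹ᵁ V) (pullSect f M V m) := by
  rw [Adjunction.homEquiv_unit]
  rfl

theorem compSec_eq (f : X ⟶ Y) (g : Y ⟶ Z) (h : X ⟶ Z) (e : f ≫ g = h) (M : Z.Modules)
    (V : Z.Opens) (a : Γ((Scheme.Modules.pullback g).obj M, g ⁻¹ᵁ V)) :
    compSec f g h e M V a = (compIso f g h e M).hom.app (h ⁻¹ᵁ V)
      (res _ (preimage_le_of_comp_eq f g h e V)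
        (pullSect f ((Scheme.Modules.pullback g).obj M) (g ⁻¹ᵁ V) a)) := by
  subst e
  have h1 : res ((Scheme.Modules.pullback f).obj ((Scheme.Modules.pullback g).obj M))
      (preimage_le_of_comp_eq f g (f ≫ g) rfl V)
      (pullSect f ((Scheme.Modules.pullback g).obj M) (g ⁻¹ᵁ V) a) =
      pullSect f ((Scheme.Modules.pullback g).obj M) (g ⁻¹ᵁ V) a := res_self _ _
  rw [compSec_apply, compMap_app_of_rfl, h1]
  unfold compIso
  simp [Scheme.Modules.pullbackCongr]

end Adj

section Main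
variable {I : Type u} [SmallCategory I] [IsCofiltered I] (D : I ⥤ Scheme.{u}) (c : Cone D)
  (hc : IsLimit c) [∀ {i j : I} (f : i ⟶ j), IsAffineHom (D.map f)] (i₀ : I)

include hc in
/-- **Hom descent**: every homomorphism between the pullbacks to the limit of a finitely
presented quasi-coherent module and a quasi-coherent module on a quasi-compact quasi-separated
stage comes from a stage. -/
theorem exists_stage_hom_pullback [CompactSpace (D.obj i₀)] [QuasiSeparatedSpace (D.obj i₀)]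
    (F₀ G₀ : (D.obj i₀).Modules) [F₀.IsQuasicoherent] [F₀.IsFinitePresentation]
    [G₀.IsQuasicoherent]
    (h : (Scheme.Modules.pullback (c.π.app i₀)).obj F₀ ⟶
      (Scheme.Modules.pullback (c.π.app i₀)).obj G₀) :
    ∃ (j : I) (φ : j ⟶ i₀) (hj : (Scheme.Modules.pullback (D.map φ)).obj F₀ ⟶
        (Scheme.Modules.pullback (D.map φ)).obj G₀),
      ((Scheme.Modules.pullbackComp (c.π.app j) (D.map φ) ≪≫
          Scheme.Modules.pullbackCongr (c.w φ)).app F₀).inv ≫
        (Scheme.Modules.pullback (c.π.app j)).map hj ≫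
          ((Scheme.Modules.pullbackComp (c.π.app j) (D.map φ) ≪≫
            Scheme.Modules.pullbackCongr (c.w φ)).app G₀).hom = h := by
  haveI := isAffineHom_π_app D c hc i₀
  let g : F₀ ⟶ limQ D c i₀ G₀ :=
    (Scheme.Modules.pullbackPushforwardAdjunction (c.π.app i₀)).homEquiv F₀ _ h
  obtain ⟨k, gk, hgk⟩ := exists_stage_hom D c hc i₀ G₀ F₀ g
  let hj : (Scheme.Modules.pullback (D.map k.unop.hom)).obj F₀ ⟶
      (Scheme.Modules.pullback (D.map k.unop.hom)).obj G₀ :=
    ((Scheme.Modules.pullbackPushforwardAdjunction (D.map k.unop.hom)).homEquiv F₀ _).symm gk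
  have hhj : ∀ (V : (D.obj i₀).Opens) (m : Γ(F₀, V)),
      hj.app (D.map k.unop.hom ⁻¹ᵁ V) (pullSect (D.map k.unop.hom) F₀ V m) = gk.app V m := by
    intro V m
    rw [← homEquiv_app_eq]
    simp only [hj, Equiv.apply_symm_apply]
    rfl
  refine ⟨k.unop.left, k.unop.hom, hj, ?_⟩
  have e : c.π.app k.unop.left ≫ D.map k.unop.hom = c.π.app i₀ := c.w k.unop.hom
  change (compIso (c.π.app k.unop.left) (D.map k.unop.hom) (c.π.app i₀) e F₀).inv ≫
    (Scheme.Modules.pullback (c.π.app k.unop.left)).map hj ≫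
    (compIso (c.π.app k.unop.left) (D.map k.unop.hom) (c.π.app i₀) e G₀).hom = h
  refine hom_ext_of_affine_cover _ _
    (fun V : (D.obj i₀).affineOpens => c.π.app i₀ ⁻¹ᵁ V.1) (fun V => V.2.preimage _)
    (fun x => ?_) (fun V => Set.range (pullSect (c.π.app i₀) F₀ V.1)) (fun V => ?_) ?_
  · obtain ⟨V, hV, hxV, -⟩ := exists_isAffineOpen_mem_and_subset (x := c.π.app i₀ x)
      (U := (⊤ : (D.obj i₀).Opens)) trivial
    exact ⟨⟨V, hV⟩, hxV⟩
  · rw [eq_top_iff]
    intro a _
    obtain ⟨S, hS⟩ := exists_sum_pullSect (c.π.app i₀) F₀ V.2 (V.2.preimage _) a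
    rw [hS]
    exact Submodule.sum_mem _ fun p _ => Submodule.smul_mem _ _ (Submodule.subset_span ⟨p.2, rfl⟩)
  · rintro V _ ⟨m, rfl⟩
    rw [app_comp, app_comp]
    have h1 : (compIso (c.π.app k.unop.left) (D.map k.unop.hom) (c.π.app i₀) e F₀).inv.app
        (c.π.app i₀ ⁻¹ᵁ V.1) (pullSect (c.π.app i₀) F₀ V.1 m) =
        res _ (preimage_le_of_comp_eq (c.π.app k.unop.left) (D.map k.unop.hom) (c.π.app i₀) e V.1)
          (pullSect (c.π.app k.unop.left) _ (D.map k.unop.hom ⁻¹ᵁ V.1)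
            (pullSect (D.map k.unop.hom) F₀ V.1 m)) := by
      rw [← compSec_pullSect (c.π.app k.unop.left) (D.map k.unop.hom) (c.π.app i₀) e F₀ V.1 m,
        compSec_eq, ← app_comp]
      simp
    rw [h1, app_res, pullSect_naturality, hhj, ← compSec_eq, compSec_apply]
    change (gk ≫ stθ D c i₀ G₀ k).app V.1 m = _
    rw [hgk]
    exact homEquiv_app_eq (c.π.app i₀) F₀ _ h V.1 m

end Main

end Groth.Agent.Lib.Helper12.H12HomGlue
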