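import Mathlib
import Groth.Agent.Lib.Helper12.HomGlue5
import Groth.Agent.Lib.Helper12.ModLim5

set_option autoImplicit false
universe u

/-! # Isomorphy of pulled-back finitely presented modules holds at a stage (EGA IV 8.5.2.4) -/

namespace Groth.Agent.Lib.Helper12.H12HomGlue

open AlgebraicGeometry CategoryTheory CategoryTheory.Limits TopologicalSpace Opposite
open Groth.Agent.Lib.Helper29.QCoh Groth.Agent.Lib.Helper12.H12ModLim

section Main
variable {I : Type u} [SmallCategory I] [IsCofiltered I] (D : I ⥤ Scheme.{u}) (c : Cone D)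
  (hc : IsLimit c) [∀ {i j : I} (f : i ⟶ j), IsAffineHom (D.map f)] (i₀ : I)

include hc in
theorem nonempty_iso_pullback_iff_stage [CompactSpace (D.obj i₀)]
    [QuasiSeparatedSpace (D.obj i₀)] (F₀ G₀ : (D.obj i₀).Modules) [F₀.IsQuasicoherent]
    [F₀.IsFinitePresentation] [G₀.IsQuasicoherent] [G₀.IsFinitePresentation] :
    Nonempty ((Scheme.Modules.pullback (c.π.app i₀)).obj F₀ ≅
        (Scheme.Modules.pullback (c.π.app i₀)).obj G₀) ↔
      ∃ (j : I) (φ : j ⟶ i₀), Nonempty ((Scheme.Modules.pullback (D.map φ)).obj F₀ ≅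
        (Scheme.Modules.pullback (D.map φ)).obj G₀) := by
  constructor
  · rintro ⟨ε⟩
    obtain ⟨j, φ, hj, hhj⟩ := exists_stage_hom_pullback D c hc i₀ F₀ G₀ ε.hom
    have hiso : IsIso ((Scheme.Modules.pullback (c.π.app j)).map hj) := by
      have h1 : (Scheme.Modules.pullback (c.π.app j)).map hj =
          (compIso (c.π.app j) (D.map φ) (c.π.app i₀) (c.w φ) F₀).hom ≫ ε.hom ≫
            (compIso (c.π.app j) (D.map φ) (c.π.app i₀) (c.w φ) G₀).inv := by
        rw [← hhj]
        unfold compIso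
        simp
      rw [h1]
      infer_instance
    haveI : CompactSpace (D.obj j) := QuasiCompact.compactSpace_of_compactSpace (D.map φ)
    obtain ⟨j', ψ, hψ⟩ := (isIso_pullback_iff_stage D c hc j hj).mp hiso
    refine ⟨j', ψ ≫ φ, ⟨?_⟩⟩
    exact (compIso (D.map ψ) (D.map φ) (D.map (ψ ≫ φ)) (D.map_comp ψ φ).symm F₀).symm ≪≫
      asIso ((Scheme.Modules.pullback (D.map ψ)).map hj) ≪≫
      compIso (D.map ψ) (D.map φ) (D.map (ψ ≫ φ)) (D.map_comp ψ φ).symm G₀
  · rintro ⟨j, φ, ⟨ε⟩⟩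
    exact ⟨(compIso (c.π.app j) (D.map φ) (c.π.app i₀) (c.w φ) F₀).symm ≪≫
      (Scheme.Modules.pullback (c.π.app j)).mapIso ε ≪≫
      compIso (c.π.app j) (D.map φ) (c.π.app i₀) (c.w φ) G₀⟩

end Main

end Groth.Agent.Lib.Helper12.H12HomGlue
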