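import Mathlib
import Groth.Agent.Lib27.Flat.KerFP
import Groth.Agent.Lib.Helper12.ModLim2

/-! # Injectivity with flat cokernel descends to a stage (ring level) -/

set_option autoImplicit false
universe u

open CategoryTheory TensorProduct Function

namespace Groth.Agent.Lib.Helper12.H12FlatInj


section Quot
variable {A B : Type*} [CommRing A] [CommRing B] [Algebra A B]
  {M N : Type*} [AddCommGroup M] [Module A M] [AddCommGroup N] [Module A N]

/-- Base change commutes with the cokernel. -/
noncomputable def quotRangeBaseChangeEquiv (u : M →ₗ[A] N) :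
    ((B ⊗[A] N) ⧸ LinearMap.range (u.baseChange B)) ≃ₗ[B] B ⊗[A] (N ⧸ LinearMap.range u) := by
  have hex : Function.Exact (u.baseChange B) ((LinearMap.range u).mkQ.baseChange B) :=
    lTensor_exact B (LinearMap.exact_map_mkQ_range u) (Submodule.mkQ_surjective _)
  have hsurj : Surjective ((LinearMap.range u).mkQ.baseChange B) :=
    LinearMap.lTensor_surjective B (Submodule.mkQ_surjective _)
  exact (Submodule.quotEquivOfEq _ _ (LinearMap.exact_iff.mp hex).symm).trans
    (((LinearMap.range u).mkQ.baseChange B).quotKerEquivOfSurjective hsurj)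

end Quot

section KerFG
variable {R B : Type u} [CommRing R] [CommRing B] [Algebra R B] [Algebra.FinitePresentation R B]
  {M N : Type u} [AddCommGroup M] [Module B M] [AddCommGroup N] [Module B N] [Module R N]
  [IsScalarTower R B N] [Module.Finite B M] [Module.FinitePresentation B N]

/-- The kernel of a map from a finite module to a finitely presented one with `R`-flat cokernel is
finitely generated. -/
theorem fg_ker_of_flat_coker (u : M →ₗ[B] N) [Module.Flat R (N ⧸ LinearMap.range u)] :
    (LinearMap.ker u).FG := by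
  haveI : Module.FinitePresentation B (N ⧸ LinearMap.range u) :=
    Module.finitePresentation_of_surjective (LinearMap.range u).mkQ (Submodule.mkQ_surjective _)
      (by
        rw [Submodule.ker_mkQ, LinearMap.range_eq_map]
        exact Submodule.FG.map _ Module.Finite.fg_top)
  haveI h1 : Module.FinitePresentation B (LinearMap.ker (LinearMap.range u).mkQ) :=
    Groth.Agent.Lib27.KerFP.finitePresentation_ker_of_flat (A := R) (D := B)
      (LinearMap.range u).mkQ (Submodule.mkQ_surjective _)
  haveI h2 : Module.FinitePresentation B (LinearMap.range u) := by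
    have e : LinearMap.ker (LinearMap.range u).mkQ = LinearMap.range u := Submodule.ker_mkQ _
    exact Module.FinitePresentation.of_equiv (LinearEquiv.ofEq _ _ e)
  have h3 := Module.FinitePresentation.fg_ker u.rangeRestrict u.surjective_rangeRestrict
  rwa [LinearMap.ker_rangeRestrict] at h3

end KerFG



section KerTensor
variable {R : Type*} [CommRing R] {M N : Type*} [AddCommGroup M] [Module R M]
  [AddCommGroup N] [Module R N]

/-- For a map with flat cokernel, the kernel of a base change is generated by the kernel. -/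
theorem mem_range_of_lTensor_eq_zero (u : M →ₗ[R] N) [Module.Flat R (N ⧸ LinearMap.range u)]
    (Q : Type*) [AddCommGroup Q] [Module R Q] (w : Q ⊗[R] M) (hw : u.lTensor Q w = 0) :
    w ∈ LinearMap.range ((LinearMap.ker u).subtype.lTensor Q) := by
  have hι : Injective ((LinearMap.range u).subtype.lTensor Q) := by
    haveI : Module.Flat R (N ⧸ LinearMap.range (LinearMap.range u).subtype) :=
      Module.Flat.of_linearEquiv
        (Submodule.quotEquivOfEq _ _ (Submodule.range_subtype (LinearMap.range u)))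
    exact Groth.Agent.Lib27.FibInj.lTensor_injective_of_flat_coker _
      (Submodule.injective_subtype _) Q
  have hcomp : u = (LinearMap.range u).subtype ∘ₗ u.rangeRestrict := by
    ext m; rfl
  have h1 : u.rangeRestrict.lTensor Q w = 0 := by
    apply hι
    rw [map_zero, ← LinearMap.comp_apply, ← LinearMap.lTensor_comp, ← hcomp, hw]
  have hex : Function.Exact ((LinearMap.ker u.rangeRestrict).subtype.lTensor Q)
      (u.rangeRestrict.lTensor Q) :=
    lTensor_exact Q (LinearMap.exact_subtype_ker_map u.rangeRestrict) u.surjective_rangeRestrict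
  obtain ⟨w', hw'⟩ := (hex w).mp h1
  have hle : LinearMap.ker u.rangeRestrict ≤ LinearMap.ker u := by
    rw [LinearMap.ker_rangeRestrict]
  refine ⟨(Submodule.inclusion hle).lTensor Q w', ?_⟩
  rw [← hw', ← LinearMap.comp_apply, ← LinearMap.lTensor_comp]
  rfl

end KerTensor

section Crit
variable {R B : Type u} [CommRing R] [CommRing B] [Algebra R B] [Algebra.FinitePresentation R B]
  {M N : Type u} [AddCommGroup M] [Module B M] [Module R M] [IsScalarTower R B M]
  [AddCommGroup N] [Module B N] [Module R N]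
  [IsScalarTower R B N] [Module.Finite B M] [Module.FinitePresentation B N]

/-- Finitely many elements of the kernel control injectivity of all base changes. -/
theorem exists_kill_criterion (u : M →ₗ[B] N) [Module.Flat R (N ⧸ LinearMap.range u)] :
    ∃ (r : ℕ) (z : Fin r → M), (∀ j, u (z j) = 0) ∧
      ∀ (R' : Type u) [CommRing R'] [Algebra R R'], (∀ j, (1 : R') ⊗ₜ[R] z j = 0) →
        Injective ((u.restrictScalars R).lTensor R') := by
  obtain ⟨r, z, hz⟩ := Submodule.fg_iff_exists_fin_generating_family.mp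
    (fg_ker_of_flat_coker (R := R) u)
  have hzk : ∀ j, z j ∈ LinearMap.ker u := fun j => hz ▸ Submodule.subset_span ⟨j, rfl⟩
  refine ⟨r, z, fun j => LinearMap.mem_ker.mp (hzk j), ?_⟩
  intro R' _ _ h1
  haveI : Module.Flat R (N ⧸ LinearMap.range (u.restrictScalars R)) := by
    have e : LinearMap.range (u.restrictScalars R) = (LinearMap.range u).restrictScalars R := by
      ext x; simp
    exact Module.Flat.of_linearEquiv ((Submodule.quotEquivOfEq _ _ e).trans
      (Submodule.Quotient.restrictScalarsEquiv R (LinearMap.range u)))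
  have key : ∀ m ∈ Submodule.span B (Set.range z), ∀ r' : R', r' ⊗ₜ[R] m = 0 := by
    intro m hm
    induction hm using Submodule.span_induction with
    | mem x hx =>
      obtain ⟨j, rfl⟩ := hx
      intro r'
      have : r' ⊗ₜ[R] z j = r' • ((1 : R') ⊗ₜ[R] z j) := by
        rw [TensorProduct.smul_tmul', smul_eq_mul, mul_one]
      rw [this, h1 j, smul_zero]
    | zero => intro r'; exact TensorProduct.tmul_zero _ _
    | add x y _ _ hx hy => intro r'; rw [TensorProduct.tmul_add, hx, hy, add_zero]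
    | smul b x _ hx =>
      intro r'
      have : r' ⊗ₜ[R] (b • x) =
          (((LinearMap.lsmul B M b).restrictScalars R).lTensor R') (r' ⊗ₜ[R] x) := by
        rw [LinearMap.lTensor_tmul]; rfl
      rw [this, hx, map_zero]
  rw [injective_iff_map_eq_zero]
  intro w hw
  obtain ⟨w', rfl⟩ := mem_range_of_lTensor_eq_zero (u.restrictScalars R) R' w hw
  clear hw
  induction w' using TensorProduct.induction_on with
  | zero => exact map_zero _
  | tmul r' κ =>
    rw [LinearMap.lTensor_tmul]
    refine key _ ?_ r'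
    rw [hz]
    exact κ.2
  | add x y hx hy =>
    rw [map_add, hx, hy, add_zero]

end Crit



section Pushout
variable (R S A B : Type*) [CommRing R] [CommRing S] [CommRing A] [CommRing B]
  [Algebra R S] [Algebra R A] [Algebra R B] [Algebra A B] [Algebra S B]
  [IsScalarTower R A B] [IsScalarTower R S B] [Algebra.IsPushout R S A B]
  {M N : Type*} [AddCommGroup M] [Module R M] [Module A M] [IsScalarTower R A M]
  [AddCommGroup N] [Module R N] [Module A N] [IsScalarTower R A N]

theorem cancelBaseChange_symm_nat (u : M →ₗ[A] N) (y : S ⊗[R] M) :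
    u.baseChange B ((Algebra.IsPushout.cancelBaseChange R S A B M).symm y) =
      (Algebra.IsPushout.cancelBaseChange R S A B N).symm ((u.restrictScalars R).lTensor S y) := by
  induction y with
  | zero => simp
  | add x y hx hy => simp only [map_add, hx, hy]
  | tmul a k =>
    rw [Algebra.IsPushout.cancelBaseChange_symm_tmul, LinearMap.baseChange_tmul,
      LinearMap.lTensor_tmul, Algebra.IsPushout.cancelBaseChange_symm_tmul]
    rfl

theorem cancelBaseChange_nat (u : M →ₗ[A] N) (y : B ⊗[A] M) :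
    Algebra.IsPushout.cancelBaseChange R S A B N (u.baseChange B y) =
      (u.restrictScalars R).lTensor S (Algebra.IsPushout.cancelBaseChange R S A B M y) := by
  obtain ⟨y, rfl⟩ := (Algebra.IsPushout.cancelBaseChange R S A B M).symm.surjective y
  rw [cancelBaseChange_symm_nat, LinearEquiv.apply_symm_apply, LinearEquiv.apply_symm_apply]

theorem baseChange_injective_iff (u : M →ₗ[A] N) :
    Injective (u.baseChange B) ↔ Injective ((u.restrictScalars R).lTensor S) := by
  constructor
  · intro h
    rw [injective_iff_map_eq_zero]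
    intro y hy
    have h1 := cancelBaseChange_symm_nat R S A B u y
    rw [hy, map_zero] at h1
    have h2 := (injective_iff_map_eq_zero _).mp h _ h1
    exact (LinearEquiv.map_eq_zero_iff _).mp h2
  · intro h
    rw [injective_iff_map_eq_zero]
    intro y hy
    have h1 := cancelBaseChange_nat R S A B u y
    rw [hy, map_zero] at h1
    have h2 := (injective_iff_map_eq_zero _).mp h _ h1.symm
    exact (LinearEquiv.map_eq_zero_iff _).mp h2

end Pushout

section Tower
variable (A₀ R₁ R' : Type*) [CommRing A₀] [CommRing R₁] [CommRing R'] [Algebra A₀ R₁]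
  [Algebra R₁ R'] [Algebra A₀ R'] [IsScalarTower A₀ R₁ R']
  {M N : Type*} [AddCommGroup M] [Module A₀ M] [AddCommGroup N] [Module A₀ N]

theorem towerCancel_nat (v : M →ₗ[A₀] N) (t : R' ⊗[R₁] (R₁ ⊗[A₀] M)) :
    TensorProduct.AlgebraTensorModule.cancelBaseChange A₀ R₁ R' R' N
        (((v.baseChange R₁).restrictScalars R₁).lTensor R' t) =
      v.lTensor R' (TensorProduct.AlgebraTensorModule.cancelBaseChange A₀ R₁ R' R' M t) := by
  induction t with
  | zero => simp
  | add x y hx hy => simp only [map_add, hx, hy]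
  | tmul x y =>
    induction y with
    | zero => simp
    | add a b ha hb =>
      simp only [TensorProduct.tmul_add, map_add, ha, hb]
    | tmul r m =>
      simp

theorem towerCancel_one_tmul (y : R₁ ⊗[A₀] M) :
    TensorProduct.AlgebraTensorModule.cancelBaseChange A₀ R₁ R' R' M ((1 : R') ⊗ₜ[R₁] y) =
      (IsScalarTower.toAlgHom A₀ R₁ R').toLinearMap.rTensor M y := by
  induction y with
  | zero => simp
  | add a b ha hb => simp only [TensorProduct.tmul_add, map_add, ha, hb]
  | tmul r m => simp [Algebra.smul_def]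

theorem towerCancel_injective_iff (v : M →ₗ[A₀] N) :
    Injective (((v.baseChange R₁).restrictScalars R₁).lTensor R') ↔ Injective (v.lTensor R') := by
  constructor
  · intro h
    rw [injective_iff_map_eq_zero]
    intro y hy
    obtain ⟨t, rfl⟩ :=
      (TensorProduct.AlgebraTensorModule.cancelBaseChange A₀ R₁ R' R' M).surjective y
    rw [← towerCancel_nat, LinearEquiv.map_eq_zero_iff] at hy
    rw [(injective_iff_map_eq_zero _).mp h _ hy, map_zero]
  · intro h
    rw [injective_iff_map_eq_zero]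
    intro t ht
    have h1 := towerCancel_nat A₀ R₁ R' v t
    rw [ht, map_zero] at h1
    have h2 := (injective_iff_map_eq_zero _).mp h _ h1.symm
    exact (LinearEquiv.map_eq_zero_iff _).mp h2

end Tower

section Rebase
attribute [local instance] Algebra.TensorProduct.rightAlgebra

variable {A₀ R₁ B₀ : Type u} [CommRing A₀] [CommRing R₁] [CommRing B₀] [Algebra A₀ R₁]
  [Algebra A₀ B₀] [Algebra.FinitePresentation A₀ B₀]
  {M₀ N₀ : Type u} [AddCommGroup M₀] [Module B₀ M₀] [Module A₀ M₀] [IsScalarTower A₀ B₀ M₀]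
  [AddCommGroup N₀] [Module B₀ N₀] [Module A₀ N₀] [IsScalarTower A₀ B₀ N₀]
  [Module.Finite B₀ M₀] [Module.FinitePresentation B₀ N₀]

set_option maxHeartbeats 1600000 in
/-- Rebased criterion: if the cokernel becomes flat over `R₁`, finitely many elements of
`R₁ ⊗ M₀` control injectivity over every `R₁`-algebra. -/
theorem exists_kill_criterion' (u₀ : M₀ →ₗ[B₀] N₀)
    (hfl : Module.Flat R₁ (R₁ ⊗[A₀] (N₀ ⧸ LinearMap.range u₀))) :
    ∃ (r : ℕ) (z : Fin r → R₁ ⊗[A₀] M₀),
      (∀ j, (u₀.restrictScalars A₀).lTensor R₁ (z j) = 0) ∧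
      ∀ (R' : Type u) [CommRing R'] [Algebra R₁ R'] [Algebra A₀ R'] [IsScalarTower A₀ R₁ R'],
        (∀ j, (IsScalarTower.toAlgHom A₀ R₁ R').toLinearMap.rTensor M₀ (z j) = 0) →
          Injective ((u₀.restrictScalars A₀).lTensor R') := by
  haveI : Module.Flat R₁ (((R₁ ⊗[A₀] B₀) ⊗[B₀] N₀) ⧸
      LinearMap.range (u₀.baseChange (R₁ ⊗[A₀] B₀))) := by
    have e1 := (quotRangeBaseChangeEquiv (B := R₁ ⊗[A₀] B₀) u₀).restrictScalars R₁
    have e2 := Algebra.IsPushout.cancelBaseChange A₀ R₁ B₀ (R₁ ⊗[A₀] B₀)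
      (N₀ ⧸ LinearMap.range u₀)
    exact Module.Flat.of_linearEquiv (e1.trans e2)
  obtain ⟨r, z, hz, crit⟩ := exists_kill_criterion (R := R₁) (B := R₁ ⊗[A₀] B₀)
    (u₀.baseChange (R₁ ⊗[A₀] B₀))
  let eM := Algebra.IsPushout.cancelBaseChange A₀ R₁ B₀ (R₁ ⊗[A₀] B₀) M₀
  let eN := Algebra.IsPushout.cancelBaseChange A₀ R₁ B₀ (R₁ ⊗[A₀] B₀) N₀
  refine ⟨r, fun j => eM (z j), fun j => ?_, ?_⟩
  · rw [← cancelBaseChange_nat, hz j, map_zero]
  · intro R' _ _ _ _ hkill
    have h1 : ∀ j, (1 : R') ⊗ₜ[R₁] z j = 0 := by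
      intro j
      apply (LinearEquiv.lTensor R' eM).injective
      apply (TensorProduct.AlgebraTensorModule.cancelBaseChange A₀ R₁ R' R' M₀).injective
      rw [map_zero, map_zero, LinearEquiv.lTensor_tmul, towerCancel_one_tmul]
      exact hkill j
    have h2 := crit R' h1
    have hconj : (((u₀.restrictScalars A₀).baseChange R₁).restrictScalars R₁) ∘ₗ eM.toLinearMap =
        eN.toLinearMap ∘ₗ ((u₀.baseChange (R₁ ⊗[A₀] B₀)).restrictScalars R₁) := by
      ext y
      exact (cancelBaseChange_nat A₀ R₁ B₀ (R₁ ⊗[A₀] B₀) u₀ y).symm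
    have h3 : Injective ((((u₀.restrictScalars A₀).baseChange R₁).restrictScalars R₁).lTensor R') := by
      have hc := congrArg (LinearMap.lTensor R') hconj
      rw [LinearMap.lTensor_comp, LinearMap.lTensor_comp] at hc
      have h4 : Injective ((((u₀.restrictScalars A₀).baseChange R₁).restrictScalars R₁).lTensor R' ∘ₗ
          eM.toLinearMap.lTensor R') := by
        rw [hc]
        exact ((LinearEquiv.lTensor R' eN).injective).comp h2
      intro a b hab
      obtain ⟨a', rfl⟩ := (LinearEquiv.lTensor R' eM).surjective a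
      obtain ⟨b', rfl⟩ := (LinearEquiv.lTensor R' eM).surjective b
      exact congrArg _ (h4 hab)
    exact (towerCancel_injective_iff A₀ R₁ R' _).mp h3

end Rebase

section Sys
open Groth.Agent.Lib.Helper12.H12ModLim

variable {A₀ L : Type u} [CommRing A₀] [CommRing L] [Algebra A₀ L]
  {K : Type u} [SmallCategory K] [IsFiltered K]
  (A : K → Type u) [∀ k, CommRing (A k)] [∀ k, Algebra A₀ (A k)]
  (ρ : ∀ k, A k →ₐ[A₀] L) (τ : ∀ {k k' : K}, (k ⟶ k') → (A k →ₐ[A₀] A k'))
  (τ_comp : ∀ {k k' k'' : K} (f : k ⟶ k') (g : k' ⟶ k'') (a : A k), τ (f ≫ g) a = τ g (τ f a))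
  (ρ_τ : ∀ {k k' : K} (f : k ⟶ k') (a : A k), ρ k' (τ f a) = ρ k a)
  (E1 : ∀ b : L, ∃ (k : K) (a : A k), ρ k a = b)
  (E2 : ∀ (k : K) (a : A k), ρ k a = 0 → ∃ (k' : K) (f : k ⟶ k'), τ f a = 0)

include τ_comp ρ_τ E1 E2 in
theorem exists_common_rTensor_eq_zero (N : Type u) [AddCommGroup N] [Module A₀ N]
    {ι : Type*} [DecidableEq ι] (S : Finset ι) (k : K)
    (x : ι → A k ⊗[A₀] N) (hx : ∀ t ∈ S, (ρ k).toLinearMap.rTensor N (x t) = 0) :
    ∃ (k' : K) (f : k ⟶ k'), ∀ t ∈ S, (τ f).toLinearMap.rTensor N (x t) = 0 := by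
  have dir : ∀ k k' : K, ∃ k'' : K, Nonempty (k ⟶ k'') ∧ Nonempty (k' ⟶ k'') := fun k k' =>
    ⟨IsFiltered.max k k', ⟨IsFiltered.leftToMax _ _⟩, ⟨IsFiltered.rightToMax _ _⟩⟩
  have hcomp : ∀ {k k' k'' : K} (f : k ⟶ k') (g : k' ⟶ k''),
      (τ (f ≫ g)).toLinearMap = (τ g).toLinearMap ∘ₗ (τ f).toLinearMap := by
    intro k k' k'' f g
    ext a
    exact τ_comp f g a
  have hρτ : ∀ {k k' : K} (f : k ⟶ k'),
      (ρ k).toLinearMap = (ρ k').toLinearMap ∘ₗ (τ f).toLinearMap := by
    intro k k' f
    ext a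
    exact (ρ_τ f a).symm
  induction S using Finset.induction_on with
  | empty => exact ⟨k, 𝟙 k, fun t ht => absurd ht (Finset.notMem_empty t)⟩
  | insert t₀ S ht₀ ih =>
    obtain ⟨k', f, hf⟩ := ih (fun t ht => hx t (Finset.mem_insert_of_mem ht))
    have h0 : (ρ k').toLinearMap.rTensor N ((τ f).toLinearMap.rTensor N (x t₀)) = 0 := by
      rw [← LinearMap.comp_apply, ← LinearMap.rTensor_comp, ← hρτ]
      exact hx t₀ (Finset.mem_insert_self _ _)
    obtain ⟨k'', g, hg⟩ := exists_rTensor_eq_zero A ρ τ τ_comp ρ_τ dir E1 E2 N k' _ h0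
    refine ⟨k'', f ≫ g, fun t ht => ?_⟩
    rw [hcomp, LinearMap.rTensor_comp, LinearMap.comp_apply]
    rcases Finset.mem_insert.mp ht with rfl | ht
    · exact hg
    · rw [hf t ht, map_zero]

include τ_comp ρ_τ E1 E2 in
/-- **Injectivity descends to a stage** when the cokernel is flat at a stage. -/
theorem exists_stage_injective {B₀ : Type u} [CommRing B₀] [Algebra A₀ B₀]
    [Algebra.FinitePresentation A₀ B₀]
    {M₀ N₀ : Type u} [AddCommGroup M₀] [Module B₀ M₀] [Module A₀ M₀] [IsScalarTower A₀ B₀ M₀]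
    [AddCommGroup N₀] [Module B₀ N₀] [Module A₀ N₀] [IsScalarTower A₀ B₀ N₀]
    [Module.Finite B₀ M₀] [Module.FinitePresentation B₀ N₀] (u₀ : M₀ →ₗ[B₀] N₀)
    (k₁ : K) (hfl : Module.Flat (A k₁) (A k₁ ⊗[A₀] (N₀ ⧸ LinearMap.range u₀)))
    (hinj : Injective ((u₀.restrictScalars A₀).lTensor L)) :
    ∃ (k : K) (_ : k₁ ⟶ k), ∀ (k' : K) (_ : k ⟶ k'),
      Injective ((u₀.restrictScalars A₀).lTensor (A k')) := by
  classical
  obtain ⟨r, z, hz, crit⟩ := exists_kill_criterion' (R₁ := A k₁) u₀ hfl
  have hρ : ∀ j, (ρ k₁).toLinearMap.rTensor M₀ (z j) = 0 := by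
    intro j
    apply hinj
    rw [map_zero, ← LinearMap.comp_apply, LinearMap.lTensor_comp_rTensor,
      ← LinearMap.rTensor_comp_lTensor, LinearMap.comp_apply, hz j, map_zero]
  obtain ⟨k, f, hk⟩ := exists_common_rTensor_eq_zero A ρ τ τ_comp ρ_τ E1 E2 M₀ Finset.univ k₁ z
    (fun j _ => hρ j)
  refine ⟨k, f, fun k' g => ?_⟩
  letI : Algebra (A k₁) (A k') := (τ (f ≫ g)).toRingHom.toAlgebra
  haveI : IsScalarTower A₀ (A k₁) (A k') :=
    IsScalarTower.of_algebraMap_eq fun r => ((τ (f ≫ g)).commutes r).symm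
  refine crit (A k') fun j => ?_
  have e : (IsScalarTower.toAlgHom A₀ (A k₁) (A k')).toLinearMap =
      (τ g).toLinearMap ∘ₗ (τ f).toLinearMap := by
    ext a
    exact τ_comp f g a
  rw [e, LinearMap.rTensor_comp, LinearMap.comp_apply, hk j (Finset.mem_univ j), map_zero]

end Sys


end Groth.Agent.Lib.Helper12.H12FlatInj
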