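import Mathlib
import Groth.Agent.Lib.Helper12.FlatMod1
import Groth.Agent.Lib.Helper12.HomGlue3
import Groth.Agent.Lib.Helper12.ModLim6
import Groth.Agent.Lib.Helper29.QCohFP
import Groth.Agent.Lib.Helper29.QCohCrit

/-! # Stalkwise injectivity of module maps; cokernels (sheaf-level basics) -/

set_option autoImplicit false
universe u

open CategoryTheory CategoryTheory.Limits AlgebraicGeometry TensorProduct Opposite Function
open Groth.Agent.Lib.Helper29.QCoh

namespace Groth.Agent.Lib.Helper12.H12FlatInj


section InjAt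
variable {X : Scheme.{u}}

/-- Injectivity of the stalk map at a point (in the form used by the statements). -/
def InjAt {M N : X.Modules} (φ : M ⟶ N) (x : X) : Prop :=
  Function.Injective ((TopCat.Presheaf.stalkFunctor Ab x).map (Scheme.Modules.Hom.mapPresheaf φ))

theorem injAt_iff_stalkMap {M N : X.Modules} (φ : M ⟶ N) (x : X) :
    InjAt φ x ↔ Function.Injective (stalkMap φ x) := Iff.rfl

theorem mono_iff_injAt {M N : X.Modules} (φ : M ⟶ N) : Mono φ ↔ ∀ x, InjAt φ x :=
  mono_iff_stalkMap_injective φ

theorem injAt_of_arrow_iso {M N M' N' : X.Modules} {φ : M ⟶ N} {φ' : M' ⟶ N'} (e₁ : M ≅ M')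
    (e₂ : N ≅ N') (w : φ ≫ e₂.hom = e₁.hom ≫ φ') (x : X) (h : InjAt φ x) : InjAt φ' x := by
  rw [injAt_iff_stalkMap] at h ⊢
  intro a b hab
  have h1 : ∀ t, stalkMap φ' x t = stalkMap e₂.hom x (stalkMap φ x (stalkMap e₁.inv x t)) := by
    intro t
    rw [← stalkMap_comp_apply, ← stalkMap_comp_apply]
    congr 2
    rw [w, ← Category.assoc, e₁.inv_hom_id, Category.id_comp]
  have hinj2 : Function.Injective (stalkMap e₂.hom x) := by
    intro s t hst
    have := congrArg (stalkMap e₂.inv x) hst
    rwa [← stalkMap_comp_apply, ← stalkMap_comp_apply, e₂.hom_inv_id, stalkMap_id] at this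
  have hinj1 : Function.Injective (stalkMap e₁.inv x) := by
    intro s t hst
    have := congrArg (stalkMap e₁.hom x) hst
    rwa [← stalkMap_comp_apply, ← stalkMap_comp_apply, e₁.inv_hom_id, stalkMap_id] at this
  rw [h1, h1] at hab
  exact hinj1 (h (hinj2 hab))

theorem injAt_arrow_iso_iff {M N M' N' : X.Modules} {φ : M ⟶ N} {φ' : M' ⟶ N'} (e₁ : M ≅ M')
    (e₂ : N ≅ N') (w : φ ≫ e₂.hom = e₁.hom ≫ φ') (x : X) : InjAt φ x ↔ InjAt φ' x := by
  refine ⟨injAt_of_arrow_iso e₁ e₂ w x, injAt_of_arrow_iso e₁.symm e₂.symm ?_ x⟩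
  rw [Iso.symm_hom, Iso.symm_hom, Iso.comp_inv_eq, Category.assoc, w, ← Category.assoc,
    e₁.inv_hom_id, Category.id_comp]

/-- Injectivity on sections over an affine open gives injectivity of the stalk maps there. -/
theorem injAt_of_app_injective {M N : X.Modules} [M.IsQuasicoherent] [N.IsQuasicoherent]
    (φ : M ⟶ N) {U : X.Opens} (hU : IsAffineOpen U) (h : Function.Injective (φ.app U))
    (x : X) (hx : x ∈ U) : InjAt φ x := by
  rw [injAt_iff_stalkMap, injective_iff_map_eq_zero]
  intro t ht
  obtain ⟨r, m, hxr, e⟩ := exists_smul_germ_eq M hU x hx t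
  have hr := isUnit_germ_of_mem_basicOpen r x hx hxr
  have h1 : N.presheaf.germ U x hx (φ.app U m) = 0 := by
    rw [← stalkMap_germ, ← e, stalkMap_smul, ht, smul_zero]
  obtain ⟨r', hxr', e'⟩ := exists_smul_eq_zero_of_germ_eq_zero N hU x hx _ h1
  have hr' := isUnit_germ_of_mem_basicOpen r' x hx hxr'
  rw [← app_smul'] at e'
  have h2 : r' • m = 0 := h (e'.trans (map_zero _).symm)
  have h3 := congrArg (M.presheaf.germ U x hx) h2
  rw [germ_smul, map_zero] at h3
  have h4 := eq_zero_of_isUnit_smul hr' h3
  rw [h4] at e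
  exact eq_zero_of_isUnit_smul hr e

/-- Pointwise injectivity of the stalk maps on an open gives injectivity on sections. -/
theorem app_injective_of_injAt {M N : X.Modules} (φ : M ⟶ N) (U : X.Opens)
    (h : ∀ x ∈ U, InjAt φ x) : Function.Injective (φ.app U) := by
  rw [injective_iff_map_eq_zero]
  intro s hs
  refine eq_zero_of_germ_eq_zero M s fun x hx => ?_
  apply (injAt_iff_stalkMap φ x).mp (h x hx)
  rw [stalkMap_germ, hs, map_zero, map_zero]

end InjAt

section Ab
theorem ab_injective_iff_of_sq {A B A' B' : Ab.{u}} (f : A ⟶ B) (g : A' ⟶ B') (a : A ≅ A')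
    (b : B ≅ B') (w : f ≫ b.hom = a.hom ≫ g) : Function.Injective f ↔ Function.Injective g := by
  have hb : Function.Injective b.hom := by
    intro s t hst
    have := congrArg b.inv hst
    simpa using this
  have ha : Function.Injective a.inv := by
    intro s t hst
    have := congrArg a.hom hst
    simpa using this
  have hb' : Function.Injective b.inv := by
    intro s t hst
    have := congrArg b.hom hst
    simpa using this
  have ha' : Function.Injective a.hom := by
    intro s t hst
    have := congrArg a.inv hst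
    simpa using this
  have e1 : ∀ t, g t = b.hom (f (a.inv t)) := by
    intro t
    have := ConcreteCategory.congr_hom w (a.inv t)
    simp only [ConcreteCategory.comp_apply] at this
    rw [this]
    simp
  have e2 : ∀ t, f t = b.inv (g (a.hom t)) := by
    intro t
    have := ConcreteCategory.congr_hom w t
    simp only [ConcreteCategory.comp_apply] at this
    rw [← this]
    simp
  constructor
  · intro h s t hst
    rw [e1, e1] at hst
    exact ha (h (hb hst))
  · intro h s t hst
    rw [e2, e2] at hst
    exact ha' (h (hb' hst))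
end Ab

section Restrict
variable {U X : Scheme.{u}} (j : U ⟶ X) [IsOpenImmersion j]

theorem injAt_restrictFunctor_iff {M N : X.Modules} (φ : M ⟶ N) (y : U) :
    InjAt ((Scheme.Modules.restrictFunctor j).map φ) y ↔ InjAt φ (j y) := by
  have hn := (Scheme.Modules.restrictStalkNatIso j y).hom.naturality φ
  exact ab_injective_iff_of_sq _ _ ((Scheme.Modules.restrictStalkNatIso j y).app M)
    ((Scheme.Modules.restrictStalkNatIso j y).app N) hn

theorem injAt_pullback_openImmersion_iff {M N : X.Modules} (φ : M ⟶ N) (y : U) :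
    InjAt ((Scheme.Modules.pullback j).map φ) y ↔ InjAt φ (j y) := by
  rw [← injAt_restrictFunctor_iff]
  refine injAt_arrow_iso_iff ((Scheme.Modules.restrictFunctorIsoPullback j).symm.app M)
    ((Scheme.Modules.restrictFunctorIsoPullback j).symm.app N) ?_ y
  exact (Scheme.Modules.restrictFunctorIsoPullback j).symm.hom.naturality φ

end Restrict



section Coker
variable {X : Scheme.{u}}

/-- Sections of a cokernel of quasi-coherent modules over an affine open. -/
theorem nonempty_cokerSectionsEquiv {M N : X.Modules} [M.IsQuasicoherent] [N.IsQuasicoherent]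
    (φ : M ⟶ N) {U : X.Opens} (hU : IsAffineOpen U) :
    Nonempty ((Γ(N, U) ⧸ LinearMap.range (appₗ φ U)) ≃ₗ[Γ(X, U)] Γ(cokernel φ, U)) := by
  have hS : (ShortComplex.mk φ (cokernel.π φ) (cokernel.condition φ)).Exact :=
    ShortComplex.exact_cokernel φ
  have hex : Function.Exact (appₗ φ U) (appₗ (cokernel.π φ) U) :=
    app_exact_of_exact (ShortComplex.mk φ (cokernel.π φ) (cokernel.condition φ)) hS hU
  have hsurj : Function.Surjective (appₗ (cokernel.π φ) U) :=
    app_surjective_of_epi (cokernel.π φ) hU
  exact ⟨(Submodule.quotEquivOfEq _ _ (LinearMap.exact_iff.mp hex).symm).trans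
    ((appₗ (cokernel.π φ) U).quotKerEquivOfSurjective hsurj)⟩

theorem isFinitePresentation_cokernel {M N : X.Modules} [M.IsQuasicoherent] [M.IsFiniteType]
    [N.IsQuasicoherent] [N.IsFinitePresentation] (φ : M ⟶ N) :
    (cokernel φ).IsFinitePresentation := by
  refine isFinitePresentation_of_module_finitePresentation (cokernel φ)
    (fun U : X.affineOpens => (U : X.Opens)) (isOpenCover_affineOpens X) (fun U => U.2)
    (fun U => ?_)
  obtain ⟨e⟩ := nonempty_cokerSectionsEquiv φ U.2
  haveI : Module.Finite Γ(X, (U : X.Opens)) Γ(M, (U : X.Opens)) :=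
    module_finite_of_isFiniteType M U.2
  haveI : Module.FinitePresentation Γ(X, (U : X.Opens)) Γ(N, (U : X.Opens)) :=
    module_finitePresentation_of_isFinitePresentation N U.2
  haveI : Module.FinitePresentation Γ(X, (U : X.Opens))
      (Γ(N, (U : X.Opens)) ⧸ LinearMap.range (appₗ φ (U : X.Opens))) :=
    Module.finitePresentation_of_surjective (LinearMap.range (appₗ φ (U : X.Opens))).mkQ
      (Submodule.mkQ_surjective _)
      (by
        rw [Submodule.ker_mkQ, LinearMap.range_eq_map]
        exact Submodule.FG.map _ Module.Finite.fg_top)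
  exact Module.FinitePresentation.of_equiv e

/-- Pullback commutes with cokernels. -/
noncomputable def cokerPullbackIso {Y : Scheme.{u}} (f : Y ⟶ X) {M N : X.Modules} (φ : M ⟶ N) :
    cokernel ((Scheme.Modules.pullback f).map φ) ≅ (Scheme.Modules.pullback f).obj (cokernel φ) :=
  (PreservesCokernel.iso (Scheme.Modules.pullback f) φ).symm

end Coker


end Groth.Agent.Lib.Helper12.H12FlatInj
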