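import Mathlib
import Groth.Prelude.Def_FlatFun
import Groth.Agent.Lib.Helper12.ModLim5
import Groth.Agent.Lib.Helper12.ModLim1

set_option autoImplicit false
universe u

open CategoryTheory CategoryTheory.Limits AlgebraicGeometry Opposite
open Groth.Agent.Lib.Helper12.H12ModLim Groth.Agent.Lib.Helper29.QCoh

namespace Groth.Agent.Lib.Helper12.H12FlatFunLim

section Gen
variable {S : Scheme.{u}}

/-- Generic criterion: a stable condition that descends to a stage of every affine limit
generates a limit preserving subfunctor of the final functor. -/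
theorem isLimitPreserving_genPSp (P : Over S → Prop)
    (hP : ∀ ⦃T T₀ : Over S⦄ (_ : T ⟶ T₀), P T₀ → P T)
    (hlim : ∀ ⦃I : Type u⦄ [SmallCategory I] [IsCofiltered I] (D : I ⥤ Over S) (c : Cone D),
      IsLimit ((Over.forget S).mapCone c) → (∀ i, IsAffine (D.obj i).left) → IsAffine c.pt.left →
        P c.pt → ∃ i, P (D.obj i)) :
    AlgSp.IsLimitPreserving (FlatFun.genPSp S P) := by
  intro I _ _ D c hc hD hT
  refine ⟨Types.FilteredColimit.isColimitOf _ _ ?_ ?_⟩
  · intro x
    have hx : P c.pt := (FlatFun.genPSp_nonempty_iff_of_stable P hP c.pt).mp ⟨x⟩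
    obtain ⟨i, hi⟩ := hlim D c hc hD hT hx
    obtain ⟨xi⟩ := FlatFun.genPSp_nonempty_of P hi
    exact ⟨op i, xi, (FlatFun.genPSp_subsingleton S P (op c.pt)).elim _ _⟩
  · intro i j xi xj _
    exact ⟨IsFiltered.max i j, IsFiltered.leftToMax i j, IsFiltered.rightToMax i j,
      (FlatFun.genPSp_subsingleton S P (op (D.obj (IsFiltered.max i j).unop))).elim _ _⟩

end Gen

section BC
variable {X S : Scheme.{u}} (f : X ⟶ S)

set_option backward.isDefEq.respectTransparency false in
@[reassoc (attr := simp)]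
theorem XTmap_fst {T T' : Over S} (g : T' ⟶ T) :
    PicF.XTmap f g ≫ pullback.fst f T.hom = pullback.fst f T'.hom := by
  simp [PicF.XTmap]

set_option backward.isDefEq.respectTransparency false in
@[reassoc (attr := simp)]
theorem XTmap_snd {T T' : Over S} (g : T' ⟶ T) :
    PicF.XTmap f g ≫ pullback.snd f T.hom = pullback.snd f T'.hom ≫ g.left := by
  simp [PicF.XTmap]

theorem XTmap_id (T : Over S) : PicF.XTmap f (𝟙 T) = 𝟙 _ := by
  apply pullback.hom_ext
  · rw [XTmap_fst, Category.id_comp]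
  · rw [XTmap_snd, Category.id_comp]; exact Category.comp_id _

theorem XTmap_comp {T T' T'' : Over S} (g : T'' ⟶ T') (h : T' ⟶ T) :
    PicF.XTmap f (g ≫ h) = PicF.XTmap f g ≫ PicF.XTmap f h := by
  apply pullback.hom_ext
  · rw [XTmap_fst, Category.assoc, XTmap_fst, XTmap_fst]
  · rw [XTmap_snd, Category.assoc, XTmap_snd, XTmap_snd_assoc]; rfl

theorem XTmap_isPullback {T T' : Over S} (g : T' ⟶ T) :
    IsPullback (PicF.XTmap f g) (pullback.snd f T'.hom) (pullback.snd f T.hom) g.left := by
  refine IsPullback.of_right (h₁₂ := pullback.fst f T.hom) (v₁₃ := f) (h₂₂ := T.hom) ?_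
    (XTmap_snd f g) (IsPullback.of_hasPullback f T.hom)
  rw [XTmap_fst, Over.w g]
  exact IsPullback.of_hasPullback f T'.hom

variable {I : Type u} [SmallCategory I] (D : I ⥤ Over S) (c : Cone D)

/-- The base-changed diagram `i ↦ X ×_S T_i`. -/
noncomputable def bcD : I ⥤ Scheme.{u} where
  obj i := PicF.XT f (D.obj i)
  map φ := PicF.XTmap f (D.map φ)
  map_id i := by rw [D.map_id, XTmap_id]
  map_comp φ ψ := by rw [D.map_comp, XTmap_comp]

noncomputable def bcα : bcD f D ⟶ D ⋙ Over.forget S where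
  app i := pullback.snd f (D.obj i).hom
  naturality i j φ := XTmap_snd f (D.map φ)

noncomputable def bcC : Cone (bcD f D) where
  pt := PicF.XT f c.pt
  π :=
    { app := fun i => PicF.XTmap f (c.π.app i)
      naturality := fun i j φ => by
        change 𝟙 _ ≫ PicF.XTmap f (c.π.app j) = PicF.XTmap f (c.π.app i) ≫ PicF.XTmap f (D.map φ)
        rw [Category.id_comp, ← XTmap_comp, c.w] }

theorem bcC_fst (i : I) : (bcC f D c).π.app i ≫ pullback.fst f (D.obj i).hom =
    pullback.fst f c.pt.hom := XTmap_fst f _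

theorem bcD_map_fst {i j : I} (φ : i ⟶ j) : (bcD f D).map φ ≫ pullback.fst f (D.obj j).hom =
    pullback.fst f (D.obj i).hom := XTmap_fst f _

noncomputable def bcConeHom :
    (Cone.postcompose (bcα f D)).obj (bcC f D c) ⟶ (Over.forget S).mapCone c where
  hom := pullback.snd f c.pt.hom
  w := fun j => (XTmap_snd f (c.π.app j)).symm

noncomputable def bcIsLimit [IsCofiltered I] (hc : IsLimit ((Over.forget S).mapCone c)) :
    IsLimit (bcC f D c) := by
  haveI : IsConnected I := IsCofiltered.isConnected I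
  exact isLimitOfIsPullbackOfIsConnected (bcα f D) (bcC f D c) ((Over.forget S).mapCone c)
    (bcConeHom f D c) (fun j ↦ XTmap_isPullback f (c.π.app j)) hc

theorem isAffineHom_bcD_map (hD : ∀ i, IsAffine (D.obj i).left) {i j : I} (φ : i ⟶ j) :
    IsAffineHom ((bcD f D).map φ) := by
  haveI := hD i
  haveI := hD j
  exact MorphismProperty.of_isPullback (XTmap_isPullback f (D.map φ)).flip inferInstance

end BC

section Main
variable {X S : Scheme.{u}} (f : X ⟶ S) {F G : X.Modules} (u : F ⟶ G)

theorem epi_pullback_map_comp_iff {X Y Z : Scheme.{u}} (f : X ⟶ Y) (g : Y ⟶ Z) (h : X ⟶ Z)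
    (w : f ≫ g = h) {M N : Z.Modules} (a : M ⟶ N) :
    Epi ((Scheme.Modules.pullback f).map ((Scheme.Modules.pullback g).map a)) ↔
      Epi ((Scheme.Modules.pullback h).map a) := by
  subst w
  exact (MorphismProperty.epimorphisms _).arrow_mk_iso_iff
    (Arrow.isoMk ((Scheme.Modules.pullbackComp f g).app M) ((Scheme.Modules.pullbackComp f g).app N)
      ((Scheme.Modules.pullbackComp f g).hom.naturality a).symm)

theorem isIso_stable ⦃T T₀ : Over S⦄ (g : T ⟶ T₀)
    (h : IsIso ((Scheme.Modules.pullback (pullback.fst f T₀.hom)).map u)) :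
    IsIso ((Scheme.Modules.pullback (pullback.fst f T.hom)).map u) := by
  haveI := h
  exact (isIso_pullback_map_comp_iff (PicF.XTmap f g) (pullback.fst f T₀.hom)
    (pullback.fst f T.hom) (XTmap_fst f g) u).mp inferInstance

theorem epi_stable ⦃T T₀ : Over S⦄ (g : T ⟶ T₀)
    (h : Epi ((Scheme.Modules.pullback (pullback.fst f T₀.hom)).map u)) :
    Epi ((Scheme.Modules.pullback (pullback.fst f T.hom)).map u) := by
  haveI := h
  exact (epi_pullback_map_comp_iff (PicF.XTmap f g) (pullback.fst f T₀.hom)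
    (pullback.fst f T.hom) (XTmap_fst f g) u).mp inferInstance

theorem zero_stable ⦃T T₀ : Over S⦄ (g : T ⟶ T₀)
    (h : (Scheme.Modules.pullback (pullback.fst f T₀.hom)).map u = 0) :
    (Scheme.Modules.pullback (pullback.fst f T.hom)).map u = 0 := by
  refine (pullback_map_comp_eq_zero_iff (PicF.XTmap f g) (pullback.fst f T₀.hom)
    (pullback.fst f T.hom) (XTmap_fst f g) u).mp ?_
  rw [h, Functor.map_zero]

variable [QuasiCompact f] {I : Type u} [SmallCategory I] [IsCofiltered I] (D : I ⥤ Over S)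
  (c : Cone D) (hc : IsLimit ((Over.forget S).mapCone c)) (hD : ∀ i, IsAffine (D.obj i).left)

include hD in
theorem compactSpace_bcD (i₀ : I) : CompactSpace ((bcD f D).obj i₀) := by
  haveI := hD i₀
  have h : CompactSpace ↥(pullback f (D.obj i₀).hom) :=
    QuasiCompact.compactSpace_of_compactSpace (pullback.snd f (D.obj i₀).hom)
  exact h

/-- The module `F` pulled back to stage `i₀`, typed as a module on `(bcD f D).obj i₀`. -/
noncomputable abbrev stM (F : X.Modules) (i₀ : I) : ((bcD f D).obj i₀).Modules :=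
  (Scheme.Modules.pullback (pullback.fst f (D.obj i₀).hom)).obj F

noncomputable abbrev stu (i₀ : I) : stM f D F i₀ ⟶ stM f D G i₀ :=
  (Scheme.Modules.pullback (pullback.fst f (D.obj i₀).hom)).map u

instance [F.IsQuasicoherent] (i₀ : I) : (stM f D F i₀).IsQuasicoherent :=
  isQuasicoherent_pullback _ _
instance [F.IsQuasicoherent] [F.IsFiniteType] (i₀ : I) : (stM f D F i₀).IsFiniteType :=
  isFiniteType_pullback _ _
instance [F.IsFinitePresentation] (i₀ : I) : (stM f D F i₀).IsFinitePresentation :=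
  isFinitePresentation_pullback _ _

include hc hD in
theorem isIso_stage [F.IsQuasicoherent] [G.IsQuasicoherent] [F.IsFiniteType]
    [G.IsFinitePresentation]
    (h : IsIso ((Scheme.Modules.pullback (pullback.fst f c.pt.hom)).map u)) :
    ∃ i, IsIso ((Scheme.Modules.pullback (pullback.fst f (D.obj i).hom)).map u) := by
  obtain ⟨i₀⟩ := IsCofiltered.nonempty (C := I)
  haveI := compactSpace_bcD f D hD i₀
  have h1 : IsIso ((Scheme.Modules.pullback ((bcC f D c).π.app i₀)).map (stu f u D i₀)) :=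
    (isIso_pullback_map_comp_iff ((bcC f D c).π.app i₀)
      (pullback.fst f (D.obj i₀).hom) _ (bcC_fst f D c i₀) u).mpr h
  haveI : ∀ (i j : I) (a : i ⟶ j), IsAffineHom ((bcD f D).map a) :=
    fun i j a => isAffineHom_bcD_map f D hD a
  obtain ⟨j, φ, hj⟩ := (isIso_pullback_iff_stage (bcD f D) (bcC f D c) (bcIsLimit f D c hc) i₀
    (stu f u D i₀)).mp h1
  exact ⟨j, (isIso_pullback_map_comp_iff ((bcD f D).map φ) _ _ (bcD_map_fst f D φ) u).mp hj⟩

include hc hD in
theorem epi_stage [F.IsQuasicoherent] [G.IsQuasicoherent] [G.IsFiniteType]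
    (h : Epi ((Scheme.Modules.pullback (pullback.fst f c.pt.hom)).map u)) :
    ∃ i, Epi ((Scheme.Modules.pullback (pullback.fst f (D.obj i).hom)).map u) := by
  obtain ⟨i₀⟩ := IsCofiltered.nonempty (C := I)
  haveI := compactSpace_bcD f D hD i₀
  have h1 : Epi ((Scheme.Modules.pullback ((bcC f D c).π.app i₀)).map (stu f u D i₀)) :=
    (epi_pullback_map_comp_iff ((bcC f D c).π.app i₀)
      (pullback.fst f (D.obj i₀).hom) _ (bcC_fst f D c i₀) u).mpr h
  haveI : ∀ (i j : I) (a : i ⟶ j), IsAffineHom ((bcD f D).map a) :=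
    fun i j a => isAffineHom_bcD_map f D hD a
  obtain ⟨j, φ, hj⟩ := (epi_pullback_iff_stage (bcD f D) (bcC f D c) (bcIsLimit f D c hc) i₀
    (stu f u D i₀)).mp h1
  exact ⟨j, (epi_pullback_map_comp_iff ((bcD f D).map φ) _ _ (bcD_map_fst f D φ) u).mp hj⟩

include hc hD in
theorem zero_stage [F.IsQuasicoherent] [G.IsQuasicoherent] [F.IsFiniteType]
    (h : (Scheme.Modules.pullback (pullback.fst f c.pt.hom)).map u = 0) :
    ∃ i, (Scheme.Modules.pullback (pullback.fst f (D.obj i).hom)).map u = 0 := by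
  obtain ⟨i₀⟩ := IsCofiltered.nonempty (C := I)
  haveI := compactSpace_bcD f D hD i₀
  have h1 : (Scheme.Modules.pullback ((bcC f D c).π.app i₀)).map (stu f u D i₀) = 0 :=
    (pullback_map_comp_eq_zero_iff ((bcC f D c).π.app i₀)
      (pullback.fst f (D.obj i₀).hom) _ (bcC_fst f D c i₀) u).mpr h
  have h2 : (Scheme.Modules.pullback ((bcC f D c).π.app i₀)).map (stu f u D i₀) =
      (Scheme.Modules.pullback ((bcC f D c).π.app i₀)).map 0 := by
    rw [h1, Functor.map_zero]
  haveI : ∀ (i j : I) (a : i ⟶ j), IsAffineHom ((bcD f D).map a) :=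
    fun i j a => isAffineHom_bcD_map f D hD a
  obtain ⟨j, φ, hj⟩ := (pullback_map_eq_iff_stage (bcD f D) (bcC f D c) (bcIsLimit f D c hc) i₀
    (stu f u D i₀) 0).mp h2
  rw [Functor.map_zero] at hj
  exact ⟨j, (pullback_map_comp_eq_zero_iff ((bcD f D).map φ) _ _ (bcD_map_fst f D φ) u).mp hj⟩

end Main

end Groth.Agent.Lib.Helper12.H12FlatFunLim
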