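import Mathlib
import Groth.Agent.S4848

set_option autoImplicit false
universe u

open CategoryTheory TensorProduct

namespace Groth.Agent.Lib.Helper12.H12FlatStage

section Sys

variable {A₀ B : Type u} [CommRing A₀] [CommRing B] [Algebra A₀ B]
  {K : Type u} [SmallCategory K] [IsFiltered K]
  (A : K → Type u) [∀ k, CommRing (A k)] [∀ k, Algebra A₀ (A k)]
  (ρ : ∀ k, A k →ₐ[A₀] B) (τ : ∀ {k k' : K}, (k ⟶ k') → (A k →ₐ[A₀] A k'))
  (τ_id : ∀ (k : K) (a : A k), τ (𝟙 k) a = a)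
  (τ_comp : ∀ {k k' k'' : K} (f : k ⟶ k') (g : k' ⟶ k'') (a : A k), τ (f ≫ g) a = τ g (τ f a))
  (ρ_τ : ∀ {k k' : K} (f : k ⟶ k') (a : A k), ρ k' (τ f a) = ρ k a)
  (E1 : ∀ b : B, ∃ (k : K) (a : A k), ρ k a = b)
  (E2 : ∀ (k : K) (a : A k), ρ k a = 0 → ∃ (k' : K) (f : k ⟶ k'), τ f a = 0)

include τ_id τ_comp ρ_τ E1 E2 in
/-- Category-indexed form of S4848 (EGA IV 11.2.6, ring level). -/
theorem exists_stage_flat {B₀ : Type u} [CommRing B₀] [Algebra A₀ B₀]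
    [Algebra.FinitePresentation A₀ B₀]
    (M₀ : Type u) [AddCommGroup M₀] [Module B₀ M₀] [Module A₀ M₀] [IsScalarTower A₀ B₀ M₀]
    [Module.FinitePresentation B₀ M₀] (h : Module.Flat B (B ⊗[A₀] M₀)) :
    ∃ k : K, Module.Flat (A k) (A k ⊗[A₀] M₀) := by
  obtain ⟨α, _, hdir, hne, Φ, hΦ⟩ := IsFiltered.exists_directed K
  haveI : IsFiltered α := by
    haveI := hdir; haveI := hne
    exact isFiltered_of_directed_le_nonempty α
  obtain ⟨hΦ1, hΦ2⟩ := (Functor.final_iff_of_isFiltered Φ).mp hΦ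
  letI : ∀ a : α, Algebra (A (Φ.obj a)) B := fun a => (ρ (Φ.obj a)).toRingHom.toAlgebra
  haveI : ∀ a : α, IsScalarTower A₀ (A (Φ.obj a)) B := fun a =>
    IsScalarTower.of_algebraMap_eq fun r => ((ρ (Φ.obj a)).commutes r).symm
  have hcolim : FlatCA.IsDirectedColimitRing (fun a : α => A (Φ.obj a))
      (fun a b hab => (τ (Φ.map (homOfLE hab))).toRingHom) B := by
    refine ⟨hdir, hne, ?_, ?_, ?_, ?_, ?_⟩
    · intro a
      ext x
      have : homOfLE (le_refl a) = 𝟙 a := rfl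
      change τ (Φ.map (homOfLE (le_refl a))) x = x
      rw [this, Φ.map_id, τ_id]
    · intro a b c hab hbc
      ext x
      change τ (Φ.map (homOfLE hbc)) (τ (Φ.map (homOfLE hab)) x) = τ (Φ.map (homOfLE (hab.trans hbc))) x
      rw [← τ_comp, ← Φ.map_comp]
      rfl
    · intro a b hab
      ext x
      change ρ (Φ.obj b) (τ (Φ.map (homOfLE hab)) x) = ρ (Φ.obj a) x
      rw [ρ_τ]
    · intro b
      obtain ⟨k, x, hx⟩ := E1 b
      obtain ⟨a, ⟨m⟩⟩ := hΦ1 k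
      refine ⟨a, τ m x, ?_⟩
      change ρ (Φ.obj a) (τ m x) = b
      rw [ρ_τ, hx]
    · intro a x hx
      have hx' : ρ (Φ.obj a) x = 0 := hx
      obtain ⟨k', f, hf⟩ := E2 _ x hx'
      obtain ⟨b, ⟨m⟩⟩ := hΦ1 k'
      obtain ⟨b', hab', hbb'⟩ := hdir.directed a b
      obtain ⟨c', t, ht⟩ := hΦ2 (f ≫ m ≫ Φ.map (homOfLE hbb')) (Φ.map (homOfLE hab'))
      refine ⟨c', hab'.trans (leOfHom t), ?_⟩
      change τ (Φ.map (homOfLE (hab'.trans (leOfHom t)))) x = 0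
      have e1 : Φ.map (homOfLE (hab'.trans (leOfHom t))) = Φ.map (homOfLE hab') ≫ Φ.map t := by
        rw [← Φ.map_comp]; rfl
      rw [e1, ← ht, Category.assoc, τ_comp, hf, map_zero]
  obtain ⟨a, ha⟩ := (Groth.Agent.S4848.result (A₀ := A₀) (fun a : α => A (Φ.obj a))
    (fun a b hab => τ (Φ.map (homOfLE hab))) B hcolim (B₀ := B₀) M₀).mp h
  exact ⟨Φ.obj a, ha⟩

end Sys

end Groth.Agent.Lib.Helper12.H12FlatStage
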