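import Mathlib
import Groth.Prelude.Def_FlatMod2
import Groth.Agent.Lib.Helper8.FlatAffine
import Groth.Agent.Lib.Helper29.QCohPullback

set_option autoImplicit false
universe u

open CategoryTheory CategoryTheory.Limits AlgebraicGeometry TensorProduct
open Groth.Agent.Lib.Helper29.QCoh

namespace Groth.Agent.Lib.Helper12.H12FlatStage

section Chart
variable {Xk X₀ Sk S₀ : Scheme.{u}} {pX : Xk ⟶ X₀} {fk : Xk ⟶ Sk} {f₀ : X₀ ⟶ S₀} {t : Sk ⟶ S₀}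
  (H : IsPullback pX fk f₀ t) (F₀ : X₀.Modules) [F₀.IsQuasicoherent]
  {V : S₀.Opens} {W : X₀.Opens} {Vk : Sk.Opens}
  (hV : IsAffineOpen V) (hW : IsAffineOpen W) (hVk : IsAffineOpen Vk)
  (hWV : W ≤ f₀ ⁻¹ᵁ V) (hVkV : Vk ≤ t ⁻¹ᵁ V)

include H hV hW hVk hWV hVkV in
theorem isAffineOpen_chart : IsAffineOpen (pX ⁻¹ᵁ W ⊓ fk ⁻¹ᵁ Vk) := by
  have : IsAffine W.toScheme := hW
  have : IsAffine Vk.toScheme := hVk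
  have : IsAffine V.toScheme := hV
  have hP := Scheme.Hom.isPullback_resLE H hVkV hWV (UY := pX ⁻¹ᵁ W ⊓ fk ⁻¹ᵁ Vk) rfl
  exact IsAffine.of_isPullback hP

include H hV hW hVk in
/-- Sections of the pulled-back module on the chart, as a module over the base chart ring. -/
theorem nonempty_chart_equiv :
    letI := (t.appLE V Vk hVkV).hom.toAlgebra
    letI := Module.compHom Γ(F₀, W) (f₀.appLE V W hWV).hom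
    letI := Module.compHom Γ((Scheme.Modules.pullback pX).obj F₀, pX ⁻¹ᵁ W ⊓ fk ⁻¹ᵁ Vk)
      (fk.appLE Vk (pX ⁻¹ᵁ W ⊓ fk ⁻¹ᵁ Vk) inf_le_right).hom
    Nonempty (Γ((Scheme.Modules.pullback pX).obj F₀, pX ⁻¹ᵁ W ⊓ fk ⁻¹ᵁ Vk) ≃ₗ[Γ(Sk, Vk)]
      Γ(Sk, Vk) ⊗[Γ(S₀, V)] Γ(F₀, W)) := by
  letI a1 := (f₀.appLE V W hWV).hom.toAlgebra
  letI a2 := (t.appLE V Vk hVkV).hom.toAlgebra
  letI a3 := (pX.appLE W (pX ⁻¹ᵁ W ⊓ fk ⁻¹ᵁ Vk) inf_le_left).hom.toAlgebra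
  letI a4 := (fk.appLE Vk (pX ⁻¹ᵁ W ⊓ fk ⁻¹ᵁ Vk) inf_le_right).hom.toAlgebra
  letI a5 := ((f₀.appLE V W hWV) ≫ (pX.appLE W (pX ⁻¹ᵁ W ⊓ fk ⁻¹ᵁ Vk) inf_le_left)).hom.toAlgebra
  haveI t1 : IsScalarTower Γ(S₀, V) Γ(X₀, W) Γ(Xk, pX ⁻¹ᵁ W ⊓ fk ⁻¹ᵁ Vk) :=
    IsScalarTower.of_algebraMap_eq fun r => rfl
  haveI t2 : IsScalarTower Γ(S₀, V) Γ(Sk, Vk) Γ(Xk, pX ⁻¹ᵁ W ⊓ fk ⁻¹ᵁ Vk) := by
    refine IsScalarTower.of_algebraMap_eq fun r => ?_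
    change ((f₀.appLE V W hWV) ≫ (pX.appLE W (pX ⁻¹ᵁ W ⊓ fk ⁻¹ᵁ Vk) inf_le_left)) r =
      ((t.appLE V Vk hVkV) ≫ (fk.appLE Vk (pX ⁻¹ᵁ W ⊓ fk ⁻¹ᵁ Vk) inf_le_right)) r
    simp only [Scheme.Hom.appLE_comp_appLE, H.w]
  have h1 := (isIso_pushoutSection_iff H hVkV hWV (UY := pX ⁻¹ᵁ W ⊓ fk ⁻¹ᵁ Vk) rfl).mp
    (isIso_pushoutSection_of_isAffineOpen H hVkV hWV rfl hV hVk hW)
  have h2 : Algebra.IsPushout Γ(S₀, V) Γ(X₀, W) Γ(Sk, Vk) Γ(Xk, pX ⁻¹ᵁ W ⊓ fk ⁻¹ᵁ Vk) :=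
    CommRingCat.isPushout_iff_isPushout.mp h1
  haveI h3 : Algebra.IsPushout Γ(S₀, V) Γ(Sk, Vk) Γ(X₀, W) Γ(Xk, pX ⁻¹ᵁ W ⊓ fk ⁻¹ᵁ Vk) := h2.symm
  letI m1 : Module Γ(S₀, V) Γ(F₀, W) := Module.compHom Γ(F₀, W) (f₀.appLE V W hWV).hom
  haveI t3 : IsScalarTower Γ(S₀, V) Γ(X₀, W) Γ(F₀, W) :=
    IsScalarTower.of_algebraMap_smul fun r m => rfl
  letI m2 : Module Γ(Sk, Vk) Γ((Scheme.Modules.pullback pX).obj F₀, pX ⁻¹ᵁ W ⊓ fk ⁻¹ᵁ Vk) :=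
    Module.compHom _ (fk.appLE Vk (pX ⁻¹ᵁ W ⊓ fk ⁻¹ᵁ Vk) inf_le_right).hom
  haveI t4 : IsScalarTower Γ(Sk, Vk) Γ(Xk, pX ⁻¹ᵁ W ⊓ fk ⁻¹ᵁ Vk)
      Γ((Scheme.Modules.pullback pX).obj F₀, pX ⁻¹ᵁ W ⊓ fk ⁻¹ᵁ Vk) :=
    IsScalarTower.of_algebraMap_smul fun r m => rfl
  have hWk := isAffineOpen_chart H hV hW hVk hWV hVkV
  let e1 := pullbackSectionsEquiv pX F₀ hWk hW inf_le_left
  let e2 := Algebra.IsPushout.cancelBaseChange Γ(S₀, V) Γ(Sk, Vk) Γ(X₀, W)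
    Γ(Xk, pX ⁻¹ᵁ W ⊓ fk ⁻¹ᵁ Vk) Γ(F₀, W)
  exact ⟨(e1.restrictScalars Γ(Sk, Vk)).trans e2⟩

include H hV hW hVk in
theorem chart_flat_iff :
    letI := (t.appLE V Vk hVkV).hom.toAlgebra
    letI := Module.compHom Γ(F₀, W) (f₀.appLE V W hWV).hom
    (∀ x ∈ pX ⁻¹ᵁ W ⊓ fk ⁻¹ᵁ Vk,
        FlatMod.IsFlatOverAt fk ((Scheme.Modules.pullback pX).obj F₀) x) ↔
      Module.Flat Γ(Sk, Vk) (Γ(Sk, Vk) ⊗[Γ(S₀, V)] Γ(F₀, W)) := by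
  letI a2 := (t.appLE V Vk hVkV).hom.toAlgebra
  letI m1 : Module Γ(S₀, V) Γ(F₀, W) := Module.compHom Γ(F₀, W) (f₀.appLE V W hWV).hom
  letI m2 : Module Γ(Sk, Vk) Γ((Scheme.Modules.pullback pX).obj F₀, pX ⁻¹ᵁ W ⊓ fk ⁻¹ᵁ Vk) :=
    Module.compHom _ (fk.appLE Vk (pX ⁻¹ᵁ W ⊓ fk ⁻¹ᵁ Vk) inf_le_right).hom
  obtain ⟨e⟩ := nonempty_chart_equiv H F₀ hV hW hVk hWV hVkV
  have hWk := isAffineOpen_chart H hV hW hVk hWV hVkV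
  constructor
  · intro h
    have h1 := Groth.Agent.Lib.Helper8.FlatAffine.flat_sections_of_isFlatOverAt
      (f := fk) (F := (Scheme.Modules.pullback pX).obj F₀) hWk hVk inf_le_right h
    exact Module.Flat.of_linearEquiv e.symm
  · intro h x hx
    have h1 : Module.Flat Γ(Sk, Vk)
        Γ((Scheme.Modules.pullback pX).obj F₀, pX ⁻¹ᵁ W ⊓ fk ⁻¹ᵁ Vk) :=
      Module.Flat.of_linearEquiv e
    exact Groth.Agent.Lib.Helper8.FlatAffine.isFlatOverAt_of_flat_sections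
      (f := fk) (F := (Scheme.Modules.pullback pX).obj F₀) hWk hVk inf_le_right x hx h1

end Chart

end Groth.Agent.Lib.Helper12.H12FlatStage
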