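import Mathlib
import Groth.Agent.Lib.Helper12.FlatStage1
import Groth.Agent.Lib.Helper12.FlatStage2
import Groth.Agent.Lib.Helper12.ModLim3
import Groth.Agent.Lib.Helper29.QCohFP2

set_option autoImplicit false
universe u

open CategoryTheory CategoryTheory.Limits AlgebraicGeometry TensorProduct Opposite
open Groth.Agent.Lib.Helper29.QCoh Groth.Agent.Lib.Helper12.H12ModLim

namespace Groth.Agent.Lib.Helper12.H12FlatStage

section BC

/-- Flatness of `A ⊗ M` is stable under enlarging `A`. -/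
theorem flat_tensor_of_algHom {R A A' M : Type u} [CommRing R] [CommRing A] [CommRing A']
    [Algebra R A] [Algebra R A'] (φ : A →ₐ[R] A') [AddCommGroup M] [Module R M]
    (h : Module.Flat A (A ⊗[R] M)) : Module.Flat A' (A' ⊗[R] M) := by
  letI := φ.toRingHom.toAlgebra
  haveI : IsScalarTower R A A' := IsScalarTower.of_algebraMap_eq fun r => (φ.commutes r).symm
  exact Module.Flat.of_linearEquiv
    (TensorProduct.AlgebraTensorModule.cancelBaseChange R A A' A' M).symm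

end BC

section Sys
variable {I : Type u} [SmallCategory I] (D : I ⥤ Scheme.{u}) (i₀ : I) (V : (D.obj i₀).Opens)

theorem appLE_id {X : Scheme.{u}} (U W : X.Opens) (e : W ≤ (𝟙 X) ⁻¹ᵁ U) (a : Γ(X, U)) :
    (𝟙 X : X ⟶ X).appLE U W e a = X.presheaf.map (homOfLE e).op a := by
  simp [Scheme.Hom.appLE]
  rfl

theorem stτ_id (k : (Over i₀)ᵒᵖ) (a : StA D i₀ V k) : stτ D i₀ V (𝟙 k) a = a := by
  rw [stτ_apply]
  have h1 : D.map (𝟙 k : k ⟶ k).unop.left = 𝟙 _ := by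
    change D.map (𝟙 _) = _
    exact D.map_id _
  have := appLE_congr_hom h1 (D.map k.unop.hom ⁻¹ᵁ V) (D.map k.unop.hom ⁻¹ᵁ V)
    (by rw [← Scheme.Hom.comp_preimage, ← D.map_comp, Over.w (𝟙 k : k ⟶ k).unop]) le_rfl
  rw [ConcreteCategory.congr_hom this a, appLE_id]
  exact ConcreteCategory.congr_hom ((D.obj k.unop.left).presheaf.map_id _) a

end Sys

section Main
variable {I : Type u} [SmallCategory I] [IsCofiltered I] (D : I ⥤ Scheme.{u}) (c : Cone D)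
  (hc : IsLimit c) [∀ (i j : I) (a : i ⟶ j), IsAffineHom (D.map a)]
  (i₀ : I) {X₀ : Scheme.{u}} (f₀ : X₀ ⟶ D.obj i₀) [LocallyOfFinitePresentation f₀]
  (F₀ : X₀.Modules) [F₀.IsQuasicoherent] [F₀.IsFinitePresentation]

include hc in
/-- One chart: flatness in the limit on the chart gives ring-level flatness at a stage. -/
theorem exists_stage_chart {V : (D.obj i₀).Opens} {W : X₀.Opens} (hV : IsAffineOpen V)
    (hW : IsAffineOpen W) (hWV : W ≤ f₀ ⁻¹ᵁ V)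
    {X : Scheme.{u}} {qX : X ⟶ X₀} {f : X ⟶ c.pt} (hX : IsPullback qX f f₀ (c.π.app i₀))
    (hfl : ∀ x ∈ qX ⁻¹ᵁ W ⊓ f ⁻¹ᵁ (c.π.app i₀ ⁻¹ᵁ V),
      FlatMod.IsFlatOverAt f ((Scheme.Modules.pullback qX).obj F₀) x) :
    letI := Module.compHom Γ(F₀, W) (f₀.appLE V W hWV).hom
    ∃ k : (Over i₀)ᵒᵖ,
      Module.Flat (StA D i₀ V k) (StA D i₀ V k ⊗[Γ(D.obj i₀, V)] Γ(F₀, W)) := by
  haveI hA : ∀ {i j : I} (f : i ⟶ j), IsAffineHom (D.map f) := fun f => inferInstance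
  haveI := isAffineHom_π_app D c hc i₀
  have hVk : IsAffineOpen (c.π.app i₀ ⁻¹ᵁ V) := hV.preimage _
  letI m1 : Module Γ(D.obj i₀, V) Γ(F₀, W) := Module.compHom Γ(F₀, W) (f₀.appLE V W hWV).hom
  have h1 := (chart_flat_iff hX F₀ hV hW hVk hWV le_rfl).mp hfl
  have h2 : Module.Flat (StB D c i₀ V) (StB D c i₀ V ⊗[Γ(D.obj i₀, V)] Γ(F₀, W)) := h1
  letI a1 : Algebra Γ(D.obj i₀, V) Γ(X₀, W) := (f₀.appLE V W hWV).hom.toAlgebra
  haveI : Algebra.FinitePresentation Γ(D.obj i₀, V) Γ(X₀, W) :=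
    LocallyOfFinitePresentation.finitePresentation_appLE f₀ hV hW hWV
  haveI : IsScalarTower Γ(D.obj i₀, V) Γ(X₀, W) Γ(F₀, W) :=
    IsScalarTower.of_algebraMap_smul fun r m => rfl
  haveI : Module.FinitePresentation Γ(X₀, W) Γ(F₀, W) :=
    module_finitePresentation_of_isFinitePresentation F₀ hW
  refine exists_stage_flat (StA D i₀ V) (stρ D c i₀ V) (fun f => stτ D i₀ V f)
    (stτ_id D i₀ V) (fun f g a => stτ_comp D i₀ V f g a) (fun f a => stρ_τ D c i₀ V f a)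
    ?_ ?_ (B₀ := Γ(X₀, W)) Γ(F₀, W) h2
  · intro b
    obtain ⟨k, a, ha⟩ := exists_appLE_eq D c hc i₀ V hV b
    exact ⟨op k, a, (stρ_apply D c i₀ V (op k) a).trans ha⟩
  · intro k a ha
    rw [stρ_apply] at ha
    obtain ⟨k', g, hg⟩ := exists_appLE_eq_zero D c hc i₀ V hV k.unop a ha
    exact ⟨op k', g.op, (stτ_apply D i₀ V g.op a).trans hg⟩

include hc in
/-- **Flatness of a finitely presented module descends to a stage** (global form, quasi-compact
source). -/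
theorem exists_stage_isFlatOver [CompactSpace X₀]
    {X : Scheme.{u}} {qX : X ⟶ X₀} {f : X ⟶ c.pt} (hX : IsPullback qX f f₀ (c.π.app i₀))
    (hfl : FlatMod.IsFlatOver f ((Scheme.Modules.pullback qX).obj F₀)) :
    ∃ (k : I) (φ : k ⟶ i₀), ∀ {Xk : Scheme.{u}} (pX : Xk ⟶ X₀) (fk : Xk ⟶ D.obj k),
      IsPullback pX fk f₀ (D.map φ) →
        FlatMod.IsFlatOver fk ((Scheme.Modules.pullback pX).obj F₀) := by
  classical
  choose W V hW hV hxW hWV using fun x : X₀ => exists_affine_pair f₀ x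
  obtain ⟨t, ht⟩ := isCompact_univ.elim_finite_subcover (fun x => (W x : Set X₀))
    (fun x => (W x).isOpen) (fun x _ => Set.mem_iUnion.mpr ⟨x, hxW x⟩)
  have key : ∀ x : X₀, ∃ k : (Over i₀)ᵒᵖ,
      letI := Module.compHom Γ(F₀, W x) (f₀.appLE (V x) (W x) (hWV x)).hom
      Module.Flat (StA D i₀ (V x) k) (StA D i₀ (V x) k ⊗[Γ(D.obj i₀, V x)] Γ(F₀, W x)) :=
    fun x => exists_stage_chart D c hc i₀ f₀ F₀ (hV x) (hW x) (hWV x) hX (fun y _ => hfl y)
  choose kk hkk using key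
  obtain ⟨k, hk⟩ := IsCofiltered.inf_objs_exists (t.image (fun x => (kk x).unop))
  refine ⟨k.left, k.hom, fun {Xk} pX fk H x' => ?_⟩
  obtain ⟨x, hxt, hx⟩ : ∃ x ∈ t, pX x' ∈ W x := by
    have := ht (Set.mem_univ (pX x'))
    simpa using this
  obtain ⟨g⟩ := hk (Finset.mem_image_of_mem _ hxt)
  letI m1 : Module Γ(D.obj i₀, V x) Γ(F₀, W x) :=
    Module.compHom Γ(F₀, W x) (f₀.appLE (V x) (W x) (hWV x)).hom
  have h1 : Module.Flat (StA D i₀ (V x) (op k))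
      (StA D i₀ (V x) (op k) ⊗[Γ(D.obj i₀, V x)] Γ(F₀, W x)) :=
    flat_tensor_of_algHom (stτ D i₀ (V x) (show kk x ⟶ op k from g.op)) (hkk x)
  have hVk : IsAffineOpen (D.map k.hom ⁻¹ᵁ V x) := (hV x).preimage _
  refine (chart_flat_iff H F₀ (hV x) (hW x) hVk (hWV x) le_rfl).mpr h1 x' ⟨hx, ?_⟩
  change (D.map k.hom) (fk x') ∈ V x
  rw [← Scheme.Hom.comp_apply, ← H.w, Scheme.Hom.comp_apply]
  exact hWV x hx

end Main

end Groth.Agent.Lib.Helper12.H12FlatStage
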