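import Mathlib
import Groth.Agent.Lib.Helper12.FlatStage3
import Groth.Agent.Lib.Helper12.FlatFunLim
import Groth.Agent.Lib.Helper10.FibreProductStalk
import Groth.Agent.Lib.Helper29.QCohAss2

set_option autoImplicit false
universe u

open CategoryTheory CategoryTheory.Limits AlgebraicGeometry TensorProduct Opposite
open Groth.Agent.Lib.Helper29.QCoh Groth.Agent.Lib.Helper12.H12ModLim

namespace Groth.Agent.Lib.Helper12.H12FlatStage

section Iso
variable {X S : Scheme.{u}} (f : X ⟶ S)

noncomputable def stalkEquivOfIso {M N : X.Modules} (e : M ≅ N) (x : X) :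
    M.presheaf.stalk x ≃ₗ[X.presheaf.stalk x] N.presheaf.stalk x :=
  LinearEquiv.ofLinearMap (stalkMapₗ e.hom x) (stalkMapₗ e.inv x)
    (by
      ext t
      change stalkMap e.hom x (stalkMap e.inv x t) = t
      rw [← stalkMap_comp_apply, e.inv_hom_id, stalkMap_id]; rfl)
    (by
      ext t
      change stalkMap e.inv x (stalkMap e.hom x t) = t
      rw [← stalkMap_comp_apply, e.hom_inv_id, stalkMap_id]; rfl)

theorem isFlatOverAt_of_iso {M N : X.Modules} (e : M ≅ N) (x : X)
    (h : FlatMod.IsFlatOverAt f M x) : FlatMod.IsFlatOverAt f N x := by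
  letI := FlatMod.moduleStalkOver f M x
  letI := FlatMod.moduleStalkOver f N x
  letI : Algebra (S.presheaf.stalk (f.base x)) (X.presheaf.stalk x) := (f.stalkMap x).hom.toAlgebra
  haveI : IsScalarTower (S.presheaf.stalk (f.base x)) (X.presheaf.stalk x) (M.presheaf.stalk x) :=
    IsScalarTower.of_algebraMap_smul fun r m => rfl
  haveI : IsScalarTower (S.presheaf.stalk (f.base x)) (X.presheaf.stalk x) (N.presheaf.stalk x) :=
    IsScalarTower.of_algebraMap_smul fun r m => rfl
  haveI : Module.Flat (S.presheaf.stalk (f.base x)) (M.presheaf.stalk x) := h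
  exact Module.Flat.of_linearEquiv
    ((stalkEquivOfIso e x).restrictScalars (S.presheaf.stalk (f.base x))).symm

theorem isFlatOver_of_iso {M N : X.Modules} (e : M ≅ N)
    (h : FlatMod.IsFlatOver f M) : FlatMod.IsFlatOver f N :=
  fun x => isFlatOverAt_of_iso f e x (h x)

end Iso

section FlatFun
open Groth.Agent.Lib.Helper12.H12FlatFunLim
variable {X S : Scheme.{u}} (f : X ⟶ S) (F : X.Modules) [F.IsQuasicoherent]

theorem flat_stable ⦃T T₀ : Over S⦄ (g : T ⟶ T₀)
    (h : FlatMod.IsFlatOver (PicF.XTproj f T₀) (FGA.ET f F T₀)) :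
    FlatMod.IsFlatOver (PicF.XTproj f T) (FGA.ET f F T) := by
  refine isFlatOver_of_iso _ (FGA.ETiso f F g) fun x' => ?_
  exact Groth.Agent.Lib.Helper10.FibreProductStalk.isFlatOverAt_baseChange x' (FGA.ET f F T₀)
    (XTmap_isPullback f g) (h _)

variable [QuasiCompact f] [LocallyOfFinitePresentation f] [F.IsFinitePresentation]
  {I : Type u} [SmallCategory I] [IsCofiltered I] (D : I ⥤ Over S)
  (c : Cone D) (hc : IsLimit ((Over.forget S).mapCone c)) (hD : ∀ i, IsAffine (D.obj i).left)

include hc hD in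
theorem flat_stage (h : FlatMod.IsFlatOver (PicF.XTproj f c.pt) (FGA.ET f F c.pt)) :
    ∃ i, FlatMod.IsFlatOver (PicF.XTproj f (D.obj i)) (FGA.ET f F (D.obj i)) := by
  obtain ⟨i₀⟩ := IsCofiltered.nonempty (C := I)
  haveI : ∀ (i j : I) (a : i ⟶ j), IsAffineHom ((D ⋙ Over.forget S).map a) := fun i j a => by
    haveI : IsAffine ((D ⋙ Over.forget S).obj i) := hD i
    haveI : IsAffine ((D ⋙ Over.forget S).obj j) := hD j
    exact isAffineHom_of_isAffine _
  let f₀ : PicF.XT f (D.obj i₀) ⟶ (D ⋙ Over.forget S).obj i₀ := pullback.snd f (D.obj i₀).hom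
  haveI : LocallyOfFinitePresentation f₀ :=
    MorphismProperty.pullback_snd (P := @LocallyOfFinitePresentation) f (D.obj i₀).hom inferInstance
  haveI : CompactSpace ↥(PicF.XT f (D.obj i₀)) := compactSpace_bcD f D hD i₀
  haveI : (FGA.ET f F (D.obj i₀)).IsQuasicoherent := isQuasicoherent_pullback _ _
  haveI : (FGA.ET f F (D.obj i₀)).IsFinitePresentation := isFinitePresentation_pullback _ _
  have hX : IsPullback (PicF.XTmap f (c.π.app i₀)) (pullback.snd f c.pt.hom) f₀
      (((Over.forget S).mapCone c).π.app i₀) := XTmap_isPullback f (c.π.app i₀)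
  have hfl : FlatMod.IsFlatOver (pullback.snd f c.pt.hom)
      ((Scheme.Modules.pullback (PicF.XTmap f (c.π.app i₀))).obj (FGA.ET f F (D.obj i₀))) :=
    isFlatOver_of_iso _ (FGA.ETiso f F (c.π.app i₀)).symm h
  obtain ⟨k, φ, hk⟩ := exists_stage_isFlatOver (D ⋙ Over.forget S) ((Over.forget S).mapCone c) hc
    i₀ f₀ (FGA.ET f F (D.obj i₀)) hX hfl
  refine ⟨k, ?_⟩
  have h1 := hk (PicF.XTmap f (D.map φ)) (pullback.snd f (D.obj k).hom)
    (XTmap_isPullback f (D.map φ))
  exact isFlatOver_of_iso _ (FGA.ETiso f F (D.map φ)) h1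

end FlatFun

end Groth.Agent.Lib.Helper12.H12FlatStage
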