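import Mathlib
import Groth.Agent.Lib.Helper12.FlatInj1
import Groth.Agent.Lib.Helper12.FlatInj2
import Groth.Agent.Lib.Helper12.FlatStage4
import Groth.Agent.Lib27.Flat.InjFlatOpen
import Groth.Agent.Lib.Helper18.FlH

/-! # Injectivity with flat cokernel: charts and the open locus -/

set_option autoImplicit false
universe u

open CategoryTheory CategoryTheory.Limits AlgebraicGeometry TensorProduct Opposite Function
open Groth.Agent.Lib.Helper29.QCoh Groth.Agent.Lib.Helper12.H12ModLim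
open Groth.Agent.Lib.Helper12.H12FlatStage Groth.Agent.Lib.Helper12.H12FlatLim

namespace Groth.Agent.Lib.Helper12.H12FlatInj


section ChartDef
variable {X₀ S₀ : Scheme.{u}} (f₀ : X₀ ⟶ S₀) {F₀ G₀ : X₀.Modules} (h₀ : F₀ ⟶ G₀)
  (V : S₀.Opens) (W : X₀.Opens) (hWV : W ≤ f₀ ⁻¹ᵁ V)

/-- Ring-level injectivity of the base change of `h₀` on a chart to a `Γ(S₀,V)`-algebra `R`. -/
def ChartInj (R : Type u) [CommRing R] (ψ : Γ(S₀, V) →+* R) : Prop :=
  letI := ψ.toAlgebra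
  letI := (f₀.appLE V W hWV).hom.toAlgebra
  letI := Module.compHom Γ(F₀, W) (f₀.appLE V W hWV).hom
  letI := Module.compHom Γ(G₀, W) (f₀.appLE V W hWV).hom
  haveI : IsScalarTower Γ(S₀, V) Γ(X₀, W) Γ(F₀, W) :=
    IsScalarTower.of_algebraMap_smul fun _ _ => rfl
  haveI : IsScalarTower Γ(S₀, V) Γ(X₀, W) Γ(G₀, W) :=
    IsScalarTower.of_algebraMap_smul fun _ _ => rfl
  Function.Injective (((appₗ h₀ W).restrictScalars Γ(S₀, V)).lTensor R)

/-- Ring-level flatness of the base change of the cokernel of `h₀` on a chart. -/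
def ChartCokerFlat (R : Type u) [CommRing R] (ψ : Γ(S₀, V) →+* R) : Prop :=
  letI := ψ.toAlgebra
  letI := (f₀.appLE V W hWV).hom.toAlgebra
  letI := Module.compHom Γ(G₀, W) (f₀.appLE V W hWV).hom
  haveI : IsScalarTower Γ(S₀, V) Γ(X₀, W) Γ(G₀, W) :=
    IsScalarTower.of_algebraMap_smul fun _ _ => rfl
  Module.Flat R (R ⊗[Γ(S₀, V)] (Γ(G₀, W) ⧸ LinearMap.range (appₗ h₀ W)))

/-- Comparison with the sections of the cokernel sheaf. -/
theorem chartCokerFlat_iff [F₀.IsQuasicoherent] [G₀.IsQuasicoherent] (hW : IsAffineOpen W)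
    (R : Type u) [CommRing R] (ψ : Γ(S₀, V) →+* R) :
    ChartCokerFlat f₀ h₀ V W hWV R ψ ↔
      (letI := ψ.toAlgebra
       letI := Module.compHom Γ(cokernel h₀, W) (f₀.appLE V W hWV).hom
       Module.Flat R (R ⊗[Γ(S₀, V)] Γ(cokernel h₀, W))) := by
  unfold ChartCokerFlat
  letI a0 := ψ.toAlgebra
  letI a1 := (f₀.appLE V W hWV).hom.toAlgebra
  letI m2 : Module Γ(S₀, V) Γ(G₀, W) := Module.compHom Γ(G₀, W) (f₀.appLE V W hWV).hom
  haveI t4 : IsScalarTower Γ(S₀, V) Γ(X₀, W) Γ(G₀, W) :=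
    IsScalarTower.of_algebraMap_smul fun _ _ => rfl
  letI m3 : Module Γ(S₀, V) Γ(cokernel h₀, W) :=
    Module.compHom Γ(cokernel h₀, W) (f₀.appLE V W hWV).hom
  haveI t5 : IsScalarTower Γ(S₀, V) Γ(X₀, W) Γ(cokernel h₀, W) :=
    IsScalarTower.of_algebraMap_smul fun _ _ => rfl
  obtain ⟨e⟩ := nonempty_cokerSectionsEquiv h₀ hW
  let e' := TensorProduct.AlgebraTensorModule.congr (LinearEquiv.refl R R)
    (e.restrictScalars Γ(S₀, V))
  exact ⟨fun h => Module.Flat.of_linearEquiv e'.symm, fun h => Module.Flat.of_linearEquiv e'⟩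

end ChartDef

section Chart
variable {Xk X₀ Sk S₀ : Scheme.{u}} {pX : Xk ⟶ X₀} {fk : Xk ⟶ Sk} {f₀ : X₀ ⟶ S₀} {t : Sk ⟶ S₀}
  (H : IsPullback pX fk f₀ t) {F₀ G₀ : X₀.Modules} [F₀.IsQuasicoherent] [G₀.IsQuasicoherent]
  (h₀ : F₀ ⟶ G₀)
  {V : S₀.Opens} {W : X₀.Opens} {Vk : Sk.Opens}
  (hV : IsAffineOpen V) (hW : IsAffineOpen W) (hVk : IsAffineOpen Vk)
  (hWV : W ≤ f₀ ⁻¹ᵁ V) (hVkV : Vk ≤ t ⁻¹ᵁ V)

include H hV hW hVk in
set_option maxHeartbeats 1600000 in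
theorem chart_inj_iff :
    Function.Injective (((Scheme.Modules.pullback pX).map h₀).app (pX ⁻¹ᵁ W ⊓ fk ⁻¹ᵁ Vk)) ↔
      ChartInj f₀ h₀ V W hWV Γ(Sk, Vk) (t.appLE V Vk hVkV).hom := by
  unfold ChartInj
  letI a1 := (f₀.appLE V W hWV).hom.toAlgebra
  letI a2 := (t.appLE V Vk hVkV).hom.toAlgebra
  letI a3 := (pX.appLE W (pX ⁻¹ᵁ W ⊓ fk ⁻¹ᵁ Vk) inf_le_left).hom.toAlgebra
  letI a4 := (fk.appLE Vk (pX ⁻¹ᵁ W ⊓ fk ⁻¹ᵁ Vk) inf_le_right).hom.toAlgebra
  letI a5 := ((f₀.appLE V W hWV) ≫ (pX.appLE W (pX ⁻¹ᵁ W ⊓ fk ⁻¹ᵁ Vk) inf_le_left)).hom.toAlgebra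
  haveI t1 : IsScalarTower Γ(S₀, V) Γ(X₀, W) Γ(Xk, pX ⁻¹ᵁ W ⊓ fk ⁻¹ᵁ Vk) :=
    IsScalarTower.of_algebraMap_eq fun r => rfl
  haveI t2 : IsScalarTower Γ(S₀, V) Γ(Sk, Vk) Γ(Xk, pX ⁻¹ᵁ W ⊓ fk ⁻¹ᵁ Vk) := by
    refine IsScalarTower.of_algebraMap_eq fun r => ?_
    change ((f₀.appLE V W hWV) ≫ (pX.appLE W (pX ⁻¹ᵁ W ⊓ fk ⁻¹ᵁ Vk) inf_le_left)) r =
      ((t.appLE V Vk hVkV) ≫ (fk.appLE Vk (pX ⁻¹ᵁ W ⊓ fk ⁻¹ᵁ Vk) inf_le_right)) r
    simp only [Scheme.Hom.appLE_comp_appLE, H.w]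
  have h1 := (isIso_pushoutSection_iff H hVkV hWV (UY := pX ⁻¹ᵁ W ⊓ fk ⁻¹ᵁ Vk) rfl).mp
    (isIso_pushoutSection_of_isAffineOpen H hVkV hWV rfl hV hVk hW)
  have h2 : Algebra.IsPushout Γ(S₀, V) Γ(X₀, W) Γ(Sk, Vk) Γ(Xk, pX ⁻¹ᵁ W ⊓ fk ⁻¹ᵁ Vk) :=
    CommRingCat.isPushout_iff_isPushout.mp h1
  haveI h3 : Algebra.IsPushout Γ(S₀, V) Γ(Sk, Vk) Γ(X₀, W) Γ(Xk, pX ⁻¹ᵁ W ⊓ fk ⁻¹ᵁ Vk) := h2.symm
  letI m1 : Module Γ(S₀, V) Γ(F₀, W) := Module.compHom Γ(F₀, W) (f₀.appLE V W hWV).hom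
  haveI t3 : IsScalarTower Γ(S₀, V) Γ(X₀, W) Γ(F₀, W) :=
    IsScalarTower.of_algebraMap_smul fun _ _ => rfl
  letI m2 : Module Γ(S₀, V) Γ(G₀, W) := Module.compHom Γ(G₀, W) (f₀.appLE V W hWV).hom
  haveI t4 : IsScalarTower Γ(S₀, V) Γ(X₀, W) Γ(G₀, W) :=
    IsScalarTower.of_algebraMap_smul fun _ _ => rfl
  have hWk := isAffineOpen_chart H hV hW hVk hWV hVkV
  rw [← baseChange_injective_iff Γ(S₀, V) Γ(Sk, Vk) Γ(X₀, W) Γ(Xk, pX ⁻¹ᵁ W ⊓ fk ⁻¹ᵁ Vk)
    (appₗ h₀ W)]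
  let eF := pullbackSectionsEquiv pX F₀ hWk hW inf_le_left
  let eG := pullbackSectionsEquiv pX G₀ hWk hW inf_le_left
  have key : ∀ s, eG (((Scheme.Modules.pullback pX).map h₀).app (pX ⁻¹ᵁ W ⊓ fk ⁻¹ᵁ Vk) s) =
      (appₗ h₀ W).baseChange Γ(Xk, pX ⁻¹ᵁ W ⊓ fk ⁻¹ᵁ Vk) (eF s) :=
    fun s => pullbackSectionsEquiv_map pX h₀ hWk hW inf_le_left s
  constructor
  · intro h a b hab
    obtain ⟨a', rfl⟩ := eF.surjective a
    obtain ⟨b', rfl⟩ := eF.surjective b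
    rw [← key, ← key] at hab
    exact congrArg _ (h (eG.injective hab))
  · intro h a b hab
    have := congrArg eG hab
    rw [key, key] at this
    exact eF.injective (h this)

end Chart



section Chart2
variable {Xk X₀ Sk S₀ : Scheme.{u}} {pX : Xk ⟶ X₀} {fk : Xk ⟶ Sk} {f₀ : X₀ ⟶ S₀} {t : Sk ⟶ S₀}
  (H : IsPullback pX fk f₀ t) {F₀ G₀ : X₀.Modules} [F₀.IsQuasicoherent] [G₀.IsQuasicoherent]
  (h₀ : F₀ ⟶ G₀)
  {V : S₀.Opens} {W : X₀.Opens} {Vk : Sk.Opens}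
  (hV : IsAffineOpen V) (hW : IsAffineOpen W) (hVk : IsAffineOpen Vk)
  (hWV : W ≤ f₀ ⁻¹ᵁ V) (hVkV : Vk ≤ t ⁻¹ᵁ V)

include H hV hW hVk in
theorem chart_cokerFlat_iff :
    (∀ x ∈ pX ⁻¹ᵁ W ⊓ fk ⁻¹ᵁ Vk,
        FlatMod.IsFlatOverAt fk (cokernel ((Scheme.Modules.pullback pX).map h₀)) x) ↔
      ChartCokerFlat f₀ h₀ V W hWV Γ(Sk, Vk) (t.appLE V Vk hVkV).hom := by
  rw [chartCokerFlat_iff f₀ h₀ V W hWV hW]
  rw [← chart_flat_iff H (cokernel h₀) hV hW hVk hWV hVkV]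
  constructor
  · intro h x hx
    exact isFlatOverAt_of_iso fk (cokerPullbackIso pX h₀) x (h x hx)
  · intro h x hx
    exact isFlatOverAt_of_iso fk (cokerPullbackIso pX h₀).symm x (h x hx)

end Chart2



section Locus
variable {X S : Scheme.{u}}

theorem flat_localizedModule_of_equiv {A' C : Type u} [CommRing A'] [CommRing C] [Algebra A' C]
    (T : Submonoid C) {G G' : Type u} [AddCommGroup G] [Module C G] [Module A' G]
    [IsScalarTower A' C G] [AddCommGroup G'] [Module C G'] [Module A' G'] [IsScalarTower A' C G']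
    (e : G ≃ₗ[C] G') (h : Module.Flat A' (LocalizedModule T G)) :
    Module.Flat A' (LocalizedModule T G') := by
  let eloc : LocalizedModule T G' ≃ₗ[C] LocalizedModule T G :=
    IsLocalizedModule.linearEquiv T (LocalizedModule.mkLinearMap T G')
      ((LocalizedModule.mkLinearMap T G) ∘ₗ e.symm.toLinearMap)
  exact Module.Flat.of_linearEquiv (eloc.restrictScalars A')

/-- Stalkwise injectivity at a point of an affine open, in terms of the support of the kernel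
of the map on sections. -/
theorem injAt_iff_notMem_support {F G : X.Modules} [F.IsQuasicoherent] [G.IsQuasicoherent]
    (h : F ⟶ G) {U : X.Opens} (hU : IsAffineOpen U) (x : X) (hx : x ∈ U) :
    InjAt h x ↔ hU.primeIdealOf ⟨x, hx⟩ ∉ Module.support Γ(X, U) (LinearMap.ker (appₗ h U)) := by
  rw [Module.notMem_support_iff', injAt_iff_stalkMap]
  constructor
  · intro hinj m
    have h0 : F.presheaf.germ U x hx m.1 = 0 := by
      apply hinj
      rw [stalkMap_germ, map_zero]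
      have := LinearMap.mem_ker.mp m.2
      rw [appₗ_apply] at this
      rw [this, map_zero]
    obtain ⟨r, hxr, e⟩ := exists_smul_eq_zero_of_germ_eq_zero F hU x hx _ h0
    refine ⟨r, (mem_basicOpen_iff_notMem_primeIdealOf hU x hx r).mp hxr, ?_⟩
    exact Subtype.ext e
  · intro hk
    rw [injective_iff_map_eq_zero]
    intro t ht
    obtain ⟨r, m, hxr, e⟩ := exists_smul_germ_eq F hU x hx t
    have hr := isUnit_germ_of_mem_basicOpen r x hx hxr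
    have h1 : G.presheaf.germ U x hx (h.app U m) = 0 := by
      rw [← stalkMap_germ, ← e, stalkMap_smul, ht, smul_zero]
    obtain ⟨r', hxr', e'⟩ := exists_smul_eq_zero_of_germ_eq_zero G hU x hx _ h1
    have hr' := isUnit_germ_of_mem_basicOpen r' x hx hxr'
    rw [← app_smul'] at e'
    have hmem : r' • m ∈ LinearMap.ker (appₗ h U) := by
      rw [LinearMap.mem_ker, appₗ_apply]; exact e'
    obtain ⟨r'', hr''p, e''⟩ := hk ⟨r' • m, hmem⟩
    have hxr'' : x ∈ X.basicOpen r'' := (mem_basicOpen_iff_notMem_primeIdealOf hU x hx r'').mpr hr''p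
    have hr'' := isUnit_germ_of_mem_basicOpen r'' x hx hxr''
    have h2 : r'' • (r' • m) = 0 := congrArg Subtype.val e''
    have h3 := congrArg (F.presheaf.germ U x hx) h2
    rw [germ_smul, germ_smul, map_zero] at h3
    have h4 := eq_zero_of_isUnit_smul hr' (eq_zero_of_isUnit_smul hr'' h3)
    rw [h4] at e
    exact eq_zero_of_isUnit_smul hr e



/-- **Openness** of the locus where a map of modules is injective with flat cokernel. -/
theorem exists_open_injFlat (f : X ⟶ S) [LocallyOfFinitePresentation f]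
    {F G : X.Modules} [F.IsQuasicoherent] [F.IsFiniteType] [G.IsQuasicoherent]
    [G.IsFinitePresentation] (h : F ⟶ G) (x : X) (hx : InjAt h x)
    (hfl : FlatMod.IsFlatOverAt f (cokernel h) x) :
    ∃ U : X.Opens, x ∈ U ∧ ∀ y ∈ U, InjAt h y ∧ FlatMod.IsFlatOverAt f (cokernel h) y := by
  obtain ⟨W, V, hW, hV, hxW, hWV⟩ := exists_affine_pair f x
  letI algAB : Algebra Γ(S, V) Γ(X, W) := (f.appLE V W hWV).hom.toAlgebra
  haveI : Algebra.FinitePresentation Γ(S, V) Γ(X, W) :=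
    LocallyOfFinitePresentation.finitePresentation_appLE f hV hW hWV
  letI mG : Module Γ(S, V) Γ(G, W) := Module.compHom _ (f.appLE V W hWV).hom
  haveI : IsScalarTower Γ(S, V) Γ(X, W) Γ(G, W) :=
    IsScalarTower.of_algebraMap_smul (fun _ _ => rfl)
  letI mC : Module Γ(S, V) Γ(cokernel h, W) := Module.compHom _ (f.appLE V W hWV).hom
  haveI : IsScalarTower Γ(S, V) Γ(X, W) Γ(cokernel h, W) :=
    IsScalarTower.of_algebraMap_smul (fun _ _ => rfl)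
  haveI : Module.Finite Γ(X, W) Γ(F, W) := module_finite_of_isFiniteType F hW
  haveI : Module.FinitePresentation Γ(X, W) Γ(G, W) :=
    module_finitePresentation_of_isFinitePresentation G hW
  obtain ⟨e⟩ := nonempty_cokerSectionsEquiv h hW
  have hO := Groth.Agent.Lib27.InjFlatOpen.isOpen_injFlatLocus (A := Γ(S, V)) (appₗ h W)
  have key : ∀ (y : X) (hy : y ∈ W), (InjAt h y ∧ FlatMod.IsFlatOverAt f (cokernel h) y) ↔
      hW.primeIdealOf ⟨y, hy⟩ ∈ {Q : PrimeSpectrum Γ(X, W) |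
        Q ∉ Module.support Γ(X, W) (LinearMap.ker (appₗ h W)) ∧
        Module.Flat Γ(S, V) (LocalizedModule Q.asIdeal.primeCompl
          (Γ(G, W) ⧸ LinearMap.range (appₗ h W)))} := by
    intro y hy
    rw [Set.mem_ofPred_eq, injAt_iff_notMem_support h hW y hy,
      Groth.Agent.Lib.Helper18.Fl.isFlatOverAt_iff_flat_localizedModule f (cokernel h) hW hV hWV y hy]
    refine and_congr Iff.rfl ⟨fun h1 => ?_, fun h1 => ?_⟩
    · exact flat_localizedModule_of_equiv _ e.symm h1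
    · exact flat_localizedModule_of_equiv _ e h1
  refine ⟨⟨Subtype.val '' ((fun y : W => hW.primeIdealOf y) ⁻¹'
    {Q : PrimeSpectrum Γ(X, W) |
        Q ∉ Module.support Γ(X, W) (LinearMap.ker (appₗ h W)) ∧
        Module.Flat Γ(S, V) (LocalizedModule Q.asIdeal.primeCompl
          (Γ(G, W) ⧸ LinearMap.range (appₗ h W)))}), ?_⟩, ?_, ?_⟩
  · refine W.isOpen.isOpenMap_subtype_val _ (hO.preimage ?_)
    exact hW.isoSpec.hom.continuous
  · exact ⟨⟨x, hxW⟩, (key x hxW).mp ⟨hx, hfl⟩, rfl⟩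
  · rintro _ ⟨⟨y, hy⟩, hyO, rfl⟩
    exact (key y hy).mpr hyO

end Locus


end Groth.Agent.Lib.Helper12.H12FlatInj
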