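import Mathlib
import Groth.Agent.Lib.Helper12.FlatInj3

/-! # Injectivity with flat cokernel descends to a stage (global form) -/

set_option autoImplicit false
universe u

open CategoryTheory CategoryTheory.Limits AlgebraicGeometry TensorProduct Opposite Function
open Groth.Agent.Lib.Helper29.QCoh Groth.Agent.Lib.Helper12.H12ModLim
open Groth.Agent.Lib.Helper12.H12FlatStage Groth.Agent.Lib.Helper12.H12FlatLim

namespace Groth.Agent.Lib.Helper12.H12FlatInj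


section Main
variable {I : Type u} [SmallCategory I] [IsCofiltered I] (D : I ⥤ Scheme.{u}) (c : Cone D)
  (hc : IsLimit c) [∀ (i j : I) (a : i ⟶ j), IsAffineHom (D.map a)]
  (i₀ : I) {X₀ : Scheme.{u}} (f₀ : X₀ ⟶ D.obj i₀) [LocallyOfFinitePresentation f₀]
  {F₀ G₀ : X₀.Modules} [F₀.IsQuasicoherent] [F₀.IsFiniteType] [G₀.IsQuasicoherent]
  [G₀.IsFinitePresentation] (h₀ : F₀ ⟶ G₀)

/-- Flatness of the cokernel on a chart is inherited by later stages. -/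
theorem chartCokerFlat_of_hom {V : (D.obj i₀).Opens} {W : X₀.Opens} (hWV : W ≤ f₀ ⁻¹ᵁ V)
    {k k' : (Over i₀)ᵒᵖ} (g : k ⟶ k')
    (h : ChartCokerFlat f₀ h₀ V W hWV Γ(D.obj k.unop.left, D.map k.unop.hom ⁻¹ᵁ V)
      ((D.map k.unop.hom).appLE V (D.map k.unop.hom ⁻¹ᵁ V) le_rfl).hom) :
    ChartCokerFlat f₀ h₀ V W hWV Γ(D.obj k'.unop.left, D.map k'.unop.hom ⁻¹ᵁ V)
      ((D.map k'.unop.hom).appLE V (D.map k'.unop.hom ⁻¹ᵁ V) le_rfl).hom := by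
  unfold ChartCokerFlat at h ⊢
  letI a1 := (f₀.appLE V W hWV).hom.toAlgebra
  letI m2 : Module Γ(D.obj i₀, V) Γ(G₀, W) := Module.compHom Γ(G₀, W) (f₀.appLE V W hWV).hom
  haveI t4 : IsScalarTower Γ(D.obj i₀, V) Γ(X₀, W) Γ(G₀, W) :=
    IsScalarTower.of_algebraMap_smul fun _ _ => rfl
  exact flat_tensor_of_algHom (R := Γ(D.obj i₀, V)) (A := StA D i₀ V k) (A' := StA D i₀ V k')
    (stτ D i₀ V g) h

include hc in
/-- One chart: injectivity in the limit (with cokernel flat at a stage) gives injectivity at all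
sufficiently late stages. -/
theorem exists_stage_chart_injective {V : (D.obj i₀).Opens} {W : X₀.Opens} (hV : IsAffineOpen V)
    (hW : IsAffineOpen W) (hWV : W ≤ f₀ ⁻¹ᵁ V) (k₁ : (Over i₀)ᵒᵖ)
    (hfl : ChartCokerFlat f₀ h₀ V W hWV Γ(D.obj k₁.unop.left, D.map k₁.unop.hom ⁻¹ᵁ V)
      ((D.map k₁.unop.hom).appLE V (D.map k₁.unop.hom ⁻¹ᵁ V) le_rfl).hom)
    (hinj : ChartInj f₀ h₀ V W hWV Γ(c.pt, c.π.app i₀ ⁻¹ᵁ V)
      ((c.π.app i₀).appLE V (c.π.app i₀ ⁻¹ᵁ V) le_rfl).hom) :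
    ∃ (k : (Over i₀)ᵒᵖ) (_ : k₁ ⟶ k), ∀ (k' : (Over i₀)ᵒᵖ) (_ : k ⟶ k'),
      ChartInj f₀ h₀ V W hWV Γ(D.obj k'.unop.left, D.map k'.unop.hom ⁻¹ᵁ V)
        ((D.map k'.unop.hom).appLE V (D.map k'.unop.hom ⁻¹ᵁ V) le_rfl).hom := by
  haveI hA : ∀ {i j : I} (f : i ⟶ j), IsAffineHom (D.map f) := fun f => inferInstance
  unfold ChartInj
  unfold ChartInj at hinj
  unfold ChartCokerFlat at hfl
  letI a1 : Algebra Γ(D.obj i₀, V) Γ(X₀, W) := (f₀.appLE V W hWV).hom.toAlgebra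
  haveI : Algebra.FinitePresentation Γ(D.obj i₀, V) Γ(X₀, W) :=
    LocallyOfFinitePresentation.finitePresentation_appLE f₀ hV hW hWV
  letI m1 : Module Γ(D.obj i₀, V) Γ(F₀, W) := Module.compHom Γ(F₀, W) (f₀.appLE V W hWV).hom
  haveI t3 : IsScalarTower Γ(D.obj i₀, V) Γ(X₀, W) Γ(F₀, W) :=
    IsScalarTower.of_algebraMap_smul fun _ _ => rfl
  letI m2 : Module Γ(D.obj i₀, V) Γ(G₀, W) := Module.compHom Γ(G₀, W) (f₀.appLE V W hWV).hom
  haveI t4 : IsScalarTower Γ(D.obj i₀, V) Γ(X₀, W) Γ(G₀, W) :=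
    IsScalarTower.of_algebraMap_smul fun _ _ => rfl
  haveI : Module.Finite Γ(X₀, W) Γ(F₀, W) := module_finite_of_isFiniteType F₀ hW
  haveI : Module.FinitePresentation Γ(X₀, W) Γ(G₀, W) :=
    module_finitePresentation_of_isFinitePresentation G₀ hW
  refine exists_stage_injective (L := StB D c i₀ V) (StA D i₀ V) (stρ D c i₀ V)
    (fun f => stτ D i₀ V f)
    (fun f g a => stτ_comp D i₀ V f g a) (fun f a => stρ_τ D c i₀ V f a)
    ?_ ?_ (B₀ := Γ(X₀, W)) (appₗ h₀ W) k₁ hfl hinj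
  · intro b
    obtain ⟨k, a, ha⟩ := exists_appLE_eq D c hc i₀ V hV b
    exact ⟨op k, a, (stρ_apply D c i₀ V (op k) a).trans ha⟩
  · intro k a ha
    rw [stρ_apply] at ha
    obtain ⟨k', g, hg⟩ := exists_appLE_eq_zero D c hc i₀ V hV k.unop a ha
    exact ⟨op k', g.op, (stτ_apply D i₀ V g.op a).trans hg⟩

include hc in
/-- One chart, both properties. -/
theorem exists_stage_chart_injFlat {V : (D.obj i₀).Opens} {W : X₀.Opens} (hV : IsAffineOpen V)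
    (hW : IsAffineOpen W) (hWV : W ≤ f₀ ⁻¹ᵁ V)
    {X : Scheme.{u}} {qX : X ⟶ X₀} {f : X ⟶ c.pt} (hX : IsPullback qX f f₀ (c.π.app i₀))
    (hx : ∀ x ∈ qX ⁻¹ᵁ W ⊓ f ⁻¹ᵁ (c.π.app i₀ ⁻¹ᵁ V),
      InjAt ((Scheme.Modules.pullback qX).map h₀) x ∧
        FlatMod.IsFlatOverAt f (cokernel ((Scheme.Modules.pullback qX).map h₀)) x) :
    ∃ k : (Over i₀)ᵒᵖ, ∀ (k' : (Over i₀)ᵒᵖ) (_ : k ⟶ k'),
      ChartInj f₀ h₀ V W hWV Γ(D.obj k'.unop.left, D.map k'.unop.hom ⁻¹ᵁ V)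
        ((D.map k'.unop.hom).appLE V (D.map k'.unop.hom ⁻¹ᵁ V) le_rfl).hom ∧
      ChartCokerFlat f₀ h₀ V W hWV Γ(D.obj k'.unop.left, D.map k'.unop.hom ⁻¹ᵁ V)
        ((D.map k'.unop.hom).appLE V (D.map k'.unop.hom ⁻¹ᵁ V) le_rfl).hom := by
  haveI hA : ∀ {i j : I} (f : i ⟶ j), IsAffineHom (D.map f) := fun f => inferInstance
  haveI := isAffineHom_π_app D c hc i₀
  have hVk : IsAffineOpen (c.π.app i₀ ⁻¹ᵁ V) := hV.preimage _
  haveI : (cokernel h₀).IsFinitePresentation := isFinitePresentation_cokernel h₀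
  -- flatness of the cokernel at a stage
  have hflC : ∀ x ∈ qX ⁻¹ᵁ W ⊓ f ⁻¹ᵁ (c.π.app i₀ ⁻¹ᵁ V),
      FlatMod.IsFlatOverAt f ((Scheme.Modules.pullback qX).obj (cokernel h₀)) x :=
    fun x hxm => isFlatOverAt_of_iso f (cokerPullbackIso qX h₀) x (hx x hxm).2
  obtain ⟨k₁, hk₁⟩ := exists_stage_chart D c hc i₀ f₀ (cokernel h₀) hV hW hWV hX hflC
  have hk₁' : ChartCokerFlat f₀ h₀ V W hWV Γ(D.obj k₁.unop.left, D.map k₁.unop.hom ⁻¹ᵁ V)
      ((D.map k₁.unop.hom).appLE V (D.map k₁.unop.hom ⁻¹ᵁ V) le_rfl).hom :=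
    (chartCokerFlat_iff f₀ h₀ V W hWV hW _ _).mpr hk₁
  -- injectivity in the limit
  have hinj : ChartInj f₀ h₀ V W hWV Γ(c.pt, c.π.app i₀ ⁻¹ᵁ V)
      ((c.π.app i₀).appLE V (c.π.app i₀ ⁻¹ᵁ V) le_rfl).hom :=
    (chart_inj_iff hX h₀ hV hW hVk hWV le_rfl).mp
      (app_injective_of_injAt _ _ fun x hxm => (hx x hxm).1)
  obtain ⟨k, g, hk⟩ := exists_stage_chart_injective D c hc i₀ f₀ h₀ hV hW hWV k₁ hk₁' hinj
  exact ⟨k, fun k' g' => ⟨hk k' g', chartCokerFlat_of_hom D i₀ f₀ h₀ hWV (g ≫ g') hk₁'⟩⟩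

include hc in
/-- **Global form**: injectivity with flat cokernel descends to a stage (quasi-compact source). -/
theorem exists_stage_injFlat [CompactSpace X₀]
    {X : Scheme.{u}} {qX : X ⟶ X₀} {f : X ⟶ c.pt} (hX : IsPullback qX f f₀ (c.π.app i₀))
    (hx : ∀ x : X, InjAt ((Scheme.Modules.pullback qX).map h₀) x ∧
        FlatMod.IsFlatOverAt f (cokernel ((Scheme.Modules.pullback qX).map h₀)) x) :
    ∃ (k : I) (φ : k ⟶ i₀), ∀ {Xk : Scheme.{u}} (pX : Xk ⟶ X₀) (fk : Xk ⟶ D.obj k),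
      IsPullback pX fk f₀ (D.map φ) → ∀ x' : Xk,
        InjAt ((Scheme.Modules.pullback pX).map h₀) x' ∧
          FlatMod.IsFlatOverAt fk (cokernel ((Scheme.Modules.pullback pX).map h₀)) x' := by
  classical
  choose W V hW hV hxW hWV using fun x : X₀ => exists_affine_pair f₀ x
  obtain ⟨t, ht⟩ := isCompact_univ.elim_finite_subcover (fun x => (W x : Set X₀))
    (fun x => (W x).isOpen) (fun x _ => Set.mem_iUnion.mpr ⟨x, hxW x⟩)
  have key := fun x : X₀ => exists_stage_chart_injFlat D c hc i₀ f₀ h₀ (hV x) (hW x) (hWV x) hX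
    (fun y _ => hx y)
  choose kk hkk using key
  obtain ⟨k, hk⟩ := IsCofiltered.inf_objs_exists (t.image (fun x => (kk x).unop))
  refine ⟨k.left, k.hom, fun {Xk} pX fk H x' => ?_⟩
  obtain ⟨x, hxt, hx'⟩ : ∃ x ∈ t, pX x' ∈ W x := by
    have := ht (Set.mem_univ (pX x'))
    simpa using this
  obtain ⟨g⟩ := hk (Finset.mem_image_of_mem _ hxt)
  obtain ⟨h1, h2⟩ := hkk x (op k) (show kk x ⟶ op k from g.op)
  have hVk : IsAffineOpen (D.map k.hom ⁻¹ᵁ V x) := (hV x).preimage _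
  have hmem : x' ∈ pX ⁻¹ᵁ W x ⊓ fk ⁻¹ᵁ (D.map k.hom ⁻¹ᵁ V x) := by
    refine ⟨hx', ?_⟩
    change (D.map k.hom) (fk x') ∈ V x
    rw [← Scheme.Hom.comp_apply, ← H.w, Scheme.Hom.comp_apply]
    exact hWV x hx'
  constructor
  · exact injAt_of_app_injective _ (isAffineOpen_chart H (hV x) (hW x) hVk (hWV x) le_rfl)
      ((chart_inj_iff H h₀ (hV x) (hW x) hVk (hWV x) le_rfl).mpr h1) x' hmem
  · exact (chart_cokerFlat_iff H h₀ (hV x) (hW x) hVk (hWV x) le_rfl).mpr h2 x' hmem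

end Main


end Groth.Agent.Lib.Helper12.H12FlatInj
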