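import Mathlib
import Groth.Agent.S1460
import Groth.Agent.Lib.Helper21.EquidimAt1
import Groth.Agent.Lib.Helper21.BaseChg4
import Groth.Agent.Lib.Helper18.FibSemi
import Groth.Agent.Lib.Helper14.LocConstr
import Groth.Agent.Lib.Helper12.ConstrTop
import Groth.Agent.Lib.Helper6.QuasiFiniteFiber
import Groth.Agent.Lib.Helper21.Img1

set_option autoImplicit false
universe u

namespace Groth.Agent.Lib.Helper12.H12FibDimConstr

open AlgebraicGeometry CategoryTheory Limits TopologicalSpace Topology Set.Notation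

theorem isLocallyConstructible_compl {T : Type*} [TopologicalSpace T] {s : Set T}
    (hs : IsLocallyConstructible s) : IsLocallyConstructible sᶜ := by
  intro x
  obtain ⟨U, hxU, hU, hsU⟩ := hs x
  refine ⟨U, hxU, hU, ?_⟩
  rw [Set.preimage_compl]
  exact hsU.compl

variable {X Y : Scheme.{u}}

/-- Affine case of the local constructibility of `{x | k ≤ dim_x X_{f x}}`. -/
theorem isLocallyConstructible_setOf_le_fibreDimAt_of_isAffine (f : X ⟶ Y) [IsAffine X] [IsAffine Y]
    [LocallyOfFinitePresentation f] (k : ℕ) :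
    IsLocallyConstructible {x : X | (k : WithBot ℕ∞) ≤ FlatMor.fibreDimAt f x} := by
  obtain ⟨X₀, S₀, f₀, g, g', hX₀, hS₀, hpb, hft, hf₀⟩ := Groth.Agent.S1460.result f
  have h1 : IsNoetherianRing Γ(S₀, ⊤) := Algebra.FiniteType.isNoetherianRing ℤ Γ(S₀, ⊤)
  have h2 : IsLocallyNoetherian S₀ := isLocallyNoetherian_of_isOpenImmersion S₀.isoSpec.hom
  have h3 : IsLocallyNoetherian X₀ := LocallyOfFiniteType.isLocallyNoetherian f₀
  have h4 : IsNoetherian X₀ := { }
  have hN : NoetherianSpace X₀ := inferInstance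
  have hc : IsConstructible {x : X₀ | (k : WithBot ℕ∞) ≤ FlatMor.fibreDimAt f₀ x} :=
    Groth.Agent.Lib.Helper12.isConstructible_of_isClosed
      (Groth.Agent.Lib.Helper18.FibSemi.isClosed_setOf_le_fibreDimAt f₀ k)
  have := Groth.Agent.Lib.Helper14.AS.isLocallyConstructible_preimage g' hc.isLocallyConstructible
  convert this using 1
  ext x
  show _ ≤ FlatMor.fibreDimAt f x ↔ _ ≤ FlatMor.fibreDimAt f₀ (g' x)
  rw [Groth.Agent.Lib.Helper21.BaseChg.fibreDimAt_eq_of_isPullback hpb x]

/-- The locus where the local fibre dimension is at least `k` is locally constructible, for a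
morphism locally of finite presentation. -/
theorem isLocallyConstructible_setOf_le_fibreDimAt (f : X ⟶ Y) [LocallyOfFinitePresentation f]
    (k : ℕ) :
    IsLocallyConstructible {x : X | (k : WithBot ℕ∞) ≤ FlatMor.fibreDimAt f x} := by
  have key : ∀ x : X, ∃ U : X.Opens, x ∈ U ∧
      IsLocallyConstructible ((U : Set X) ↓∩ {x : X | (k : WithBot ℕ∞) ≤ FlatMor.fibreDimAt f x}) := by
    intro x
    obtain ⟨V, hV, hxV⟩ : ∃ V : Y.Opens, IsAffineOpen V ∧ f x ∈ V := by
      obtain ⟨_, ⟨V, hV, rfl⟩, hx, -⟩ :=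
        Y.isBasis_affineOpens.exists_subset_of_mem_open (Set.mem_univ (f x)) isOpen_univ
      exact ⟨V, hV, hx⟩
    obtain ⟨U, hU, hxU, hUV⟩ : ∃ U : X.Opens, IsAffineOpen U ∧ x ∈ U ∧ U ≤ f ⁻¹ᵁ V := by
      obtain ⟨_, ⟨U, hU, rfl⟩, hx, hsub⟩ :=
        X.isBasis_affineOpens.exists_subset_of_mem_open
          (show x ∈ ((f ⁻¹ᵁ V : X.Opens) : Set ↥X) from hxV) (f ⁻¹ᵁ V).2
      exact ⟨U, hU, hx, hsub⟩
    refine ⟨U, hxU, ?_⟩
    have : IsAffine (U : Scheme.{u}) := hU
    have : IsAffine (V : Scheme.{u}) := hV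
    have h := isLocallyConstructible_setOf_le_fibreDimAt_of_isAffine (f.resLE V U hUV) k
    have hset : ((U : Set X) ↓∩ {x : X | (k : WithBot ℕ∞) ≤ FlatMor.fibreDimAt f x}) =
        {u : (U : Scheme.{u}) | (k : WithBot ℕ∞) ≤ FlatMor.fibreDimAt (f.resLE V U hUV) u} := by
      ext u
      show _ ≤ FlatMor.fibreDimAt f u.1 ↔ _ ≤ FlatMor.fibreDimAt (f.resLE V U hUV) u
      rw [← Groth.Agent.Lib.Helper21.EquidimAt.fibreDimAt_ι_comp f U u]
      have e : U.ι ≫ f = f.resLE V U hUV ≫ V.ι := (Scheme.Hom.resLE_comp_ι f hUV).symm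
      have hpb : IsPullback (𝟙 (U : Scheme.{u})) (f.resLE V U hUV) (f.resLE V U hUV ≫ V.ι) V.ι := by
        have := (IsPullback.id_horiz (f.resLE V U hUV)).paste_vert (IsKernelPair.id_of_mono V.ι)
        simpa using this
      rw [e, Groth.Agent.Lib.Helper21.BaseChg.fibreDimAt_eq_of_isPullback hpb u]
      rfl
    rw [hset]
    exact h
  choose U hU hUA using key
  refine IsLocallyConstructible.of_isOpenCover (U := U) ?_ hUA
  rw [TopologicalSpace.IsOpenCover, eq_top_iff]
  intro x _
  exact TopologicalSpace.Opens.mem_iSup.mpr ⟨x, hU x⟩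

/-- The locus of points of the target whose fibre has dimension at least `k` is locally
constructible. -/
theorem isLocallyConstructible_setOf_le_dim_fiber (f : X ⟶ Y) [LocallyOfFinitePresentation f]
    [QuasiCompact f] (k : ℕ) :
    IsLocallyConstructible {y : Y | (k : WithBot ℕ∞) ≤ topologicalKrullDim ↥(f.fiber y)} := by
  have h := f.isLocallyConstructible_image (isLocallyConstructible_setOf_le_fibreDimAt f k)
  convert h using 1
  ext y
  rw [Set.mem_ofPred_eq, Groth.Agent.Lib.Helper21.Img.le_topologicalKrullDim_fiber_iff' f y k]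
  constructor
  · rintro ⟨c, hc, hk⟩
    exact ⟨c, hk, hc⟩
  · rintro ⟨c, hk, hc⟩
    exact ⟨c, hc, hk⟩

/-- the local fibre dimensions are bounded on each fibre of a quasi-compact morphism locally of
finite type. -/
theorem exists_fibreDimAt_le (f : X ⟶ Y) [LocallyOfFiniteType f] [QuasiCompact f] (y : Y) :
    ∃ N : ℕ, ∀ x : X, f x = y → FlatMor.fibreDimAt f x ≤ N := by
  have hch : ∀ t : f.fiber y, ∃ n : ℕ, FlatMor.fibreDimAt f (f.fiberι y t) = n := fun t => by
    obtain ⟨n, hn, -⟩ := Groth.Agent.Lib.Helper21.FibDim.exists_fibreDimAt_eq_trdeg f (f.fiberι y t)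
    exact ⟨n, hn⟩
  choose n hn using hch
  let U : f.fiber y → Set (f.fiber y) := fun t =>
    (f.fiberι y) ⁻¹' {x : X | FlatMor.fibreDimAt f x ≤ n t}
  have hUopen : ∀ t, IsOpen (U t) := fun t =>
    (Groth.Agent.Lib.Helper21.FibDim.isOpen_setOf_fibreDimAt_le f (n t)).preimage
      (f.fiberι y).continuous
  have hUmem : ∀ t, t ∈ U t := fun t => (hn t).le
  obtain ⟨s, hs⟩ := CompactSpace.elim_nhds_subcover U (fun t => (hUopen t).mem_nhds (hUmem t))
  refine ⟨s.sup n, fun x hx => ?_⟩
  let t : f.fiber y := (f.fiberHomeo y).symm ⟨x, hx⟩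
  have ht : f.fiberι y t = x := Scheme.Hom.fiberι_fiberHomeo_symm f y ⟨x, hx⟩
  have hmem : t ∈ ⋃ i ∈ s, U i := by rw [hs]; trivial
  simp only [Set.mem_iUnion] at hmem
  obtain ⟨i, his, hti⟩ := hmem
  have h1 : FlatMor.fibreDimAt f x ≤ n i := by rw [← ht]; exact hti
  refine h1.trans ?_
  exact_mod_cast Finset.le_sup his

/-- the fibres of a quasi-compact morphism locally of finite type are finite-dimensional. -/
theorem exists_dim_fiber_le (f : X ⟶ Y) [LocallyOfFiniteType f] [QuasiCompact f] (y : Y) :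
    ∃ N : ℕ, topologicalKrullDim ↥(f.fiber y) ≤ N := by
  obtain ⟨N, hN⟩ := exists_fibreDimAt_le f y
  refine ⟨N, ?_⟩
  by_contra hcon
  rw [not_le] at hcon
  have h1 : ((N + 1 : ℕ) : WithBot ℕ∞) ≤ topologicalKrullDim ↥(f.fiber y) := by
    induction' hd : topologicalKrullDim ↥(f.fiber y) using WithBot.recBotCoe with b
    · rw [hd] at hcon
      exact absurd hcon (by simp)
    · rw [hd] at hcon
      have h2 : (N : ℕ∞) < b := by exact_mod_cast hcon
      have h3 : ((N + 1 : ℕ) : ℕ∞) ≤ b := by
        rw [Nat.cast_succ]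
        exact Order.add_one_le_of_lt h2
      exact_mod_cast h3
  rw [Groth.Agent.Lib.Helper21.Img.le_topologicalKrullDim_fiber_iff' f y (N + 1)] at h1
  obtain ⟨c, hc, hk⟩ := h1
  have h4 := hk.trans (hN c hc)
  have h5 : ((N + 1 : ℕ) : ℕ∞) ≤ (N : ℕ∞) := by exact_mod_cast h4
  have h6 : N + 1 ≤ N := by exact_mod_cast h5
  omega

/-- **Main**: level sets of the fibre dimension are locally constructible. -/
theorem main (f : X ⟶ Y) [LocallyOfFinitePresentation f] [QuasiCompact f] (n : WithBot ℕ∞) :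
    IsLocallyConstructible {y : Y | topologicalKrullDim ↥(f.fiber y) = n} := by
  induction' n using WithBot.recBotCoe with b
  · -- empty fibres
    have h := isLocallyConstructible_compl (isLocallyConstructible_setOf_le_dim_fiber f 0)
    convert h using 1
    ext y
    simp only [Set.mem_ofPred_eq, Set.mem_compl_iff, Nat.cast_zero]
    induction' hd : topologicalKrullDim ↥(f.fiber y) using WithBot.recBotCoe with b
    · simp
    · simp
  · induction' b using ENat.recTopCoe with m
    · -- infinite dimension does not occur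
      convert IsLocallyConstructible.empty (X := Y) using 1
      ext y
      simp only [Set.mem_ofPred_eq, Set.mem_empty_iff_false, iff_false]
      obtain ⟨N, hN⟩ := exists_dim_fiber_le f y
      intro h
      rw [h] at hN
      have h5 : (⊤ : ℕ∞) ≤ (N : ℕ∞) := by exact_mod_cast hN
      simp at h5
    · have h := (isLocallyConstructible_setOf_le_dim_fiber f m).inter
        (isLocallyConstructible_compl (isLocallyConstructible_setOf_le_dim_fiber f (m + 1)))
      convert h using 1
      ext y
      simp only [Set.mem_ofPred_eq, Set.mem_inter_iff, Set.mem_compl_iff]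
      induction' hd : topologicalKrullDim ↥(f.fiber y) using WithBot.recBotCoe with b
      · simp
      · constructor
        · intro h
          have hb : b = (m : ℕ∞) := by exact_mod_cast h
          subst hb
          refine ⟨le_rfl, ?_⟩
          intro h2
          have h5 : ((m + 1 : ℕ) : ℕ∞) ≤ (m : ℕ∞) := by exact_mod_cast h2
          have h6 : m + 1 ≤ m := by exact_mod_cast h5
          omega
        · rintro ⟨h1, h2⟩
          have h3 : (m : ℕ∞) ≤ b := by exact_mod_cast h1
          have h4 : ¬ ((m + 1 : ℕ) : ℕ∞) ≤ b := fun h => h2 (by exact_mod_cast h)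
          rw [not_le, Nat.cast_succ] at h4
          have h5 : b ≤ m := Order.le_of_lt_add_one h4
          have : b = m := le_antisymm h5 h3
          rw [this]

end Groth.Agent.Lib.Helper12.H12FibDimConstr
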