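import Mathlib
import Groth.Agent.Lib.Helper12.FibDimConstr
import Groth.Agent.Lib.Helper14.LqfDim0

set_option autoImplicit false
universe u

namespace Groth.Agent.Lib.Helper12.H12LqfConstr

open AlgebraicGeometry CategoryTheory Limits TopologicalSpace Topology Set.Notation

variable {X Y S : Scheme.{u}}

/-- The induced map on fibres over `s`. -/
noncomputable abbrev fibMap (f : X ⟶ Y) (g : Y ⟶ S) (s : S) :
    pullback (f ≫ g) (S.fromSpecResidueField s) ⟶ pullback g (S.fromSpecResidueField s) :=
  pullback.lift (pullback.fst (f ≫ g) (S.fromSpecResidueField s) ≫ f)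
    (pullback.snd (f ≫ g) (S.fromSpecResidueField s))
    ((Category.assoc _ _ _).trans pullback.condition)

theorem isPullback_fibMap (f : X ⟶ Y) (g : Y ⟶ S) (s : S) :
    IsPullback (pullback.fst (f ≫ g) (S.fromSpecResidueField s)) (fibMap f g s) f
      (pullback.fst g (S.fromSpecResidueField s)) := by
  have hright : IsPullback (pullback.fst g (S.fromSpecResidueField s))
      (pullback.snd g (S.fromSpecResidueField s)) g (S.fromSpecResidueField s) :=
    IsPullback.of_hasPullback _ _
  have houter : IsPullback (pullback.fst (f ≫ g) (S.fromSpecResidueField s))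
      (pullback.snd (f ≫ g) (S.fromSpecResidueField s)) (f ≫ g) (S.fromSpecResidueField s) :=
    IsPullback.of_hasPullback _ _
  refine IsPullback.of_bot ?_ ?_ hright
  · have : fibMap f g s ≫ pullback.snd g (S.fromSpecResidueField s) =
        pullback.snd (f ≫ g) (S.fromSpecResidueField s) := pullback.lift_snd _ _ _
    rw [this]
    exact houter
  · exact (pullback.lift_fst _ _ _).symm

theorem locallyOfFinitePresentation_of_comp (f : X ⟶ Y) (g : Y ⟶ S)
    [LocallyOfFinitePresentation (f ≫ g)] [LocallyOfFiniteType g] :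
    LocallyOfFinitePresentation f := by
  rw [HasRingHomProperty.iff_exists_appLE (P := @LocallyOfFinitePresentation)
    (RingHom.finitePresentation_stableUnderComposition.stableUnderCompositionWithLocalizationAway
      RingHom.finitePresentation_holdsForLocalizationAway).1]
  intro x
  obtain ⟨_, ⟨W, hW, rfl⟩, hxW, -⟩ :=
    S.isBasis_affineOpens.exists_subset_of_mem_open (Set.mem_univ (g (f x))) isOpen_univ
  obtain ⟨_, ⟨U, hU, rfl⟩, hxU, hUW⟩ :=
    Y.isBasis_affineOpens.exists_subset_of_mem_open (show f x ∈ g ⁻¹ᵁ W from hxW)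
      (g ⁻¹ᵁ W).2
  obtain ⟨_, ⟨V, hV, rfl⟩, hxV, hVU⟩ :=
    X.isBasis_affineOpens.exists_subset_of_mem_open (show x ∈ f ⁻¹ᵁ U from hxU) (f ⁻¹ᵁ U).2
  refine ⟨⟨U, hU⟩, ⟨V, hV⟩, hxV, hVU, ?_⟩
  have h1 := Scheme.Hom.appLE_comp_appLE f g W U V hUW hVU
  have h2 : ((f ≫ g).appLE W V (hVU.trans ((TopologicalSpace.Opens.map f.base).map
      (homOfLE hUW)).le)).hom.FinitePresentation :=
    (f ≫ g).finitePresentation_appLE hW hV _
  rw [← h1, CommRingCat.hom_comp] at h2
  exact RingHom.FinitePresentation.of_comp_finiteType _ h2 (g.finiteType_appLE hW hU hUW)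

theorem fibreDimAt_nonneg {U V : Scheme.{u}} (h : U ⟶ V) (u : ↥U) :
    0 ≤ FlatMor.fibreDimAt h u := by
  unfold FlatMor.fibreDimAt FlatMor.localDim
  refine le_iInf fun O => ?_
  have : Nonempty ↥(O.1 : Set ↥(h.fiber (h u))) := ⟨⟨_, O.2⟩⟩
  exact Groth.Agent.Lib.Helper14.AS.topologicalKrullDim_nonneg' _

theorem range_fst (h : X ⟶ S) (s : S) :
    Set.range (pullback.fst h (S.fromSpecResidueField s)) = h ⁻¹' {s} := by
  rw [Scheme.Pullback.range_fst, Scheme.range_fromSpecResidueField]

theorem main (f : X ⟶ Y) (g : Y ⟶ S)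
    [LocallyOfFinitePresentation g]
    [LocallyOfFinitePresentation (f ≫ g)] [QuasiCompact (f ≫ g)] :
    IsLocallyConstructible {s : S | LocallyQuasiFinite (fibMap f g s)} := by
  have hf : LocallyOfFinitePresentation f := locallyOfFinitePresentation_of_comp f g
  have hset : {s : S | LocallyQuasiFinite (fibMap f g s)} =
      ((f ≫ g) '' {x : X | ((1 : ℕ) : WithBot ℕ∞) ≤ FlatMor.fibreDimAt f x})ᶜ := by
    ext s
    have hpb := isPullback_fibMap f g s
    have hlft : LocallyOfFiniteType (fibMap f g s) :=
      MorphismProperty.of_isPullback hpb (inferInstance : LocallyOfFiniteType f)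
    simp only [Set.mem_ofPred_eq, Set.mem_compl_iff, Set.mem_image, not_exists, not_and]
    rw [Groth.Agent.Lib.Helper14.AS.locallyQuasiFinite_iff_fibreDimAt_eq_zero]
    constructor
    · intro h0 x hx hxs
      have hxr : x ∈ Set.range (pullback.fst (f ≫ g) (S.fromSpecResidueField s)) := by
        rw [range_fst]; exact hxs
      obtain ⟨x', rfl⟩ := hxr
      have := h0 x'
      rw [Groth.Agent.Lib.Helper21.BaseChg.fibreDimAt_eq_of_isPullback hpb x'] at this
      rw [this] at hx
      exact absurd hx (by decide)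
    · intro h1 x'
      have hx's : (f ≫ g) (pullback.fst (f ≫ g) (S.fromSpecResidueField s) x') = s := by
        have : pullback.fst (f ≫ g) (S.fromSpecResidueField s) x' ∈
            Set.range (pullback.fst (f ≫ g) (S.fromSpecResidueField s)) := ⟨x', rfl⟩
        rw [range_fst] at this
        exact this
      have hnot := fun hx => h1 _ hx hx's
      rw [Groth.Agent.Lib.Helper21.BaseChg.fibreDimAt_eq_of_isPullback hpb x']
      refine le_antisymm ?_ (fibreDimAt_nonneg f _)
      by_contra hcon
      exact hnot (by exact_mod_cast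
        Groth.Agent.Lib.Helper14.AS.withBot_one_le_of_not_le_zero _ hcon)
  rw [hset]
  exact H12FibDimConstr.isLocallyConstructible_compl
    (Scheme.Hom.isLocallyConstructible_image (f ≫ g)
      (H12FibDimConstr.isLocallyConstructible_setOf_le_fibreDimAt f 1))

end Groth.Agent.Lib.Helper12.H12LqfConstr
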