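import Mathlib
import Groth.Agent.Lib.Helper12.FlatStage4
import Groth.Agent.Lib.Helper12.HomGlue3
import Groth.Agent.Lib.Helper12.LqfConstr
import Groth.Agent.Lib.Helper5.LimitBaseChange

set_option autoImplicit false
universe u

open CategoryTheory CategoryTheory.Limits AlgebraicGeometry TensorProduct Opposite
open Groth.Agent.Lib.Helper29.QCoh Groth.Agent.Lib.Helper12.H12ModLim
open Groth.Agent.Lib.Helper5

namespace Groth.Agent.Lib.Helper12.H12FlatStage

section S4849
variable {I : Type u} [SmallCategory I] [IsCofiltered I]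
    (D : I ⥤ Scheme.{u}) (c : Limits.Cone D) (hc : Limits.IsLimit c)
    [∀ (i j : I) (φ : i ⟶ j), IsAffineHom (D.map φ)] (i₀ : I)
    {X₀ Y₀ : Scheme.{u}} (f₀ : X₀ ⟶ Y₀) (g₀ : Y₀ ⟶ D.obj i₀)
    {X Y : Scheme.{u}} (f : X ⟶ Y) (g : Y ⟶ c.pt) (qY : Y ⟶ Y₀) (qX : X ⟶ X₀)
    (hY : IsPullback qY g g₀ (c.π.app i₀)) (hX : IsPullback qX f f₀ qY)

set_option backward.isDefEq.respectTransparency false in
/-- The cone over the base-changed diagram `Y_j = S_j ×_{S_{i₀}} Y₀` with vertex `Y`. -/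
noncomputable def yCone : Cone (bcDiagram D i₀ g₀) where
  pt := Y
  π :=
    { app := fun j => pullback.lift (g ≫ c.π.app j.left) qY (by
        rw [Category.assoc, c.w, hY.w])
      naturality := fun j k φ => by
        apply pullback.hom_ext <;> simp [bcDiagram] }

set_option backward.isDefEq.respectTransparency false in
@[reassoc (attr := simp)]
theorem yCone_π_fst (j : Over i₀) : (yCone D c i₀ g₀ g qY hY).π.app j ≫
    pullback.fst (D.map j.hom) g₀ = g ≫ c.π.app j.left := by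
  simp [yCone]

set_option backward.isDefEq.respectTransparency false in
@[reassoc (attr := simp)]
theorem yCone_π_snd (j : Over i₀) : (yCone D c i₀ g₀ g qY hY).π.app j ≫
    pullback.snd (D.map j.hom) g₀ = qY := by
  simp [yCone]

set_option backward.isDefEq.respectTransparency false in
theorem isPullback_yCone (j : Over i₀) :
    IsPullback ((yCone D c i₀ g₀ g qY hY).π.app j) g
      (pullback.fst (D.map j.hom) g₀) (c.π.app j.left) := by
  refine IsPullback.of_right (h₁₂ := pullback.snd (D.map j.hom) g₀) (v₁₃ := g₀)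
    (h₂₂ := D.map j.hom) ?_ (yCone_π_fst D c i₀ g₀ g qY hY j)
    (IsPullback.of_hasPullback (D.map j.hom) g₀).flip
  rw [yCone_π_snd, c.w]
  exact hY

attribute [local instance] CategoryTheory.isConnected_of_hasTerminal

noncomputable def yConeHom : (Cone.postcompose (bcDiagramι D i₀ g₀)).obj (yCone D c i₀ g₀ g qY hY) ⟶
    (c.whisker (Over.forget i₀)) where
  hom := g
  w := fun j => (yCone_π_fst D c i₀ g₀ g qY hY j).symm

noncomputable def isLimitYCone (hc : IsLimit c) : IsLimit (yCone D c i₀ g₀ g qY hY) :=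
  isLimitOfIsPullbackOfIsConnected (bcDiagramι D i₀ g₀) _ _ (yConeHom D c i₀ g₀ g qY hY)
    (fun j ↦ isPullback_yCone D c i₀ g₀ g qY hY j)
    ((Functor.Initial.isLimitWhiskerEquiv (Over.forget i₀) c).symm hc)

include hY hX in
/-- Flatness at a stage implies flatness in the limit (for any pullback data at the stage). -/
theorem isFlatOver_of_stage (F₀ : X₀.Modules) [F₀.IsQuasicoherent]
    {i : I} (φ : i ⟶ i₀) {Xi Yi : Scheme.{u}} (fi : Xi ⟶ Yi) (gi : Yi ⟶ D.obj i)
    (pY : Yi ⟶ Y₀) (pX : Xi ⟶ X₀) (hYi : IsPullback pY gi g₀ (D.map φ))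
    (hXi : IsPullback pX fi f₀ pY)
    (h : FlatMod.IsFlatOver fi ((Scheme.Modules.pullback pX).obj F₀)) :
    FlatMod.IsFlatOver f ((Scheme.Modules.pullback qX).obj F₀) := by
  let vY : Y ⟶ Yi := hYi.lift qY (g ≫ c.π.app i) (by rw [hY.w, Category.assoc, c.w])
  have hvY1 : vY ≫ pY = qY := hYi.lift_fst _ _ _
  let vX : X ⟶ Xi := hXi.lift qX (f ≫ vY) (by rw [hX.w, Category.assoc, hvY1])
  have hvX1 : vX ≫ pX = qX := hXi.lift_fst _ _ _
  have hvX2 : vX ≫ fi = f ≫ vY := hXi.lift_snd _ _ _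
  have hsq : IsPullback vX f fi vY := by
    refine IsPullback.of_right (h₁₂ := pX) (v₁₃ := f₀) (h₂₂ := pY) ?_ hvX2 hXi
    rw [hvX1, hvY1]
    exact hX
  intro x
  have h1 := Groth.Agent.Lib.Helper10.FibreProductStalk.isFlatOverAt_baseChange x
    ((Scheme.Modules.pullback pX).obj F₀) hsq (h _)
  exact isFlatOverAt_of_iso f (Groth.Agent.Lib.Helper12.H12HomGlue.compIso vX pX qX hvX1 F₀) x h1

set_option backward.isDefEq.respectTransparency false in
theorem bcDiagram_map_snd {j k : Over i₀} (φ : j ⟶ k) :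
    (bcDiagram D i₀ g₀).map φ ≫ pullback.snd (D.map k.hom) g₀ = pullback.snd (D.map j.hom) g₀ := by
  simp [bcDiagram]

include hc hY hX in
/-- Flatness in the limit gives flatness at a stage (canonical pullbacks). -/
theorem exists_stage_of_isFlatOver [CompactSpace (D.obj i₀)] [LocallyOfFinitePresentation g₀]
    [LocallyOfFinitePresentation (f₀ ≫ g₀)] [QuasiCompact (f₀ ≫ g₀)]
    (F₀ : X₀.Modules) [F₀.IsQuasicoherent] [F₀.IsFinitePresentation]
    (h : FlatMod.IsFlatOver f ((Scheme.Modules.pullback qX).obj F₀)) :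
    ∃ (k : Over i₀), FlatMod.IsFlatOver (pullback.snd f₀ (pullback.snd (D.map k.hom) g₀))
        ((Scheme.Modules.pullback (pullback.fst f₀ (pullback.snd (D.map k.hom) g₀))).obj F₀) := by
  haveI hA : ∀ {i j : I} (f : i ⟶ j), IsAffineHom (D.map f) := fun f => inferInstance
  haveI : ∀ (j k : Over i₀) (a : j ⟶ k), IsAffineHom ((bcDiagram D i₀ g₀).map a) :=
    fun j k a => inferInstance
  let j₀ : Over i₀ := Over.mk (𝟙 i₀)
  haveI : IsIso (D.map j₀.hom) := by
    change IsIso (D.map (𝟙 i₀))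
    infer_instance
  let e₀ : (bcDiagram D i₀ g₀).obj j₀ ⟶ Y₀ := pullback.snd (D.map j₀.hom) g₀
  haveI : IsIso e₀ := by
    change IsIso (pullback.snd (D.map j₀.hom) g₀)
    infer_instance
  haveI : LocallyOfFinitePresentation f₀ :=
    Groth.Agent.Lib.Helper12.H12LqfConstr.locallyOfFinitePresentation_of_comp f₀ g₀
  let f₀' : X₀ ⟶ (bcDiagram D i₀ g₀).obj j₀ := f₀ ≫ inv e₀
  haveI : LocallyOfFinitePresentation f₀' := by
    change LocallyOfFinitePresentation (f₀ ≫ inv e₀)
    infer_instance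
  haveI : CompactSpace X₀ := QuasiCompact.compactSpace_of_compactSpace (f₀ ≫ g₀)
  have hX' : IsPullback qX f f₀' ((yCone D c i₀ g₀ g qY hY).π.app j₀) := by
    refine IsPullback.of_iso hX (Iso.refl _) (Iso.refl _) (Iso.refl _) (asIso e₀).symm
      (by simp) (by simp) (by simp [f₀']) ?_
    simp only [Iso.symm_hom, asIso_inv, Iso.refl_hom, Category.id_comp, IsIso.comp_inv_eq]
    exact (yCone_π_snd D c i₀ g₀ g qY hY j₀).symm
  obtain ⟨k, φ, hk⟩ := exists_stage_isFlatOver (bcDiagram D i₀ g₀) (yCone D c i₀ g₀ g qY hY)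
    (isLimitYCone D c i₀ g₀ g qY hY hc) j₀ f₀' F₀ hX' h
  refine ⟨k, hk _ _ ?_⟩
  refine IsPullback.of_iso (IsPullback.of_hasPullback f₀ (pullback.snd (D.map k.hom) g₀))
    (Iso.refl _) (Iso.refl _) (Iso.refl _) (asIso e₀).symm
    (by simp) (by rw [Iso.refl_hom, Iso.refl_hom, Category.id_comp]; exact Category.comp_id _)
    (by simp [f₀']) ?_
  simp only [Iso.symm_hom, asIso_inv, Iso.refl_hom, Category.id_comp, IsIso.comp_inv_eq]
  exact (bcDiagram_map_snd D i₀ g₀ φ).symm

end S4849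

end Groth.Agent.Lib.Helper12.H12FlatStage
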