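import Mathlib
import Groth.Agent.Lib.Helper12.FlatStage5
import Groth.Agent.Lib.Helper18.FlH
import Groth.Agent.Lib.Helper10.PullbackStalk

set_option autoImplicit false
universe u

open CategoryTheory CategoryTheory.Limits AlgebraicGeometry TensorProduct Opposite
open Groth.Agent.Lib.Helper29.QCoh Groth.Agent.Lib.Helper12.H12ModLim
open Groth.Agent.Lib.Helper5

namespace Groth.Agent.Lib.Helper12.H12FlatStage

section Restrict
variable {X S : Scheme.{u}}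

/-- Flatness over the base can be tested on an open subscheme. -/
theorem isFlatOverAt_restrict_iff (f : X ⟶ S) (M : X.Modules) [M.IsQuasicoherent] (U : X.Opens)
    (y : U.toScheme) :
    FlatMod.IsFlatOverAt (U.ι ≫ f) ((Scheme.Modules.pullback U.ι).obj M) y ↔
      FlatMod.IsFlatOverAt f M (U.ι y) :=
  Groth.Agent.Lib.Helper10.PullbackStalk.isFlatOverAt_pullback_iff U.ι f M y (Flat.stalkMap U.ι y)

end Restrict

section Pointwise
open Groth.Agent.Lib.Helper12.H12HomGlue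
variable {I : Type u} [SmallCategory I] [IsCofiltered I] (D : I ⥤ Scheme.{u}) (c : Cone D)
  (hc : IsLimit c) [∀ (i j : I) (a : i ⟶ j), IsAffineHom (D.map a)]
  (i₀ : I) {X₀ : Scheme.{u}} (f₀ : X₀ ⟶ D.obj i₀) [LocallyOfFinitePresentation f₀]
  (F₀ : X₀.Modules) [F₀.IsQuasicoherent] [F₀.IsFinitePresentation]

include hc in
/-- **Pointwise form**: flatness at a point of the limit descends to a stage. -/
theorem exists_stage_isFlatOverAt {X : Scheme.{u}} {qX : X ⟶ X₀} {f : X ⟶ c.pt}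
    (hX : IsPullback qX f f₀ (c.π.app i₀)) (x : X)
    (hx : FlatMod.IsFlatOverAt f ((Scheme.Modules.pullback qX).obj F₀) x) :
    ∃ (l : I) (φ : l ⟶ i₀), ∀ {Xl : Scheme.{u}} (pX : Xl ⟶ X₀) (fl : Xl ⟶ D.obj l) (vX : X ⟶ Xl),
      IsPullback pX fl f₀ (D.map φ) → vX ≫ pX = qX → vX ≫ fl = f ≫ c.π.app l →
        FlatMod.IsFlatOverAt fl ((Scheme.Modules.pullback pX).obj F₀) (vX x) := by
  haveI hA : ∀ {i j : I} (f : i ⟶ j), IsAffineHom (D.map f) := fun f => inferInstance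
  haveI : LocallyOfFinitePresentation f := MorphismProperty.of_isPullback hX inferInstance
  have hopen := Groth.Agent.Lib.Helper18.Fl.isOpen_isFlatOverAt f
    ((Scheme.Modules.pullback qX).obj F₀)
  let U : X.Opens := ⟨_, hopen⟩
  have hlim : IsLimit (yCone D c i₀ f₀ f qX hX) := isLimitYCone D c i₀ f₀ f qX hX hc
  obtain ⟨U', ⟨k, Vk, hVk, rfl⟩, hxV, hVU⟩ := TopologicalSpace.Opens.isBasis_iff_nbhd.mp
    (isBasis_preimage_isAffineOpen (bcDiagram D i₀ f₀) (yCone D c i₀ f₀ f qX hX) hlim)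
    (show x ∈ U from hx)
  -- new data based at `k.left`
  let Xk : Scheme.{u} := (bcDiagram D i₀ f₀).obj k
  let pfst : Xk ⟶ D.obj k.left := pullback.fst (D.map k.hom) f₀
  let psnd : Xk ⟶ X₀ := pullback.snd (D.map k.hom) f₀
  haveI : LocallyOfFinitePresentation pfst :=
    (inferInstance : LocallyOfFinitePresentation (pullback.fst (D.map k.hom) f₀))
  have hpb : IsPullback psnd pfst f₀ (D.map k.hom) :=
    (IsPullback.of_hasPullback (D.map k.hom) f₀).flip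
  let πk : X ⟶ Xk := (yCone D c i₀ f₀ f qX hX).π.app k
  have hπ1 : πk ≫ pfst = f ≫ c.π.app k.left := yCone_π_fst D c i₀ f₀ f qX hX k
  have hπ2 : πk ≫ psnd = qX := yCone_π_snd D c i₀ f₀ f qX hX k
  have hπsq : IsPullback πk f pfst (c.π.app k.left) := isPullback_yCone D c i₀ f₀ f qX hX k
  let f₀' : Vk.toScheme ⟶ D.obj k.left := Vk.ι ≫ pfst
  haveI : LocallyOfFinitePresentation f₀' :=
    (inferInstance : LocallyOfFinitePresentation (Vk.ι ≫ pfst))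
  haveI : CompactSpace Vk.toScheme := isCompact_iff_compactSpace.mp hVk.isCompact
  let qk : Vk.toScheme ⟶ X₀ := Vk.ι ≫ psnd
  have hX' : IsPullback (πk ∣_ Vk) ((πk ⁻¹ᵁ Vk).ι ≫ f) f₀' (c.π.app k.left) :=
    (isPullback_morphismRestrict πk Vk).paste_vert hπsq
  have hfl' : FlatMod.IsFlatOver ((πk ⁻¹ᵁ Vk).ι ≫ f)
      ((Scheme.Modules.pullback (πk ∣_ Vk)).obj ((Scheme.Modules.pullback qk).obj F₀)) := by
    intro y
    have e1 : (πk ∣_ Vk) ≫ qk = (πk ⁻¹ᵁ Vk).ι ≫ qX := by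
      change (πk ∣_ Vk) ≫ Vk.ι ≫ psnd = _
      rw [← Category.assoc, morphismRestrict_ι, Category.assoc, hπ2]
    let e := compIso (πk ∣_ Vk) qk ((πk ⁻¹ᵁ Vk).ι ≫ qX) e1 F₀ ≪≫
      (compIso (πk ⁻¹ᵁ Vk).ι qX ((πk ⁻¹ᵁ Vk).ι ≫ qX) rfl F₀).symm
    refine isFlatOverAt_of_iso _ e.symm y ?_
    exact (isFlatOverAt_restrict_iff f ((Scheme.Modules.pullback qX).obj F₀)
      (πk ⁻¹ᵁ Vk) y).mpr (hVU y.2)
  obtain ⟨l, ψ, hl⟩ := exists_stage_isFlatOver D c hc k.left f₀'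
    ((Scheme.Modules.pullback qk).obj F₀) hX' hfl'
  refine ⟨l, ψ ≫ k.hom, fun {Xl} pX fl vX H h1 h2 => ?_⟩
  let w : Xl ⟶ Xk := hpb.lift pX (fl ≫ D.map ψ) (by
    rw [Category.assoc, ← D.map_comp, H.w])
  have hw1 : w ≫ pfst = fl ≫ D.map ψ := hpb.lift_snd _ _ _
  have hw2 : w ≫ psnd = pX := hpb.lift_fst _ _ _
  have hsq : IsPullback w fl pfst (D.map ψ) := by
    refine IsPullback.of_right (h₁₂ := psnd) (v₁₃ := f₀) (h₂₂ := D.map k.hom) ?_ hw1 hpb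
    rw [hw2, ← D.map_comp]
    exact H
  have hsq' : IsPullback (w ∣_ Vk) ((w ⁻¹ᵁ Vk).ι ≫ fl) f₀' (D.map ψ) :=
    (isPullback_morphismRestrict w Vk).paste_vert hsq
  have hfl2 := hl (w ∣_ Vk) ((w ⁻¹ᵁ Vk).ι ≫ fl) hsq'
  have hvw : vX ≫ w = πk := by
    apply hpb.hom_ext
    · rw [Category.assoc, hw2, h1, hπ2]
    · rw [Category.assoc, hw1, ← Category.assoc, h2, Category.assoc, c.w, hπ1]
  have hmem : vX x ∈ w ⁻¹ᵁ Vk := by
    change w (vX x) ∈ Vk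
    rw [← Scheme.Hom.comp_apply, hvw]
    exact hxV
  let y : (w ⁻¹ᵁ Vk).toScheme := ⟨vX x, hmem⟩
  have h3 := hfl2 y
  have e1 : (w ∣_ Vk) ≫ qk = (w ⁻¹ᵁ Vk).ι ≫ pX := by
    change (w ∣_ Vk) ≫ Vk.ι ≫ psnd = _
    rw [← Category.assoc, morphismRestrict_ι, Category.assoc, hw2]
  let e := compIso (w ∣_ Vk) qk ((w ⁻¹ᵁ Vk).ι ≫ pX) e1 F₀ ≪≫
    (compIso (w ⁻¹ᵁ Vk).ι pX ((w ⁻¹ᵁ Vk).ι ≫ pX) rfl F₀).symm
  have h4 := isFlatOverAt_of_iso _ e y h3
  exact (isFlatOverAt_restrict_iff fl ((Scheme.Modules.pullback pX).obj F₀) (w ⁻¹ᵁ Vk) y).mp h4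

end Pointwise

end Groth.Agent.Lib.Helper12.H12FlatStage
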