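import Mathlib
import Groth.Agent.Lib.Helper12.FlatStage6

set_option autoImplicit false
universe u

open CategoryTheory CategoryTheory.Limits AlgebraicGeometry TensorProduct Opposite
open Groth.Agent.Lib.Helper29.QCoh Groth.Agent.Lib.Helper12.H12ModLim
open Groth.Agent.Lib.Helper5

namespace Groth.Agent.Lib.Helper12.H12FlatStage

section S4900
variable {I : Type u} [SmallCategory I] [IsCofiltered I]
    (D : I ⥤ Scheme.{u}) (c : Limits.Cone D) (hc : Limits.IsLimit c)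
    [∀ (i j : I) (φ : i ⟶ j), IsAffineHom (D.map φ)] (i₀ : I)
    {X₀ Y₀ : Scheme.{u}} (f₀ : X₀ ⟶ Y₀) (g₀ : Y₀ ⟶ D.obj i₀)
    {X Y : Scheme.{u}} (f : X ⟶ Y) (g : Y ⟶ c.pt) (qY : Y ⟶ Y₀) (qX : X ⟶ X₀)
    (hY : IsPullback qY g g₀ (c.π.app i₀)) (hX : IsPullback qX f f₀ qY)

include hX in
/-- Flatness at a point at a stage implies flatness at the point in the limit. -/
theorem isFlatOverAt_of_stage (F₀ : X₀.Modules) [F₀.IsQuasicoherent]
    {Xi Yi : Scheme.{u}} (fi : Xi ⟶ Yi)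
    (pY : Yi ⟶ Y₀) (pX : Xi ⟶ X₀) (vY : Y ⟶ Yi) (vX : X ⟶ Xi)
    (hXi : IsPullback pX fi f₀ pY) (hvY1 : vY ≫ pY = qY) (hvX1 : vX ≫ pX = qX)
    (hvX2 : vX ≫ fi = f ≫ vY) (x : X)
    (h : FlatMod.IsFlatOverAt fi ((Scheme.Modules.pullback pX).obj F₀) (vX x)) :
    FlatMod.IsFlatOverAt f ((Scheme.Modules.pullback qX).obj F₀) x := by
  have hsq : IsPullback vX f fi vY := by
    refine IsPullback.of_right (h₁₂ := pX) (v₁₃ := f₀) (h₂₂ := pY) ?_ hvX2 hXi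
    rw [hvX1, hvY1]
    exact hX
  have h1 := Groth.Agent.Lib.Helper10.FibreProductStalk.isFlatOverAt_baseChange x
    ((Scheme.Modules.pullback pX).obj F₀) hsq h
  exact isFlatOverAt_of_iso f (Groth.Agent.Lib.Helper12.H12HomGlue.compIso vX pX qX hvX1 F₀) x h1

include hc hY hX in
theorem exists_stage_of_isFlatOverAt [LocallyOfFinitePresentation f₀]
    (F₀ : X₀.Modules) [F₀.IsQuasicoherent] [F₀.IsFinitePresentation] (x : X)
    (h : FlatMod.IsFlatOverAt f ((Scheme.Modules.pullback qX).obj F₀) x) :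
    ∃ (i : I) (φ : i ⟶ i₀) (Xi Yi : Scheme.{u}) (fi : Xi ⟶ Yi) (gi : Yi ⟶ D.obj i)
      (pY : Yi ⟶ Y₀) (pX : Xi ⟶ X₀) (vY : Y ⟶ Yi) (vX : X ⟶ Xi),
      IsPullback pY gi g₀ (D.map φ) ∧ IsPullback pX fi f₀ pY ∧
        vY ≫ pY = qY ∧ vY ≫ gi = g ≫ c.π.app i ∧ vX ≫ pX = qX ∧ vX ≫ fi = f ≫ vY ∧
        FlatMod.IsFlatOverAt fi ((Scheme.Modules.pullback pX).obj F₀) (vX x) := by
  haveI hA : ∀ {i j : I} (f : i ⟶ j), IsAffineHom (D.map f) := fun f => inferInstance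
  haveI : ∀ (j k : Over i₀) (a : j ⟶ k), IsAffineHom ((bcDiagram D i₀ g₀).map a) :=
    fun j k a => inferInstance
  let j₀ : Over i₀ := Over.mk (𝟙 i₀)
  haveI : IsIso (D.map j₀.hom) := by
    change IsIso (D.map (𝟙 i₀))
    infer_instance
  let e₀ : (bcDiagram D i₀ g₀).obj j₀ ⟶ Y₀ := pullback.snd (D.map j₀.hom) g₀
  haveI : IsIso e₀ := by
    change IsIso (pullback.snd (D.map j₀.hom) g₀)
    infer_instance
  let f₀' : X₀ ⟶ (bcDiagram D i₀ g₀).obj j₀ := f₀ ≫ inv e₀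
  haveI : LocallyOfFinitePresentation f₀' := by
    change LocallyOfFinitePresentation (f₀ ≫ inv e₀)
    infer_instance
  have hX' : IsPullback qX f f₀' ((yCone D c i₀ g₀ g qY hY).π.app j₀) := by
    refine IsPullback.of_iso hX (Iso.refl _) (Iso.refl _) (Iso.refl _) (asIso e₀).symm
      (by simp) (by simp) (by simp [f₀']) ?_
    simp only [Iso.symm_hom, asIso_inv, Iso.refl_hom, Category.id_comp, IsIso.comp_inv_eq]
    exact (yCone_π_snd D c i₀ g₀ g qY hY j₀).symm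
  obtain ⟨k, φ, hk⟩ := exists_stage_isFlatOverAt (bcDiagram D i₀ g₀) (yCone D c i₀ g₀ g qY hY)
    (isLimitYCone D c i₀ g₀ g qY hY hc) j₀ f₀' F₀ hX' x h
  let Yi : Scheme.{u} := (bcDiagram D i₀ g₀).obj k
  let pY : Yi ⟶ Y₀ := pullback.snd (D.map k.hom) g₀
  let gi : Yi ⟶ D.obj k.left := pullback.fst (D.map k.hom) g₀
  let vY : Y ⟶ Yi := (yCone D c i₀ g₀ g qY hY).π.app k
  have hvY1 : vY ≫ pY = qY := yCone_π_snd D c i₀ g₀ g qY hY k
  have hvY2 : vY ≫ gi = g ≫ c.π.app k.left := yCone_π_fst D c i₀ g₀ g qY hY k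
  let vX : X ⟶ pullback f₀ pY := pullback.lift qX (f ≫ vY) (by rw [hX.w, Category.assoc, hvY1])
  have hvX1 : vX ≫ pullback.fst f₀ pY = qX := pullback.lift_fst _ _ _
  have hvX2 : vX ≫ pullback.snd f₀ pY = f ≫ vY := pullback.lift_snd _ _ _
  refine ⟨k.left, k.hom, pullback f₀ pY, Yi, pullback.snd f₀ pY, gi, pY, pullback.fst f₀ pY, vY, vX,
    (IsPullback.of_hasPullback (D.map k.hom) g₀).flip, IsPullback.of_hasPullback f₀ pY,
    hvY1, hvY2, hvX1, hvX2, ?_⟩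
  refine hk (pullback.fst f₀ pY) (pullback.snd f₀ pY) vX ?_ hvX1 hvX2
  refine IsPullback.of_iso (IsPullback.of_hasPullback f₀ pY)
    (Iso.refl _) (Iso.refl _) (Iso.refl _) (asIso e₀).symm
    (by simp) (by rw [Iso.refl_hom, Iso.refl_hom, Category.id_comp]; exact Category.comp_id _)
    (by simp [f₀']) ?_
  simp only [Iso.symm_hom, asIso_inv, Iso.refl_hom, Category.id_comp, IsIso.comp_inv_eq]
  exact (bcDiagram_map_snd D i₀ g₀ φ).symm

end S4900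

end Groth.Agent.Lib.Helper12.H12FlatStage
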