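import Mathlib
import Groth.Agent.Lib.Helper12.FlatInj4
import Groth.Agent.Lib.Helper12.FlatStage7

/-! # Injectivity with flat cokernel: pointwise descent to a stage and base change -/

set_option autoImplicit false
universe u

open CategoryTheory CategoryTheory.Limits AlgebraicGeometry TensorProduct Opposite Function
open Groth.Agent.Lib.Helper29.QCoh Groth.Agent.Lib.Helper12.H12ModLim
open Groth.Agent.Lib.Helper12.H12FlatStage Groth.Agent.Lib.Helper12.H12FlatLim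
open Groth.Agent.Lib.Helper12.H12HomGlue Groth.Agent.Lib.Helper5

namespace Groth.Agent.Lib.Helper12.H12FlatInj


section Transfer
variable {X Y Z : Scheme.{u}} (f : X ⟶ Y) (g : Y ⟶ Z) (h : X ⟶ Z) (e : f ≫ g = h)
  {M N : Z.Modules} (a : M ⟶ N)

theorem compIso_nat :
    (Scheme.Modules.pullback f).map ((Scheme.Modules.pullback g).map a) ≫ (compIso f g h e N).hom =
      (compIso f g h e M).hom ≫ (Scheme.Modules.pullback h).map a :=
  (Scheme.Modules.pullbackComp f g ≪≫ Scheme.Modules.pullbackCongr e).hom.naturality a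

include e in
theorem injAt_pullback_comp_iff (y : X) :
    InjAt ((Scheme.Modules.pullback f).map ((Scheme.Modules.pullback g).map a)) y ↔
      InjAt ((Scheme.Modules.pullback h).map a) y :=
  injAt_arrow_iso_iff (compIso f g h e M) (compIso f g h e N) (compIso_nat f g h e a) y

/-- The cokernels of `f^* g^* a` and `h^* a` agree. -/
noncomputable def cokerCompIso :
    cokernel ((Scheme.Modules.pullback f).map ((Scheme.Modules.pullback g).map a)) ≅
      cokernel ((Scheme.Modules.pullback h).map a) :=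
  cokernel.mapIso _ _ (compIso f g h e M) (compIso f g h e N) (compIso_nat f g h e a)

include e in
theorem isFlatOverAt_coker_comp_iff {T : Scheme.{u}} (φ : X ⟶ T) (y : X) :
    FlatMod.IsFlatOverAt φ
        (cokernel ((Scheme.Modules.pullback f).map ((Scheme.Modules.pullback g).map a))) y ↔
      FlatMod.IsFlatOverAt φ (cokernel ((Scheme.Modules.pullback h).map a)) y :=
  ⟨isFlatOverAt_of_iso φ (cokerCompIso f g h e a) y,
    isFlatOverAt_of_iso φ (cokerCompIso f g h e a).symm y⟩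

end Transfer

section Restr
variable {Z X₀ T : Scheme.{u}} (p : Z ⟶ X₀) (g : Z ⟶ T) {A B : X₀.Modules} [A.IsQuasicoherent]
  [B.IsQuasicoherent] (a : A ⟶ B) (U : Z.Opens)

theorem injAt_restr_iff (y : U.toScheme) :
    InjAt ((Scheme.Modules.pullback (U.ι ≫ p)).map a) y ↔
      InjAt ((Scheme.Modules.pullback p).map a) (U.ι y) := by
  rw [← injAt_pullback_comp_iff U.ι p (U.ι ≫ p) rfl a y]
  exact injAt_pullback_openImmersion_iff U.ι _ y

theorem isFlatOverAt_coker_restr_iff (y : U.toScheme) :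
    FlatMod.IsFlatOverAt (U.ι ≫ g) (cokernel ((Scheme.Modules.pullback (U.ι ≫ p)).map a)) y ↔
      FlatMod.IsFlatOverAt g (cokernel ((Scheme.Modules.pullback p).map a)) (U.ι y) := by
  rw [← isFlatOverAt_coker_comp_iff U.ι p (U.ι ≫ p) rfl a (U.ι ≫ g) y,
    ← isFlatOverAt_restrict_iff g (cokernel ((Scheme.Modules.pullback p).map a)) U y]
  exact ⟨isFlatOverAt_of_iso _ (cokerPullbackIso U.ι _) y,
    isFlatOverAt_of_iso _ (cokerPullbackIso U.ι _).symm y⟩

end Restr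



section BC
variable {X' S' X S : Scheme.{u}} {g' : X' ⟶ X} {f' : X' ⟶ S'} {f : X ⟶ S} {g : S' ⟶ S}
  (hc : IsPullback g' f' f g) [LocallyOfFinitePresentation f]
  {A B : X.Modules} [A.IsQuasicoherent] [A.IsFiniteType] [B.IsQuasicoherent]
  [B.IsFinitePresentation] (a : A ⟶ B)

include hc in
/-- Injectivity with flat cokernel at a point is stable under base change. -/
theorem injAt_baseChange (x' : X') (hinj : InjAt a (g' x'))
    (hfl : FlatMod.IsFlatOverAt f (cokernel a) (g' x')) :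
    InjAt ((Scheme.Modules.pullback g').map a) x' := by
  obtain ⟨U, hxU, hU⟩ := exists_open_injFlat f a (g' x') hinj hfl
  obtain ⟨_, ⟨V, hV : IsAffineOpen V, rfl⟩, hxV, -⟩ :=
    S.isBasis_affineOpens.exists_subset_of_mem_open (Set.mem_univ (f (g' x'))) isOpen_univ
  obtain ⟨_, ⟨W, hW : IsAffineOpen W, rfl⟩, hxW, hWsub⟩ :=
    X.isBasis_affineOpens.exists_subset_of_mem_open
      (show g' x' ∈ ((U ⊓ f ⁻¹ᵁ V : X.Opens) : Set X) from ⟨hxU, hxV⟩) (U ⊓ f ⁻¹ᵁ V).isOpen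
  have hWU : W ≤ U := fun y hy => (hWsub hy).1
  have hWV : W ≤ f ⁻¹ᵁ V := fun y hy => (hWsub hy).2
  have hx'V : f' x' ∈ (g ⁻¹ᵁ V : S'.Opens) := by
    change g (f' x') ∈ V
    rw [← Scheme.Hom.comp_apply, ← hc.w, Scheme.Hom.comp_apply]
    exact hxV
  obtain ⟨_, ⟨V', hV' : IsAffineOpen V', rfl⟩, hxV', hV'sub⟩ :=
    S'.isBasis_affineOpens.exists_subset_of_mem_open hx'V (g ⁻¹ᵁ V).isOpen
  have hV'V : V' ≤ g ⁻¹ᵁ V := hV'sub
  have hchart : x' ∈ g' ⁻¹ᵁ W ⊓ f' ⁻¹ᵁ V' := ⟨hxW, hxV'⟩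
  refine injAt_of_app_injective _ (isAffineOpen_chart hc hV hW hV' hWV hV'V) ?_ x' hchart
  rw [chart_inj_iff hc a hV hW hV' hWV hV'V]
  unfold ChartInj
  letI a0 : Algebra Γ(S, V) Γ(S', V') := (g.appLE V V' hV'V).hom.toAlgebra
  letI a1 : Algebra Γ(S, V) Γ(X, W) := (f.appLE V W hWV).hom.toAlgebra
  letI m1 : Module Γ(S, V) Γ(A, W) := Module.compHom Γ(A, W) (f.appLE V W hWV).hom
  haveI t3 : IsScalarTower Γ(S, V) Γ(X, W) Γ(A, W) :=
    IsScalarTower.of_algebraMap_smul fun _ _ => rfl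
  letI m2 : Module Γ(S, V) Γ(B, W) := Module.compHom Γ(B, W) (f.appLE V W hWV).hom
  haveI t4 : IsScalarTower Γ(S, V) Γ(X, W) Γ(B, W) :=
    IsScalarTower.of_algebraMap_smul fun _ _ => rfl
  letI m3 : Module Γ(S, V) Γ(cokernel a, W) := Module.compHom _ (f.appLE V W hWV).hom
  haveI t5 : IsScalarTower Γ(S, V) Γ(X, W) Γ(cokernel a, W) :=
    IsScalarTower.of_algebraMap_smul fun _ _ => rfl
  have hflC : Module.Flat Γ(S, V) Γ(cokernel a, W) :=
    Groth.Agent.Lib.Helper8.FlatAffine.flat_sections_of_isFlatOverAt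
      (f := f) (F := cokernel a) hW hV hWV (fun y hy => (hU y (hWU hy)).2)
  obtain ⟨e⟩ := nonempty_cokerSectionsEquiv a hW
  haveI : Module.Flat Γ(S, V) (Γ(B, W) ⧸ LinearMap.range ((appₗ a W).restrictScalars Γ(S, V))) := by
    have e1 : LinearMap.range ((appₗ a W).restrictScalars Γ(S, V)) =
        (LinearMap.range (appₗ a W)).restrictScalars Γ(S, V) := by
      ext x; simp
    exact Module.Flat.of_linearEquiv (((Submodule.quotEquivOfEq _ _ e1).trans
      (Submodule.Quotient.restrictScalarsEquiv Γ(S, V) (LinearMap.range (appₗ a W)))).trans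
      (e.restrictScalars Γ(S, V)))
  have hinjW : Function.Injective ((appₗ a W).restrictScalars Γ(S, V)) :=
    app_injective_of_injAt a W (fun y hy => (hU y (hWU hy)).1)
  exact Groth.Agent.Lib27.FibInj.lTensor_injective_of_flat_coker _ hinjW Γ(S', V')

end BC

section Pointwise
variable {I : Type u} [SmallCategory I] [IsCofiltered I] (D : I ⥤ Scheme.{u}) (c : Cone D)
  (hc : IsLimit c) [∀ (i j : I) (a : i ⟶ j), IsAffineHom (D.map a)]
  (i₀ : I) {X₀ : Scheme.{u}} (f₀ : X₀ ⟶ D.obj i₀) [LocallyOfFinitePresentation f₀]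
  {F₀ G₀ : X₀.Modules} [F₀.IsQuasicoherent] [F₀.IsFiniteType] [G₀.IsQuasicoherent]
  [G₀.IsFinitePresentation] (h₀ : F₀ ⟶ G₀)

include hc in
/-- **Pointwise form**: injectivity with flat cokernel at a point of the limit descends to a
stage. -/
theorem exists_stage_injFlatAt {X : Scheme.{u}} {qX : X ⟶ X₀} {f : X ⟶ c.pt}
    (hX : IsPullback qX f f₀ (c.π.app i₀)) (x : X)
    (hx : InjAt ((Scheme.Modules.pullback qX).map h₀) x ∧
      FlatMod.IsFlatOverAt f (cokernel ((Scheme.Modules.pullback qX).map h₀)) x) :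
    ∃ (l : I) (φ : l ⟶ i₀), ∀ {Xl : Scheme.{u}} (pX : Xl ⟶ X₀) (fl : Xl ⟶ D.obj l) (vX : X ⟶ Xl),
      IsPullback pX fl f₀ (D.map φ) → vX ≫ pX = qX → vX ≫ fl = f ≫ c.π.app l →
        InjAt ((Scheme.Modules.pullback pX).map h₀) (vX x) ∧
          FlatMod.IsFlatOverAt fl (cokernel ((Scheme.Modules.pullback pX).map h₀)) (vX x) := by
  haveI hA : ∀ {i j : I} (f : i ⟶ j), IsAffineHom (D.map f) := fun f => inferInstance
  haveI : LocallyOfFinitePresentation f := MorphismProperty.of_isPullback hX inferInstance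
  obtain ⟨U, hxU, hU⟩ := exists_open_injFlat f ((Scheme.Modules.pullback qX).map h₀) x hx.1 hx.2
  have hlim : IsLimit (yCone D c i₀ f₀ f qX hX) := isLimitYCone D c i₀ f₀ f qX hX hc
  obtain ⟨U', ⟨k, Vk, hVk, rfl⟩, hxV, hVU⟩ := TopologicalSpace.Opens.isBasis_iff_nbhd.mp
    (isBasis_preimage_isAffineOpen (bcDiagram D i₀ f₀) (yCone D c i₀ f₀ f qX hX) hlim)
    (show x ∈ U from hxU)
  -- new data based at `k.left`
  let Xk : Scheme.{u} := (bcDiagram D i₀ f₀).obj k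
  let pfst : Xk ⟶ D.obj k.left := pullback.fst (D.map k.hom) f₀
  let psnd : Xk ⟶ X₀ := pullback.snd (D.map k.hom) f₀
  haveI : LocallyOfFinitePresentation pfst :=
    (inferInstance : LocallyOfFinitePresentation (pullback.fst (D.map k.hom) f₀))
  have hpb : IsPullback psnd pfst f₀ (D.map k.hom) :=
    (IsPullback.of_hasPullback (D.map k.hom) f₀).flip
  let πk : X ⟶ Xk := (yCone D c i₀ f₀ f qX hX).π.app k
  have hπ1 : πk ≫ pfst = f ≫ c.π.app k.left := yCone_π_fst D c i₀ f₀ f qX hX k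
  have hπ2 : πk ≫ psnd = qX := yCone_π_snd D c i₀ f₀ f qX hX k
  have hπsq : IsPullback πk f pfst (c.π.app k.left) := isPullback_yCone D c i₀ f₀ f qX hX k
  let f₀' : Vk.toScheme ⟶ D.obj k.left := Vk.ι ≫ pfst
  haveI : LocallyOfFinitePresentation f₀' :=
    (inferInstance : LocallyOfFinitePresentation (Vk.ι ≫ pfst))
  haveI : CompactSpace Vk.toScheme := isCompact_iff_compactSpace.mp hVk.isCompact
  let qk : Vk.toScheme ⟶ X₀ := Vk.ι ≫ psnd
  have hX' : IsPullback (πk ∣_ Vk) ((πk ⁻¹ᵁ Vk).ι ≫ f) f₀' (c.π.app k.left) :=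
    (isPullback_morphismRestrict πk Vk).paste_vert hπsq
  have e1 : (πk ∣_ Vk) ≫ qk = (πk ⁻¹ᵁ Vk).ι ≫ qX := by
    change (πk ∣_ Vk) ≫ Vk.ι ≫ psnd = _
    rw [← Category.assoc, morphismRestrict_ι, Category.assoc, hπ2]
  have hx' : ∀ y : (πk ⁻¹ᵁ Vk).toScheme,
      InjAt ((Scheme.Modules.pullback (πk ∣_ Vk)).map ((Scheme.Modules.pullback qk).map h₀)) y ∧
        FlatMod.IsFlatOverAt ((πk ⁻¹ᵁ Vk).ι ≫ f)
          (cokernel ((Scheme.Modules.pullback (πk ∣_ Vk)).map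
            ((Scheme.Modules.pullback qk).map h₀))) y := by
    intro y
    obtain ⟨h1, h2⟩ := hU _ (hVU y.2)
    constructor
    · rw [injAt_pullback_comp_iff _ _ _ e1 h₀ y, injAt_restr_iff qX h₀ (πk ⁻¹ᵁ Vk) y]
      exact h1
    · rw [isFlatOverAt_coker_comp_iff _ _ _ e1 h₀ _ y,
        isFlatOverAt_coker_restr_iff qX f h₀ (πk ⁻¹ᵁ Vk) y]
      exact h2
  obtain ⟨l, ψ, hl⟩ := exists_stage_injFlat D c hc k.left f₀'
    ((Scheme.Modules.pullback qk).map h₀) hX' hx'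
  refine ⟨l, ψ ≫ k.hom, fun {Xl} pX fl vX H h1 h2 => ?_⟩
  let w : Xl ⟶ Xk := hpb.lift pX (fl ≫ D.map ψ) (by
    rw [Category.assoc, ← D.map_comp, H.w])
  have hw1 : w ≫ pfst = fl ≫ D.map ψ := hpb.lift_snd _ _ _
  have hw2 : w ≫ psnd = pX := hpb.lift_fst _ _ _
  have hsq : IsPullback w fl pfst (D.map ψ) := by
    refine IsPullback.of_right (h₁₂ := psnd) (v₁₃ := f₀) (h₂₂ := D.map k.hom) ?_ hw1 hpb
    rw [hw2, ← D.map_comp]
    exact H
  have hsq' : IsPullback (w ∣_ Vk) ((w ⁻¹ᵁ Vk).ι ≫ fl) f₀' (D.map ψ) :=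
    (isPullback_morphismRestrict w Vk).paste_vert hsq
  have hvw : vX ≫ w = πk := by
    apply hpb.hom_ext
    · rw [Category.assoc, hw2, h1, hπ2]
    · rw [Category.assoc, hw1, ← Category.assoc, h2, Category.assoc, c.w, hπ1]
  have hmem : vX x ∈ w ⁻¹ᵁ Vk := by
    change w (vX x) ∈ Vk
    rw [← Scheme.Hom.comp_apply, hvw]
    exact hxV
  let y : (w ⁻¹ᵁ Vk).toScheme := ⟨vX x, hmem⟩
  obtain ⟨h3, h4⟩ := hl (w ∣_ Vk) ((w ⁻¹ᵁ Vk).ι ≫ fl) hsq' y
  have e2 : (w ∣_ Vk) ≫ qk = (w ⁻¹ᵁ Vk).ι ≫ pX := by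
    change (w ∣_ Vk) ≫ Vk.ι ≫ psnd = _
    rw [← Category.assoc, morphismRestrict_ι, Category.assoc, hw2]
  constructor
  · rw [injAt_pullback_comp_iff _ _ _ e2 h₀ y, injAt_restr_iff pX h₀ (w ⁻¹ᵁ Vk) y] at h3
    exact h3
  · rw [isFlatOverAt_coker_comp_iff _ _ _ e2 h₀ _ y,
      isFlatOverAt_coker_restr_iff pX fl h₀ (w ⁻¹ᵁ Vk) y] at h4
    exact h4

end Pointwise

section S4901
variable {I : Type u} [SmallCategory I] [IsCofiltered I]
    (D : I ⥤ Scheme.{u}) (c : Limits.Cone D) (hc : Limits.IsLimit c)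
    [∀ (i j : I) (φ : i ⟶ j), IsAffineHom (D.map φ)] (i₀ : I)
    {X₀ Y₀ : Scheme.{u}} (f₀ : X₀ ⟶ Y₀) (g₀ : Y₀ ⟶ D.obj i₀)
    {X Y : Scheme.{u}} (f : X ⟶ Y) (g : Y ⟶ c.pt) (qY : Y ⟶ Y₀) (qX : X ⟶ X₀)
    (hY : IsPullback qY g g₀ (c.π.app i₀)) (hX : IsPullback qX f f₀ qY)
    [LocallyOfFinitePresentation f₀]
    {F₀ G₀ : X₀.Modules} [F₀.IsQuasicoherent] [F₀.IsFiniteType] [G₀.IsQuasicoherent]
    [G₀.IsFinitePresentation] (h₀ : F₀ ⟶ G₀)

include hX in
/-- Injectivity with flat cokernel at a stage implies the same in the limit. -/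
theorem injFlatAt_of_stage
    {Xi Yi : Scheme.{u}} (fi : Xi ⟶ Yi)
    (pY : Yi ⟶ Y₀) (pX : Xi ⟶ X₀) (vY : Y ⟶ Yi) (vX : X ⟶ Xi)
    (hXi : IsPullback pX fi f₀ pY) (hvY1 : vY ≫ pY = qY) (hvX1 : vX ≫ pX = qX)
    (hvX2 : vX ≫ fi = f ≫ vY) (x : X)
    (h : InjAt ((Scheme.Modules.pullback pX).map h₀) (vX x) ∧
      FlatMod.IsFlatOverAt fi (cokernel ((Scheme.Modules.pullback pX).map h₀)) (vX x)) :
    InjAt ((Scheme.Modules.pullback qX).map h₀) x ∧
      FlatMod.IsFlatOverAt f (cokernel ((Scheme.Modules.pullback qX).map h₀)) x := by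
  have hsq : IsPullback vX f fi vY := by
    refine IsPullback.of_right (h₁₂ := pX) (v₁₃ := f₀) (h₂₂ := pY) ?_ hvX2 hXi
    rw [hvX1, hvY1]
    exact hX
  haveI : LocallyOfFinitePresentation fi := MorphismProperty.of_isPullback hXi inferInstance
  constructor
  · rw [← injAt_pullback_comp_iff vX pX qX hvX1 h₀ x]
    exact injAt_baseChange hsq _ x h.1 h.2
  · have h1 := Groth.Agent.Lib.Helper10.FibreProductStalk.isFlatOverAt_baseChange x
      (cokernel ((Scheme.Modules.pullback pX).map h₀)) hsq h.2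
    rw [← isFlatOverAt_coker_comp_iff vX pX qX hvX1 h₀ f x]
    exact isFlatOverAt_of_iso f (cokerPullbackIso vX _).symm x h1

include hc hY hX in
theorem exists_stage_of_injFlatAt (x : X)
    (h : InjAt ((Scheme.Modules.pullback qX).map h₀) x ∧
      FlatMod.IsFlatOverAt f (cokernel ((Scheme.Modules.pullback qX).map h₀)) x) :
    ∃ (i : I) (φ : i ⟶ i₀) (Xi Yi : Scheme.{u}) (fi : Xi ⟶ Yi) (gi : Yi ⟶ D.obj i)
      (pY : Yi ⟶ Y₀) (pX : Xi ⟶ X₀) (vY : Y ⟶ Yi) (vX : X ⟶ Xi),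
      IsPullback pY gi g₀ (D.map φ) ∧ IsPullback pX fi f₀ pY ∧
        vY ≫ pY = qY ∧ vY ≫ gi = g ≫ c.π.app i ∧ vX ≫ pX = qX ∧ vX ≫ fi = f ≫ vY ∧
        InjAt ((Scheme.Modules.pullback pX).map h₀) (vX x) ∧
        FlatMod.IsFlatOverAt fi (cokernel ((Scheme.Modules.pullback pX).map h₀)) (vX x) := by
  haveI hA : ∀ {i j : I} (f : i ⟶ j), IsAffineHom (D.map f) := fun f => inferInstance
  haveI : ∀ (j k : Over i₀) (a : j ⟶ k), IsAffineHom ((bcDiagram D i₀ g₀).map a) :=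
    fun j k a => inferInstance
  let j₀ : Over i₀ := Over.mk (𝟙 i₀)
  haveI : IsIso (D.map j₀.hom) := by
    change IsIso (D.map (𝟙 i₀))
    infer_instance
  let e₀ : (bcDiagram D i₀ g₀).obj j₀ ⟶ Y₀ := pullback.snd (D.map j₀.hom) g₀
  haveI : IsIso e₀ := by
    change IsIso (pullback.snd (D.map j₀.hom) g₀)
    infer_instance
  let f₀' : X₀ ⟶ (bcDiagram D i₀ g₀).obj j₀ := f₀ ≫ inv e₀
  haveI : LocallyOfFinitePresentation f₀' := by
    change LocallyOfFinitePresentation (f₀ ≫ inv e₀)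
    infer_instance
  have hX' : IsPullback qX f f₀' ((yCone D c i₀ g₀ g qY hY).π.app j₀) := by
    refine IsPullback.of_iso hX (Iso.refl _) (Iso.refl _) (Iso.refl _) (asIso e₀).symm
      (by simp) (by simp) (by simp [f₀']) ?_
    simp only [Iso.symm_hom, asIso_inv, Iso.refl_hom, Category.id_comp, IsIso.comp_inv_eq]
    exact (yCone_π_snd D c i₀ g₀ g qY hY j₀).symm
  obtain ⟨k, φ, hk⟩ := exists_stage_injFlatAt (bcDiagram D i₀ g₀) (yCone D c i₀ g₀ g qY hY)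
    (isLimitYCone D c i₀ g₀ g qY hY hc) j₀ f₀' h₀ hX' x h
  let Yi : Scheme.{u} := (bcDiagram D i₀ g₀).obj k
  let pY : Yi ⟶ Y₀ := pullback.snd (D.map k.hom) g₀
  let gi : Yi ⟶ D.obj k.left := pullback.fst (D.map k.hom) g₀
  let vY : Y ⟶ Yi := (yCone D c i₀ g₀ g qY hY).π.app k
  have hvY1 : vY ≫ pY = qY := yCone_π_snd D c i₀ g₀ g qY hY k
  have hvY2 : vY ≫ gi = g ≫ c.π.app k.left := yCone_π_fst D c i₀ g₀ g qY hY k
  let vX : X ⟶ pullback f₀ pY := pullback.lift qX (f ≫ vY) (by rw [hX.w, Category.assoc, hvY1])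
  have hvX1 : vX ≫ pullback.fst f₀ pY = qX := pullback.lift_fst _ _ _
  have hvX2 : vX ≫ pullback.snd f₀ pY = f ≫ vY := pullback.lift_snd _ _ _
  refine ⟨k.left, k.hom, pullback f₀ pY, Yi, pullback.snd f₀ pY, gi, pY, pullback.fst f₀ pY, vY, vX,
    (IsPullback.of_hasPullback (D.map k.hom) g₀).flip, IsPullback.of_hasPullback f₀ pY,
    hvY1, hvY2, hvX1, hvX2, ?_⟩
  refine hk (pullback.fst f₀ pY) (pullback.snd f₀ pY) vX ?_ hvX1 hvX2
  refine IsPullback.of_iso (IsPullback.of_hasPullback f₀ pY)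
    (Iso.refl _) (Iso.refl _) (Iso.refl _) (asIso e₀).symm
    (by simp) (by rw [Iso.refl_hom, Iso.refl_hom, Category.id_comp]; exact Category.comp_id _)
    (by simp [f₀']) ?_
  simp only [Iso.symm_hom, asIso_inv, Iso.refl_hom, Category.id_comp, IsIso.comp_inv_eq]
  exact (bcDiagram_map_snd D i₀ g₀ φ).symm

end S4901


end Groth.Agent.Lib.Helper12.H12FlatInj
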