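import Mathlib
import Groth.Agent.Lib.Helper12.ModGlue4
import Groth.Agent.Lib.Helper12.HomGlue5

/-! # Restriction to opens and inverse images; stalkwise isomorphisms under inverse images -/

set_option autoImplicit false
universe u

open CategoryTheory CategoryTheory.Limits AlgebraicGeometry TopologicalSpace Opposite Function
open Groth.Agent.Lib.Helper29.QCoh

namespace Groth.Agent.Lib.Helper12.H12ModGlue

section Kappa
variable {X' X Y' Y : Scheme.{u}} (f' : Y' ⟶ X') (j : X' ⟶ X) (j' : Y' ⟶ Y) (f : Y ⟶ X)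
  [IsOpenImmersion j] [IsOpenImmersion j'] (e : f' ≫ j = j' ≫ f)

/-- Restriction to an open commutes with inverse images. -/
noncomputable def κIso : Scheme.Modules.restrictFunctor j ⋙ Scheme.Modules.pullback f' ≅
    Scheme.Modules.pullback f ⋙ Scheme.Modules.restrictFunctor j' :=
  Functor.isoWhiskerRight (Scheme.Modules.restrictFunctorIsoPullback j) (Scheme.Modules.pullback f') ≪≫
    Scheme.Modules.pullbackComp f' j ≪≫ Scheme.Modules.pullbackCongr e ≪≫
    (Scheme.Modules.pullbackComp j' f).symm ≪≫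
    Functor.isoWhiskerLeft (Scheme.Modules.pullback f)
      (Scheme.Modules.restrictFunctorIsoPullback j').symm

include e in
theorem isIso_restrict_pullback_iff {M N : X.Modules} (a : M ⟶ N) :
    IsIso ((Scheme.Modules.pullback f').map ((Scheme.Modules.restrictFunctor j).map a)) ↔
      IsIso ((Scheme.Modules.restrictFunctor j').map ((Scheme.Modules.pullback f).map a)) :=
  NatIso.isIso_map_iff (κIso f' j j' f e) a

end Kappa

section PullIso
variable {Y X : Scheme.{u}} (f : Y ⟶ X)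

theorem IsoOver.pullback {O : X.Opens} {M N : X.Modules} {a : M ⟶ N} (h : IsoOver O a) :
    IsoOver (f ⁻¹ᵁ O) ((Scheme.Modules.pullback f).map a) := by
  rw [isoOver_iff_isIso_restrict] at h ⊢
  rw [← isIso_restrict_pullback_iff (f ∣_ O) O.ι (f ⁻¹ᵁ O).ι f (morphismRestrict_ι f O)]
  infer_instance

end PullIso

section Roof
variable {S : Scheme.{u}}

theorem isoOver_comp_of_roof {O : S.Opens} {A A₁ Q M N' Fm : S.Modules}
    (P : A ⟶ Q) (E : A₁ ⟶ Q) (T' : Q ⟶ N') (τ : A ⟶ M) (τ₁ : A₁ ⟶ M) (c' : M ⟶ N') (ε : M ⟶ Fm)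
    (h1 : P ≫ T' = τ ≫ c') (h2 : E ≫ T' = τ₁ ≫ c') (hP : IsoOver O P) (hE : IsoOver O E)
    (hc : IsoOver O c') (h : IsoOver O (τ₁ ≫ ε)) : IsoOver O (τ ≫ ε) := by
  intro x hx
  obtain ⟨σ, hσ⟩ : ∃ σ : A.presheaf.stalk x → A₁.presheaf.stalk x,
      ∀ s, stalkMap E x (σ s) = stalkMap P x s := by
    choose σ hσ using fun s => (hE x hx).2 (stalkMap P x s)
    exact ⟨σ, hσ⟩
  have hσbij : Function.Bijective σ := by
    constructor
    · intro s s' hss
      apply (hP x hx).1
      rw [← hσ s, ← hσ s', hss]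
    · intro t
      obtain ⟨s, hs⟩ := (hP x hx).2 (stalkMap E x t)
      refine ⟨s, (hE x hx).1 ?_⟩
      rw [hσ, hs]
  have hτ : ∀ s, stalkMap τ x s = stalkMap τ₁ x (σ s) := by
    intro s
    apply (hc x hx).1
    rw [← stalkMap_comp_apply, ← stalkMap_comp_apply, ← h1, ← h2, stalkMap_comp_apply,
      stalkMap_comp_apply, hσ]
  have e1 : (stalkMap (τ ≫ ε) x : _ → _) = (stalkMap (τ₁ ≫ ε) x : _ → _) ∘ σ := by
    funext s
    rw [Function.comp_apply, stalkMap_comp_apply, stalkMap_comp_apply, hτ]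
  rw [e1]
  exact (h x hx).comp hσbij

end Roof

end Groth.Agent.Lib.Helper12.H12ModGlue
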