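import Mathlib
import Groth.Agent.Lib.Helper12.ModGlue5
import Groth.Agent.Lib.Helper29.QCohFP2
import Groth.Agent.Lib.Helper29.QCohPullback

/-! # Modules which are finitely presented over an open -/

set_option autoImplicit false
universe u

open CategoryTheory CategoryTheory.Limits AlgebraicGeometry TopologicalSpace Opposite Function
open Groth.Agent.Lib.Helper29.QCoh

namespace Groth.Agent.Lib.Helper12.H12ModGlue

section FPOn
variable {X : Scheme.{u}}

/-- `G` is locally finitely presented at the points of `W` (tested on sections over affines). -/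
def FPOn (W : X.Opens) (G : X.Modules) : Prop :=
  ∀ x : X, x ∈ W → ∃ V : X.Opens, IsAffineOpen V ∧ x ∈ V ∧ V ≤ W ∧
    Module.FinitePresentation Γ(X, V) Γ(G, V)

theorem FPOn.sup {W U : X.Opens} {G : X.Modules} (hW : FPOn W G) (hU : FPOn U G) :
    FPOn (W ⊔ U) G := by
  rintro x (hx | hx)
  · obtain ⟨V, h1, h2, h3, h4⟩ := hW x hx
    exact ⟨V, h1, h2, h3.trans le_sup_left, h4⟩
  · obtain ⟨V, h1, h2, h3, h4⟩ := hU x hx
    exact ⟨V, h1, h2, h3.trans le_sup_right, h4⟩

theorem fpOn_bot (G : X.Modules) : FPOn ⊥ G := fun _ hx => absurd hx (by simp)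

theorem presentationOfRangeEq_isFinite {Y : Scheme.{u}} (f : Y ⟶ X) [IsOpenImmersion f]
    (M : X.Modules) (P : (M.restrict f).Presentation) [P.IsFinite] (W : X.Opens)
    (hW : f.opensRange = W) : (presentationOfRangeEq f M P W hW).IsFinite := by
  subst hW
  exact presentationOpensRange_isFinite f M P

/-- Finite presentation of the sections passes to smaller affine opens. -/
theorem finitePresentation_of_le (G : X.Modules) [G.IsQuasicoherent] {V D : X.Opens}
    (hV : IsAffineOpen V) (hD : IsAffineOpen D) (h : D ≤ V)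
    (hfp : Module.FinitePresentation Γ(X, V) Γ(G, V)) :
    Module.FinitePresentation Γ(X, D) Γ(G, D) := by
  haveI : (G.restrict hV.fromSpec).IsQuasicoherent :=
    Scheme.Modules.isQuasicoherent_restrictFunctor hV.fromSpec G
  obtain ⟨Q, hQ⟩ := exists_presentation_isFinite_spec (G.restrict hV.fromSpec)
    (Module.FinitePresentation.of_equiv (sectionsRestrictFromSpecEquiv G hV))
  haveI := presentationOfRangeEq_isFinite hV.fromSpec G Q V hV.opensRange_fromSpec
  exact module_finitePresentation_of_presentation G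
    (presentationOfRangeEq hV.fromSpec G Q V hV.opensRange_fromSpec) hD h

theorem FPOn.pointwise {W : X.Opens} {G : X.Modules} [G.IsQuasicoherent] (hW : FPOn W G)
    {D : X.Opens} (x : X) (hxD : x ∈ D) (hxW : x ∈ W) :
    ∃ D' : X.Opens, IsAffineOpen D' ∧ x ∈ D' ∧ D' ≤ D ∧ D' ≤ W ∧
      Module.FinitePresentation Γ(X, D') Γ(G, D') := by
  obtain ⟨V, hV, hxV, hVW, hfp⟩ := hW x hxW
  obtain ⟨D', hD'aff, hxD', hD'le⟩ :=
    (Opens.isBasis_iff_nbhd.mp X.isBasis_affineOpens) (show x ∈ V ⊓ D from ⟨hxV, hxD⟩)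
  exact ⟨D', hD'aff, hxD', hD'le.trans inf_le_right, (hD'le.trans inf_le_left).trans hVW,
    finitePresentation_of_le G hV hD'aff (hD'le.trans inf_le_left) hfp⟩

end FPOn

section FPOn2
variable {X : Scheme.{u}}

theorem FPOn.of_isoOver {W : X.Opens} {G G' : X.Modules} (p : G ⟶ G') (hp : IsoOver W p)
    (h : FPOn W G') : FPOn W G := by
  intro x hx
  obtain ⟨V, hV, hxV, hVW, hfp⟩ := h x hx
  refine ⟨V, hV, hxV, hVW, ?_⟩
  exact Module.FinitePresentation.of_equiv
    (LinearEquiv.ofBijective (appₗ p V) (hp.app_bijective hVW)).symm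

theorem FPOn.of_isoOver' {W : X.Opens} {G G' : X.Modules} (p : G ⟶ G') (hp : IsoOver W p)
    (h : FPOn W G) : FPOn W G' := by
  intro x hx
  obtain ⟨V, hV, hxV, hVW, hfp⟩ := h x hx
  refine ⟨V, hV, hxV, hVW, ?_⟩
  exact Module.FinitePresentation.of_equiv
    (LinearEquiv.ofBijective (appₗ p V) (hp.app_bijective hVW))

theorem FPOn.isFinitePresentation {G : X.Modules} [G.IsQuasicoherent] (h : FPOn ⊤ G) :
    G.IsFinitePresentation := by
  choose V hV hxV _ hfp using fun x : X => h x trivial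
  refine isFinitePresentation_of_module_finitePresentation G V ?_ hV hfp
  rw [IsOpenCover, eq_top_iff]
  intro x _
  exact Opens.mem_iSup.mpr ⟨x, hxV x⟩

end FPOn2

section FPPull
variable {Y X : Scheme.{u}} (f : Y ⟶ X) [IsAffineHom f]

theorem FPOn.pullback {W : X.Opens} {G : X.Modules} [G.IsQuasicoherent] (h : FPOn W G) :
    FPOn (f ⁻¹ᵁ W) ((Scheme.Modules.pullback f).obj G) := by
  intro y hy
  obtain ⟨V, hV, hxV, hVW, hfp⟩ := h (f y) hy
  refine ⟨f ⁻¹ᵁ V, hV.preimage f, hxV, f.preimage_mono hVW, ?_⟩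
  letI := (f.appLE V (f ⁻¹ᵁ V) le_rfl).hom.toAlgebra
  exact Module.FinitePresentation.of_equiv
    (pullbackSectionsEquiv f G (hV.preimage f) hV le_rfl).symm

end FPPull

section FPRestrict
variable {X : Scheme.{u}}

set_option backward.isDefEq.respectTransparency false in
/-- The restriction to an open inside `W` of a module finitely presented over `W`. -/
theorem FPOn.isFinitePresentation_restrict {W Z : X.Opens} (hZW : Z ≤ W) {G : X.Modules}
    [G.IsQuasicoherent] (h : FPOn W G) : (G.restrict Z.ι).IsFinitePresentation := by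
  have hex : ∀ z : Z, ∃ D : X.Opens, IsAffineOpen D ∧ z.1 ∈ D ∧ D ≤ Z ∧
      Module.FinitePresentation Γ(X, D) Γ(G, D) := by
    intro z
    obtain ⟨D', hD', hzD', hD'Z, -, hfp⟩ := h.pointwise (D := Z) z.1 z.2 (hZW z.2)
    exact ⟨D', hD', hzD', hD'Z, hfp⟩
  choose D hD hzD hDZ hfp using hex
  let j : ∀ z : Z, Spec Γ(X, D z) ⟶ (Z : Scheme.{u}) := fun z =>
    (hD z).isoSpec.inv ≫ X.homOfLE (hDZ z)
  have hj : ∀ z, j z ≫ Z.ι = (hD z).fromSpec := by
    intro z
    change ((hD z).isoSpec.inv ≫ X.homOfLE (hDZ z)) ≫ Z.ι = (hD z).fromSpec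
    rw [Category.assoc, Scheme.homOfLE_ι]
    rfl
  have hP : ∀ z, ∃ P : ((G.restrict Z.ι).restrict (j z)).Presentation, P.IsFinite := by
    intro z
    haveI : (G.restrict (hD z).fromSpec).IsQuasicoherent :=
      Scheme.Modules.isQuasicoherent_restrictFunctor (hD z).fromSpec G
    haveI := hfp z
    obtain ⟨Q, hQ⟩ := exists_presentation_isFinite_spec (G.restrict (hD z).fromSpec)
      (Module.FinitePresentation.of_equiv (sectionsRestrictFromSpecEquiv G (hD z)))
    let iso : G.restrict (hD z).fromSpec ≅ (G.restrict Z.ι).restrict (j z) :=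
      ((Scheme.Modules.restrictFunctorCongr (hj z)).app G).symm ≪≫
        (Scheme.Modules.restrictFunctorComp (j z) Z.ι).app G
    exact ⟨SheafOfModules.Presentation.ofIsIso.{u, u, u} iso.hom Q, inferInstance⟩
  choose P hPf using hP
  refine isFinitePresentation_of_presentation (G.restrict Z.ι) (fun z : Z => Spec Γ(X, D z)) j
    (fun y => ⟨y, ?_⟩) P
  have hy : y.1 ∈ D y := hzD y
  refine ⟨(hD y).isoSpec.hom ⟨y.1, hy⟩, ?_⟩
  change (((hD y).isoSpec.inv ≫ X.homOfLE (hDZ y))) ((hD y).isoSpec.hom ⟨y.1, hy⟩) = y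
  rw [Scheme.Hom.comp_apply]
  have h1 : (hD y).isoSpec.inv ((hD y).isoSpec.hom ⟨y.1, hy⟩) = ⟨y.1, hy⟩ := by
    rw [← Scheme.Hom.comp_apply, Iso.hom_inv_id]
    rfl
  rw [h1]
  exact Subtype.ext (Scheme.homOfLE_apply (hDZ y) ⟨y.1, hy⟩)

end FPRestrict

end Groth.Agent.Lib.Helper12.H12ModGlue
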