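import Mathlib
import Groth.Agent.Lib.Helper12.ModGlue6

/-! # Gluing two modules along a common open: the resulting module and its map -/

set_option autoImplicit false
universe u

open CategoryTheory CategoryTheory.Limits AlgebraicGeometry TopologicalSpace Opposite Function
open Groth.Agent.Lib.Helper29.QCoh

namespace Groth.Agent.Lib.Helper12.H12ModGlue

section AffIso
variable {X : Scheme.{u}}

/-- A morphism of quasi-coherent modules bijective on the sections over an affine open is an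
isomorphism at all points of that open. -/
theorem isoOver_of_app_bijective_of_affine {M N : X.Modules} [M.IsQuasicoherent]
    [N.IsQuasicoherent] (φ : M ⟶ N) {U : X.Opens} (hU : IsAffineOpen U)
    (h : Function.Bijective (φ.app U)) : IsoOver U φ := by
  intro x hx
  constructor
  · rw [injective_iff_map_eq_zero]
    intro t ht
    obtain ⟨r, m, hxr, e⟩ := exists_smul_germ_eq M hU x hx t
    have hr := isUnit_germ_of_mem_basicOpen r x hx hxr
    have h1 : N.presheaf.germ U x hx (φ.app U m) = 0 := by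
      rw [← stalkMap_germ, ← e, stalkMap_smul, ht, smul_zero]
    obtain ⟨r', hxr', e'⟩ := exists_smul_eq_zero_of_germ_eq_zero N hU x hx _ h1
    have hr' := isUnit_germ_of_mem_basicOpen r' x hx hxr'
    rw [← app_smul'] at e'
    have h2 : r' • m = 0 := h.1 (e'.trans (map_zero _).symm)
    have h3 := congrArg (M.presheaf.germ U x hx) h2
    rw [germ_smul, map_zero] at h3
    have h4 := eq_zero_of_isUnit_smul hr' h3
    rw [h4] at e
    exact eq_zero_of_isUnit_smul hr e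
  · intro t
    obtain ⟨r, n, hxr, e⟩ := exists_smul_germ_eq N hU x hx t
    have hr := isUnit_germ_of_mem_basicOpen r x hx hxr
    obtain ⟨m, rfl⟩ := h.2 n
    obtain ⟨u, hu⟩ := hr
    refine ⟨(↑u⁻¹ : X.presheaf.stalk x) • M.presheaf.germ U x hx m, ?_⟩
    rw [stalkMap_smul, stalkMap_germ, ← e, ← hu, smul_smul, Units.inv_mul, one_smul]

end AffIso

section Loc
variable {S X : Scheme.{u}} (π : S ⟶ X) {Y : Scheme.{u}} (j : Y ⟶ X) [IsOpenImmersion j]

/-- Localisation of the isomorphy of an adjunct. -/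
theorem isoOver_adjunct_of_roof {G G₁ : X.Modules} {F : S.Modules}
    (t : G ⟶ (Scheme.Modules.pushforward π).obj F) (t₁ : G₁ ⟶ (Scheme.Modules.pushforward π).obj F)
    (p : G ⟶ (onImm j).obj G₁)
    (hp : p ≫ (onImm j).map t₁ = t ≫ (ηI j).app ((Scheme.Modules.pushforward π).obj F))
    (hpi : IsoOver j.opensRange p)
    (h₁ : IsoOver (π ⁻¹ᵁ j.opensRange)
      (((Scheme.Modules.pullbackPushforwardAdjunction π).homEquiv G₁ F).symm t₁)) :
    IsoOver (π ⁻¹ᵁ j.opensRange)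
      (((Scheme.Modules.pullbackPushforwardAdjunction π).homEquiv G F).symm t) := by
  rw [Adjunction.homEquiv_counit] at h₁ ⊢
  refine isoOver_comp_of_roof (O := π ⁻¹ᵁ j.opensRange)
    ((Scheme.Modules.pullback π).map p)
    ((Scheme.Modules.pullback π).map ((ηI j).app G₁))
    ((Scheme.Modules.pullback π).map ((onImm j).map t₁))
    ((Scheme.Modules.pullback π).map t)
    ((Scheme.Modules.pullback π).map t₁)
    ((Scheme.Modules.pullback π).map ((ηI j).app ((Scheme.Modules.pushforward π).obj F)))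
    ((Scheme.Modules.pullbackPushforwardAdjunction π).counit.app F) ?_ ?_ ?_ ?_ ?_ h₁
  · rw [← Functor.map_comp, ← Functor.map_comp, hp]
  · rw [← Functor.map_comp, ← Functor.map_comp]
    congr 1
    exact ((ηI j).naturality t₁).symm
  · exact hpi.pullback π
  · exact (isoOver_ηI j G₁).pullback π
  · exact (isoOver_ηI j _).pullback π

end Loc

section Sup
variable {X : Scheme.{u}}

theorem IsoOver.sup {O O' : X.Opens} {M N : X.Modules} {a : M ⟶ N} (h : IsoOver O a)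
    (h' : IsoOver O' a) : IsoOver (O ⊔ O') a := by
  rintro x (hx | hx)
  · exact h x hx
  · exact h' x hx

end Sup

section GlueResult
variable {S X : Scheme.{u}} (π : S ⟶ X) [IsAffineHom π]

theorem exists_glued {F : S.Modules} [F.IsQuasicoherent] (W U Z : X.Opens)
    (hZW : Z ≤ W) (hZU : Z ≤ U) (hZ : W ⊓ U ≤ Z)
    [QuasiCompact W.ι] [QuasiCompact U.ι] [QuasiCompact Z.ι]
    {G₁ G₂ H : X.Modules} [G₁.IsQuasicoherent] [G₂.IsQuasicoherent] [H.IsQuasicoherent]
    (a : G₁ ⟶ H) (b : G₂ ⟶ H)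
    (t₁ : G₁ ⟶ (Scheme.Modules.pushforward π).obj F)
    (t₂ : G₂ ⟶ (Scheme.Modules.pushforward π).obj F)
    (hcompat : ∀ T : X.Opens, T ≤ Z → ∀ (s₁ : Γ(G₁, T)) (s₂ : Γ(G₂, T)),
      a.app T s₁ = b.app T s₂ → t₁.app T s₁ = t₂.app T s₂)
    (ha : IsoOver Z a) (hb : IsoOver Z b) (hfp₁ : FPOn W G₁) (hfp₂ : FPOn U G₂)
    (h₁ : IsoOver (π ⁻¹ᵁ W)
      (((Scheme.Modules.pullbackPushforwardAdjunction π).homEquiv G₁ F).symm t₁))
    (h₂ : IsoOver (π ⁻¹ᵁ U)
      (((Scheme.Modules.pullbackPushforwardAdjunction π).homEquiv G₂ F).symm t₂)) :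
    ∃ (G : X.Modules) (_ : G.IsQuasicoherent) (t : G ⟶ (Scheme.Modules.pushforward π).obj F),
      FPOn (W ⊔ U) G ∧ IsoOver (π ⁻¹ᵁ (W ⊔ U))
        (((Scheme.Modules.pullbackPushforwardAdjunction π).homEquiv G F).symm t) := by
  haveI : ((Scheme.Modules.pushforward π).obj F).IsQuasicoherent :=
    isQuasicoherent_pushforward_of_isAffineHom π F
  have eW : W.ι.opensRange = W := Scheme.Opens.opensRange_ι W
  have eU : U.ι.opensRange = U := Scheme.Opens.opensRange_ι U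
  have eZ : Z.ι.opensRange = Z := Scheme.Opens.opensRange_ι Z
  have hZW' : Z.ι.opensRange ≤ W.ι.opensRange := by rw [eW, eZ]; exact hZW
  have hZU' : Z.ι.opensRange ≤ U.ι.opensRange := by rw [eU, eZ]; exact hZU
  have hZ' : W.ι.opensRange ⊓ U.ι.opensRange ≤ Z.ι.opensRange := by rw [eW, eU, eZ]; exact hZ
  have hcompat' : ∀ T : X.Opens, T ≤ Z.ι.opensRange → ∀ (s₁ : Γ(G₁, T)) (s₂ : Γ(G₂, T)),
      a.app T s₁ = b.app T s₂ → t₁.app T s₁ = t₂.app T s₂ := by rw [eZ]; exact hcompat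
  have ha' : IsoOver Z.ι.opensRange a := by rw [eZ]; exact ha
  have hb' : IsoOver Z.ι.opensRange b := by rw [eZ]; exact hb
  have hP₁ := isoOver_glP₁ W.ι U.ι Z.ι hZW' hZU' hZ' a b t₁ t₂ hcompat' hb'
  have hP₂ := isoOver_glP₂ W.ι U.ι Z.ι hZW' hZU' hZ' a b t₁ t₂ hcompat' ha'
  refine ⟨glG W.ι U.ι Z.ι hZW' hZU' a b t₁ t₂,
    isQuasicoherent_glG W.ι U.ι Z.ι hZW' hZU' a b t₁ t₂,
    glT W.ι U.ι Z.ι hZW' hZU' a b t₁ t₂, ?_, ?_⟩
  · refine FPOn.sup ?_ ?_
    · have q1 : FPOn W ((onImm W.ι).obj G₁) :=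
        FPOn.of_isoOver' ((ηI W.ι).app G₁) (by have := isoOver_ηI W.ι G₁; rwa [eW] at this) hfp₁
      exact FPOn.of_isoOver _ (by rwa [eW] at hP₁) q1
    · have q2 : FPOn U ((onImm U.ι).obj G₂) :=
        FPOn.of_isoOver' ((ηI U.ι).app G₂) (by have := isoOver_ηI U.ι G₂; rwa [eU] at this) hfp₂
      exact FPOn.of_isoOver _ (by rwa [eU] at hP₂) q2
  · have e : π ⁻¹ᵁ (W ⊔ U) = π ⁻¹ᵁ W ⊔ π ⁻¹ᵁ U := rfl
    rw [e]
    refine IsoOver.sup ?_ ?_
    · have := isoOver_adjunct_of_roof π W.ι (glT W.ι U.ι Z.ι hZW' hZU' a b t₁ t₂) t₁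
        (glP₁ W.ι U.ι Z.ι hZW' hZU' a b t₁ t₂) (glP₁_T W.ι U.ι Z.ι hZW' hZU' a b t₁ t₂) hP₁
        (by rw [eW]; exact h₁)
      rwa [eW] at this
    · have := isoOver_adjunct_of_roof π U.ι (glT W.ι U.ι Z.ι hZW' hZU' a b t₁ t₂) t₂
        (glP₂ W.ι U.ι Z.ι hZW' hZU' a b t₁ t₂) (glP₂_T W.ι U.ι Z.ι hZW' hZU' a b t₁ t₂) hP₂
        (by rw [eU]; exact h₂)
      rwa [eU] at this

end GlueResult

end Groth.Agent.Lib.Helper12.H12ModGlue
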