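import Mathlib
import Groth.Agent.Lib.Helper12.ModGlue7

/-! # Base change for `j_* j^*` along a morphism -/

set_option autoImplicit false
universe u

open CategoryTheory CategoryTheory.Limits AlgebraicGeometry TopologicalSpace Opposite Function
open Groth.Agent.Lib.Helper29.QCoh

namespace Groth.Agent.Lib.Helper12.H12ModGlue

section BC
variable {Y X : Scheme.{u}} (f : Y ⟶ X) (O : X.Opens) (O' : Y.Opens) (h : f ⁻¹ᵁ O = O')

include h in
theorem bc_open_eq (V : X.Opens) :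
    O'.ι ''ᵁ (O'.ι ⁻¹ᵁ (f ⁻¹ᵁ V)) = f ⁻¹ᵁ (O.ι ''ᵁ (O.ι ⁻¹ᵁ V)) := by
  rw [Scheme.Hom.image_preimage_eq_opensRange_inf, Scheme.Hom.image_preimage_eq_opensRange_inf,
    Scheme.Opens.opensRange_ι, Scheme.Opens.opensRange_ι, ← h]
  rfl

/-- The comparison on sections. -/
noncomputable def bcFun (M : Y.Modules) (V : X.Opens) :
    Γ((onImm O.ι).obj ((Scheme.Modules.pushforward f).obj M), V) →+
      Γ((Scheme.Modules.pushforward f).obj ((onImm O'.ι).obj M), V) :=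
  res M (bc_open_eq f O O' h V).le

theorem bcFun_apply (M : Y.Modules) (V : X.Opens) (σ : Γ(M, f ⁻¹ᵁ (O.ι ''ᵁ (O.ι ⁻¹ᵁ V)))) :
    bcFun f O O' h M V σ = res M (bc_open_eq f O O' h V).le σ := rfl

theorem bcFun_smul (M : Y.Modules) (V : X.Opens) (r : Γ(X, V))
    (σ : Γ((onImm O.ι).obj ((Scheme.Modules.pushforward f).obj M), V)) :
    bcFun f O O' h M V (r • σ) = r • bcFun f O O' h M V σ := by
  have e1 : HSMul.hSMul (α := Γ(X, V))
      (β := Γ((onImm O.ι).obj ((Scheme.Modules.pushforward f).obj M), V)) r σ =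
      HSMul.hSMul (α := Γ(Y, f ⁻¹ᵁ (O.ι ''ᵁ (O.ι ⁻¹ᵁ V))))
        (β := Γ(M, f ⁻¹ᵁ (O.ι ''ᵁ (O.ι ⁻¹ᵁ V))))
        (f.app _ (X.presheaf.map (homOfLE (O.ι.image_preimage_le V)).op r)) σ :=
    onImm_smul O.ι ((Scheme.Modules.pushforward f).obj M) V r σ
  have e2 : HSMul.hSMul (α := Γ(X, V))
      (β := Γ((Scheme.Modules.pushforward f).obj ((onImm O'.ι).obj M), V)) r
        (bcFun f O O' h M V σ) =
      HSMul.hSMul (α := Γ(Y, O'.ι ''ᵁ (O'.ι ⁻¹ᵁ (f ⁻¹ᵁ V))))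
        (β := Γ(M, O'.ι ''ᵁ (O'.ι ⁻¹ᵁ (f ⁻¹ᵁ V))))
        (Y.presheaf.map (homOfLE (O'.ι.image_preimage_le (f ⁻¹ᵁ V))).op (f.app V r))
        (bcFun f O O' h M V σ) :=
    onImm_smul O'.ι M (f ⁻¹ᵁ V) (f.app V r) (bcFun f O O' h M V σ)
  refine Eq.trans ?_ e2.symm
  refine (congrArg (bcFun f O O' h M V) e1).trans ?_
  refine (res_smul M (bc_open_eq f O O' h V).le _ _).trans ?_
  rw [app_map_apply, map_map_apply]
  rfl

theorem bcFun_res (M : Y.Modules) {V V' : X.Opens} (hV : V' ≤ V)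
    (σ : Γ((onImm O.ι).obj ((Scheme.Modules.pushforward f).obj M), V)) :
    bcFun f O O' h M V' (res ((onImm O.ι).obj ((Scheme.Modules.pushforward f).obj M)) hV σ) =
      res ((Scheme.Modules.pushforward f).obj ((onImm O'.ι).obj M)) hV (bcFun f O O' h M V σ) := by
  have e1 : res ((onImm O.ι).obj ((Scheme.Modules.pushforward f).obj M)) hV σ =
      res M (f.preimage_mono (O.ι.image_mono (O.ι.preimage_mono hV)))
        (show Γ(M, f ⁻¹ᵁ (O.ι ''ᵁ (O.ι ⁻¹ᵁ V))) from σ) := rfl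
  have e2 : res ((Scheme.Modules.pushforward f).obj ((onImm O'.ι).obj M)) hV
      (bcFun f O O' h M V σ) =
      res M (O'.ι.image_mono (O'.ι.preimage_mono (f.preimage_mono hV)))
        (show Γ(M, O'.ι ''ᵁ (O'.ι ⁻¹ᵁ (f ⁻¹ᵁ V))) from bcFun f O O' h M V σ) := rfl
  refine (congrArg (bcFun f O O' h M V') e1).trans ?_
  refine Eq.trans ?_ e2.symm
  exact (res_res M _ _ _).trans (res_res M _ _ _).symm

/-- Base change for `j_* j^*`: `j_* j^* f_* M ⟶ f_* j'_* j'^* M`. -/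
noncomputable def bc (M : Y.Modules) :
    (onImm O.ι).obj ((Scheme.Modules.pushforward f).obj M) ⟶
      (Scheme.Modules.pushforward f).obj ((onImm O'.ι).obj M) :=
  homOfApp (bcFun f O O' h M) (bcFun_smul f O O' h M) (fun hV σ => bcFun_res f O O' h M hV σ)

theorem bc_app (M : Y.Modules) (V : X.Opens)
    (σ : Γ((onImm O.ι).obj ((Scheme.Modules.pushforward f).obj M), V)) :
    (bc f O O' h M).app V σ = res M (bc_open_eq f O O' h V).le
      (show Γ(M, f ⁻¹ᵁ (O.ι ''ᵁ (O.ι ⁻¹ᵁ V))) from σ) := rfl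

theorem bc_app_bijective (M : Y.Modules) (V : X.Opens) :
    Function.Bijective ((bc f O O' h M).app V) :=
  res_bijective_of_eq M (bc_open_eq f O O' h V)

theorem ηI_bc (M : Y.Modules) :
    (ηI O.ι).app ((Scheme.Modules.pushforward f).obj M) ≫ bc f O O' h M =
      (Scheme.Modules.pushforward f).map ((ηI O'.ι).app M) := by
  apply hom_ext_app
  intro V m
  rw [app_comp, bc_app]
  have e1 : ((ηI O.ι).app ((Scheme.Modules.pushforward f).obj M)).app V m =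
      res M (f.preimage_mono (O.ι.image_preimage_le V)) (show Γ(M, f ⁻¹ᵁ V) from m) := rfl
  have e2 : ((Scheme.Modules.pushforward f).map ((ηI O'.ι).app M)).app V m =
      res M (O'.ι.image_preimage_le (f ⁻¹ᵁ V)) (show Γ(M, f ⁻¹ᵁ V) from m) := rfl
  rw [e1, e2]
  exact res_res M _ _ _

theorem bc_naturality {M M' : Y.Modules} (φ : M ⟶ M') :
    (onImm O.ι).map ((Scheme.Modules.pushforward f).map φ) ≫ bc f O O' h M' =
      bc f O O' h M ≫ (Scheme.Modules.pushforward f).map ((onImm O'.ι).map φ) := by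
  apply hom_ext_app
  intro V m
  rw [app_comp, app_comp, bc_app, bc_app]
  have e1 : ((onImm O.ι).map ((Scheme.Modules.pushforward f).map φ)).app V m =
      φ.app (f ⁻¹ᵁ (O.ι ''ᵁ (O.ι ⁻¹ᵁ V))) (show Γ(M, f ⁻¹ᵁ (O.ι ''ᵁ (O.ι ⁻¹ᵁ V))) from m) := rfl
  rw [e1]
  exact (app_res φ _ _).symm

end BC

end Groth.Agent.Lib.Helper12.H12ModGlue
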