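import Mathlib
import Groth.Agent.Lib.Helper12.ModGlue8
import Groth.Agent.Lib.Helper12.HomGlue6

/-! # Descending homomorphisms over a quasi-compact open of a stage -/

set_option autoImplicit false
universe u

open CategoryTheory CategoryTheory.Limits AlgebraicGeometry TopologicalSpace Opposite Function
open Groth.Agent.Lib.Helper29.QCoh Groth.Agent.Lib.Helper12.H12HomGlue
  Groth.Agent.Lib.Helper12.H12ModLim

namespace Groth.Agent.Lib.Helper12.H12ModGlue

section HomPart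
variable {I : Type u} [SmallCategory I] [IsCofiltered I] (D : I ⥤ Scheme.{u}) (c : Cone D)
  (hc : IsLimit c) [∀ {i j : I} (f : i ⟶ j), IsAffineHom (D.map f)] (i : I)

include hc in
theorem exists_stage_hom_restrict [QuasiSeparatedSpace (D.obj i)] (Z : (D.obj i).Opens)
    (hZ : IsCompact (Z : Set (D.obj i))) {F : c.pt.Modules}
    (G₁ G₂ : (D.obj i).Modules) [G₁.IsQuasicoherent] [G₂.IsQuasicoherent] (hfp : FPOn Z G₁)
    (t₁ : G₁ ⟶ (Scheme.Modules.pushforward (c.π.app i)).obj F)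
    (θ₂ : (Scheme.Modules.pullback (c.π.app i)).obj G₂ ⟶ F)
    (hθ₂ : IsoOver (c.π.app i ⁻¹ᵁ Z) θ₂) :
    ∃ (k : (Over i)ᵒᵖ) (gk : (Scheme.Modules.restrictFunctor Z.ι).obj G₁ ⟶
        (Scheme.Modules.restrictFunctor Z.ι).obj (stQ D i G₂ k)),
      gk ≫ (Scheme.Modules.restrictFunctor Z.ι).map
        (stθ D c i G₂ k ≫ (Scheme.Modules.pushforward (c.π.app i)).map θ₂) =
      (Scheme.Modules.restrictFunctor Z.ι).map t₁ := by
  haveI : CompactSpace (Z : Scheme.{u}) := isCompact_iff_compactSpace.mp hZ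
  haveI : QuasiSeparatedSpace (Z : Scheme.{u}) := quasiSeparatedSpace_of_quasiSeparated Z.ι
  haveI : Nonempty (Over i)ᵒᵖ := ⟨op (Over.mk (𝟙 i))⟩
  haveI : ((Scheme.Modules.restrictFunctor Z.ι).obj G₁).IsQuasicoherent :=
    Scheme.Modules.isQuasicoherent_restrictFunctor Z.ι G₁
  haveI : ((Scheme.Modules.restrictFunctor Z.ι).obj G₁).IsFinitePresentation :=
    hfp.isFinitePresentation_restrict le_rfl
  have himg : ∀ U : (Z : Scheme.{u}).Opens, c.π.app i ⁻¹ᵁ (Z.ι ''ᵁ U) ≤ c.π.app i ⁻¹ᵁ Z := by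
    intro U
    refine (c.π.app i).preimage_mono ?_
    rintro _ ⟨y, -, rfl⟩
    exact y.2
  have hbij : ∀ U : (Z : Scheme.{u}).Opens,
      Function.Bijective (θ₂.app (c.π.app i ⁻¹ᵁ (Z.ι ''ᵁ U))) :=
    fun U => hθ₂.app_bijective (himg U)
  exact exists_hom_factor (X := (Z : Scheme.{u}))
    (fun k => (Scheme.Modules.restrictFunctor Z.ι).obj (stQ D i G₂ k))
    ((Scheme.Modules.restrictFunctor Z.ι).obj ((Scheme.Modules.pushforward (c.π.app i)).obj F))
    (fun k => (Scheme.Modules.restrictFunctor Z.ι).map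
      (stθ D c i G₂ k ≫ (Scheme.Modules.pushforward (c.π.app i)).map θ₂))
    (fun f => (Scheme.Modules.restrictFunctor Z.ι).map (stT D i G₂ f))
    (fun U hU _ _ _ f g a =>
      stage_T_comp D i G₂ (Z.ι ''ᵁ U) (hU.image_of_isOpenImmersion Z.ι) f g a)
    (fun U hU k k' f a => by
      have h1 := stage_θ_T D c i G₂ (Z.ι ''ᵁ U) (hU.image_of_isOpenImmersion Z.ι) f a
      exact congrArg (θ₂.app (c.π.app i ⁻¹ᵁ (Z.ι ''ᵁ U))) h1)
    (fun k k' => ⟨IsFiltered.max k k', ⟨IsFiltered.leftToMax k k'⟩, ⟨IsFiltered.rightToMax k k'⟩⟩)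
    (fun U hU q => by
      obtain ⟨q', hq'⟩ := (hbij U).2 q
      obtain ⟨k, a, ha⟩ := stage_E1 D c hc i G₂ (Z.ι ''ᵁ U) (hU.image_of_isOpenImmersion Z.ι) q'
      exact ⟨k, a, (congrArg (θ₂.app (c.π.app i ⁻¹ᵁ (Z.ι ''ᵁ U))) ha).trans hq'⟩)
    (fun U hU k a ha => by
      have h0 : (stθ D c i G₂ k).app (Z.ι ''ᵁ U) a = 0 :=
        (hbij U).1 (ha.trans (map_zero _).symm)
      exact stage_E2 D c hc i G₂ (Z.ι ''ᵁ U) (hU.image_of_isOpenImmersion Z.ι) k a h0)
    ((Scheme.Modules.restrictFunctor Z.ι).obj G₁) ((Scheme.Modules.restrictFunctor Z.ι).map t₁)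

end HomPart

end Groth.Agent.Lib.Helper12.H12ModGlue
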