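import Mathlib
import Groth.Agent.Lib.Helper12.ModGlue9

/-! # Converting a homomorphism over an open of a stage into a cospan at a later stage -/

set_option autoImplicit false
universe u

open CategoryTheory CategoryTheory.Limits AlgebraicGeometry TopologicalSpace Opposite Function
open Groth.Agent.Lib.Helper29.QCoh Groth.Agent.Lib.Helper12.H12HomGlue

namespace Groth.Agent.Lib.Helper12.H12ModGlue

section Conv
variable {S Xk Xi : Scheme.{u}} (p : S ⟶ Xk) (ψ : Xk ⟶ Xi) (q : S ⟶ Xi) (e : p ≫ ψ = q)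
  (Z : Xi.Opens) (Z' : S.Opens) (hZ' : p ⁻¹ᵁ (ψ ⁻¹ᵁ Z) = Z')
  {G₁ G₂ : Xi.Modules} {F : S.Modules}
  (θ₁ : (Scheme.Modules.pullback q).obj G₁ ⟶ F) (θ₂ : (Scheme.Modules.pullback q).obj G₂ ⟶ F)
  (gk : (Scheme.Modules.restrictFunctor Z.ι).obj G₁ ⟶
    (Scheme.Modules.restrictFunctor Z.ι).obj
      ((Scheme.Modules.pushforward ψ).obj ((Scheme.Modules.pullback ψ).obj G₂)))

/-- The adjoint of the first leg of the cospan. -/
noncomputable def cvγ : G₁ ⟶ (Scheme.Modules.pushforward ψ).obj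
    ((onImm (ψ ⁻¹ᵁ Z).ι).obj ((Scheme.Modules.pullback ψ).obj G₂)) :=
  (ηI Z.ι).app G₁ ≫
    ((Scheme.Modules.pushforward Z.ι).map gk :
      (onImm Z.ι).obj G₁ ⟶ (onImm Z.ι).obj
        ((Scheme.Modules.pushforward ψ).obj ((Scheme.Modules.pullback ψ).obj G₂))) ≫
    bc ψ Z (ψ ⁻¹ᵁ Z) rfl ((Scheme.Modules.pullback ψ).obj G₂)

theorem cvγ_app (V : Xi.Opens) (m : Γ(G₁, V)) :
    (cvγ ψ Z gk).app V m =
      res ((Scheme.Modules.pullback ψ).obj G₂) (bc_open_eq ψ Z (ψ ⁻¹ᵁ Z) rfl V).le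
        (show Γ((Scheme.Modules.pullback ψ).obj G₂, ψ ⁻¹ᵁ (Z.ι ''ᵁ (Z.ι ⁻¹ᵁ V))) from
          gk.app (Z.ι ⁻¹ᵁ V) (res G₁ (Z.ι.image_preimage_le V) m)) := rfl

/-- The first leg of the cospan. -/
noncomputable def cvA : (Scheme.Modules.pullback ψ).obj G₁ ⟶
    (onImm (ψ ⁻¹ᵁ Z).ι).obj ((Scheme.Modules.pullback ψ).obj G₂) :=
  ((Scheme.Modules.pullbackPushforwardAdjunction ψ).homEquiv _ _).symm (cvγ ψ Z gk)

/-- The stage maps to the limit module. -/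
noncomputable def cvθ (G : Xi.Modules) (θ : (Scheme.Modules.pullback q).obj G ⟶ F) :
    (Scheme.Modules.pullback p).obj ((Scheme.Modules.pullback ψ).obj G) ⟶ F :=
  (compIso p ψ q e G).hom ≫ θ

/-- The adjoint of the map from the apex of the cospan. -/
noncomputable def cvθHadj : (onImm (ψ ⁻¹ᵁ Z).ι).obj ((Scheme.Modules.pullback ψ).obj G₂) ⟶
    (Scheme.Modules.pushforward p).obj ((onImm Z'.ι).obj F) :=
  (onImm (ψ ⁻¹ᵁ Z).ι).map
    ((Scheme.Modules.pullbackPushforwardAdjunction p).homEquiv _ _ (cvθ p ψ q e G₂ θ₂)) ≫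
    bc p (ψ ⁻¹ᵁ Z) Z' hZ' F

/-- The map from the apex of the cospan. -/
noncomputable def cvθH : (Scheme.Modules.pullback p).obj
    ((onImm (ψ ⁻¹ᵁ Z).ι).obj ((Scheme.Modules.pullback ψ).obj G₂)) ⟶ (onImm Z'.ι).obj F :=
  ((Scheme.Modules.pullbackPushforwardAdjunction p).homEquiv _ _).symm
    (cvθHadj p ψ q e Z Z' hZ' θ₂)

theorem cv_Eb_adj :
    (ηI (ψ ⁻¹ᵁ Z).ι).app ((Scheme.Modules.pullback ψ).obj G₂) ≫ cvθHadj p ψ q e Z Z' hZ' θ₂ =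
      (Scheme.Modules.pullbackPushforwardAdjunction p).homEquiv _ _ (cvθ p ψ q e G₂ θ₂) ≫
        (Scheme.Modules.pushforward p).map ((ηI Z'.ι).app F) := by
  unfold cvθHadj
  rw [← Category.assoc]
  have h1 := (ηI (ψ ⁻¹ᵁ Z).ι).naturality
    ((Scheme.Modules.pullbackPushforwardAdjunction p).homEquiv _ _ (cvθ p ψ q e G₂ θ₂))
  rw [← h1, Category.assoc, ηI_bc]
  rfl

theorem cv_Eb :
    (Scheme.Modules.pullback p).map ((ηI (ψ ⁻¹ᵁ Z).ι).app ((Scheme.Modules.pullback ψ).obj G₂)) ≫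
      cvθH p ψ q e Z Z' hZ' θ₂ = cvθ p ψ q e G₂ θ₂ ≫ (ηI Z'.ι).app F := by
  unfold cvθH
  rw [← Adjunction.homEquiv_naturality_left_symm, cv_Eb_adj,
    Adjunction.homEquiv_naturality_right_symm]
  congr 1
  exact Equiv.symm_apply_apply _ _


section Key
variable (hgk : gk ≫ (Scheme.Modules.restrictFunctor Z.ι).map
    (compMap p ψ q e G₂ ≫ (Scheme.Modules.pushforward q).map θ₂) =
    (Scheme.Modules.restrictFunctor Z.ι).map
      ((Scheme.Modules.pullbackPushforwardAdjunction q).homEquiv _ _ θ₁))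

include hgk in
theorem cv_key1 (V : Xi.Opens) (m : Γ(G₁, V)) :
    ((Scheme.Modules.pullbackPushforwardAdjunction p).homEquiv _ _ (cvθ p ψ q e G₂ θ₂)).app
        (ψ ⁻¹ᵁ (Z.ι ''ᵁ (Z.ι ⁻¹ᵁ V)))
        (gk.app (Z.ι ⁻¹ᵁ V) (res G₁ (Z.ι.image_preimage_le V) m)) =
      res F (by subst e; exact le_rfl : p ⁻¹ᵁ (ψ ⁻¹ᵁ (Z.ι ''ᵁ (Z.ι ⁻¹ᵁ V))) ≤
          q ⁻¹ᵁ (Z.ι ''ᵁ (Z.ι ⁻¹ᵁ V)))
        (((Scheme.Modules.pullbackPushforwardAdjunction q).homEquiv _ _ θ₁).app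
          (Z.ι ''ᵁ (Z.ι ⁻¹ᵁ V)) (res G₁ (Z.ι.image_preimage_le V) m)) := by
  subst e
  refine Eq.trans ?_ (res_self F _).symm
  have h1 := congrArg (fun φ => φ.app (Z.ι ⁻¹ᵁ V) (res G₁ (Z.ι.image_preimage_le V) m)) hgk
  refine Eq.trans ?_ h1
  rw [homEquiv_app_eq]
  change _ = θ₂.app _ ((compMap p ψ (p ≫ ψ) rfl G₂).app (Z.ι ''ᵁ (Z.ι ⁻¹ᵁ V)) _)
  rw [compMap_app_of_rfl]
  unfold cvθ compIso
  rw [app_comp]
  simp [Scheme.Modules.pullbackCongr]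
  rfl

end Key

theorem cv_key2 (V : Xi.Opens) (m : Γ(G₁, V)) :
    ((Scheme.Modules.pullbackPushforwardAdjunction ψ).homEquiv _ _
        ((Scheme.Modules.pullbackPushforwardAdjunction p).homEquiv _ _
          (cvθ p ψ q e G₁ θ₁))).app V m =
      res F (by subst e; exact le_rfl : p ⁻¹ᵁ (ψ ⁻¹ᵁ V) ≤ q ⁻¹ᵁ V)
        (((Scheme.Modules.pullbackPushforwardAdjunction q).homEquiv _ _ θ₁).app V m) := by
  subst e
  refine Eq.trans ?_ (res_self F _).symm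
  rw [homEquiv_app_eq, homEquiv_app_eq, homEquiv_app_eq]
  unfold cvθ
  rw [app_comp]
  have h1 := compSec_eq p ψ (p ≫ ψ) rfl G₁ V (pullSect ψ G₁ V m)
  rw [compSec_pullSect] at h1
  rw [h1]
  congr 2
  exact (res_self _ _).symm

section Key2
variable (hgk : gk ≫ (Scheme.Modules.restrictFunctor Z.ι).map
    (compMap p ψ q e G₂ ≫ (Scheme.Modules.pushforward q).map θ₂) =
    (Scheme.Modules.restrictFunctor Z.ι).map
      ((Scheme.Modules.pullbackPushforwardAdjunction q).homEquiv _ _ θ₁))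

include hgk in
theorem cv_Ea_adj :
    cvA ψ Z gk ≫ cvθHadj p ψ q e Z Z' hZ' θ₂ =
      (Scheme.Modules.pullbackPushforwardAdjunction p).homEquiv _ _ (cvθ p ψ q e G₁ θ₁) ≫
        (Scheme.Modules.pushforward p).map ((ηI Z'.ι).app F) := by
  apply ((Scheme.Modules.pullbackPushforwardAdjunction ψ).homEquiv _ _).injective
  rw [Adjunction.homEquiv_naturality_right, Adjunction.homEquiv_naturality_right]
  unfold cvA
  rw [Equiv.apply_symm_apply]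
  apply hom_ext_app
  intro V m
  rw [app_comp, app_comp, cv_key2 p ψ q e θ₁ θ₂ V m, cvγ_app]
  unfold cvθHadj
  change (bc p (ψ ⁻¹ᵁ Z) Z' hZ' F).app (ψ ⁻¹ᵁ V)
    (((Scheme.Modules.pullbackPushforwardAdjunction p).homEquiv _ _ (cvθ p ψ q e G₂ θ₂)).app
      ((ψ ⁻¹ᵁ Z).ι ''ᵁ ((ψ ⁻¹ᵁ Z).ι ⁻¹ᵁ (ψ ⁻¹ᵁ V))) _) =
    res F ((Z'.ι).image_preimage_le (p ⁻¹ᵁ (ψ ⁻¹ᵁ V))) _
  rw [bc_app, app_res, cv_key1 p ψ q e Z θ₁ θ₂ gk hgk V m, app_res]
  change res F _ (res F _ (res F _ (res F _ _))) = res F _ (res F _ _)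
  rw [res_res, res_res, res_res, res_res]

include hgk in
theorem cv_Ea :
    (Scheme.Modules.pullback p).map (cvA ψ Z gk) ≫ cvθH p ψ q e Z Z' hZ' θ₂ =
      cvθ p ψ q e G₁ θ₁ ≫ (ηI Z'.ι).app F := by
  unfold cvθH
  rw [← Adjunction.homEquiv_naturality_left_symm, cv_Ea_adj p ψ q e Z Z' hZ' θ₁ θ₂ gk hgk,
    Adjunction.homEquiv_naturality_right_symm]
  congr 1
  exact Equiv.symm_apply_apply _ _

end Key2

end Conv

end Groth.Agent.Lib.Helper12.H12ModGlue
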