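import Mathlib
import Groth.Agent.Lib.Helper12.ModGlue10
import Groth.Agent.Lib.Helper12.ModLim5

/-! # Isomorphy over an open descends to a stage -/

set_option autoImplicit false
universe u

open CategoryTheory CategoryTheory.Limits AlgebraicGeometry TopologicalSpace Opposite Function
open Groth.Agent.Lib.Helper29.QCoh Groth.Agent.Lib.Helper12.H12HomGlue
  Groth.Agent.Lib.Helper12.H12ModLim

namespace Groth.Agent.Lib.Helper12.H12ModGlue

section IsoStage
variable {I : Type u} [SmallCategory I] [IsCofiltered I] (D : I ⥤ Scheme.{u}) (c : Cone D)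
  (hc : IsLimit c) [∀ {i j : I} (f : i ⟶ j), IsAffineHom (D.map f)]

set_option backward.isDefEq.respectTransparency false in
include hc in
theorem exists_stage_isoOver (k : I) (Z : (D.obj k).Opens)
    (hZ : IsCompact (Z : Set (D.obj k))) {M N : (D.obj k).Modules} [M.IsQuasicoherent]
    [N.IsQuasicoherent] (a : M ⟶ N) (hM : FPOn Z M) (hN : FPOn Z N)
    (h : IsoOver (c.π.app k ⁻¹ᵁ Z) ((Scheme.Modules.pullback (c.π.app k)).map a)) :
    ∃ (k' : I) (ψ : k' ⟶ k),
      IsoOver (D.map ψ ⁻¹ᵁ Z) ((Scheme.Modules.pullback (D.map ψ)).map a) := by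
  let o : Over k := Over.mk (𝟙 k)
  let Zo : (D.obj k).Opens := D.map (𝟙 k) ⁻¹ᵁ Z
  have hZo : Zo = Z := by
    change D.map (𝟙 k) ⁻¹ᵁ Z = Z
    rw [D.map_id]
    rfl
  haveI : ∀ (j j' : Over k) (f : j ⟶ j'), IsAffineHom ((opensDiagram D k Z).map f) :=
    fun _ _ f => inferInstance
  haveI : CompactSpace ((opensDiagram D k Z).obj o) := by
    change CompactSpace (Zo : Scheme.{u})
    rw [hZo]
    exact isCompact_iff_compactSpace.mp hZ
  haveI : ((Scheme.Modules.restrictFunctor Zo.ι).obj M).IsQuasicoherent :=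
    Scheme.Modules.isQuasicoherent_restrictFunctor Zo.ι M
  haveI : ((Scheme.Modules.restrictFunctor Zo.ι).obj N).IsQuasicoherent :=
    Scheme.Modules.isQuasicoherent_restrictFunctor Zo.ι N
  haveI : ((Scheme.Modules.restrictFunctor Zo.ι).obj M).IsFinitePresentation :=
    hM.isFinitePresentation_restrict hZo.le
  haveI : ((Scheme.Modules.restrictFunctor Zo.ι).obj N).IsFinitePresentation :=
    hN.isFinitePresentation_restrict hZo.le
  have key := isIso_pullback_iff_stage (opensDiagram D k Z) (opensCone D c k Z)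
    (isLimitOpensCone D c hc k Z) o
    (F₀ := (Scheme.Modules.restrictFunctor Zo.ι).obj M)
    (G₀ := (Scheme.Modules.restrictFunctor Zo.ι).obj N)
    ((Scheme.Modules.restrictFunctor Zo.ι).map a)
  have e₁ : (opensCone D c k Z).π.app o ≫ Zo.ι = (c.π.app k ⁻¹ᵁ Z).ι ≫ c.π.app k :=
    Scheme.Hom.resLE_comp_ι _ _
  have hL : IsIso ((Scheme.Modules.pullback ((opensCone D c k Z).π.app o)).map
      ((Scheme.Modules.restrictFunctor Zo.ι).map a)) := by
    rw [isIso_restrict_pullback_iff ((opensCone D c k Z).π.app o) Zo.ι (c.π.app k ⁻¹ᵁ Z).ι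
      (c.π.app k) e₁]
    exact (isoOver_iff_isIso_restrict _ _).mp h
  obtain ⟨j, φ, hj⟩ := key.mp hL
  refine ⟨j.left, φ.left, ?_⟩
  have e₂ : (opensDiagram D k Z).map φ ≫ Zo.ι = (D.map j.hom ⁻¹ᵁ Z).ι ≫ D.map φ.left :=
    Scheme.Hom.resLE_comp_ι _ _
  rw [isIso_restrict_pullback_iff ((opensDiagram D k Z).map φ) Zo.ι (D.map j.hom ⁻¹ᵁ Z).ι
    (D.map φ.left) e₂] at hj
  have h3 := (isoOver_iff_isIso_restrict _ _).mpr hj
  refine h3.mono (le_of_eq ?_)
  have hw : φ.left = j.hom := by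
    have h4 : φ.left ≫ 𝟙 k = j.hom := Over.w φ
    exact (Category.comp_id _).symm.trans h4
  rw [hw]

end IsoStage

section Compat
variable {S X : Scheme.{u}} (π : S ⟶ X) (Z' : S.Opens) {G₁ G₂ H : X.Modules} {F : S.Modules}
  (a : G₁ ⟶ H) (b : G₂ ⟶ H) (θ₁ : (Scheme.Modules.pullback π).obj G₁ ⟶ F)
  (θ₂ : (Scheme.Modules.pullback π).obj G₂ ⟶ F)
  (θH : (Scheme.Modules.pullback π).obj H ⟶ (onImm Z'.ι).obj F)
  (Ea : (Scheme.Modules.pullback π).map a ≫ θH = θ₁ ≫ (ηI Z'.ι).app F)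
  (Eb : (Scheme.Modules.pullback π).map b ≫ θH = θ₂ ≫ (ηI Z'.ι).app F)

include Ea Eb in
theorem hcompat_of_eqs (T : X.Opens) (hT : π ⁻¹ᵁ T ≤ Z') (s₁ : Γ(G₁, T)) (s₂ : Γ(G₂, T))
    (hs : a.app T s₁ = b.app T s₂) :
    ((Scheme.Modules.pullbackPushforwardAdjunction π).homEquiv _ _ θ₁).app T s₁ =
      ((Scheme.Modules.pullbackPushforwardAdjunction π).homEquiv _ _ θ₂).app T s₂ := by
  have Ea' : a ≫ (Scheme.Modules.pullbackPushforwardAdjunction π).homEquiv _ _ θH =
      (Scheme.Modules.pullbackPushforwardAdjunction π).homEquiv _ _ θ₁ ≫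
        (Scheme.Modules.pushforward π).map ((ηI Z'.ι).app F) := by
    rw [← Adjunction.homEquiv_naturality_left, Ea, Adjunction.homEquiv_naturality_right]
  have Eb' : b ≫ (Scheme.Modules.pullbackPushforwardAdjunction π).homEquiv _ _ θH =
      (Scheme.Modules.pullbackPushforwardAdjunction π).homEquiv _ _ θ₂ ≫
        (Scheme.Modules.pushforward π).map ((ηI Z'.ι).app F) := by
    rw [← Adjunction.homEquiv_naturality_left, Eb, Adjunction.homEquiv_naturality_right]
  have h1 := congrArg (fun φ => φ.app T s₁) Ea'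
  have h2 := congrArg (fun φ => φ.app T s₂) Eb'
  simp only [app_comp] at h1 h2
  rw [hs] at h1
  have h3 := h1.symm.trans h2
  have hinj : Function.Injective (((ηI Z'.ι).app F).app (π ⁻¹ᵁ T)) :=
    (ηI_app_bijective Z'.ι F (by rw [Scheme.Opens.opensRange_ι]; exact hT)).1
  exact hinj h3

include Ea Eb in
theorem isoOver_pullback_of_eqs (hθ₁ : IsoOver Z' θ₁) (hθ₂ : IsoOver Z' θ₂)
    (hb : IsoOver Z' ((Scheme.Modules.pullback π).map b)) :
    IsoOver Z' ((Scheme.Modules.pullback π).map a) := by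
  have hη : IsoOver Z' ((ηI Z'.ι).app F) := by
    have := isoOver_ηI Z'.ι F
    rwa [Scheme.Opens.opensRange_ι] at this
  have h1 : IsoOver Z' ((Scheme.Modules.pullback π).map b ≫ θH) := by
    rw [Eb]; exact hθ₂.comp hη
  have h2 : IsoOver Z' θH := h1.of_comp_left hb
  have h3 : IsoOver Z' ((Scheme.Modules.pullback π).map a ≫ θH) := by
    rw [Ea]; exact hθ₁.comp hη
  exact h3.of_comp_right h2

end Compat

end Groth.Agent.Lib.Helper12.H12ModGlue
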