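import Mathlib
import Groth.Agent.Lib.Helper12.ModGlue11
import Groth.Agent.Lib.Helper12.FlatInj5

/-! # The gluing step at a stage of a limit of schemes -/

set_option autoImplicit false
universe u

open CategoryTheory CategoryTheory.Limits AlgebraicGeometry TopologicalSpace Opposite Function
open Groth.Agent.Lib.Helper29.QCoh Groth.Agent.Lib.Helper12.H12HomGlue
  Groth.Agent.Lib.Helper12.H12ModLim Groth.Agent.Lib.Helper12.H12FlatInj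

namespace Groth.Agent.Lib.Helper12.H12ModGlue

theorem FPOn.mono {X : Scheme.{u}} {W Z : X.Opens} {G : X.Modules} [G.IsQuasicoherent]
    (h : FPOn W G) (hZW : Z ≤ W) : FPOn Z G := by
  intro x hx
  obtain ⟨D', h1, h2, h3, -, h5⟩ := h.pointwise (D := Z) x hx (hZW hx)
  exact ⟨D', h1, h2, h3, h5⟩

theorem quasiCompact_ι_of_isCompact {X : Scheme.{u}} [QuasiSeparatedSpace X] (W : X.Opens)
    (hW : IsCompact (W : Set X)) : QuasiCompact W.ι := by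
  haveI : CompactSpace (W : Scheme.{u}) := isCompact_iff_compactSpace.mp hW
  infer_instance

section GlueStep
variable {I : Type u} [SmallCategory I] [IsCofiltered I] (D : I ⥤ Scheme.{u}) (c : Cone D)
  (hc : IsLimit c) [∀ {i j : I} (f : i ⟶ j), IsAffineHom (D.map f)]

include hc in
theorem glue_of_cospan (k₁ : I) [QuasiSeparatedSpace (D.obj k₁)] (Wk Uk : (D.obj k₁).Opens)
    (hWk : IsCompact (Wk : Set (D.obj k₁))) (hUk : IsCompact (Uk : Set (D.obj k₁)))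
    (W' U' : c.pt.Opens) (hW' : c.π.app k₁ ⁻¹ᵁ Wk = W') (hU' : c.π.app k₁ ⁻¹ᵁ Uk = U')
    {F : c.pt.Modules} [F.IsQuasicoherent]
    {G₁ G₂ H : (D.obj k₁).Modules} [G₁.IsQuasicoherent] [G₂.IsQuasicoherent]
    [H.IsQuasicoherent] (a : G₁ ⟶ H) (b : G₂ ⟶ H)
    (θ₁ : (Scheme.Modules.pullback (c.π.app k₁)).obj G₁ ⟶ F)
    (θ₂ : (Scheme.Modules.pullback (c.π.app k₁)).obj G₂ ⟶ F)
    (θH : (Scheme.Modules.pullback (c.π.app k₁)).obj H ⟶ (onImm (W' ⊓ U').ι).obj F)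
    (Ea : (Scheme.Modules.pullback (c.π.app k₁)).map a ≫ θH = θ₁ ≫ (ηI (W' ⊓ U').ι).app F)
    (Eb : (Scheme.Modules.pullback (c.π.app k₁)).map b ≫ θH = θ₂ ≫ (ηI (W' ⊓ U').ι).app F)
    (hfp₁ : FPOn Wk G₁) (hfp₂ : FPOn Uk G₂) (hfpH : FPOn (Wk ⊓ Uk) H)
    (hθ₁ : IsoOver W' θ₁) (hθ₂ : IsoOver U' θ₂) (hb : IsoOver (Wk ⊓ Uk) b) :
    ∃ (k' : I) (ψ' : k' ⟶ k₁) (G : (D.obj k').Modules) (_ : G.IsQuasicoherent)
      (θ : (Scheme.Modules.pullback (c.π.app k')).obj G ⟶ F),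
      FPOn (D.map ψ' ⁻¹ᵁ (Wk ⊔ Uk)) G ∧ IsoOver (W' ⊔ U') θ := by
  have hZ'eq : c.π.app k₁ ⁻¹ᵁ (Wk ⊓ Uk) = W' ⊓ U' := by rw [← hW', ← hU']; rfl
  have hZk : IsCompact ((Wk ⊓ Uk : (D.obj k₁).Opens) : Set (D.obj k₁)) :=
    QuasiSeparatedSpace.inter_isCompact _ _ Wk.2 hWk Uk.2 hUk
  have hπb : IsoOver (W' ⊓ U') ((Scheme.Modules.pullback (c.π.app k₁)).map b) := by
    have := hb.pullback (c.π.app k₁)
    rwa [hZ'eq] at this
  have hπa : IsoOver (W' ⊓ U') ((Scheme.Modules.pullback (c.π.app k₁)).map a) :=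
    isoOver_pullback_of_eqs (c.π.app k₁) (W' ⊓ U') a b θ₁ θ₂ θH Ea Eb
      (hθ₁.mono inf_le_left) (hθ₂.mono inf_le_right) hπb
  obtain ⟨k', ψ', hiso⟩ := exists_stage_isoOver D c hc k₁ (Wk ⊓ Uk) hZk a
    (hfp₁.mono inf_le_left) hfpH (by rw [hZ'eq]; exact hπa)
  haveI : QuasiSeparatedSpace (D.obj k') := quasiSeparatedSpace_of_quasiSeparated (D.map ψ')
  haveI : IsAffineHom (c.π.app k') := isAffineHom_π_app D c hc k'
  have e' : c.π.app k' ≫ D.map ψ' = c.π.app k₁ := c.w ψ'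
  have hW'' : c.π.app k' ⁻¹ᵁ (D.map ψ' ⁻¹ᵁ Wk) = W' := by
    rw [← Scheme.Hom.comp_preimage, e', hW']
  have hU'' : c.π.app k' ⁻¹ᵁ (D.map ψ' ⁻¹ᵁ Uk) = U' := by
    rw [← Scheme.Hom.comp_preimage, e', hU']
  have hZ'' : c.π.app k' ⁻¹ᵁ (D.map ψ' ⁻¹ᵁ (Wk ⊓ Uk)) = W' ⊓ U' := by
    rw [← Scheme.Hom.comp_preimage, e', hZ'eq]
  have hcW : IsCompact ((D.map ψ' ⁻¹ᵁ Wk : (D.obj k').Opens) : Set (D.obj k')) :=
    QuasiCompact.isCompact_preimage (f := D.map ψ') _ Wk.2 hWk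
  have hcU : IsCompact ((D.map ψ' ⁻¹ᵁ Uk : (D.obj k').Opens) : Set (D.obj k')) :=
    QuasiCompact.isCompact_preimage (f := D.map ψ') _ Uk.2 hUk
  have hcZ : IsCompact ((D.map ψ' ⁻¹ᵁ (Wk ⊓ Uk) : (D.obj k').Opens) : Set (D.obj k')) :=
    QuasiCompact.isCompact_preimage (f := D.map ψ') _ (Wk ⊓ Uk).2 hZk
  haveI := quasiCompact_ι_of_isCompact _ hcW
  haveI := quasiCompact_ι_of_isCompact _ hcU
  haveI := quasiCompact_ι_of_isCompact _ hcZ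
  have Ea' : (Scheme.Modules.pullback (c.π.app k')).map ((Scheme.Modules.pullback (D.map ψ')).map a) ≫
      ((compIso (c.π.app k') (D.map ψ') (c.π.app k₁) e' H).hom ≫ θH) =
      ((compIso (c.π.app k') (D.map ψ') (c.π.app k₁) e' G₁).hom ≫ θ₁) ≫
        (ηI (W' ⊓ U').ι).app F := by
    rw [← Category.assoc, compIso_nat, Category.assoc, Ea, Category.assoc]
  have Eb' : (Scheme.Modules.pullback (c.π.app k')).map ((Scheme.Modules.pullback (D.map ψ')).map b) ≫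
      ((compIso (c.π.app k') (D.map ψ') (c.π.app k₁) e' H).hom ≫ θH) =
      ((compIso (c.π.app k') (D.map ψ') (c.π.app k₁) e' G₂).hom ≫ θ₂) ≫
        (ηI (W' ⊓ U').ι).app F := by
    rw [← Category.assoc, compIso_nat, Category.assoc, Eb, Category.assoc]
  obtain ⟨G, hG, t, hfp, hiso'⟩ := exists_glued (c.π.app k') (D.map ψ' ⁻¹ᵁ Wk) (D.map ψ' ⁻¹ᵁ Uk)
    (D.map ψ' ⁻¹ᵁ (Wk ⊓ Uk)) ((D.map ψ').preimage_mono inf_le_left)
    ((D.map ψ').preimage_mono inf_le_right) (le_of_eq rfl)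
    ((Scheme.Modules.pullback (D.map ψ')).map a) ((Scheme.Modules.pullback (D.map ψ')).map b)
    ((Scheme.Modules.pullbackPushforwardAdjunction (c.π.app k')).homEquiv _ _
      ((compIso (c.π.app k') (D.map ψ') (c.π.app k₁) e' G₁).hom ≫ θ₁))
    ((Scheme.Modules.pullbackPushforwardAdjunction (c.π.app k')).homEquiv _ _
      ((compIso (c.π.app k') (D.map ψ') (c.π.app k₁) e' G₂).hom ≫ θ₂))
    (fun T hT s₁ s₂ hs => hcompat_of_eqs (c.π.app k') (W' ⊓ U') _ _ _ _ _ Ea' Eb' T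
      (((c.π.app k').preimage_mono hT).trans (le_of_eq hZ'')) s₁ s₂ hs)
    hiso (hb.pullback (D.map ψ')) (hfp₁.pullback (D.map ψ')) (hfp₂.pullback (D.map ψ'))
    (by rw [Equiv.symm_apply_apply, hW'']; exact (isoOver_of_isIso _ _).comp hθ₁)
    (by rw [Equiv.symm_apply_apply, hU'']; exact (isoOver_of_isIso _ _).comp hθ₂)
  refine ⟨k', ψ', G, hG,
    ((Scheme.Modules.pullbackPushforwardAdjunction (c.π.app k')).homEquiv _ _).symm t, hfp, ?_⟩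
  rw [← hW'', ← hU'']
  exact hiso'

include hc in
theorem glue_step (i : I) [QuasiSeparatedSpace (D.obj i)] (W U : (D.obj i).Opens)
    (hW : IsCompact (W : Set (D.obj i))) (hU : IsCompact (U : Set (D.obj i)))
    {F : c.pt.Modules} [F.IsQuasicoherent]
    (G₁ G₂ : (D.obj i).Modules) [G₁.IsQuasicoherent] [G₂.IsQuasicoherent]
    (θ₁ : (Scheme.Modules.pullback (c.π.app i)).obj G₁ ⟶ F)
    (θ₂ : (Scheme.Modules.pullback (c.π.app i)).obj G₂ ⟶ F)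
    (hfp₁ : FPOn W G₁) (hfp₂ : FPOn U G₂)
    (hθ₁ : IsoOver (c.π.app i ⁻¹ᵁ W) θ₁) (hθ₂ : IsoOver (c.π.app i ⁻¹ᵁ U) θ₂) :
    ∃ (k : I) (ψ : k ⟶ i) (G : (D.obj k).Modules) (_ : G.IsQuasicoherent)
      (θ : (Scheme.Modules.pullback (c.π.app k)).obj G ⟶ F),
      FPOn (D.map ψ ⁻¹ᵁ (W ⊔ U)) G ∧ IsoOver (c.π.app i ⁻¹ᵁ (W ⊔ U)) θ := by
  have hZ : IsCompact ((W ⊓ U : (D.obj i).Opens) : Set (D.obj i)) :=
    QuasiSeparatedSpace.inter_isCompact _ _ W.2 hW U.2 hU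
  have hfpZ : FPOn (W ⊓ U) G₁ := hfp₁.mono inf_le_left
  have hθ₂Z : IsoOver (c.π.app i ⁻¹ᵁ (W ⊓ U)) θ₂ :=
    hθ₂.mono ((c.π.app i).preimage_mono inf_le_right)
  obtain ⟨k, gk, hgk⟩ := exists_stage_hom_restrict D c hc i (W ⊓ U) hZ G₁ G₂ hfpZ
    ((Scheme.Modules.pullbackPushforwardAdjunction (c.π.app i)).homEquiv _ _ θ₁) θ₂ hθ₂Z
  have e : c.π.app k.unop.left ≫ D.map k.unop.hom = c.π.app i := c.w k.unop.hom
  have hW' : c.π.app k.unop.left ⁻¹ᵁ (D.map k.unop.hom ⁻¹ᵁ W) = c.π.app i ⁻¹ᵁ W := by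
    rw [← Scheme.Hom.comp_preimage, e]
  have hU' : c.π.app k.unop.left ⁻¹ᵁ (D.map k.unop.hom ⁻¹ᵁ U) = c.π.app i ⁻¹ᵁ U := by
    rw [← Scheme.Hom.comp_preimage, e]
  have hZ' : c.π.app k.unop.left ⁻¹ᵁ (D.map k.unop.hom ⁻¹ᵁ (W ⊓ U)) =
      c.π.app i ⁻¹ᵁ W ⊓ c.π.app i ⁻¹ᵁ U := by
    rw [← Scheme.Hom.comp_preimage, e]
    rfl
  haveI : QuasiSeparatedSpace (D.obj k.unop.left) :=
    quasiSeparatedSpace_of_quasiSeparated (D.map k.unop.hom)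
  have hcW : IsCompact ((D.map k.unop.hom ⁻¹ᵁ W : (D.obj k.unop.left).Opens) :
      Set (D.obj k.unop.left)) :=
    QuasiCompact.isCompact_preimage (f := D.map k.unop.hom) _ W.2 hW
  have hcU : IsCompact ((D.map k.unop.hom ⁻¹ᵁ U : (D.obj k.unop.left).Opens) :
      Set (D.obj k.unop.left)) :=
    QuasiCompact.isCompact_preimage (f := D.map k.unop.hom) _ U.2 hU
  have hcZ : IsCompact ((D.map k.unop.hom ⁻¹ᵁ (W ⊓ U) : (D.obj k.unop.left).Opens) :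
      Set (D.obj k.unop.left)) :=
    QuasiCompact.isCompact_preimage (f := D.map k.unop.hom) _ (W ⊓ U).2 hZ
  haveI := quasiCompact_ι_of_isCompact _ hcZ
  haveI : ((onImm (D.map k.unop.hom ⁻¹ᵁ (W ⊓ U)).ι).obj
      ((Scheme.Modules.pullback (D.map k.unop.hom)).obj G₂)).IsQuasicoherent :=
    isQuasicoherent_onImm _ _
  have hbk : IsoOver (D.map k.unop.hom ⁻¹ᵁ (W ⊓ U))
      ((ηI (D.map k.unop.hom ⁻¹ᵁ (W ⊓ U)).ι).app
        ((Scheme.Modules.pullback (D.map k.unop.hom)).obj G₂)) := by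
    have := isoOver_ηI (D.map k.unop.hom ⁻¹ᵁ (W ⊓ U)).ι
      ((Scheme.Modules.pullback (D.map k.unop.hom)).obj G₂)
    rwa [Scheme.Opens.opensRange_ι] at this
  have hfpG₂ : FPOn (D.map k.unop.hom ⁻¹ᵁ (W ⊓ U))
      ((Scheme.Modules.pullback (D.map k.unop.hom)).obj G₂) :=
    (hfp₂.mono inf_le_right).pullback (D.map k.unop.hom)
  have hfpH := FPOn.of_isoOver' _ hbk hfpG₂
  obtain ⟨k', ψ', G, hG, θ, hfp, hiso⟩ := glue_of_cospan D c hc k.unop.left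
    (D.map k.unop.hom ⁻¹ᵁ W) (D.map k.unop.hom ⁻¹ᵁ U) hcW hcU
    (c.π.app i ⁻¹ᵁ W) (c.π.app i ⁻¹ᵁ U) hW' hU'
    (G₁ := (Scheme.Modules.pullback (D.map k.unop.hom)).obj G₁)
    (G₂ := (Scheme.Modules.pullback (D.map k.unop.hom)).obj G₂)
    (H := (onImm (D.map k.unop.hom ⁻¹ᵁ (W ⊓ U)).ι).obj
      ((Scheme.Modules.pullback (D.map k.unop.hom)).obj G₂))
    (cvA (D.map k.unop.hom) (W ⊓ U) gk)
    ((ηI (D.map k.unop.hom ⁻¹ᵁ (W ⊓ U)).ι).app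
      ((Scheme.Modules.pullback (D.map k.unop.hom)).obj G₂))
    (cvθ (c.π.app k.unop.left) (D.map k.unop.hom) (c.π.app i) e G₁ θ₁)
    (cvθ (c.π.app k.unop.left) (D.map k.unop.hom) (c.π.app i) e G₂ θ₂)
    (cvθH (c.π.app k.unop.left) (D.map k.unop.hom) (c.π.app i) e (W ⊓ U)
      (c.π.app i ⁻¹ᵁ W ⊓ c.π.app i ⁻¹ᵁ U) hZ' θ₂)
    (cv_Ea (c.π.app k.unop.left) (D.map k.unop.hom) (c.π.app i) e (W ⊓ U)
      (c.π.app i ⁻¹ᵁ W ⊓ c.π.app i ⁻¹ᵁ U) hZ' θ₁ θ₂ gk hgk)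
    (cv_Eb (c.π.app k.unop.left) (D.map k.unop.hom) (c.π.app i) e (W ⊓ U)
      (c.π.app i ⁻¹ᵁ W ⊓ c.π.app i ⁻¹ᵁ U) hZ' θ₂)
    (hfp₁.pullback (D.map k.unop.hom)) (hfp₂.pullback (D.map k.unop.hom)) hfpH
    ((isoOver_of_isIso _ _).comp hθ₁) ((isoOver_of_isIso _ _).comp hθ₂) hbk
  refine ⟨k', ψ' ≫ k.unop.hom, G, hG, θ, ?_, hiso⟩
  rw [D.map_comp]
  exact hfp

end GlueStep

end Groth.Agent.Lib.Helper12.H12ModGlue
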