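import Mathlib

set_option autoImplicit false
universe u

open TensorProduct

namespace Groth.Agent.Lib.Helper12.H12ModGlue

section RL
variable {A B : Type u} [CommRing A] [CommRing B] [Algebra A B]
  {M : Type u} [AddCommGroup M] [Module B M] [Module A M] [IsScalarTower A B M]
  {n : ℕ} (q : (Fin n → B) →ₗ[B] M) {ι : Type*} (v : ι → Fin n → B)
  (w : ι → Fin n → A)

/-- The map from the module presented over `A` by the lifted relations. -/
noncomputable def liftedMap (hw : ∀ j i, algebraMap A B (w j i) = v j i)
    (hv : ∀ j, q (v j) = 0) :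
    ((Fin n → A) ⧸ Submodule.span A (Set.range w)) →ₗ[A] M :=
  Submodule.liftQ _ ((q.restrictScalars A).comp ((Algebra.linearMap A B).compLeft (Fin n))) (by
    rw [Submodule.span_le]
    rintro _ ⟨j, rfl⟩
    change q (fun i => algebraMap A B (w j i)) = 0
    rw [← hv j]
    congr 1
    funext i
    exact hw j i)

theorem liftedMap_mk (hw : ∀ j i, algebraMap A B (w j i) = v j i) (hv : ∀ j, q (v j) = 0)
    (a : Fin n → A) :
    liftedMap q v w hw hv (Submodule.Quotient.mk a) = q (fun i => algebraMap A B (a i)) := rfl

theorem isBaseChange_liftedMap (hw : ∀ j i, algebraMap A B (w j i) = v j i)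
    (hq : Function.Surjective q)
    (hker : LinearMap.ker q = Submodule.span B (Set.range v)) :
    IsBaseChange B (liftedMap q v w hw (fun j => by
      have : v j ∈ LinearMap.ker q := hker ▸ Submodule.subset_span ⟨j, rfl⟩
      exact this)) := by
  classical
  have hv : ∀ j, q (v j) = 0 := fun j => by
    have : v j ∈ LinearMap.ker q := hker ▸ Submodule.subset_span ⟨j, rfl⟩
    exact this
  apply IsBaseChange.of_lift_unique
  intro Q _ _ _ _ g
  letI : AddCommGroup Q := Module.addCommMonoidToAddCommGroup B
  -- the images of the basis vectors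
  let y : Fin n → Q := fun i => g (Submodule.Quotient.mk (Pi.single i 1))
  -- the map on `B^n`
  let g₀ : (Fin n → B) →ₗ[B] Q := Fintype.linearCombination B y
  have hg₀ : ∀ a : Fin n → A, g₀ (fun i => algebraMap A B (a i)) = g (Submodule.Quotient.mk a) := by
    intro a
    change Fintype.linearCombination B y _ = _
    rw [Fintype.linearCombination_apply]
    have h1 : a = ∑ i, a i • (Pi.single i 1 : Fin n → A) := by
      funext l
      simp [Finset.sum_apply, Pi.single_apply]
    conv_rhs => rw [h1]
    change _ = g (Submodule.mkQ _ (∑ i, a i • (Pi.single i 1 : Fin n → A)))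
    rw [map_sum, map_sum]
    refine Finset.sum_congr rfl fun i _ => ?_
    rw [map_smul, map_smul, algebraMap_smul]
    rfl
  have hg₀v : ∀ j, g₀ (v j) = 0 := by
    intro j
    have h1 : v j = fun i => algebraMap A B (w j i) := by
      funext i; exact (hw j i).symm
    rw [h1, hg₀]
    have : (Submodule.Quotient.mk (w j) : (Fin n → A) ⧸ Submodule.span A (Set.range w)) = 0 :=
      (Submodule.Quotient.mk_eq_zero _).mpr (Submodule.subset_span ⟨j, rfl⟩)
    rw [this, map_zero]
  have hker' : LinearMap.ker q ≤ LinearMap.ker g₀ := by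
    rw [hker, Submodule.span_le]
    rintro _ ⟨j, rfl⟩
    exact hg₀v j
  -- descend along `q`
  let e := q.quotKerEquivOfSurjective hq
  let g' : M →ₗ[B] Q := (Submodule.liftQ _ g₀ hker').comp e.symm.toLinearMap
  have hg'q : ∀ b : Fin n → B, g' (q b) = g₀ b := by
    intro b
    change Submodule.liftQ _ g₀ hker' (e.symm (q b)) = g₀ b
    have : e.symm (q b) = Submodule.Quotient.mk b := by
      rw [LinearEquiv.symm_apply_eq]
      rfl
    rw [this]
    rfl
  refine ⟨g', ?_, ?_⟩
  · apply LinearMap.ext
    intro x
    obtain ⟨a, rfl⟩ := Submodule.Quotient.mk_surjective _ x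
    change g' (liftedMap q v w hw _ (Submodule.Quotient.mk a)) = g (Submodule.Quotient.mk a)
    rw [liftedMap_mk, hg'q, hg₀]
  · intro g'' hg''
    apply LinearMap.ext
    intro x
    obtain ⟨b, rfl⟩ := hq x
    rw [hg'q]
    have h1 : b = ∑ i, b i • (Pi.single i 1 : Fin n → B) := by
      funext l
      simp [Finset.sum_apply, Pi.single_apply]
    conv_lhs => rw [h1]
    change _ = Fintype.linearCombination B y b
    rw [Fintype.linearCombination_apply, map_sum, map_sum]
    refine Finset.sum_congr rfl fun i _ => ?_
    rw [map_smul, map_smul]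
    congr 1
    have h2 := LinearMap.congr_fun hg'' (Submodule.Quotient.mk (Pi.single i 1))
    change g'' (liftedMap q v w hw _ (Submodule.Quotient.mk (Pi.single i 1))) = y i at h2
    rw [liftedMap_mk] at h2
    rw [← h2]
    congr 2
    funext l
    by_cases hl : l = i
    · subst hl; simp
    · simp [Pi.single_apply, hl]

end RL

end Groth.Agent.Lib.Helper12.H12ModGlue
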