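import Mathlib
import Groth.Agent.Lib.Helper12.ModGlue12
import Groth.Agent.Lib.Helper12.ModGlue13

/-! # The affine case: a module which is a base change over an affine open -/

set_option autoImplicit false
universe u

open CategoryTheory CategoryTheory.Limits AlgebraicGeometry TopologicalSpace Opposite Function
open Groth.Agent.Lib.Helper29.QCoh Groth.Agent.Lib.Helper12.H12HomGlue TensorProduct

namespace Groth.Agent.Lib.Helper12.H12ModGlue

section AffLocal
variable {S X : Scheme.{u}} (π : S ⟶ X) {U : X.Opens} (hU : IsAffineOpen U) (F : S.Modules)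
  (Mk : ModuleCat.{u} Γ(X, U))
  (τN : Mk →ₗ[Γ(X, U)] Γ((Scheme.Modules.pushforward π).obj F, U))

/-- The linear map corresponding to `τN` on global sections over `Spec Γ(X, U)`. -/
noncomputable def affLin : Mk →ₗ[Γ(X, U)]
    ((modulesSpecToSheaf.obj (((Scheme.Modules.pushforward π).obj F).restrict
      hU.fromSpec)).presheaf.obj (.op ⊤)) :=
  (sectionsRestrictFromSpecEquiv ((Scheme.Modules.pushforward π).obj F) hU).toLinearMap ∘ₗ τN

/-- The map from the tilde of `Mk` to the restriction of `π_* F`. -/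
noncomputable def affT : tilde Mk ⟶ ((Scheme.Modules.pushforward π).obj F).restrict hU.fromSpec :=
  (tilde.adjunction.homEquiv Mk (((Scheme.Modules.pushforward π).obj F).restrict hU.fromSpec)).symm
    (ConcreteCategory.ofHom (C := ModuleCat Γ(X, U)) (X := Mk)
      (Y := moduleSpecΓFunctor.obj (((Scheme.Modules.pushforward π).obj F).restrict hU.fromSpec))
      (affLin π hU F Mk τN))

/-- The module on `X` restricting to the tilde of `Mk` over `U`, with its map to `π_* F`. -/
noncomputable def affG : X.Modules :=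
  pullback ((Scheme.Modules.pushforward hU.fromSpec).map (affT π hU F Mk τN))
    ((ηI hU.fromSpec).app ((Scheme.Modules.pushforward π).obj F))

noncomputable def affFst : affG π hU F Mk τN ⟶ (Scheme.Modules.pushforward hU.fromSpec).obj (tilde Mk) :=
  pullback.fst _ _

noncomputable def affSnd : affG π hU F Mk τN ⟶ (Scheme.Modules.pushforward π).obj F :=
  pullback.snd _ _

theorem aff_condition :
    affFst π hU F Mk τN ≫ (Scheme.Modules.pushforward hU.fromSpec).map (affT π hU F Mk τN) =
      affSnd π hU F Mk τN ≫ (ηI hU.fromSpec).app ((Scheme.Modules.pushforward π).obj F) :=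
  pullback.condition

theorem isoOver_affFst : IsoOver hU.fromSpec.opensRange (affFst π hU F Mk τN) :=
  isoOver_of_app_bijective fun T hT =>
    pullback_fst_app_bijective _ _ T (ηI_app_bijective hU.fromSpec _ hT)

theorem isIso_restrict_affFst :
    IsIso ((Scheme.Modules.restrictFunctor hU.fromSpec).map (affFst π hU F Mk τN)) :=
  (isoOver_opensRange_iff hU.fromSpec _).mp (isoOver_affFst π hU F Mk τN)

/-- The restriction of the constructed module to `Spec Γ(X, U)` is the tilde of `Mk`. -/
noncomputable def affε : (affG π hU F Mk τN).restrict hU.fromSpec ≅ tilde Mk :=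
  haveI := isIso_restrict_affFst π hU F Mk τN
  asIso ((Scheme.Modules.restrictFunctor hU.fromSpec).map (affFst π hU F Mk τN)) ≪≫
    asIso ((Scheme.Modules.restrictAdjunction hU.fromSpec).counit.app (tilde Mk))

theorem aff_restrict_snd :
    (Scheme.Modules.restrictFunctor hU.fromSpec).map (affSnd π hU F Mk τN) =
      (affε π hU F Mk τN).hom ≫ affT π hU F Mk τN := by
  have tri := (Scheme.Modules.restrictAdjunction hU.fromSpec).left_triangle_components
    ((Scheme.Modules.pushforward π).obj F)
  have nat := (Scheme.Modules.restrictAdjunction hU.fromSpec).counit.naturality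
    (affT π hU F Mk τN)
  have h1 : (Scheme.Modules.restrictFunctor hU.fromSpec).map (affSnd π hU F Mk τN) =
      (Scheme.Modules.restrictFunctor hU.fromSpec).map (affSnd π hU F Mk τN ≫
        (ηI hU.fromSpec).app ((Scheme.Modules.pushforward π).obj F)) ≫
      (Scheme.Modules.restrictAdjunction hU.fromSpec).counit.app _ := by
    rw [Functor.map_comp, Category.assoc]
    erw [tri]
    rw [Category.comp_id]
  have h2 : (Scheme.Modules.restrictFunctor hU.fromSpec).map (affSnd π hU F Mk τN ≫
        (ηI hU.fromSpec).app ((Scheme.Modules.pushforward π).obj F)) =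
      (Scheme.Modules.restrictFunctor hU.fromSpec).map (affFst π hU F Mk τN) ≫
        (Scheme.Modules.restrictFunctor hU.fromSpec).map
          ((Scheme.Modules.pushforward hU.fromSpec).map (affT π hU F Mk τN)) :=
    (congrArg (fun φ => (Scheme.Modules.restrictFunctor hU.fromSpec).map φ)
      (aff_condition π hU F Mk τN).symm).trans (Functor.map_comp _ _ _)
  refine h1.trans ?_
  refine (congrArg (fun φ => φ ≫ (Scheme.Modules.restrictAdjunction hU.fromSpec).counit.app _)
    h2).trans ?_
  refine (Category.assoc _ _ _).trans ?_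
  refine (congrArg (fun φ => (Scheme.Modules.restrictFunctor hU.fromSpec).map
    (affFst π hU F Mk τN) ≫ φ) nat).trans ?_
  exact (Category.assoc _ _ _).symm

/-- The sections of the constructed module over `U`. -/
noncomputable def affEquiv : Γ(affG π hU F Mk τN, U) ≃ₗ[Γ(X, U)] Mk :=
  sectionsRestrictFromSpecEquiv (affG π hU F Mk τN) hU ≪≫ₗ
    (moduleSpecΓFunctor.mapIso (affε π hU F Mk τN)).toLinearEquiv ≪≫ₗ
    (tilde.isoTop Mk).symm.toLinearEquiv

theorem affT_unit (m : Mk) :
    (moduleSpecΓFunctor.map (affT π hU F Mk τN)).hom ((tilde.isoTop Mk).hom.hom m) =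
      affLin π hU F Mk τN m := by
  have h1 := (tilde.adjunction.homEquiv Mk
    (((Scheme.Modules.pushforward π).obj F).restrict hU.fromSpec)).apply_symm_apply
    (ConcreteCategory.ofHom (C := ModuleCat Γ(X, U)) (X := Mk)
      (Y := moduleSpecΓFunctor.obj (((Scheme.Modules.pushforward π).obj F).restrict hU.fromSpec))
      (affLin π hU F Mk τN))
  rw [Adjunction.homEquiv_unit] at h1
  have h2 := congrArg (fun φ => φ.hom m) h1
  exact h2

theorem affSnd_app (g : Γ(affG π hU F Mk τN, U)) :
    (affSnd π hU F Mk τN).app U g = τN (affEquiv π hU F Mk τN g) := by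
  apply (sectionsRestrictFromSpecEquiv ((Scheme.Modules.pushforward π).obj F) hU).injective
  have h1 : sectionsRestrictFromSpecEquiv ((Scheme.Modules.pushforward π).obj F) hU
      (τN (affEquiv π hU F Mk τN g)) = affLin π hU F Mk τN (affEquiv π hU F Mk τN g) := rfl
  rw [h1, ← affT_unit]
  have h2 : (tilde.isoTop Mk).hom.hom (affEquiv π hU F Mk τN g) =
      (moduleSpecΓFunctor.map (affε π hU F Mk τN).hom).hom
        (sectionsRestrictFromSpecEquiv (affG π hU F Mk τN) hU g) := by
    unfold affEquiv
    simp only [LinearEquiv.trans_apply]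
    exact (tilde.isoTop Mk).toLinearEquiv.apply_symm_apply _
  rw [h2, ← LinearMap.comp_apply, ← ModuleCat.hom_comp, ← Functor.map_comp, ← aff_restrict_snd]
  exact (app_res (affSnd π hU F Mk τN) (fromSpec_image_top hU).le g).symm

include hU in
set_option maxRecDepth 8000 in
theorem affine_local [IsAffineHom π] [QuasiSeparatedSpace X] [F.IsQuasicoherent]
    [Module.FinitePresentation Γ(X, U) Mk]
    (hs : ∀ x : Γ(F, π ⁻¹ᵁ U), ∃ T : Finset (Γ(S, π ⁻¹ᵁ U) × Mk),
      x = ∑ p ∈ T, p.1 • (show Γ(F, π ⁻¹ᵁ U) from τN p.2))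
    (hi : letI := (π.appLE U (π ⁻¹ᵁ U) le_rfl).hom.toAlgebra
      ∀ {ι : Type u} (T : Finset ι) (b : ι → Γ(S, π ⁻¹ᵁ U)) (m : ι → Mk),
        ∑ p ∈ T, b p • (show Γ(F, π ⁻¹ᵁ U) from τN (m p)) = 0 →
          ∑ p ∈ T, b p ⊗ₜ[Γ(X, U)] m p = 0) :
    ∃ (G : X.Modules) (_ : G.IsQuasicoherent) (θ : (Scheme.Modules.pullback π).obj G ⟶ F),
      FPOn U G ∧ IsoOver (π ⁻¹ᵁ U) θ := by
  letI := (π.appLE U (π ⁻¹ᵁ U) le_rfl).hom.toAlgebra
  haveI : ((Scheme.Modules.pushforward π).obj F).IsQuasicoherent :=
    isQuasicoherent_pushforward_of_isAffineHom π F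
  haveI : ((Scheme.Modules.pushforward hU.fromSpec).obj (tilde Mk)).IsQuasicoherent :=
    isQuasicoherent_pushforward_of_qcqs hU.fromSpec _
  haveI := isQuasicoherent_onImm hU.fromSpec ((Scheme.Modules.pushforward π).obj F)
  have hG : (affG π hU F Mk τN).IsQuasicoherent := by
    unfold affG
    exact @isQuasicoherent_pullbackObj _ _ ((Scheme.Modules.pushforward π).obj F) _
      ((Scheme.Modules.pushforward hU.fromSpec).map (affT π hU F Mk τN))
      ((ηI hU.fromSpec).app ((Scheme.Modules.pushforward π).obj F)) inferInstance inferInstance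
      (isQuasicoherent_onImm hU.fromSpec ((Scheme.Modules.pushforward π).obj F))
  have hU' : IsAffineOpen (π ⁻¹ᵁ U) := hU.preimage π
  let θ : (Scheme.Modules.pullback π).obj (affG π hU F Mk τN) ⟶ F :=
    ((Scheme.Modules.pullbackPushforwardAdjunction π).homEquiv _ _).symm (affSnd π hU F Mk τN)
  have hθ : ∀ g : Γ(affG π hU F Mk τN, U),
      θ.app (π ⁻¹ᵁ U) (pullSect π _ U g) = τN (affEquiv π hU F Mk τN g) := by
    intro g
    rw [← affSnd_app, ← homEquiv_app_eq]
    simp only [θ, Equiv.apply_symm_apply]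
  have hθsum : ∀ {ι : Type u} (T : Finset ι) (b : ι → Γ(S, π ⁻¹ᵁ U))
      (g : ι → Γ(affG π hU F Mk τN, U)),
      θ.app (π ⁻¹ᵁ U) (∑ p ∈ T, b p • pullSect π _ U (g p)) =
        ∑ p ∈ T, b p • (show Γ(F, π ⁻¹ᵁ U) from τN (affEquiv π hU F Mk τN (g p))) := by
    intro ι T b g
    rw [map_sum]
    refine Finset.sum_congr rfl fun p _ => ?_
    rw [app_smul', hθ]
  refine ⟨affG π hU F Mk τN, hG, θ, ?_, ?_⟩
  · intro x hx
    exact ⟨U, hU, hx, le_rfl, Module.FinitePresentation.of_equiv (affEquiv π hU F Mk τN).symm⟩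
  · refine isoOver_of_app_bijective_of_affine θ hU' ⟨?_, ?_⟩
    · rw [injective_iff_map_eq_zero]
      intro y hy
      obtain ⟨T, rfl⟩ := exists_sum_pullSect π (affG π hU F Mk τN) hU hU' y
      rw [hθsum T (fun p => p.1) (fun p => p.2)] at hy
      have h0 := hi T (fun p => p.1) (fun p => affEquiv π hU F Mk τN p.2) hy
      have h1 := congrArg (LinearMap.lTensor Γ(S, π ⁻¹ᵁ U)
        (affEquiv π hU F Mk τN).symm.toLinearMap) h0
      rw [map_sum, map_zero] at h1
      simp only [LinearMap.lTensor_tmul, LinearEquiv.coe_coe, LinearEquiv.symm_apply_apply] at h1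
      exact (sum_pullSect_eq_zero_iff π (affG π hU F Mk τN) hU hU' T (fun p => p.1)
        (fun p => p.2)).mpr h1
    · intro x
      obtain ⟨T, hT⟩ := hs x
      refine ⟨∑ p ∈ T, p.1 • pullSect π _ U ((affEquiv π hU F Mk τN).symm p.2), ?_⟩
      rw [hθsum T (fun p => p.1) (fun p => (affEquiv π hU F Mk τN).symm p.2), hT]
      refine Finset.sum_congr rfl fun p _ => ?_
      rw [LinearEquiv.apply_symm_apply]

end AffLocal

end Groth.Agent.Lib.Helper12.H12ModGlue
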