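import Mathlib
import Groth.Agent.Lib.Helper12.ModGlue14

/-! # The affine case, with a flexible open -/

set_option autoImplicit false
universe u

open CategoryTheory CategoryTheory.Limits AlgebraicGeometry TopologicalSpace Opposite Function
open Groth.Agent.Lib.Helper29.QCoh Groth.Agent.Lib.Helper12.H12HomGlue TensorProduct

namespace Groth.Agent.Lib.Helper12.H12ModGlue

section AffLocal'
variable {S X : Scheme.{u}} (π : S ⟶ X) {U : X.Opens} (hU : IsAffineOpen U) (F : S.Modules)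

include hU in
theorem affine_local' [IsAffineHom π] [QuasiSeparatedSpace X] [F.IsQuasicoherent]
    (U' : S.Opens) (e : U' = π ⁻¹ᵁ U)
    (Mk : Type u) [AddCommGroup Mk] [Module Γ(X, U) Mk] [Module.FinitePresentation Γ(X, U) Mk]
    (τ : Mk →+ Γ(F, U'))
    (hτ : ∀ (a : Γ(X, U)) (m : Mk), τ (a • m) = (π.appLE U U' e.le a) • τ m)
    (hs : ∀ x : Γ(F, U'), ∃ T : Finset (Γ(S, U') × Mk), x = ∑ p ∈ T, p.1 • τ p.2)
    (hi : letI := (π.appLE U U' e.le).hom.toAlgebra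
      ∀ {ι : Type u} (T : Finset ι) (b : ι → Γ(S, U')) (m : ι → Mk),
        ∑ p ∈ T, b p • τ (m p) = 0 → ∑ p ∈ T, b p ⊗ₜ[Γ(X, U)] m p = 0) :
    ∃ (G : X.Modules) (_ : G.IsQuasicoherent) (θ : (Scheme.Modules.pullback π).obj G ⟶ F),
      FPOn U G ∧ IsoOver U' θ := by
  subst e
  let τN : (ModuleCat.of Γ(X, U) Mk) →ₗ[Γ(X, U)] Γ((Scheme.Modules.pushforward π).obj F, U) :=
    { toFun := fun m => τ m
      map_add' := fun a b => τ.map_add a b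
      map_smul' := fun a m => by
        refine (hτ a m).trans ?_
        rw [← Scheme.Hom.app_eq_appLE]
        rfl }
  exact affine_local π hU F (ModuleCat.of Γ(X, U) Mk) τN hs hi

end AffLocal'

section AffCase
variable {I : Type u} [SmallCategory I] [IsCofiltered I] (D : I ⥤ Scheme.{u}) (c : Cone D)
  (hc : IsLimit c) [∀ {i j : I} (f : i ⟶ j), IsAffineHom (D.map f)]

open Groth.Agent.Lib.Helper12.H12ModLim in
include hc in
theorem affine_case (i₀ : I) [QuasiSeparatedSpace (D.obj i₀)] (U₀ : (D.obj i₀).Opens)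
    (hU₀ : IsAffineOpen U₀) (F : c.pt.Modules) [F.IsQuasicoherent] [F.IsFinitePresentation] :
    ∃ (k : I) (φ : k ⟶ i₀) (G : (D.obj k).Modules) (_ : G.IsQuasicoherent)
      (θ : (Scheme.Modules.pullback (c.π.app k)).obj G ⟶ F),
      FPOn (D.map φ ⁻¹ᵁ U₀) G ∧ IsoOver (c.π.app i₀ ⁻¹ᵁ U₀) θ := by
  classical
  haveI : IsAffineHom (c.π.app i₀) := isAffineHom_π_app D c hc i₀
  have hU' : IsAffineOpen (c.π.app i₀ ⁻¹ᵁ U₀) := hU₀.preimage (c.π.app i₀)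
  haveI : Module.FinitePresentation Γ(c.pt, c.π.app i₀ ⁻¹ᵁ U₀) Γ(F, c.π.app i₀ ⁻¹ᵁ U₀) :=
    module_finitePresentation_of_isFinitePresentation F hU'
  obtain ⟨n, K, e, hK⟩ := Module.FinitePresentation.exists_fin Γ(c.pt, c.π.app i₀ ⁻¹ᵁ U₀)
    Γ(F, c.π.app i₀ ⁻¹ᵁ U₀)
  obtain ⟨s, hs⟩ := hK
  -- lift the coordinates of the generators of `K`
  obtain ⟨k, -, a', ha'⟩ := exists_common_lift (StA D i₀ U₀) (stρ D c i₀ U₀)
    (fun f => stτ D i₀ U₀ f) (fun f a => stρ_τ D c i₀ U₀ f a)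
    (fun k k' => ⟨IsFiltered.max k k', ⟨IsFiltered.leftToMax k k'⟩, ⟨IsFiltered.rightToMax k k'⟩⟩)
    (fun b => by
      obtain ⟨k, a, ha⟩ := exists_appLE_eq D c hc i₀ U₀ hU₀ b
      exact ⟨op k, a, (stρ_apply D c i₀ U₀ (op k) a).trans ha⟩)
    (Finset.univ : Finset (↥s × Fin n)) (fun p => p.1.1 p.2) (op (Over.mk (𝟙 i₀)))
  haveI : IsAffineHom (c.π.app k.unop.left) := isAffineHom_π_app D c hc k.unop.left
  haveI : QuasiSeparatedSpace (D.obj k.unop.left) :=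
    quasiSeparatedSpace_of_quasiSeparated (D.map k.unop.hom)
  have hUk : IsAffineOpen (D.map k.unop.hom ⁻¹ᵁ U₀) := hU₀.preimage (D.map k.unop.hom)
  have eU : c.π.app i₀ ⁻¹ᵁ U₀ = c.π.app k.unop.left ⁻¹ᵁ (D.map k.unop.hom ⁻¹ᵁ U₀) := by
    rw [← Scheme.Hom.comp_preimage, c.w]
  letI alg : Algebra Γ(D.obj k.unop.left, D.map k.unop.hom ⁻¹ᵁ U₀) Γ(c.pt, c.π.app i₀ ⁻¹ᵁ U₀) :=
    ((c.π.app k.unop.left).appLE (D.map k.unop.hom ⁻¹ᵁ U₀) (c.π.app i₀ ⁻¹ᵁ U₀) eU.le).hom.toAlgebra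
  letI modA : Module Γ(D.obj k.unop.left, D.map k.unop.hom ⁻¹ᵁ U₀) Γ(F, c.π.app i₀ ⁻¹ᵁ U₀) :=
    Module.compHom _
      ((c.π.app k.unop.left).appLE (D.map k.unop.hom ⁻¹ᵁ U₀) (c.π.app i₀ ⁻¹ᵁ U₀) eU.le).hom
  haveI : IsScalarTower Γ(D.obj k.unop.left, D.map k.unop.hom ⁻¹ᵁ U₀)
      Γ(c.pt, c.π.app i₀ ⁻¹ᵁ U₀) Γ(F, c.π.app i₀ ⁻¹ᵁ U₀) :=
    IsScalarTower.of_algebraMap_smul fun _ _ => rfl
  let q : (Fin n → Γ(c.pt, c.π.app i₀ ⁻¹ᵁ U₀)) →ₗ[Γ(c.pt, c.π.app i₀ ⁻¹ᵁ U₀)]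
      Γ(F, c.π.app i₀ ⁻¹ᵁ U₀) := e.symm.toLinearMap ∘ₗ K.mkQ
  have hq : Function.Surjective q := e.symm.surjective.comp (Submodule.mkQ_surjective K)
  let v : ↥s → Fin n → Γ(c.pt, c.π.app i₀ ⁻¹ᵁ U₀) := fun j => j.1
  have hker : LinearMap.ker q = Submodule.span Γ(c.pt, c.π.app i₀ ⁻¹ᵁ U₀) (Set.range v) := by
    have h1 : LinearMap.ker q = K := by
      change LinearMap.ker (e.symm.toLinearMap ∘ₗ K.mkQ) = K
      rw [LinearMap.ker_comp, LinearEquiv.ker, Submodule.comap_bot, Submodule.ker_mkQ]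
    rw [h1, ← hs]
    congr 1
    exact Subtype.range_coe.symm
  let w : ↥s → Fin n → Γ(D.obj k.unop.left, D.map k.unop.hom ⁻¹ᵁ U₀) := fun j i => a' (j, i)
  have hw : ∀ j i, algebraMap Γ(D.obj k.unop.left, D.map k.unop.hom ⁻¹ᵁ U₀)
      Γ(c.pt, c.π.app i₀ ⁻¹ᵁ U₀) (w j i) = v j i := fun j i => ha' (j, i) (Finset.mem_univ _)
  have hv : ∀ j, q (v j) = 0 := fun j => by
    have : v j ∈ LinearMap.ker q := hker ▸ Submodule.subset_span ⟨j, rfl⟩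
    exact this
  have hBC : IsBaseChange Γ(c.pt, c.π.app i₀ ⁻¹ᵁ U₀) (liftedMap q v w hw hv) :=
    isBaseChange_liftedMap q v w hw hq hker
  have hwfg : (Submodule.span Γ(D.obj k.unop.left, D.map k.unop.hom ⁻¹ᵁ U₀) (Set.range w)).FG :=
    Submodule.fg_span (Set.finite_range w)
  haveI : Module.FinitePresentation Γ(D.obj k.unop.left, D.map k.unop.hom ⁻¹ᵁ U₀)
      ((Fin n → Γ(D.obj k.unop.left, D.map k.unop.hom ⁻¹ᵁ U₀)) ⧸
        Submodule.span Γ(D.obj k.unop.left, D.map k.unop.hom ⁻¹ᵁ U₀) (Set.range w)) :=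
    Module.finitePresentation_of_free_of_surjective (Submodule.mkQ _)
      (Submodule.mkQ_surjective _) (by rw [Submodule.ker_mkQ]; exact hwfg)
  obtain ⟨G, hG, θ, hfp, hiso⟩ := affine_local' (c.π.app k.unop.left) hUk F
    (c.π.app i₀ ⁻¹ᵁ U₀) eU
    ((Fin n → Γ(D.obj k.unop.left, D.map k.unop.hom ⁻¹ᵁ U₀)) ⧸
        Submodule.span Γ(D.obj k.unop.left, D.map k.unop.hom ⁻¹ᵁ U₀) (Set.range w))
    (liftedMap q v w hw hv).toAddMonoidHom
    (fun a m => (liftedMap q v w hw hv).map_smul a m)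
    (fun x => by
      obtain ⟨T, hT⟩ := TensorProduct.exists_finset (hBC.equiv.symm x)
      refine ⟨T, ?_⟩
      have h1 := congrArg hBC.equiv hT
      rw [LinearEquiv.apply_symm_apply, map_sum] at h1
      exact h1)
    (fun T b m h0 => by
      have h1 : hBC.equiv (∑ p ∈ T, b p ⊗ₜ[Γ(D.obj k.unop.left, D.map k.unop.hom ⁻¹ᵁ U₀)] m p) =
          0 := by
        rw [map_sum]
        exact h0
      exact (LinearEquiv.map_eq_zero_iff _).mp h1)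
  exact ⟨k.unop.left, k.unop.hom, G, hG, θ, hfp, hiso⟩

end AffCase

end Groth.Agent.Lib.Helper12.H12ModGlue
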