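import Mathlib
import Groth.Agent.Lib.Helper12.ModGlue15

/-! # Descent of finitely presented modules to a stage of a limit of schemes (EGA IV 8.5.2 (ii)) -/

set_option autoImplicit false
universe u

open CategoryTheory CategoryTheory.Limits AlgebraicGeometry TopologicalSpace Opposite Function
open Groth.Agent.Lib.Helper29.QCoh Groth.Agent.Lib.Helper12.H12HomGlue

namespace Groth.Agent.Lib.Helper12.H12ModGlue

section Descend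
variable {I : Type u} [SmallCategory I] [IsCofiltered I] (D : I ⥤ Scheme.{u}) (c : Cone D)
  (hc : IsLimit c) [∀ {i j : I} (f : i ⟶ j), IsAffineHom (D.map f)] (i₀ : I)
  (F : c.pt.Modules)

/-- The module `F` comes, over the preimage of `W₀`, from the stage `k`. -/
def GoodAt (k : I) (φ : k ⟶ i₀) (W₀ : (D.obj i₀).Opens) : Prop :=
  ∃ (G : (D.obj k).Modules) (_ : G.IsQuasicoherent)
    (θ : (Scheme.Modules.pullback (c.π.app k)).obj G ⟶ F),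
    FPOn (D.map φ ⁻¹ᵁ W₀) G ∧ IsoOver (c.π.app i₀ ⁻¹ᵁ W₀) θ

theorem GoodAt.pull {k : I} {φ : k ⟶ i₀} {W₀ : (D.obj i₀).Opens} (h : GoodAt D c i₀ F k φ W₀)
    {i : I} (ψ : i ⟶ k) : GoodAt D c i₀ F i (ψ ≫ φ) W₀ := by
  obtain ⟨G, hG, θ, hfp, hiso⟩ := h
  refine ⟨(Scheme.Modules.pullback (D.map ψ)).obj G, inferInstance,
    (compIso (c.π.app i) (D.map ψ) (c.π.app k) (c.w ψ) G).hom ≫ θ, ?_, ?_⟩
  · rw [D.map_comp]
    exact hfp.pullback (D.map ψ)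
  · exact (isoOver_of_isIso _ _).comp hiso

include hc in
theorem goodAt_sup [QuasiSeparatedSpace (D.obj i₀)] [F.IsQuasicoherent] {i : I} (φ : i ⟶ i₀)
    (W₀ U₀ : (D.obj i₀).Opens) (hW₀ : IsCompact (W₀ : Set (D.obj i₀)))
    (hU₀ : IsCompact (U₀ : Set (D.obj i₀)))
    (h₁ : GoodAt D c i₀ F i φ W₀) (h₂ : GoodAt D c i₀ F i φ U₀) :
    ∃ (k : I) (φ' : k ⟶ i₀), GoodAt D c i₀ F k φ' (W₀ ⊔ U₀) := by
  obtain ⟨G₁, hG₁, θ₁, hfp₁, hiso₁⟩ := h₁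
  obtain ⟨G₂, hG₂, θ₂, hfp₂, hiso₂⟩ := h₂
  haveI : QuasiSeparatedSpace (D.obj i) := quasiSeparatedSpace_of_quasiSeparated (D.map φ)
  have hcW : IsCompact ((D.map φ ⁻¹ᵁ W₀ : (D.obj i).Opens) : Set (D.obj i)) :=
    QuasiCompact.isCompact_preimage (f := D.map φ) _ W₀.2 hW₀
  have hcU : IsCompact ((D.map φ ⁻¹ᵁ U₀ : (D.obj i).Opens) : Set (D.obj i)) :=
    QuasiCompact.isCompact_preimage (f := D.map φ) _ U₀.2 hU₀
  have e : ∀ T : (D.obj i₀).Opens, c.π.app i ⁻¹ᵁ (D.map φ ⁻¹ᵁ T) = c.π.app i₀ ⁻¹ᵁ T := by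
    intro T
    rw [← Scheme.Hom.comp_preimage, c.w]
  obtain ⟨k, ψ, G, hG, θ, hfp, hiso⟩ := glue_step D c hc i (D.map φ ⁻¹ᵁ W₀) (D.map φ ⁻¹ᵁ U₀)
    hcW hcU G₁ G₂ θ₁ θ₂ hfp₁ hfp₂ (by rw [e]; exact hiso₁) (by rw [e]; exact hiso₂)
  refine ⟨k, ψ ≫ φ, G, hG, θ, ?_, ?_⟩
  · rw [D.map_comp]
    exact hfp
  · rw [← e]
    exact hiso

include hc in
theorem exists_goodAt [CompactSpace (D.obj i₀)] [QuasiSeparatedSpace (D.obj i₀)]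
    [F.IsQuasicoherent] [F.IsFinitePresentation] (W₀ : (D.obj i₀).Opens)
    (hW₀ : IsCompact (W₀ : Set (D.obj i₀))) :
    ∃ (k : I) (φ : k ⟶ i₀), GoodAt D c i₀ F k φ W₀ := by
  haveI : IsAffineHom (c.π.app i₀) := isAffineHom_π_app D c hc i₀
  refine compact_open_induction_on (P := fun W₀ => ∃ (k : I) (φ : k ⟶ i₀), GoodAt D c i₀ F k φ W₀)
    W₀ hW₀ ?_ ?_
  · refine ⟨i₀, 𝟙 i₀, (Scheme.Modules.pushforward (c.π.app i₀)).obj F,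
      isQuasicoherent_pushforward_of_isAffineHom (c.π.app i₀) F,
      (Scheme.Modules.pullbackPushforwardAdjunction (c.π.app i₀)).counit.app F, ?_, ?_⟩
    · intro x hx
      exact absurd hx (by simp)
    · intro x hx
      exact absurd hx (by simp)
  · rintro S hS U ⟨k₁, φ₁, h₁⟩
    obtain ⟨k₂, φ₂, G₂, hG₂, θ₂, hfp₂, hiso₂⟩ := affine_case D c hc i₀ U.1 U.2 F
    have h₂ : GoodAt D c i₀ F k₂ φ₂ U.1 := ⟨G₂, hG₂, θ₂, hfp₂, hiso₂⟩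
    -- a common stage
    let m := IsCofiltered.min k₁ k₂
    let a₁ : m ⟶ k₁ := IsCofiltered.minToLeft k₁ k₂
    let a₂ : m ⟶ k₂ := IsCofiltered.minToRight k₁ k₂
    let i := IsCofiltered.eq (a₁ ≫ φ₁) (a₂ ≫ φ₂)
    let ε : i ⟶ m := IsCofiltered.eqHom (a₁ ≫ φ₁) (a₂ ≫ φ₂)
    have hε : ε ≫ a₁ ≫ φ₁ = ε ≫ a₂ ≫ φ₂ := IsCofiltered.eq_condition _ _
    have g₁ : GoodAt D c i₀ F i ((ε ≫ a₁) ≫ φ₁) S := h₁.pull D c i₀ F (ε ≫ a₁)
    have g₂ : GoodAt D c i₀ F i ((ε ≫ a₂) ≫ φ₂) U.1 := h₂.pull D c i₀ F (ε ≫ a₂)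
    have hφ : (ε ≫ a₂) ≫ φ₂ = (ε ≫ a₁) ≫ φ₁ := by
      rw [Category.assoc, Category.assoc, hε]
    rw [hφ] at g₂
    exact goodAt_sup D c hc i₀ F ((ε ≫ a₁) ≫ φ₁) S U.1 hS U.2.isCompact g₁ g₂

include hc in
/-- **Descent of modules of finite presentation** (EGA IV 8.5.2 (ii)). -/
theorem exists_module_descend [CompactSpace (D.obj i₀)] [QuasiSeparatedSpace (D.obj i₀)]
    [F.IsQuasicoherent] [F.IsFinitePresentation] :
    ∃ (i : I) (_ : i ⟶ i₀) (Fi : (D.obj i).Modules), Fi.IsQuasicoherent ∧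
      Fi.IsFinitePresentation ∧ Nonempty ((Scheme.Modules.pullback (c.π.app i)).obj Fi ≅ F) := by
  obtain ⟨k, φ, G, hG, θ, hfp, hiso⟩ := exists_goodAt D c hc i₀ F ⊤ isCompact_univ
  refine ⟨k, φ, G, hG, ?_, ?_⟩
  · have h1 : D.map φ ⁻¹ᵁ (⊤ : (D.obj i₀).Opens) = ⊤ := rfl
    rw [h1] at hfp
    exact hfp.isFinitePresentation
  · have h1 : c.π.app i₀ ⁻¹ᵁ (⊤ : (D.obj i₀).Opens) = ⊤ := rfl
    rw [h1] at hiso
    haveI : IsIso θ := (isoOver_top_iff θ).mp hiso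
    exact ⟨asIso θ⟩

end Descend

end Groth.Agent.Lib.Helper12.H12ModGlue
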