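import Mathlib

set_option autoImplicit false
universe u v w u'

open CategoryTheory TensorProduct

namespace Groth.Agent.Lib.Helper12.H12ModLim

section FreeCrit

variable {A₀ : Type u} [CommRing A₀] (M : Type u') [AddCommGroup M] [Module A₀ M] (n : ℕ)

section One
variable (A' : Type u) [CommRing A'] [Algebra A₀ A']

/-- first defect -/
noncomputable def defA (v : M →ₗ[A₀] (Fin n → A')) (y : Fin n → A' ⊗[A₀] M) (a : Fin n) :
    Fin n → A' :=
  LinearMap.liftBaseChange A' v (y a) - Pi.single a 1

/-- second defect -/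
noncomputable def defB (v : M →ₗ[A₀] (Fin n → A')) (y : Fin n → A' ⊗[A₀] M) :
    M →ₗ[A₀] A' ⊗[A₀] M :=
  (∑ a : Fin n, (LinearMap.toSpanSingleton A' (A' ⊗[A₀] M) (y a)).restrictScalars A₀ ∘ₗ
      (LinearMap.proj a : (Fin n → A') →ₗ[A₀] A') ∘ₗ v) - TensorProduct.mk A₀ A' M 1

theorem defB_apply (v : M →ₗ[A₀] (Fin n → A')) (y : Fin n → A' ⊗[A₀] M) (m : M) :
    defB M n A' v y m = ∑ a : Fin n, (v m a) • y a - (1 : A') ⊗ₜ[A₀] m := by
  simp [defB, LinearMap.sum_apply]

variable {M n A'}

theorem nonempty_equiv_of_def_eq_zero (v : M →ₗ[A₀] (Fin n → A')) (y : Fin n → A' ⊗[A₀] M)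
    (hA : ∀ a, defA M n A' v y a = 0) (hB : defB M n A' v y = 0) :
    Nonempty ((A' ⊗[A₀] M) ≃ₗ[A'] (Fin n → A')) := by
  classical
  let fwd : (A' ⊗[A₀] M) →ₗ[A'] (Fin n → A') := LinearMap.liftBaseChange A' v
  let bwd : (Fin n → A') →ₗ[A'] (A' ⊗[A₀] M) := Fintype.linearCombination A' y
  have h1 : fwd ∘ₗ bwd = LinearMap.id := by
    refine LinearMap.pi_ext' fun a => ?_
    ext
    simp only [LinearMap.coe_comp, LinearMap.coe_single, Function.comp_apply, bwd,
      Fintype.linearCombination_apply_single, one_smul, LinearMap.id_comp]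
    have := hA a
    rw [defA, sub_eq_zero] at this
    exact congrFun this _
  have h2 : bwd ∘ₗ fwd = LinearMap.id := by
    apply TensorProduct.AlgebraTensorModule.curry_injective
    ext m
    simp only [AlgebraTensorModule.curry_apply, LinearMap.restrictScalars_comp, curry_apply,
      LinearMap.coe_comp, LinearMap.coe_restrictScalars, Function.comp_apply, LinearMap.id_coe,
      id_eq, fwd, LinearMap.liftBaseChange_tmul, one_smul, bwd, Fintype.linearCombination_apply]
    have := LinearMap.congr_fun hB m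
    rw [defB_apply, LinearMap.zero_apply, sub_eq_zero] at this
    exact this
  exact ⟨LinearEquiv.ofLinearMap fwd bwd h1 h2⟩

theorem exists_def_eq_zero_of_equiv (e : (A' ⊗[A₀] M) ≃ₗ[A'] (Fin n → A')) :
    ∃ (v : M →ₗ[A₀] (Fin n → A')) (y : Fin n → A' ⊗[A₀] M),
      (∀ a, defA M n A' v y a = 0) ∧ defB M n A' v y = 0 := by
  classical
  refine ⟨(e.toLinearMap.restrictScalars A₀) ∘ₗ TensorProduct.mk A₀ A' M 1,
    fun a => e.symm (Pi.single a 1), ?_, ?_⟩
  · intro a
    rw [defA, sub_eq_zero]
    have : LinearMap.liftBaseChange A' ((e.toLinearMap.restrictScalars A₀) ∘ₗ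
        TensorProduct.mk A₀ A' M 1) = e.toLinearMap := by
      apply TensorProduct.AlgebraTensorModule.curry_injective
      ext m
      simp
    rw [this]
    simp
  · ext m
    rw [defB_apply, LinearMap.zero_apply, sub_eq_zero]
    apply e.injective
    simp only [LinearMap.coe_comp, LinearMap.coe_restrictScalars, LinearEquiv.coe_coe,
      Function.comp_apply, mk_apply, map_sum, map_smul, LinearEquiv.apply_symm_apply]
    ext j
    simp [Finset.sum_apply, Pi.single_apply]

end One

section Two
variable {M n} {A' A'' : Type u} [CommRing A'] [Algebra A₀ A'] [CommRing A''] [Algebra A₀ A'']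
  (θ : A' →ₐ[A₀] A'')

/-- push a map to coordinates along `θ` -/
noncomputable def pushV (v : M →ₗ[A₀] (Fin n → A')) : M →ₗ[A₀] (Fin n → A'') :=
  (θ.toLinearMap.compLeft (Fin n)) ∘ₗ v

/-- push tensors along `θ` -/
noncomputable def pushY (y : Fin n → A' ⊗[A₀] M) : Fin n → A'' ⊗[A₀] M :=
  fun a => θ.toLinearMap.rTensor M (y a)

theorem pushV_apply (v : M →ₗ[A₀] (Fin n → A')) (m : M) (a : Fin n) :
    pushV θ v m a = θ (v m a) := rfl

theorem rTensor_smul (a' : A') (x : A' ⊗[A₀] M) :
    θ.toLinearMap.rTensor M (a' • x) = θ a' • θ.toLinearMap.rTensor M x := by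
  induction x using TensorProduct.induction_on with
  | zero => simp
  | tmul b m =>
    rw [TensorProduct.smul_tmul', LinearMap.rTensor_tmul, LinearMap.rTensor_tmul,
      TensorProduct.smul_tmul', smul_eq_mul, smul_eq_mul]
    simp
  | add x y hx hy => rw [smul_add, map_add, map_add, hx, hy, smul_add]

theorem liftBaseChange_pushV (v : M →ₗ[A₀] (Fin n → A')) (x : A' ⊗[A₀] M) (a : Fin n) :
    LinearMap.liftBaseChange A'' (pushV θ v) (θ.toLinearMap.rTensor M x) a =
      θ (LinearMap.liftBaseChange A' v x a) := by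
  induction x using TensorProduct.induction_on with
  | zero => simp
  | tmul b m =>
    rw [LinearMap.rTensor_tmul, LinearMap.liftBaseChange_tmul, LinearMap.liftBaseChange_tmul]
    simp [pushV_apply]
  | add x y hx hy =>
    rw [map_add, map_add, map_add, Pi.add_apply, Pi.add_apply, hx, hy, map_add]

theorem defA_push (v : M →ₗ[A₀] (Fin n → A')) (y : Fin n → A' ⊗[A₀] M) (a b : Fin n) :
    defA M n A'' (pushV θ v) (pushY θ y) a b = θ (defA M n A' v y a b) := by
  classical
  rw [defA, defA, Pi.sub_apply, Pi.sub_apply, map_sub]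
  congr 1
  · exact liftBaseChange_pushV θ v (y a) b
  · rw [Pi.single_apply, Pi.single_apply]
    split_ifs <;> simp

theorem defB_push (v : M →ₗ[A₀] (Fin n → A')) (y : Fin n → A' ⊗[A₀] M) (m : M) :
    defB M n A'' (pushV θ v) (pushY θ y) m = θ.toLinearMap.rTensor M (defB M n A' v y m) := by
  rw [defB_apply, defB_apply, map_sub, map_sum]
  congr 1
  · refine Finset.sum_congr rfl fun a _ => ?_
    rw [rTensor_smul]
    rfl
  · rw [LinearMap.rTensor_tmul]
    simp

end Two

end FreeCrit

end Groth.Agent.Lib.Helper12.H12ModLim
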