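import Mathlib
import Groth.Agent.Lib.Helper12.ModLim2
import Groth.Agent.Lib.Helper12.ModLim7
import Groth.Agent.Lib.Helper12.ModLim8

set_option autoImplicit false
universe u v w u'

open CategoryTheory TensorProduct

namespace Groth.Agent.Lib.Helper12.H12ModLim

section RL

variable {A₀ B : Type u} [CommRing A₀] [CommRing B] [Algebra A₀ B]
  {K : Type v} [Category.{w} K] (A : K → Type u) [∀ k, CommRing (A k)] [∀ k, Algebra A₀ (A k)]
  (ρ : ∀ k, A k →ₐ[A₀] B) (τ : ∀ {k k' : K}, (k ⟶ k') → (A k →ₐ[A₀] A k'))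
  (τ_comp : ∀ {k k' k'' : K} (f : k ⟶ k') (g : k' ⟶ k'') (a : A k), τ (f ≫ g) a = τ g (τ f a))
  (ρ_τ : ∀ {k k' : K} (f : k ⟶ k') (a : A k), ρ k' (τ f a) = ρ k a)
  (dir : ∀ k k' : K, ∃ k'' : K, Nonempty (k ⟶ k'') ∧ Nonempty (k' ⟶ k''))
  (E1 : ∀ b : B, ∃ (k : K) (a : A k), ρ k a = b)
  (E2 : ∀ (k : K) (a : A k), ρ k a = 0 → ∃ (k' : K) (f : k ⟶ k'), τ f a = 0)

section I2
variable (N : Type u') [AddCommGroup N] [Module A₀ N]

include τ_comp in
theorem rT_comp {k k' k'' : K} (f : k ⟶ k') (g : k' ⟶ k'') (x : A k ⊗[A₀] N) :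
    (τ (f ≫ g)).toLinearMap.rTensor N x =
      (τ g).toLinearMap.rTensor N ((τ f).toLinearMap.rTensor N x) := by
  induction x using TensorProduct.induction_on with
  | zero => simp
  | tmul a m => simp [τ_comp]
  | add x y hx hy => rw [map_add, map_add, map_add, hx, hy]

include ρ_τ in
theorem rT_ρ {k k' : K} (f : k ⟶ k') (x : A k ⊗[A₀] N) :
    (ρ k').toLinearMap.rTensor N ((τ f).toLinearMap.rTensor N x) =
      (ρ k).toLinearMap.rTensor N x := by
  induction x using TensorProduct.induction_on with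
  | zero => simp
  | tmul a m => simp [ρ_τ]
  | add x y hx hy => rw [map_add, map_add, map_add, hx, hy]

include ρ_τ dir E1 in
/-- **TL**: every tensor over the union comes from a stage. -/
theorem exists_rTensor_lift (x : B ⊗[A₀] N) :
    ∃ (k : K) (x' : A k ⊗[A₀] N), (ρ k).toLinearMap.rTensor N x' = x := by
  induction x using TensorProduct.induction_on with
  | zero => 
    obtain ⟨k, -, -⟩ := E1 0
    exact ⟨k, 0, by simp⟩
  | tmul b m =>
    obtain ⟨k, a, rfl⟩ := E1 b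
    exact ⟨k, a ⊗ₜ m, by simp⟩
  | add x y hx hy =>
    obtain ⟨k, x', rfl⟩ := hx
    obtain ⟨k', y', rfl⟩ := hy
    obtain ⟨k'', ⟨g⟩, ⟨g'⟩⟩ := dir k k'
    refine ⟨k'', (τ g).toLinearMap.rTensor N x' + (τ g').toLinearMap.rTensor N y', ?_⟩
    rw [map_add, rT_ρ A ρ τ ρ_τ N g, rT_ρ A ρ τ ρ_τ N g']

end I2

section Main

theorem pushV_pushV {M : Type u'} [AddCommGroup M] [Module A₀ M] {n : ℕ}
    {A1 A2 A3 : Type u} [CommRing A1] [Algebra A₀ A1] [CommRing A2] [Algebra A₀ A2]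
    [CommRing A3] [Algebra A₀ A3] (θ : A1 →ₐ[A₀] A2) (θ' : A2 →ₐ[A₀] A3)
    (θ'' : A1 →ₐ[A₀] A3) (h : ∀ a, θ' (θ a) = θ'' a) (v : M →ₗ[A₀] (Fin n → A1)) :
    pushV θ' (pushV θ v) = pushV θ'' v := by
  ext m a
  simp only [pushV_apply]
  exact h _

include τ_comp ρ_τ dir E1 E2 in
/-- **RL**: freeness of rank `n` of a finitely presented module descends from the union of a
directed system of algebras to a stage. -/
theorem exists_stage_free [Nonempty K] (M : Type u') [AddCommGroup M] [Module A₀ M]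
    [Module.FinitePresentation A₀ M] (n : ℕ) (e : (B ⊗[A₀] M) ≃ₗ[B] (Fin n → B)) :
    ∃ k : K, Nonempty ((A k ⊗[A₀] M) ≃ₗ[A k] (Fin n → A k)) := by
  classical
  obtain ⟨k₀⟩ := ‹Nonempty K›
  obtain ⟨v, y, hA, hB⟩ := exists_def_eq_zero_of_equiv e
  -- the system of coordinate modules
  have E1_1 : ∀ b : Fin n → B, ∃ (k : K) (a : Fin n → A k),
      (ρ k).toLinearMap.compLeft (Fin n) a = b := by
    intro b
    obtain ⟨k', -, a', ha'⟩ := exists_common_lift A ρ τ ρ_τ dir E1 Finset.univ b k₀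
    exact ⟨k', a', funext fun j => ha' j (Finset.mem_univ j)⟩
  have E2_1 : ∀ (k : K) (a : Fin n → A k), (ρ k).toLinearMap.compLeft (Fin n) a = 0 →
      ∃ (k' : K) (f : k ⟶ k'), (τ f).toLinearMap.compLeft (Fin n) a = 0 := by
    intro k a ha
    obtain ⟨k', f, hf⟩ := exists_common_kill A ρ τ τ_comp ρ_τ E2 Finset.univ k a
      (fun j _ => congrFun ha j)
    exact ⟨k', f, funext fun j => hf j (Finset.mem_univ j)⟩
  obtain ⟨k₁, v₁, hv₁⟩ := exists_hom_lift (fun k => Fin n → A k)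
    (fun k => (ρ k).toLinearMap.compLeft (Fin n)) (fun f => (τ f).toLinearMap.compLeft (Fin n))
    (fun f g a => funext fun j => τ_comp f g (a j)) (fun f a => funext fun j => ρ_τ f (a j))
    dir E1_1 E2_1 M v
  have hv₁' : pushV (ρ k₁) v₁ = v := LinearMap.ext hv₁
  -- lift the tensors
  obtain ⟨k₂, f, y₂, hy₂⟩ := mod_exists_common_lift (fun k => A k ⊗[A₀] M)
    (fun k => (ρ k).toLinearMap.rTensor M) (fun f => (τ f).toLinearMap.rTensor M)
    (fun f x => rT_ρ A ρ τ ρ_τ M f x) dir (exists_rTensor_lift A ρ τ ρ_τ dir E1 M)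
    (Finset.univ : Finset (Fin n)) y k₁
  have hy₂' : pushY (ρ k₂) y₂ = y := funext fun a => hy₂ a (Finset.mem_univ a)
  have hv₂' : pushV (ρ k₂) (pushV (τ f) v₁) = v := by
    rw [pushV_pushV (τ f) (ρ k₂) (ρ k₁) (fun a => ρ_τ f a), hv₁']
  -- kill the first defect
  obtain ⟨k₃, g, hg⟩ := exists_common_kill A ρ τ τ_comp ρ_τ E2
    (Finset.univ : Finset (Fin n × Fin n)) k₂
    (fun p => defA M n (A k₂) (pushV (τ f) v₁) y₂ p.1 p.2) (fun p _ => by
      rw [← defA_push (ρ k₂), hv₂', hy₂', hA p.1]; rfl)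
  have hA₃ : ∀ a, defA M n (A k₃) (pushV (τ g) (pushV (τ f) v₁)) (pushY (τ g) y₂) a = 0 := by
    intro a
    funext b
    rw [defA_push (τ g)]
    exact hg (a, b) (Finset.mem_univ _)
  have hv₃' : pushV (ρ k₃) (pushV (τ g) (pushV (τ f) v₁)) = v := by
    rw [pushV_pushV (τ g) (ρ k₃) (ρ k₂) (fun a => ρ_τ g a), hv₂']
  have hy₃' : pushY (ρ k₃) (pushY (τ g) y₂) = y := by
    rw [← hy₂']
    funext a
    exact rT_ρ A ρ τ ρ_τ M g (y₂ a)
  -- kill the second defect on generators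
  obtain ⟨S, hS⟩ := (Module.Finite.fg_top : (⊤ : Submodule A₀ M).FG)
  obtain ⟨k₄, h, hh⟩ := mod_exists_common_kill (fun k => A k ⊗[A₀] M)
    (fun k => (ρ k).toLinearMap.rTensor M) (fun f => (τ f).toLinearMap.rTensor M)
    (fun f g x => rT_comp A τ τ_comp M f g x) (fun f x => rT_ρ A ρ τ ρ_τ M f x)
    (fun k x hx => exists_rTensor_eq_zero A ρ τ τ_comp ρ_τ dir E1 E2 M k x hx) S k₃
    (fun m => defB M n (A k₃) (pushV (τ g) (pushV (τ f) v₁)) (pushY (τ g) y₂) m) (fun m _ => by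
      rw [← defB_push (ρ k₃), hv₃', hy₃', hB]; rfl)
  refine ⟨k₄, nonempty_equiv_of_def_eq_zero
    (pushV (τ h) (pushV (τ g) (pushV (τ f) v₁))) (pushY (τ h) (pushY (τ g) y₂)) ?_ ?_⟩
  · intro a
    funext b
    rw [defA_push (τ h), hA₃ a]
    simp
  · apply LinearMap.ext_on hS
    intro m hm
    rw [defB_push (τ h), LinearMap.zero_apply]
    exact hh m hm

end Main

end RL

end Groth.Agent.Lib.Helper12.H12ModLim
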