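import Mathlib
import Groth.Agent.Lib.Helper12.ModLim6
import Groth.Agent.Lib.Helper12.ModLim9
import Groth.Agent.Lib.Helper29.QCohLocFree

set_option autoImplicit false
universe u

open CategoryTheory CategoryTheory.Limits AlgebraicGeometry TopologicalSpace Opposite TensorProduct
open Groth.Agent.Lib.Helper29.QCoh

namespace Groth.Agent.Lib.Helper12.H12ModLim

section SL
variable {I : Type u} [SmallCategory I] [IsCofiltered I] (D : I ⥤ Scheme.{u}) (c : Cone D)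
  (hc : IsLimit c) [∀ {i j : I} (f : i ⟶ j), IsAffineHom (D.map f)]

include hc in
set_option maxRecDepth 8000 in
/-- Local statement: freeness of sections of the pullback over `π⁻¹V` descends to a stage. -/
theorem exists_stage_sections_free (j : I) (Fj : (D.obj j).Modules) [Fj.IsQuasicoherent]
    [Fj.IsFinitePresentation] (V : (D.obj j).Opens) (hV : IsAffineOpen V) (n : ℕ)
    (h : Nonempty (Γ((Scheme.Modules.pullback (c.π.app j)).obj Fj, c.π.app j ⁻¹ᵁ V) ≃ₗ[Γ(c.pt, c.π.app j ⁻¹ᵁ V)]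
      (Fin n →₀ Γ(c.pt, c.π.app j ⁻¹ᵁ V)))) :
    ∃ k : Over j, Nonempty (Γ((Scheme.Modules.pullback (D.map k.hom)).obj Fj, D.map k.hom ⁻¹ᵁ V)
      ≃ₗ[Γ(D.obj k.left, D.map k.hom ⁻¹ᵁ V)] (Fin n →₀ Γ(D.obj k.left, D.map k.hom ⁻¹ᵁ V))) := by
  haveI : IsAffineHom (c.π.app j) := isAffineHom_π_app D c hc j
  obtain ⟨e⟩ := h
  have hfp : Module.FinitePresentation Γ(D.obj j, V) Γ(Fj, V) :=
    module_finitePresentation_of_isFinitePresentation Fj hV
  let e1 : (StB D c j V ⊗[Γ(D.obj j, V)] Γ(Fj, V)) ≃ₗ[StB D c j V] (Fin n → StB D c j V) :=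
    (pullbackSectionsEquiv (c.π.app j) Fj (hV.preimage _) hV le_rfl).symm ≪≫ₗ e ≪≫ₗ
      Finsupp.linearEquivFunOnFinite (StB D c j V) (StB D c j V) (Fin n)
  haveI : Nonempty (Over j)ᵒᵖ := ⟨op (Over.mk (𝟙 j))⟩
  obtain ⟨k, ⟨e2⟩⟩ := exists_stage_free (StA D j V) (stρ D c j V) (fun f => stτ D j V f)
    (fun f g a => stτ_comp D j V f g a) (fun f a => stρ_τ D c j V f a)
    (fun k k' => ⟨IsFiltered.max k k', ⟨IsFiltered.leftToMax k k'⟩, ⟨IsFiltered.rightToMax k k'⟩⟩)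
    (fun b => by
      obtain ⟨k, a, ha⟩ := exists_appLE_eq D c hc j V hV b
      exact ⟨op k, a, (stρ_apply D c j V (op k) a).trans ha⟩)
    (fun k a ha => by
      rw [stρ_apply] at ha
      obtain ⟨k', g, hg⟩ := exists_appLE_eq_zero D c hc j V hV k.unop a ha
      exact ⟨op k', g.op, (stτ_apply D j V g.op a).trans hg⟩)
    Γ(Fj, V) n e1
  refine ⟨k.unop, ⟨?_⟩⟩
  exact (pullbackSectionsEquiv (D.map k.unop.hom) Fj (hV.preimage _) hV le_rfl) ≪≫ₗ e2 ≪≫ₗ
    (Finsupp.linearEquivFunOnFinite (StA D j V k) (StA D j V k) (Fin n)).symm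

end SL

section FreeLocus
variable {X : Scheme.{u}}

/-- The locus where `M` is locally free of a rank satisfying `P`. -/
def freeLocus (M : X.Modules) (P : ℕ → Prop) : X.Opens :=
  ⨆ (U : {U : X.Opens // ∃ n, P n ∧ IsFreeAlong M U.ι n}), U.1

theorem mem_freeLocus_iff (M : X.Modules) (P : ℕ → Prop) (x : X) :
    x ∈ freeLocus M P ↔ ∃ (U : X.Opens) (n : ℕ), x ∈ U ∧ P n ∧ IsFreeAlong M U.ι n := by
  rw [freeLocus, Opens.mem_iSup]
  constructor
  · rintro ⟨⟨U, n, hn, hU⟩, hx⟩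
    exact ⟨U, n, hx, hn, hU⟩
  · rintro ⟨U, n, hx, hn, hU⟩
    exact ⟨⟨U, n, hn, hU⟩, hx⟩

theorem isFinLocFreeOfRank_iff_freeLocus (n : ℕ) (M : X.Modules) :
    FlatMod.IsFinLocFreeOfRank n M ↔ freeLocus M (· = n) = ⊤ := by
  rw [isFinLocFreeOfRank_iff_isFreeAlong, eq_top_iff]
  constructor
  · intro h x _
    obtain ⟨U, hx, hU⟩ := h x
    exact (mem_freeLocus_iff M _ x).mpr ⟨U, n, hx, rfl, hU⟩
  · intro h x
    obtain ⟨U, m, hx, rfl, hU⟩ := (mem_freeLocus_iff M _ x).mp (h (show x ∈ (⊤ : X.Opens) from trivial))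
    exact ⟨U, hx, hU⟩

theorem isFinLocFree_iff_freeLocus (M : X.Modules) :
    FlatMod.IsFinLocFree M ↔ freeLocus M (fun _ => True) = ⊤ := by
  rw [isFinLocFree_iff_isFreeAlong, eq_top_iff]
  constructor
  · intro h x _
    obtain ⟨U, n, hx, hU⟩ := h x
    exact (mem_freeLocus_iff M _ x).mpr ⟨U, n, hx, trivial, hU⟩
  · intro h x
    obtain ⟨U, m, hx, -, hU⟩ := (mem_freeLocus_iff M _ x).mp (h (show x ∈ (⊤ : X.Opens) from trivial))
    exact ⟨U, m, hx, hU⟩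

theorem freeLocus_le_of_iso {M N : X.Modules} (e : M ≅ N) (P : ℕ → Prop) :
    freeLocus M P ≤ freeLocus N P := by
  intro x hx
  obtain ⟨U, n, hxU, hn, hU⟩ := (mem_freeLocus_iff M P x).mp hx
  exact (mem_freeLocus_iff N P x).mpr ⟨U, n, hxU, hn, hU.of_iso e⟩

theorem preimage_freeLocus_le {X' : Scheme.{u}} (f : X' ⟶ X) (M : X.Modules) (P : ℕ → Prop) :
    f ⁻¹ᵁ freeLocus M P ≤ freeLocus ((Scheme.Modules.pullback f).obj M) P := by
  intro x hx
  obtain ⟨U, n, hxU, hn, hU⟩ := (mem_freeLocus_iff M P (f x)).mp hx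
  exact (mem_freeLocus_iff _ P x).mpr ⟨f ⁻¹ᵁ U, n, hxU, hn,
    hU.pullback f _ (f ∣_ U) (morphismRestrict_ι f U).symm⟩

/-- Freeness of sections over an affine open puts it inside the free locus. -/
theorem le_freeLocus_of_sections_free (M : X.Modules) [M.IsQuasicoherent] (P : ℕ → Prop)
    {V : X.Opens} (hV : IsAffineOpen V) (n : ℕ) (hn : P n)
    (h : Nonempty (Γ(M, V) ≃ₗ[Γ(X, V)] (Fin n →₀ Γ(X, V)))) : V ≤ freeLocus M P := by
  intro x hx
  refine (mem_freeLocus_iff M P x).mpr ⟨V, n, hx, hn, ?_⟩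
  have h1 := (isFreeAlong_fromSpec_iff M hV n).mpr h
  refine h1.of_range_subset _ ?_
  rw [hV.range_fromSpec, Scheme.Opens.range_ι]

/-- Inside the free locus, small affine opens have free sections. -/
theorem sections_free_of_le (M : X.Modules) [M.IsQuasicoherent] {W : X.Opens} {n : ℕ}
    (hW : IsFreeAlong M W.ι n) {V : X.Opens} (hV : IsAffineOpen V) (hVW : V ≤ W) :
    Nonempty (Γ(M, V) ≃ₗ[Γ(X, V)] (Fin n →₀ Γ(X, V))) := by
  apply (isFreeAlong_fromSpec_iff M hV n).mp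
  refine hW.of_range_subset _ ?_
  rw [hV.range_fromSpec, Scheme.Opens.range_ι]
  exact hVW

end FreeLocus

end Groth.Agent.Lib.Helper12.H12ModLim
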