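import Mathlib
import Groth.Agent.Lib.Helper12.ModLim10
import Groth.Agent.Lib.Helper12.ConsP8
import Groth.Agent.Lib.Helper17.ProCons

set_option autoImplicit false
universe u

open CategoryTheory CategoryTheory.Limits AlgebraicGeometry TopologicalSpace Opposite TensorProduct
open Groth.Agent.Lib.Helper29.QCoh

namespace Groth.Agent.Lib.Helper12.H12ModLim

section Main
variable {I : Type u} [SmallCategory I] [IsCofiltered I] (D : I ⥤ Scheme.{u}) (c : Cone D)
  (hc : IsLimit c) [∀ {i j : I} (f : i ⟶ j), IsAffineHom (D.map f)]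
  (i₀ : I) (F₀ : (D.obj i₀).Modules) (P : ℕ → Prop)

theorem freeLocus_mono {k k' : Over i₀} (g : k' ⟶ k) :
    D.map g.left ⁻¹ᵁ freeLocus ((Scheme.Modules.pullback (D.map k.hom)).obj F₀) P ≤
      freeLocus ((Scheme.Modules.pullback (D.map k'.hom)).obj F₀) P := by
  refine (preimage_freeLocus_le (D.map g.left) _ P).trans (freeLocus_le_of_iso ?_ P)
  exact (Scheme.Modules.pullbackComp (D.map g.left) (D.map k.hom)).app F₀ ≪≫
    (Scheme.Modules.pullbackCongr (by rw [← D.map_comp, Over.w])).app F₀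

theorem preimage_freeLocus_le_limit (k : Over i₀) :
    c.π.app k.left ⁻¹ᵁ freeLocus ((Scheme.Modules.pullback (D.map k.hom)).obj F₀) P ≤
      freeLocus ((Scheme.Modules.pullback (c.π.app i₀)).obj F₀) P := by
  refine (preimage_freeLocus_le (c.π.app k.left) _ P).trans (freeLocus_le_of_iso ?_ P)
  exact (Scheme.Modules.pullbackComp (c.π.app k.left) (D.map k.hom)).app F₀ ≪≫
    (Scheme.Modules.pullbackCongr (c.w k.hom)).app F₀

include hc in
/-- Local statement. -/
theorem exists_stage_mem_freeLocus [F₀.IsQuasicoherent] [F₀.IsFinitePresentation] (x : c.pt)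
    (hx : x ∈ freeLocus ((Scheme.Modules.pullback (c.π.app i₀)).obj F₀) P) :
    ∃ k : Over i₀, c.π.app k.left x ∈
      freeLocus ((Scheme.Modules.pullback (D.map k.hom)).obj F₀) P := by
  obtain ⟨W, n, hxW, hn, hW⟩ := (mem_freeLocus_iff _ P x).mp hx
  -- shrink to the preimage of an affine open of a stage
  obtain ⟨_, ⟨j, V, hV, rfl⟩, hxV, hVW⟩ :=
    (Opens.isBasis_iff_nbhd.mp (isBasis_preimage_isAffineOpen D c hc)) hxW
  -- move to a stage over `i₀`
  let j' := IsCofiltered.min j i₀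
  let a : j' ⟶ j := IsCofiltered.minToLeft j i₀
  let b : j' ⟶ i₀ := IsCofiltered.minToRight j i₀
  have hV' : IsAffineOpen (D.map a ⁻¹ᵁ V) := hV.preimage _
  have hpre : c.π.app j' ⁻¹ᵁ (D.map a ⁻¹ᵁ V) = c.π.app j ⁻¹ᵁ V := by
    rw [← Scheme.Hom.comp_preimage, c.w]
  haveI : IsAffineHom (c.π.app j') := isAffineHom_π_app D c hc j'
  have hU : IsAffineOpen (c.π.app j' ⁻¹ᵁ (D.map a ⁻¹ᵁ V)) := hV'.preimage _
  -- freeness of sections over `U`
  let Fb := (Scheme.Modules.pullback (D.map b)).obj F₀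
  have iso1 : (Scheme.Modules.pullback (c.π.app j')).obj Fb ≅
      (Scheme.Modules.pullback (c.π.app i₀)).obj F₀ :=
    (Scheme.Modules.pullbackComp (c.π.app j') (D.map b)).app F₀ ≪≫
      (Scheme.Modules.pullbackCongr (c.w b)).app F₀
  have hW' : IsFreeAlong ((Scheme.Modules.pullback (c.π.app j')).obj Fb) W.ι n :=
    hW.of_iso iso1.symm
  have hsec := sections_free_of_le _ hW' hU (hpre.le.trans hVW)
  obtain ⟨k, hk⟩ := exists_stage_sections_free D c hc j' Fb (D.map a ⁻¹ᵁ V) hV' n hsec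
  -- conclusion at the stage `k`
  refine ⟨Over.mk (k.hom ≫ b), ?_⟩
  have h1 : D.map k.hom ⁻¹ᵁ (D.map a ⁻¹ᵁ V) ≤
      freeLocus ((Scheme.Modules.pullback (D.map k.hom)).obj Fb) P :=
    le_freeLocus_of_sections_free _ P (hV'.preimage _) n hn hk
  have h2 : freeLocus ((Scheme.Modules.pullback (D.map k.hom)).obj Fb) P ≤
      freeLocus ((Scheme.Modules.pullback (D.map (k.hom ≫ b))).obj F₀) P := by
    refine freeLocus_le_of_iso ?_ P
    exact (Scheme.Modules.pullbackComp (D.map k.hom) (D.map b)).app F₀ ≪≫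
      (Scheme.Modules.pullbackCongr (D.map_comp _ _).symm).app F₀
  apply h2
  apply h1
  show D.map a (D.map k.hom (c.π.app k.left x)) ∈ V
  have e1 : D.map k.hom (c.π.app k.left x) = c.π.app j' x := by
    rw [← Scheme.Hom.comp_apply, c.w]
  have e2 : D.map a (c.π.app j' x) = c.π.app j x := by
    rw [← Scheme.Hom.comp_apply, c.w]
  rw [e1, e2]
  exact hxV

include hc in
/-- **EGA IV 8.5.5**: the free locus is everything on the limit iff at a stage. -/
theorem freeLocus_eq_top_iff_stage [CompactSpace (D.obj i₀)] [F₀.IsQuasicoherent]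
    [F₀.IsFinitePresentation] :
    freeLocus ((Scheme.Modules.pullback (c.π.app i₀)).obj F₀) P = ⊤ ↔
      ∃ (j : I) (φ : j ⟶ i₀), freeLocus ((Scheme.Modules.pullback (D.map φ)).obj F₀) P = ⊤ := by
  classical
  constructor
  · intro h
    haveI : IsAffineHom (c.π.app i₀) := isAffineHom_π_app D c hc i₀
    haveI : CompactSpace c.pt := QuasiCompact.compactSpace_of_compactSpace (c.π.app i₀)
    choose kk hkk using fun x : c.pt => exists_stage_mem_freeLocus D c hc i₀ F₀ P x
      (h ▸ (show x ∈ (⊤ : c.pt.Opens) from trivial))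
    obtain ⟨T, hT⟩ := isCompact_univ.elim_finite_subcover
      (fun x : c.pt => ((c.π.app (kk x).left ⁻¹ᵁ
        freeLocus ((Scheme.Modules.pullback (D.map (kk x).hom)).obj F₀) P : c.pt.Opens) : Set c.pt))
      (fun x => Opens.isOpen _) (fun x _ => Set.mem_iUnion.mpr ⟨x, hkk x⟩)
    obtain ⟨k, hk⟩ := IsCofiltered.inf_objs_exists (T.image kk)
    have g : ∀ x ∈ T, k ⟶ kk x := fun x hx => (hk (Finset.mem_image_of_mem _ hx)).some
    have hall : ∀ s : c.pt, c.π.app k.left s ∈
        ((freeLocus ((Scheme.Modules.pullback (D.map k.hom)).obj F₀) P : (D.obj k.left).Opens) :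
          Set (D.obj k.left)) := by
      intro s
      obtain ⟨x, hxT, hsx⟩ : ∃ x ∈ T, s ∈ (c.π.app (kk x).left ⁻¹ᵁ
          freeLocus ((Scheme.Modules.pullback (D.map (kk x).hom)).obj F₀) P : c.pt.Opens) := by
        simpa using hT (Set.mem_univ s)
      apply freeLocus_mono D i₀ F₀ P (g x hxT)
      show D.map (g x hxT).left (c.π.app k.left s) ∈
        freeLocus ((Scheme.Modules.pullback (D.map (kk x).hom)).obj F₀) P
      have e1 : D.map (g x hxT).left (c.π.app k.left s) = c.π.app (kk x).left s := by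
        rw [← Scheme.Hom.comp_apply, c.w]
      rw [e1]
      exact hsx
    haveI : CompactSpace (D.obj k.left) := QuasiCompact.compactSpace_of_compactSpace (D.map k.hom)
    have hA : ∀ (i j : I) (a : i ⟶ j), IsAffineHom (D.map a) := fun _ _ a => inferInstance
    obtain ⟨j, φ, hj⟩ := Groth.Agent.Lib.Helper12.H12ConsP.exists_stage_preimage_univ D c hc k.left _
      (Groth.Agent.Lib.Helper17.ProConsLib.isIndConstructible_of_isOpen (Opens.isOpen _)) hall
    refine ⟨j, φ ≫ k.hom, ?_⟩
    rw [eq_top_iff]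
    intro t _
    exact freeLocus_mono D i₀ F₀ P (k := k) (k' := Over.mk (φ ≫ k.hom)) (Over.homMk φ) (hj t)
  · rintro ⟨j, φ, hj⟩
    rw [eq_top_iff]
    intro x _
    apply preimage_freeLocus_le_limit D c i₀ F₀ P (Over.mk φ)
    show c.π.app j x ∈ freeLocus ((Scheme.Modules.pullback (D.map φ)).obj F₀) P
    rw [hj]
    trivial

end Main

end Groth.Agent.Lib.Helper12.H12ModLim
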