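import Mathlib
import Groth.Agent.Lib.Helper12.Dev2
import Groth.Agent.Lib.Helper29.PQ2

/-! # The dévissage induction for coherent modules on a Noetherian scheme -/

set_option autoImplicit false
universe u v

open CategoryTheory CategoryTheory.Limits AlgebraicGeometry TopologicalSpace Opposite Function
open Groth.Agent.Lib.Helper29.QCoh
open Groth.Agent.Lib.Helper12.H12ModGlue

namespace Groth.Agent.Lib.Helper12.H12Dev

section Core
variable {X : Scheme.{u}} (K' : X.Modules → Prop)

/-- The class `K'` is closed under extensions of coherent modules. -/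
def ExtClosed : Prop :=
  ∀ S : ShortComplex X.Modules, S.ShortExact → Coh.IsCoh S.X₁ → Coh.IsCoh S.X₂ → Coh.IsCoh S.X₃ →
    K' S.X₁ → K' S.X₃ → K' S.X₂

variable {K'}

theorem range_stalkMapₗ_image_ι {A B : X.Modules} (w : A ⟶ B) (y : X) :
    LinearMap.range (RefHull.stalkMapₗ (Abelian.image.ι w) y) =
      LinearMap.range (RefHull.stalkMapₗ w y) := by
  have hsurj := (epi_iff_stalkMap_surjective (Abelian.factorThruImage w)).mp inferInstance y
  ext t
  simp only [LinearMap.mem_range, stalkMapₗ_apply]
  constructor
  · rintro ⟨s, rfl⟩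
    obtain ⟨a, rfl⟩ := hsurj s
    exact ⟨a, by rw [← stalkMap_comp_apply, Abelian.image.fac]⟩
  · rintro ⟨a, rfl⟩
    exact ⟨stalkMap (Abelian.factorThruImage w) y a, by
      rw [← stalkMap_comp_apply, Abelian.image.fac]⟩

theorem irreducible_step [IsNoetherian X] (hext : ExtClosed K') (Z : Set X) (y : X)
    (hy : closure {y} = Z)
    (hsmall : ∀ F : X.Modules, Coh.IsCoh F → CohB1.support F ⊆ Z → y ∉ CohB1.support F → K' F)
    (hsimple : ∀ T : X.Modules, Coh.IsCoh T → CohB1.support T ⊆ Z →
      IsSimpleModule (X.presheaf.stalk y) (T.presheaf.stalk y) → K' T)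
    (F : X.Modules) (hF : Coh.IsCoh F) (hsupp : CohB1.support F ⊆ Z) : K' F := by
  suffices H : ∀ n : ℕ, ∀ F : X.Modules, Coh.IsCoh F → CohB1.support F ⊆ Z → len F y ≤ n → K' F by
    have hfin := len_ne_top F hF y (hy ▸ hsupp)
    obtain ⟨n, hn⟩ := ENat.ne_top_iff_exists.mp hfin
    exact H n F hF hsupp hn.ge
  intro n
  induction n with
  | zero =>
    intro F hF hsupp hlen
    apply hsmall F hF hsupp
    rw [← len_eq_zero_iff]
    exact le_antisymm (by simpa using hlen) zero_le
  | succ n ih =>
    intro F hF hsupp hlen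
    by_cases hyF : y ∈ CohB1.support F
    swap
    · exact hsmall F hF hsupp hyF
    haveI : Nontrivial (F.presheaf.stalk y) := (mem_support_iff F y).mp hyF
    obtain ⟨ψ, hψ⟩ := exists_end_isSimpleModule_range (R := X.presheaf.stalk y)
      (F.presheaf.stalk y) (isFiniteLength_stalk F hF y (hy ▸ hsupp))
    obtain ⟨H, v, w, U, hH, hyU, hv, hw, -, -⟩ := exists_correspondence hF hF y ψ
    -- the image of `w`
    have hT : Coh.IsCoh (Abelian.image w) := isCoh_image w hH hF
    have hTsupp : CohB1.support (Abelian.image w) ⊆ Z :=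
      (support_subset_of_mono (Abelian.image.ι w)).trans hsupp
    have hrange : LinearMap.range (RefHull.stalkMapₗ (Abelian.image.ι w) y) = LinearMap.range ψ := by
      rw [range_stalkMapₗ_image_ι]
      ext t
      simp only [LinearMap.mem_range, stalkMapₗ_apply]
      constructor
      · rintro ⟨s, rfl⟩
        exact ⟨stalkMap v y s, (hw s).symm⟩
      · rintro ⟨a, rfl⟩
        obtain ⟨s, rfl⟩ := (hv y hyU).2 a
        exact ⟨s, hw s⟩
    have hinj : Function.Injective (RefHull.stalkMapₗ (Abelian.image.ι w) y) :=
      (mono_iff_stalkMap_injective (Abelian.image.ι w)).mp inferInstance y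
    have hTsimple : IsSimpleModule (X.presheaf.stalk y) ((Abelian.image w).presheaf.stalk y) := by
      let e := LinearEquiv.ofInjective (RefHull.stalkMapₗ (Abelian.image.ι w) y) hinj
      rw [hrange] at e
      exact IsSimpleModule.congr e
    have hKT : K' (Abelian.image w) := hsimple _ hT hTsupp hTsimple
    -- the cokernel
    have hC : Coh.IsCoh (cokernel w) := isCoh_cokernel w hH hF
    have hCsupp : CohB1.support (cokernel w) ⊆ Z :=
      (support_subset_of_epi (cokernel.π w)).trans hsupp
    have hadd := len_eq_add (sesImCoker w) (sesImCoker_shortExact w) y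
    have h1 : len (Abelian.image w) y = 1 := Module.length_eq_one _ _
    have hClen : len (cokernel w) y ≤ n := by
      change len F y = len (Abelian.image w) y + len (cokernel w) y at hadd
      rw [hadd, h1, add_comm] at hlen
      push_cast at hlen
      exact (ENat.add_le_add_iff_right ENat.one_ne_top).mp hlen
    exact hext (sesImCoker w) (sesImCoker_shortExact w) hT hF hC hKT (ih _ hC hCsupp hClen)

theorem reducible_step [IsNoetherian X] (hext : ExtClosed K') (Y₁ Y₂ : Set X)
    (h₁ : IsClosed Y₁) (h₂ : IsClosed Y₂)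
    (H₁ : ∀ F : X.Modules, Coh.IsCoh F → CohB1.support F ⊆ Y₁ → K' F)
    (H₂ : ∀ F : X.Modules, Coh.IsCoh F → CohB1.support F ⊆ Y₂ → K' F)
    (F : X.Modules) (hF : Coh.IsCoh F) (hsupp : CohB1.support F ⊆ Y₁ ∪ Y₂) : K' F := by
  haveI := hF.1
  haveI := hF.2
  let V : X.Opens := ⟨Y₁ᶜ, h₁.isOpen_compl⟩
  have hq : ((Scheme.Modules.pushforward V.ι).obj
      ((Scheme.Modules.restrictFunctor V.ι).obj F)).IsQuasicoherent := by
    have : ((Scheme.Modules.restrictFunctor V.ι).obj F).IsQuasicoherent :=
      isQuasicoherent_of_iso ((Scheme.Modules.restrictFunctorIsoPullback V.ι).symm.app F)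
    exact isQuasicoherent_pushforward_of_qcqs V.ι _
  have hK : Coh.IsCoh (kernel (resUnit V F)) :=
    ⟨inferInstance, isFiniteType_of_mono (kernel.ι (resUnit V F))⟩
  have hQ : Coh.IsCoh (cokernel (kernel.ι (resUnit V F))) := isCoh_cokernel _ hK hF
  have hS : (ShortComplex.mk (kernel.ι (resUnit V F)) (cokernel.π (kernel.ι (resUnit V F)))
      (cokernel.condition _)).ShortExact :=
    ShortComplex.ShortExact.mk (ShortComplex.exact_cokernel _)
  refine hext _ hS hK hF hQ (H₁ _ hK ?_) (H₂ _ hQ ?_)
  · refine (support_kernel_resUnit V F).trans ?_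
    intro x hx
    exact not_not.mp hx
  · refine support_coimage_resUnit V F Y₂ h₂ ?_
    intro x hx
    rcases hsupp hx with h | h
    · exact Or.inr (fun hxV => hxV h)
    · exact Or.inl h

/-- **Dévissage, core form.**  An extension-closed class of modules containing the zero modules
contains every coherent module supported in `X'` as soon as, for every irreducible closed
`Z ⊆ X'` with generic point `y`, it contains the coherent modules supported in `Z` with simple
stalk at `y`, given that it contains those supported in `Z` with vanishing stalk at `y`. -/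
theorem devissage_core [IsNoetherian X] (h0 : ∀ M : X.Modules, IsZero M → K' M)
    (hext : ExtClosed K') (X' : Set X)
    (hb1 : ∀ (Z : Set X), IsClosed Z → IsIrreducible Z → Z ⊆ X' → ∀ y : X, closure {y} = Z →
      (∀ F : X.Modules, Coh.IsCoh F → CohB1.support F ⊆ Z → y ∉ CohB1.support F → K' F) →
      ∀ T : X.Modules, Coh.IsCoh T → CohB1.support T ⊆ Z →
        IsSimpleModule (X.presheaf.stalk y) (T.presheaf.stalk y) → K' T)
    (F : X.Modules) (hF : Coh.IsCoh F) (hsupp : CohB1.support F ⊆ X') : K' F := by
  suffices H : ∀ Y : Closeds X, (Y : Set X) ⊆ X' →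
      ∀ F : X.Modules, Coh.IsCoh F → CohB1.support F ⊆ Y → K' F by
    haveI := hF.2
    exact H ⟨CohB1.support F, isClosed_support F⟩ hsupp F hF subset_rfl
  intro Y
  induction Y using WellFoundedLT.induction with
  | ind Y IH =>
    intro hYX' F hF hsupp
    by_cases hempty : (Y : Set X) = ∅
    · apply h0
      apply isZero_of_support_eq_empty
      exact Set.subset_eq_empty (hempty ▸ hsupp) rfl
    by_cases hirr : IsPreirreducible (Y : Set X)
    · have hirr' : IsIrreducible (Y : Set X) := ⟨Set.nonempty_iff_ne_empty.mpr hempty, hirr⟩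
      obtain ⟨y, hy⟩ := QuasiSober.sober hirr' Y.isClosed
      have hy' : closure {y} = (Y : Set X) := hy
      have hyY : y ∈ (Y : Set X) := hy' ▸ subset_closure rfl
      have hsmall : ∀ F : X.Modules, Coh.IsCoh F → CohB1.support F ⊆ Y →
          y ∉ CohB1.support F → K' F := by
        intro F' hF' hsupp' hyF'
        haveI := hF'.2
        let Y' : Closeds X := ⟨CohB1.support F', isClosed_support F'⟩
        have hlt : Y' < Y := by
          refine lt_of_le_of_ne hsupp' ?_
          intro heq
          apply hyF'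
          have : y ∈ (Y' : Set X) := heq ▸ hyY
          exact this
        exact IH Y' hlt (hsupp'.trans hYX') F' hF' subset_rfl
      exact irreducible_step hext Y y hy' hsmall
        (hb1 Y Y.isClosed hirr' hYX' y hy' hsmall) F hF hsupp
    · rw [isPreirreducible_iff_isClosed_union_isClosed] at hirr
      push Not at hirr
      obtain ⟨z₁, z₂, hz₁, hz₂, hcov, hn₁, hn₂⟩ := hirr
      let Y₁ : Closeds X := ⟨(Y : Set X) ∩ z₁, Y.isClosed.inter hz₁⟩
      let Y₂ : Closeds X := ⟨(Y : Set X) ∩ z₂, Y.isClosed.inter hz₂⟩
      have hlt₁ : Y₁ < Y := by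
        refine lt_of_le_of_ne Set.inter_subset_left ?_
        intro heq
        apply hn₁
        have : (Y : Set X) ∩ z₁ = Y := congrArg (fun C : Closeds X => (C : Set X)) heq
        exact Set.inter_eq_left.mp this
      have hlt₂ : Y₂ < Y := by
        refine lt_of_le_of_ne Set.inter_subset_left ?_
        intro heq
        apply hn₂
        have : (Y : Set X) ∩ z₂ = Y := congrArg (fun C : Closeds X => (C : Set X)) heq
        exact Set.inter_eq_left.mp this
      refine reducible_step hext (Y₁ : Set X) (Y₂ : Set X) Y₁.isClosed Y₂.isClosed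
        (fun F' hF' hs' => IH Y₁ hlt₁ (Set.inter_subset_left.trans hYX') F' hF' hs')
        (fun F' hF' hs' => IH Y₂ hlt₂ (Set.inter_subset_left.trans hYX') F' hF' hs') F hF ?_
      intro x hx
      have hxY := hsupp hx
      rcases hcov hxY with h | h
      · exact Or.inl ⟨hxY, h⟩
      · exact Or.inr ⟨hxY, h⟩

end Core

end Groth.Agent.Lib.Helper12.H12Dev
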