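import Mathlib
import Groth.Agent.Lib.Helper12.Dev3

/-! # Dévissage for classes with the two-out-of-three property -/

set_option autoImplicit false
universe u v

open CategoryTheory CategoryTheory.Limits AlgebraicGeometry TopologicalSpace Opposite Function
open Groth.Agent.Lib.Helper29.QCoh
open Groth.Agent.Lib.Helper12.H12ModGlue

namespace Groth.Agent.Lib.Helper12.H12Dev

attribute [local instance] CategoryTheory.Abelian.hasFiniteBiproducts

section TwoThree
variable {X : Scheme.{u}} (K' : X.Modules → Prop)

/-- Two-out-of-three for short exact sequences of coherent modules. -/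
def TwoOfThree : Prop :=
  ∀ S : ShortComplex X.Modules, S.ShortExact → Coh.IsCoh S.X₁ → Coh.IsCoh S.X₂ → Coh.IsCoh S.X₃ →
    (K' S.X₁ → K' S.X₂ → K' S.X₃) ∧ (K' S.X₁ → K' S.X₃ → K' S.X₂) ∧ (K' S.X₂ → K' S.X₃ → K' S.X₁)

variable {K'}

theorem TwoOfThree.extClosed (h : TwoOfThree K') : ExtClosed K' :=
  fun S hS h1 h2 h3 => (h S hS h1 h2 h3).2.1

theorem TwoOfThree.iff_of_ker_coker [IsLocallyNoetherian X] (h : TwoOfThree K') {A B : X.Modules}
    (u : A ⟶ B) (hA : Coh.IsCoh A) (hB : Coh.IsCoh B) (hk : K' (kernel u)) (hc : K' (cokernel u)) :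
    K' A ↔ K' B := by
  have hK := isCoh_kernel u hA hB
  have hC := isCoh_cokernel u hA hB
  have hI := isCoh_image u hA hB
  have h1 := h (sesKerIm u) (sesKerIm_shortExact u) hK hA hI
  have h2 := h (sesImCoker u) (sesImCoker_shortExact u) hI hB hC
  constructor
  · intro hKA
    exact h2.2.1 (h1.1 hk hKA) hc
  · intro hKB
    exact h1.2.1 hk (h2.2.2 hKB hc)

end TwoThree

section StalkBiproduct
variable {X : Scheme.{u}} {q : ℕ} (T : Fin q → X.Modules) (y : X)

theorem stalkMap_id_apply (M : X.Modules) (t : M.presheaf.stalk y) : stalkMap (𝟙 M) y t = t := by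
  rw [stalkMap_id]
  rfl

theorem stalkMap_add_apply {M N : X.Modules} (f g : M ⟶ N) (t : M.presheaf.stalk y) :
    stalkMap (f + g) y t = stalkMap f y t + stalkMap g y t := by
  have := (stalkFunctor X y).map_add (f := f) (g := g)
  exact congrArg (fun k => k.hom t) this

theorem stalkMap_sum_apply {M N : X.Modules} {ι : Type*} (s : Finset ι) (φ : ι → (M ⟶ N))
    (t : M.presheaf.stalk y) :
    stalkMap (∑ i ∈ s, φ i) y t = ∑ i ∈ s, stalkMap (φ i) y t := by
  classical
  induction s using Finset.induction_on with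
  | empty => rw [Finset.sum_empty, Finset.sum_empty, stalkMap_zero_apply]
  | insert a s ha ih =>
    rw [Finset.sum_insert ha, Finset.sum_insert ha, stalkMap_add_apply, ih]

/-- The stalk of a finite biproduct is the product of the stalks. -/
noncomputable def stalkBiproductEquiv :
    (⨁ T : X.Modules).presheaf.stalk y ≃ₗ[X.presheaf.stalk y] (∀ i, (T i).presheaf.stalk y) where
  toFun t i := RefHull.stalkMapₗ (biproduct.π T i) y t
  map_add' a b := by
    funext i
    exact map_add _ a b
  map_smul' r a := by
    funext i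
    exact map_smul _ r a
  invFun s := ∑ i, RefHull.stalkMapₗ (biproduct.ι T i) y (s i)
  left_inv t := by
    simp only [stalkMapₗ_apply]
    have h := congrArg (fun φ : (⨁ T : X.Modules) ⟶ ⨁ T => stalkMap φ y t) (biproduct.total (f := T))
    simp only at h
    rw [stalkMap_sum_apply, stalkMap_id_apply] at h
    refine Eq.trans ?_ h
    refine Finset.sum_congr rfl fun i _ => ?_
    rw [stalkMap_comp_apply]
  right_inv s := by
    funext i
    simp only [stalkMapₗ_apply, map_sum]
    rw [Finset.sum_eq_single i]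
    · rw [← stalkMap_comp_apply, biproduct.ι_π_self, stalkMap_id_apply]
    · intro j _ hji
      rw [← stalkMap_comp_apply, biproduct.ι_π_ne T hji, stalkMap_zero_apply]
    · intro h
      exact absurd (Finset.mem_univ i) h

theorem support_biproduct_subset (Z : Set X) (h : ∀ i, CohB1.support (T i) ⊆ Z) :
    CohB1.support (⨁ T : X.Modules) ⊆ Z := by
  intro x hx
  by_contra hxZ
  apply hx
  have : ∀ i, Subsingleton ((T i).presheaf.stalk x) := fun i => by
    rw [← notMem_support_iff]
    exact fun hi => hxZ (h i hi)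
  exact (stalkBiproductEquiv T x).toEquiv.subsingleton

end StalkBiproduct

section SuppLift
variable {X : Scheme.{u}} {H A B : X.Modules} (v : H ⟶ A) (w : H ⟶ B)

theorem support_subset_of_mono_lift [Mono (biprod.lift v w)] :
    CohB1.support H ⊆ CohB1.support A ∪ CohB1.support B := by
  intro x hx
  by_contra hxn
  rw [Set.mem_union, not_or] at hxn
  apply hx
  have hA : Subsingleton (A.presheaf.stalk x) := (notMem_support_iff A x).mp hxn.1
  have hB : Subsingleton (B.presheaf.stalk x) := (notMem_support_iff B x).mp hxn.2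
  have hinj := (mono_iff_stalkMap_injective (biprod.lift v w)).mp inferInstance x
  have key : ∀ s : (A ⊞ B : X.Modules).presheaf.stalk x, s = 0 := by
    intro s
    have h := congrArg (fun φ : (A ⊞ B : X.Modules) ⟶ A ⊞ B => stalkMap φ x s)
      (biprod.total (X := A) (Y := B))
    simp only at h
    rw [stalkMap_id_apply] at h
    rw [← h]
    rw [stalkMap_add_apply, stalkMap_comp_apply, stalkMap_comp_apply,
      Subsingleton.elim (stalkMap (biprod.fst : (A ⊞ B : X.Modules) ⟶ A) x s) 0,
      Subsingleton.elim (stalkMap (biprod.snd : (A ⊞ B : X.Modules) ⟶ B) x s) 0, map_zero, map_zero,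
      add_zero]
  refine ⟨fun a b => hinj ?_⟩
  rw [key (stalkMap (biprod.lift v w) x a), key (stalkMap (biprod.lift v w) x b)]

end SuppLift

section Simple23
variable {X : Scheme.{u}} [IsNoetherian X] {K' : X.Modules → Prop}

open Groth.Agent.Lib.Lead.LinLES in
/-- If `G ∈ K'` (two-out-of-three class) and `G_y ≅ (T_y)^q`, all supported in `Z`, and `K'`
contains the coherent modules supported in `Z` with vanishing stalk at `y`, then `T^q ∈ K'`. -/
theorem mem_biproduct_of_stalk_equiv (h23 : TwoOfThree K') (Z : Set X) (y : X)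
    (hsmall : ∀ F : X.Modules, Coh.IsCoh F → CohB1.support F ⊆ Z → y ∉ CohB1.support F → K' F)
    (G : X.Modules) (hG : Coh.IsCoh G) (hKG : K' G) (hGsupp : CohB1.support G ⊆ Z) (q : ℕ)
    (T : X.Modules) (hT : Coh.IsCoh T) (hTsupp : CohB1.support T ⊆ Z)
    (e : (Fin q → T.presheaf.stalk y) ≃ₗ[X.presheaf.stalk y] G.presheaf.stalk y) :
    K' (⨁ fun _ : Fin q => T) := by
  have hP : Coh.IsCoh (⨁ fun _ : Fin q => T) := isCoh_biproduct _ (fun _ => hT)
  have hPsupp : CohB1.support (⨁ fun _ : Fin q => T) ⊆ Z :=
    support_biproduct_subset _ Z (fun _ => hTsupp)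
  let ψ : RefHull.StalkHom (⨁ fun _ : Fin q => T) G y :=
    e.toLinearMap ∘ₗ (stalkBiproductEquiv (fun _ : Fin q => T) y).toLinearMap
  have hψ : Function.Bijective ψ :=
    e.bijective.comp (stalkBiproductEquiv (fun _ : Fin q => T) y).bijective
  obtain ⟨H, v, w, U, hH, hyU, hv, hw, -, hmono⟩ := exists_correspondence hP hG y ψ
  haveI := hmono
  have hHsupp : CohB1.support H ⊆ Z :=
    (support_subset_of_mono_lift v w).trans (Set.union_subset hPsupp hGsupp)
  have hvbij := hv y hyU
  have hwbij : Function.Bijective (stalkMap w y) := by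
    have : (stalkMap w y : _ → _) = ψ ∘ (stalkMap v y : _ → _) := funext hw
    rw [this]
    exact hψ.comp hvbij
  have hkv : K' (kernel v) := hsmall _ (isCoh_kernel v hH hP)
    ((support_subset_of_mono (kernel.ι v)).trans hHsupp) (notMem_support_kernel v y hvbij.1)
  have hcv : K' (cokernel v) := hsmall _ (isCoh_cokernel v hH hP)
    ((support_subset_of_epi (cokernel.π v)).trans hPsupp) (notMem_support_cokernel v y hvbij.2)
  have hkw : K' (kernel w) := hsmall _ (isCoh_kernel w hH hG)
    ((support_subset_of_mono (kernel.ι w)).trans hHsupp) (notMem_support_kernel w y hwbij.1)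
  have hcw : K' (cokernel w) := hsmall _ (isCoh_cokernel w hH hG)
    ((support_subset_of_epi (cokernel.π w)).trans hGsupp) (notMem_support_cokernel w y hwbij.2)
  exact (h23.iff_of_ker_coker v hH hP hkv hcv).mp ((h23.iff_of_ker_coker w hH hG hkw hcw).mpr hKG)

end Simple23

end Groth.Agent.Lib.Helper12.H12Dev
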