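import Mathlib
import Groth.Agent.Lib.Helper12.Dev4
import Groth.Prelude.Def_ClSub2

/-! # Modules killed by the ideal of an irreducible closed subset; EGA III 3.1.3 -/

set_option autoImplicit false
universe u v

open CategoryTheory CategoryTheory.Limits AlgebraicGeometry TopologicalSpace Opposite Function
open Groth.Agent.Lib.Helper29.QCoh
open Groth.Agent.Lib.Helper12.H12ModGlue

namespace Groth.Agent.Lib.Helper12.H12Dev

open IsLocalRing

section Alg2
variable {R : Type u} [CommRing R] [IsLocalRing R]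

/-- A nonzero finite module over a local ring killed by the maximal ideal is a finite power of
any simple module. -/
theorem exists_pi_linearEquiv_of_killed (M : Type v) [AddCommGroup M] [Module R M]
    [Module.Finite R M] [Nontrivial M] (hM : ∀ a ∈ maximalIdeal R, ∀ m : M, a • m = 0)
    (N : Type v) [AddCommGroup N] [Module R N] [IsSimpleModule R N] :
    ∃ q : ℕ, 0 < q ∧ Nonempty ((Fin q → N) ≃ₗ[R] M) := by
  have htors : Module.IsTorsionBySet R M (maximalIdeal R : Set R) := by
    intro m a
    exact hM a.1 a.2 m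
  letI : Module (R ⧸ maximalIdeal R) M := Module.IsTorsionBySet.module htors
  haveI : IsScalarTower R (R ⧸ maximalIdeal R) M := Module.IsTorsionBySet.isScalarTower htors
  letI : Field (R ⧸ maximalIdeal R) := Ideal.Quotient.field (maximalIdeal R)
  haveI : Module.Finite (R ⧸ maximalIdeal R) M := Module.Finite.of_restrictScalars_finite R _ M
  let b := Module.finBasis (R ⧸ maximalIdeal R) M
  have hq : 0 < Module.finrank (R ⧸ maximalIdeal R) M := Module.finrank_pos
  obtain ⟨I, hI, ⟨e⟩⟩ := isSimpleModule_iff_quot_maximal.mp (inferInstance : IsSimpleModule R N)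
  have h1 : I = maximalIdeal R := IsLocalRing.eq_maximalIdeal hI
  subst h1
  refine ⟨Module.finrank (R ⧸ maximalIdeal R) M, hq, ⟨?_⟩⟩
  exact (LinearEquiv.piCongrRight (fun _ => e)).trans (b.equivFun.restrictScalars R).symm

end Alg2

section Killed
variable {X : Scheme.{u}}

/-- A module killed by the ideal of the closure of `y` has its stalk at `y` killed by the
maximal ideal. -/
theorem smul_stalk_eq_zero_of_killedByIdeal (G : X.Modules) [G.IsQuasicoherent] (Z : Set X)
    (hZ : IsClosed Z) (y : X) (hy : closure {y} = Z)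
    (hK : ClSub.KilledByIdeal (Scheme.IdealSheafData.vanishingIdeal ⟨Z, hZ⟩) G)
    (a : X.presheaf.stalk y) (ha : a ∈ maximalIdeal (X.presheaf.stalk y))
    (t : G.presheaf.stalk y) : a • t = 0 := by
  obtain ⟨V', hyV', f', rfl⟩ := X.presheaf.exists_germ_eq a
  obtain ⟨V, hV, hyV, hVV'⟩ := exists_isAffineOpen_mem_and_subset (x := y) (U := V') hyV'
  have hVV'' : V ≤ V' := hVV'
  set f : Γ(X, V) := X.presheaf.map (homOfLE hVV'').op f' with hf
  have hgerm : X.presheaf.germ V' y hyV' f' = X.presheaf.germ V y hyV f :=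
    (X.presheaf.germ_res_apply (homOfLE hVV'') y hyV f').symm
  rw [hgerm] at ha ⊢
  -- `f` does not vanish nowhere on `Z ∩ V`
  have hyf : y ∉ X.basicOpen f := by
    intro h
    have hu : IsUnit (X.presheaf.germ V y hyV f) := isUnit_germ_of_mem_basicOpen f y hyV h
    exact (IsLocalRing.mem_maximalIdeal _).mp ha hu
  have hfI : f ∈ (Scheme.IdealSheafData.vanishingIdeal ⟨Z, hZ⟩).ideal ⟨V, hV⟩ := by
    rw [Scheme.IdealSheafData.vanishingIdeal_ideal, PrimeSpectrum.mem_vanishingIdeal]
    intro x hx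
    by_contra hfx
    have hx' : x ∈ PrimeSpectrum.basicOpen f := hfx
    have h1 : hV.fromSpec x ∈ X.basicOpen f := by
      have : x ∈ hV.fromSpec ⁻¹ᵁ X.basicOpen f := by
        rw [hV.fromSpec_preimage_basicOpen]; exact hx'
      exact this
    have h2 : hV.fromSpec x ∈ closure {y} := by rw [hy]; exact hx
    have h3 : y ∈ X.basicOpen f := by
      have hsp : y ⤳ hV.fromSpec x := specializes_iff_mem_closure.mpr h2
      exact hsp.mem_open (X.basicOpen f).isOpen h1
    exact hyf h3
  obtain ⟨r, m, hr, hrt⟩ := exists_smul_germ_eq G hV y hyV t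
  have hfm : f • m = 0 := hK ⟨V, hV⟩ f hfI m
  have hu : IsUnit (X.presheaf.germ V y hyV r) := isUnit_germ_of_mem_basicOpen r y hyV hr
  apply eq_zero_of_isUnit_smul hu
  rw [smul_comm, hrt, ← germ_smul, hfm, map_zero]

end Killed

section Main
variable {X : Scheme.{u}} [IsNoetherian X] {K' : X.Modules → Prop}

attribute [local instance] CategoryTheory.Abelian.hasFiniteBiproducts

/-- Two-out-of-three class, closed under isomorphisms: a coherent `T` with simple stalk at `y`
lies in the class as soon as some coherent `G` with simple stalk at `y` does. -/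
theorem mem_of_simple_stalks (hiso : ∀ M N : X.Modules, (M ≅ N) → K' M → K' N)
    (h23 : TwoOfThree K') (Z : Set X) (y : X)
    (hsmall : ∀ F : X.Modules, Coh.IsCoh F → CohB1.support F ⊆ Z → y ∉ CohB1.support F → K' F)
    (G : X.Modules) (hG : Coh.IsCoh G) (hKG : K' G) (hGsupp : CohB1.support G ⊆ Z)
    (hGs : IsSimpleModule (X.presheaf.stalk y) (G.presheaf.stalk y))
    (T : X.Modules) (hT : Coh.IsCoh T) (hTsupp : CohB1.support T ⊆ Z)
    (hTs : IsSimpleModule (X.presheaf.stalk y) (T.presheaf.stalk y)) : K' T := by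
  obtain ⟨e₀⟩ := nonempty_linearEquiv_of_isSimpleModule
    (R := X.presheaf.stalk y) (T.presheaf.stalk y) (G.presheaf.stalk y)
  have hP := mem_biproduct_of_stalk_equiv h23 Z y hsmall G hG hKG hGsupp 1 T hT hTsupp
    ((LinearEquiv.funUnique (Fin 1) (X.presheaf.stalk y) (T.presheaf.stalk y)).trans e₀)
  exact hiso _ _ (biproductUniqueIso (fun _ : Fin 1 => T)) hP

/-- **EGA III 3.1.3-type dévissage**: two-out-of-three plus roots. -/
theorem devissage_roots (h0 : ∀ M : X.Modules, IsZero M → K' M) (h23 : TwoOfThree K')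
    (hroot : ∀ (F : X.Modules) (q : ℕ), 0 < q → Coh.IsCoh F → K' (⨁ fun _ : Fin q => F) → K' F)
    (X' : Set X)
    (hgen : ∀ (Z : Set X) (hZ : IsClosed Z), IsIrreducible Z → Z ⊆ X' → ∀ y : X, closure {y} = Z →
      ∃ G : X.Modules, Coh.IsCoh G ∧ K' G ∧ CohB1.support G ⊆ Z ∧
        ClSub.KilledByIdeal (Scheme.IdealSheafData.vanishingIdeal ⟨Z, hZ⟩) G ∧ y ∈ CohB1.support G)
    (F : X.Modules) (hF : Coh.IsCoh F) (hsupp : CohB1.support F ⊆ X') : K' F := by
  refine devissage_core h0 h23.extClosed X' ?_ F hF hsupp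
  intro Z hZ hirr hZX' y hy hsmall T hT hTsupp hTsimple
  obtain ⟨G, hG, hKG, hGsupp, hkill, hyG⟩ := hgen Z hZ hirr hZX' y hy
  haveI := hG.1
  haveI := hG.2
  haveI : Nontrivial (G.presheaf.stalk y) := (mem_support_iff G y).mp hyG
  haveI : Module.Finite (X.presheaf.stalk y) (G.presheaf.stalk y) :=
    Groth.Agent.Lib.Helper17.ZClosDepth.module_finite_stalk G y
  haveI := hTsimple
  obtain ⟨q, hq, ⟨e⟩⟩ := exists_pi_linearEquiv_of_killed (R := X.presheaf.stalk y)
    (G.presheaf.stalk y) (smul_stalk_eq_zero_of_killedByIdeal G Z hZ y hy hkill)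
    (T.presheaf.stalk y)
  exact hroot T q hq hT
    (mem_biproduct_of_stalk_equiv h23 Z y hsmall G hG hKG hGsupp q T hT hTsupp e)

end Main

end Groth.Agent.Lib.Helper12.H12Dev
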