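import Mathlib
import Groth.Agent.Lib.Helper12.Dev5
import Groth.Agent.Lib.Helper16.ReducedSub

/-! # The reduced induced subscheme on an irreducible closed subset; S0818-type dévissage -/

set_option autoImplicit false
universe u v

open CategoryTheory CategoryTheory.Limits AlgebraicGeometry TopologicalSpace Opposite Function
open Groth.Agent.Lib.Helper29.QCoh
open Groth.Agent.Lib.Helper12.H12ModGlue

namespace Groth.Agent.Lib.Helper12.H12Dev

open IsLocalRing

section RedSub
variable {X : Scheme.{u}}

theorem isIrreducible_of_image_of_isInducing {A B : Type*} [TopologicalSpace A]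
    [TopologicalSpace B] {g : A → B} (hg : Topology.IsInducing g) {s : Set A}
    (h : IsIrreducible (g '' s)) : IsIrreducible s := by
  refine ⟨h.1.of_image, ?_⟩
  rintro U V hU hV ⟨a, has, haU⟩ ⟨b, hbs, hbV⟩
  obtain ⟨U', hU', rfl⟩ := hg.isOpen_iff.mp hU
  obtain ⟨V', hV', rfl⟩ := hg.isOpen_iff.mp hV
  obtain ⟨_, ⟨c, hcs, rfl⟩, hcU, hcV⟩ := h.2 U' V' hU' hV' ⟨g a, ⟨a, has, rfl⟩, haU⟩
    ⟨g b, ⟨b, hbs, rfl⟩, hbV⟩
  exact ⟨c, hcs, hcU, hcV⟩

theorem range_subschemeι_vanishingIdeal (Wc : Closeds X) :
    Set.range (Scheme.IdealSheafData.vanishingIdeal Wc).subschemeι = (Wc : Set X) := by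
  rw [Scheme.IdealSheafData.range_subschemeι, Scheme.IdealSheafData.coe_support_vanishingIdeal]

theorem isIntegral_subscheme_vanishingIdeal (Wc : Closeds X) (hirr : IsIrreducible (Wc : Set X)) :
    IsIntegral (Scheme.IdealSheafData.vanishingIdeal Wc).subscheme := by
  haveI := Groth.Agent.Lib.Helper16.isReduced_subscheme_vanishingIdeal Wc
  haveI : IrreducibleSpace ↥(Scheme.IdealSheafData.vanishingIdeal Wc).subscheme := by
    have hemb : Topology.IsEmbedding (Scheme.IdealSheafData.vanishingIdeal Wc).subschemeι :=
      (Scheme.IdealSheafData.vanishingIdeal Wc).subschemeι.isEmbedding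
    have hr := range_subschemeι_vanishingIdeal Wc
    have h1 : IsIrreducible (Set.univ :
        Set ↥(Scheme.IdealSheafData.vanishingIdeal Wc).subscheme) := by
      apply isIrreducible_of_image_of_isInducing hemb.isInducing
      rw [Set.image_univ, hr]
      exact hirr
    exact (irreducibleSpace_def _).mpr h1
  exact isIntegral_of_irreducibleSpace_of_isReduced _

/-- A closed immersion from an integral scheme maps the generic point to the generic point of
its range. -/
theorem closedImmersion_genericPoint {W : Scheme.{u}} (i : W ⟶ X) [IsClosedImmersion i]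
    [IsIntegral W] (y : X) (hy : closure {y} = Set.range i) : i (genericPoint W) = y := by
  have h1 : IsGenericPoint (genericPoint W) (⊤ : Set W) := genericPoint_spec W
  have h2 := h1.image i.continuous
  have h3 : closure (i '' (⊤ : Set W)) = Set.range i := by
    rw [Set.top_eq_univ, Set.image_univ]
    exact i.isClosedEmbedding.isClosed_range.closure_eq
  rw [h3] at h2
  have h4 : IsGenericPoint y (Set.range i) := hy
  exact h2.eq h4

end RedSub

section Zero
variable {X : Scheme.{u}} [IsLocallyNoetherian X] {K' : X.Modules → Prop}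

theorem isSimpleModule_of_equiv_residueField {R : Type u} [CommRing R] [IsLocalRing R]
    (M : Type v) [AddCommGroup M] [Module R M] (e : M ≃ₗ[R] ResidueField R) :
    IsSimpleModule R M := by
  haveI : IsSimpleModule R (ResidueField R) :=
    isSimpleModule_iff_quot_maximal.mpr ⟨maximalIdeal R, inferInstance, ⟨LinearEquiv.refl _ _⟩⟩
  exact IsSimpleModule.congr e

/-- A two-out-of-three class closed under isomorphisms containing one coherent module contains
the zero modules. -/
theorem mem_zero_of_twoOfThree (hiso : ∀ M N : X.Modules, (M ≅ N) → K' M → K' N)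
    (h23 : TwoOfThree K') (G : X.Modules) (hG : Coh.IsCoh G) (hKG : K' G)
    (M : X.Modules) (hM : IsZero M) : K' M := by
  have hS : (ShortComplex.mk (kernel.ι (𝟙 G)) (𝟙 G) (kernel.condition _)).ShortExact :=
    ShortComplex.ShortExact.mk (ShortComplex.exact_kernel _)
  have hK : Coh.IsCoh (kernel (𝟙 G)) := isCoh_kernel (𝟙 G) hG hG
  have h := (h23 _ hS hK hG hG).2.2 hKG hKG
  have hz : IsZero (kernel (𝟙 G)) := isZero_kernel_of_mono _
  exact hiso _ _ (hz.iso hM) h

end Zero

end Groth.Agent.Lib.Helper12.H12Dev
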