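import Mathlib
import Groth.Agent.Lib.Helper12.Dev6
import Groth.Agent.Helper19.ClImmUnit
import Groth.Agent.Helper19.ClImmSupp

/-! # Direct images along a closed immersion: submodules and sections -/

set_option autoImplicit false
universe u v

open CategoryTheory CategoryTheory.Limits AlgebraicGeometry TopologicalSpace Opposite Function
open Groth.Agent.Lib.Helper29.QCoh
open Groth.Agent.Lib.Helper12.H12ModGlue

namespace Groth.Agent.Lib.Helper12.H12Dev

section ClImm
variable {W X : Scheme.{u}} (i : W ⟶ X) [IsClosedImmersion i]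

theorem pushforward_map_app {M N : W.Modules} (a : M ⟶ N) (V : X.Opens)
    (m : Γ((Scheme.Modules.pushforward i).obj M, V)) :
    ((Scheme.Modules.pushforward i).map a).app V m = a.app (i ⁻¹ᵁ V) m := rfl

/-- Every open of the source of a closed immersion is a preimage. -/
theorem exists_preimage_eq (V : W.Opens) : ∃ V' : X.Opens, i ⁻¹ᵁ V' = V := by
  obtain ⟨s, hs, hsV⟩ := i.isClosedEmbedding.isInducing.isOpen_iff.mp V.2
  exact ⟨⟨s, hs⟩, Opens.ext hsV⟩

/-- The direct image along a closed immersion reflects monomorphisms. -/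
theorem mono_of_mono_pushforward {M N : W.Modules} (a : M ⟶ N)
    [Mono ((Scheme.Modules.pushforward i).map a)] : Mono a := by
  rw [mono_iff_app_injective]
  intro V
  obtain ⟨V', rfl⟩ := exists_preimage_eq i V
  exact (mono_iff_app_injective ((Scheme.Modules.pushforward i).map a)).mp inferInstance V'

/-- Sections of a direct image along `i` are killed by the kernel ideal of `i`. -/
theorem pushforward_killed (M : W.Modules) (U : X.Opens) (a : Γ(X, U))
    (ha : i.app U a = 0) (m : Γ((Scheme.Modules.pushforward i).obj M, U)) : a • m = 0 := by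
  rw [pushforward_smul, ha, zero_smul]
  rfl

/-- A submodule of a direct image along `i` is killed by the kernel ideal of `i`. -/
theorem sub_pushforward_killed (M : W.Modules) {S : X.Modules}
    (s : S ⟶ (Scheme.Modules.pushforward i).obj M) [Mono s] (U : X.Opens) (a : Γ(X, U))
    (ha : i.app U a = 0) (σ : Γ(S, U)) : a • σ = 0 := by
  apply (mono_iff_app_injective s).mp inferInstance U
  rw [Scheme.Modules.Hom.app_smul, pushforward_killed i M U a ha, map_zero]

/-- **Quasi-coherent submodules of `i_* M`** (`i` a closed immersion) are direct images of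
quasi-coherent submodules of `M`... here for the structure sheaf-type target: a quasi-coherent
submodule `S ⊆ i_* N` is `i_*` of a quasi-coherent submodule of `N`. -/
theorem exists_sub_of_sub_pushforward (N : W.Modules) {S : X.Modules} [S.IsQuasicoherent]
    (s : S ⟶ (Scheme.Modules.pushforward i).obj N) [Mono s] :
    ∃ (I : W.Modules) (ι : I ⟶ N), Mono ι ∧ I.IsQuasicoherent ∧
      Nonempty (S ≅ (Scheme.Modules.pushforward i).obj I) := by
  let adj := Scheme.Modules.pullbackPushforwardAdjunction i
  haveI hunit : IsIso (adj.unit.app S) :=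
    Groth.Agent.Helper19.ClImmUnit.isIso_unit_of_killed i S (fun U a ha σ => by
      apply sub_pushforward_killed i N s U.1 a _ σ
      rw [Scheme.Hom.ker_apply] at ha
      exact ha)
  let ι : (Scheme.Modules.pullback i).obj S ⟶ N :=
    (Scheme.Modules.pullback i).map s ≫ adj.counit.app N
  have hι : adj.unit.app S ≫ (Scheme.Modules.pushforward i).map ι = s := by
    have h1 := adj.unit.naturality s
    have h2 := adj.right_triangle_components N
    simp only [Functor.id_obj, Functor.comp_obj, Functor.id_map, Functor.comp_map] at h1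
    rw [Functor.map_comp, ← Category.assoc, ← h1, Category.assoc, h2, Category.comp_id]
  haveI : Mono ((Scheme.Modules.pushforward i).map ι) := by
    have : (Scheme.Modules.pushforward i).map ι = inv (adj.unit.app S) ≫ s := by
      rw [← hι, IsIso.inv_hom_id_assoc]
    rw [this]
    infer_instance
  exact ⟨(Scheme.Modules.pullback i).obj S, ι, mono_of_mono_pushforward i ι,
    isQuasicoherent_pullback i S, ⟨asIso (adj.unit.app S)⟩⟩

end ClImm

section Integral
variable {W X : Scheme.{u}} (i : W ⟶ X) [IsClosedImmersion i] [IsIntegral W]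

theorem res_unitM_injective {T T' : W.Opens} (h : T' ≤ T) (hne : (T' : Set W).Nonempty) :
    Function.Injective (res (unitM W) h) := by
  haveI : Nonempty T' := hne.to_subtype
  exact map_injective_of_isIntegral W (homOfLE h)

/-- The structure sheaf of an integral closed subscheme has no sections supported away from a
neighbourhood of the generic point. -/
theorem mono_ηI_pushforward_unit (U : X.Opens) (hU : i (genericPoint W) ∈ U) :
    Mono ((ηI U.ι).app ((Scheme.Modules.pushforward i).obj (unitM W))) := by
  rw [mono_iff_app_injective]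
  intro V
  by_cases hV : ((i ⁻¹ᵁ V : W.Opens) : Set W).Nonempty
  · have hξV : genericPoint W ∈ i ⁻¹ᵁ V :=
      ((genericPoint_spec W).mem_open_set_iff (i ⁻¹ᵁ V).2).mpr (by simpa using hV)
    have hξ : genericPoint W ∈ i ⁻¹ᵁ (U.ι ''ᵁ (U.ι ⁻¹ᵁ V)) := by
      change i (genericPoint W) ∈ U.ι ''ᵁ (U.ι ⁻¹ᵁ V)
      rw [Scheme.Hom.image_preimage_eq_opensRange_inf, Scheme.Opens.opensRange_ι]
      exact ⟨hU, hξV⟩
    intro a b hab
    rw [ηI_app_app, ηI_app_app] at hab
    exact res_unitM_injective (i.preimage_mono (U.ι.image_preimage_le V)) ⟨_, hξ⟩ hab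
  · intro a b _
    have hsub : Subsingleton Γ(unitM W, i ⁻¹ᵁ V) := by
      apply subsingleton_sections_of_disjoint_support
      intro x hx
      exact absurd ⟨x, hx⟩ hV
    exact hsub.elim a b

end Integral

section UnitCoh
variable (X : Scheme.{u})

theorem isCoh_unitM : Coh.IsCoh (unitM X) := by
  haveI : (unitM X).IsQuasicoherent := isQuasicoherent_unitM X
  haveI : (unitM X).IsFinitePresentation :=
    isFinitePresentation_of_module_finitePresentation (unitM X)
      (fun U : X.affineOpens => (U : X.Opens)) (isOpenCover_affineOpens X) (fun U => U.2) fun U =>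
      inferInstanceAs (Module.FinitePresentation Γ(X, (U : X.Opens)) Γ(X, (U : X.Opens)))
  exact ⟨inferInstance, inferInstance⟩

theorem nontrivial_stalk_unitM (x : X) : Nontrivial ((unitM X).presheaf.stalk x) := by
  refine ⟨⟨(unitM X).presheaf.germ ⊤ x trivial (toUnit (1 : Γ(X, ⊤))), 0, fun h => ?_⟩⟩
  obtain ⟨V, hV, hxV, h0⟩ := exists_res_eq_zero_of_germ_eq_zero (unitM X) (U := ⊤) x trivial _ h
  have h1 : (1 : Γ(X, V)) = 0 := by
    have := res_toUnit_one (X := X) hV
    rw [this] at h0
    exact h0
  haveI : Nonempty V := ⟨⟨x, hxV⟩⟩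
  exact one_ne_zero h1

end UnitCoh

end Groth.Agent.Lib.Helper12.H12Dev
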