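import Mathlib
import Groth.Agent.Lib.Helper12.Dev7

/-! # Dévissage for extension-closed classes containing the `i_* I` (Stacks 01YI-type) -/

set_option autoImplicit false
universe u v

open CategoryTheory CategoryTheory.Limits AlgebraicGeometry TopologicalSpace Opposite Function
open Groth.Agent.Lib.Helper29.QCoh
open Groth.Agent.Lib.Helper12.H12ModGlue

namespace Groth.Agent.Lib.Helper12.H12Dev

open IsLocalRing

section PushClass
variable {X : Scheme.{u}} [IsNoetherian X] {K' : X.Modules → Prop}

/-- Extension-closed class, closed under isomorphisms, containing `i_* I` for the quasi-coherent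
ideals `I` of the reduced closed subscheme `i` on the irreducible closed set `Z`: it contains the
coherent modules supported in `Z` with simple stalk at the generic point, provided it contains
those with vanishing stalk there. -/
theorem mem_of_simple_stalk_of_push (hiso : ∀ M N : X.Modules, (M ≅ N) → K' M → K' N)
    (hext : ExtClosed K') (Z : Set X) (hZ : IsClosed Z) (hirr : IsIrreducible Z) (y : X)
    (hy : closure {y} = Z)
    (hpush : ∀ (I : (Scheme.IdealSheafData.vanishingIdeal ⟨Z, hZ⟩).subscheme.Modules)
      (ι : I ⟶ unitM _), Mono ι → I.IsQuasicoherent →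
      K' ((Scheme.Modules.pushforward
        (Scheme.IdealSheafData.vanishingIdeal ⟨Z, hZ⟩).subschemeι).obj I))
    (hsmall : ∀ F : X.Modules, Coh.IsCoh F → CohB1.support F ⊆ Z → y ∉ CohB1.support F → K' F)
    (T : X.Modules) (hT : Coh.IsCoh T) (hTsupp : CohB1.support T ⊆ Z)
    (hTs : IsSimpleModule (X.presheaf.stalk y) (T.presheaf.stalk y)) : K' T := by
  let Wc : Closeds X := ⟨Z, hZ⟩
  set I₀ := Scheme.IdealSheafData.vanishingIdeal Wc with hI₀
  haveI : IsIntegral I₀.subscheme := isIntegral_subscheme_vanishingIdeal Wc hirr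
  let i := I₀.subschemeι
  have hr : Set.range i = Z := range_subschemeι_vanishingIdeal Wc
  have hpt : i (genericPoint I₀.subscheme) = y := closedImmersion_genericPoint i y (hy.trans hr.symm)
  -- the module `G = i_* O_W`
  haveI : (unitM I₀.subscheme).IsQuasicoherent := isQuasicoherent_unitM _
  haveI : (unitM I₀.subscheme).IsFiniteType := (isCoh_unitM _).2
  set G := (Scheme.Modules.pushforward i).obj (unitM I₀.subscheme) with hGdef
  haveI hGq : G.IsQuasicoherent := isQuasicoherent_pushforward_of_isAffineHom i _
  haveI hGf : G.IsFiniteType := isFiniteType_pushforward_of_isFinite i _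
  have hG : Coh.IsCoh G := ⟨hGq, hGf⟩
  have hGsupp : CohB1.support G ⊆ Z := by
    rw [hGdef, Groth.Agent.Helper19.ClImmSupp.support_pushforward, ← hr]
    exact Set.image_subset_range _ _
  haveI hGnt : Nontrivial (G.presheaf.stalk y) := by
    rw [← not_subsingleton_iff_nontrivial, ← hpt,
      Groth.Agent.Helper19.ClImmSupp.subsingleton_stalk_pushforward_iff, not_subsingleton_iff_nontrivial]
    exact nontrivial_stalk_unitM _ _
  have hkill : ClSub.KilledByIdeal I₀ G := by
    intro U a ha m
    have h1 : I₀.subschemeι.ker = I₀ := I₀.ker_subschemeι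
    rw [← h1, Scheme.Hom.ker_apply] at ha
    exact pushforward_killed i (unitM I₀.subscheme) U.1 a ha m
  haveI : Module.Finite (X.presheaf.stalk y) (G.presheaf.stalk y) :=
    Groth.Agent.Lib.Helper17.ZClosDepth.module_finite_stalk G y
  haveI := hTs
  obtain ⟨q, hq, ⟨e⟩⟩ := exists_pi_linearEquiv_of_killed (R := X.presheaf.stalk y)
    (G.presheaf.stalk y) (smul_stalk_eq_zero_of_killedByIdeal G Z hZ y hy hkill)
    (T.presheaf.stalk y)
  let ψ : RefHull.StalkHom T G y :=
    e.toLinearMap ∘ₗ LinearMap.single (X.presheaf.stalk y) (fun _ : Fin q => T.presheaf.stalk y) ⟨0, hq⟩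
  have hψ : Function.Injective ψ := by
    refine e.injective.comp ?_
    intro a b hab
    have := congrFun hab ⟨0, hq⟩
    simpa using this
  obtain ⟨H, v, w, U, hH, hyU, hv, hw, hvmono, hmono⟩ := exists_correspondence hT hG y ψ
  haveI := hmono
  haveI : Mono v := hvmono (mono_ηI_pushforward_unit i U (hpt ▸ hyU))
  have hHsupp : CohB1.support H ⊆ Z :=
    (support_subset_of_mono_lift v w).trans (Set.union_subset hTsupp hGsupp)
  have hvbij := hv y hyU
  have hwinj : Function.Injective (stalkMap w y) := by
    have : (stalkMap w y : _ → _) = ψ ∘ (stalkMap v y : _ → _) := funext hw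
    rw [this]
    exact hψ.comp hvbij.1
  -- kernel of `w`
  have hN : K' (kernel w) := hsmall _ (isCoh_kernel w hH hG)
    ((support_subset_of_mono (kernel.ι w)).trans hHsupp) (notMem_support_kernel w y hwinj)
  -- image of `w`
  have hS : Coh.IsCoh (Abelian.image w) := isCoh_image w hH hG
  haveI := hS.1
  obtain ⟨I, ι, hιm, hIq, ⟨eS⟩⟩ := exists_sub_of_sub_pushforward i (unitM I₀.subscheme)
    (Abelian.image.ι w)
  have hKS : K' (Abelian.image w) := hiso _ _ eS.symm (hpush I ι hιm hIq)
  have hKH : K' H := hext (sesKerIm w) (sesKerIm_shortExact w) (isCoh_kernel w hH hG) hH hS hN hKS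
  -- cokernel of `v`
  have hC : K' (cokernel v) := hsmall _ (isCoh_cokernel v hH hT)
    ((support_subset_of_epi (cokernel.π v)).trans hTsupp) (notMem_support_cokernel v y hvbij.2)
  have hSES : (ShortComplex.mk v (cokernel.π v) (cokernel.condition v)).ShortExact :=
    ShortComplex.ShortExact.mk (ShortComplex.exact_cokernel v)
  exact hext _ hSES hH hT (isCoh_cokernel v hH hT) hKH hC

end PushClass

end Groth.Agent.Lib.Helper12.H12Dev
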