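import Mathlib
import Groth.Agent.Lib.Lead.Pn.Finite
import Groth.Agent.Lib.Lead.Pn.TwistSeq

/-! # Serre vanishing on `P^n_R` -/

set_option autoImplicit false
universe u

open CategoryTheory CategoryTheory.Limits AlgebraicGeometry Opposite TopologicalSpace

namespace Groth.Agent.Lib.Helper12.H12Fin

open Groth.Agent.Lib.Helper29.QCoh Groth.Agent.Lib.Lead.LinLES Groth.Agent.Lib.Lead.TwistExact
open Groth.Agent.Lib.Lead.Pn

attribute [local instance] CategoryTheory.Abelian.hasFiniteBiproducts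

variable (n : ℕ) (R : Type u) [CommRing R]

/-- Vanishing of the cohomology of a finite biproduct. -/
theorem subsingleton_HH_biproduct {X : Scheme.{u}} [X.Over (Spec (CommRingCat.of R))]
    {ι : Type} [Fintype ι] (L : ι → X.Modules) (q : ℕ)
    (h : ∀ j, Subsingleton (Coh.HH X (L j) q)) :
    Subsingleton (Coh.HH X (⨁ L : X.Modules) q) := by
  refine subsingleton_of_forall_eq 0 fun x => ?_
  rw [HH_total R L q x]
  apply Finset.sum_eq_zero
  intro j _
  have : Canon.HHlin R (biproduct.π L j) q x = 0 := Subsingleton.elim _ _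
  rw [this, map_zero]

instance {X : Scheme.{u}} (M : X.Modules) {r : ℕ} (L : Fin r → X.Modules) :
    PreservesBiproduct L (tensorRight M) :=
  haveI : PreservesColimit (Discrete.functor L) (tensorRight M) := inferInstance
  preservesBiproduct_of_preservesCoproduct (tensorRight M)

/-- Twisting commutes with finite biproducts. -/
noncomputable def twBiproductIso {r : ℕ} (L : Fin r → (CohB1.ProjSpace n R).Modules) (m : ℤ) :
    tw n R (⨁ L) m ≅ ⨁ fun j => tw n R (L j) m :=
  (tensorRight (Twist.twistProjSpace n R m)).mapBiproduct L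

theorem subsingleton_HH_tw_biproduct_twist {r : ℕ} (d : Fin r → ℤ) (m : ℤ) (q : ℕ)
    (hm : ∀ j, -((n : ℤ) + 1) < d j + m) :
    Subsingleton (Coh.HH (CohB1.ProjSpace n R)
      (tw n R (⨁ fun j => Twist.twistProjSpace n R (d j)) m) (q + 1)) := by
  have e1 := twBiproductIso n R (fun j => Twist.twistProjSpace n R (d j)) m
  have e2 : (⨁ fun j => tw n R (Twist.twistProjSpace n R (d j)) m) ≅
      ⨁ fun j => Twist.twistProjSpace n R (d j + m) :=
    biproduct.mapIso fun j => (nonempty_twist_tensor_iso n R (d j) m).some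
  refine subsingleton_HH_of_iso (e1 ≪≫ e2).symm (q + 1) ?_
  refine subsingleton_HH_biproduct R _ (q + 1) fun j => ?_
  exact subsingleton_HH_succ (n := n) (R := R) (d := d j + m) q (Or.inr (hm j))

variable [IsNoetherianRing R]

/-- One step of the descending induction for Serre vanishing. -/
theorem serre_step (q : ℕ)
    (ih : ∀ M : (CohB1.ProjSpace n R).Modules, Coh.IsCoh M →
      ∃ d₀ : ℤ, ∀ d : ℤ, d₀ ≤ d →
        Subsingleton (Coh.HH (CohB1.ProjSpace n R) (tw n R M d) (q + 2)))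
    (M : (CohB1.ProjSpace n R).Modules) (hM : Coh.IsCoh M) :
    ∃ d₀ : ℤ, ∀ d : ℤ, d₀ ≤ d →
      Subsingleton (Coh.HH (CohB1.ProjSpace n R) (tw n R M d) (q + 1)) := by
  obtain ⟨r, d, φ, hφ⟩ := Groth.Agent.S0846.result (CohB1.polyGrading n R) M hM
  let L : Fin r → (CohB1.ProjSpace n R).Modules := fun j => Twist.twistProjSpace n R (d j)
  let φ₀ : (∐ L : (CohB1.ProjSpace n R).Modules) ⟶ M := φ
  haveI : Epi φ₀ := hφ
  let φ' : (⨁ L : (CohB1.ProjSpace n R).Modules) ⟶ M := (biproduct.isoCoproduct L).hom ≫ φ₀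
  haveI : Epi φ' := epi_comp _ _
  have hE : Coh.IsCoh (⨁ L : (CohB1.ProjSpace n R).Modules) :=
    isCoh_biproduct L fun j => isCoh_twist n R (d j)
  have hK : Coh.IsCoh (kernel φ') := (Groth.Agent.S9514.result _ hE hM φ').1
  let S : ShortComplex (CohB1.ProjSpace n R).Modules :=
    ShortComplex.mk (kernel.ι φ') φ' (kernel.condition φ')
  have hS : S.ShortExact :=
    { exact := ShortComplex.exact_kernel φ'
      mono_f := inferInstanceAs (Mono (kernel.ι φ'))
      epi_g := inferInstanceAs (Epi φ') }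
  obtain ⟨d₁, hd₁⟩ := ih _ hK
  obtain ⟨D, hD⟩ := Finset.exists_le (Finset.univ.image fun j : Fin r => -((n : ℤ) + 1) - d j)
  refine ⟨max d₁ (D + 1), fun m hm => ?_⟩
  have hS' := shortExact_map_tw n R S hS m
  have h₂ : Subsingleton (Coh.HH (CohB1.ProjSpace n R)
      (S.map (tensorRight (Twist.twistProjSpace n R m))).X₂ (q + 1)) := by
    refine subsingleton_HH_tw_biproduct_twist n R d m q fun j => ?_
    have := hD _ (Finset.mem_image_of_mem _ (Finset.mem_univ j))
    have h2 : D + 1 ≤ m := le_trans (le_max_right _ _) hm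
    omega
  have h₁ : Subsingleton (Coh.HH (CohB1.ProjSpace n R)
      (S.map (tensorRight (Twist.twistProjSpace n R m))).X₁ (q + 1 + 1)) :=
    hd₁ m (le_trans (le_max_left _ _) hm)
  exact subsingleton_HH_X₃ _ hS' (q + 1) h₂ h₁

/-- **Serre vanishing on `P^n_R`**, `R` Noetherian. -/
theorem serre_vanishing (M : (CohB1.ProjSpace n R).Modules) (hM : Coh.IsCoh M) (q : ℕ) :
    ∃ d₀ : ℤ, ∀ d : ℤ, d₀ ≤ d →
      Subsingleton (Coh.HH (CohB1.ProjSpace n R) (tw n R M d) (q + 1)) := by
  suffices h : ∀ (k q : ℕ), n ≤ q + k → ∀ M : (CohB1.ProjSpace n R).Modules, Coh.IsCoh M →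
      ∃ d₀ : ℤ, ∀ d : ℤ, d₀ ≤ d →
        Subsingleton (Coh.HH (CohB1.ProjSpace n R) (tw n R M d) (q + 1)) from
    h n q (by omega) M hM
  intro k
  induction k with
  | zero =>
    intro q hq M hM
    haveI : M.IsQuasicoherent := hM.1
    refine ⟨0, fun d _ => ?_⟩
    exact Groth.Agent.S0022.result n R (tw n R M d) (q + 1) (by omega)
  | succ k ih =>
    intro q hq M hM
    exact serre_step n R q (fun M' hM' => ih (q + 1) (by omega) M' hM') M hM

/-- Uniform version: all positive degrees at once. -/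
theorem serre_vanishing_all (M : (CohB1.ProjSpace n R).Modules) (hM : Coh.IsCoh M) :
    ∃ d₀ : ℤ, ∀ d : ℤ, d₀ ≤ d → ∀ q : ℕ,
      Subsingleton (Coh.HH (CohB1.ProjSpace n R) (tw n R M d) (q + 1)) := by
  haveI : M.IsQuasicoherent := hM.1
  have h : ∀ q : ℕ, ∃ d₀ : ℤ, ∀ d : ℤ, d₀ ≤ d →
      Subsingleton (Coh.HH (CohB1.ProjSpace n R) (tw n R M d) (q + 1)) :=
    fun q => serre_vanishing n R M hM q
  choose d₀ hd₀ using h
  obtain ⟨D, hD⟩ := Finset.exists_le ((Finset.range (n + 1)).image d₀)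
  refine ⟨D, fun d hd q => ?_⟩
  by_cases hq : q ≤ n
  · exact hd₀ q d (le_trans (hD _ (Finset.mem_image_of_mem _ (Finset.mem_range.mpr (by omega)))) hd)
  · exact Groth.Agent.S0022.result n R (tw n R M d) (q + 1) (by omega)

end Groth.Agent.Lib.Helper12.H12Fin
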