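import Mathlib
import Groth.Agent.Lib.Helper12.Fin4
import Groth.Agent.Lib.Lead.Pn.Finite
import Groth.Agent.S0038
import Groth.Agent.S0019
import Groth.Agent.S0012

/-! # Finiteness of cohomology for closed subschemes of `P^n_B` -/

set_option autoImplicit false
universe u

open CategoryTheory CategoryTheory.Limits Opposite TopologicalSpace Abelian AlgebraicGeometry

namespace Groth.Agent.Lib.Helper12.H12Fin

open Groth.Agent.Lib.Helper22.Cech Groth.Agent.Lib.Helper22
open Groth.Agent.Lib.Lead.Pn Groth.Agent.Lib.Helper29.QCoh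

theorem preimage_biInf {X Y : Scheme.{u}} (f : X ⟶ Y) {ι : Type u} (U : ι → Y.Opens)
    (s : Finset ι) : (⨅ i ∈ s, f ⁻¹ᵁ U i) = f ⁻¹ᵁ (⨅ i ∈ s, U i) := by
  classical
  induction s using Finset.induction_on with
  | empty => simp
  | insert a s ha ih =>
    rw [Finset.iInf_insert, Finset.iInf_insert, ih]
    rfl

section

variable (n : ℕ) (B : Type u) [CommRing B] [IsNoetherianRing B] {W : Scheme.{u}}
  [W.Over (Spec (CommRingCat.of B))] (k : W ⟶ CohB1.ProjSpace n B) [IsClosedImmersion k]
  (hk : k ≫ CohB1.ProjSpace.toSpec n B = W ↘ Spec (CommRingCat.of B))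

include hk in
/-- Cohomology of a closed subscheme of `P^n_B` is the cohomology of the direct image, linearly. -/
theorem nonempty_HH_linearEquiv_push_projSpace (F : W.Modules) [F.IsQuasicoherent] (p : ℕ) :
    Nonempty (Coh.HH W F p ≃ₗ[B] Coh.HH (CohB1.ProjSpace n B) ((Coh.push k).obj F) p) := by
  haveI : IsFinite k := inferInstance
  haveI : IsAffineHom k := inferInstance
  haveI : ((Coh.push k).obj F).IsQuasicoherent := isQuasicoherent_pushforward_of_isAffineHom k F
  refine nonempty_HH_linearEquiv_push B k hk F (stdCov n B) (iSup_stdCov n B) ?_ ?_ p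
  · refine lerayGood_of_isAffineOpen F _ fun s hs => ?_
    rw [preimage_biInf]
    let k' : W ⟶ Proj (CohB1.polyGrading n B) := k
    haveI : IsAffineHom k' := ‹IsAffineHom k›
    exact (isAffineOpen_iInf_stdCov s hs).preimage k'
  · exact @lerayGood_of_isAffineOpen (Proj (CohB1.polyGrading n B)) ((Coh.push k).obj F) _
      (stdCov n B) ‹_› fun s hs => isAffineOpen_iInf_stdCov s hs

include hk in
/-- **Finiteness of the cohomology of coherent modules on closed subschemes of `P^n_B`.** -/
theorem module_finite_HH_of_closedImmersion (F : W.Modules) (hF : Coh.IsCoh F) (p : ℕ) :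
    Module.Finite B (Coh.HH W F p) := by
  haveI : F.IsQuasicoherent := hF.1
  obtain ⟨e⟩ := nonempty_HH_linearEquiv_push_projSpace n B k hk F p
  have hc : Coh.IsCoh ((Coh.push k).obj F) := Groth.Agent.S0019.result k F hF
  haveI := Groth.Agent.S0038.result n B _ hc p
  exact Module.Finite.equiv e.symm

end

end Groth.Agent.Lib.Helper12.H12Fin
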