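import Mathlib
import Groth.Agent.Lib.Helper12.Fin5
import Groth.Agent.Lib.Helper12.Fin1
import Groth.Agent.Lib.Helper29.PA2
import Groth.Agent.Lib.Helper29.ProjF5
import Groth.Agent.Lib.Helper29.PullTensor
import Groth.Agent.Lib.Helper29.Pic4
import Groth.Agent.Lib.Helper12.Dev7

/-! # Projective morphisms over an affine base: local structure, vanishing, finiteness -/

set_option autoImplicit false
universe u

open CategoryTheory CategoryTheory.Limits Opposite TopologicalSpace Abelian AlgebraicGeometry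

namespace Groth.Agent.Lib.Helper12.H12Fin

open Groth.Agent.Lib.Helper29.QCoh Groth.Agent.Lib.Lead.Pn Groth.Agent.Lib.Helper29.QCoh.ProjF

section Alpha
variable (n : ℕ) (A : Type u) [CommRing A]

/-- `P^n_ℤ ×_ℤ Spec A` is a retract of `Proj A[T_0..T_n]` over `Spec A`, compatibly with `O(1)`. -/
theorem exists_splitMono_projSpaceOver_spec_twist :
    ∃ (α : CohB1.ProjSpaceOver n (Spec (CommRingCat.of A)) ⟶ Proj (CohB1.polyGrading n A))
      (β : Proj (CohB1.polyGrading n A) ⟶ CohB1.ProjSpaceOver n (Spec (CommRingCat.of A))),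
      α ≫ CohB1.ProjSpace.toSpec n A = CohB1.ProjSpaceOver.toBase n _ ∧ α ≫ β = 𝟙 _ ∧
      Nonempty ((Scheme.Modules.pullback α).obj (Twist.twist (CohB1.polyGrading n A) 1) ≅
        Twist.twistOver n (Spec (CommRingCat.of A)) 1) := by
  obtain ⟨β₁, -, τβ, hτβ⟩ := exists_to_projSpace (R := ULift.{u} ℤ) n
    (specULiftZIsTerminal.from (Proj (CohB1.polyGrading n A)))
    (Twist.twist (CohB1.polyGrading n A) 1) (isInvertible_twist_projSpace n A 1)
    (fun j => oneSecOn (CohB1.polyGrading n A) (Xi n A j) ⊤) (span_germ_coord_eq_top n A)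
  let fst' : pullback (CohB1.ProjSpace.toSpec n (ULift.{u} ℤ))
      (specULiftZIsTerminal.from (Spec (CommRingCat.of A))) ⟶
      Proj (CohB1.polyGrading n (ULift.{u} ℤ)) := pullback.fst _ _
  obtain ⟨α, hα, τα, hτα⟩ := exists_to_projSpace (R := A) n
    (pullback.snd (CohB1.ProjSpace.toSpec n (ULift.{u} ℤ))
      (specULiftZIsTerminal.from (Spec (CommRingCat.of A))))
    ((Scheme.Modules.pullback fst').obj (Twist.twist (CohB1.polyGrading n (ULift.{u} ℤ)) 1))
    (isInvertible_pullback fst' (isInvertible_twist_projSpace n (ULift.{u} ℤ) 1))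
    (fun j => pullSect fst' _ ⊤ (oneSecOn (CohB1.polyGrading n (ULift.{u} ℤ))
      (Xi n (ULift.{u} ℤ) j) ⊤))
    (span_germ_pullSect_coord_eq_top n (ULift.{u} ℤ) fst')
  let β : Proj (CohB1.polyGrading n A) ⟶ pullback (CohB1.ProjSpace.toSpec n (ULift.{u} ℤ))
      (specULiftZIsTerminal.from (Spec (CommRingCat.of A))) :=
    pullback.lift β₁ (CohB1.ProjSpace.toSpec n A) (specULiftZIsTerminal.hom_ext _ _)
  have hβ1 : β ≫ fst' = β₁ := pullback.lift_fst _ _ _
  have hβ2 : β ≫ pullback.snd _ _ = CohB1.ProjSpace.toSpec n A := pullback.lift_snd _ _ _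
  have key : α ≫ β₁ = fst' := by
    refine projSpace_hom_ext n (ULift.{u} ℤ) (α ≫ β₁) fst' (specULiftZIsTerminal.hom_ext _ _)
      ((pullbackCompIso α β₁ _).symm ≪≫ (Scheme.Modules.pullback α).mapIso τβ ≪≫ τα) ?_
    intro j
    have h1 := pullbackComp_inv_pullSect α β₁ (Twist.twist (CohB1.polyGrading n (ULift.{u} ℤ)) 1) ⊤
      (oneSecOn (CohB1.polyGrading n (ULift.{u} ℤ)) (Xi n (ULift.{u} ℤ) j) ⊤)
    have h2 := pullSect_naturality α τβ.hom ⊤
      (pullSect β₁ (Twist.twist (CohB1.polyGrading n (ULift.{u} ℤ)) 1) ⊤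
        (oneSecOn (CohB1.polyGrading n (ULift.{u} ℤ)) (Xi n (ULift.{u} ℤ) j) ⊤))
    rw [hτβ j] at h2
    change τα.hom.app ⊤ (((Scheme.Modules.pullback α).map τβ.hom).app ⊤
      (((Scheme.Modules.pullbackComp α β₁).inv.app _).app ⊤ _)) = _
    exact (congrArg (fun x => τα.hom.app ⊤ (((Scheme.Modules.pullback α).map τβ.hom).app ⊤ x)) h1).trans
      ((congrArg (fun x => τα.hom.app ⊤ x) h2).trans (hτα j))
  have hfin : α ≫ β = 𝟙 (pullback (CohB1.ProjSpace.toSpec n (ULift.{u} ℤ))
      (specULiftZIsTerminal.from (Spec (CommRingCat.of A)))) := by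
    apply pullback.hom_ext
    · rw [Category.assoc, Category.id_comp]
      exact (congrArg (fun k => α ≫ k) hβ1).trans key
    · rw [Category.assoc, Category.id_comp, hβ2]
      exact hα
  exact ⟨α, β, hα, hfin, ⟨τα⟩⟩

end Alpha

section Local
variable (n : ℕ) (B : Type u) [CommRing B] {W : Scheme.{u}}
  (g : W ⟶ Spec (CommRingCat.of B)) [IsProper g]
  (k : W ⟶ CohB1.ProjSpaceOver n (Spec (CommRingCat.of B))) [IsImmersion k]
  (hk : k ≫ CohB1.ProjSpaceOver.toBase n _ = g)

include hk in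
/-- A proper scheme over `Spec B` immersed into `P^n_ℤ × Spec B` is a closed subscheme of
`Proj B[T_0..T_n]`, compatibly with `O(1)`. -/
theorem exists_closedImmersion_projSpace :
    ∃ (k' : W ⟶ Proj (CohB1.polyGrading n B)), IsClosedImmersion k' ∧
      k' ≫ CohB1.ProjSpace.toSpec n B = g ∧
      Nonempty ((Scheme.Modules.pullback k').obj (Twist.twist (CohB1.polyGrading n B) 1) ≅
        (Scheme.Modules.pullback k).obj (Twist.twistOver n _ 1)) := by
  obtain ⟨α, β, hα, hαβ, ⟨τ⟩⟩ := exists_splitMono_projSpaceOver_spec_twist n B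
  have hj : (k ≫ α) ≫ CohB1.ProjSpace.toSpec n B = g := by rw [Category.assoc, hα, hk]
  have hjβ : (k ≫ α) ≫ β = k := by rw [Category.assoc, hαβ, Category.comp_id]
  have : IsImmersion ((k ≫ α) ≫ β) := by rw [hjβ]; infer_instance
  have himm : IsImmersion (k ≫ α) := IsImmersion.of_comp (k ≫ α) β
  have hsep : IsSeparated (CohB1.ProjSpace.toSpec n B) := inferInstance
  have : IsProper ((k ≫ α) ≫ CohB1.ProjSpace.toSpec n B) := by rw [hj]; infer_instance
  have hprop : IsProper (k ≫ α) := IsProper.of_comp (k ≫ α) (CohB1.ProjSpace.toSpec n B)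
  have hcl : IsClosed (Set.range (k ≫ α).base) := (k ≫ α).isClosedMap.isClosed_range
  refine ⟨k ≫ α, IsClosedImmersion.of_isPreimmersion (k ≫ α) hcl, hj, ⟨?_⟩⟩
  exact ((Scheme.Modules.pullbackComp k α).app _).symm ≪≫ (Scheme.Modules.pullback k).mapIso τ

end Local

section LL
variable (n : ℕ) (B : Type u) [CommRing B] [IsNoetherianRing B] {W : Scheme.{u}}
  (g : W ⟶ Spec (CommRingCat.of B)) [IsProper g]
  (k : W ⟶ CohB1.ProjSpaceOver n (Spec (CommRingCat.of B))) [IsImmersion k]
  (hk : k ≫ CohB1.ProjSpaceOver.toBase n _ = g)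

include hk in
/-- **Serre vanishing for a projective morphism to an affine Noetherian scheme**, for the powers
of the pullback of `O(1)`. -/
theorem exists_forall_subsingleton_HH_tensorPow (L : W.Modules)
    (eL : L ≅ (Scheme.Modules.pullback k).obj (Twist.twistOver n _ 1)) :
    ∃ m₀ : ℕ, ∀ m : ℕ, m₀ ≤ m → ∀ q : ℕ,
      Subsingleton (Coh.HH W (CohB1.tensorPow L m) (q + 1)) := by
  obtain ⟨k', hcl, hk', ⟨τ⟩⟩ := exists_closedImmersion_projSpace n B g k hk
  haveI := hcl
  haveI : IsFinite k' := inferInstance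
  haveI : IsAffineHom k' := inferInstance
  have hinv : PicF.IsInvertible (Twist.twist (CohB1.polyGrading n B) 1) :=
    isInvertible_twist_projSpace n B 1
  haveI : IsLocallyNoetherian (Proj (CohB1.polyGrading n B)) :=
    isLocallyNoetherian_projSpace n B
  have hE : Coh.IsCoh (pushUnit k') := Groth.Agent.S0019.result k' (unitM W) (H12Dev.isCoh_unitM W)
  obtain ⟨d₀, hd₀⟩ := serre_vanishing_all n B (pushUnit k') hE
  have hLinv : PicF.IsInvertible L :=
    isInvertible_of_iso (eL ≪≫ τ.symm).symm (isInvertible_pullback k' hinv)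
  refine ⟨d₀.toNat, fun m hm q => ?_⟩
  have hmd : d₀ ≤ (1 : ℤ) * (m : ℤ) := by
    have := Int.toNat_le.mp hm
    omega
  have h1 := hd₀ ((1 : ℤ) * (m : ℤ)) hmd q
  obtain ⟨e3⟩ := Groth.Agent.Lib.Helper29.Pic.nonempty_tensorPow_twist_iso n B 1 m
  obtain ⟨e2⟩ := nonempty_pullbackTensorPowIso k' hinv m
  have e1 : CohB1.tensorPow L m ≅
      CohB1.tensorPow ((Scheme.Modules.pullback k').obj (Twist.twist (CohB1.polyGrading n B) 1)) m :=
    tensorPowCongr (eL ≪≫ τ.symm) m
  have eP : CohB1.tensorPow L m ≅ (Scheme.Modules.pullback k').obj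
      (Twist.twist (CohB1.polyGrading n B) ((1 : ℤ) * (m : ℤ))) :=
    e1 ≪≫ e2.symm ≪≫ (Scheme.Modules.pullback k').mapIso e3
  haveI : (Twist.twist (CohB1.polyGrading n B) ((1 : ℤ) * (m : ℤ))).IsQuasicoherent :=
    twist_isQuasicoherent n B _
  have hiso : IsIso (projHom k' (Twist.twist (CohB1.polyGrading n B) ((1 : ℤ) * (m : ℤ)))) :=
    isIso_projHom' k' (Twist.twist (CohB1.polyGrading n B) ((1 : ℤ) * (m : ℤ)))
  have eQ : tw n B (pushUnit k') ((1 : ℤ) * (m : ℤ)) ≅
      (Scheme.Modules.pushforward k').obj (CohB1.tensorPow L m) :=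
    tensorBraid _ _ ≪≫
      @asIso _ _ _ _ (projHom k' (Twist.twist (CohB1.polyGrading n B) ((1 : ℤ) * (m : ℤ)))) hiso ≪≫
      (Scheme.Modules.pushforward k').mapIso eP.symm
  have h2 : Subsingleton (Coh.HH (Proj (CohB1.polyGrading n B))
      ((Scheme.Modules.pushforward k').obj (CohB1.tensorPow L m)) (q + 1)) :=
    subsingleton_HH_of_iso eQ (q + 1) h1
  haveI : (CohB1.tensorPow L m).IsQuasicoherent :=
    isQuasicoherent_of_isInvertible (isInvertible_tensorPow hLinv m)
  obtain ⟨e⟩ := Groth.Agent.S0012.result k' (CohB1.tensorPow L m) (q + 1)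
  exact e.toEquiv.subsingleton

end LL

section LLb
variable (n : ℕ) (B : Type u) [CommRing B] [IsNoetherianRing B] {W : Scheme.{u}}
  [W.Over (Spec (CommRingCat.of B))] [IsProper (W ↘ Spec (CommRingCat.of B))]
  (k : W ⟶ CohB1.ProjSpaceOver n (Spec (CommRingCat.of B))) [IsImmersion k]
  (hk : k ≫ CohB1.ProjSpaceOver.toBase n _ = W ↘ Spec (CommRingCat.of B))

include hk in
/-- **Finiteness of coherent cohomology for projective schemes over a Noetherian ring.** -/
theorem module_finite_HH_of_immersion_projSpaceOver (F : W.Modules) (hF : Coh.IsCoh F) (p : ℕ) :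
    Module.Finite B (Coh.HH W F p) := by
  obtain ⟨k', hcl, hk', -⟩ :=
    exists_closedImmersion_projSpace n B (W ↘ Spec (CommRingCat.of B)) k hk
  let k'' : W ⟶ CohB1.ProjSpace n B := k'
  haveI : IsClosedImmersion k'' := hcl
  exact module_finite_HH_of_closedImmersion n B k'' hk' F hF p

end LLb

end Groth.Agent.Lib.Helper12.H12Fin
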