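import Mathlib
import Groth.Agent.Lib.Helper12.Fin6

/-! # Local structure of a projective morphism over an affine open of the base -/

set_option autoImplicit false
universe u

open CategoryTheory CategoryTheory.Limits Opposite TopologicalSpace Abelian AlgebraicGeometry

namespace Groth.Agent.Lib.Helper12.H12Fin

open Groth.Agent.Lib.Helper29.QCoh Groth.Agent.Lib.Lead.Pn

/-- `P^n_ℤ × S`, in unfolded form. -/
noncomputable abbrev PO (n : ℕ) (S : Scheme.{u}) : Scheme.{u} :=
  pullback (CohB1.ProjSpace.toSpec n (ULift.{u} ℤ)) (specULiftZIsTerminal.from S)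

section Setup

variable {n : ℕ} {A : Type u} [CommRing A] {Z Z' : Scheme.{u}}
  (f : Z ⟶ Spec (CommRingCat.of A)) (π : Z' ⟶ Z)
  (j : Z' ⟶ PO n (Spec (CommRingCat.of A)))
  (hj : j ≫ pullback.snd _ _ = π ≫ f)
  {V : Z.Opens} (hV : IsAffineOpen V)

/-- The structure map of `π⁻¹ V` over `Spec Γ(Z, V)`. -/
noncomputable def locG : (π ⁻¹ᵁ V).toScheme ⟶ Spec (CommRingCat.of ↑Γ(Z, V)) :=
  (π ∣_ V) ≫ hV.isoSpec.hom

/-- The map `π⁻¹ V ⟶ P^n_ℤ × Spec Γ(Z, V)`. -/
noncomputable def locK : (π ⁻¹ᵁ V).toScheme ⟶ PO n (Spec (CommRingCat.of ↑Γ(Z, V))) :=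
  pullback.lift ((π ⁻¹ᵁ V).ι ≫ j ≫ pullback.fst _ _) (locG π hV) (specULiftZIsTerminal.hom_ext _ _)

lemma locK_toBase : locK π j hV ≫ pullback.snd _ _ = locG π hV :=
  pullback.lift_snd _ _ _

lemma locK_fst : locK π j hV ≫ pullback.fst _ _ = (π ⁻¹ᵁ V).ι ≫ j ≫ pullback.fst _ _ :=
  pullback.lift_fst _ _ _

/-- The base change map `P^n_ℤ × Spec Γ(Z, V) ⟶ P^n_ℤ × Spec A`. -/
noncomputable def locC : PO n (Spec (CommRingCat.of ↑Γ(Z, V))) ⟶
    PO n (Spec (CommRingCat.of A)) :=
  pullback.lift (pullback.fst _ _) (pullback.snd _ _ ≫ hV.isoSpec.inv ≫ V.ι ≫ f)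
    (specULiftZIsTerminal.hom_ext _ _)

include hj in
lemma locK_locC : locK π j hV ≫ locC f hV = (π ⁻¹ᵁ V).ι ≫ j := by
  apply pullback.hom_ext
  · rw [Category.assoc, locC, pullback.lift_fst, locK_fst, Category.assoc]
  · rw [Category.assoc, locC, pullback.lift_snd, ← Category.assoc, ← Category.assoc]
    have h1 : locK π j hV ≫ pullback.snd _ _ = locG π hV := locK_toBase π j hV
    rw [h1, locG, Category.assoc, Category.assoc, Iso.hom_inv_id_assoc, ← Category.assoc,
      morphismRestrict_ι, Category.assoc, Category.assoc]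
    congr 1
    exact hj.symm

lemma isProper_locG [IsProper π] : IsProper (locG π hV) := by
  unfold locG
  infer_instance

include hj in
lemma isImmersion_locK [IsImmersion j] : IsImmersion (locK π j hV) := by
  have h : IsImmersion (locK π j hV ≫ locC f hV) := by
    rw [locK_locC f π j hj hV]
    infer_instance
  exact IsImmersion.of_comp (locK π j hV) (locC f hV)

/-- The pullback of `O(1)` to `Z'`. -/
noncomputable def twL : Z'.Modules :=
  (Scheme.Modules.pullback j).obj (Twist.twistOver n (Spec (CommRingCat.of A)) 1)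

/-- The restriction of `L` to `π⁻¹ V` is the pullback of `O(1)` along `locK`. -/
noncomputable def twLRestrictIso :
    (twL j).restrict (π ⁻¹ᵁ V).ι ≅
      (Scheme.Modules.pullback (locK π j hV)).obj
        (Twist.twistOver n (Spec (CommRingCat.of ↑Γ(Z, V))) 1) :=
  (Scheme.Modules.restrictFunctorIsoPullback (π ⁻¹ᵁ V).ι).app _ ≪≫
    (Scheme.Modules.pullbackComp (π ⁻¹ᵁ V).ι j).app _ ≪≫
    (Scheme.Modules.pullbackComp ((π ⁻¹ᵁ V).ι ≫ j) (pullback.fst _ _)).app _ ≪≫
    (Scheme.Modules.pullbackCongr (by rw [locK_fst, Category.assoc])).app _ ≪≫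
    ((Scheme.Modules.pullbackComp (locK π j hV) (pullback.fst _ _)).app _).symm

lemma isInvertible_twL : PicF.IsInvertible (twL j) :=
  isInvertible_pullback j (isInvertible_pullback _ (isInvertible_twist_projSpace n (ULift.{u} ℤ) 1))

/-- Restriction to an open commutes with tensor powers of an invertible module. -/
theorem nonempty_restrict_tensorPow_iso {X : Scheme.{u}} {L : X.Modules} (hL : PicF.IsInvertible L)
    (U : X.Opens) (m : ℕ) :
    Nonempty ((CohB1.tensorPow L m).restrict U.ι ≅ CohB1.tensorPow (L.restrict U.ι) m) := by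
  obtain ⟨e⟩ := nonempty_pullbackTensorPowIso U.ι hL m
  exact ⟨(Scheme.Modules.restrictFunctorIsoPullback U.ι).app _ ≪≫ e ≪≫
    tensorPowCongr ((Scheme.Modules.restrictFunctorIsoPullback U.ι).app L).symm m⟩

include hj hV in
/-- **Relative Serre vanishing, local form**: over an affine open `V` of the base with Noetherian
coordinate ring, the higher cohomology of `L^m` on `π⁻¹ V` vanishes for large `m`. -/
theorem exists_forall_subsingleton_HHon [IsNoetherianRing ↑Γ(Z, V)] [IsProper π] [IsImmersion j] :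
    ∃ m₀ : ℕ, ∀ m : ℕ, m₀ ≤ m → ∀ q : ℕ,
      Subsingleton (Coh.HHon Z' (CohB1.tensorPow (twL j) m) (π ⁻¹ᵁ V) (q + 1)) := by
  haveI := isProper_locG π hV
  let k₀ : (π ⁻¹ᵁ V).toScheme ⟶ CohB1.ProjSpaceOver n (Spec (CommRingCat.of ↑Γ(Z, V))) :=
    locK π j hV
  haveI : IsImmersion k₀ := isImmersion_locK f π j hj hV
  obtain ⟨m₀, h⟩ := exists_forall_subsingleton_HH_tensorPow n ↑Γ(Z, V) (locG π hV) k₀
    (locK_toBase π j hV) ((twL j).restrict (π ⁻¹ᵁ V).ι) (twLRestrictIso π j hV)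
  refine ⟨m₀, fun m hm q => ?_⟩
  obtain ⟨e⟩ := nonempty_restrict_tensorPow_iso (isInvertible_twL j) (π ⁻¹ᵁ V) m
  exact subsingleton_HH_of_iso e.symm (q + 1) (h m hm q)

end Setup

end Groth.Agent.Lib.Helper12.H12Fin
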