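import Mathlib
import Groth.Prelude.Def_EGA4Misc
import Groth.Agent.Lib.Helper12.ConsP2
import Groth.Agent.Lib.Helper12.HomGlue3
import Groth.Agent.Lib.Helper29.QCohPullback

/-!
# Base change of the locus of a field-stable relation on schemes with a module
-/

set_option autoImplicit false
universe u

namespace Groth.Agent.Lib.Helper12.H12ConsP

open AlgebraicGeometry CategoryTheory Limits TopologicalSpace Topology
open Groth.Agent.Lib.Helper29.QCoh

theorem isCoh_pullback {X Y : Scheme.{u}} (f : X ⟶ Y) (F : Y.Modules) (hF : Coh.IsCoh F) :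
    Coh.IsCoh ((Scheme.Modules.pullback f).obj F) := by
  obtain ⟨h1, h2⟩ := hF
  haveI : F.IsQuasicoherent := h1
  haveI : F.IsFiniteType := h2
  exact ⟨inferInstance, inferInstance⟩

/-- Base change of the locus of a field-stable relation on schemes with a module. -/
theorem locusMod_baseChange {P : ∀ ⦃Y T : Scheme.{u}⦄, (Y ⟶ T) → Y.Modules → Prop}
    (hP : ConsProp.IsFieldStableMod P) {X' X S' S : Scheme.{u}} {e : X' ⟶ X} {u' : X' ⟶ S'}
    {u : X ⟶ S} {h : S' ⟶ S} (hpb : IsPullback e u' u h) [LocallyOfFiniteType u]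
    [QuasiCompact u] (F : X.Modules) (hF : Coh.IsCoh F) (F' : X'.Modules)
    (iso : F' ≅ (Scheme.Modules.pullback e).obj F) :
    ConsProp.locusMod P u' F' = h ⁻¹' ConsProp.locusMod P u F := by
  ext s'
  let mX : u'.fiber s' ⟶ u.fiber (h s') :=
    pullback.map u' (S'.fromSpecResidueField s') u (S.fromSpecResidueField (h s')) e
      (Spec.map (h.residueFieldMap s')) h hpb.w.symm (by simp)
  have h1 : IsPullback mX (u'.fiberToSpecResidueField s') (u.fiberToSpecResidueField (h s'))
      (Spec.map (h.residueFieldMap s')) :=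
    isPullback_fiberToSpecResidueField_of_isPullback hpb s'
  have mXι : mX ≫ u.fiberι (h s') = u'.fiberι s' ≫ e := pullback.lift_fst _ _ _
  have i1 : LocallyOfFiniteType (u.fiberToSpecResidueField (h s')) :=
    MorphismProperty.pullback_snd _ _ inferInstance
  have i2 : QuasiCompact (u.fiberToSpecResidueField (h s')) :=
    MorphismProperty.pullback_snd _ _ inferInstance
  have key := @hP _ _ _ _ (u.fiberToSpecResidueField (h s')) (u'.fiberToSpecResidueField s') mX
    (Spec.map (h.residueFieldMap s')) inferInstance inferInstance inferInstance inferInstance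
    i1 i2 h1 ((Scheme.Modules.pullback (u.fiberι (h s'))).obj F)
    ((Scheme.Modules.pullback (u'.fiberι s')).obj F') (isCoh_pullback _ F hF)
    ((Scheme.Modules.pullback (u'.fiberι s')).mapIso iso ≪≫
      Groth.Agent.Lib.Helper12.H12HomGlue.compIso (u'.fiberι s') e _ rfl F ≪≫
      (Groth.Agent.Lib.Helper12.H12HomGlue.compIso mX (u.fiberι (h s')) _ mXι F).symm)
  exact key.symm

end Groth.Agent.Lib.Helper12.H12ConsP
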