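import Mathlib
import Groth.Agent.Lib.Helper12.Fin7
import Groth.Agent.Lib.Helper12.ModCons1
import Groth.Agent.Lib.Helper29.Twist6
import Groth.Agent.Lib.Helper29.QCohQcqs
import Groth.Agent.Lib.Helper29.QCohGen

/-! # Sections of a direct image along a projective morphism over an affine open; coherence -/

set_option autoImplicit false
universe u

open CategoryTheory CategoryTheory.Limits Opposite TopologicalSpace Abelian AlgebraicGeometry

namespace Groth.Agent.Lib.Helper12.H12Fin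

open Groth.Agent.Lib.Helper29.QCoh Groth.Agent.Lib.Lead.Pn

section Setup

theorem isCoh_of_iso' {X : Scheme.{u}} {A B : X.Modules} (e : A ≅ B) (hA : Coh.IsCoh A) :
    Coh.IsCoh B := by
  haveI := hA.1
  haveI := hA.2
  haveI : B.IsQuasicoherent := isQuasicoherent_of_iso e
  exact ⟨inferInstance, isFiniteType_of_epi e.hom⟩

theorem isCoh_restrict {X : Scheme.{u}} (U : X.Opens) (F : X.Modules) (hF : Coh.IsCoh F) :
    Coh.IsCoh (F.restrict U.ι) :=
  isCoh_of_iso' ((Scheme.Modules.restrictFunctorIsoPullback U.ι).app F).symm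
    (Groth.Agent.Lib.Helper12.H12ConsP.isCoh_pullback U.ι F hF)

/-- sections over `⊤` of the restriction to `U` are the sections over `U`. -/
noncomputable def restrictTopEquiv {X : Scheme.{u}} (U : X.Opens) (F : X.Modules) :
    (Γ(F.restrict U.ι, ⊤) : Type u) ≃+ (Γ(F, U) : Type u) :=
  (F.presheaf.mapIso (eqToIso U.ι_image_top).op).symm.addCommGroupIsoToAddEquiv

theorem restrictTopEquiv_apply {X : Scheme.{u}} (U : X.Opens) (F : X.Modules)
    (x : (Γ(F.restrict U.ι, ⊤) : Type u)) :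
    restrictTopEquiv U F x =
      (F.presheaf.map (eqToHom U.ι_image_top.symm).op).hom (show ↑Γ(F, U.ι ''ᵁ ⊤) from x) := rfl

theorem restrict_smul_eq {X : Scheme.{u}} (U : X.Opens) (F : X.Modules) (W : (↑U : Scheme.{u}).Opens)
    (r : ↑Γ(↑U, W)) (x : (Γ(F.restrict U.ι, W) : Type u)) :
    (show ↑Γ(F, U.ι ''ᵁ W) from (r • x)) =
      (show ↑Γ(X, U.ι ''ᵁ W) from r) • (show ↑Γ(F, U.ι ''ᵁ W) from x) := by
  have h := Scheme.Modules.smul_restrictAppIso_hom_apply U.ι F W r x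
  rw [Scheme.Opens.ι_appIso] at h
  exact h

theorem restrictTopEquiv_smul {X : Scheme.{u}} (U : X.Opens) (F : X.Modules)
    (r : ↑Γ(X, U)) (x : (Γ(F.restrict U.ι, ⊤) : Type u)) :
    restrictTopEquiv U F ((show ↑Γ(↑U, ⊤) from U.topIso.inv.hom r) • x) =
      r • restrictTopEquiv U F x := by
  rw [restrictTopEquiv_apply, restrictTopEquiv_apply, restrict_smul_eq]
  erw [Scheme.Modules.map_smul]
  congr 1
  change (U.topIso.inv ≫ X.presheaf.map (eqToHom U.ι_image_top.symm).op).hom r = r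
  have : U.topIso.inv ≫ X.presheaf.map (eqToHom U.ι_image_top.symm).op = 𝟙 _ :=
    U.topIso.inv_hom_id
  rw [this]
  rfl

variable {n : ℕ} {A : Type u} [CommRing A] {Z Z' : Scheme.{u}}
  (f : Z ⟶ Spec (CommRingCat.of A)) (π : Z' ⟶ Z)
  (j : Z' ⟶ PO n (Spec (CommRingCat.of A)))
  (hj : j ≫ pullback.snd _ _ = π ≫ f)
  {V : Z.Opens} (hV : IsAffineOpen V)

theorem locG_eq : locG π hV = (π ⁻¹ᵁ V).toSpecΓ ≫ Spec.map (π.app V) := by
  rw [Scheme.Opens.toSpecΓ_naturality]
  rfl

theorem toGlobal_locG (b : ↑Γ(Z, V)) :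
    Coh.toGlobal (locG π hV) b = (π ⁻¹ᵁ V).topIso.inv.hom ((π.app V).hom b) := by
  unfold Coh.toGlobal
  rw [locG_eq]
  have h : (Scheme.ΓSpecIso (CommRingCat.of ↑Γ(Z, V))).inv ≫
      ((π ⁻¹ᵁ V).toSpecΓ ≫ Spec.map (π.app V)).appTop = π.app V ≫ (π ⁻¹ᵁ V).topIso.inv := by
    rw [Scheme.Hom.comp_appTop, ← Category.assoc]
    erw [← Scheme.ΓSpecIso_inv_naturality]
    rw [Category.assoc, Scheme.Opens.toSpecΓ_appTop, Iso.inv_hom_id_assoc]
  exact congrArg (fun φ => φ.hom b) h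

theorem push_smul_eq (F : Z'.Modules) (b : ↑Γ(Z, V))
    (x : (Γ((Scheme.Modules.pushforward π).obj F, V) : Type u)) :
    b • x = (show (Γ((Scheme.Modules.pushforward π).obj F, V) : Type u) from
      ((π.app V).hom b) • (show (Γ(F, π ⁻¹ᵁ V) : Type u) from x)) := rfl

include hj hV in
theorem module_finite_sections_push [IsNoetherianRing ↑Γ(Z, V)] [IsProper π] [IsImmersion j]
    (F : Z'.Modules) (hF : Coh.IsCoh F) :
    Module.Finite ↑Γ(Z, V) (Γ((Scheme.Modules.pushforward π).obj F, V) : Type u) := by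
  haveI := isProper_locG π hV
  let k₀ : (π ⁻¹ᵁ V).toScheme ⟶ CohB1.ProjSpaceOver n (Spec (CommRingCat.of ↑Γ(Z, V))) :=
    locK π j hV
  haveI : IsImmersion k₀ := isImmersion_locK f π j hj hV
  letI : ((π ⁻¹ᵁ V).toScheme).Over (Spec (CommRingCat.of ↑Γ(Z, V))) := ⟨locG π hV⟩
  haveI : IsProper ((π ⁻¹ᵁ V).toScheme ↘ Spec (CommRingCat.of ↑Γ(Z, V))) := isProper_locG π hV
  have hfin : Module.Finite ↑Γ(Z, V) (Coh.HH (π ⁻¹ᵁ V).toScheme (F.restrict (π ⁻¹ᵁ V).ι) 0) :=
    module_finite_HH_of_immersion_projSpaceOver n ↑Γ(Z, V) k₀ (locK_toBase π j hV)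
      (F.restrict (π ⁻¹ᵁ V).ι) (isCoh_restrict _ F hF) 0
  let e : Coh.HH (π ⁻¹ᵁ V).toScheme (F.restrict (π ⁻¹ᵁ V).ι) 0 ≃+
      (Γ((Scheme.Modules.pushforward π).obj F, V) : Type u) :=
    (hh0 (F.restrict (π ⁻¹ᵁ V).ι)).trans (restrictTopEquiv (π ⁻¹ᵁ V) F)
  let l : Coh.HH (π ⁻¹ᵁ V).toScheme (F.restrict (π ⁻¹ᵁ V).ι) 0 →ₗ[↑Γ(Z, V)]
      (Γ((Scheme.Modules.pushforward π).obj F, V) : Type u) :=
    { toFun := e
      map_add' := e.map_add
      map_smul' := by
        intro b x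
        change e (Coh.toGlobal (locG π hV) b • x) = b • e x
        rw [push_smul_eq]
        change restrictTopEquiv (π ⁻¹ᵁ V) F (hh0 _ (Coh.toGlobal (locG π hV) b • x)) = _
        rw [hh0_smul, toGlobal_locG]
        exact restrictTopEquiv_smul (π ⁻¹ᵁ V) F ((π.app V).hom b) _ }
  exact Module.Finite.of_surjective l e.surjective

include hj in
/-- The direct image of a coherent module along a projective morphism to a locally Noetherian
scheme is coherent. -/
theorem isCoh_push_of_immersion [IsLocallyNoetherian Z] [IsProper π] [IsImmersion j]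
    (F : Z'.Modules) (hF : Coh.IsCoh F) :
    Coh.IsCoh ((Scheme.Modules.pushforward π).obj F) := by
  haveI := hF.1
  haveI : ((Scheme.Modules.pushforward π).obj F).IsQuasicoherent :=
    isQuasicoherent_pushforward_of_qcqs π F
  refine ⟨inferInstance, isFiniteType_of_module_finite _ (fun V : Z.affineOpens => (V : Z.Opens))
    (isOpenCover_affineOpens Z) (fun V => V.2) (fun V => ?_)⟩
  haveI : IsNoetherianRing ↑Γ(Z, V.1) := IsLocallyNoetherian.component_noetherian V
  exact module_finite_sections_push f π j hj V.2 F hF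

end Setup

end Groth.Agent.Lib.Helper12.H12Fin
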