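import Mathlib
import Groth.Agent.Lib.Helper12.Fin8
import Groth.Agent.Lib.Helper29.SerreA

/-! # Finiteness of the cohomology of `π_* L^m` for `m` large -/

set_option autoImplicit false
universe u

open CategoryTheory CategoryTheory.Limits Opposite TopologicalSpace Abelian AlgebraicGeometry

namespace Groth.Agent.Lib.Helper12.H12Fin

open Groth.Agent.Lib.Helper29.QCoh Groth.Agent.Lib.Lead.Pn

section G3

variable {n : ℕ} (A : Type u) [CommRing A] [IsNoetherianRing A] {Z Z' : Scheme.{u}}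
  [Z.Over (Spec (CommRingCat.of A))] [IsProper (Z ↘ Spec (CommRingCat.of A))]
  (π : Z' ⟶ Z) [IsProper π]
  (j : Z' ⟶ PO n (Spec (CommRingCat.of A))) [IsImmersion j]
  (hj : j ≫ pullback.snd _ _ = π ≫ (Z ↘ Spec (CommRingCat.of A)))

theorem isCoh_tensorPow_twL (m : ℕ) : Coh.IsCoh (CohB1.tensorPow (twL j) m) :=
  ⟨isQuasicoherent_of_isInvertible (isInvertible_tensorPow (isInvertible_twL j) m),
    isFiniteType_of_isInvertible (isInvertible_tensorPow (isInvertible_twL j) m)⟩

include A in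
theorem isSeparated_of_isProper_over : Z.IsSeparated := by
  have h : IsSeparated (Z ↘ Spec (CommRingCat.of A)) := inferInstance
  exact (HasAffineProperty.iff_of_isAffine (P := @IsSeparated)).mp h

include hj in
theorem exists_forall_module_finite_HH_push :
    ∃ m₀ : ℕ, ∀ m : ℕ, m₀ ≤ m → ∀ p : ℕ,
      Module.Finite A (Coh.HH Z ((Scheme.Modules.pushforward π).obj
        (CohB1.tensorPow (twL j) m)) p) := by
  classical
  haveI : Z.IsSeparated := isSeparated_of_isProper_over (Z := Z) A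
  haveI : IsLocallyNoetherian Z :=
    LocallyOfFiniteType.isLocallyNoetherian (Z ↘ Spec (CommRingCat.of A))
  haveI : CompactSpace Z := by
    have : QuasiCompact (Z ↘ Spec (CommRingCat.of A)) := inferInstance
    exact (quasiCompact_iff_compactSpace (Z ↘ Spec (CommRingCat.of A))).mp this
  -- a finite affine covering
  obtain ⟨s, hs, hcov⟩ := (isCompact_iff_finite_and_eq_biUnion_affineOpens (X := Z)
    (U := ⊤)).mp isCompact_univ
  haveI : Finite ↥s := hs.to_subtype
  haveI : Fintype ↥s := Fintype.ofFinite _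
  let V : ↥s → Z.Opens := fun i => (i.1 : Z.Opens)
  have hV : iSup V = ⊤ := by
    rw [hcov, iSup_subtype]
  have haff : ∀ t : Finset ↥s, t.Nonempty → IsAffineOpen (⨅ i ∈ t, V i) := by
    intro t ht
    have := IsAffineOpen.biInf (X := Z) (↑t : Set ↥s) t.finite_toSet ht (U := V)
      (fun i _ => i.1.2)
    simpa using this
  -- the uniform bound
  have hex : ∀ t : {t : Finset ↥s // t.Nonempty}, ∃ m₀ : ℕ, ∀ m : ℕ, m₀ ≤ m → ∀ q : ℕ,
      Subsingleton (Coh.HHon Z' (CohB1.tensorPow (twL j) m) (π ⁻¹ᵁ (⨅ i ∈ t.1, V i)) (q + 1)) := by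
    intro t
    haveI : IsNoetherianRing ↑Γ(Z, ⨅ i ∈ t.1, V i) :=
      IsLocallyNoetherian.component_noetherian ⟨_, haff t.1 t.2⟩
    exact exists_forall_subsingleton_HHon (Z ↘ Spec (CommRingCat.of A)) π j hj (haff t.1 t.2)
  choose m₀ hm₀ using hex
  refine ⟨Finset.univ.sup m₀, fun m hm p => ?_⟩
  set F := CohB1.tensorPow (twL j) m with hF
  have hFcoh : Coh.IsCoh F := isCoh_tensorPow_twL A j m
  haveI : F.IsQuasicoherent := hFcoh.1
  letI : Z'.Over (Spec (CommRingCat.of A)) := ⟨π ≫ (Z ↘ Spec (CommRingCat.of A))⟩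
  haveI : IsProper (Z' ↘ Spec (CommRingCat.of A)) := by
    change IsProper (π ≫ (Z ↘ Spec (CommRingCat.of A)))
    infer_instance
  have hfin : Module.Finite A (Coh.HH Z' F p) := by
    let j' : Z' ⟶ CohB1.ProjSpaceOver n (Spec (CommRingCat.of A)) := j
    haveI : IsImmersion j' := ‹IsImmersion j›
    exact module_finite_HH_of_immersion_projSpaceOver n A j' hj F hFcoh p
  have hX : Groth.Agent.Lib.Helper22.Cech.LerayGood (X := Z'.carrier) (fun i => π ⁻¹ᵁ V i)
      (Coh.toAb F) := by
    refine lerayGood_of_HHon_finset F (fun i => π ⁻¹ᵁ V i) fun t ht q => ?_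
    rw [preimage_biInf]
    exact hm₀ ⟨t, ht⟩ m ((Finset.le_sup (Finset.mem_univ _)).trans hm) q
  haveI : ((Scheme.Modules.pushforward π).obj F).IsQuasicoherent :=
    isQuasicoherent_pushforward_of_qcqs π F
  have hY : Groth.Agent.Lib.Helper22.Cech.LerayGood (X := Z.carrier) V
      (Coh.toAb ((Coh.push π).obj F)) :=
    lerayGood_of_isAffineOpen ((Scheme.Modules.pushforward π).obj F) V haff
  obtain ⟨e⟩ := nonempty_HH_linearEquiv_push A π rfl F V hV hX hY p
  exact Module.Finite.equiv e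

end G3

end Groth.Agent.Lib.Helper12.H12Fin
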