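import Mathlib
import Groth.Agent.Lib.Helper12.Fin9
import Groth.Agent.Lib.Helper29.PQ1
import Groth.Agent.Lib.Helper29.GenLocus
import Groth.Agent.Lib.Helper12.Dev2

/-! # Generic nonvanishing of the direct image of an invertible module along a birational map -/

set_option autoImplicit false
universe u

open CategoryTheory CategoryTheory.Limits Opposite TopologicalSpace Abelian AlgebraicGeometry

namespace Groth.Agent.Lib.Helper12.H12Fin

open Groth.Agent.Lib.Helper29.QCoh Groth.Agent.Lib.Lead.Pn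

section Birat

variable {Z Z' : Scheme.{u}} (π : Z' ⟶ Z) (U : Z.Opens) [IsIso (π ∣_ U)]

/-- Opens of `π⁻¹ U` are preimages of opens of `Z` when `π` is an isomorphism over `U`. -/
theorem exists_preimage_eq_of_isIso_morphismRestrict (T : Z'.Opens) (hT : T ≤ π ⁻¹ᵁ U) :
    ∃ U₁ : Z.Opens, U₁ ≤ U ∧ π ⁻¹ᵁ U₁ = T := by
  let g : (π ⁻¹ᵁ U).toScheme ⟶ Z := (π ⁻¹ᵁ U).ι ≫ π
  have hg : g = (π ∣_ U) ≫ U.ι := (morphismRestrict_ι π U).symm
  haveI : IsOpenImmersion g := by
    rw [hg]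
    infer_instance
  refine ⟨g ''ᵁ ((π ⁻¹ᵁ U).ι ⁻¹ᵁ T), ?_, ?_⟩
  · rintro _ ⟨x, -, rfl⟩
    change g x ∈ U
    rw [hg]
    exact ((π ∣_ U) x).2
  · apply le_antisymm
    · rintro x ⟨x', hx', hxx'⟩
      have hxU : x ∈ π ⁻¹ᵁ U := by
        change π x ∈ U
        rw [← hxx', hg]
        exact ((π ∣_ U) x').2
      have : g ⟨x, hxU⟩ = g x' := hxx'.symm
      have h2 : (⟨x, hxU⟩ : (π ⁻¹ᵁ U).toScheme) = x' := g.isOpenEmbedding.injective this
      have h3 : x = (π ⁻¹ᵁ U).ι x' := by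
        rw [← h2]
        rfl
      rw [h3]
      exact hx'
    · intro x hx
      exact ⟨⟨x, hT hx⟩, hx, rfl⟩

/-- The direct image of an invertible module along a surjective map which is an isomorphism over
a dense open of an integral scheme does not vanish at the generic point. -/
theorem genericPoint_mem_support_push [IsIntegral Z] [Surjective π] (hU : Dense (U : Set Z))
    (F : Z'.Modules) (hF : PicF.IsInvertible F)
    [((Scheme.Modules.pushforward π).obj F).IsFiniteType] :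
    genericPoint Z ∈ CohB1.support ((Scheme.Modules.pushforward π).obj F) := by
  by_contra hcon
  set N := (Scheme.Modules.pushforward π).obj F with hN
  have hcl : IsClosed (CohB1.support N) := Groth.Agent.Lib.Helper12.H12Dev.isClosed_support N
  let W₀ : Z.Opens := ⟨(CohB1.support N)ᶜ, hcl.isOpen_compl⟩
  have hyW : genericPoint Z ∈ W₀ := hcon
  have hyU : genericPoint Z ∈ U := by
    apply ((genericPoint_spec Z).mem_open_set_iff U.2).mpr
    obtain ⟨x, hx⟩ := hU.nonempty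
    exact ⟨x, trivial, hx⟩
  obtain ⟨z', hz'⟩ := (inferInstance : Surjective π).surj (genericPoint Z)
  obtain ⟨Ut, e, hzUt, htriv⟩ := exists_isTriv hF z'
  let T : Z'.Opens := Ut ⊓ π ⁻¹ᵁ (U ⊓ W₀)
  have hzT : z' ∈ T := ⟨hzUt, by change π z' ∈ U ⊓ W₀; rw [hz']; exact ⟨hyU, hyW⟩⟩
  obtain ⟨U₁, hU₁, hU₁T⟩ := exists_preimage_eq_of_isIso_morphismRestrict π U T
    (inf_le_right.trans (π.preimage_mono inf_le_left))
  have hTW : T ≤ π ⁻¹ᵁ W₀ := inf_le_right.trans (π.preimage_mono inf_le_right)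
  have hpre : π ⁻¹ᵁ (U₁ ⊓ W₀) = T := by
    change π ⁻¹ᵁ U₁ ⊓ π ⁻¹ᵁ W₀ = T
    rw [hU₁T]
    exact inf_eq_left.mpr hTW
  have hsub : Subsingleton Γ(N, U₁ ⊓ W₀) :=
    subsingleton_sections_of_disjoint_support N (U₁ ⊓ W₀) (fun x hx => hx.2)
  have hsub' : Subsingleton Γ(F, π ⁻¹ᵁ (U₁ ⊓ W₀)) := hsub
  rw [hpre] at hsub'
  have hbij := htriv T inf_le_left
  haveI : Nonempty T := ⟨⟨z', hzT⟩⟩
  have h10 : (1 : Γ(Z', T)) ≠ 0 := one_ne_zero
  exact h10 (hbij.1 (Subsingleton.elim _ _))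

end Birat

end Groth.Agent.Lib.Helper12.H12Fin
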