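import Mathlib
import Groth.Agent.Lib.Lead.LinLES.Basic
import Groth.Agent.Lib.Lead.LinLES.Biprod
import Groth.Agent.Lib.Helper12.Dev4

/-! # The class of modules with finitely generated cohomology -/

set_option autoImplicit false
universe u

open CategoryTheory CategoryTheory.Limits Opposite TopologicalSpace Abelian AlgebraicGeometry

namespace Groth.Agent.Lib.Helper12.H12Fin

open Groth.Agent.Lib.Lead.LinLES

section KClass

variable (A : Type u) [CommRing A] {X : Scheme.{u}} [X.Over (Spec (CommRingCat.of A))]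

/-- All cohomology groups are finitely generated over `A`. -/
def FinCoh (M : X.Modules) : Prop := ∀ p : ℕ, Module.Finite A (Coh.HH X M p)

lemma HHlin_zero {M N : X.Modules} (q : ℕ) (x : Coh.HH X M q) :
    Canon.HHlin A (0 : M ⟶ N) q x = 0 := by
  have := HHlin_sum A (∅ : Finset Empty) (fun _ => (0 : M ⟶ N)) q x
  simpa using this

theorem finCoh_of_isZero (M : X.Modules) (hM : IsZero M) : FinCoh A M := by
  intro p
  haveI : Subsingleton (Coh.HH X M p) := by
    refine subsingleton_of_forall_eq 0 fun x => ?_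
    rw [← HHlin_id A M p x, hM.eq_of_src (𝟙 M) 0, HHlin_zero]
  exact Module.Finite.of_finite

theorem finCoh_of_retract {M N : X.Modules} (s : M ⟶ N) (r : N ⟶ M) (h : s ≫ r = 𝟙 M)
    (hN : FinCoh A N) : FinCoh A M := by
  intro p
  haveI := hN p
  refine Module.Finite.of_surjective (Canon.HHlin A r p) fun x => ⟨Canon.HHlin A s p x, ?_⟩
  rw [← HHlin_comp, h, HHlin_id]

theorem finCoh_of_iso {M N : X.Modules} (e : M ≅ N) (hM : FinCoh A M) : FinCoh A N :=
  finCoh_of_retract A e.inv e.hom e.inv_hom_id hM

lemma HHlin_zero_injective {M N : X.Modules} (f : M ⟶ N) [Mono f] :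
    Function.Injective (Canon.HHlin A f 0) := by
  rw [← LinearMap.ker_eq_bot, LinearMap.ker_eq_bot']
  intro x hx
  rw [HHlin_apply] at hx
  obtain ⟨φ, rfl⟩ := (Ext.mk₀_bijective _ _).2 x
  rw [Ext.mk₀_comp_mk₀] at hx
  have h0 : φ ≫ abMap f = 0 := by
    apply (Ext.mk₀_bijective _ _).1
    rw [hx, Ext.mk₀_zero]
  haveI : Mono (abMap f) :=
    inferInstanceAs (Mono ((Groth.Agent.Lib.Helper29.QCoh.toSheafAb X).map f))
  have : φ = 0 := by
    rw [← cancel_mono (abMap f), h0, zero_comp]
  rw [this, Ext.mk₀_zero]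

variable [IsNoetherianRing A]

/-- Two-out-of-three for finiteness of cohomology. -/
theorem twoOfThree_finCoh : Groth.Agent.Lib.Helper12.H12Dev.TwoOfThree (X := X) (FinCoh A) := by
  intro S hS _ _ _
  haveI := hS.mono_f
  refine ⟨fun h1 h2 p => ?_, fun h1 h3 p => ?_, fun h2 h3 p => ?_⟩
  · haveI := h2 p
    haveI := h1 (p + 1)
    haveI : IsNoetherian A (Coh.HH X S.X₂ p) := isNoetherian_of_isNoetherianRing_of_finite A _
    haveI : IsNoetherian A (Coh.HH X S.X₁ (p + 1)) :=
      isNoetherian_of_isNoetherianRing_of_finite A _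
    haveI : IsNoetherian A (Coh.HH X S.X₃ p) :=
      isNoetherian_of_range_eq_ker (Canon.HHlin A S.g p) (δlin A S hS p)
        (exact₃ A S hS p).linearMap_ker_eq.symm
    exact Module.IsNoetherian.finite A _
  · haveI := h1 p
    haveI := h3 p
    haveI : IsNoetherian A (Coh.HH X S.X₁ p) := isNoetherian_of_isNoetherianRing_of_finite A _
    haveI : IsNoetherian A (Coh.HH X S.X₃ p) := isNoetherian_of_isNoetherianRing_of_finite A _
    haveI : IsNoetherian A (Coh.HH X S.X₂ p) :=
      isNoetherian_of_range_eq_ker (Canon.HHlin A S.f p) (Canon.HHlin A S.g p)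
        (exact₂ A S hS p).linearMap_ker_eq.symm
    exact Module.IsNoetherian.finite A _
  · cases p with
    | zero =>
      haveI := h2 0
      haveI : IsNoetherian A (Coh.HH X S.X₂ 0) := isNoetherian_of_isNoetherianRing_of_finite A _
      exact Module.Finite.of_injective (Canon.HHlin A S.f 0) (HHlin_zero_injective A S.f)
    | succ p =>
      haveI := h3 p
      haveI := h2 (p + 1)
      haveI : IsNoetherian A (Coh.HH X S.X₃ p) := isNoetherian_of_isNoetherianRing_of_finite A _
      haveI : IsNoetherian A (Coh.HH X S.X₂ (p + 1)) :=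
        isNoetherian_of_isNoetherianRing_of_finite A _
      haveI : IsNoetherian A (Coh.HH X S.X₁ (p + 1)) :=
        isNoetherian_of_range_eq_ker (δlin A S hS p) (Canon.HHlin A S.f (p + 1))
          (exact₁ A S hS p).linearMap_ker_eq.symm
      exact Module.IsNoetherian.finite A _

attribute [local instance] CategoryTheory.Abelian.hasFiniteBiproducts in
/-- A module is in the class as soon as a finite direct sum of copies of it is. -/
theorem finCoh_of_biproduct (F : X.Modules) (q : ℕ) (hq : 0 < q)
    (h : FinCoh A (⨁ fun _ : Fin q => F)) : FinCoh A F :=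
  finCoh_of_retract A (biproduct.ι (fun _ : Fin q => F) ⟨0, hq⟩)
    (biproduct.π (fun _ : Fin q => F) ⟨0, hq⟩) (biproduct.ι_π_self _ _) h

end KClass

end Groth.Agent.Lib.Helper12.H12Fin
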