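import Mathlib
import Groth.Agent.Lib.Helper12.Fin10
import Groth.Agent.Lib.Helper12.Fin11
import Groth.Agent.Lib.Helper12.Dev8
import Groth.Agent.S0025

/-! # Finiteness of coherent cohomology for proper schemes over a Noetherian ring -/

set_option autoImplicit false
universe u

open CategoryTheory CategoryTheory.Limits Opposite TopologicalSpace Abelian AlgebraicGeometry

namespace Groth.Agent.Lib.Helper12.H12Fin

open Groth.Agent.Lib.Helper29.QCoh Groth.Agent.Lib.Lead.Pn Groth.Agent.Lib.Helper12.H12Dev

section Main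

variable (A : Type u) [CommRing A] [IsNoetherianRing A] (X : Scheme.{u})
  [X.Over (Spec (CommRingCat.of A))] [IsProper (X ↘ Spec (CommRingCat.of A))]

/-- The generator over an irreducible closed subset. -/
theorem exists_generator (Z : Set X) (hZ : IsClosed Z) (hirr : IsIrreducible Z) (y : X)
    (hy : closure {y} = Z) :
    ∃ G : X.Modules, Coh.IsCoh G ∧ FinCoh A G ∧ CohB1.support G ⊆ Z ∧
      ClSub.KilledByIdeal (Scheme.IdealSheafData.vanishingIdeal ⟨Z, hZ⟩) G ∧
      y ∈ CohB1.support G := by
  let Wc : Closeds X := ⟨Z, hZ⟩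
  set I₀ := Scheme.IdealSheafData.vanishingIdeal Wc with hI₀
  haveI : IsIntegral I₀.subscheme := isIntegral_subscheme_vanishingIdeal Wc hirr
  let i := I₀.subschemeι
  have hr : Set.range i = Z := range_subschemeι_vanishingIdeal Wc
  have hpt : i (genericPoint I₀.subscheme) = y :=
    closedImmersion_genericPoint i y (hy.trans hr.symm)
  let fZ : I₀.subscheme ⟶ Spec (CommRingCat.of A) := i ≫ (X ↘ Spec (CommRingCat.of A))
  haveI : IsNoetherian (Spec (CommRingCat.of A)) := inferInstance
  obtain ⟨n, Z', π, j, hjimm, hj, hπp, hπs, U, hUd, hUiso⟩ := Groth.Agent.S0025.result fZ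
  haveI := hjimm
  haveI := hπp
  haveI := hπs
  haveI := hUiso
  let j' : Z' ⟶ PO n (Spec (CommRingCat.of A)) := j
  haveI : IsImmersion j' := hjimm
  have hj' : j' ≫ pullback.snd _ _ = (π ≫ i) ≫ (X ↘ Spec (CommRingCat.of A)) := by
    rw [Category.assoc]
    exact hj
  haveI : IsProper (π ≫ i) := inferInstance
  obtain ⟨m₀, hm₀⟩ := exists_forall_module_finite_HH_push A (π ≫ i) j' hj'
  set F := CohB1.tensorPow (twL j') m₀ with hF
  have hFcoh : Coh.IsCoh F := isCoh_tensorPow_twL A j' m₀
  have hFinv : PicF.IsInvertible F := isInvertible_tensorPow (isInvertible_twL j') m₀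
  haveI : IsLocallyNoetherian I₀.subscheme := LocallyOfFiniteType.isLocallyNoetherian fZ
  -- the module `N = π_* F` on the subscheme
  set N := (Scheme.Modules.pushforward π).obj F with hN
  have hNcoh : Coh.IsCoh N := isCoh_push_of_immersion fZ π j' hj F hFcoh
  haveI := hNcoh.1
  haveI := hNcoh.2
  set G := (Scheme.Modules.pushforward i).obj N with hGdef
  haveI hGq : G.IsQuasicoherent := isQuasicoherent_pushforward_of_isAffineHom i _
  haveI hGf : G.IsFiniteType := isFiniteType_pushforward_of_isFinite i _
  refine ⟨G, ⟨hGq, hGf⟩, ?_, ?_, ?_, ?_⟩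
  · exact finCoh_of_iso A ((Scheme.Modules.pushforwardComp π i).app F).symm
      (fun p => hm₀ m₀ le_rfl p)
  · rw [hGdef, Groth.Agent.Helper19.ClImmSupp.support_pushforward, ← hr]
    exact Set.image_subset_range _ _
  · intro V a ha m
    have h1 : I₀.subschemeι.ker = I₀ := I₀.ker_subschemeι
    rw [← h1, Scheme.Hom.ker_apply] at ha
    exact pushforward_killed i N V.1 a ha m
  · rw [mem_support_iff, ← not_subsingleton_iff_nontrivial, ← hpt,
      Groth.Agent.Helper19.ClImmSupp.subsingleton_stalk_pushforward_iff,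
      not_subsingleton_iff_nontrivial, ← mem_support_iff]
    exact genericPoint_mem_support_push π U hUd F hFinv

/-- **Finiteness of coherent cohomology** for a proper scheme over a Noetherian ring. -/
theorem module_finite_HH_of_isProper (M : X.Modules) (hM : Coh.IsCoh M) (p : ℕ) :
    Module.Finite A (Coh.HH X M p) := by
  haveI : IsLocallyNoetherian X :=
    LocallyOfFiniteType.isLocallyNoetherian (X ↘ Spec (CommRingCat.of A))
  haveI : CompactSpace X := by
    have : QuasiCompact (X ↘ Spec (CommRingCat.of A)) := inferInstance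
    exact (quasiCompact_iff_compactSpace (X ↘ Spec (CommRingCat.of A))).mp this
  haveI : IsNoetherian X := {}
  have h := devissage_roots (K' := FinCoh A) (finCoh_of_isZero A) (twoOfThree_finCoh A)
    (fun F q hq _ h => finCoh_of_biproduct A F q hq h) Set.univ
    (fun Z hZ hirr _ y hy => exists_generator A X Z hZ hirr y hy) M hM (Set.subset_univ _)
  exact h p

end Main

end Groth.Agent.Lib.Helper12.H12Fin
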