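import Mathlib
import Groth.Agent.Lib.Helper12.Fin12

/-! # Serre vanishing with coefficients, abstractly -/

set_option autoImplicit false
universe u

open CategoryTheory CategoryTheory.Limits AlgebraicGeometry Opposite TopologicalSpace

namespace Groth.Agent.Lib.Helper12.H12Fin

open Groth.Agent.Lib.Helper29.QCoh Groth.Agent.Lib.Lead.LinLES Groth.Agent.Lib.Lead.TwistExact
open Groth.Agent.Lib.Lead.Pn

attribute [local instance] CategoryTheory.Abelian.hasFiniteBiproducts

section AbstractSerre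

variable (R : Type u) [CommRing R] {X : Scheme.{u}} [X.Over (Spec (CommRingCat.of R))]
  [IsLocallyNoetherian X] (L : X.Modules) (hL : PicF.IsInvertible L)

/-- Tensoring a finite sum of copies of the structure sheaf with `P` gives a finite sum of copies
of `P`. -/
noncomputable def biproductUnitTensorIso (k : ℕ) (P : X.Modules) :
    CohB1.tensorMod (⨁ fun _ : Fin k => unitM X) P ≅ ⨁ fun _ : Fin k => P :=
  (tensorRight P).mapBiproduct (fun _ : Fin k => unitM X) ≪≫
    biproduct.mapIso fun _ => tensorUnitL P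

omit [IsLocallyNoetherian X] in
theorem isCoh_tensorMod' {F G : X.Modules} (hF : Coh.IsCoh F) (hG : Coh.IsCoh G) :
    Coh.IsCoh (CohB1.tensorMod F G) := by
  have := hF.1
  have := hF.2
  have := hG.1
  have := hG.2
  exact ⟨inferInstance, inferInstance⟩

include R hL in
theorem serre_abstract_step
    (m₀ : ℕ) (hL0 : ∀ m : ℕ, m₀ ≤ m → ∀ q : ℕ, Subsingleton (Coh.HH X (CohB1.tensorPow L m) (q + 1)))
    (hgg : ∀ M : X.Modules, Coh.IsCoh M → ∃ (a k : ℕ)
      (φ : (⨁ fun _ : Fin k => unitM X) ⟶ CohB1.tensorMod M (CohB1.tensorPow L a)), Epi φ)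
    (q : ℕ)
    (ih : ∀ M : X.Modules, Coh.IsCoh M → ∃ m₁ : ℕ, ∀ m : ℕ, m₁ ≤ m →
      Subsingleton (Coh.HH X (CohB1.tensorMod M (CohB1.tensorPow L m)) (q + 2)))
    (M : X.Modules) (hM : Coh.IsCoh M) :
    ∃ m₁ : ℕ, ∀ m : ℕ, m₁ ≤ m →
      Subsingleton (Coh.HH X (CohB1.tensorMod M (CohB1.tensorPow L m)) (q + 1)) := by
  obtain ⟨a, k, φ, hφ⟩ := hgg M hM
  have hE : Coh.IsCoh (⨁ fun _ : Fin k => unitM X) :=
    isCoh_biproduct _ fun _ => H12Dev.isCoh_unitM X
  have hLa : Coh.IsCoh (CohB1.tensorPow L a) :=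
    ⟨isQuasicoherent_of_isInvertible (isInvertible_tensorPow hL a),
      isFiniteType_of_isInvertible (isInvertible_tensorPow hL a)⟩
  have hM' : Coh.IsCoh (CohB1.tensorMod M (CohB1.tensorPow L a)) := isCoh_tensorMod' hM hLa
  have hK : Coh.IsCoh (kernel φ) := H12Dev.isCoh_kernel φ hE hM'
  let S : ShortComplex X.Modules := ShortComplex.mk (kernel.ι φ) φ (kernel.condition φ)
  have hS : S.ShortExact :=
    { exact := ShortComplex.exact_kernel φ
      mono_f := inferInstanceAs (Mono (kernel.ι φ))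
      epi_g := inferInstanceAs (Epi φ) }
  obtain ⟨m₁, hm₁⟩ := ih _ hK
  refine ⟨a + max m₀ m₁, fun m' hm' => ?_⟩
  obtain ⟨m, rfl⟩ : ∃ m, m' = a + m := ⟨m' - a, by omega⟩
  have hm0 : m₀ ≤ m := by have := le_max_left m₀ m₁; omega
  have hm1 : m₁ ≤ m := by have := le_max_right m₀ m₁; omega
  have hflat := isFlat_of_isInvertible (isInvertible_tensorPow hL m)
  have hS' := shortExact_map_tensorRight hflat S hS
  have h₂ : Subsingleton (Coh.HH X (S.map (tensorRight (CohB1.tensorPow L m))).X₂ (q + 1)) := by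
    refine subsingleton_HH_of_iso (biproductUnitTensorIso k (CohB1.tensorPow L m)).symm (q + 1) ?_
    exact subsingleton_HH_biproduct R _ (q + 1) fun _ => hL0 m hm0 q
  have h₁ : Subsingleton (Coh.HH X (S.map (tensorRight (CohB1.tensorPow L m))).X₁ (q + 1 + 1)) :=
    hm₁ m hm1
  have h₃ := subsingleton_HH_X₃ _ hS' (q + 1) h₂ h₁
  have e : (S.map (tensorRight (CohB1.tensorPow L m))).X₃ ≅
      CohB1.tensorMod M (CohB1.tensorPow L (a + m)) :=
    tensorAssoc M (CohB1.tensorPow L a) (CohB1.tensorPow L m) ≪≫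
      tensorCongr (Iso.refl M) (tensorPowAdd L a m)
  exact subsingleton_HH_of_iso e (q + 1) h₃

include R hL in
/-- **Abstract Serre vanishing with coefficients.** -/
theorem serre_abstract (N : ℕ)
    (htop : ∀ (G : X.Modules), G.IsQuasicoherent → ∀ q : ℕ, N < q → Subsingleton (Coh.HH X G q))
    (m₀ : ℕ) (hL0 : ∀ m : ℕ, m₀ ≤ m → ∀ q : ℕ, Subsingleton (Coh.HH X (CohB1.tensorPow L m) (q + 1)))
    (hgg : ∀ M : X.Modules, Coh.IsCoh M → ∃ (a k : ℕ)
      (φ : (⨁ fun _ : Fin k => unitM X) ⟶ CohB1.tensorMod M (CohB1.tensorPow L a)), Epi φ)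
    (M : X.Modules) (hM : Coh.IsCoh M) :
    ∃ m₁ : ℕ, ∀ m : ℕ, m₁ ≤ m → ∀ q : ℕ,
      Subsingleton (Coh.HH X (CohB1.tensorMod M (CohB1.tensorPow L m)) (q + 1)) := by
  have hq : ∀ (M : X.Modules), Coh.IsCoh M → ∀ m : ℕ,
      (CohB1.tensorMod M (CohB1.tensorPow L m)).IsQuasicoherent := by
    intro M hM m
    have hLm : Coh.IsCoh (CohB1.tensorPow L m) :=
      ⟨isQuasicoherent_of_isInvertible (isInvertible_tensorPow hL m),
        isFiniteType_of_isInvertible (isInvertible_tensorPow hL m)⟩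
    exact (isCoh_tensorMod' hM hLm).1
  have key : ∀ (k q : ℕ), N ≤ q + k → ∀ M : X.Modules, Coh.IsCoh M →
      ∃ m₁ : ℕ, ∀ m : ℕ, m₁ ≤ m →
        Subsingleton (Coh.HH X (CohB1.tensorMod M (CohB1.tensorPow L m)) (q + 1)) := by
    intro k
    induction k with
    | zero =>
      intro q hq' M hM
      exact ⟨0, fun m _ => htop _ (hq M hM m) (q + 1) (by omega)⟩
    | succ k ih =>
      intro q hq' M hM
      exact serre_abstract_step R L hL m₀ hL0 hgg q
        (fun M' hM' => ih (q + 1) (by omega) M' hM') M hM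
  have h : ∀ q : ℕ, ∃ m₁ : ℕ, ∀ m : ℕ, m₁ ≤ m →
      Subsingleton (Coh.HH X (CohB1.tensorMod M (CohB1.tensorPow L m)) (q + 1)) :=
    fun q => key N q (by omega) M hM
  choose m₁ hm₁ using h
  refine ⟨(Finset.range (N + 1)).sup m₁, fun m hm q => ?_⟩
  by_cases hqN : q ≤ N
  · exact hm₁ q m (le_trans (Finset.le_sup (Finset.mem_range.mpr (by omega))) hm)
  · exact htop _ (hq M hM m) (q + 1) (by omega)

end AbstractSerre

end Groth.Agent.Lib.Helper12.H12Fin
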