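import Mathlib
import Groth.Agent.Lib.Helper12.Fin13
import Groth.Agent.Lib.Helper29.SerreA
import Groth.Agent.Lib.Helper29.Res2
import Groth.Agent.Lib.Helper29.RelAmple
import Groth.Agent.S2330
import Groth.Agent.S0022

/-! # Serre vanishing for ample invertible modules, with coherent coefficients -/

set_option autoImplicit false
universe u

open CategoryTheory CategoryTheory.Limits AlgebraicGeometry Opposite TopologicalSpace

namespace Groth.Agent.Lib.Helper12.H12Fin

open Groth.Agent.Lib.Helper29.QCoh Groth.Agent.Lib.Lead.LinLES Groth.Agent.Lib.Lead.TwistExact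
open Groth.Agent.Lib.Lead.Pn

attribute [local instance] CategoryTheory.Abelian.hasFiniteBiproducts

section Inst

variable {X : Scheme.{u}}

/-- A globally generated coherent module on a quasi-compact scheme is a quotient of a finite sum
of copies of the structure sheaf. -/
theorem exists_epi_biproduct_unit_of_isGloballyGenerated [CompactSpace X] (F : X.Modules)
    (hF : Coh.IsCoh F) (h : Curv2.IsGloballyGenerated F) :
    ∃ (k : ℕ) (φ : (⨁ fun _ : Fin k => unitM X) ⟶ F), Epi φ := by
  haveI := hF.1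
  haveI := hF.2
  obtain ⟨k, σ, hσ⟩ := Groth.Agent.Lib.Helper29.QCoh.Res.exists_fin_sections_of_isGloballyGenerated F h
  have hepi : Epi (homOfSections F (fun i : ULift.{u} (Fin k) => σ i.down)) := by
    apply epi_homOfSections_of_span
    intro x
    rw [← hσ x]
    congr 1
    ext t
    constructor
    · rintro ⟨i, rfl⟩
      exact ⟨i.down, rfl⟩
    · rintro ⟨i, rfl⟩
      exact ⟨⟨i⟩, rfl⟩
  refine ⟨k, (biproduct.isoCoproduct _).hom ≫ (freeModIso X k).hom ≫
    homOfSections F (fun i : ULift.{u} (Fin k) => σ i.down), ?_⟩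
  infer_instance

variable (R : Type u) [CommRing R] [IsNoetherianRing R] (f : X ⟶ Spec (CommRingCat.of R))
  [IsProper f]

include f in
/-- Serre vanishing for a very ample module (pullback of `O(1)` along an immersion into
`P^N × Spec R`), with coherent coefficients. -/
theorem serre_vanishing_of_veryAmple (L₁ : X.Modules) (hA : CohB1.IsAmple L₁)
    (hva : RelAmple.IsRelVeryAmplePn f L₁) (M : X.Modules) (hM : Coh.IsCoh M) :
    ∃ m₁ : ℕ, ∀ m : ℕ, m₁ ≤ m → ∀ q : ℕ,
      Subsingleton (Coh.HH X (CohB1.tensorMod M (CohB1.tensorPow L₁ m)) (q + 1)) := by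
  obtain ⟨N, i, himm, hi, ⟨eL⟩⟩ := hva
  haveI := himm
  have hL₁ : PicF.IsInvertible L₁ := hA.1
  letI : X.Over (Spec (CommRingCat.of R)) := ⟨f⟩
  haveI : IsLocallyNoetherian X := LocallyOfFiniteType.isLocallyNoetherian f
  haveI : CompactSpace X := hA.2.1
  obtain ⟨m₀, hm₀⟩ := exists_forall_subsingleton_HH_tensorPow N R f i hi L₁ eL
  obtain ⟨k₀, hcl, hk', -⟩ := exists_closedImmersion_projSpace N R f i hi
  let k' : X ⟶ CohB1.ProjSpace N R := k₀
  haveI : IsClosedImmersion k' := hcl
  haveI : IsAffineHom k' := inferInstance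
  have htop : ∀ (G : X.Modules), G.IsQuasicoherent → ∀ q : ℕ, N < q →
      Subsingleton (Coh.HH X G q) := by
    intro G hG q hq
    haveI := hG
    obtain ⟨e⟩ := Groth.Agent.S0012.result k' G q
    haveI : Coh.IsQCoh ((Coh.push k').obj G) := isQuasicoherent_pushforward_of_isAffineHom k' G
    haveI : Subsingleton (Coh.HH (CohB1.ProjSpace N R) ((Coh.push k').obj G) q) :=
      Groth.Agent.S0022.result N R ((Coh.push k').obj G) q hq
    exact e.toEquiv.subsingleton
  have hgg : ∀ M : X.Modules, Coh.IsCoh M → ∃ (a k : ℕ)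
      (φ : (⨁ fun _ : Fin k => unitM X) ⟶ CohB1.tensorMod M (CohB1.tensorPow L₁ a)), Epi φ := by
    intro M hM
    haveI := hM.1
    haveI := hM.2
    obtain ⟨n₀, hn₀⟩ := exists_isGloballyGenerated_twist hA M
    have hLa : Coh.IsCoh (CohB1.tensorPow L₁ n₀) :=
      ⟨isQuasicoherent_of_isInvertible (isInvertible_tensorPow hL₁ n₀),
        isFiniteType_of_isInvertible (isInvertible_tensorPow hL₁ n₀)⟩
    obtain ⟨k, φ, hφ⟩ := exists_epi_biproduct_unit_of_isGloballyGenerated _
      (isCoh_tensorMod' hM hLa) (hn₀ n₀ le_rfl)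
    exact ⟨n₀, k, φ, hφ⟩
  exact serre_abstract R L₁ hL₁ N htop m₀ hm₀ hgg M hM

include f in
/-- **Serre vanishing for an ample invertible module** on a scheme proper over a Noetherian ring,
with coherent coefficients. -/
theorem serre_vanishing_of_isAmple (L : X.Modules) (hA : CohB1.IsAmple L) (M : X.Modules)
    (hM : Coh.IsCoh M) :
    ∃ n₀ : ℕ, ∀ n : ℕ, n₀ ≤ n → ∀ q : ℕ,
      Subsingleton (Coh.HH X (CohB1.tensorMod M (CohB1.tensorPow L n)) (q + 1)) := by
  have hL : PicF.IsInvertible L := hA.1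
  obtain ⟨n₁, hn₁⟩ := (Groth.Agent.S2330.result f L hL).2 hA
  set e := max n₁ 1 with he
  have he0 : 0 < e := lt_of_lt_of_le Nat.one_pos (le_max_right _ _)
  have hva : RelAmple.IsRelVeryAmplePn f (CohB1.tensorPow L e) := hn₁ e (le_max_left _ _)
  have hA₁ : CohB1.IsAmple (CohB1.tensorPow L e) := (isAmple_iff_tensorPow hL e he0).mp hA
  have hcoh : ∀ r : ℕ, Coh.IsCoh (CohB1.tensorMod M (CohB1.tensorPow L r)) := fun r =>
    isCoh_tensorMod' hM ⟨isQuasicoherent_of_isInvertible (isInvertible_tensorPow hL r),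
      isFiniteType_of_isInvertible (isInvertible_tensorPow hL r)⟩
  have h := fun r : ℕ => serre_vanishing_of_veryAmple R f (CohB1.tensorPow L e) hA₁ hva
    (CohB1.tensorMod M (CohB1.tensorPow L r)) (hcoh r)
  choose m₁ hm₁ using h
  refine ⟨e * (Finset.range e).sup m₁, fun n hn q => ?_⟩
  obtain ⟨r, m, hr, hm, rfl⟩ : ∃ r m, r < e ∧ (Finset.range e).sup m₁ ≤ m ∧ n = r + e * m :=
    ⟨n % e, n / e, Nat.mod_lt _ he0, (Nat.le_div_iff_mul_le he0).mpr (by rwa [Nat.mul_comm]),
      (Nat.mod_add_div n e).symm⟩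
  have h1 := hm₁ r m (le_trans (Finset.le_sup (Finset.mem_range.mpr hr)) hm) q
  have eiso : CohB1.tensorMod (CohB1.tensorMod M (CohB1.tensorPow L r))
      (CohB1.tensorPow (CohB1.tensorPow L e) m) ≅
      CohB1.tensorMod M (CohB1.tensorPow L (r + e * m)) :=
    tensorCongr (Iso.refl _) (tensorPowMul L e m) ≪≫
      tensorAssoc M (CohB1.tensorPow L r) (CohB1.tensorPow L (e * m)) ≪≫
      tensorCongr (Iso.refl M) (tensorPowAdd L r (e * m))
  exact subsingleton_HH_of_iso eiso (q + 1) h1

end Inst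

end Groth.Agent.Lib.Helper12.H12Fin
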