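import Mathlib
import Groth.Agent.Lib.Helper22.CohTop.LerayAcyclicBase
import Groth.Agent.Lib.Helper22.DeltaMV
import Groth.Agent.Lib.Lead.NatLeray.Step
import Groth.Agent.Lib.Lead.Pn.HomologyOfMap

/-! # Leray with acyclic base, compatibly with endomorphisms -/

set_option autoImplicit false
universe u

open CategoryTheory CategoryTheory.Limits Opposite TopologicalSpace Abelian

namespace Groth.Agent.Lib.Helper12.H12RP

open Groth.Agent.Lib.Helper22 Groth.Agent.Lib.Helper22.ExtCompare Groth.Agent.Lib.Helper22.CohTop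
open Groth.Agent.Lib.Helper22.DeltaMV

section lift

variable {𝒞 : Type*} [Category 𝒞] [Abelian 𝒞] [EnoughInjectives 𝒞]

/-- A lift of an endomorphism to the injective-hull sequence. -/
noncomputable def liftSC (F : 𝒞) (φ : F ⟶ F) : ExtCompare.injSC F ⟶ ExtCompare.injSC F where
  τ₁ := φ
  τ₂ := Injective.factorThru (φ ≫ Injective.ι F) (Injective.ι F)
  τ₃ := cokernel.map _ _ φ (Injective.factorThru (φ ≫ Injective.ι F) (Injective.ι F))
    (by rw [Injective.comp_factorThru])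
  comm₁₂ := by
    change φ ≫ Injective.ι F = Injective.ι F ≫ _
    rw [Injective.comp_factorThru]
  comm₂₃ := by
    change _ ≫ cokernel.π _ = cokernel.π _ ≫ _
    rw [cokernel.π_desc]

@[simp] lemma liftSC_τ₁ (F : 𝒞) (φ : F ⟶ F) : (liftSC F φ).τ₁ = φ := rfl

end lift

variable {X Y : TopCat.{u}} (f : X ⟶ Y)

/-- the δ-functor of higher direct images -/
noncomputable abbrev TR : DeltaF.CohDeltaFunctor (CohTop.Ab X) (CohTop.Ab Y) ℕ := RD (CohTop.push f)

/-- the connecting morphism `R^q f_* Q ⟶ R^{q+1} f_* F`. -/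
noncomputable abbrev dl (F : CohTop.Ab X) (q : ℕ) :
    (CohTop.Rpush f q).obj (ExtCompare.injSC F).X₃ ⟶ (CohTop.Rpush f (q + 1)).obj F :=
  (TR f).δ (ExtCompare.injSC F) (ExtCompare.injSC_shortExact F) q (q + 1) rfl

lemma dl_natural (F : CohTop.Ab X) (φ : F ⟶ F) (q : ℕ) :
    (CohTop.Rpush f q).map (liftSC F φ).τ₃ ≫ dl f F q = dl f F q ≫ (CohTop.Rpush f (q + 1)).map φ :=
  (TR f).δ_natural (ExtCompare.injSC_shortExact F) (ExtCompare.injSC_shortExact F) (liftSC F φ)
    q (q + 1) rfl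

instance epi_dl (F : CohTop.Ab X) (q : ℕ) : Epi (dl f F q) := by
  have h := (TR f).exact₁ (ExtCompare.injSC F) (ExtCompare.injSC_shortExact F) q (q + 1) rfl
  have hz : IsZero ((CohTop.Rpush f (q + 1)).obj (ExtCompare.injSC F).X₂) :=
    Functor.isZero_rightDerived_obj_injective_succ _ q _
  exact h.epi_f (hz.eq_of_tgt _ _)

instance mono_dl_succ (F : CohTop.Ab X) (q : ℕ) : Mono (dl f F (q + 1)) := by
  have h := (TR f).exact₃ (ExtCompare.injSC F) (ExtCompare.injSC_shortExact F) (q + 1) (q + 2) rfl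
  have hz : IsZero ((CohTop.Rpush f (q + 1)).obj (ExtCompare.injSC F).X₂) :=
    Functor.isZero_rightDerived_obj_injective_succ _ q _
  exact h.mono_g (hz.eq_of_src _ _)

instance isIso_dl_succ (F : CohTop.Ab X) (q : ℕ) : IsIso (dl f F (q + 1)) :=
  isIso_of_mono_of_epi _

/-- sections over `⊤` -/
noncomputable abbrev sec {G G' : CohTop.Ab Y} (ψ : G ⟶ G') :
    G.obj.obj (op ⊤) →+ G'.obj.obj (op ⊤) := (ψ.hom.app (op ⊤)).hom

lemma sec_comp {G G' G'' : CohTop.Ab Y} (ψ : G ⟶ G') (ψ' : G' ⟶ G'') (s : G.obj.obj (op ⊤)) :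
    sec (ψ ≫ ψ') s = sec ψ' (sec ψ s) := rfl

lemma sectionsTopEquiv_apply {G G' : CohTop.Ab Y} (e : G ≅ G') (s : G.obj.obj (op ⊤)) :
    sectionsTopEquiv e s = sec e.hom s := rfl

/-- degree zero -/
noncomputable def e0 (F : CohTop.Ab X) :
    CohTop.H F 0 ≃+ ((CohTop.Rpush f 0).obj F).obj.obj (op ⊤) :=
  (Sheaf.H.equiv₀ F (isTerminalPreimageTop f)).trans
    (sectionsTopEquiv ((CohTop.push f).rightDerivedZeroIsoSelf.app F).symm)

lemma e0_apply (F : CohTop.Ab X) (x : CohTop.H F 0) :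
    e0 f F x = sec ((CohTop.push f).rightDerivedZeroIsoSelf.inv.app F)
      (Sheaf.H.equiv₀ F (isTerminalPreimageTop f) x) := rfl

lemma e0_naturality {F F' : CohTop.Ab X} (ψ : F ⟶ F') (x : CohTop.H F 0) :
    e0 f F' (x.comp (Ext.mk₀ ψ) (add_zero 0)) = sec ((CohTop.Rpush f 0).map ψ) (e0 f F x) := by
  rw [e0_apply, e0_apply, ← Sheaf.H.map_apply, ← Sheaf.H.equiv₀_naturality]
  have h := (CohTop.push f).rightDerivedZeroIsoSelf.inv.naturality ψ
  have h2 := congrArg (fun k : (CohTop.push f).obj F ⟶ ((CohTop.push f).rightDerived 0).obj F' =>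
    sec k (show ((CohTop.push f).obj F).obj.obj (op ⊤) from
      Sheaf.H.equiv₀ F (isTerminalPreimageTop f) x)) h
  exact h2

section one

variable (F : CohTop.Ab X)

/-- `f_* Q ⟶ R¹ f_* F`. -/
noncomputable def d1 : (CohTop.push f).obj (ExtCompare.injSC F).X₃ ⟶ (CohTop.Rpush f 1).obj F :=
  (CohTop.push f).rightDerivedZeroIsoSelf.inv.app _ ≫ dl f F 0

instance : Epi (d1 f F) := by
  unfold d1
  infer_instance

lemma map_g_d1 : (CohTop.push f).map (ExtCompare.injSC F).g ≫ d1 f F = 0 := by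
  unfold d1
  rw [← Category.assoc, (CohTop.push f).rightDerivedZeroIsoSelf.inv.naturality, Category.assoc]
  have h := (TR f).comp_δ (ExtCompare.injSC F) (ExtCompare.injSC_shortExact F) 0 1 rfl
  have h' : ((CohTop.push f).rightDerived 0).map (ExtCompare.injSC F).g ≫ dl f F 0 = 0 := h
  rw [h', comp_zero]

lemma exact_d1 : (ShortComplex.mk _ _ (map_g_d1 f F)).Exact := by
  have h := (TR f).exact₃ (ExtCompare.injSC F) (ExtCompare.injSC_shortExact F) 0 1 rfl
  refine (ShortComplex.exact_iff_of_iso ?_).2 h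
  refine ShortComplex.isoMk (((CohTop.push f).rightDerivedZeroIsoSelf.app _).symm)
    (((CohTop.push f).rightDerivedZeroIsoSelf.app _).symm) (Iso.refl _) ?_ ?_
  · exact ((CohTop.push f).rightDerivedZeroIsoSelf.inv.naturality _).symm
  · change d1 f F ≫ 𝟙 _ = _
    rw [Category.comp_id]
    rfl

/-- `coker (f_* I → f_* Q) ≅ R¹ f_* F`, via the connecting morphism. -/
noncomputable def cIso : Cok f F ≅ (CohTop.Rpush f 1).obj F :=
  IsColimit.coconePointUniqueUpToIso (colimit.isColimit _) (exact_d1 f F).gIsCokernel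

lemma π_cIso_hom : cokernel.π ((CohTop.push f).map (ExtCompare.injSC F).g) ≫ (cIso f F).hom =
    d1 f F :=
  IsColimit.comp_coconePointUniqueUpToIso_hom (colimit.isColimit _)
    (exact_d1 f F).gIsCokernel WalkingParallelPair.one

/-- `Ext⁰(ℤ_X, Q) → Γ(Y, R¹ f_* F)`. -/
noncomputable def bMap' : Ext (constZ X) (ExtCompare.injSC F).X₃ 0 →+
    ((CohTop.Rpush f 1).obj F).obj.obj (op ⊤) :=
  (sec (dl f F 0)).comp (e0 f (ExtCompare.injSC F).X₃).toAddMonoidHom

lemma bMap'_apply (t : Ext (constZ X) (ExtCompare.injSC F).X₃ 0) :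
    bMap' f F t = sec (dl f F 0) (e0 f _ t) := rfl

/-- comparison of the two descriptions -/
noncomputable def κ : Ext (constZ Y) (Cok f F) 0 ≃+ ((CohTop.Rpush f 1).obj F).obj.obj (op ⊤) :=
  (Sheaf.H.equiv₀ (Cok f F) (isTerminalTop : IsTerminal (⊤ : Opens Y))).trans
    (sectionsTopEquiv (cIso f F))

lemma bMap'_eq (t : Ext (constZ X) (ExtCompare.injSC F).X₃ 0) :
    bMap' f F t = κ f F (bMap f F t) := by
  rw [bMap_apply, ← Sheaf.H.map_apply]
  change _ = sec (cIso f F).hom (Sheaf.H.equiv₀ (Cok f F) (isTerminalTop : IsTerminal (⊤ : Opens Y))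
    (Sheaf.H.map (cokernel.π ((CohTop.push f).map (ExtCompare.injSC F).g)) 0
      (((deg0Push f).e (ExtCompare.injSC F).X₃) t)))
  rw [← Sheaf.H.equiv₀_naturality]
  have h1 : Sheaf.H.equiv₀ ((CohTop.push f).obj (ExtCompare.injSC F).X₃)
      (isTerminalTop : IsTerminal (⊤ : Opens Y)) (((deg0Push f).e (ExtCompare.injSC F).X₃) t) =
      Sheaf.H.equiv₀ (ExtCompare.injSC F).X₃ (isTerminalPreimageTop f) t :=
    AddEquiv.apply_symm_apply _ _
  rw [h1]
  change _ = sec (cokernel.π ((CohTop.push f).map (ExtCompare.injSC F).g) ≫ (cIso f F).hom) _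
  rw [π_cIso_hom]
  rfl

end one

/-- Compatibility with endomorphisms. -/
def IsNatR (F : CohTop.Ab X) (q : ℕ)
    (e : CohTop.H F q ≃+ ((CohTop.Rpush f q).obj F).obj.obj (op ⊤)) : Prop :=
  ∀ (φ : F ⟶ F) (x : CohTop.H F q),
    e (x.comp (Ext.mk₀ φ) (add_zero q)) = sec ((CohTop.Rpush f q).map φ) (e x)

lemma aMap_naturality (F : CohTop.Ab X) (φ : F ⟶ F)
    (t : Ext (constZ X) (ExtCompare.injSC F).X₃ 0) :
    (aMap F t).comp (Ext.mk₀ φ) (add_zero 1) =
      aMap F (t.comp (Ext.mk₀ (liftSC F φ).τ₃) (add_zero 0)) := by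
  rw [aMap_apply, aMap_apply]
  symm
  rw [Ext.comp_assoc_of_second_deg_zero,
    ← ShortComplex.ShortExact.extClass_naturality (ExtCompare.injSC_shortExact F)
      (ExtCompare.injSC_shortExact F) (liftSC F φ), Ext.comp_assoc_of_third_deg_zero]
  rfl

theorem exists_nat_one (F : CohTop.Ab X) (hF : BaseAcyclic f F) :
    ∃ e : CohTop.H F 1 ≃+ ((CohTop.Rpush f 1).obj F).obj.obj (op ⊤), IsNatR f F 1 e := by
  have hb : Function.Surjective (bMap' f F) := by
    intro y
    obtain ⟨t, ht⟩ := hF.bMap_surjective ((κ f F).symm y)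
    refine ⟨t, ?_⟩
    rw [bMap'_eq, ht, AddEquiv.apply_symm_apply]
  have hk : ∀ t, aMap F t = 0 ↔ bMap' f F t = 0 := by
    intro t
    rw [bMap'_eq, aMap_eq_zero_iff, ← hF.bMap_eq_zero_iff]
    exact (AddEquiv.map_eq_zero_iff (κ f F)).symm
  obtain ⟨θ, hθ⟩ := Groth.Agent.Lib.Lead.Pn.exists_addEquiv_of_surjective_of_ker_eq (aMap F)
    (bMap' f F) (aMap_surjective F) hb hk
  refine ⟨θ, ?_⟩
  intro φ x
  obtain ⟨t, rfl⟩ := aMap_surjective F x
  rw [aMap_naturality, hθ, hθ, bMap'_apply, bMap'_apply, e0_naturality]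
  have h := dl_natural f F φ 0
  exact congrArg (fun k => sec k (e0 f (ExtCompare.injSC F).X₃ t)) h

/-- **Leray with acyclic base, compatibly with endomorphisms.** -/
theorem exists_H_addEquiv_sections_Rpush_natural (q : ℕ) : ∀ (F : CohTop.Ab X), BaseAcyclic f F →
    ∃ e : CohTop.H F q ≃+ ((CohTop.Rpush f q).obj F).obj.obj (op ⊤), IsNatR f F q e := by
  cases q with
  | zero =>
    intro F _
    exact ⟨e0 f F, fun φ x => e0_naturality f φ x⟩
  | succ q =>
    induction q with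
    | zero => exact fun F hF => exists_nat_one f F hF
    | succ q ih =>
      intro F hF
      have hS := ExtCompare.injSC_shortExact F
      let e1 := ExtCompare.shiftEquiv hS (constZ X) q (fun y => Ext.eq_zero_of_injective y)
        (fun y => Ext.eq_zero_of_injective y)
      obtain ⟨e2, he2⟩ := ih (ExtCompare.injSC F).X₃ hF.quot
      let e3 : ((CohTop.Rpush f (q + 1)).obj (ExtCompare.injSC F).X₃).obj.obj (op ⊤) ≃+
          ((CohTop.Rpush f (q + 2)).obj F).obj.obj (op ⊤) :=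
        sectionsTopEquiv (asIso (dl f F (q + 1)))
      refine ⟨e1.symm.trans (e2.trans e3), ?_⟩
      intro φ x
      obtain ⟨z, rfl⟩ := e1.surjective x
      have h1 : (e1 z).comp (Ext.mk₀ φ) (add_zero (q + 2)) =
          e1 (z.comp (Ext.mk₀ (liftSC F φ).τ₃) (add_zero (q + 1))) :=
        (Groth.Agent.Lib.Lead.NatLeray.shiftEquiv_naturality hS (liftSC F φ) _ q _ _ z).symm
      rw [h1]
      simp only [AddEquiv.trans_apply, AddEquiv.symm_apply_apply]
      rw [he2 (liftSC F φ).τ₃ z]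
      have h := dl_natural f F φ (q + 1)
      exact congrArg (fun k => sec k (e2 z)) h

end Groth.Agent.Lib.Helper12.H12RP
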