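import Mathlib
import Groth.Agent.Lib.Helper12.RP1
import Groth.Agent.Lib.Helper12.RP2
import Groth.Agent.Lib.Helper5.RpushAb
import Groth.Agent.S0030
import Groth.Agent.S0007
import Groth.Agent.Lib.Helper12.Fin12

/-! # Global sections of higher direct images over an affine base, linearly -/

set_option autoImplicit false
universe u

open CategoryTheory CategoryTheory.Limits Opposite TopologicalSpace Abelian AlgebraicGeometry

namespace Groth.Agent.Lib.Helper12.H12RP

open Groth.Agent.Lib.Helper22 Groth.Agent.Lib.Helper22.ExtCompare Groth.Agent.Lib.Helper22.CohTop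
open Groth.Agent.Lib.Helper5.RpushAb Groth.Agent.Lib.Helper5

variable {X S : Scheme.{u}} (f : X ⟶ S)

/-- **Higher direct images of modules and of abelian sheaves agree**, naturally. -/
noncomputable def RpushAbIso [HasInjectiveResolutions X.Modules] (n : ℕ) :
    Coh.Rpush f n ⋙ TT S ≅ TT X ⋙ Coh.RpushAb f n := by
  haveI : EnoughInjectives X.Modules :=
    Groth.Agent.S0485.result (Opens.grothendieckTopology X) X.ringCatSheaf
  haveI : PreservesFiniteLimits (Scheme.Modules.pushforward f) := by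
    haveI := (Scheme.Modules.pullbackPushforwardAdjunction f).rightAdjoint_preservesLimits
    infer_instance
  haveI : (TT S).PreservesHomology := Functor.preservesHomologyOfExact _
  have e1 : (Scheme.Modules.pushforward f).rightDerived n ⋙ TT S ≅
      (Scheme.Modules.pushforward f ⋙ TT S).rightDerived n :=
    (RDPost.rightDerivedPostIso (Scheme.Modules.pushforward f) (TT S) n).symm
  have e2 : (Scheme.Modules.pushforward f ⋙ TT S).rightDerived n ≅
      (TT X ⋙ Coh.pushAb f).rightDerived n :=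
    DimShift.rightDerivedIsoOfNatIso (pushIso f) n
  have e3 : (TT X ⋙ Coh.pushAb f).rightDerived n ≅ TT X ⋙ (Coh.pushAb f).rightDerived n :=
    PrecompDelta.rightDerivedPrecompIso (TT X) (Coh.pushAb f)
      (fun I hI q => isZero_RpushA_succ (Opens.grothendieckTopology X)
        (Opens.grothendieckTopology S) (Opens.map f.base) q _
        (@ModAcyclic.isTotallyAcyclic_toSheaf _ _ _ X.ringCatSheaf I hI)) n
  exact e1 ≪≫ e2 ≪≫ e3

variable [QuasiCompact f] [QuasiSeparated f] [IsAffine S] [HasInjectiveResolutions X.Modules]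
  (M : X.Modules) [M.IsQuasicoherent]

lemma baseAcyclic_of_isAffine : CohTop.BaseAcyclic f.base (Coh.toAb M) := by
  intro p q' x
  obtain ⟨e⟩ := Groth.Agent.Lib.Helper5.RpushAb.main f M q'
  haveI : Coh.IsQCoh ((Coh.Rpush f q').obj M) := Groth.Agent.S0030.result f M q'
  have hs : Subsingleton (Coh.HH S ((Coh.Rpush f q').obj M) (p + 1)) :=
    Groth.Agent.S0007.result S _ (p + 1) (by omega)
  exact Groth.Agent.Lib.Helper22.CohTop.ext_eq_zero_of_iso e (p + 1)
    (fun y => hs.elim y 0) x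

/-- `H^q(X, M) ≃ Γ(S, R^q f_* M)` compatibly with the action of the functions on `S`. -/
theorem exists_HH_addEquiv_sections_Rpush_linear (q : ℕ) :
    ∃ e : Coh.HH X M q ≃+ (Γ((Coh.Rpush f q).obj M, ⊤) : Type u),
      ∀ (b : Coh.Γtop S) (x : Coh.HH X M q),
        e ((show Coh.Γtop X from f.appTop.hom b) • x) = (show ↑Γ(S, ⊤) from b) • e x := by
  obtain ⟨e₁, he₁⟩ := exists_H_addEquiv_sections_Rpush_natural f.base q (Coh.toAb M)
    (baseAcyclic_of_isAffine f M)
  let ν := RpushAbIso f q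
  let e₂ : ((Coh.RpushAb f q).obj (Coh.toAb M)).obj.obj (op ⊤) ≃+
      (Coh.toAb ((Coh.Rpush f q).obj M)).obj.obj (op ⊤) :=
    sectionsTopEquiv (ν.app M).symm
  refine ⟨e₁.trans e₂, ?_⟩
  intro b x
  change e₂ (e₁ (x.comp (Ext.mk₀ (Coh.smulAb M (f.appTop.hom b))) (add_zero q))) = _
  rw [he₁]
  have hnat := ν.inv.naturality (Formal.smulModΓ M (f.appTop.hom b))
  have hL1 := Rpush_map_smulModΓ f b M q
  have h2 : (Coh.RpushAb f q).map (Coh.smulAb M (f.appTop.hom b)) ≫ ν.inv.app M =
      ν.inv.app M ≫ Coh.smulAb ((Coh.Rpush f q).obj M) b := by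
    have h3 : (Coh.Rpush f q ⋙ TT S).map (Formal.smulModΓ M (f.appTop.hom b)) =
        Coh.smulAb ((Coh.Rpush f q).obj M) b := by
      rw [Functor.comp_map, hL1]
      rfl
    rw [← h3]
    exact hnat
  have h4 := congrArg (fun k => sec k (e₁ x)) h2
  refine h4.trans ?_
  change (Coh.smulAb ((Coh.Rpush f q).obj M) b).hom.app (op ⊤) (e₂ (e₁ x)) = _
  rw [Coh.smulAb_app]
  have h5 : Coh.resTop S (op ⊤) b = b := by
    change (S.ringCatSheaf.obj.map (homOfLE (le_top (a := (⊤ : S.Opens)))).op).hom b = b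
    rw [show (homOfLE (le_top (a := (⊤ : S.Opens)))).op = 𝟙 (op (⊤ : S.Opens)) from
      Subsingleton.elim _ _, S.ringCatSheaf.obj.map_id]
    rfl
  rw [h5]
  rfl

omit [QuasiCompact f] [QuasiSeparated f] [IsAffine S] [HasInjectiveResolutions X.Modules] in
lemma toGlobal_comp_toSpecΓ (b : ↑Γ(S, ⊤)) :
    Coh.toGlobal (X := X) (A := ↑Γ(S, ⊤)) (f ≫ S.toSpecΓ) b = f.appTop.hom b := by
  unfold Coh.toGlobal
  have h : (Scheme.ΓSpecIso (CommRingCat.of ↑Γ(S, ⊤))).inv ≫ (f ≫ S.toSpecΓ).appTop = f.appTop := by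
    rw [Scheme.Hom.comp_appTop, Scheme.toSpecΓ_appTop]
    exact Iso.inv_hom_id_assoc _ _
  exact congrArg (fun φ => φ.hom b) h

omit [QuasiCompact f] [QuasiSeparated f] [M.IsQuasicoherent] in
/-- Over a Noetherian affine base, the global sections of the higher direct images of a coherent
module along a proper morphism are finitely generated. -/
theorem module_finite_sections_Rpush_of_isAffine [IsProper f] [IsNoetherianRing ↑Γ(S, ⊤)]
    (hM : Coh.IsCoh M) (q : ℕ) :
    Module.Finite ↑Γ(S, ⊤) (Γ((Coh.Rpush f q).obj M, ⊤) : Type u) := by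
  haveI := hM.1
  letI : X.Over (Spec (CommRingCat.of ↑Γ(S, ⊤))) := ⟨f ≫ S.toSpecΓ⟩
  haveI : IsProper (X ↘ Spec (CommRingCat.of ↑Γ(S, ⊤))) := by
    change IsProper (f ≫ S.toSpecΓ)
    infer_instance
  have hfin : Module.Finite ↑Γ(S, ⊤) (Coh.HH X M q) :=
    Groth.Agent.Lib.Helper12.H12Fin.module_finite_HH_of_isProper ↑Γ(S, ⊤) X M hM q
  obtain ⟨e, he⟩ := exists_HH_addEquiv_sections_Rpush_linear f M q
  let l : Coh.HH X M q →ₗ[↑Γ(S, ⊤)] (Γ((Coh.Rpush f q).obj M, ⊤) : Type u) :=
    { toFun := e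
      map_add' := e.map_add
      map_smul' := by
        intro b x
        change e (Coh.toGlobal (f ≫ S.toSpecΓ) b • x) = b • e x
        rw [toGlobal_comp_toSpecΓ]
        exact he b x }
  exact Module.Finite.of_surjective l e.surjective

end Groth.Agent.Lib.Helper12.H12RP
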