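import Mathlib
import Groth.Agent.Lib.Helper12.Fin14
import Groth.Agent.Lib.Helper12.RP3
import Groth.Agent.Lib.Helper5.RelSerre
import Groth.Agent.Lib.Helper29.RT1
import Groth.Agent.Lib.Helper29.QCohPullbackSupp

/-! # Relative Serre vanishing -/

set_option autoImplicit false
universe u

open CategoryTheory CategoryTheory.Limits Opposite TopologicalSpace Abelian AlgebraicGeometry

namespace Groth.Agent.Lib.Helper12.H12RS

open Groth.Agent.Lib.Helper29.QCoh Groth.Agent.Lib.Lead.Pn Groth.Agent.Lib.Helper12.H12Fin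
open Groth.Agent.Lib.Helper12.H12RP

variable {X S : Scheme.{u}} (f : X ⟶ S)

/-- Serre vanishing over the preimage of an affine open of the base. -/
theorem exists_forall_subsingleton_HHon_of_isAmple [IsProper f] {W : S.Opens} (hW : IsAffineOpen W)
    [IsNoetherianRing ↑Γ(S, W)] (L : X.Modules) (hL : PicF.IsInvertible L)
    (ha : CohB1.IsAmple (L.restrict (f ⁻¹ᵁ W).ι)) (M : X.Modules) (hM : Coh.IsCoh M) :
    ∃ n₀ : ℕ, ∀ n : ℕ, n₀ ≤ n → ∀ q : ℕ,
      Subsingleton (Coh.HHon X (CohB1.tensorMod M (CohB1.tensorPow L n)) (f ⁻¹ᵁ W) (q + 1)) := by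
  haveI := isProper_locG f hW
  haveI := hM.1
  obtain ⟨n₀, h⟩ := serre_vanishing_of_isAmple ↑Γ(S, W) (locG f hW) (L.restrict (f ⁻¹ᵁ W).ι) ha
    (M.restrict (f ⁻¹ᵁ W).ι) (isCoh_restrict _ M hM)
  refine ⟨n₀, fun n hn q => ?_⟩
  haveI : (CohB1.tensorPow L n).IsQuasicoherent :=
    isQuasicoherent_of_isInvertible (isInvertible_tensorPow hL n)
  obtain ⟨e⟩ := nonempty_restrict_tensorPow_iso hL (f ⁻¹ᵁ W) n
  let e2 := restrictTensorIso (f ⁻¹ᵁ W) M (CohB1.tensorPow L n) ≪≫ tensorCongr (Iso.refl _) e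
  exact subsingleton_HH_of_iso e2.symm (q + 1) (h n hn q)

/-- A quasi-coherent module whose sections over the members of an affine open cover vanish is
zero. -/
theorem isZero_of_subsingleton_sections_cover (N : S.Modules) [N.IsQuasicoherent] {ι : Type*}
    (W : ι → S.Opens) (hW : ∀ i, IsAffineOpen (W i)) (hcov : ∀ y : S, ∃ i, y ∈ W i)
    (h : ∀ i, Subsingleton Γ(N, W i)) : IsZero N := by
  rw [isZero_iff_stalk_subsingleton]
  intro y
  obtain ⟨i, hy⟩ := hcov y
  rw [subsingleton_stalk_iff N (hW i) y hy, Module.notMem_support_iff']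
  intro m
  haveI := h i
  exact ⟨1, fun h1 => ((hW i).primeIdealOf ⟨y, hy⟩).2.ne_top ((Ideal.eq_top_iff_one _).mpr h1),
    Subsingleton.elim _ _⟩

/-- The higher direct image vanishes as soon as the cohomology over the preimages of the members
of an affine open cover of the base vanishes. -/
theorem isZero_RpushAb_of_subsingleton_HHon [QuasiCompact f] [QuasiSeparated f] (F : X.Modules)
    [F.IsQuasicoherent] (p : ℕ) {ι : Type*}
    (W : ι → S.Opens) (hW : ∀ i, IsAffineOpen (W i)) (hcov : ∀ y : S, ∃ i, y ∈ W i)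
    (h : ∀ i, Subsingleton (Coh.HHon X F (f ⁻¹ᵁ W i) p)) :
    IsZero ((Coh.RpushAb f p).obj (Coh.toAb F)) := by
  haveI : EnoughInjectives X.Modules :=
    Groth.Agent.S0485.result (Opens.grothendieckTopology X) X.ringCatSheaf
  haveI : HasInjectiveResolutions X.Modules := inferInstance
  haveI : ((Coh.Rpush f p).obj F).IsQuasicoherent := Groth.Agent.S0030.result f F p
  let ν := (RpushAbIso f p).app F
  have hz : IsZero ((Coh.Rpush f p).obj F) := by
    refine isZero_of_subsingleton_sections_cover _ W hW hcov fun i => ?_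
    obtain ⟨e⟩ := Groth.Agent.Lib.Helper5.RelSerre.nonempty_HHon_addEquiv_sections f F (W i) (hW i) p
    haveI := h i
    have h1 : Subsingleton (((Coh.RpushAb f p).obj (Coh.toAb F)).obj.obj (op (W i))) :=
      e.symm.toEquiv.subsingleton
    let e' : (Coh.toAb ((Coh.Rpush f p).obj F)).obj.obj (op (W i)) ≃+
        ((Coh.RpushAb f p).obj (Coh.toAb F)).obj.obj (op (W i)) :=
      ((sheafToPresheaf _ _ ⋙ (evaluation _ _).obj (op (W i))).mapIso ν).addCommGroupIsoToAddEquiv
    exact e'.toEquiv.subsingleton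
  exact IsZero.of_iso (Functor.map_isZero (SheafOfModules.toSheaf S.ringCatSheaf) hz) ν.symm

/-- **Relative Serre vanishing.** -/
theorem relative_serre_vanishing [IsProper f] [IsNoetherian S] (L : X.Modules)
    (hL : PicF.IsInvertible L)
    (ha : ∀ W : S.Opens, IsAffineOpen W → CohB1.IsAmple (L.restrict (f ⁻¹ᵁ W).ι))
    (M : X.Modules) (hM : Coh.IsCoh M) :
    ∃ n₀ : ℕ, ∀ n : ℕ, n₀ ≤ n → ∀ p : ℕ, 0 < p →
      Limits.IsZero ((Coh.RpushAb f p).obj (Coh.toAb (CohB1.tensorMod M (CohB1.tensorPow L n)))) := by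
  haveI := hM.1
  have hex : ∀ W : S.affineOpens, ∃ n₀ : ℕ, ∀ n : ℕ, n₀ ≤ n → ∀ q : ℕ,
      Subsingleton (Coh.HHon X (CohB1.tensorMod M (CohB1.tensorPow L n)) (f ⁻¹ᵁ W.1) (q + 1)) := by
    intro W
    haveI : IsNoetherianRing ↑Γ(S, W.1) := IsLocallyNoetherian.component_noetherian W
    exact exists_forall_subsingleton_HHon_of_isAmple f W.2 L hL (ha W.1 W.2) M hM
  choose nW hnW using hex
  obtain ⟨t, ht⟩ := isCompact_univ.elim_finite_subcover (fun W : S.affineOpens => ((W : S.Opens) : Set S))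
    (fun W => W.1.2) (fun y _ => by
      obtain ⟨_, ⟨V, hV, rfl⟩, hyV, -⟩ :=
        S.isBasis_affineOpens.exists_subset_of_mem_open (Set.mem_univ y) isOpen_univ
      exact Set.mem_iUnion.2 ⟨⟨V, hV⟩, hyV⟩)
  refine ⟨t.sup nW, fun n hn p hp => ?_⟩
  obtain ⟨q, rfl⟩ : ∃ q, p = q + 1 := ⟨p - 1, by omega⟩
  haveI : (CohB1.tensorPow L n).IsQuasicoherent :=
    isQuasicoherent_of_isInvertible (isInvertible_tensorPow hL n)
  haveI : (CohB1.tensorMod M (CohB1.tensorPow L n)).IsQuasicoherent := inferInstance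
  refine isZero_RpushAb_of_subsingleton_HHon f _ (q + 1) (fun W : t => ((W : S.affineOpens) : S.Opens))
    (fun W => W.1.2) (fun y => ?_) (fun W => ?_)
  · obtain ⟨W, hW⟩ := Set.mem_iUnion.1 (ht (Set.mem_univ y))
    obtain ⟨hWt, hyW⟩ := Set.mem_iUnion.1 hW
    exact ⟨⟨W, hWt⟩, hyW⟩
  · exact hnW W.1 n (le_trans (Finset.le_sup W.2) hn) q

end Groth.Agent.Lib.Helper12.H12RS
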