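import Groth.Agent.Lib.Helper12.FF9
import Groth.Agent.Lib.Lead.FFAlg

/-! # Formal functions, part 10: the theorem on formal functions -/

set_option autoImplicit false
universe u
open CategoryTheory CategoryTheory.Limits AlgebraicGeometry TopologicalSpace Opposite

namespace Groth.Agent.Lib.Helper12.H12FF
open Groth.Agent.Lib.Lead.LinLES Groth.Agent.Lib.Lead.FFAlg

section Sheaves
variable {A : Type u} [CommRing A] {X : Scheme.{u}} [X.Over (Spec (CommRingCat.of A))]

theorem modPowLe_refl (I : Ideal A) (M : X.Modules) (n : ℕ) : modPowLe I M (le_refl n) = 𝟙 _ := by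
  rw [← cancel_epi (Formal.modPowπ I n M), modPowπ_le, Category.comp_id]

theorem modPowLe_succ (I : Ideal A) (M : X.Modules) {n k : ℕ} (h : n ≤ k) :
    modPowLe I M (Nat.le_succ_of_le h) = Formal.modPowTrans I k M ≫ modPowLe I M h := by
  rw [← cancel_epi (Formal.modPowπ I (k + 1) M), modPowπ_le, ← Category.assoc,
    Formal.modPowπ_trans, modPowπ_le]

end Sheaves

section FF
variable (A : Type u) [CommRing A] [IsNoetherianRing A] (I : Ideal A)
  (X : Scheme.{u}) [X.Over (Spec (CommRingCat.of A))] [IsProper (X ↘ Spec (CommRingCat.of A))]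
  (M : X.Modules) (hM : Coh.IsCoh M) (p : ℕ)

/-- the iterated transition maps -/
noncomputable def TT (n k : ℕ) (h : n ≤ k) : Formal.HHmodPow I M p k →+ Formal.HHmodPow I M p n :=
  (Canon.HHlin A (modPowLe I M (Nat.succ_le_succ h)) p).toAddMonoidHom

theorem TT_refl (n : ℕ) (y : Formal.HHmodPow I M p n) : TT A I X M p n n le_rfl y = y := by
  change Canon.HHlin A (modPowLe I M (Nat.succ_le_succ (le_refl n))) p y = y
  rw [modPowLe_refl, HHlin_id]

theorem TT_succ (n k : ℕ) (h : n ≤ k) (y : Formal.HHmodPow I M p (k + 1)) :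
    TT A I X M p n (k + 1) (Nat.le_succ_of_le h) y =
      TT A I X M p n k h (Formal.HHmodPowTrans I M p k y) := by
  change Canon.HHlin A (modPowLe I M (Nat.succ_le_succ (Nat.le_succ_of_le h))) p y =
    Canon.HHlin A (modPowLe I M (Nat.succ_le_succ h)) p
      (Canon.HHlin A (Formal.modPowTrans I (k + 1) M) p y)
  rw [← HHlin_comp, ← modPowLe_succ]

theorem trans_toHHmodPow (n : ℕ) (x : Coh.HH X M p) :
    Formal.HHmodPowTrans I M p n (Formal.toHHmodPow I M p (n + 1) x) =
      Formal.toHHmodPow I M p n x := by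
  change Canon.HHlin A (Formal.modPowTrans I (n + 1) M) p
    (Canon.HHlin A (Formal.modPowπ I (n + 1 + 1) M) p x) =
    Canon.HHlin A (Formal.modPowπ I (n + 1) M) p x
  rw [← HHlin_comp, Formal.modPowπ_trans]

theorem toHHmodPow_eq_zero_of_mem (n : ℕ) (x : Coh.HH X M p)
    (hx : x ∈ I ^ (n + 1) • (⊤ : Submodule A (Coh.HH X M p))) :
    Formal.toHHmodPow I M p n x = 0 := by
  change Canon.HHlin A (Formal.modPowπ I (n + 1) M) p x = 0
  refine Submodule.smul_induction_on hx ?_ ?_
  · intro r hr y _
    rw [map_smul, ← HHlin_smulMod, smulMod_modPow_eq_zero I (n + 1) M r hr, HHlin_zero']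
  · intro y z hy hz
    rw [map_add, hy, hz, add_zero]

include hM in
theorem exists_ker_le :
    ∃ c, ∀ n, c ≤ n → ∀ x, Formal.toHHmodPow I M p n x = 0 →
      x ∈ I ^ (n - c) • (⊤ : Submodule A (Coh.HH X M p)) := by
  obtain ⟨c, hc⟩ := exists_Rk_le_pow A I X M hM p
  refine ⟨c, fun n hn x hx => ?_⟩
  obtain ⟨m, rfl⟩ := Nat.exists_eq_add_of_le hn
  rw [Nat.add_sub_cancel_left]
  exact hc m ((mem_Rk_iff A I X M p (c + m) x).mpr hx)

include hM in
theorem exists_ML :
    ∃ c, ∀ n k (h : n ≤ k), n + c ≤ k → ∀ y : Formal.HHmodPow I M p k,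
      ∃ x : Coh.HH X M p, Formal.toHHmodPow I M p n x = TT A I X M p n k h y := by
  obtain ⟨c, hc⟩ := exists_uniform_ML A I X M hM p
  exact ⟨c, fun n k h hnk y => hc n k h hnk y⟩

include hM in
/-- **Theorem on formal functions.** -/
theorem formal_functions :
    Nonempty (AdicCompletion I (Coh.HH X M p) ≃+ Formal.HHlim I M p) :=
  nonempty_adicCompletion_addEquiv_lim I (fun n => Formal.HHmodPow I M p n)
    (fun n => Formal.toHHmodPow I M p n) (fun n => Formal.HHmodPowTrans I M p n)
    (TT A I X M p) (TT_refl A I X M p) (TT_succ A I X M p) (trans_toHHmodPow A I X M p)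
    (toHHmodPow_eq_zero_of_mem A I X M p) (exists_ker_le A I X M hM p) (exists_ML A I X M hM p)

include hM in
/-- **Theorem on formal functions over a complete base.** -/
theorem formal_functions_complete [IsAdicComplete I A] :
    Function.Bijective (Formal.toHHlim I M p) := by
  haveI : Module.Finite A (Coh.HH X M p) :=
    Groth.Agent.Lib.Helper12.H12Fin.module_finite_HH_of_isProper A X M hM p
  haveI : IsAdicComplete I (Coh.HH X M p) :=
    isAdicComplete_of_finite_of_isNoetherianRing I (Coh.HH X M p)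
  exact bijective_toLim_of_isAdicComplete I (fun n => Formal.HHmodPow I M p n)
    (fun n => Formal.toHHmodPow I M p n) (fun n => Formal.HHmodPowTrans I M p n)
    (TT A I X M p) (TT_refl A I X M p) (TT_succ A I X M p) (trans_toHHmodPow A I X M p)
    (toHHmodPow_eq_zero_of_mem A I X M p) (exists_ker_le A I X M hM p) (exists_ML A I X M hM p)

end FF

end Groth.Agent.Lib.Helper12.H12FF
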