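import Mathlib
import Groth.Agent.Lib.Helper29.QCohBasic
import Groth.Agent.Lib.Helper29.QCohFinite

/-! # Proper support, part 1: the annihilator ideal sheaf of a quasi-coherent module of finite type -/

set_option autoImplicit false
universe u
open CategoryTheory CategoryTheory.Limits AlgebraicGeometry TopologicalSpace Opposite

namespace Groth.Agent.Lib.Helper12.H12PS
open Groth.Agent.Lib.Helper29.QCoh

variable {X : Scheme.{u}}

theorem map_annihilator_basicOpen (M : X.Modules) [M.IsQuasicoherent] [M.IsFiniteType]
    (U : X.affineOpens) (f : Γ(X, U.1)) :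
    (Module.annihilator Γ(X, U.1) Γ(M, U.1)).map
        (X.presheaf.map (homOfLE <| X.basicOpen_le f).op).hom =
      Module.annihilator Γ(X, X.basicOpen f) Γ(M, X.basicOpen f) := by
  classical
  have hunit : IsUnit ((X.presheaf.map (homOfLE <| X.basicOpen_le f).op).hom f) :=
    RingedSpace.isUnit_res_basicOpen _ f
  apply le_antisymm
  · rw [Ideal.map_le_iff_le_comap]
    intro a ha
    rw [Ideal.mem_comap, Module.mem_annihilator]
    intro t
    obtain ⟨n, m, h⟩ := exists_pow_smul_eq_res M U.2 f t
    have h1 : ((X.presheaf.map (homOfLE <| X.basicOpen_le f).op).hom f) ^ n •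
        ((X.presheaf.map (homOfLE <| X.basicOpen_le f).op).hom a • t) = 0 := by
      rw [smul_comm]
      have h' : ((X.presheaf.map (homOfLE <| X.basicOpen_le f).op).hom f) ^ n • t =
          res M (X.basicOpen_le f) m := h
      rw [h']
      have h2 := res_smul M (X.basicOpen_le f) a m
      rw [Module.mem_annihilator.mp ha m, map_zero] at h2
      exact h2.symm
    exact eq_zero_of_isUnit_smul (hunit.pow n) h1
  · intro b hb
    haveI := U.2.isLocalization_basicOpen f
    obtain ⟨⟨a, ⟨_, k, rfl⟩⟩, hab⟩ := IsLocalization.surj (Submonoid.powers f) b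
    have hab' : b * ((X.presheaf.map (homOfLE <| X.basicOpen_le f).op).hom f) ^ k =
        (X.presheaf.map (homOfLE <| X.basicOpen_le f).op).hom a := by
      have := hab
      simp only [RingHom.algebraMap_toAlgebra, map_pow] at this
      exact this
    haveI hfin : Module.Finite Γ(X, U.1) Γ(M, U.1) := module_finite_of_isFiniteType M U.2
    obtain ⟨G, hG⟩ := (Module.finite_def.1 hfin)
    have h1 : ∀ m : Γ(M, U.1), ∃ n : ℕ, f ^ n • (a • m) = 0 := by
      intro m
      apply exists_pow_smul_eq_zero M U.2 f
      rw [res_smul]
      have : (X.presheaf.map (homOfLE <| X.basicOpen_le f).op).hom a ∈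
          Module.annihilator Γ(X, X.basicOpen f) Γ(M, X.basicOpen f) := by
        rw [← hab']
        exact Ideal.mul_mem_right _ _ hb
      exact Module.mem_annihilator.mp this _
    choose n hn using h1
    let N := ∑ m ∈ G, n m
    have hN : f ^ N * a ∈ Module.annihilator Γ(X, U.1) Γ(M, U.1) := by
      rw [Module.mem_annihilator]
      intro m
      have hm : m ∈ Submodule.span Γ(X, U.1) (G : Set Γ(M, U.1)) := hG ▸ Submodule.mem_top
      induction hm using Submodule.span_induction with
      | mem m hm =>
        have hm' : m ∈ G := hm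
        have hle : n m ≤ N := Finset.single_le_sum (f := n) (fun _ _ => Nat.zero_le _) hm'
        obtain ⟨d, hd⟩ := Nat.exists_eq_add_of_le hle
        rw [mul_smul, hd, pow_add, mul_comm, mul_smul, hn m, smul_zero]
      | zero => rw [smul_zero]
      | add x y _ _ hx hy => rw [smul_add, hx, hy, add_zero]
      | smul r x _ hx => rw [smul_comm, hx, smul_zero]
    have h2 : b * ((X.presheaf.map (homOfLE <| X.basicOpen_le f).op).hom f) ^ (k + N) ∈
        (Module.annihilator Γ(X, U.1) Γ(M, U.1)).map
          (X.presheaf.map (homOfLE <| X.basicOpen_le f).op).hom := by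
      rw [pow_add, ← mul_assoc, hab', mul_comm, ← map_pow, ← map_mul]
      exact Ideal.mem_map_of_mem _ hN
    exact (Ideal.mul_unit_mem_iff_mem _ (hunit.pow (k + N))).mp h2

/-- The annihilator ideal sheaf of a quasi-coherent module of finite type. -/
noncomputable def annIdeal (M : X.Modules) [M.IsQuasicoherent] [M.IsFiniteType] :
    X.IdealSheafData where
  ideal U := Module.annihilator Γ(X, U.1) Γ(M, U.1)
  map_ideal_basicOpen U f := map_annihilator_basicOpen M U f

theorem annIdeal_ideal (M : X.Modules) [M.IsQuasicoherent] [M.IsFiniteType] (U : X.affineOpens) :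
    (annIdeal M).ideal U = Module.annihilator Γ(X, U.1) Γ(M, U.1) := rfl

end Groth.Agent.Lib.Helper12.H12PS
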