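import Mathlib
import Groth.Agent.Lib.Helper12.PS1
import Groth.Agent.Lib.Helper29.QCohExact
import Groth.Agent.Lib.Helper25.ProperOver
import Groth.Prelude.Def_CohB1
import Groth.Prelude.Def_ClSub2

/-! # Proper support, part 2: support of the annihilator ideal, quotients are killed, properness -/

set_option autoImplicit false
universe u
open CategoryTheory CategoryTheory.Limits AlgebraicGeometry TopologicalSpace Opposite

namespace Groth.Agent.Lib.Helper12.H12PS
open Groth.Agent.Lib.Helper29.QCoh

variable {X : Scheme.{u}}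

theorem mem_basicOpen_prod {U : X.Opens} {ι : Type*} (G : Finset ι) (r : ι → Γ(X, U)) (x : X)
    (hx : x ∈ U) (h : ∀ j ∈ G, x ∈ X.basicOpen (r j)) : x ∈ X.basicOpen (∏ j ∈ G, r j) := by
  classical
  induction G using Finset.induction_on with
  | empty =>
    rw [Finset.prod_empty, Scheme.basicOpen_of_isUnit _ isUnit_one]
    exact hx
  | insert a s ha ih =>
    rw [Finset.prod_insert ha, Scheme.basicOpen_mul]
    exact ⟨h a (Finset.mem_insert_self a s), ih fun j hj => h j (Finset.mem_insert_of_mem hj)⟩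

theorem support_annIdeal_subset (M : X.Modules) [M.IsQuasicoherent] [M.IsFiniteType] :
    ((annIdeal M).support : Set X) ⊆ CohB1.support M := by
  classical
  intro x hx
  by_contra hns
  have hsub : Subsingleton (M.presheaf.stalk x) := not_not.mp hns
  obtain ⟨U, hU, hxU, -⟩ := AlgebraicGeometry.exists_isAffineOpen_mem_and_subset
    (x := x) (U := ⊤) trivial
  have h1 := (stalk_subsingleton_iff M hU x hxU).mp hsub
  haveI hfin : Module.Finite Γ(X, U) Γ(M, U) := module_finite_of_isFiniteType M hU
  obtain ⟨G, hG⟩ := Module.finite_def.1 hfin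
  choose r hr hrm using h1
  have hR : (∏ m ∈ G, r m) ∈ Module.annihilator Γ(X, U) Γ(M, U) := by
    rw [Module.mem_annihilator]
    intro m
    have hm : m ∈ Submodule.span Γ(X, U) (G : Set Γ(M, U)) := hG ▸ Submodule.mem_top
    induction hm using Submodule.span_induction with
    | mem m hm =>
      have hm' : m ∈ G := hm
      rw [← Finset.mul_prod_erase G _ hm', mul_comm, mul_smul, hrm m, smul_zero]
    | zero => rw [smul_zero]
    | add a b _ _ ha hb => rw [smul_add, ha, hb, add_zero]
    | smul c a _ ha => rw [smul_comm, ha, smul_zero]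
  have hxR : x ∈ X.basicOpen (∏ m ∈ G, r m) :=
    mem_basicOpen_prod G r x hxU fun m _ => hr m
  have h2 := (Scheme.IdealSheafData.mem_support_iff_of_mem (I := annIdeal M)
    (U := ⟨U, hU⟩) hxU).mp hx
  rw [Scheme.mem_zeroLocus_iff] at h2
  exact h2 _ hR hxR

/-- K1: an element killing the sections over an affine open kills all the stalks there. -/
theorem germ_smul_stalk_eq_zero (M : X.Modules) [M.IsQuasicoherent] {U : X.Opens}
    (hU : IsAffineOpen U) (a : Γ(X, U)) (ha : ∀ m : Γ(M, U), a • m = 0) (x : X) (hx : x ∈ U)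
    (t : M.presheaf.stalk x) : X.presheaf.germ U x hx a • t = 0 := by
  obtain ⟨r, m, hr, hrt⟩ := exists_smul_germ_eq M hU x hx t
  have h1 : X.presheaf.germ U x hx r • (X.presheaf.germ U x hx a • t) = 0 := by
    rw [smul_comm, hrt, ← germ_smul, ha m, map_zero]
  exact eq_zero_of_isUnit_smul (isUnit_germ_of_mem_basicOpen r x hx hr) h1

/-- K2: quotients of a module killed (stalkwise) by `a` are killed by `a`. -/
theorem smul_eq_zero_of_epi {M N : X.Modules} (π : M ⟶ N) [Epi π] {U : X.Opens} (a : Γ(X, U))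
    (ha : ∀ (x : X) (hx : x ∈ U) (t : M.presheaf.stalk x), X.presheaf.germ U x hx a • t = 0)
    (s : Γ(N, U)) : a • s = 0 := by
  refine eq_zero_of_germ_eq_zero N _ fun x hx => ?_
  rw [germ_smul]
  obtain ⟨t, ht⟩ := (epi_iff_stalkMap_surjective π).mp inferInstance x (N.presheaf.germ U x hx s)
  rw [← ht, ← stalkMap_smul, ha x hx t, map_zero]

theorem killed_of_epi {M N : X.Modules} [M.IsQuasicoherent] [M.IsFiniteType] (π : M ⟶ N) [Epi π]
    (U : X.affineOpens) (a : Γ(X, U.1)) (ha : a ∈ (annIdeal M).ideal U) (s : Γ(N, U.1)) :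
    a • s = 0 :=
  smul_eq_zero_of_epi π a
    (germ_smul_stalk_eq_zero M U.2 a (fun m => Module.mem_annihilator.mp ha m)) s

/-- A closed subscheme whose underlying set is contained in a set proper over `S` is proper
over `S`. -/
theorem isProper_of_range_subset {X S : Scheme.{u}} (f : X ⟶ S) [LocallyOfFiniteType f]
    (T : Set X) (hT : ClSub.IsProperOver f T) {Z : Scheme.{u}} (i : Z ⟶ X) [IsClosedImmersion i]
    (hr : Set.range i ⊆ T) : IsProper (i ≫ f) := by
  obtain ⟨hcl, hp⟩ := hT
  have hZcl : IsClosed (Set.range i) := i.isClosedEmbedding.isClosed_range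
  rw [← Groth.Agent.Lib.Helper25.ProperOver.isProperOver_iff_of_range_eq f i (Set.range i) rfl]
  refine ⟨hZcl, ?_⟩
  have hle : Scheme.IdealSheafData.vanishingIdeal ⟨T, hcl⟩ ≤
      Scheme.IdealSheafData.vanishingIdeal ⟨Set.range i, hZcl⟩ :=
    Scheme.IdealSheafData.vanishingIdeal_antimono
      (show (⟨Set.range i, hZcl⟩ : TopologicalSpace.Closeds X) ≤ ⟨T, hcl⟩ from hr)
  have e : (Scheme.IdealSheafData.vanishingIdeal ⟨Set.range i, hZcl⟩).subschemeι ≫ f =
      Scheme.IdealSheafData.inclusion hle ≫
        ((Scheme.IdealSheafData.vanishingIdeal ⟨T, hcl⟩).subschemeι ≫ f) := by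
    rw [← Category.assoc, Scheme.IdealSheafData.inclusion_subschemeι]
  rw [e]
  haveI := hp
  infer_instance

end Groth.Agent.Lib.Helper12.H12PS
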