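import Mathlib
import Groth.Agent.Lib.Helper12.PS2
import Groth.Agent.Lib.Helper12.PS4
import Groth.Agent.Lib.Helper12.FF10
import Groth.Agent.Lib.Helper12.ModCons1

/-! # Proper support, part 5: formal functions for coherent modules with proper support -/

set_option autoImplicit false
universe u
open CategoryTheory CategoryTheory.Limits AlgebraicGeometry TopologicalSpace Opposite

namespace Groth.Agent.Lib.Helper12.H12PS
open Groth.Agent.Lib.Helper12.H12FF

section Lim
variable {A : Type u} [CommRing A] (I : Ideal A) {X Z : Scheme.{u}}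
  [X.Over (Spec (CommRingCat.of A))] [Z.Over (Spec (CommRingCat.of A))]
  (M : X.Modules) (G : Z.Modules) (p : ℕ)

/-- an isomorphism of inverse systems induces an isomorphism of the limits -/
noncomputable def HHlimEquiv (en : ∀ n, Formal.HHmodPow I M p n ≃+ Formal.HHmodPow I G p n)
    (h2 : ∀ n y, en n (Formal.HHmodPowTrans I M p n y) =
      Formal.HHmodPowTrans I G p n (en (n + 1) y)) :
    Formal.HHlim I M p ≃+ Formal.HHlim I G p where
  toFun x := ⟨fun n => en n (x.1 n), fun n => by
    change Formal.HHmodPowTrans I G p n (en (n + 1) (x.1 (n + 1))) = en n (x.1 n)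
    rw [← h2, x.2 n]⟩
  invFun y := ⟨fun n => (en n).symm (y.1 n), fun n => by
    change Formal.HHmodPowTrans I M p n ((en (n + 1)).symm (y.1 (n + 1))) = (en n).symm (y.1 n)
    apply (en n).injective
    rw [h2, AddEquiv.apply_symm_apply, AddEquiv.apply_symm_apply, y.2 n]⟩
  left_inv x := by
    apply Subtype.ext
    funext n
    exact (en n).symm_apply_apply _
  right_inv y := by
    apply Subtype.ext
    funext n
    exact (en n).apply_symm_apply _
  map_add' x y := by
    apply Subtype.ext
    funext n
    exact map_add (en n) _ _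

theorem HHlimEquiv_toHHlim (en : ∀ n, Formal.HHmodPow I M p n ≃+ Formal.HHmodPow I G p n)
    (h2 : ∀ n y, en n (Formal.HHmodPowTrans I M p n y) =
      Formal.HHmodPowTrans I G p n (en (n + 1) y)) (e : Coh.HH X M p ≃+ Coh.HH Z G p)
    (h1 : ∀ n x, en n (Formal.toHHmodPow I M p n x) = Formal.toHHmodPow I G p n (e x))
    (x : Coh.HH X M p) :
    HHlimEquiv I M G p en h2 (Formal.toHHlim I M p x) = Formal.toHHlim I G p (e x) := by
  apply Subtype.ext
  funext n
  exact h1 n x

theorem toHHlim_bijective_of_transfer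
    (en : ∀ n, Formal.HHmodPow I M p n ≃+ Formal.HHmodPow I G p n)
    (h2 : ∀ n y, en n (Formal.HHmodPowTrans I M p n y) =
      Formal.HHmodPowTrans I G p n (en (n + 1) y)) (e : Coh.HH X M p ≃+ Coh.HH Z G p)
    (h1 : ∀ n x, en n (Formal.toHHmodPow I M p n x) = Formal.toHHmodPow I G p n (e x))
    (h : Function.Bijective (Formal.toHHlim I G p)) :
    Function.Bijective (Formal.toHHlim I M p) := by
  have hc := HHlimEquiv_toHHlim I M G p en h2 e h1
  constructor
  · intro x y hxy
    apply e.injective
    apply h.1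
    rw [← hc, ← hc, hxy]
  · intro y
    obtain ⟨z, hz⟩ := h.2 (HHlimEquiv I M G p en h2 y)
    refine ⟨e.symm z, ?_⟩
    apply (HHlimEquiv I M G p en h2).injective
    rw [hc, AddEquiv.apply_symm_apply, hz]

end Lim

section Final
variable (A : Type u) [CommRing A] [IsNoetherianRing A] (I : Ideal A) (X : Scheme.{u})
  [X.Over (Spec (CommRingCat.of A))] [LocallyOfFiniteType (X ↘ Spec (CommRingCat.of A))]
  (M : X.Modules) (hM : Coh.IsCoh M)
  (hs : ClSub.IsProperOver (X ↘ Spec (CommRingCat.of A)) (CohB1.support M)) (p : ℕ)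

include hM hs in
/-- **Formal functions for a coherent module with proper support** (both forms at once). -/
theorem formal_functions_proper_support :
    Nonempty (AdicCompletion I (Coh.HH X M p) ≃+ Formal.HHlim I M p) ∧
      (IsAdicComplete I A → Function.Bijective (Formal.toHHlim I M p)) := by
  haveI := hM.1
  haveI := hM.2
  let Z : Scheme.{u} := (annIdeal M).subscheme
  let i : Z ⟶ X := (annIdeal M).subschemeι
  letI : Z.Over (Spec (CommRingCat.of A)) := ⟨i ≫ (X ↘ Spec (CommRingCat.of A))⟩
  have hi : i ≫ (X ↘ Spec (CommRingCat.of A)) = Z ↘ Spec (CommRingCat.of A) := rfl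
  haveI : IsProper (Z ↘ Spec (CommRingCat.of A)) :=
    isProper_of_range_subset (X ↘ Spec (CommRingCat.of A)) _ hs i (by
      rw [Scheme.IdealSheafData.range_subschemeι]
      exact support_annIdeal_subset M)
  have hk : ∀ (N : X.Modules) (π : M ⟶ N), Epi π → ∀ (U : X.affineOpens) (a : Γ(X, U.1)),
      a ∈ i.ker.ideal U → ∀ s : Γ(N, U.1), a • s = 0 := by
    intro N π hπ U a ha s
    haveI := hπ
    rw [Scheme.IdealSheafData.ker_subschemeι] at ha
    exact killed_of_epi π U a ha s
  obtain ⟨e, en, h1, h2⟩ := exists_transfer A I i hi M hk p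
  have hG : Coh.IsCoh ((Scheme.Modules.pullback i).obj M) :=
    Groth.Agent.Lib.Helper12.H12ConsP.isCoh_pullback i M hM
  refine ⟨?_, fun hc => ?_⟩
  · obtain ⟨ff⟩ := formal_functions A I Z ((Scheme.Modules.pullback i).obj M) hG p
    exact ⟨((AdicCompletion.congr I e).toAddEquiv.trans ff).trans
      (HHlimEquiv I M _ p en h2).symm⟩
  · haveI := hc
    exact toHHlim_bijective_of_transfer I M _ p en h2 e.toAddEquiv h1
      (formal_functions_complete A I Z ((Scheme.Modules.pullback i).obj M) hG p)

end Final

end Groth.Agent.Lib.Helper12.H12PS
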