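import Mathlib
import Groth.Agent.Lib.Helper12.RP3
import Groth.Agent.Lib.Helper17.RpushRes
import Groth.Agent.Lib.Helper17.RestrKInj
import Groth.Agent.Lib.Helper28.DCohRes1
import Groth.Agent.Lib.Helper12.Fin8

/-! # Higher direct images commute with restriction to opens of the base; coherence -/

set_option autoImplicit false
universe u

open CategoryTheory CategoryTheory.Limits Opposite TopologicalSpace Abelian AlgebraicGeometry

namespace Groth.Agent.Lib.Helper12.H12RP

open Groth.Agent.Lib.Helper22 Groth.Agent.Lib.Helper5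

variable {X S : Scheme.{u}} (f : X ⟶ S) (V : S.Opens)

instance : (Scheme.Modules.restrictFunctor V.ι).Additive := by
  infer_instance

/-- **Higher direct images commute with restriction to an open of the base.** -/
noncomputable def RpushRestrictIso [HasInjectiveResolutions X.Modules]
    [HasInjectiveResolutions (f ⁻¹ᵁ V).toScheme.Modules] (q : ℕ) :
    Coh.Rpush f q ⋙ Scheme.Modules.restrictFunctor V.ι ≅
      Scheme.Modules.restrictFunctor (f ⁻¹ᵁ V).ι ⋙ Coh.Rpush (f ∣_ V) q := by
  haveI : EnoughInjectives X.Modules :=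
    Groth.Agent.S0485.result (Opens.grothendieckTopology X) X.ringCatSheaf
  haveI : EnoughInjectives (f ⁻¹ᵁ V).toScheme.Modules :=
    Groth.Agent.S0485.result (Opens.grothendieckTopology _) (f ⁻¹ᵁ V).toScheme.ringCatSheaf
  haveI : PreservesFiniteLimits (Scheme.Modules.pushforward (f ∣_ V)) := by
    haveI := (Scheme.Modules.pullbackPushforwardAdjunction (f ∣_ V)).rightAdjoint_preservesLimits
    infer_instance
  haveI : (Scheme.Modules.restrictFunctor V.ι).PreservesHomology :=
    Functor.preservesHomologyOfExact _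
  have e1 := (RDPost.rightDerivedPostIso (Scheme.Modules.pushforward f)
    (Scheme.Modules.restrictFunctor V.ι) q).symm
  have e2 := DimShift.rightDerivedIsoOfNatIso (Groth.Agent.Lib.Helper17.RpushRes.θ f V) q
  have e3 := PrecompDelta.rightDerivedPrecompIso (Scheme.Modules.restrictFunctor (f ⁻¹ᵁ V).ι)
    (Scheme.Modules.pushforward (f ∣_ V))
    (fun I hI n => by
      haveI := hI
      haveI : Injective ((Scheme.Modules.restrictFunctor (f ⁻¹ᵁ V).ι).obj I) :=
        Groth.Agent.Lib.Helper17.RestrKInj.injective_restrict (f ⁻¹ᵁ V) I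
      exact Functor.isZero_rightDerived_obj_injective_succ _ n _) q
  exact e1 ≪≫ e2 ≪≫ e3

lemma module_finite_of_semilinear_equiv {A R T T' : Type*} [CommRing A] [CommRing R]
    [AddCommGroup T] [AddCommGroup T'] [Module A T] [Module R T'] (σ : R →+* A)
    (hσ : Function.Surjective σ) (e : T ≃+ T') (he : ∀ r x, e (σ r • x) = r • e x)
    [Module.Finite A T] : Module.Finite R T' := by
  letI : Module R T := Module.compHom T σ
  let l : T →ₗ[R] T' :=
    { toFun := e
      map_add' := e.map_add
      map_smul' := fun r x => he r x }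
  haveI : Module.Finite R T := by
    obtain ⟨s, hs⟩ := (Module.finite_def (R := A) (M := T)).1 inferInstance
    refine Module.finite_def.2 ⟨s, ?_⟩
    rw [eq_top_iff]
    intro x hx0
    clear hx0
    have hx : x ∈ Submodule.span A (s : Set T) := by rw [hs]; trivial
    induction hx using Submodule.span_induction with
    | mem x hx => exact Submodule.subset_span hx
    | zero => exact Submodule.zero_mem _
    | add x y _ _ hx hy => exact Submodule.add_mem _ hx hy
    | smul a x _ hx =>
      obtain ⟨r, rfl⟩ := hσ a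
      exact Submodule.smul_mem _ r hx
  exact Module.Finite.of_surjective l e.surjective

/-- **Coherence of the higher direct images** of a coherent module along a proper morphism to a
locally Noetherian scheme. -/
theorem isCoh_Rpush_of_isProper [IsProper f] [IsLocallyNoetherian S]
    [HasInjectiveResolutions X.Modules] (M : X.Modules) (hM : Coh.IsCoh M) (i : ℕ) :
    Coh.IsCoh ((Coh.Rpush f i).obj M) := by
  haveI := hM.1
  haveI : ((Coh.Rpush f i).obj M).IsQuasicoherent := Groth.Agent.S0030.result f M i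
  refine ⟨inferInstance, Groth.Agent.Lib.Helper29.QCoh.isFiniteType_of_module_finite _
    (fun V : S.affineOpens => (V : S.Opens)) (Groth.Agent.Lib.Helper29.QCoh.isOpenCover_affineOpens S) (fun V => V.2)
    (fun V => ?_)⟩
  obtain ⟨V, hV⟩ := V
  change Module.Finite ↑Γ(S, V) (Γ((Coh.Rpush f i).obj M, V) : Type u)
  haveI : EnoughInjectives (f ⁻¹ᵁ V).toScheme.Modules :=
    Groth.Agent.S0485.result (Opens.grothendieckTopology _) (f ⁻¹ᵁ V).toScheme.ringCatSheaf
  haveI : HasInjectiveResolutions (f ⁻¹ᵁ V).toScheme.Modules := inferInstance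
  let ρ := (RpushRestrictIso f V i).app M
  haveI : IsAffine V.toScheme := hV
  haveI : IsNoetherianRing ↑Γ(S, V) := IsLocallyNoetherian.component_noetherian ⟨V, hV⟩
  haveI : IsNoetherianRing ↑Γ(V.toScheme, ⊤) :=
    isNoetherianRing_of_ringEquiv ↑Γ(S, V) V.topIso.commRingCatIsoToRingEquiv.symm
  haveI : IsProper (f ∣_ V) := inferInstance
  have hfin := module_finite_sections_Rpush_of_isAffine (f ∣_ V) (M.restrict (f ⁻¹ᵁ V).ι)
    (Groth.Agent.Lib.Helper12.H12Fin.isCoh_restrict _ M hM) i
  let N := (Coh.Rpush f i).obj M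
  -- sections over `⊤` of the restriction
  have hsurj : Function.Surjective (ρ.inv.app ⊤).hom := by
    intro y
    refine ⟨(ρ.hom.app ⊤).hom y, ?_⟩
    have h : ρ.hom.app ⊤ ≫ ρ.inv.app ⊤ = 𝟙 _ := by
      rw [← Scheme.Modules.Hom.comp_app, ρ.hom_inv_id]
      rfl
    exact ConcreteCategory.congr_hom h y
  let l : (Γ((Coh.Rpush (f ∣_ V) i).obj (M.restrict (f ⁻¹ᵁ V).ι), ⊤) : Type u) →ₗ[↑Γ(V.toScheme, ⊤)]
      (Γ(N.restrict V.ι, ⊤) : Type u) :=
    { toFun := (ρ.inv.app ⊤).hom
      map_add' := (ρ.inv.app ⊤).hom.map_add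
      map_smul' := fun r x => Scheme.Modules.Hom.app_smul ρ.inv r x }
  haveI hT : Module.Finite ↑Γ(V.toScheme, ⊤) (Γ(N.restrict V.ι, ⊤) : Type u) :=
    Module.Finite.of_surjective l hsurj
  refine module_finite_of_semilinear_equiv (A := ↑Γ(V.toScheme, ⊤)) (R := ↑Γ(S, V))
    (T := (Γ(N.restrict V.ι, ⊤) : Type u)) V.topIso.inv.hom ?_
    (Groth.Agent.Lib.Helper12.H12Fin.restrictTopEquiv V N) ?_
  · intro a
    refine ⟨V.topIso.hom.hom a, ?_⟩
    exact ConcreteCategory.congr_hom V.topIso.hom_inv_id a
  · intro r x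
    exact Groth.Agent.Lib.Helper12.H12Fin.restrictTopEquiv_smul V N r x

end Groth.Agent.Lib.Helper12.H12RP
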