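import Mathlib

set_option autoImplicit false
universe u

namespace H12S19488

open CategoryTheory CategoryTheory.Limits AlgebraicGeometry

/-- right exact additive functors between abelian categories: kernel comparison of an epi is epi -/
theorem epi_kernelComparison {C D : Type*} [Category C] [Category D] [Abelian C] [Abelian D]
    (F : C ⥤ D) [F.Additive] [PreservesFiniteColimits F] {X Y : C} (ψ : X ⟶ Y) [Epi ψ] :
    Epi (kernelComparison ψ F) := by
  let S : ShortComplex C := ShortComplex.mk (kernel.ι ψ) ψ (kernel.condition ψ)
  have hS : S.Exact := ShortComplex.exact_kernel ψ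
  have hS' : (S.map F).Exact :=
    hS.map_of_epi_of_preservesCokernel F (inferInstanceAs (Epi ψ)) inferInstance
  have := (ShortComplex.exact_iff_epi_kernel_lift (S.map F)).mp hS'
  exact this

variable {S T : Scheme.{u}} (f : S ⟶ T)

theorem pushforward_faithful (hf : Topology.IsInducing f) {E Q : S.Modules} (h1 h2 : E ⟶ Q)
    (h : (Scheme.Modules.pushforward f).map h1 = (Scheme.Modules.pushforward f).map h2) :
    h1 = h2 := by
  apply Scheme.Modules.hom_ext
  intro U
  obtain ⟨t, ht, htU⟩ := hf.isOpen_iff.mp U.2
  let V : T.Opens := ⟨t, ht⟩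
  have hV : f ⁻¹ᵁ V = U := by
    apply TopologicalSpace.Opens.ext
    exact htU
  subst hV
  have := congrArg (fun φ => Scheme.Modules.Hom.app φ V) h
  simpa [Scheme.Modules.pushforward_map_app] using this

theorem main [IsClosedImmersion f] (G : T.Modules) (E : S.Modules)
    (ψ : G ⟶ (Scheme.Modules.pushforward f).obj E) [Epi ψ] :
    Epi (((Scheme.Modules.pullbackPushforwardAdjunction f).homEquiv G E).symm ψ) ∧
      Epi (kernelComparison ψ (Scheme.Modules.pullback f)) := by
  refine ⟨⟨fun {Q} h1 h2 h => ?_⟩, ?_⟩
  · apply pushforward_faithful f f.isEmbedding.isInducing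
    rw [← cancel_epi ψ]
    have e1 := (Scheme.Modules.pullbackPushforwardAdjunction f).homEquiv_naturality_right
      (((Scheme.Modules.pullbackPushforwardAdjunction f).homEquiv G E).symm ψ) h1
    have e2 := (Scheme.Modules.pullbackPushforwardAdjunction f).homEquiv_naturality_right
      (((Scheme.Modules.pullbackPushforwardAdjunction f).homEquiv G E).symm ψ) h2
    rw [Equiv.apply_symm_apply] at e1 e2
    rw [← e1, ← e2, h]
  · haveI : PreservesFiniteColimits (Scheme.Modules.pullback f) := by
      haveI := (Scheme.Modules.pullbackPushforwardAdjunction f).leftAdjoint_preservesColimits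
      infer_instance
    exact epi_kernelComparison _ ψ

end H12S19488
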