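import Mathlib
import Groth.Agent.Lib.Helper21.RegularLocal

/-!
# Quotients of regular (local) rings by elements detected by derivations
-/

set_option autoImplicit false

namespace Groth.Agent.Lib.Helper12

open IsLocalRing

universe u

/-- A derivation maps `p ^ 2` into `p`. -/
theorem derivation_mem_of_mem_sq {R : Type*} [CommRing R] (D : Derivation ℤ R R) (p : Ideal R)
    {a : R} (ha : a ∈ p ^ 2) : D a ∈ p := by
  rw [pow_two] at ha
  refine Submodule.mul_induction_on ha ?_ ?_
  · intro m hm n hn
    rw [Derivation.leibniz]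
    exact p.add_mem (p.mul_mem_right _ hm) (p.mul_mem_right _ hn)
  · intro x y hx hy
    rw [map_add]
    exact p.add_mem hx hy

/-- In a regular local ring, the quotient by `x ∈ 𝔪 \ 𝔪²` is regular. -/
theorem isRegularLocalRing_quotient_singleton {R : Type u} [CommRing R] [IsRegularLocalRing R]
    {x : R} (hx : x ∈ maximalIdeal R) (hx2 : x ∉ maximalIdeal R ^ 2) :
    IsRegularLocalRing (R ⧸ Ideal.span {x}) := by
  have hdom := Groth.Agent.Lib.Helper21.isDomain_of_isRegularLocalRing R
  refine (Groth.Agent.Lib.Helper21.isRegularLocalRing_quotient_of_notMem_sq hx hx2 ?_).1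
  intro p hp
  rw [IsDomain.minimalPrimes_eq_singleton_bot, Set.mem_singleton_iff] at hp
  rw [hp]
  intro h0
  apply hx2
  rw [Ideal.mem_bot] at h0
  rw [h0]
  exact Ideal.zero_mem _

/-- The localization of a quotient `R ⧸ I` at a prime `P` is the quotient of the localization
of `R` at the contraction of `P`. -/
theorem nonempty_ringEquiv_localization_quotient {R : Type u} [CommRing R] (I : Ideal R)
    (P : Ideal (R ⧸ I)) [P.IsPrime] :
    Nonempty (Localization.AtPrime P ≃+*
      (Localization.AtPrime (P.comap (Ideal.Quotient.mk I)) ⧸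
        I.map (algebraMap R (Localization.AtPrime (P.comap (Ideal.Quotient.mk I)))))) := by
  set p := P.comap (Ideal.Quotient.mk I) with hp
  have hM : Algebra.algebraMapSubmonoid (R ⧸ I) p.primeCompl = P.primeCompl := by
    ext y
    constructor
    · rintro ⟨r, hr, rfl⟩
      exact hr
    · intro hy
      obtain ⟨r, rfl⟩ := Ideal.Quotient.mk_surjective y
      exact ⟨r, hy, rfl⟩
  have h1 : IsLocalization (Algebra.algebraMapSubmonoid (R ⧸ I) p.primeCompl)
      (Localization.AtPrime p ⧸ I.map (algebraMap R (Localization.AtPrime p))) := inferInstance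
  rw [hM] at h1
  exact ⟨(IsLocalization.algEquiv P.primeCompl (Localization.AtPrime P)
    (Localization.AtPrime p ⧸ I.map (algebraMap R (Localization.AtPrime p)))).toRingEquiv⟩

/-- Key step: if `f ∈ p`, `p` prime and `D f` is a unit modulo `f`, then the image of `f` in
`R_p` does not lie in the square of the maximal ideal. -/
theorem algebraMap_notMem_sq_of_derivation {R : Type u} [CommRing R] (f : R)
    (D : Derivation ℤ R R) (hD : IsUnit (Ideal.Quotient.mk (Ideal.span {f}) (D f)))
    (p : Ideal R) [p.IsPrime] (hfp : f ∈ p) :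
    algebraMap R (Localization.AtPrime p) f ∉ maximalIdeal (Localization.AtPrime p) ^ 2 := by
  intro hmem
  rw [← Localization.AtPrime.map_eq_maximalIdeal, ← Ideal.map_pow,
    IsLocalization.mem_map_algebraMap_iff p.primeCompl] at hmem
  obtain ⟨⟨⟨a, ha⟩, ⟨s, hs⟩⟩, h⟩ := hmem
  simp only at h
  rw [← map_mul, IsLocalization.eq_iff_exists p.primeCompl] at h
  obtain ⟨⟨u, hu⟩, hus⟩ := h
  simp only at hus
  -- `u * (f * s) = u * a ∈ p ^ 2`
  have h1 : u * (f * s) ∈ p ^ 2 := by
    rw [hus]
    exact Ideal.mul_mem_left _ _ ha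
  have h2 := derivation_mem_of_mem_sq D p h1
  have hus' : u * s ∉ p := fun h => (Ideal.IsPrime.mem_or_mem ‹p.IsPrime› h).elim hu hs
  have h3 : u * (f * s) = f * (u * s) := by ring
  rw [h3, Derivation.leibniz, smul_eq_mul, smul_eq_mul] at h2
  have h4 : (u * s) * D f ∈ p := by
    have := (Ideal.add_mem_iff_right p (p.mul_mem_right _ hfp)).mp h2
    exact this
  have h5 : D f ∈ p := (Ideal.IsPrime.mem_or_mem ‹p.IsPrime› h4).resolve_left hus'
  obtain ⟨g, hg⟩ := hD.exists_right_inv
  obtain ⟨g, rfl⟩ := Ideal.Quotient.mk_surjective g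
  rw [← map_mul, ← map_one (Ideal.Quotient.mk (Ideal.span {f})), Ideal.Quotient.eq] at hg
  have h6 : D f * g - 1 ∈ p := by
    have hle : Ideal.span {f} ≤ p := (Ideal.span_singleton_le_iff_mem _).mpr hfp
    exact hle hg
  have h7 : (1 : R) ∈ p := by
    have := p.sub_mem (p.mul_mem_right g h5) h6
    simpa using this
  exact (Ideal.IsPrime.ne_top ‹p.IsPrime›) ((Ideal.eq_top_iff_one p).mpr h7)

/-- Let `R` be a regular ring, `f ∈ R` and `D` a derivation with `D f` a unit modulo `f`.
Then `R ⧸ (f)` is regular. -/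
theorem isRegularRing_quotient_of_derivation_unit (R : Type u) [CommRing R] [IsRegularRing R]
    (f : R) (D : Derivation ℤ R R)
    (hD : IsUnit (Ideal.Quotient.mk (Ideal.span {f}) (D f))) :
    IsRegularRing (R ⧸ Ideal.span ({f} : Set R)) := by
  rw [isRegularRing_iff]
  intro P hP
  set p := P.comap (Ideal.Quotient.mk (Ideal.span {f})) with hp
  have hfp : f ∈ p := by
    rw [hp, Ideal.mem_comap]
    have : Ideal.Quotient.mk (Ideal.span {f}) f = 0 :=
      Ideal.Quotient.eq_zero_iff_mem.mpr (Ideal.subset_span rfl)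
    rw [this]
    exact Ideal.zero_mem _
  obtain ⟨e⟩ := nonempty_ringEquiv_localization_quotient (Ideal.span {f}) P
  have hx : algebraMap R (Localization.AtPrime p) f ∈ maximalIdeal (Localization.AtPrime p) := by
    rw [← Localization.AtPrime.map_eq_maximalIdeal]
    exact Ideal.mem_map_of_mem _ hfp
  have hx2 := algebraMap_notMem_sq_of_derivation f D hD p hfp
  have hreg := isRegularLocalRing_quotient_singleton hx hx2
  have hmap : (Ideal.span {f}).map (algebraMap R (Localization.AtPrime p)) =
      Ideal.span {algebraMap R (Localization.AtPrime p) f} := by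
    rw [Ideal.map_span, Set.image_singleton]
  rw [hmap] at e
  exact IsRegularLocalRing.of_ringEquiv e.symm

end Groth.Agent.Lib.Helper12
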