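import Mathlib
import Groth.Agent.Lib.Helper12.RegularQuot

/-!
# Quotients of regular local rings by part of a regular system of parameters
-/

set_option autoImplicit false

namespace Groth.Agent.Lib.Helper12

open IsLocalRing Pointwise

universe u

/-- If `f₁, …, fₘ ∈ 𝔪` are linearly independent modulo `𝔪²` in a regular local ring `R`, then
`R ⧸ (f₁, …, fₘ)` is regular local and `f₁, …, fₘ` is a regular sequence. -/
theorem isRegularLocalRing_quotient_and_isRegular_of_indep (m : ℕ) :
    ∀ (R : Type u) [CommRing R] [IsRegularLocalRing R] (f : Fin m → R),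
      (∀ i, f i ∈ maximalIdeal R) →
      (∀ a : Fin m → R, ∑ j, a j * f j ∈ maximalIdeal R ^ 2 → ∀ j, a j ∈ maximalIdeal R) →
      IsRegularLocalRing (R ⧸ Ideal.span (Set.range f)) ∧
        RingTheory.Sequence.IsRegular R (List.ofFn f) := by
  induction m with
  | zero =>
    intro R _ _ f _ _
    constructor
    · have h0 : Ideal.span (Set.range f) = ⊥ := by
        rw [Set.range_eq_empty f, Ideal.span_empty]
      have e : R ≃+* R ⧸ Ideal.span (Set.range f) :=
        (RingEquiv.quotientBot R).symm.trans (Ideal.quotEquivOfEq h0.symm)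
      exact IsRegularLocalRing.of_ringEquiv e
    · rw [List.ofFn_zero]
      exact RingTheory.Sequence.IsRegular.nil R R
  | succ n ih =>
    intro R _ _ f hf hind
    have hdom := Groth.Agent.Lib.Helper21.isDomain_of_isRegularLocalRing R
    set r := f 0 with hr
    have hrm : r ∈ maximalIdeal R := hf 0
    have hr2 : r ∉ maximalIdeal R ^ 2 := by
      intro h
      have h1 := hind (Pi.single 0 1) (by
        rw [Finset.sum_eq_single 0]
        · simpa using h
        · intro j _ hj
          simp [Pi.single_eq_of_ne hj]
        · simp) 0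
      rw [Pi.single_eq_same] at h1
      exact (Ideal.ne_top_iff_one _).mp (maximalIdeal.isMaximal R).ne_top h1
    have hr0 : r ≠ 0 := by
      intro h0
      apply hr2
      rw [h0]
      exact Ideal.zero_mem _
    have hreg : IsRegularLocalRing (R ⧸ Ideal.span {r}) :=
      isRegularLocalRing_quotient_singleton hrm hr2
    let mk := Ideal.Quotient.mk (Ideal.span {r})
    have hmk : Function.Surjective mk := Ideal.Quotient.mk_surjective
    have hmax : maximalIdeal (R ⧸ Ideal.span {r}) = (maximalIdeal R).map mk :=
      Groth.Agent.Lib.Helper21.maximalIdeal_quotient_eq_map _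
    let f' : Fin n → R ⧸ Ideal.span {r} := fun j => mk (f j.succ)
    have hf' : ∀ j, f' j ∈ maximalIdeal (R ⧸ Ideal.span {r}) := by
      intro j
      rw [hmax]
      exact Ideal.mem_map_of_mem _ (hf j.succ)
    have hind' : ∀ a : Fin n → R ⧸ Ideal.span {r},
        ∑ j, a j * f' j ∈ maximalIdeal (R ⧸ Ideal.span {r}) ^ 2 →
          ∀ j, a j ∈ maximalIdeal (R ⧸ Ideal.span {r}) := by
      intro a' ha'
      choose a haa using fun j => hmk (a' j)
      rw [hmax, ← Ideal.map_pow, Ideal.mem_map_iff_of_surjective mk hmk] at ha'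
      obtain ⟨c, hc, hc'⟩ := ha'
      have h1 : mk (∑ j, a j * f j.succ) = ∑ j, a' j * f' j := by
        rw [map_sum]
        refine Finset.sum_congr rfl fun j _ => ?_
        rw [map_mul, haa]
      have h2 : ∑ j, a j * f j.succ - c ∈ Ideal.span {r} := by
        rw [← Ideal.Quotient.eq, h1, hc']
      obtain ⟨b, hb⟩ := Ideal.mem_span_singleton'.mp h2
      have h3 := hind (Fin.cons (-b) a) (by
        rw [Fin.sum_univ_succ]
        simp only [Fin.cons_zero, Fin.cons_succ]
        have : -b * f 0 + ∑ j, a j * f j.succ = c := by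
          rw [← hr, neg_mul, hb]
          ring
        rw [this]
        exact hc)
      intro j
      have := h3 j.succ
      rw [Fin.cons_succ] at this
      rw [hmax, ← haa j]
      exact Ideal.mem_map_of_mem _ this
    obtain ⟨hRLR, hRS⟩ := ih (R ⧸ Ideal.span {r}) f' hf' hind'
    constructor
    · -- ring equivalence
      have hJ : (Ideal.span (Set.range fun j : Fin n => f j.succ)).map mk =
          Ideal.span (Set.range f') := by
        rw [Ideal.map_span, ← Set.range_comp]
        rfl
      have hsup : Ideal.span {r} ⊔ Ideal.span (Set.range fun j : Fin n => f j.succ) =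
          Ideal.span (Set.range f) := by
        rw [← Ideal.span_union]
        congr 1
        ext y
        constructor
        · rintro (hy | ⟨j, rfl⟩)
          · exact ⟨0, hy.symm⟩
          · exact ⟨j.succ, rfl⟩
        · rintro ⟨i, rfl⟩
          refine Fin.cases ?_ (fun j => ?_) i
          · left
            rfl
          · right
            exact ⟨j, rfl⟩
      have e1 : (R ⧸ Ideal.span {r}) ⧸ Ideal.span (Set.range f') ≃+*
          R ⧸ Ideal.span (Set.range f) :=
        ((Ideal.quotEquivOfEq hJ.symm).trans
          (DoubleQuot.quotQuotEquivQuotSup (Ideal.span {r})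
            (Ideal.span (Set.range fun j : Fin n => f j.succ)))).trans
          (Ideal.quotEquivOfEq hsup)
      exact IsRegularLocalRing.of_ringEquiv e1
    · rw [List.ofFn_succ, RingTheory.Sequence.isRegular_cons_iff]
      refine ⟨(_root_.IsRegular.of_ne_zero hr0).left.isSMulRegular, ?_⟩
      have h : r • (⊤ : Submodule R R) = Ideal.span {r} := by
        simp [← Submodule.ideal_span_singleton_smul]
      let e : QuotSMulTop r R ≃ₗ[R] R ⧸ Ideal.span {r} := Submodule.quotEquivOfEq _ _ h
      have hx'eq : List.ofFn f' = (List.ofFn fun i => f i.succ).map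
          (Ideal.Quotient.mk (Ideal.span {r})) := by
        rw [List.map_ofFn]
        rfl
      rw [hx'eq] at hRS
      refine (AddEquiv.isRegular_congr (e := e.toAddEquiv) ?_).mpr hRS
      refine List.forall₂_map_right_iff.mpr (List.forall₂_same.mpr fun a _ y => ?_)
      change e (a • y) = _
      rw [e.map_smul, ← Ideal.Quotient.algebraMap_eq, algebraMap_smul]
      rfl

/-- Jacobian criterion: if `det (Dᵢ fⱼ)` is a unit, then the `fⱼ` are linearly independent
modulo `𝔪²`. -/
theorem indep_of_det_unit {R : Type u} [CommRing R] [IsLocalRing R] (m : ℕ) (f : Fin m → R)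
    (hf : ∀ i, f i ∈ maximalIdeal R) (D : Fin m → Derivation ℤ R R)
    (hdet : IsUnit (Matrix.det (Matrix.of (fun i j : Fin m => D i (f j)))))
    (a : Fin m → R) (ha : ∑ j, a j * f j ∈ maximalIdeal R ^ 2) (j : Fin m) :
    a j ∈ maximalIdeal R := by
  set M : Matrix (Fin m) (Fin m) R := Matrix.of (fun i j : Fin m => D i (f j)) with hM
  have h1 : ∀ i, (M.mulVec a) i ∈ maximalIdeal R := by
    intro i
    have h2 := derivation_mem_of_mem_sq (D i) (maximalIdeal R) ha
    rw [map_sum] at h2
    have h3 : ∑ j, D i (a j * f j) = ∑ j, f j * D i (a j) + M.mulVec a i := by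
      rw [Matrix.mulVec, dotProduct, ← Finset.sum_add_distrib]
      refine Finset.sum_congr rfl fun j _ => ?_
      rw [Derivation.leibniz, smul_eq_mul, smul_eq_mul, hM, Matrix.of_apply]
      ring
    rw [h3] at h2
    refine (Ideal.add_mem_iff_right _ ?_).mp h2
    exact Ideal.sum_mem _ fun j _ => Ideal.mul_mem_right _ _ (hf j)
  have h4 : a = M⁻¹.mulVec (M.mulVec a) := by
    rw [Matrix.mulVec_mulVec, Matrix.nonsing_inv_mul M hdet, Matrix.one_mulVec]
  rw [h4]
  rw [Matrix.mulVec, dotProduct]
  exact Ideal.sum_mem _ fun i _ => Ideal.mul_mem_left _ _ (h1 i)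

end Groth.Agent.Lib.Helper12
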