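import Mathlib
import Groth.Prelude.Def_EGA4b

/-! Normal rings (all localizations at primes are integrally closed domains): basic permanence. -/

set_option autoImplicit false
universe u

namespace Groth.Agent.Lib.Helper12.Normal

open CAlg

theorem isNormalRing_of_domain (D : Type u) [CommRing D] [IsDomain D] [IsIntegrallyClosed D] :
    EGA4.IsNormalRing D := by
  intro p hp
  exact ⟨inferInstance, isIntegrallyClosed_of_isLocalization (Localization.AtPrime p)
    p.primeCompl p.primeCompl_le_nonZeroDivisors⟩

/-- If every prime `P` of `R` comes from a normal localization `T` of `R`, then `R` is normal. -/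
theorem isNormalRing_of_cover (R : Type u) [CommRing R]
    (h : ∀ (P : Ideal R) [P.IsPrime], ∃ (T : Type u) (_ : CommRing T) (_ : Algebra R T)
      (M : Submonoid R), IsLocalization M T ∧ EGA4.IsNormalRing T ∧ Disjoint (M : Set R) P) :
    EGA4.IsNormalRing R := by
  intro P hP
  obtain ⟨T, _, _, M, hloc, hT, hd⟩ := h P
  have hq : (P.map (algebraMap R T)).IsPrime := IsLocalization.isPrime_of_isPrime_disjoint M T P hP hd
  have hc : (P.map (algebraMap R T)).comap (algebraMap R T) = P :=
    IsLocalization.under_map_of_isPrime_disjoint M T hP hd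
  haveI hloc2 : IsLocalization.AtPrime (Localization.AtPrime (P.map (algebraMap R T)))
      ((P.map (algebraMap R T)).comap (algebraMap R T)) :=
    IsLocalization.isLocalization_isLocalization_atPrime_isLocalization M _ (P.map (algebraMap R T))
  have hloc3 : IsLocalization.AtPrime (Localization.AtPrime (P.map (algebraMap R T))) P := by
    convert hloc2 using 1
    all_goals try exact hc.symm
  let e : Localization.AtPrime P ≃ₐ[R] Localization.AtPrime (P.map (algebraMap R T)) :=
    IsLocalization.algEquiv P.primeCompl _ _
  obtain ⟨h1, h2⟩ := hT (P.map (algebraMap R T))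
  exact ⟨e.toMulEquiv.isDomain _, IsIntegrallyClosed.of_equiv e.symm.toRingEquiv⟩

theorem isNormalRing_pi {ι : Type u} [Finite ι] (A : ι → Type u) [∀ i, CommRing (A i)]
    (hA : ∀ i, EGA4.IsNormalRing (A i)) : EGA4.IsNormalRing (∀ i, A i) := by
  classical
  cases nonempty_fintype ι
  apply isNormalRing_of_cover
  intro P hP
  have : ∃ j, (Pi.single j (1 : A j) : ∀ i, A i) ∉ P := by
    by_contra hcon
    push Not at hcon
    apply hP.ne_top
    rw [Ideal.eq_top_iff_one]
    have : (1 : ∀ i, A i) = ∑ j, Pi.single j (1 : A j) := by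
      rw [Finset.univ_sum_single]; rfl
    rw [this]
    exact Ideal.sum_mem _ fun j _ => hcon j
  obtain ⟨j, hj⟩ := this
  letI : Algebra (∀ i, A i) (A j) := (Pi.evalRingHom A j).toAlgebra
  have hloc : IsLocalization.Away (Pi.single j (1 : A j)) (A j) := by
    apply IsLocalization.away_of_isIdempotentElem
    · simp [IsIdempotentElem, ← Pi.single_mul_left]
    · apply RingHom.ker_evalRingHom
    · apply (Pi.evalRingHom A j).surjective
  refine ⟨A j, inferInstance, inferInstance, Submonoid.powers (Pi.single j (1 : A j)), hloc, hA j, ?_⟩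
  rw [Set.disjoint_left]
  rintro x ⟨n, rfl⟩ hx
  exact hj (hP.mem_of_pow_mem n hx)

open Polynomial in
theorem isNormalRing_polynomial (R : Type u) [CommRing R] (hR : EGA4.IsNormalRing R) :
    EGA4.IsNormalRing R[X] := by
  apply isNormalRing_of_cover
  intro P hP
  haveI hp : (P.comap (C : R →+* R[X])).IsPrime := Ideal.comap_isPrime _ _
  obtain ⟨h1, h2⟩ := hR (P.comap (C : R →+* R[X]))
  letI := Polynomial.algebra R (Localization.AtPrime (P.comap (C : R →+* R[X])))
  have hloc := Polynomial.isLocalization (P.comap (C : R →+* R[X])).primeCompl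
    (Localization.AtPrime (P.comap (C : R →+* R[X])))
  refine ⟨(Localization.AtPrime (P.comap (C : R →+* R[X])))[X], inferInstance, inferInstance, _, hloc,
    isNormalRing_of_domain _, ?_⟩
  rw [Set.disjoint_left]
  rintro x ⟨r, hr, rfl⟩ hx
  exact hr hx

end Groth.Agent.Lib.Helper12.Normal
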