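import Mathlib.AlgebraicGeometry.Morphisms.FlatDescent
import Mathlib.AlgebraicGeometry.Morphisms.ClosedImmersion
import Mathlib.AlgebraicGeometry.Morphisms.Separated

set_option autoImplicit false
universe u

namespace Groth.Agent.Lib.Helper12

open CategoryTheory AlgebraicGeometry CategoryTheory.Limits MorphismProperty

theorem isClosedImmersion_SpecMap_iff {R S : CommRingCat.{u}} (f : R ⟶ S) :
    IsClosedImmersion (Spec.map f) ↔ Function.Surjective f.hom := by
  constructor
  · intro h
    have h2 := (IsClosedImmersion.isAffine_surjective_of_isAffine (Spec.map f)).2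
    intro s
    obtain ⟨r, hr⟩ := h2 ((Scheme.ΓSpecIso S).inv s)
    refine ⟨(Scheme.ΓSpecIso R).hom r, ?_⟩
    have nat := Scheme.ΓSpecIso_naturality f
    have h3 : ((Spec.map f).appTop ≫ (Scheme.ΓSpecIso S).hom) r =
        ((Scheme.ΓSpecIso R).hom ≫ f) r := by rw [nat]
    rw [CommRingCat.comp_apply, CommRingCat.comp_apply, hr] at h3
    rw [← h3]
    simp
  · intro h
    exact IsClosedImmersion.spec_of_surjective f h

/-- Being a closed immersion satisfies fpqc descent. -/
theorem descendsAlong_isClosedImmersion :
    DescendsAlong @IsClosedImmersion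
      (@Surjective ⊓ @Flat ⊓ @QuasiCompact : MorphismProperty Scheme.{u}) := by
  apply IsZariskiLocalAtTarget.descendsAlong_inf_quasiCompact
  · rw [inf_comm]
    exact inf_le_inf le_rfl (IsLocalIso.le_of_isZariskiLocalAtSource _)
  intro R S Y φ g h (hfst : IsClosedImmersion _)
  have : IsAffine Y :=
    have : UniversallyInjective g :=
      of_pullback_fst_of_descendsAlong (P := @UniversallyInjective) (f := Spec.map φ)
        (Q := @Surjective ⊓ @Flat ⊓ @QuasiCompact) ⟨h, inferInstance⟩ inferInstance
    have : UniversallyClosed g :=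
      of_pullback_fst_of_descendsAlong (P := @UniversallyClosed) (f := Spec.map φ)
        (Q := @Surjective ⊓ @Flat ⊓ @QuasiCompact) ⟨h, inferInstance⟩ inferInstance
    have hce : Topology.IsClosedEmbedding g :=
      .of_continuous_injective_isClosedMap g.continuous g.injective g.isClosedMap
    have : IsAffineHom g := isAffineHom_of_isInducing g hce.isInducing hce.isClosed_range
    isAffine_of_isAffineHom g
  wlog hY : ∃ T, Y = Spec T generalizing Y
  · rw [← MorphismProperty.cancel_left_of_respectsIso @IsClosedImmersion Y.isoSpec.inv]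
    have heq : pullback.fst (Spec.map φ) (Y.isoSpec.inv ≫ g) =
      pullback.map _ _ _ _ (𝟙 _) (Y.isoSpec.inv) (𝟙 _) (by simp) (by simp) ≫
        pullback.fst (Spec.map φ) g := (pullback.lift_fst _ _ _).symm
    refine this _ ?_ inferInstance ⟨_, rfl⟩
    rw [heq]
    infer_instance
  obtain ⟨T, rfl⟩ := hY
  obtain ⟨ψ, rfl⟩ := Spec.map_surjective g
  refine of_pullback_fst_Spec_of_codescendsAlong (P := @IsClosedImmersion)
      (Q' := RingHom.FaithfullyFlat) (Q := fun f ↦ Function.Surjective f) (P' := @Surjective ⊓ @Flat)
      RingHom.FaithfullyFlat.codescendsAlong_surjective ?_ ?_ h hfst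
  · intro _ _ f hf
    rwa [← flat_and_surjective_SpecMap_iff, and_comm]
  · intro _ _ f
    exact isClosedImmersion_SpecMap_iff f

end Groth.Agent.Lib.Helper12
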