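import Mathlib
import Groth.Prelude.Def_EGA4b

/-! Normal rings: homogenised integrality criterion, total ring of fractions, directed colimits. -/

set_option autoImplicit false
universe u

namespace Groth.Agent.Lib.Helper12.Normal2

open CAlg Polynomial

section criterion

variable {D : Type*} [CommRing D] [IsDomain D]

theorem dvd_of_scaleRoots [IsIntegrallyClosed D] {a b : D} (hb : b ≠ 0) {p : D[X]} (hp : p.Monic)
    (h : (p.scaleRoots b).eval a = 0) : b ∣ a := by
  have hfb : algebraMap D (FractionRing D) b ≠ 0 := by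
    intro h0
    exact hb ((IsFractionRing.injective D (FractionRing D)) (by rw [h0, map_zero]))
  have h1 := scaleRoots_eval₂_mul (p := p) (algebraMap D (FractionRing D))
    (algebraMap D (FractionRing D) a / algebraMap D (FractionRing D) b) b
  rw [mul_div_cancel₀ _ hfb, eval₂_at_apply, h, map_zero] at h1
  have h2 : eval₂ (algebraMap D (FractionRing D))
      (algebraMap D (FractionRing D) a / algebraMap D (FractionRing D) b) p = 0 := by
    rcases mul_eq_zero.mp h1.symm with h3 | h3
    · exact absurd (eq_zero_of_pow_eq_zero h3) hfb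
    · exact h3
  have h3 : IsIntegral D (algebraMap D (FractionRing D) a / algebraMap D (FractionRing D) b) :=
    ⟨p, hp, h2⟩
  obtain ⟨c, hc⟩ := IsIntegrallyClosed.isIntegral_iff.mp h3
  refine ⟨c, ?_⟩
  apply IsFractionRing.injective D (FractionRing D)
  rw [map_mul, hc, mul_div_cancel₀ _ hfb]

theorem isIntegrallyClosed_of_scaleRoots
    (h : ∀ (a b : D) (p : D[X]), b ≠ 0 → p.Monic → (p.scaleRoots b).eval a = 0 → b ∣ a) :
    IsIntegrallyClosed D := by
  rw [isIntegrallyClosed_iff (FractionRing D)]
  intro x hx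
  obtain ⟨a, b, hb, rfl⟩ := IsFractionRing.div_surjective (A := D) x
  have hb0 : b ≠ 0 := nonZeroDivisors.ne_zero hb
  have hfb : algebraMap D (FractionRing D) b ≠ 0 := by
    intro h0
    exact hb0 ((IsFractionRing.injective D (FractionRing D)) (by rw [h0, map_zero]))
  obtain ⟨p, hp, hpx⟩ := hx
  have h1 := scaleRoots_eval₂_mul (p := p) (algebraMap D (FractionRing D))
    (algebraMap D (FractionRing D) a / algebraMap D (FractionRing D) b) b
  rw [mul_div_cancel₀ _ hfb, eval₂_at_apply, hpx, mul_zero] at h1
  have h2 : (p.scaleRoots b).eval a = 0 :=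
    IsFractionRing.injective D (FractionRing D) (by rw [h1, map_zero])
  obtain ⟨c, rfl⟩ := h a b p hb0 hp h2
  exact ⟨c, by rw [map_mul, mul_div_cancel_left₀ _ hfb]⟩

end criterion

/-- A normal ring is integrally closed in its total ring of fractions. -/
theorem isIntegrallyClosedIn_fractionRing (R : Type u) [CommRing R] (hR : EGA4.IsNormalRing R) :
    IsIntegrallyClosedIn R (FractionRing R) := by
  have hinj : Function.Injective (algebraMap R (FractionRing R)) :=
    IsLocalization.injective _ le_rfl
  rw [isIntegrallyClosedIn_iff]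
  refine ⟨hinj, ?_⟩
  intro x hx
  obtain ⟨a, ⟨b, hb⟩, rfl⟩ := IsLocalization.exists_mk'_eq (nonZeroDivisors R) x
  obtain ⟨p, hp, hpx⟩ := hx
  have h1 := scaleRoots_eval₂_mul (p := p) (algebraMap R (FractionRing R))
    (IsLocalization.mk' (FractionRing R) a ⟨b, hb⟩) b
  rw [IsLocalization.mk'_spec'_mk, eval₂_at_apply, hpx, mul_zero] at h1
  have h2 : (p.scaleRoots b).eval a = 0 := hinj (by rw [h1, map_zero])
  have h3 : a ∈ Ideal.span {b} := by
    apply Ideal.mem_of_localization_maximal
    intro P hP
    obtain ⟨hd, hic⟩ := hR P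
    rw [Ideal.map_span, Set.image_singleton, Ideal.mem_span_singleton]
    have hb' : algebraMap R (Localization.AtPrime P) b ≠ 0 := by
      have : algebraMap R (Localization.AtPrime P) b ∈ nonZeroDivisors (Localization.AtPrime P) :=
        IsLocalization.map_nonZeroDivisors_le P.primeCompl _ ⟨b, hb, rfl⟩
      exact nonZeroDivisors.ne_zero this
    apply dvd_of_scaleRoots hb' (hp.map (algebraMap R (Localization.AtPrime P)))
    rw [← map_scaleRoots _ _ _ (by rw [hp.leadingCoeff, map_one]; exact one_ne_zero), eval_map,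
      eval₂_at_apply, h2, map_zero]
  obtain ⟨c, rfl⟩ := Ideal.mem_span_singleton.mp h3
  refine ⟨c, ?_⟩
  rw [IsLocalization.eq_mk'_iff_mul_eq, mul_comm, map_mul]


theorem frac_key {R L K : Type*} [CommRing R] [CommRing L] [Field K] [Algebra R L] [Algebra L K]
    [Algebra R K] [IsScalarTower R L K] (m a t s b : R) (x1 x2 : L)
    (h1 : x1 * algebraMap R L s = algebraMap R L a) (h2 : x2 * algebraMap R L t = algebraMap R L b)
    (hx2 : algebraMap L K x2 ≠ 0) (hsb : algebraMap R K (s * b) ≠ 0) :
    algebraMap R K m * (algebraMap L K x1 / algebraMap L K x2) =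
      algebraMap R K (m * a * t) / algebraMap R K (s * b) := by
  rw [← mul_div_assoc, div_eq_div_iff hx2 hsb]
  simp only [IsScalarTower.algebraMap_apply R L K, ← map_mul]
  congr 1
  rw [map_mul, map_mul, map_mul, ← h1, ← h2]
  ring

theorem final_key {L : Type*} [CommRing L] (M A T S B w x1 x2 : L) (um : Lˣ) (hum : ↑um = M)
    (hS : IsUnit S) (hT : IsUnit T) (h1 : x1 * S = A) (h2 : x2 * T = B)
    (hw : M * A * T = S * B * w) : ↑um⁻¹ * w * x2 = x1 := by
  apply (hS.mul hT).mul_right_cancel
  calc ↑um⁻¹ * w * x2 * (S * T) = ↑um⁻¹ * (S * (x2 * T) * w) := by ring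
    _ = ↑um⁻¹ * (M * A * T) := by rw [h2, hw]
    _ = (↑um⁻¹ * ↑um) * A * T := by rw [hum]; ring
    _ = x1 * (S * T) := by rw [Units.inv_mul, ← h1]; ring

section colim

variable {ι : Type u} [Preorder ι] [Nonempty ι] [IsDirected ι (· ≤ ·)] (G : ι → Type u)
  [∀ i, CommRing (G i)] (f : ∀ i j, i ≤ j → G i →+* G j) [DirectedSystem G fun i j h => f i j h]

local notation "RR" => Ring.DirectLimit G fun i j h => f i j h
local notation "ofR" => Ring.DirectLimit.of G (fun i j h => f i j h)

variable (P : Ideal (Ring.DirectLimit G fun i j h => f i j h)) [hP : P.IsPrime]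

theorem F2 (j : ι) (x : G j)
    (h : algebraMap (G j) (Localization.AtPrime (P.comap (ofR j))) x = 0) :
    algebraMap RR (Localization.AtPrime P) (ofR j x) = 0 := by
  rw [← Localization.localRingHom_to_map (P.comap (ofR j)) P (ofR j) rfl, h, map_zero]

theorem F1 (i : ι) (x : G i) (h : algebraMap RR (Localization.AtPrime P) (ofR i x) = 0) :
    ∃ j, ∃ hij : i ≤ j,
      algebraMap (G j) (Localization.AtPrime (P.comap (ofR j))) (f i j hij x) = 0 := by
  rw [IsLocalization.map_eq_zero_iff P.primeCompl] at h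
  obtain ⟨⟨u, hu⟩, hux⟩ := h
  obtain ⟨k, uk, rfl⟩ := Ring.DirectLimit.exists_of u
  obtain ⟨j0, hk, hi⟩ := exists_ge_ge k i
  have h0 : ofR j0 (f k j0 hk uk * f i j0 hi x) = 0 := by
    rw [map_mul, Ring.DirectLimit.of_f, Ring.DirectLimit.of_f]; exact hux
  obtain ⟨j, hj, h0⟩ := Ring.DirectLimit.of.zero_exact h0
  refine ⟨j, hi.trans hj, ?_⟩
  rw [IsLocalization.map_eq_zero_iff (P.comap (ofR j)).primeCompl]
  refine ⟨⟨f k j (hk.trans hj) uk, ?_⟩, ?_⟩
  · show f k j _ uk ∉ P.comap (ofR j)
    rw [Ideal.mem_comap, Ring.DirectLimit.of_f]; exact hu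
  · rw [map_mul, DirectedSystem.map_map (f := fun i j h => f i j h),
      DirectedSystem.map_map (f := fun i j h => f i j h)] at h0
    exact h0

theorem isDomain_directLimit
    (hG : ∀ i, IsDomain (Localization.AtPrime (P.comap (ofR i)))) :
    IsDomain (Localization.AtPrime P) := by
  haveI : NoZeroDivisors (Localization.AtPrime P) := by
    constructor
    intro x y hxy
    obtain ⟨a, s, rfl⟩ := IsLocalization.exists_mk'_eq P.primeCompl x
    obtain ⟨b, t, rfl⟩ := IsLocalization.exists_mk'_eq P.primeCompl y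
    rw [← IsLocalization.mk'_mul, IsLocalization.mk'_eq_iff_eq_mul, zero_mul] at hxy
    obtain ⟨i1, a1, rfl⟩ := Ring.DirectLimit.exists_of a
    obtain ⟨i2, b2, rfl⟩ := Ring.DirectLimit.exists_of b
    obtain ⟨i, h1, h2⟩ := exists_ge_ge i1 i2
    have h0 : algebraMap RR (Localization.AtPrime P) (ofR i (f i1 i h1 a1 * f i2 i h2 b2)) = 0 := by
      rw [map_mul (ofR i), Ring.DirectLimit.of_f, Ring.DirectLimit.of_f]; exact hxy
    obtain ⟨j, hij, hj⟩ := F1 G f P i _ h0
    rw [map_mul, map_mul] at hj
    haveI := hG j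
    rcases mul_eq_zero.mp hj with h3 | h3
    · left
      have := F2 G f P j _ h3
      rw [DirectedSystem.map_map (f := fun i j h => f i j h), Ring.DirectLimit.of_f] at this
      rw [IsLocalization.mk'_eq_iff_eq_mul, zero_mul]; exact this
    · right
      have := F2 G f P j _ h3
      rw [DirectedSystem.map_map (f := fun i j h => f i j h), Ring.DirectLimit.of_f] at this
      rw [IsLocalization.mk'_eq_iff_eq_mul, zero_mul]; exact this
  exact NoZeroDivisors.to_isDomain _

theorem eval_scaleRoots_map {A B : Type*} [CommRing A] [CommRing B] [Nontrivial B] (g : A →+* B)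
    {q : A[X]} (hq : q.Monic) (a b : A) :
    g ((q.scaleRoots b).eval a) = ((q.map g).scaleRoots (g b)).eval (g a) := by
  rw [← map_scaleRoots _ _ _ (by rw [hq.leadingCoeff, map_one]; exact one_ne_zero), eval_map,
    eval₂_at_apply]

/-- Key divisibility: a homogeneous integral equation over the colimit descends to a stage. -/
theorem dvd_of_integral [IsDomain (Localization.AtPrime P)]
    (hG : ∀ i, IsDomain (Localization.AtPrime (P.comap (ofR i))))
    (hG' : ∀ i, IsIntegrallyClosed (Localization.AtPrime (P.comap (ofR i))))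
    (a b : RR) (hb : algebraMap RR (Localization.AtPrime P) b ≠ 0) (q : RR[X]) (hq : q.Monic)
    (h : algebraMap RR (Localization.AtPrime P) ((q.scaleRoots b).eval a) = 0) :
    algebraMap RR (Localization.AtPrime P) b ∣ algebraMap RR (Localization.AtPrime P) a := by
  haveI : Nontrivial RR :=
    ⟨⟨0, 1, fun h => hP.ne_top (by rw [Ideal.eq_top_iff_one, ← h]; exact P.zero_mem)⟩⟩
  obtain ⟨i0, q0, hq0⟩ := Ring.DirectLimit.Polynomial.exists_of q
  obtain ⟨q0', hq0', -, hq0m⟩ := Polynomial.lifts_and_natDegree_eq_and_monic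
    (f := ofR i0) (p := q) ((Polynomial.mem_lifts _).mpr ⟨q0, hq0⟩) hq
  obtain ⟨i1, a1, rfl⟩ := Ring.DirectLimit.exists_of a
  obtain ⟨i2, b2, rfl⟩ := Ring.DirectLimit.exists_of b
  obtain ⟨i3, h01, h02⟩ := exists_ge_ge i0 i1
  obtain ⟨i, h3, h2⟩ := exists_ge_ge i3 i2
  have h0 : i0 ≤ i := h01.trans h3
  have h1 : i1 ≤ i := h02.trans h3
  have hcomp : (ofR i).comp (f i0 i h0) = ofR i0 := RingHom.ext fun x => Ring.DirectLimit.of_f _ _
  have hqi : (q0'.map (f i0 i h0)).map (ofR i) = q := by
    rw [Polynomial.map_map, hcomp, hq0']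
  have hqm : (q0'.map (f i0 i h0)).Monic := hq0m.map _
  have he : ofR i (((q0'.map (f i0 i h0)).scaleRoots (f i2 i h2 b2)).eval (f i1 i h1 a1)) =
      (q.scaleRoots (ofR i2 b2)).eval (ofR i1 a1) := by
    rw [eval_scaleRoots_map _ hqm, hqi, Ring.DirectLimit.of_f, Ring.DirectLimit.of_f]
  rw [← he] at h
  obtain ⟨j, hij, hj⟩ := F1 G f P i _ h
  haveI := hG j
  haveI := hG' j
  have hj' : ((algebraMap (G j) (Localization.AtPrime (P.comap (ofR j)))).comp (f i j hij))
      (((q0'.map (f i0 i h0)).scaleRoots (f i2 i h2 b2)).eval (f i1 i h1 a1)) = 0 := hj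
  rw [eval_scaleRoots_map _ hqm] at hj'
  have hbj0 : algebraMap (G j) (Localization.AtPrime (P.comap (ofR j)))
      (f i j hij (f i2 i h2 b2)) ≠ 0 := by
    intro h0
    apply hb
    have := F2 G f P j _ h0
    rwa [DirectedSystem.map_map (f := fun i j h => f i j h), Ring.DirectLimit.of_f] at this
  have hbj : ((algebraMap (G j) (Localization.AtPrime (P.comap (ofR j)))).comp (f i j hij))
      (f i2 i h2 b2) ≠ 0 := hbj0
  obtain ⟨z, hz⟩ := dvd_of_scaleRoots hbj (hqm.map _) hj'
  refine ⟨Localization.localRingHom (P.comap (ofR j)) P (ofR j) rfl z, ?_⟩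
  have := congrArg (Localization.localRingHom (P.comap (ofR j)) P (ofR j) rfl) hz
  rw [map_mul, RingHom.comp_apply, RingHom.comp_apply, Localization.localRingHom_to_map,
    Localization.localRingHom_to_map, DirectedSystem.map_map (f := fun i j h => f i j h),
    DirectedSystem.map_map (f := fun i j h => f i j h), Ring.DirectLimit.of_f,
    Ring.DirectLimit.of_f] at this
  exact this

theorem isIntegrallyClosed_directLimit [IsDomain (Localization.AtPrime P)]
    (hG : ∀ i, IsDomain (Localization.AtPrime (P.comap (ofR i))))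
    (hG' : ∀ i, IsIntegrallyClosed (Localization.AtPrime (P.comap (ofR i)))) :
    IsIntegrallyClosed (Localization.AtPrime P) := by
  rw [isIntegrallyClosed_iff (FractionRing (Localization.AtPrime P))]
  intro x hx
  have hinj := IsFractionRing.injective (Localization.AtPrime P)
    (FractionRing (Localization.AtPrime P))
  obtain ⟨⟨m, hm⟩, hmx⟩ := IsIntegral.exists_multiple_integral_of_isLocalization P.primeCompl x hx
  obtain ⟨l1, l2, hl2, rfl⟩ := IsFractionRing.div_surjective (A := Localization.AtPrime P) x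
  obtain ⟨a, s, rfl⟩ := IsLocalization.exists_mk'_eq P.primeCompl l1
  obtain ⟨b, t, rfl⟩ := IsLocalization.exists_mk'_eq P.primeCompl l2
  have hb : algebraMap RR (Localization.AtPrime P) b ≠ 0 := by
    intro h0
    apply nonZeroDivisors.ne_zero hl2
    rw [IsLocalization.mk'_eq_iff_eq_mul, zero_mul]; exact h0
  have hs : IsUnit (algebraMap RR (Localization.AtPrime P) s) := IsLocalization.map_units _ s
  have ht : IsUnit (algebraMap RR (Localization.AtPrime P) t) := IsLocalization.map_units _ t
  have hmu : IsUnit (algebraMap RR (Localization.AtPrime P) m) :=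
    IsLocalization.map_units _ (⟨m, hm⟩ : P.primeCompl)
  obtain ⟨q, hq, hqx⟩ := hmx
  -- the element `m • x = F (m a t) / F (s b)`
  have hbs : algebraMap RR (Localization.AtPrime P) (s * b) ≠ 0 := by
    rw [map_mul]; exact mul_ne_zero hs.ne_zero hb
  have hFbs : algebraMap RR (FractionRing (Localization.AtPrime P)) (s * b) ≠ 0 := by
    rw [IsScalarTower.algebraMap_apply RR (Localization.AtPrime P)
      (FractionRing (Localization.AtPrime P))]
    intro h0
    exact hbs (hinj (by rw [h0, map_zero]))
  have hkey : (⟨m, hm⟩ : P.primeCompl) • (algebraMap (Localization.AtPrime P)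
      (FractionRing (Localization.AtPrime P)) (IsLocalization.mk' _ a s) /
      algebraMap (Localization.AtPrime P) (FractionRing (Localization.AtPrime P))
        (IsLocalization.mk' _ b t)) =
      algebraMap RR (FractionRing (Localization.AtPrime P)) (m * a * t) /
        algebraMap RR (FractionRing (Localization.AtPrime P)) (s * b) := by
    have hbt : algebraMap (Localization.AtPrime P) (FractionRing (Localization.AtPrime P))
        (IsLocalization.mk' _ b t) ≠ 0 := by
      intro h0
      exact nonZeroDivisors.ne_zero hl2 (hinj (by rw [h0, map_zero]))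
    rw [Submonoid.smul_def, Algebra.smul_def]
    exact frac_key m a t s b _ _ (IsLocalization.mk'_spec (Localization.AtPrime P) a s)
      (IsLocalization.mk'_spec (Localization.AtPrime P) b t) hbt hFbs
  rw [hkey] at hqx
  have h1 := scaleRoots_eval₂_mul (p := q) (algebraMap RR (FractionRing (Localization.AtPrime P)))
    (algebraMap RR (FractionRing (Localization.AtPrime P)) (m * a * t) /
        algebraMap RR (FractionRing (Localization.AtPrime P)) (s * b)) (s * b)
  rw [mul_div_cancel₀ _ hFbs, eval₂_at_apply, hqx, mul_zero,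
    IsScalarTower.algebraMap_apply RR (Localization.AtPrime P)
      (FractionRing (Localization.AtPrime P))] at h1
  have h2 : algebraMap RR (Localization.AtPrime P) ((q.scaleRoots (s * b)).eval (m * a * t)) = 0 :=
    hinj (by rw [h1, map_zero])
  obtain ⟨w, hw⟩ := dvd_of_integral G f P hG hG' (m * a * t) (s * b) hbs q hq h2
  -- conclude
  obtain ⟨um, hum⟩ := hmu
  have hbt : algebraMap (Localization.AtPrime P) (FractionRing (Localization.AtPrime P))
      (IsLocalization.mk' _ b t) ≠ 0 := by
    intro h0
    exact nonZeroDivisors.ne_zero hl2 (hinj (by rw [h0, map_zero]))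
  refine ⟨↑um⁻¹ * w, ?_⟩
  rw [eq_div_iff hbt, ← map_mul]
  congr 1
  refine final_key _ _ _ _ _ w _ _ um hum hs ht
    (IsLocalization.mk'_spec (Localization.AtPrime P) a s)
    (IsLocalization.mk'_spec (Localization.AtPrime P) b t) ?_
  rw [← map_mul, ← map_mul, hw, map_mul]

theorem isNormalRing_directLimit (hG : ∀ i, EGA4.IsNormalRing (G i)) :
    EGA4.IsNormalRing (Ring.DirectLimit G fun i j h => f i j h) := by
  intro P hP
  haveI := isDomain_directLimit G f P (fun i => (hG i _).1)
  exact ⟨inferInstance, isIntegrallyClosed_directLimit G f P (fun i => (hG i _).1)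
    (fun i => (hG i _).2)⟩

end colim

end Groth.Agent.Lib.Helper12.Normal2
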