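import Mathlib
import Groth.Agent.Lib.Helper12.DeRham1

namespace Groth.Agent.Lib.Helper12.EBC

open ExteriorAlgebra CliffordAlgebra TensorProduct
open Groth.Agent.Lib.Helper12.DeRham (ι_mul_eq involute_of_mem mul_mem_exteriorPower ι_mem algebraMap_mem)

universe u

variable (A B M : Type u) [CommRing A] [CommRing B] [Algebra A B] [AddCommGroup M] [Module A M]

/-- the linear map `b ⊗ m ↦ b ⊗ ι m` -/
noncomputable def fBC : B ⊗[A] M →ₗ[B] B ⊗[A] ExteriorAlgebra A M :=
  LinearMap.baseChange B (ι A : M →ₗ[A] ExteriorAlgebra A M)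

theorem fBC_tmul (b : B) (m : M) : fBC A B M (b ⊗ₜ m) = b ⊗ₜ ι A m := rfl

theorem ι_anticomm (m n : M) : ι A m * ι A n + ι A n * ι A m = 0 := by
  have h := ι_mul_eq (A := A) m (ι A n)
  rw [involute_ι, neg_mul] at h
  rw [h]; simp

theorem fBC_anticomm (x y : B ⊗[A] M) :
    fBC A B M x * fBC A B M y + fBC A B M y * fBC A B M x = 0 := by
  induction x with
  | zero => simp
  | add x x' hx hx' =>
    rw [map_add, add_mul, mul_add]
    calc _ = (fBC A B M x * fBC A B M y + fBC A B M y * fBC A B M x) +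
        (fBC A B M x' * fBC A B M y + fBC A B M y * fBC A B M x') := by abel
      _ = 0 := by rw [hx, hx', add_zero]
  | tmul b m =>
    induction y with
    | zero => simp
    | add y y' hy hy' =>
      rw [map_add, add_mul, mul_add]
      calc _ = (fBC A B M (b ⊗ₜ m) * fBC A B M y + fBC A B M y * fBC A B M (b ⊗ₜ m)) +
          (fBC A B M (b ⊗ₜ m) * fBC A B M y' + fBC A B M y' * fBC A B M (b ⊗ₜ m)) := by abel
        _ = 0 := by rw [hy, hy', add_zero]
    | tmul b' m' =>
      rw [fBC_tmul, fBC_tmul, Algebra.TensorProduct.tmul_mul_tmul, Algebra.TensorProduct.tmul_mul_tmul,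
        mul_comm b' b, ← tmul_add, ι_anticomm, tmul_zero]

theorem fBC_sq (x : B ⊗[A] M) : fBC A B M x * fBC A B M x = 0 := by
  induction x with
  | zero => simp
  | add x y hx hy =>
    rw [map_add, add_mul, mul_add, mul_add, hx, hy, zero_add, add_zero, add_comm,
      fBC_anticomm]
  | tmul b m =>
    rw [fBC_tmul, Algebra.TensorProduct.tmul_mul_tmul, ι_sq_zero, tmul_zero]

/-- from the exterior algebra of the base change to the base change of the exterior algebra -/
noncomputable def toBC : ExteriorAlgebra B (B ⊗[A] M) →ₐ[B] B ⊗[A] ExteriorAlgebra A M :=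
  ExteriorAlgebra.lift B ⟨fBC A B M, fBC_sq A B M⟩

theorem toBC_ι (x : B ⊗[A] M) : toBC A B M (ι B x) = fBC A B M x :=
  ExteriorAlgebra.lift_ι_apply _ _ _ _

/-- auxiliary: heterobasic map of exterior algebras -/
noncomputable def ofBCAux : ExteriorAlgebra A M →ₐ[A] ExteriorAlgebra B (B ⊗[A] M) :=
  ExteriorAlgebra.lift A ⟨(ι B).restrictScalars A ∘ₗ TensorProduct.mk A B M 1, fun m => by
    simp only [LinearMap.comp_apply, LinearMap.coe_restrictScalars, mk_apply]
    exact ι_sq_zero _⟩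

theorem ofBCAux_ι (m : M) : ofBCAux A B M (ι A m) = ι B ((1 : B) ⊗ₜ[A] m) :=
  ExteriorAlgebra.lift_ι_apply _ _ _ _

/-- from the base change of the exterior algebra to the exterior algebra of the base change -/
noncomputable def ofBC : B ⊗[A] ExteriorAlgebra A M →ₐ[B] ExteriorAlgebra B (B ⊗[A] M) :=
  Algebra.TensorProduct.lift (Algebra.ofId _ _) (ofBCAux A B M) fun _ _ => Algebra.commutes _ _

theorem ofBC_tmul (b : B) (x : ExteriorAlgebra A M) :
    ofBC A B M (b ⊗ₜ x) = algebraMap B _ b * ofBCAux A B M x := rfl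

theorem ofBC_tmul_ι (b : B) (m : M) : ofBC A B M (b ⊗ₜ ι A m) = ι B (b ⊗ₜ[A] m) := by
  rw [ofBC_tmul, ofBCAux_ι, ← Algebra.smul_def, ← map_smul, TensorProduct.smul_tmul', smul_eq_mul,
    mul_one]

theorem toBC_comp_ofBC : (toBC A B M).comp (ofBC A B M) = AlgHom.id _ _ := by
  apply Algebra.TensorProduct.ext
  · ext
  · apply ExteriorAlgebra.hom_ext
    apply LinearMap.ext
    intro m
    simp only [LinearMap.comp_apply, AlgHom.toLinearMap_apply, AlgHom.comp_apply,
      AlgHom.coe_restrictScalars', Algebra.TensorProduct.includeRight_apply, AlgHom.id_apply]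
    rw [← mul_one (1 : B), ofBC_tmul_ι, toBC_ι, fBC_tmul, mul_one]

theorem ofBC_comp_toBC : (ofBC A B M).comp (toBC A B M) = AlgHom.id _ _ := by
  apply ExteriorAlgebra.hom_ext
  apply TensorProduct.AlgebraTensorModule.ext
  intro b m
  simp only [LinearMap.comp_apply, AlgHom.toLinearMap_apply, AlgHom.comp_apply, AlgHom.id_apply]
  rw [toBC_ι, fBC_tmul, ofBC_tmul_ι]

/-- base change of the exterior algebra -/
noncomputable def equivBC : ExteriorAlgebra B (B ⊗[A] M) ≃ₐ[B] B ⊗[A] ExteriorAlgebra A M :=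
  AlgEquiv.ofAlgHom (toBC A B M) (ofBC A B M) (toBC_comp_ofBC A B M) (ofBC_comp_toBC A B M)

end Groth.Agent.Lib.Helper12.EBC
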