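import Mathlib
import Groth.Agent.Lib.Helper12.EBC1

namespace Groth.Agent.Lib.Helper12.EBC

open ExteriorAlgebra CliffordAlgebra TensorProduct
open Groth.Agent.Lib.Helper12.DeRham (ι_mul_eq involute_of_mem mul_mem_exteriorPower ι_mem algebraMap_mem)

universe u

variable (A B M : Type u) [CommRing A] [CommRing B] [Algebra A B] [AddCommGroup M] [Module A M]

theorem ofBCAux_ιMulti (p : ℕ) (m : Fin p → M) :
    ofBCAux A B M (ExteriorAlgebra.ιMulti A p m) =
      ExteriorAlgebra.ιMulti B p (fun i => (1 : B) ⊗ₜ[A] m i) := by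
  rw [ExteriorAlgebra.ιMulti_apply, ExteriorAlgebra.ιMulti_apply, map_list_prod, List.map_ofFn]
  congr 2
  funext i
  exact ofBCAux_ι A B M (m i)

theorem ofBCAux_mem (p : ℕ) {x : ExteriorAlgebra A M} (hx : x ∈ ⋀[A]^p M) :
    ofBCAux A B M x ∈ ⋀[B]^p (B ⊗[A] M) := by
  induction hx using Submodule.pow_induction_on_left' with
  | algebraMap a =>
    rw [AlgHom.commutes, IsScalarTower.algebraMap_apply A B]
    exact algebraMap_mem _
  | add x y i hx hy ihx ihy => rw [map_add]; exact Submodule.add_mem _ ihx ihy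
  | mem_mul m hm i x hx ih =>
    obtain ⟨ω, rfl⟩ := hm
    rw [map_mul, ofBCAux_ι]
    have := mul_mem_exteriorPower (ι_mem (A := B) ((1 : B) ⊗ₜ[A] ω)) ih
    rwa [Nat.add_comm 1 i] at this

/-- the retraction of the inclusion of the `p`-th exterior power -/
noncomputable def retr (p : ℕ) : ExteriorAlgebra A M →ₗ[A] ↥(⋀[A]^p M) :=
  (DirectSum.component A ℕ (fun i => ↥(⋀[A]^i M)) p).comp
    (@DirectSum.decomposeLinearEquiv ℕ A (ExteriorAlgebra A M) _ _ _ _
      (fun i : ℕ => ⋀[A]^i M) (ExteriorAlgebra.gradedAlgebra A M).toDecomposition).toLinearMap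

theorem retr_coe (p : ℕ) (x : ↥(⋀[A]^p M)) : retr A M p (x : ExteriorAlgebra A M) = x := by
  letI : DirectSum.Decomposition (fun i : ℕ => ⋀[A]^i M) :=
    (ExteriorAlgebra.gradedAlgebra A M).toDecomposition
  show DirectSum.component A ℕ (fun i => ↥(⋀[A]^i M)) p
    (DirectSum.decompose (fun i : ℕ => ⋀[A]^i M) (x : ExteriorAlgebra A M)) = x
  rw [DirectSum.decompose_coe]
  exact DirectSum.of_eq_same (β := fun i => ↥(⋀[A]^i M)) p x

/-- the comparison map into the exterior algebra -/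
noncomputable def tauE (p : ℕ) : B ⊗[A] ↥(⋀[A]^p M) →ₗ[B] ExteriorAlgebra B (B ⊗[A] M) :=
  (ofBC A B M).toLinearMap.comp (LinearMap.baseChange B (Submodule.subtype (⋀[A]^p M)))

theorem tauE_tmul (p : ℕ) (b : B) (x : ↥(⋀[A]^p M)) :
    tauE A B M p (b ⊗ₜ x) = algebraMap B _ b * ofBCAux A B M (x : ExteriorAlgebra A M) := rfl

theorem tauE_injective (p : ℕ) : Function.Injective (tauE A B M p) := by
  have h1 : Function.Injective (LinearMap.baseChange B (Submodule.subtype (⋀[A]^p M))) := by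
    apply Function.LeftInverse.injective (g := LinearMap.baseChange B (retr A M p))
    intro x
    rw [← LinearMap.comp_apply, ← LinearMap.baseChange_comp]
    have : retr A M p ∘ₗ Submodule.subtype (⋀[A]^p M) = LinearMap.id := by
      apply LinearMap.ext
      intro y
      exact retr_coe A M p y
    rw [this, LinearMap.baseChange_id]
    rfl
  exact (equivBC A B M).symm.injective.comp h1

theorem tauE_mem (p : ℕ) (z : B ⊗[A] ↥(⋀[A]^p M)) : tauE A B M p z ∈ ⋀[B]^p (B ⊗[A] M) := by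
  induction z with
  | zero => rw [map_zero]; exact Submodule.zero_mem _
  | add x y hx hy => rw [map_add]; exact Submodule.add_mem _ hx hy
  | tmul b x =>
    rw [tauE_tmul, ← Algebra.smul_def]
    exact Submodule.smul_mem _ _ (ofBCAux_mem A B M p x.2)

/-- the comparison map `B ⊗ ⋀^p M → ⋀^p (B ⊗ M)` -/
noncomputable def tau (p : ℕ) : B ⊗[A] ↥(⋀[A]^p M) →ₗ[B] ↥(⋀[B]^p (B ⊗[A] M)) :=
  (tauE A B M p).codRestrict _ (tauE_mem A B M p)

theorem tau_coe (p : ℕ) (z : B ⊗[A] ↥(⋀[A]^p M)) :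
    ((tau A B M p z : ↥(⋀[B]^p (B ⊗[A] M))) : ExteriorAlgebra B (B ⊗[A] M)) = tauE A B M p z := rfl

theorem tau_injective (p : ℕ) : Function.Injective (tau A B M p) := by
  intro x y h
  apply tauE_injective A B M p
  rw [← tau_coe, ← tau_coe, h]

theorem tau_tmul_ιMulti (p : ℕ) (b : B) (m : Fin p → M) :
    tau A B M p (b ⊗ₜ exteriorPower.ιMulti A p m) =
      b • exteriorPower.ιMulti B p (fun i => (1 : B) ⊗ₜ[A] m i) := by
  apply Subtype.ext
  rw [tau_coe, tauE_tmul, exteriorPower.ιMulti_apply_coe, ofBCAux_ιMulti, Submodule.coe_smul,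
    exteriorPower.ιMulti_apply_coe, Algebra.smul_def]

theorem span_one_tmul : Submodule.span B (Set.range fun m : M => (1 : B) ⊗ₜ[A] m) = ⊤ := by
  rw [eq_top_iff]
  intro z _
  induction z with
  | zero => exact Submodule.zero_mem _
  | add x y hx hy => exact Submodule.add_mem _ (hx trivial) (hy trivial)
  | tmul b m =>
    have : b ⊗ₜ[A] m = b • ((1 : B) ⊗ₜ[A] m) := by
      rw [TensorProduct.smul_tmul', smul_eq_mul, mul_one]
    rw [this]
    exact Submodule.smul_mem _ _ (Submodule.subset_span ⟨m, rfl⟩)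

theorem tau_surjective (p : ℕ) : Function.Surjective (tau A B M p) := by
  rw [← LinearMap.range_eq_top, eq_top_iff,
    ← exteriorPower.ιMulti_span_of_span B p (B ⊗[A] M) (span_one_tmul A B M), Submodule.span_le]
  rintro _ ⟨v, hv, rfl⟩
  have : ∀ i : Fin p, ∃ m : M, (1 : B) ⊗ₜ[A] m = v i := fun i => hv (Set.mem_range_self i)
  choose m hm using this
  refine ⟨(1 : B) ⊗ₜ exteriorPower.ιMulti A p m, ?_⟩
  rw [tau_tmul_ιMulti, one_smul]
  congr 1
  funext i
  exact hm i

/-- base change of exterior powers -/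
noncomputable def tauEquiv (p : ℕ) : B ⊗[A] ↥(⋀[A]^p M) ≃ₗ[B] ↥(⋀[B]^p (B ⊗[A] M)) :=
  LinearEquiv.ofBijective (tau A B M p) ⟨tau_injective A B M p, tau_surjective A B M p⟩

end Groth.Agent.Lib.Helper12.EBC
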