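import Mathlib
import Groth.Prelude.Def_W4stktopologysheavesDim

/-!
# Codimension in a partial order via chains, catenary posets
-/

universe u

namespace Groth.Agent.Lib.Helper12.Codim

variable {P : Type*} [PartialOrder P]

/-- abstract codimension: sup of lengths of chains starting at `a` and ending below `b` -/
noncomputable def cd (a b : P) : ℕ∞ :=
  ⨆ (s : LTSeries P) (_ : s.head = a ∧ s.last ≤ b), (s.length : ℕ∞)

/-- a saturated chain -/
def Saturated (s : LTSeries P) : Prop := ∀ i : Fin s.length, s (Fin.castSucc i) ⋖ s (Fin.succ i)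

/-- catenary poset -/
def IsCat (P : Type*) [PartialOrder P] : Prop :=
  ∀ a b : P, a ≤ b → cd a b ≠ ⊤ ∧ ∀ s : LTSeries P, s.head = a → s.last = b →
    (∀ i : Fin s.length, s (Fin.castSucc i) ⋖ s (Fin.succ i)) → (s.length : ℕ∞) = cd a b

lemma le_cd {a b : P} (s : LTSeries P) (h1 : s.head = a) (h2 : s.last ≤ b) :
    (s.length : ℕ∞) ≤ cd a b :=
  le_iSup₂_of_le s ⟨h1, h2⟩ le_rfl

lemma cd_le_iff {a b : P} {n : ℕ∞} :
    cd a b ≤ n ↔ ∀ s : LTSeries P, s.head = a → s.last ≤ b → (s.length : ℕ∞) ≤ n := by
  unfold cd
  rw [iSup₂_le_iff]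
  exact ⟨fun h s h1 h2 => h s ⟨h1, h2⟩, fun h s hs => h s hs.1 hs.2⟩

lemma exists_max {a b : P} (hab : a ≤ b) (hfin : cd a b ≠ ⊤) :
    ∃ s : LTSeries P, s.head = a ∧ s.last ≤ b ∧ (s.length : ℕ∞) = cd a b := by
  have h1 : cd a b = ⨆ (x : {s : LTSeries P // s.head = a ∧ s.last ≤ b}), (x.1.length : ℕ∞) := by
    unfold cd
    rw [iSup_subtype']
  haveI : Nonempty {s : LTSeries P // s.head = a ∧ s.last ≤ b} :=
    ⟨⟨RelSeries.singleton _ a, RelSeries.head_singleton a, by
      rw [RelSeries.last_singleton]; exact hab⟩⟩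
  obtain ⟨x, hx⟩ := ENat.exists_eq_iSup_of_lt_top (f := fun x :
    {s : LTSeries P // s.head = a ∧ s.last ≤ b} => (x.1.length : ℕ∞)) (by
      rw [← h1]; exact lt_top_iff_ne_top.2 hfin)
  exact ⟨x.1, x.2.1, x.2.2, by rw [h1]; exact hx⟩

lemma last_eq_of_max {a b : P} (s : LTSeries P) (h1 : s.head = a) (h2 : s.last ≤ b)
    (h3 : (s.length : ℕ∞) = cd a b) (hfin : cd a b ≠ ⊤) : s.last = b := by
  by_contra hne
  have hlt : s.last < b := lt_of_le_of_ne h2 hne
  have := le_cd (a := a) (b := b) (s.snoc b hlt) (by rw [RelSeries.head_snoc]; exact h1)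
    (by rw [RelSeries.last_snoc])
  rw [← h3, RelSeries.snoc_length] at this
  have h4 : ((s.length + 1 : ℕ) : ℕ∞) ≤ (s.length : ℕ∞) := this
  rw [Nat.cast_le] at h4
  omega

lemma saturated_of_max {a b : P} (s : LTSeries P) (h1 : s.head = a) (h2 : s.last ≤ b)
    (h3 : (s.length : ℕ∞) = cd a b) (hfin : cd a b ≠ ⊤) : Saturated s := by
  intro i
  by_contra hne
  have hlt : s (Fin.castSucc i) < s (Fin.succ i) := s.step i
  rw [not_covBy_iff hlt] at hne
  obtain ⟨c, hc1, hc2⟩ := hne
  let t1 : LTSeries P := (s.take (Fin.castSucc i)).snoc c (by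
    rw [RelSeries.last_take]; exact hc1)
  let t : LTSeries P := t1.append (s.drop (Fin.succ i)) (by
    rw [RelSeries.last_snoc, RelSeries.head_drop]; exact hc2)
  have hlen : t.length = s.length + 1 := by
    change ((s.take (Fin.castSucc i)).snoc c _).length + (s.drop (Fin.succ i)).length + 1 = _
    rw [RelSeries.snoc_length, RelSeries.take_length, RelSeries.drop_length]
    have := i.2
    simp only [Fin.val_castSucc, Fin.val_succ]
    omega
  have hhead : t.head = a := by
    change (t1.append _ _).head = a
    rw [RelSeries.head_append, RelSeries.head_snoc, RelSeries.head_take, h1]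
  have hlast : t.last ≤ b := by
    change (t1.append _ _).last ≤ b
    rw [RelSeries.last_append, RelSeries.last_drop]
    exact h2
  have := le_cd t hhead hlast
  rw [← h3, hlen] at this
  have h4 : ((s.length + 1 : ℕ) : ℕ∞) ≤ (s.length : ℕ∞) := this
  rw [Nat.cast_le] at h4
  omega

lemma cd_self (a : P) : cd a a = 0 := by
  rw [← nonpos_iff_eq_zero, cd_le_iff]
  intro s h1 h2
  by_contra hne
  have hpos : 0 < s.length := by
    by_contra h0
    apply hne
    have : s.length = 0 := by omega
    rw [this]
    rfl
  have : s.head < s.last := s.strictMono (by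
    rw [Fin.lt_def]
    simpa using hpos)
  rw [h1] at this
  exact absurd (lt_of_lt_of_le this h2) (lt_irrefl _)

lemma cd_of_covBy {a b : P} (h : a ⋖ b) : cd a b = 1 := by
  apply le_antisymm
  · rw [cd_le_iff]
    intro s h1 h2
    by_contra hne
    have h2' : 2 ≤ s.length := by
      by_contra h0
      apply hne
      have : s.length ≤ 1 := by omega
      exact_mod_cast this
    have hA : s.head < s ⟨1, by omega⟩ := s.strictMono (by
      rw [Fin.lt_def]
      simp)
    have hB : s ⟨1, by omega⟩ < s.last := s.strictMono (by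
      rw [Fin.lt_def]
      simp
      omega)
    rw [h1] at hA
    exact h.2 hA (lt_of_lt_of_le hB h2)
  · have := le_cd (a := a) (b := b) ((RelSeries.singleton _ a).snoc b (by
      rw [RelSeries.last_singleton]; exact h.1)) (by
        rw [RelSeries.head_snoc, RelSeries.head_singleton]) (by rw [RelSeries.last_snoc])
    rw [RelSeries.snoc_length] at this
    simpa using this

lemma saturated_smash {p q : LTSeries P} (h : p.last = q.head) (hp : Saturated p)
    (hq : Saturated q) : Saturated (RelSeries.smash p q h) := by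
  intro i
  revert i
  change ∀ i : Fin (p.length + q.length), _
  refine Fin.addCases ?_ ?_
  · intro j
    have e1 := RelSeries.smash_castAdd h j
    have e2 := RelSeries.smash_succ_castAdd h j
    have := hp j
    rw [← e1, ← e2] at this
    exact this
  · intro j
    have e1 := RelSeries.smash_natAdd h j
    have e2 := RelSeries.smash_succ_natAdd h j
    have := hq j
    rw [← e1, ← e2] at this
    exact this

lemma saturated_of_snoc {p : LTSeries P} {x : P} (hx : p.last < x)
    (h : Saturated (p.snoc x hx)) : Saturated p ∧ p.last ⋖ x := by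
  constructor
  · intro i
    have hi : i.1 < (p.snoc x hx).length := by rw [RelSeries.snoc_length]; omega
    have := h ⟨i.1, hi⟩
    have a1 : (p.snoc x hx) (Fin.castSucc ⟨i.1, hi⟩) = p (Fin.castSucc i) :=
      RelSeries.snoc_castSucc p x hx (Fin.castSucc i)
    have a2 : (p.snoc x hx) (Fin.succ ⟨i.1, hi⟩) = p (Fin.succ i) :=
      RelSeries.snoc_castSucc p x hx (Fin.succ i)
    rw [a1, a2] at this
    exact this
  · have hi : p.length < (p.snoc x hx).length := by rw [RelSeries.snoc_length]; omega
    have := h ⟨p.length, hi⟩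
    have a1 : (p.snoc x hx) (Fin.castSucc ⟨p.length, hi⟩) = p.last :=
      RelSeries.snoc_castSucc p x hx (Fin.last _)
    have a2 : (p.snoc x hx) (Fin.succ ⟨p.length, hi⟩) = x := RelSeries.last_snoc p x hx
    rw [a1, a2] at this
    exact this

lemma length_eq_cd_of_saturated
    (hadd : ∀ a b c : P, a ≤ b → b ≤ c → cd a c = cd a b + cd b c)
    (s : LTSeries P) (hs : Saturated s) : (s.length : ℕ∞) = cd s.head s.last := by
  revert hs
  induction s using RelSeries.inductionOn' with
  | singleton x =>
    intro _
    rw [RelSeries.head_singleton, RelSeries.last_singleton, cd_self]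
    rfl
  | snoc p x hx ih =>
    intro hsat
    obtain ⟨hp, hcov⟩ := saturated_of_snoc hx hsat
    rw [RelSeries.head_snoc, RelSeries.last_snoc, hadd p.head p.last x (LTSeries.head_le_last p) hcov.le,
      ← ih hp, cd_of_covBy hcov, RelSeries.snoc_length]
    push_cast
    rfl

theorem isCat_iff : IsCat P ↔ (∀ a b : P, a ≤ b → cd a b ≠ ⊤) ∧
    (∀ a b c : P, a ≤ b → b ≤ c → cd a c = cd a b + cd b c) := by
  constructor
  · intro h
    refine ⟨fun a b hab => (h a b hab).1, fun a b c hab hbc => ?_⟩
    obtain ⟨s1, h11, h12, h13⟩ := exists_max hab (h a b hab).1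
    obtain ⟨s2, h21, h22, h23⟩ := exists_max hbc (h b c hbc).1
    have l1 := last_eq_of_max s1 h11 h12 h13 (h a b hab).1
    have l2 := last_eq_of_max s2 h21 h22 h23 (h b c hbc).1
    have sat1 := saturated_of_max s1 h11 h12 h13 (h a b hab).1
    have sat2 := saturated_of_max s2 h21 h22 h23 (h b c hbc).1
    have hconn : s1.last = s2.head := by rw [l1, h21]
    have := (h a c (hab.trans hbc)).2 (RelSeries.smash s1 s2 hconn)
      (by rw [RelSeries.head_smash, h11]) (by rw [RelSeries.last_smash, l2])
      (saturated_smash hconn sat1 sat2)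
    rw [← this, ← h13, ← h23, RelSeries.smash_length]
    push_cast
    rfl
  · rintro ⟨hfin, hadd⟩ a b hab
    refine ⟨hfin a b hab, ?_⟩
    intro s h1 h2 hsat
    rw [← h1, ← h2]
    exact length_eq_cd_of_saturated hadd s hsat

section DimFun

variable (d : P → ℤ) (hd : StrictMono d) (hcov : ∀ a b : P, a ⋖ b → d b = d a + 1)

include hd in
lemma length_le_of_strictMono (s : LTSeries P) : (s.length : ℤ) ≤ d s.last - d s.head := by
  have := LTSeries.head_add_length_le_int (s.map d hd)
  rw [LTSeries.head_map, LTSeries.last_map, LTSeries.map_length] at this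
  omega

include hcov in
lemma length_eq_of_saturated (s : LTSeries P) (hs : Saturated s) :
    (s.length : ℤ) = d s.last - d s.head := by
  revert hs
  induction s using RelSeries.inductionOn' with
  | singleton x =>
    intro _
    rw [RelSeries.head_singleton, RelSeries.last_singleton]
    simp
  | snoc p x hx ih =>
    intro hsat
    obtain ⟨hp, hc⟩ := saturated_of_snoc hx hsat
    have := ih hp
    rw [RelSeries.head_snoc, RelSeries.last_snoc, RelSeries.snoc_length, hcov _ _ hc]
    push_cast
    omega

include hd hcov in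
theorem isCat_of_dimFun :
    IsCat P ∧ ∀ a b : P, a ≤ b → cd a b = ((d b - d a).toNat : ℕ∞) := by
  have hle : ∀ a b : P, cd a b ≤ ((d b - d a).toNat : ℕ∞) := by
    intro a b
    rw [cd_le_iff]
    intro s h1 h2
    have h3 := length_le_of_strictMono d hd s
    have h4 : d s.last ≤ d b := hd.monotone h2
    rw [h1] at h3
    have : s.length ≤ (d b - d a).toNat := by omega
    exact_mod_cast this
  have hfin : ∀ a b : P, cd a b ≠ ⊤ := fun a b =>
    ne_top_of_le_ne_top (ENat.natCast_ne_top _) (hle a b)
  have heq : ∀ a b : P, a ≤ b → cd a b = ((d b - d a).toNat : ℕ∞) := by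
    intro a b hab
    obtain ⟨s, h1, h2, h3⟩ := exists_max hab (hfin a b)
    have l := last_eq_of_max s h1 h2 h3 (hfin a b)
    have sat := saturated_of_max s h1 h2 h3 (hfin a b)
    have := length_eq_of_saturated d hcov s sat
    rw [h1, l] at this
    rw [← h3]
    have : s.length = (d b - d a).toNat := by omega
    rw [this]
  refine ⟨fun a b hab => ⟨hfin a b, fun s h1 h2 hsat => ?_⟩, heq⟩
  rw [heq a b hab]
  have := length_eq_of_saturated d hcov s hsat
  rw [h1, h2] at this
  have : s.length = (d b - d a).toNat := by omega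
  rw [this]

end DimFun

section Top

variable {X : Type u} [TopologicalSpace X]

lemma codim_eq_cd (Y Y' : TopologicalSpace.IrreducibleCloseds X) :
    PtTop.codim Y (Y' : Set X) = cd Y Y' := rfl

lemma isCatenarySpace_iff : PtTop.IsCatenarySpace X ↔ IsCat (TopologicalSpace.IrreducibleCloseds X) :=
  Iff.rfl

end Top

section Sober

open TopologicalSpace PtTop

variable {X : Type u} [TopologicalSpace X] [QuasiSober X] [T0Space X]

/-- the generic point of an irreducible closed subset -/
noncomputable def gp (Z : IrreducibleCloseds X) : X := Z.isIrreducible.genericPoint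

lemma isGenericPoint_gp (Z : IrreducibleCloseds X) : IsGenericPoint (gp Z) (Z : Set X) :=
  Z.isIrreducible.isGenericPoint_genericPoint Z.isClosed

lemma gp_closure (x : X) :
    gp (⟨closure {x}, isIrreducible_singleton.closure, isClosed_closure⟩ : IrreducibleCloseds X)
      = x :=
  (isGenericPoint_gp _).eq isGenericPoint_closure

lemma gp_specializes {Z Z' : IrreducibleCloseds X} (h : Z ≤ Z') : gp Z' ⤳ gp Z :=
  (isGenericPoint_gp Z').specializes (h (isGenericPoint_gp Z).mem)

lemma gp_injective : Function.Injective (gp (X := X)) := by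
  intro Z Z' h
  apply IrreducibleCloseds.ext
  rw [← (isGenericPoint_gp Z).def, ← (isGenericPoint_gp Z').def, h]

lemma strictMono_dim (δ : X → ℤ) (hδ : IsDimensionFunction δ) :
    StrictMono (fun Z : IrreducibleCloseds X => δ (gp Z)) := by
  intro Z Z' hlt
  exact hδ.1 (gp Z') (gp Z) (gp_specializes hlt.le) (fun h => hlt.ne (gp_injective h).symm)

lemma isImmediate_of_covBy {Z Z' : IrreducibleCloseds X} (h : Z ⋖ Z') :
    IsImmediateSpecialization (gp Z') (gp Z) := by
  refine ⟨gp_specializes h.le, fun e => h.lt.ne (gp_injective e).symm, ?_⟩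
  intro z hz1 hz2
  let W : IrreducibleCloseds X := ⟨closure {z}, isIrreducible_singleton.closure, isClosed_closure⟩
  have hW : gp W = z := gp_closure z
  have hZW : Z ≤ W := by
    intro y hy
    have h1 : gp Z ⤳ y := (isGenericPoint_gp Z).specializes hy
    exact (hz2.trans h1).mem_closed isClosed_closure (subset_closure rfl)
  have hWZ' : W ≤ Z' := by
    change closure {z} ⊆ (Z' : Set X)
    apply closure_minimal _ Z'.isClosed
    rw [Set.singleton_subset_iff]
    exact ((isGenericPoint_gp Z').specializes_iff_mem).1 hz1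
  rcases eq_or_lt_of_le hZW with e | hlt
  · right
    rw [← hW, ← e]
  · left
    have : W = Z' := by
      by_contra hne
      exact h.2 hlt (lt_of_le_of_ne hWZ' hne)
    rw [← hW, this]

theorem dimFun_main (δ : X → ℤ) (hδ : IsDimensionFunction δ) :
    IsCatenarySpace X ∧ ∀ x y : X, x ⤳ y →
      codim (⟨closure {y}, isIrreducible_singleton.closure, isClosed_closure⟩ :
        IrreducibleCloseds X) (closure {x}) = ((δ x - δ y).toNat : ℕ∞) := by
  have key := isCat_of_dimFun (P := IrreducibleCloseds X) (fun Z => δ (gp Z)) (strictMono_dim δ hδ)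
    (fun a b h => hδ.2 _ _ (isImmediate_of_covBy h))
  refine ⟨key.1, fun x y hxy => ?_⟩
  have := key.2 (⟨closure {y}, isIrreducible_singleton.closure, isClosed_closure⟩ :
        IrreducibleCloseds X) (⟨closure {x}, isIrreducible_singleton.closure, isClosed_closure⟩ :
        IrreducibleCloseds X) (specializes_iff_closure_subset.1 hxy)
  simp only [gp_closure] at this
  exact this

end Sober

end Groth.Agent.Lib.Helper12.Codim
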