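import Mathlib
import Groth.Agent.Lib.Helper24.FinSigma

set_option autoImplicit false
universe u

namespace H12FinSigma

open CategoryTheory CategoryTheory.Limits AlgebraicGeometry TopologicalSpace

variable {ι : Type u} [Finite ι] {Y : ι → Scheme.{u}} {X : Scheme.{u}} (f : ∀ i, Y i ⟶ X)

theorem isAffineHom_sigmaDesc (hf : ∀ i, IsAffineHom (f i)) : IsAffineHom (Sigma.desc f) := by
  constructor
  intro U hU
  have key : (Sigma.desc f) ⁻¹ᵁ U = ⨆ i, (Sigma.ι Y i) ''ᵁ ((f i) ⁻¹ᵁ U) := by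
    apply Opens.ext
    rw [Scheme.Hom.coe_preimage, Groth.Agent.Lib.Helper24.FinSigma.preimage_sigmaDesc]
    simp
  rw [key]
  apply IsAffineOpen.iSup_of_disjoint
  · intro i
    exact (hU.preimage (f i)).image_of_isOpenImmersion _
  · intro i j hij
    refine Disjoint.mono ?_ ?_ (disjoint_opensRange_sigmaι Y i j hij)
    · exact Scheme.Hom.image_le_opensRange _ _
    · exact Scheme.Hom.image_le_opensRange _ _

theorem isIntegralHom_sigmaDesc (hf : ∀ i, IsIntegralHom (f i)) :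
    IsIntegralHom (Sigma.desc f) := by
  classical
  haveI : IsAffineHom (Sigma.desc f) := isAffineHom_sigmaDesc f (fun i => inferInstance)
  refine ⟨fun U hU => ?_⟩
  haveI : Fintype ι := Fintype.ofFinite ι
  intro s
  have hint : ∀ i, IsIntegralHom (Sigma.ι Y i ≫ Sigma.desc f) := by
    intro i; rw [Sigma.ι_desc]; exact hf i
  have h1 : ∀ i, ∃ P : Polynomial Γ(X, U), P.Monic ∧
      Polynomial.eval₂ ((Sigma.desc f).app U).hom s P ∈
        RingHom.ker ((Sigma.ι Y i).app ((Sigma.desc f) ⁻¹ᵁ U)).hom := by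
    intro i
    obtain ⟨P, hP, hP0⟩ := IsIntegralHom.isIntegral_app (Sigma.ι Y i ≫ Sigma.desc f) U hU
      (((Sigma.ι Y i).app ((Sigma.desc f) ⁻¹ᵁ U)).hom s)
    refine ⟨P, hP, ?_⟩
    rw [RingHom.mem_ker, Polynomial.hom_eval₂]
    exact hP0
  choose P hP hP0 using h1
  refine ⟨∏ i, P i, Polynomial.monic_prod_of_monic _ _ (fun i _ => hP i), ?_⟩
  apply Scheme.zero_of_zero_cover _ (sigmaOpenCover Y)
  intro (i : ι)
  change ((Sigma.ι Y i).app ((Sigma.desc f) ⁻¹ᵁ U)).hom _ = 0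
  rw [← RingHom.mem_ker, Polynomial.eval₂_finsetProd]
  exact Ideal.prod_mem _ (Finset.mem_univ i) (hP0 i)

theorem isFinite_sigmaDesc (hf : ∀ i, IsFinite (f i)) : IsFinite (Sigma.desc f) := by
  rw [IsFinite.iff_isIntegralHom_and_locallyOfFiniteType]
  exact ⟨isIntegralHom_sigmaDesc f (fun i => inferInstance),
    IsZariskiLocalAtSource.sigmaDesc (fun i => inferInstance)⟩

end H12FinSigma
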