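import Mathlib
import Groth.Prelude.Def_Red

/-!
# Base change of objects over a scheme: composition isomorphisms, and monoid homomorphisms

`ψ a b c' h A : bc a (bc b A) ≅ bc c' A` for `h : a ≫ b = c'`, its projections, its monoidality.
-/

set_option autoImplicit false
universe u v₁ v₂ u₁ u₂
open CategoryTheory CategoryTheory.Limits AlgebraicGeometry MonoidalCategory
  CartesianMonoidalCategory MonObj GrpObj

namespace Groth.Agent.Lib.Helper12.H12GrpLim

section PBC
variable {X Y Z : Scheme.{u}} (f : X ⟶ Y) (g : Y ⟶ Z) (A : Over Z)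

theorem pbc_fst : ((Over.pullbackComp f g).hom.app A).left ≫ pullback.fst _ _ ≫ pullback.fst _ _ =
    pullback.fst _ _ := by
  have h := conjugateEquiv_counit (Over.mapPullbackAdj (f ≫ g))
    ((Over.mapPullbackAdj f).comp (Over.mapPullbackAdj g)) (Over.mapComp f g).symm.hom A
  have h2 := congrArg (fun t => t.left) h
  simp only [Over.comp_left, Adjunction.comp_counit_app, Over.mapPullbackAdj_counit_app,
    Functor.comp_map, Over.map_map_left, Over.homMk_left, Category.assoc, Functor.comp_obj,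
    Functor.id_obj] at h2
  have h3 : Over.Hom.left ((Over.mapComp f g).symm.hom.app ((Over.pullback (f ≫ g)).obj A)) =
      𝟙 _ := by
    simp [Over.mapComp]
  rw [h3] at h2
  exact h2.trans (Category.id_comp _)

theorem pbc_snd : ((Over.pullbackComp f g).hom.app A).left ≫ pullback.snd _ _ =
    pullback.snd _ _ := by
  simpa using Over.w ((Over.pullbackComp f g).hom.app A)

end PBC

section Psi
variable {S U U' : Scheme.{u}}

@[reassoc]
theorem pullback_map_left_fst (g : U ⟶ S) {A B : Over S} (w : A ⟶ B) :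
    ((Over.pullback g).map w).left ≫ pullback.fst B.hom g = pullback.fst A.hom g ≫ w.left :=
  pullback.lift_fst _ _ _

@[reassoc]
theorem pullback_map_left_snd (g : U ⟶ S) {A B : Over S} (w : A ⟶ B) :
    ((Over.pullback g).map w).left ≫ pullback.snd B.hom g = pullback.snd A.hom g :=
  pullback.lift_snd _ _ _

/-- `bc (a ≫ b) A ≅ bc a (bc b A)` with the objects spelled in `Red.bc` form. -/
noncomputable def pbcIso (a : U' ⟶ U) (b : U ⟶ S) (A : Over S) :
    Red.bc (a ≫ b) A ≅ Red.bc a (Red.bc b A) := (Over.pullbackComp a b).app A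

/-- the canonical isomorphism `bc a (bc b A) ≅ bc c' A` for `a ≫ b = c'`. -/
noncomputable def ψ (a : U' ⟶ U) (b : U ⟶ S) (c' : U' ⟶ S) (h : a ≫ b = c') (A : Over S) :
    Red.bc a (Red.bc b A) ≅ Red.bc c' A :=
  ((Over.pullbackComp a b).app A).symm ≪≫ eqToIso (congrArg (fun t => Red.bc t A) h)

variable (a : U' ⟶ U) (b : U ⟶ S) (c' : U' ⟶ S) (h : a ≫ b = c') (A : Over S)

theorem ψ_eq_of_rfl : ψ a b (a ≫ b) rfl A = (pbcIso a b A).symm := by
  simp [ψ, pbcIso]

@[reassoc]
theorem ψ_hom_left_fst : (ψ a b c' h A).hom.left ≫ pullback.fst A.hom c' =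
    pullback.fst _ _ ≫ pullback.fst _ _ := by
  subst h
  rw [ψ_eq_of_rfl]
  have h1 := pbc_fst a b A
  have h2 : (pbcIso a b A).symm.hom.left ≫ (pbcIso a b A).hom.left = 𝟙 _ := by
    rw [← Over.comp_left]; simp
  calc (pbcIso a b A).symm.hom.left ≫ pullback.fst A.hom (a ≫ b)
      = (pbcIso a b A).symm.hom.left ≫ ((pbcIso a b A).hom.left ≫ pullback.fst _ _ ≫
          pullback.fst _ _) := by rw [show (pbcIso a b A).hom.left ≫ pullback.fst _ _ ≫
            pullback.fst _ _ = pullback.fst A.hom (a ≫ b) from h1]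
    _ = _ := by rw [← Category.assoc, h2]; exact Category.id_comp _

@[reassoc]
theorem ψ_hom_left_snd : (ψ a b c' h A).hom.left ≫ pullback.snd A.hom c' =
    pullback.snd _ _ := by
  simpa using Over.w (ψ a b c' h A).hom

@[reassoc]
theorem ψ_inv_left_snd : (ψ a b c' h A).inv.left ≫ pullback.snd _ _ =
    pullback.snd A.hom c' := by
  simpa using Over.w (ψ a b c' h A).inv

/-- the transition morphism `A ×_S U' ⟶ A ×_S U`. -/
noncomputable def tr : pullback A.hom c' ⟶ pullback A.hom b :=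
  pullback.lift (pullback.fst _ _) (pullback.snd _ _ ≫ a)
    (by rw [pullback.condition, ← h, Category.assoc])

@[reassoc (attr := simp)]
theorem tr_fst : tr a b c' h A ≫ pullback.fst _ _ = pullback.fst _ _ :=
  pullback.lift_fst _ _ _

@[reassoc (attr := simp)]
theorem tr_snd : tr a b c' h A ≫ pullback.snd _ _ = pullback.snd _ _ ≫ a :=
  pullback.lift_snd _ _ _

@[reassoc]
theorem ψ_hom_left_tr : (ψ a b c' h A).hom.left ≫ tr a b c' h A = pullback.fst _ _ := by
  apply pullback.hom_ext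
  · rw [Category.assoc, tr_fst, ψ_hom_left_fst]
  · rw [Category.assoc, tr_snd, ψ_hom_left_snd_assoc]
    exact pullback.condition.symm

@[reassoc]
theorem ψ_inv_left_fst : (ψ a b c' h A).inv.left ≫ pullback.fst _ _ = tr a b c' h A := by
  rw [← ψ_hom_left_tr a b c' h A, ← Category.assoc, ← Over.comp_left, Iso.inv_hom_id]
  exact Category.id_comp _

variable {A} in
theorem ψ_naturality {B : Over S} (w : A ⟶ B) :
    (Over.pullback a).map ((Over.pullback b).map w) ≫ (ψ a b c' h B).hom =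
      (ψ a b c' h A).hom ≫ (Over.pullback c').map w := by
  subst h
  simp only [ψ, eqToIso_refl, Iso.trans_refl, Iso.symm_hom, Iso.app_inv]
  exact ((Over.pullbackComp a b).inv.naturality w)

end Psi

section MonHom
variable {C : Type u₁} [Category.{v₁} C] [CartesianMonoidalCategory C]

theorem isMonHom_of_mul_hom {G H : C} [GrpObj G] [GrpObj H] (f : G ⟶ H)
    (h : μ[G] ≫ f = (f ⊗ₘ f) ≫ μ[H]) : IsMonHom f := by
  have key : ∀ {X : C} (a b : X ⟶ G), (a * b) ≫ f = (a ≫ f) * (b ≫ f) := by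
    intro X a b
    rw [Hom.mul_def, Hom.mul_def, Category.assoc, h, lift_map_assoc]
  have one1 : (1 : 𝟙_ C ⟶ G) = η[G] := by
    rw [Hom.one_def, toUnit_unique (toUnit (𝟙_ C)) (𝟙 _), Category.id_comp]
  have one2 : (1 : 𝟙_ C ⟶ H) = η[H] := by
    rw [Hom.one_def, toUnit_unique (toUnit (𝟙_ C)) (𝟙 _), Category.id_comp]
  have h0 : ((1 : 𝟙_ C ⟶ G) ≫ f) * ((1 : 𝟙_ C ⟶ G) ≫ f) = (1 : 𝟙_ C ⟶ G) ≫ f := by
    rw [← key, _root_.one_mul]
  have h1 : (1 : 𝟙_ C ⟶ G) ≫ f = 1 := by simpa using h0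
  exact ⟨by rw [← one1, h1, one2], h⟩

variable {D : Type u₂} [Category.{v₂} D] [CartesianMonoidalCategory D] (F : C ⥤ D) [F.Monoidal]
open scoped Obj

theorem map_mul_hom_iff {G H : C} [GrpObj G] [GrpObj H] (w : G ⟶ H) :
    (μ[F.obj G] ≫ F.map w = (F.map w ⊗ₘ F.map w) ≫ μ[F.obj H]) ↔
      F.map (μ[G] ≫ w) = F.map ((w ⊗ₘ w) ≫ μ[H]) := by
  rw [Functor.obj.μ_def, Functor.obj.μ_def, Category.assoc,
    Functor.LaxMonoidal.μ_natural_assoc, ← F.map_comp, ← F.map_comp, cancel_epi]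

theorem isMonHom_map_iff {G H : C} [GrpObj G] [GrpObj H] (w : G ⟶ H) :
    IsMonHom (F.map w) ↔ F.map (μ[G] ≫ w) = F.map ((w ⊗ₘ w) ≫ μ[H]) := by
  rw [← map_mul_hom_iff]
  exact ⟨fun h => h.mul_hom, fun h => isMonHom_of_mul_hom _ h⟩

end MonHom

section PsiMon
variable {S U U' : Scheme.{u}}

noncomputable def bcCompIso (b : U' ⟶ U) (a : U ⟶ S) (G : Over S) [GrpObj G] :
    Grp.mk (Red.bc (b ≫ a) G) ≅ Grp.mk (Red.bc b (Red.bc a G)) :=
  (Functor.mapGrpNatIso (Over.pullbackComp b a)).app (Grp.mk G) ≪≫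
    (Functor.mapGrpCompIso (F := Over.pullback a) (G := Over.pullback b)).app (Grp.mk G)

theorem bcCompIso_hom (b : U' ⟶ U) (a : U ⟶ S) (G : Over S) [GrpObj G] :
    (bcCompIso b a G).hom.hom.hom = (pbcIso b a G).hom := by
  simp [bcCompIso, pbcIso]
  exact Category.comp_id _

instance isMonHom_pbcIso (b : U' ⟶ U) (a : U ⟶ S) (G : Over S) [GrpObj G] :
    IsMonHom (pbcIso b a G).hom := by
  rw [← bcCompIso_hom]
  infer_instance

instance isMonHom_ψ (a : U' ⟶ U) (b : U ⟶ S) (c' : U' ⟶ S) (h : a ≫ b = c') (G : Over S)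
    [GrpObj G] : IsMonHom (ψ a b c' h G).hom := by
  subst h
  rw [ψ_eq_of_rfl]
  exact inferInstanceAs (IsMonHom (pbcIso a b G).inv)

instance isMonHom_ψ_inv (a : U' ⟶ U) (b : U ⟶ S) (c' : U' ⟶ S) (h : a ≫ b = c') (G : Over S)
    [GrpObj G] : IsMonHom (ψ a b c' h G).inv := inferInstance

end PsiMon

end Groth.Agent.Lib.Helper12.H12GrpLim
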