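import Mathlib
import Groth.Prelude.Def_Red
import Groth.Agent.Lib.Helper12.GrpLim1
import Groth.Agent.S9218
import Groth.Agent.S9219

/-!
# Morphisms of finitely presented objects over a cofiltered limit of schemes: fullness, faithfulness
in `Over.pullback` form.
-/

set_option autoImplicit false
universe u
open CategoryTheory CategoryTheory.Limits AlgebraicGeometry MonoidalCategory
  CartesianMonoidalCategory MonObj GrpObj

namespace Groth.Agent.Lib.Helper12.H12GrpLim

section Inst
variable {S U : Scheme.{u}} (g : U ⟶ S) (A B : Over S)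

instance lfp_bc [LocallyOfFinitePresentation A.hom] :
    LocallyOfFinitePresentation (Red.bc g A).hom :=
  inferInstanceAs (LocallyOfFinitePresentation (pullback.snd A.hom g))

instance qc_bc [QuasiCompact A.hom] : QuasiCompact (Red.bc g A).hom :=
  inferInstanceAs (QuasiCompact (pullback.snd A.hom g))

instance qs_bc [QuasiSeparated A.hom] : QuasiSeparated (Red.bc g A).hom :=
  inferInstanceAs (QuasiSeparated (pullback.snd A.hom g))

instance lfp_tensor [LocallyOfFinitePresentation A.hom] [LocallyOfFinitePresentation B.hom] :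
    LocallyOfFinitePresentation (A ⊗ B).hom :=
  inferInstanceAs (LocallyOfFinitePresentation (pullback.fst A.hom B.hom ≫ A.hom))

instance qc_tensor [QuasiCompact A.hom] [QuasiCompact B.hom] : QuasiCompact (A ⊗ B).hom :=
  inferInstanceAs (QuasiCompact (pullback.fst A.hom B.hom ≫ A.hom))

instance qs_tensor [QuasiSeparated A.hom] [QuasiSeparated B.hom] : QuasiSeparated (A ⊗ B).hom :=
  inferInstanceAs (QuasiSeparated (pullback.fst A.hom B.hom ≫ A.hom))

theorem compactSpace_left [CompactSpace S] [QuasiCompact A.hom] : CompactSpace A.left :=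
  QuasiCompact.compactSpace_of_compactSpace A.hom

theorem quasiSeparatedSpace_left [QuasiSeparatedSpace S] [QuasiSeparated A.hom] :
    QuasiSeparatedSpace A.left :=
  quasiSeparatedSpace_of_quasiSeparated A.hom

end Inst

section Lim
variable {I : Type u} [SmallCategory I] [IsCofiltered I]
  (D : I ⥤ Scheme.{u}) (c : Limits.Cone D)

/-- the canonical isomorphism `(A ×_{S_j} S_i) ×_{S_i} S ≅ A ×_{S_j} S`. -/
noncomputable abbrev θ {i j : I} (f : i ⟶ j) (A : Over (D.obj j)) :
    Red.bc (c.π.app i) (Red.bc (D.map f) A) ≅ Red.bc (c.π.app j) A :=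
  ψ (c.π.app i) (D.map f) (c.π.app j) (c.w f) A

/-- `A ×_{S_j} S ⟶ A ×_{S_j} S_i`. -/
noncomputable abbrev sA {i j : I} (f : i ⟶ j) (A : Over (D.obj j)) :
    pullback A.hom (c.π.app j) ⟶ pullback A.hom (D.map f) :=
  tr (c.π.app i) (D.map f) (c.π.app j) (c.w f) A

/-- `vi` (at stage `i`) is a model of `v` (over the limit). -/
def Rel {i j : I} (f : i ⟶ j) {A B : Over (D.obj j)}
    (vi : Red.bc (D.map f) A ⟶ Red.bc (D.map f) B)
    (v : Red.bc (c.π.app j) A ⟶ Red.bc (c.π.app j) B) : Prop :=
  (Over.pullback (c.π.app i)).map vi = (θ D c f A).hom ≫ v ≫ (θ D c f B).inv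

theorem rel_iff {i j : I} (f : i ⟶ j) {A B : Over (D.obj j)}
    (vi : Red.bc (D.map f) A ⟶ Red.bc (D.map f) B)
    (v : Red.bc (c.π.app j) A ⟶ Red.bc (c.π.app j) B) :
    Rel D c f vi v ↔ sA D c f A ≫ vi.left ≫ pullback.fst _ _ = v.left ≫ pullback.fst _ _ := by
  unfold Rel
  rw [← Category.assoc, Iso.eq_comp_inv]
  constructor
  · intro h
    have h1 := congrArg (fun t => (θ D c f A).inv.left ≫ t.left ≫ pullback.fst _ _) h
    simp only [Over.comp_left, Category.assoc] at h1
    rw [ψ_hom_left_fst, pullback_map_left_fst_assoc,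
      ψ_inv_left_fst_assoc] at h1
    rw [h1, ← Category.assoc, ← Over.comp_left, Iso.inv_hom_id]
    exact Category.id_comp _
  · intro h
    ext
    apply pullback.hom_ext
    · simp only [Over.comp_left, Category.assoc]
      rw [ψ_hom_left_fst, pullback_map_left_fst_assoc, ← h,
        ← ψ_hom_left_tr_assoc]
    · have e1 := Over.w ((Over.pullback (c.π.app i)).map vi ≫ (θ D c f B).hom)
      have e2 := Over.w ((θ D c f A).hom ≫ v)
      exact e1.trans e2.symm

theorem rel_map {i j : I} (f : i ⟶ j) {A B : Over (D.obj j)} (w : A ⟶ B) :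
    Rel D c f ((Over.pullback (D.map f)).map w) ((Over.pullback (c.π.app j)).map w) := by
  unfold Rel
  rw [← Category.assoc, Iso.eq_comp_inv]
  exact ψ_naturality _ _ _ _ w

theorem rel_comp {i j : I} (f : i ⟶ j) {A B E : Over (D.obj j)}
    {vi : Red.bc (D.map f) A ⟶ Red.bc (D.map f) B} {v : Red.bc (c.π.app j) A ⟶ Red.bc (c.π.app j) B}
    {wi : Red.bc (D.map f) B ⟶ Red.bc (D.map f) E} {w : Red.bc (c.π.app j) B ⟶ Red.bc (c.π.app j) E}
    (hv : Rel D c f vi v) (hw : Rel D c f wi w) : Rel D c f (vi ≫ wi) (v ≫ w) := by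
  unfold Rel at hv hw ⊢
  rw [Functor.map_comp, hv, hw]
  simp

theorem rel_id {i j : I} (f : i ⟶ j) (A : Over (D.obj j)) :
    Rel D c f (𝟙 (Red.bc (D.map f) A)) (𝟙 _) := by
  unfold Rel
  simp

theorem rel_unique {i j : I} (f : i ⟶ j) {A B : Over (D.obj j)}
    {vi : Red.bc (D.map f) A ⟶ Red.bc (D.map f) B}
    {v v' : Red.bc (c.π.app j) A ⟶ Red.bc (c.π.app j) B}
    (hv : Rel D c f vi v) (hv' : Rel D c f vi v') : v = v' := by
  unfold Rel at hv hv'
  have h := hv.symm.trans hv'
  rwa [cancel_epi, cancel_mono] at h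

theorem rel_map_eq {i j : I} (f : i ⟶ j) {A B : Over (D.obj j)}
    {vi wi : Red.bc (D.map f) A ⟶ Red.bc (D.map f) B}
    {v : Red.bc (c.π.app j) A ⟶ Red.bc (c.π.app j) B}
    (hv : Rel D c f vi v) (hw : Rel D c f wi v) :
    (Over.pullback (c.π.app i)).map vi = (Over.pullback (c.π.app i)).map wi :=
  hv.trans hw.symm

section Push
variable {i' i j : I} (g : i' ⟶ i) (f : i ⟶ j) (f' : i' ⟶ j) (hf : g ≫ f = f')

/-- `(A ×_{S_j} S_i) ×_{S_i} S_{i'} ≅ A ×_{S_j} S_{i'}`. -/
noncomputable abbrev κ (A : Over (D.obj j)) :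
    Red.bc (D.map g) (Red.bc (D.map f) A) ≅ Red.bc (D.map f') A :=
  ψ (D.map g) (D.map f) (D.map f') (by rw [← hf, D.map_comp]) A

/-- transport a morphism at stage `i` to the later stage `i'`. -/
noncomputable def push {A B : Over (D.obj j)} (vi : Red.bc (D.map f) A ⟶ Red.bc (D.map f) B) :
    Red.bc (D.map f') A ⟶ Red.bc (D.map f') B :=
  (κ D g f f' hf A).inv ≫ (Over.pullback (D.map g)).map vi ≫ (κ D g f f' hf B).hom

theorem push_comp {A B E : Over (D.obj j)} (vi : Red.bc (D.map f) A ⟶ Red.bc (D.map f) B)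
    (wi : Red.bc (D.map f) B ⟶ Red.bc (D.map f) E) :
    push D g f f' hf (vi ≫ wi) = push D g f f' hf vi ≫ push D g f f' hf wi := by
  simp [push]

theorem push_map {A B : Over (D.obj j)} (w : A ⟶ B) :
    push D g f f' hf ((Over.pullback (D.map f)).map w) = (Over.pullback (D.map f')).map w := by
  unfold push
  rw [ψ_naturality, Iso.inv_hom_id_assoc]

theorem push_eq_of_map_eq {A B : Over (D.obj j)} {vi wi : Red.bc (D.map f) A ⟶ Red.bc (D.map f) B}
    (h : (Over.pullback (D.map g)).map vi = (Over.pullback (D.map g)).map wi) :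
    push D g f f' hf vi = push D g f f' hf wi := by
  unfold push
  rw [h]

theorem sA_tr (A : Over (D.obj j)) :
    sA D c f' A ≫ tr (D.map g) (D.map f) (D.map f') (by rw [← hf, D.map_comp]) A = sA D c f A := by
  apply pullback.hom_ext
  · simp
  · simp only [Category.assoc, tr_snd, tr_snd_assoc]
    rw [c.w g]

theorem rel_push {A B : Over (D.obj j)} {vi : Red.bc (D.map f) A ⟶ Red.bc (D.map f) B}
    {v : Red.bc (c.π.app j) A ⟶ Red.bc (c.π.app j) B} (hv : Rel D c f vi v) :
    Rel D c f' (push D g f f' hf vi) v := by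
  rw [rel_iff] at hv ⊢
  unfold push
  simp only [Over.comp_left, Category.assoc]
  rw [ψ_hom_left_fst, pullback_map_left_fst_assoc, ψ_inv_left_fst_assoc, ← hv,
    ← sA_tr D c g f f' hf A, Category.assoc]

end Push

section FullFaithful
variable (hc : Limits.IsLimit c) [∀ (i j : I) (f : i ⟶ j), IsAffineHom (D.map f)]
  [∀ i, CompactSpace (D.obj i)] [∀ i, QuasiSeparatedSpace (D.obj i)]

include hc in
theorem full {j : I} (A B : Over (D.obj j))
    [LocallyOfFinitePresentation A.hom] [QuasiCompact A.hom] [QuasiSeparated A.hom]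
    [LocallyOfFinitePresentation B.hom] [QuasiCompact B.hom] [QuasiSeparated B.hom]
    (v : Red.bc (c.π.app j) A ⟶ Red.bc (c.π.app j) B) :
    ∃ (i : I) (f : i ⟶ j) (vi : Red.bc (D.map f) A ⟶ Red.bc (D.map f) B), Rel D c f vi v := by
  haveI := compactSpace_left A
  haveI := quasiSeparatedSpace_left A
  haveI := compactSpace_left B
  haveI := quasiSeparatedSpace_left B
  obtain ⟨i, φ, fj, sX, sY, h1, h2, h3, h4, h5, h6⟩ :=
    Groth.Agent.S9218.result D c hc j A.hom B.hom
      (pullback.fst A.hom (c.π.app j)) (pullback.snd A.hom (c.π.app j))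
      (IsPullback.of_hasPullback _ _)
      (pullback.fst B.hom (c.π.app j)) (pullback.snd B.hom (c.π.app j))
      (IsPullback.of_hasPullback _ _) v.left
      (by simpa using Over.w v)
  refine ⟨i, φ, Over.homMk fj h1, ?_⟩
  rw [rel_iff]
  have hsX : sA D c φ A = sX := by
    apply pullback.hom_ext
    · rw [tr_fst, h2]
    · rw [tr_snd, h3]
  rw [hsX]
  change sX ≫ fj ≫ pullback.fst B.hom (D.map φ) = _
  rw [← Category.assoc, h6, Category.assoc, h4]

include hc in
theorem faithful {i : I} (A B : Over (D.obj i))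
    [LocallyOfFinitePresentation A.hom] [QuasiCompact A.hom] [QuasiSeparated A.hom]
    [LocallyOfFinitePresentation B.hom] [QuasiCompact B.hom] [QuasiSeparated B.hom]
    (u₁ u₂ : A ⟶ B)
    (h : (Over.pullback (c.π.app i)).map u₁ = (Over.pullback (c.π.app i)).map u₂) :
    ∃ (i' : I) (g : i' ⟶ i),
      (Over.pullback (D.map g)).map u₁ = (Over.pullback (D.map g)).map u₂ := by
  haveI := compactSpace_left A
  haveI := quasiSeparatedSpace_left A
  haveI := compactSpace_left B
  haveI := quasiSeparatedSpace_left B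
  obtain ⟨i', g, hg⟩ := Groth.Agent.S9219.result D c hc i A.hom B.hom
    (pullback.fst A.hom (c.π.app i)) (pullback.snd A.hom (c.π.app i))
    (IsPullback.of_hasPullback _ _) u₁.left u₂.left (Over.w u₁) (Over.w u₂)
    (by
      have h1 := congrArg (fun t => t.left ≫ pullback.fst _ _) h
      rwa [pullback_map_left_fst, pullback_map_left_fst] at h1)
  refine ⟨i', g, ?_⟩
  ext
  apply pullback.hom_ext
  · rw [pullback_map_left_fst, pullback_map_left_fst, hg]
  · rw [pullback_map_left_snd, pullback_map_left_snd]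

include hc in
/-- two models of the same morphism agree at a later stage. -/
theorem rel_eventually_eq {i j : I} (f : i ⟶ j) (A B : Over (D.obj j))
    [LocallyOfFinitePresentation A.hom] [QuasiCompact A.hom] [QuasiSeparated A.hom]
    [LocallyOfFinitePresentation B.hom] [QuasiCompact B.hom] [QuasiSeparated B.hom]
    {vi wi : Red.bc (D.map f) A ⟶ Red.bc (D.map f) B}
    {v : Red.bc (c.π.app j) A ⟶ Red.bc (c.π.app j) B}
    (hv : Rel D c f vi v) (hw : Rel D c f wi v) :
    ∃ (i' : I) (g : i' ⟶ i), push D g f (g ≫ f) rfl vi = push D g f (g ≫ f) rfl wi := by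
  obtain ⟨i', g, hg⟩ := faithful D c hc _ _ vi wi (rel_map_eq D c f hv hw)
  exact ⟨i', g, push_eq_of_map_eq D g f _ rfl hg⟩

end FullFaithful

end Lim

end Groth.Agent.Lib.Helper12.H12GrpLim
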