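import Mathlib
import Groth.Prelude.Def_Red
import Groth.Prelude.Def_AlgGrp
import Groth.Agent.Lib.Helper12.GrpLim2

/-!
# Normal and central homomorphisms: universal form, and behaviour under monoidal functors
-/

set_option autoImplicit false
universe u v₁ v₂ u₁ u₂
open CategoryTheory CategoryTheory.Limits AlgebraicGeometry MonoidalCategory
  CartesianMonoidalCategory MonObj GrpObj

namespace Groth.Agent.Lib.Helper12.H12GrpLim

section Expr
variable {C : Type u₁} [Category.{v₁} C] [CartesianMonoidalCategory C]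
  {G N : C} [GrpObj G] [GrpObj N] (u : N ⟶ G)

/-- `(g, n) ↦ g · u(n) · g⁻¹`. -/
def conjMor : G ⊗ N ⟶ G := fst G N * (snd G N ≫ u) * (fst G N)⁻¹

/-- `(g, n) ↦ g · u(n)`. -/
def commL : G ⊗ N ⟶ G := fst G N * (snd G N ≫ u)

/-- `(g, n) ↦ u(n) · g`. -/
def commR : G ⊗ N ⟶ G := (snd G N ≫ u) * fst G N

theorem lift_conjMor {T : C} (g : T ⟶ G) (n : T ⟶ N) :
    lift g n ≫ conjMor u = g * (n ≫ u) * g⁻¹ := by
  simp [conjMor, MonObj.comp_mul, GrpObj.comp_inv]

theorem lift_commL {T : C} (g : T ⟶ G) (n : T ⟶ N) :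
    lift g n ≫ commL u = g * (n ≫ u) := by
  simp [commL, MonObj.comp_mul]

theorem lift_commR {T : C} (g : T ⟶ G) (n : T ⟶ N) :
    lift g n ≫ commR u = (n ≫ u) * g := by
  simp [commR, MonObj.comp_mul]

theorem normal_iff_exists :
    (∀ (T : C) (g : T ⟶ G) (n : T ⟶ N), ∃ n' : T ⟶ N, g * (n ≫ u) * g⁻¹ = n' ≫ u) ↔
      ∃ κ : G ⊗ N ⟶ N, κ ≫ u = conjMor u := by
  constructor
  · intro h
    obtain ⟨n', hn'⟩ := h (G ⊗ N) (fst G N) (snd G N)
    exact ⟨n', hn'.symm⟩
  · rintro ⟨κ, hκ⟩ T g n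
    exact ⟨lift g n ≫ κ, by rw [Category.assoc, hκ, lift_conjMor]⟩

theorem central_iff :
    (∀ (T : C) (g : T ⟶ G) (n : T ⟶ N), g * (n ≫ u) = (n ≫ u) * g) ↔ commL u = commR u := by
  constructor
  · intro h
    exact h (G ⊗ N) (fst G N) (snd G N)
  · intro h T g n
    rw [← lift_commL, ← lift_commR, h]

variable {D : Type u₂} [Category.{v₂} D] [CartesianMonoidalCategory D] (F : C ⥤ D) [F.Monoidal]
open scoped Obj

theorem μ_map_conjMor :
    Functor.LaxMonoidal.μ F G N ≫ F.map (conjMor u) = conjMor (F.map u) := by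
  simp [conjMor, Functor.map_mul, MonObj.comp_mul, GrpObj.comp_inv]

theorem μ_map_commL :
    Functor.LaxMonoidal.μ F G N ≫ F.map (commL u) = commL (F.map u) := by
  simp [commL, Functor.map_mul, MonObj.comp_mul]

theorem μ_map_commR :
    Functor.LaxMonoidal.μ F G N ≫ F.map (commR u) = commR (F.map u) := by
  simp [commR, Functor.map_mul, MonObj.comp_mul]

end Expr

end Groth.Agent.Lib.Helper12.H12GrpLim
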