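import Mathlib
import Groth.Prelude.Def_Red
import Groth.Prelude.Def_AlgGrp
import Groth.Agent.Lib.Helper12.GrpLim3
import Groth.Agent.S2579

/-!
# Base change squares in `Over.pullback` form; transfer of properties; persistence
-/

set_option autoImplicit false
universe u
open CategoryTheory CategoryTheory.Limits AlgebraicGeometry MonoidalCategory
  CartesianMonoidalCategory MonObj GrpObj

namespace Groth.Agent.Lib.Helper12.H12GrpLim

section Transfer
variable {S U : Scheme.{u}} (g : U ⟶ S) {A B : Over S} (w : A ⟶ B)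

theorem isPullback_map_left :
    IsPullback (pullback.fst A.hom g) ((Over.pullback g).map w).left w.left
      (pullback.fst B.hom g) := by
  refine IsPullback.of_bot ?_ (pullback_map_left_fst g w).symm (IsPullback.of_hasPullback B.hom g)
  rw [pullback_map_left_snd, Over.w w]
  exact IsPullback.of_hasPullback A.hom g

theorem transfer {Xi Yi : Scheme.{u}} (fi : Xi ⟶ Yi) (gi : Yi ⟶ U) (pY : Yi ⟶ B.left)
    (pX : Xi ⟶ A.left) (hY : IsPullback pY gi B.hom g) (hX : IsPullback pX fi w.left pY)
    (P : MorphismProperty Scheme.{u}) [P.RespectsIso] :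
    P fi ↔ P ((Over.pullback g).map w).left := by
  have hXY : IsPullback pX (fi ≫ gi) A.hom g := by
    have := hX.paste_vert hY
    rwa [Over.w w] at this
  refine P.arrow_mk_iso_iff (Arrow.isoMk hXY.isoPullback hY.isoPullback ?_)
  apply pullback.hom_ext
  · simp only [Arrow.mk_left, Arrow.mk_right, Arrow.mk_hom, Functor.id_obj, Category.assoc]
    rw [pullback_map_left_fst, IsPullback.isoPullback_hom_fst, IsPullback.isoPullback_hom_fst_assoc]
    exact hX.w
  · simp only [Arrow.mk_left, Arrow.mk_right, Arrow.mk_hom, Functor.id_obj, Category.assoc]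
    rw [pullback_map_left_snd, IsPullback.isoPullback_hom_snd, IsPullback.isoPullback_hom_snd]

end Transfer

section Pers
variable {S U U' : Scheme.{u}} (a : U' ⟶ U) (b : U ⟶ S) (c' : U' ⟶ S) (h : a ≫ b = c')

theorem pers_eq {A B : Over S} (w : A ⟶ B) :
    (Over.pullback c').map w =
      (ψ a b c' h A).inv ≫ (Over.pullback a).map ((Over.pullback b).map w) ≫
        (ψ a b c' h B).hom := by
  rw [ψ_naturality, Iso.inv_hom_id_assoc]

include h in
theorem mono_pers {A B : Over S} (w : A ⟶ B) (hm : Mono ((Over.pullback b).map w)) :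
    Mono ((Over.pullback c').map w) := by
  rw [pers_eq a b c' h w]
  haveI : Mono ((Over.pullback a).map ((Over.pullback b).map w)) := inferInstance
  infer_instance

include h in
theorem map_eq_pers {A B : Over S} (w w' : A ⟶ B)
    (hm : (Over.pullback b).map w = (Over.pullback b).map w') :
    (Over.pullback c').map w = (Over.pullback c').map w' := by
  rw [pers_eq a b c' h w, pers_eq a b c' h w', hm]

end Pers

section Normal
variable {S : Scheme.{u}}

theorem isNormalHom_iff {N G : Over S} [GrpObj N] [GrpObj G] (u : N ⟶ G) :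
    AlgGrp.IsNormalHom u ↔ ∃ κ : G ⊗ N ⟶ N, κ ≫ u = conjMor u :=
  normal_iff_exists u

/-- centrality of a homomorphism, pointwise form. -/
def IsCentralHom {N G : Over S} [GrpObj N] [GrpObj G] (u : N ⟶ G) : Prop :=
  ∀ (T : Over S) (g : T ⟶ G) (n : T ⟶ N), g * (n ≫ u) = (n ≫ u) * g

theorem isCentralHom_iff {N G : Over S} [GrpObj N] [GrpObj G] (u : N ⟶ G) :
    IsCentralHom u ↔ commL u = commR u :=
  central_iff u

theorem isNormalHom_conj {N N' G G' : Over S} [GrpObj N] [GrpObj N'] [GrpObj G] [GrpObj G']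
    (α : N' ≅ N) (β : G ≅ G') [IsMonHom α.hom] [IsMonHom β.hom] (u : N ⟶ G)
    (hu : AlgGrp.IsNormalHom u) : AlgGrp.IsNormalHom (α.hom ≫ u ≫ β.hom) := by
  intro T g' n'
  obtain ⟨m, hm⟩ := hu T (g' ≫ β.inv) (n' ≫ α.hom)
  refine ⟨m ≫ α.inv, ?_⟩
  have h1 := congrArg (fun t => t ≫ β.hom) hm
  simp only [MonObj.mul_comp, GrpObj.inv_comp, Category.assoc, Iso.inv_hom_id,
    Category.comp_id] at h1
  rw [h1]
  simp

theorem isCentralHom_conj {N N' G G' : Over S} [GrpObj N] [GrpObj N'] [GrpObj G] [GrpObj G']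
    (α : N' ≅ N) (β : G ≅ G') [IsMonHom α.hom] [IsMonHom β.hom] (u : N ⟶ G)
    (hu : IsCentralHom u) : IsCentralHom (α.hom ≫ u ≫ β.hom) := by
  intro T g' n'
  have hm := hu T (g' ≫ β.inv) (n' ≫ α.hom)
  have h1 := congrArg (fun t => t ≫ β.hom) hm
  simp only [MonObj.mul_comp, Category.assoc, Iso.inv_hom_id, Category.comp_id] at h1
  exact h1

variable {U : Scheme.{u}} (g : U ⟶ S)

theorem isNormalHom_map {N G : Over S} [GrpObj N] [GrpObj G] (u : N ⟶ G)
    (hu : AlgGrp.IsNormalHom u) : AlgGrp.IsNormalHom ((Over.pullback g).map u) := by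
  rw [isNormalHom_iff] at hu ⊢
  obtain ⟨κ, hκ⟩ := hu
  refine ⟨Functor.LaxMonoidal.μ (Over.pullback g) G N ≫ (Over.pullback g).map κ, ?_⟩
  rw [Category.assoc, ← Functor.map_comp, hκ, μ_map_conjMor]

theorem isCentralHom_map_iff {N G : Over S} [GrpObj N] [GrpObj G] (u : N ⟶ G) :
    IsCentralHom ((Over.pullback g).map u) ↔
      (Over.pullback g).map (commL u) = (Over.pullback g).map (commR u) := by
  rw [isCentralHom_iff, ← μ_map_commL, ← μ_map_commR, cancel_epi]

end Normal

end Groth.Agent.Lib.Helper12.H12GrpLim
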