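import Mathlib.AlgebraicGeometry.Morphisms.QuasiCompact
import Mathlib.AlgebraicGeometry.Morphisms.UnderlyingMap
import Mathlib.AlgebraicGeometry.PullbackCarrier
import Mathlib.RingTheory.Spectrum.Prime.Topology

set_option autoImplicit false
universe u

namespace Groth.Agent.Lib.Helper12

open CategoryTheory AlgebraicGeometry CategoryTheory.Limits

/-- Affine case: a point in the closure of the image of a closed set under `Spec.map φ` is a
specialization of a point of the image. -/
theorem exists_specializes_of_mem_closure_image_comap {A B : Type u} [CommRing A] [CommRing B]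
    (φ : A →+* B) (T : Set (PrimeSpectrum B)) (hT : IsClosed T) (z : PrimeSpectrum A)
    (hz : z ∈ closure (PrimeSpectrum.comap φ '' T)) :
    ∃ y ∈ T, PrimeSpectrum.comap φ y ⤳ z := by
  obtain ⟨I, rfl⟩ := (PrimeSpectrum.isClosed_iff_zeroLocus_ideal T).mp hT
  rw [PrimeSpectrum.closure_image_comap_zeroLocus] at hz
  have hz' : I.comap φ ≤ z.asIdeal := hz
  have hdisj : Disjoint (I : Set B) (Submonoid.map φ z.asIdeal.primeCompl : Submonoid B) := by
    rw [Set.disjoint_left]
    rintro b hbI ⟨a, ha, rfl⟩
    exact ha (hz' hbI)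
  obtain ⟨q, hq, hIq, hqd⟩ := Ideal.exists_le_prime_disjoint I _ hdisj
  refine ⟨⟨q, hq⟩, hIq, ?_⟩
  rw [← PrimeSpectrum.le_iff_specializes]
  intro a ha
  by_contra hna
  exact Set.disjoint_left.mp hqd ha ⟨a, hna, rfl⟩

/-- A point in the closure of the image of a closed set under a quasi-compact morphism is a
specialization of a point of the image. -/
theorem exists_specializes_of_mem_closure_image {Y Z : Scheme.{u}} (g : Y ⟶ Z) [QuasiCompact g]
    (T : Set Y) (hT : IsClosed T) (z : Z) (hz : z ∈ closure (g '' T)) :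
    ∃ y ∈ T, g y ⤳ z := by
  wlog hZ : ∃ R, Z = Spec R generalizing Y Z
  · obtain ⟨i, z', rfl⟩ := Z.affineCover.exists_eq z
    have hqc : QuasiCompact (pullback.snd g (Z.affineCover.f i)) :=
      MorphismProperty.pullback_snd _ _ inferInstance
    have hemb := (Z.affineCover.f i).isOpenEmbedding
    have hz' : z' ∈ closure ((pullback.snd g (Z.affineCover.f i)) ''
        ((pullback.fst g (Z.affineCover.f i)) ⁻¹' T)) := by
      have h1 : (Z.affineCover.f i) z' ∈ closure (Set.range (Z.affineCover.f i) ∩ g '' T) :=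
        hemb.isOpen_range.inter_closure ⟨⟨z', rfl⟩, hz⟩
      have h2 : Set.range (Z.affineCover.f i) ∩ g '' T = (Z.affineCover.f i) ''
          ((pullback.snd g (Z.affineCover.f i)) ''
            ((pullback.fst g (Z.affineCover.f i)) ⁻¹' T)) := by
        ext w
        constructor
        · rintro ⟨⟨w', rfl⟩, ⟨y, hyT, hy⟩⟩
          obtain ⟨a, ha1, ha2⟩ := Scheme.Pullback.exists_preimage_pullback y w' hy
          exact ⟨w', ⟨a, by simpa [ha1] using hyT, ha2⟩, rfl⟩
        · rintro ⟨w', ⟨a, haT, rfl⟩, rfl⟩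
          refine ⟨⟨_, rfl⟩, (pullback.fst g (Z.affineCover.f i)) a, haT, ?_⟩
          simp only [← Scheme.Hom.comp_apply, pullback.condition]
      rw [h2] at h1
      rw [hemb.isEmbedding.closure_eq_preimage_closure_image]
      exact h1
    obtain ⟨y', hy'T, hy'⟩ := this (pullback.snd g (Z.affineCover.f i))
      ((pullback.fst g (Z.affineCover.f i)) ⁻¹' T)
      (hT.preimage (pullback.fst g (Z.affineCover.f i)).continuous) z' hz' ⟨_, rfl⟩
    refine ⟨(pullback.fst g (Z.affineCover.f i)) y', hy'T, ?_⟩
    have e : g ((pullback.fst g (Z.affineCover.f i)) y') =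
        (Z.affineCover.f i) ((pullback.snd g (Z.affineCover.f i)) y') := by
      simp only [← Scheme.Hom.comp_apply, pullback.condition]
    rw [e]
    exact hy'.map (Z.affineCover.f i).continuous
  obtain ⟨R, rfl⟩ := hZ
  wlog hY : ∃ S, Y = Spec S generalizing Y
  · have hc : CompactSpace Y := QuasiCompact.compactSpace_of_compactSpace g
    obtain ⟨S, r, hr⟩ := compactSpace_iff_exists.mp hc
    have hqc : QuasiCompact (r ≫ g) := HasAffineProperty.iff_of_isAffine.mpr (by infer_instance)
    have himg : (r ≫ g) '' (r ⁻¹' T) = g '' T := by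
      simp only [Scheme.Hom.comp_base, TopCat.coe_comp, Set.image_comp,
        Set.image_preimage_eq _ hr]
    obtain ⟨y', hy'T, hy'⟩ := this (g := r ≫ g) (r ⁻¹' T) (hT.preimage r.continuous)
      (by rw [himg]; exact hz) ⟨_, rfl⟩
    exact ⟨r y', hy'T, by simpa using hy'⟩
  obtain ⟨S, rfl⟩ := hY
  obtain ⟨φ, rfl⟩ := Spec.map_surjective g
  exact exists_specializes_of_mem_closure_image_comap φ.hom T hT z hz

end Groth.Agent.Lib.Helper12
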