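import Mathlib
import Groth.Prelude.Def_Smoothing

set_option autoImplicit false
universe u

namespace Groth.Agent.Lib.Helper12.ElemStd

open MvPolynomial Algebra

section

variable {R : Type u} [CommRing R] {n c : ℕ} (hcn : c ≤ n) (fl : Fin c → MvPolynomial (Fin n) R)

/-- the quotient by the leading relations -/
abbrev T : Type u := MvPolynomial (Fin n) R ⧸ Ideal.span (Set.range fl)

/-- the naive pre-submersive presentation -/
noncomputable def P1 : PreSubmersivePresentation R (T fl) (Fin n) (Fin c) :=
  PreSubmersivePresentation.naive (v := fl) (Fin.castLE hcn) (Fin.castLE_injective hcn)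

theorem P1_jacobian :
    (P1 hcn fl).jacobian = Ideal.Quotient.mk _
      (Matrix.det (Matrix.of fun j k : Fin c => pderiv (Fin.castLE hcn k) (fl j))) := by
  classical
  rw [PreSubmersivePresentation.jacobian_eq_jacobiMatrix_det]
  let M : Matrix (Fin c) (Fin c) (MvPolynomial (Fin n) R) :=
    Matrix.of fun j k : Fin c => pderiv (Fin.castLE hcn k) (fl j)
  have h : (P1 hcn fl).jacobiMatrix = M.transpose := by
    apply Matrix.ext
    intro i j
    rw [Matrix.transpose_apply]
    exact PreSubmersivePresentation.jacobiMatrix_naive _ _ _ _ i j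
  rw [h, Matrix.det_transpose]
  rfl

end

section Main

variable {R A : Type u} [CommRing R] [CommRing A] [Algebra R A]
  {n m c : ℕ} (hcn : c ≤ n) (hcm : c ≤ m) (f : Fin m → MvPolynomial (Fin n) R)
  (hom : MvPolynomial (Fin n) R →ₐ[R] A) (hsurj : Function.Surjective hom)
  (hker : RingHom.ker hom.toRingHom = Ideal.span (Set.range f))

include hsurj hker in
theorem isStandardSmooth_away (a a'' : A)
    (ha : a = a'' * hom (Smoothing.jacobianMinor f (Fin.castLE hcm) (Fin.castLE hcn)))
    (hkt : ∀ a' : MvPolynomial (Fin n) R, hom a' = a → ∀ j : Fin m, c ≤ (j : ℕ) →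
      a' * f j ∈ Ideal.span (f '' {j' : Fin m | (j' : ℕ) < c}) ⊔ Ideal.span (Set.range f) ^ 2) :
    Algebra.IsStandardSmooth R (Localization.Away a) := by
  classical
  set fl : Fin c → MvPolynomial (Fin n) R := fun i => f (Fin.castLE hcm i) with hfl
  set I : Ideal (MvPolynomial (Fin n) R) := Ideal.span (Set.range f) with hI
  set I₀ : Ideal (MvPolynomial (Fin n) R) := Ideal.span (Set.range fl) with hI₀
  have hlead : Ideal.span (f '' {j' : Fin m | (j' : ℕ) < c}) ≤ I₀ := by
    rw [Ideal.span_le]
    rintro _ ⟨j, hj, rfl⟩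
    refine Ideal.subset_span ⟨⟨j, hj⟩, ?_⟩
    simp only [hfl]
    congr 1
  have hI₀I : I₀ ≤ I := Ideal.span_mono (by rintro _ ⟨i, rfl⟩; exact ⟨_, rfl⟩)
  have hI₀ker : ∀ x ∈ I₀, hom x = 0 := fun x hx => by
    have : x ∈ RingHom.ker hom.toRingHom := by rw [hker]; exact hI₀I hx
    exact this
  let π : T fl →ₐ[R] A := Ideal.Quotient.liftₐ I₀ hom hI₀ker
  have hπ : ∀ p, π (Ideal.Quotient.mk I₀ p) = hom p := fun p => rfl
  have hπsurj : Function.Surjective π := fun y => by
    obtain ⟨p, rfl⟩ := hsurj y
    exact ⟨Ideal.Quotient.mk I₀ p, hπ p⟩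
  set K : Ideal (T fl) := I.map (Ideal.Quotient.mk I₀) with hK
  have hKer : RingHom.ker π.toRingHom = K := by
    apply le_antisymm
    · intro x hx
      obtain ⟨p, rfl⟩ := Ideal.Quotient.mk_surjective x
      have hp : p ∈ I := by
        rw [← hker]
        exact hx
      exact Ideal.mem_map_of_mem _ hp
    · rw [hK, Ideal.map_le_iff_le_comap]
      intro p hp
      rw [← hker] at hp
      exact hp
  obtain ⟨a', ha'⟩ := hsurj a
  set b : T fl := Ideal.Quotient.mk I₀ a' with hb
  have hπb : π b = a := by rw [hb, hπ, ha']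
  -- `b • K ≤ K ^ 2`
  have hgen : ∀ j : Fin m, b * Ideal.Quotient.mk I₀ (f j) ∈ K ^ 2 := by
    intro j
    by_cases hj : (j : ℕ) < c
    · have : f j ∈ I₀ := hlead (Ideal.subset_span ⟨j, hj, rfl⟩)
      rw [Ideal.Quotient.eq_zero_iff_mem.2 this, mul_zero]
      exact zero_mem _
    · have h1 := hkt a' ha' j (not_lt.1 hj)
      have h2 : Ideal.Quotient.mk I₀ (a' * f j) ∈
          (Ideal.span (f '' {j' : Fin m | (j' : ℕ) < c}) ⊔ I ^ 2).map (Ideal.Quotient.mk I₀) :=
        Ideal.mem_map_of_mem _ h1
      rw [Ideal.map_sup, Ideal.map_pow] at h2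
      have h3 : (Ideal.span (f '' {j' : Fin m | (j' : ℕ) < c})).map (Ideal.Quotient.mk I₀) = ⊥ := by
        rw [eq_bot_iff, Ideal.map_le_iff_le_comap]
        intro x hx
        rw [Ideal.mem_comap, Ideal.mem_bot, Ideal.Quotient.eq_zero_iff_mem]
        exact hlead hx
      rw [h3, bot_sup_eq, map_mul] at h2
      exact h2
  have hbK : ∀ x ∈ K, b * x ∈ K ^ 2 := by
    intro x hx
    rw [hK, Ideal.map_span] at hx
    refine Submodule.span_induction ?_ ?_ ?_ ?_ hx
    · rintro _ ⟨_, ⟨j, rfl⟩, rfl⟩
      exact hgen j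
    · rw [mul_zero]; exact zero_mem _
    · intro x y _ _ hx hy
      rw [mul_add]; exact add_mem hx hy
    · intro r x _ hx
      rw [smul_eq_mul, mul_left_comm]
      exact Ideal.mul_mem_left _ _ hx
  -- the localizations
  set T' := Localization.Away b with hT'
  set Aa := Localization.Away a with hAa
  have hmap : (Submonoid.powers b).map π.toRingHom = Submonoid.powers a := by
    rw [Submonoid.map_powers]
    congr 1
  haveI : IsLocalization ((Submonoid.powers b).map π.toRingHom) Aa := by
    rw [hmap]; infer_instance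
  let ρ : T' →+* Aa := IsLocalization.map (M := Submonoid.powers b) Aa π.toRingHom
    (Submonoid.powers b).le_comap_map
  have hρsurj : Function.Surjective ρ :=
    IsLocalization.map_surjective_of_surjective (Submonoid.powers b) T' Aa hπsurj
  have hρker : RingHom.ker ρ = K.map (algebraMap (T fl) T') := by
    rw [← hKer]
    exact IsLocalization.ker_map (M := Submonoid.powers b) (S := T') Aa π.toRingHom rfl
  set K' : Ideal T' := K.map (algebraMap (T fl) T') with hK'
  have hfg : K'.FG := by
    have h1 : I.FG := ⟨(Finset.univ.image f), by rw [Finset.coe_image, Finset.coe_univ, Set.image_univ]⟩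
    exact (h1.map _).map _
  have hidem : IsIdempotentElem K' := by
    apply le_antisymm
    · exact Ideal.mul_le_left
    · rw [hK', Ideal.map_le_iff_le_comap]
      intro x hx
      rw [Ideal.mem_comap]
      have hu : IsUnit (algebraMap (T fl) T' b) := IsLocalization.Away.algebraMap_isUnit b
      have h1 : algebraMap (T fl) T' (b * x) ∈ (K ^ 2).map (algebraMap (T fl) T') :=
        Ideal.mem_map_of_mem _ (hbK x hx)
      rw [Ideal.map_pow, pow_two, map_mul] at h1
      have h2 := Ideal.mul_mem_left _ (↑hu.unit⁻¹ : T') h1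
      rwa [← mul_assoc, IsUnit.val_inv_mul, one_mul] at h2
  obtain ⟨e', he', hKe'⟩ := (Ideal.isIdempotentElem_iff_of_fg K' hfg).1 hidem
  set e : T' := 1 - e' with he
  have hee : IsIdempotentElem e := he'.one_sub
  letI : Algebra T' Aa := ρ.toAlgebra
  have hker2 : RingHom.ker (algebraMap T' Aa) = Ideal.span {1 - e} := by
    change RingHom.ker ρ = _
    rw [hρker, hKe', he, sub_sub_cancel]
  haveI : IsLocalization.Away e Aa := IsLocalization.away_of_isIdempotentElem hee hker2 hρsurj
  letI : Algebra (T fl) Aa := ((algebraMap A Aa).comp π.toRingHom).toAlgebra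
  have halgT : ∀ t : T fl, algebraMap (T fl) Aa t = algebraMap A Aa (π t) := fun t => rfl
  haveI : IsScalarTower (T fl) T' Aa := by
    refine IsScalarTower.of_algebraMap_eq (R := T fl) (S := T') (A := Aa) fun t => ?_
    rw [halgT]
    exact (IsLocalization.map_eq (M := Submonoid.powers b) (S := T') (Q := Aa)
      (g := π.toRingHom) (Submonoid.powers b).le_comap_map t).symm
  haveI : IsScalarTower R (T fl) Aa := by
    refine IsScalarTower.of_algebraMap_eq (R := R) (S := T fl) (A := Aa) fun r => ?_
    rw [halgT, IsScalarTower.algebraMap_apply R A Aa, π.commutes]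
  let Q1 : SubmersivePresentation (T fl) T' Unit Unit := SubmersivePresentation.localizationAway T' b
  let Q2 : SubmersivePresentation T' Aa Unit Unit := SubmersivePresentation.localizationAway Aa e
  let Q : SubmersivePresentation (T fl) Aa (Unit ⊕ Unit) (Unit ⊕ Unit) := Q2.comp Q1
  let PP : PreSubmersivePresentation R Aa ((Unit ⊕ Unit) ⊕ Fin n) ((Unit ⊕ Unit) ⊕ Fin c) :=
    Q.toPreSubmersivePresentation.comp (P1 hcn fl)
  have hjac : IsUnit PP.jacobian := by
    rw [PreSubmersivePresentation.comp_jacobian_eq_jacobian_smul_jacobian, Algebra.smul_def]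
    refine IsUnit.mul ?_ Q.jacobian_isUnit
    rw [P1_jacobian, halgT, hπ]
    have hu : IsUnit (algebraMap A Aa a) := IsLocalization.Away.algebraMap_isUnit a
    have h1 : algebraMap A Aa
        (a'' * hom (Smoothing.jacobianMinor f (Fin.castLE hcm) (Fin.castLE hcn))) =
        algebraMap A Aa a := congrArg (algebraMap A Aa) ha.symm
    rw [← h1, map_mul] at hu
    exact isUnit_of_mul_isUnit_right hu
  exact (⟨PP, hjac⟩ : SubmersivePresentation R Aa _ _).isStandardSmooth

end Main

end Groth.Agent.Lib.Helper12.ElemStd
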