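import Mathlib
import Groth.Prelude.Def_Smoothing

set_option autoImplicit false
universe u
open scoped TensorProduct
open MvPolynomial Smoothing

namespace H12MarkedBC

variable {R A : Type u} [CommRing R] [CommRing A] [Algebra R A] (R' : Type u) [CommRing R'] [Algebra R R']

theorem hom_eq (P : MarkedPresentation R A) : P.hom = aeval (fun i => P.hom (X i)) := by
  apply MvPolynomial.algHom_ext
  intro i
  simp

noncomputable def pres (P : MarkedPresentation R A) :
    Algebra.Presentation R A (Fin P.n) (Fin P.m) where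
  __ := Algebra.Generators.ofSurjective (fun i => P.hom (X i))
    (by rw [← hom_eq]; exact P.surj)
  relation := P.rel
  span_range_relation_eq_ker := by
    rw [Algebra.Generators.ker_eq_ker_aeval_val]
    rw [← P.ker_eq]
    ext x
    simp only [RingHom.mem_ker]
    have h := DFunLike.congr_fun (hom_eq P) x
    change P.hom x = 0 ↔ aeval (fun i => P.hom (X i)) x = 0
    rw [← h]

/-- the base-changed hom -/
noncomputable def hom' (P : MarkedPresentation R A) : MvPolynomial (Fin P.n) R' →ₐ[R'] R' ⊗[R] A :=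
  aeval (fun i => (1 : R') ⊗ₜ[R] P.hom (X i))

theorem hom'_map (P : MarkedPresentation R A) (p : MvPolynomial (Fin P.n) R) :
    hom' R' P (MvPolynomial.map (algebraMap R R') p) = (1 : R') ⊗ₜ[R] P.hom p := by
  unfold hom'
  rw [MvPolynomial.aeval_map_algebraMap]
  have : (Algebra.TensorProduct.includeRight : A →ₐ[R] R' ⊗[R] A).comp P.hom =
      aeval (fun i => (1 : R') ⊗ₜ[R] P.hom (X i)) := by
    apply MvPolynomial.algHom_ext
    intro i
    simp
  rw [← this]
  rfl

noncomputable def bc (P : MarkedPresentation R A) : MarkedPresentation R' (R' ⊗[R] A) where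
  n := P.n
  m := P.m
  c := P.c
  hcn := P.hcn
  hcm := P.hcm
  rel := fun j => MvPolynomial.map (algebraMap R R') (P.rel j)
  hom := hom' R' P
  surj := ((pres P).baseChange R').algebraMap_surjective
  ker_eq := by
    have := ((pres P).baseChange R').span_range_relation_eq_ker
    rw [Algebra.Generators.ker_eq_ker_aeval_val] at this
    exact this.symm


theorem jacobianMinor_map {n m c : ℕ} (f : Fin m → MvPolynomial (Fin n) R)
    (rows : Fin c → Fin m) (cols : Fin c → Fin n) :
    jacobianMinor (fun j => MvPolynomial.map (algebraMap R R') (f j)) rows cols =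
      MvPolynomial.map (algebraMap R R') (jacobianMinor f rows cols) := by
  unfold jacobianMinor
  rw [RingHom.map_det]
  congr 1
  ext j k : 2
  simp [MvPolynomial.pderiv_map]

theorem killsTail_bc (P : MarkedPresentation R A) (a : A) (hK : KillsTail P a) :
    KillsTail (bc R' P) ((1 : R') ⊗ₜ[R] a) := by
  intro (b' : MvPolynomial (Fin P.n) R') hb' (j : Fin P.m) hj
  obtain ⟨a0, ha0⟩ := P.surj a
  have h1 := hK a0 ha0 j hj
  set φ : MvPolynomial (Fin P.n) R →+* MvPolynomial (Fin P.n) R' :=
    MvPolynomial.map (algebraMap R R') with hφ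
  set rel' : Fin P.m → MvPolynomial (Fin P.n) R' := fun j => φ (P.rel j) with hrel'
  change b' * rel' j ∈ Ideal.span (rel' '' {j' : Fin P.m | (j' : ℕ) < P.c}) ⊔
      Ideal.span (Set.range rel') ^ 2
  have h2 : φ (a0 * P.rel j) ∈
      Ideal.span (rel' '' {j' : Fin P.m | (j' : ℕ) < P.c}) ⊔
      Ideal.span (Set.range rel') ^ 2 := by
    have h3 := Ideal.mem_map_of_mem φ h1
    rw [Ideal.map_sup, Ideal.map_pow, Ideal.map_span, Ideal.map_span, Set.image_image,
      ← Set.range_comp] at h3
    exact h3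
  have h4 : b' - φ a0 ∈ Ideal.span (Set.range rel') := by
    have hk := (bc R' P).ker_eq
    change RingHom.ker (hom' R' P).toRingHom = Ideal.span (Set.range rel') at hk
    rw [← hk]
    change hom' R' P (b' - φ a0) = 0
    rw [map_sub]
    have hb'' : hom' R' P b' = (1 : R') ⊗ₜ[R] a := hb'
    rw [hb'']
    change _ - hom' R' P (MvPolynomial.map (algebraMap R R') a0) = 0
    rw [hom'_map, ha0, sub_self]
  have h5 : (b' - φ a0) * rel' j ∈ Ideal.span (Set.range rel') ^ 2 := by
    rw [pow_two]
    exact Ideal.mul_mem_mul h4 (Ideal.subset_span ⟨j, rfl⟩)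
  have h6 : b' * rel' j = (b' - φ a0) * rel' j + φ (a0 * P.rel j) := by
    rw [map_mul]
    change _ = _ + φ a0 * rel' j
    ring
  rw [h6]
  exact Ideal.add_mem _ (Ideal.mem_sup_right h5) h2

theorem elem_bc (a : A) (h : IsElementaryStandard R A a) :
    IsElementaryStandard R' (R' ⊗[R] A) ((1 : R') ⊗ₜ[R] a) := by
  obtain ⟨P, ⟨a', ha'⟩, hK⟩ := h
  refine ⟨bc R' P, ⟨(1 : R') ⊗ₜ[R] a', ?_⟩, killsTail_bc R' P a hK⟩
  change _ = _ * hom' R' P (jacobianMinor (fun j => MvPolynomial.map (algebraMap R R') (P.rel j))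
    (Fin.castLE P.hcm) (Fin.castLE P.hcn))
  rw [jacobianMinor_map, hom'_map, Algebra.TensorProduct.tmul_mul_tmul, one_mul, ← ha']

theorem strict_bc (a : A) (h : IsStrictlyStandard R A a) :
    IsStrictlyStandard R' (R' ⊗[R] A) ((1 : R') ⊗ₜ[R] a) := by
  obtain ⟨P, hmem, hK⟩ := h
  refine ⟨bc R' P, ?_, killsTail_bc R' P a hK⟩
  have h1 := Ideal.mem_map_of_mem
    (Algebra.TensorProduct.includeRight : A →ₐ[R] R' ⊗[R] A).toRingHom hmem
  rw [Ideal.map_span, ← Set.range_comp] at h1
  have h2 : (fun cols : Fin (bc R' P).c → Fin (bc R' P).n =>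
        (bc R' P).hom (jacobianMinor (bc R' P).rel (Fin.castLE (bc R' P).hcm) cols)) =
      ((Algebra.TensorProduct.includeRight : A →ₐ[R] R' ⊗[R] A).toRingHom ∘
        fun cols : Fin P.c → Fin P.n => P.hom (jacobianMinor P.rel (Fin.castLE P.hcm) cols)) := by
    funext (cols : Fin P.c → Fin P.n)
    change hom' R' P (jacobianMinor (fun j => MvPolynomial.map (algebraMap R R') (P.rel j))
      (Fin.castLE P.hcm) cols) = (1 : R') ⊗ₜ[R] _
    rw [jacobianMinor_map, hom'_map]
  rw [h2]
  exact h1

end H12MarkedBC
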