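import Mathlib

/-!
# Henselian pairs depend only on the radical of the ideal
-/

set_option autoImplicit false
universe u

namespace Groth.Agent.Lib.Helper12.HensRad

open Polynomial Function

variable {B : Type*} [CommRing B]

theorem isUnit_of_isUnit_mk {I : Ideal B} (hI : I ≤ Ideal.jacobson ⊥) {x : B}
    (hx : IsUnit (Ideal.Quotient.mk I x)) : IsUnit x := by
  haveI := isLocalHom_of_le_jacobson_bot I hI
  exact isUnit_of_map_unit (Ideal.Quotient.mk I) x hx

theorem isUnit_add_of_mem {I : Ideal B} (hI : I ≤ Ideal.jacobson ⊥) {x y : B}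
    (hx : IsUnit x) (hy : y ∈ I) : IsUnit (x + y) := by
  apply isUnit_of_isUnit_mk hI
  rw [map_add, Ideal.Quotient.eq_zero_iff_mem.2 hy, add_zero]
  exact hx.map _

/-- A root close to `a₀` modulo `I` is close to it modulo the ideal generated by `f(a₀)`. -/
theorem sub_mem_of_isRoot {I : Ideal B} (hI : I ≤ Ideal.jacobson ⊥) (f : B[X]) (a₀ a : B)
    (hu : IsUnit (f.derivative.eval a₀)) (ha : f.IsRoot a) (haI : a - a₀ ∈ I) (J : Ideal B)
    (hJ : f.eval a₀ ∈ J) : a - a₀ ∈ J := by
  obtain ⟨k, hk⟩ := f.binomExpansion a₀ (a - a₀)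
  rw [add_sub_cancel, ha] at hk
  have hw : IsUnit (f.derivative.eval a₀ + k * (a - a₀)) :=
    isUnit_add_of_mem hI hu (Ideal.mul_mem_left _ _ haI)
  obtain ⟨w, hw'⟩ := hw.exists_right_inv
  have : a - a₀ = -(f.eval a₀) * w := by
    linear_combination (a - a₀) * (-hw') - w * hk
  rw [this]
  exact Ideal.mul_mem_right _ _ (J.neg_mem hJ)

theorem henselianRing_of_le (I J : Ideal B) (hJI : J ≤ I) [h : HenselianRing B I] :
    HenselianRing B J where
  jac := hJI.trans h.jac
  is_henselian f hf a₀ h₁ h₂ := by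
    have hu : IsUnit (f.derivative.eval a₀) := isUnit_of_isUnit_mk (hJI.trans h.jac) h₂
    obtain ⟨a, ha, haI⟩ := h.is_henselian f hf a₀ (hJI h₁) (hu.map _)
    exact ⟨a, ha, sub_mem_of_isRoot h.jac f a₀ a hu ha haI J h₁⟩

theorem radical_le_jacobson_bot {I : Ideal B} (hI : I ≤ Ideal.jacobson ⊥) :
    I.radical ≤ Ideal.jacobson ⊥ := by
  calc I.radical ≤ (Ideal.jacobson (⊥ : Ideal B)).radical := Ideal.radical_mono hI
    _ ≤ (Ideal.jacobson (⊥ : Ideal B)).jacobson := Ideal.radical_le_jacobson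
    _ = Ideal.jacobson ⊥ := Ideal.jacobson_idem

/-- Newton iteration: improve an approximate root. -/
theorem exists_newton (I : Ideal B) (hI : I ≤ Ideal.jacobson ⊥) (f : B[X]) (a₀ : B)
    (hu : IsUnit (f.derivative.eval a₀)) (hx : f.eval a₀ ∈ I) (m : ℕ) :
    ∃ a : B, a - a₀ ∈ Ideal.span {f.eval a₀} ∧ f.eval a ∈ Ideal.span {f.eval a₀ ^ (m + 1)} := by
  induction m with
  | zero => exact ⟨a₀, by simp, by simpa using Ideal.mem_span_singleton_self _⟩
  | succ m ih =>
    obtain ⟨a, ha, hfa⟩ := ih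
    have hxI : Ideal.span {f.eval a₀} ≤ I := (Ideal.span_singleton_le_iff_mem _).2 hx
    have hua : IsUnit (f.derivative.eval a) := by
      have : f.derivative.eval a = f.derivative.eval a₀ +
          (f.derivative.eval a - f.derivative.eval a₀) := by ring
      rw [this]
      refine isUnit_add_of_mem hI hu ?_
      obtain ⟨d, hd⟩ := Polynomial.sub_dvd_eval_sub a a₀ f.derivative
      rw [hd]
      exact Ideal.mul_mem_right _ _ (hxI ha)
    obtain ⟨v, hv⟩ := hua.exists_right_inv
    obtain ⟨k, hk⟩ := f.binomExpansion a (-(f.eval a * v))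
    refine ⟨a + -(f.eval a * v), ?_, ?_⟩
    · have : a + -(f.eval a * v) - a₀ = (a - a₀) - f.eval a * v := by ring
      rw [this]
      refine Ideal.sub_mem _ ha (Ideal.mul_mem_right _ _ ?_)
      obtain ⟨c, hc⟩ := Ideal.mem_span_singleton.1 hfa
      rw [hc, pow_succ]
      exact Ideal.mul_mem_right _ _ (Ideal.mul_mem_left _ _ (Ideal.mem_span_singleton_self _))
    · obtain ⟨c, hc⟩ := Ideal.mem_span_singleton'.1 hfa
      have : f.eval (a + -(f.eval a * v)) =
          (k * v ^ 2 * c ^ 2 * f.eval a₀ ^ m) * f.eval a₀ ^ (m + 1 + 1) := by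
        rw [hk, ← hc]
        linear_combination (-(c * f.eval a₀ ^ (m + 1))) * hv
      rw [this]
      exact Ideal.mul_mem_left _ _ (Ideal.mem_span_singleton_self _)

theorem henselianRing_radical (I : Ideal B) [h : HenselianRing B I] :
    HenselianRing B I.radical where
  jac := radical_le_jacobson_bot h.jac
  is_henselian f hf a₀ h₁ h₂ := by
    have hjr := radical_le_jacobson_bot h.jac
    have hu : IsUnit (f.derivative.eval a₀) := isUnit_of_isUnit_mk hjr h₂
    obtain ⟨n, hn⟩ := h₁
    obtain ⟨a₁, ha₁, hfa₁⟩ := exists_newton I.radical hjr f a₀ hu ⟨n, hn⟩ n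
    have hxr : Ideal.span {f.eval a₀} ≤ I.radical :=
      (Ideal.span_singleton_le_iff_mem _).2 ⟨n, hn⟩
    have hfa₁I : f.eval a₁ ∈ I := by
      obtain ⟨c, hc⟩ := Ideal.mem_span_singleton'.1 hfa₁
      rw [← hc, pow_succ]
      exact Ideal.mul_mem_left _ _ (Ideal.mul_mem_right _ _ hn)
    have hua₁ : IsUnit (f.derivative.eval a₁) := by
      have : f.derivative.eval a₁ = f.derivative.eval a₀ +
          (f.derivative.eval a₁ - f.derivative.eval a₀) := by ring
      rw [this]
      refine isUnit_add_of_mem hjr hu ?_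
      obtain ⟨d, hd⟩ := Polynomial.sub_dvd_eval_sub a₁ a₀ f.derivative
      rw [hd]
      exact Ideal.mul_mem_right _ _ (hxr ha₁)
    obtain ⟨a, ha, haI⟩ := h.is_henselian f hf a₁ hfa₁I (hua₁.map _)
    refine ⟨a, ha, ?_⟩
    have : a - a₀ = (a - a₁) + (a₁ - a₀) := by ring
    rw [this]
    exact Ideal.add_mem _ (Ideal.le_radical haI) (hxr ha₁)

theorem henselianRing_of_radical_eq (I J : Ideal B) (hIJ : I.radical = J.radical)
    [HenselianRing B I] : HenselianRing B J := by
  haveI := henselianRing_radical I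
  exact henselianRing_of_le I.radical J (hIJ ▸ Ideal.le_radical)

theorem henselianRing_of_le_radical (I J : Ideal B) (hJI : J ≤ I.radical)
    [HenselianRing B I] : HenselianRing B J := by
  haveI := henselianRing_radical I
  exact henselianRing_of_le I.radical J hJI

end Groth.Agent.Lib.Helper12.HensRad
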