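import Mathlib
import Groth.Prelude.Def_Hens2
import Groth.Agent.Lib.Helper12.HensRad
import Groth.Agent.Lib.Helper4.HenselPairK

/-!
# Henselization of pairs and the Chinese remainder theorem
-/

set_option autoImplicit false
universe u

namespace Groth.Agent.Lib.Helper12.HensCRT

open Polynomial Function Groth.Agent.Lib.Helper4.HenselPair

theorem exists_idempotent_lift {C : Type*} [CommRing C] (J : Ideal C) [h : HenselianRing C J]
    (β : C) (hβ : β * β - β ∈ J) : ∃ e, IsIdempotentElem e ∧ e - β ∈ J := by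
  have hf : (X ^ 2 - X : C[X]).Monic := by
    nontriviality C
    apply Polynomial.monic_X_pow_sub
    rw [degree_X]; norm_num
  have h1 : (X ^ 2 - X : C[X]).eval β ∈ J := by
    simp only [eval_sub, eval_pow, eval_X]
    rw [pow_two]; exact hβ
  have h2 : IsUnit (Ideal.Quotient.mk J ((X ^ 2 - X : C[X]).derivative.eval β)) := by
    have : (X ^ 2 - X : C[X]).derivative.eval β = 2 * β - 1 := by
      simp
      ring
    rw [this]
    refine IsUnit.of_mul_eq_one (Ideal.Quotient.mk J (2 * β - 1)) ?_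
    rw [← map_mul, ← map_one (Ideal.Quotient.mk J), Ideal.Quotient.eq]
    have : (2 * β - 1) * (2 * β - 1) - 1 = 4 * (β * β - β) := by ring
    rw [this]
    exact Ideal.mul_mem_left _ _ hβ
  obtain ⟨e, he, heβ⟩ := h.is_henselian _ hf β h1 h2
  refine ⟨e, ?_, heβ⟩
  have : e ^ 2 - e = 0 := by simpa [IsRoot.def] using he
  rw [IsIdempotentElem]
  linear_combination this

section Uniq

variable {A : Type u} [CommRing A] (I : Ideal A)

theorem nonempty_algEquiv_of_isPairHenselization (B₁ B₂ : Type u) [CommRing B₁] [CommRing B₂]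
    [Algebra A B₁] [Algebra A B₂] (h₁ : Hens2.IsPairHenselization A I B₁)
    (h₂ : Hens2.IsPairHenselization A I B₂) : Nonempty (B₁ ≃ₐ[A] B₂) := by
  obtain ⟨g₁₂, hg₁₂, -⟩ := h₁.2 B₂ _ (algebraMap A B₂) h₂.1 le_rfl
  obtain ⟨g₂₁, hg₂₁, -⟩ := h₂.2 B₁ _ (algebraMap A B₁) h₁.1 le_rfl
  obtain ⟨u₁, -, hu₁⟩ := h₁.2 B₁ _ (algebraMap A B₁) h₁.1 le_rfl
  obtain ⟨u₂, -, hu₂⟩ := h₂.2 B₂ _ (algebraMap A B₂) h₂.1 le_rfl
  have e₁ : g₂₁.comp g₁₂ = RingHom.id B₁ := by
    rw [hu₁ (g₂₁.comp g₁₂) (by show (g₂₁.comp g₁₂).comp _ = _; rw [RingHom.comp_assoc, hg₁₂, hg₂₁]),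
      hu₁ (RingHom.id B₁) (RingHom.id_comp _)]
  have e₂ : g₁₂.comp g₂₁ = RingHom.id B₂ := by
    rw [hu₂ (g₁₂.comp g₂₁) (by show (g₁₂.comp g₂₁).comp _ = _; rw [RingHom.comp_assoc, hg₂₁, hg₁₂]),
      hu₂ (RingHom.id B₂) (RingHom.id_comp _)]
  let a₁₂ : B₁ →ₐ[A] B₂ := { g₁₂ with commutes' := fun r => congrArg (fun g => g r) hg₁₂ }
  let a₂₁ : B₂ →ₐ[A] B₁ := { g₂₁ with commutes' := fun r => congrArg (fun g => g r) hg₂₁ }
  refine ⟨AlgEquiv.ofAlgHom a₁₂ a₂₁ ?_ ?_⟩
  · ext x
    exact congrArg (fun g => g x) e₂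
  · ext x
    exact congrArg (fun g => g x) e₁

end Uniq

theorem henselianRing_quotient {C : Type u} [CommRing C] (J a : Ideal C) [HenselianRing C J] :
    HenselianRing (C ⧸ a) (J.map (Ideal.Quotient.mk a)) := by
  haveI : Algebra.IsIntegral C (C ⧸ a) :=
    Algebra.IsIntegral.of_surjective (Algebra.ofId C (C ⧸ a)) Ideal.Quotient.mk_surjective
  exact henselianRing_map_of_isIntegral C J (C ⧸ a)

section Factor

variable {A : Type u} [CommRing A] (K I : Ideal A) (hKI : K ≤ I) (a : A) (ha1 : a - 1 ∈ I)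
  (haK : ∀ c ∈ I, c * a ∈ K) (B : Type u) [CommRing B] [Algebra A B]
  (hB : Hens2.IsPairHenselization A K B) (e : B) (he : IsIdempotentElem e)
  (hea : e - algebraMap A B a ∈ K.map (algebraMap A B))

include hKI ha1 haK hB he hea in
theorem isPairHenselization_quotient_idempotent :
    Hens2.IsPairHenselization A I (B ⧸ Ideal.span {1 - e}) := by
  obtain ⟨h1, h2⟩ := hB
  haveI := h1
  set q : Ideal B := Ideal.span {1 - e} with hq
  have hπe : Ideal.Quotient.mk q e = 1 := by
    have : Ideal.Quotient.mk q (1 - e) = 0 :=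
      Ideal.Quotient.eq_zero_iff_mem.2 (Ideal.mem_span_singleton_self _)
    rw [map_sub, map_one, sub_eq_zero] at this
    exact this.symm
  refine ⟨?_, ?_⟩
  · haveI := henselianRing_quotient (K.map (algebraMap A B)) q
    refine HensRad.henselianRing_of_le ((K.map (algebraMap A B)).map (Ideal.Quotient.mk q)) _ ?_
    rw [Ideal.map_le_iff_le_comap]
    intro c hc
    rw [Ideal.mem_comap]
    have h3 : algebraMap A (B ⧸ q) c = Ideal.Quotient.mk q (algebraMap A B c * e) := by
      rw [map_mul, hπe, mul_one]; rfl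
    rw [h3]
    apply Ideal.mem_map_of_mem
    have h4 : algebraMap A B c * e =
        algebraMap A B c * (e - algebraMap A B a) + algebraMap A B (c * a) := by
      rw [map_mul]; ring
    rw [h4]
    exact Ideal.add_mem _ (Ideal.mul_mem_left _ _ hea) (Ideal.mem_map_of_mem _ (haK c hc))
  · intro C _ J f hC hJ
    haveI := hC
    have hKJ : K.map f ≤ J := (Ideal.map_mono hKI).trans hJ
    obtain ⟨g, hg, huniq⟩ := h2 C J f hC hKJ
    have hgK : ∀ x ∈ K.map (algebraMap A B), g x ∈ J := by
      intro x hx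
      have : (K.map (algebraMap A B)).map g = K.map f := by rw [Ideal.map_map, hg]
      exact hKJ (this ▸ Ideal.mem_map_of_mem g hx)
    have hge : g e = 1 := by
      refine idempotent_eq_of_sub_mem_jacobson (g e) 1 (he.map g) (IsIdempotentElem.one)
        (hC.jac ?_)
      have h5 : g e - 1 = g (e - algebraMap A B a) + f (a - 1) := by
        rw [map_sub, map_sub, map_one, ← hg]; simp
      rw [h5]
      exact Ideal.add_mem _ (hgK _ hea) (hJ (Ideal.mem_map_of_mem f ha1))
    have hgq : ∀ x ∈ q, g x = 0 := by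
      intro x hx
      obtain ⟨y, rfl⟩ := Ideal.mem_span_singleton'.1 hx
      rw [map_mul, map_sub, map_one, hge, sub_self, mul_zero]
    refine ⟨Ideal.Quotient.lift q g hgq, ?_, ?_⟩
    · ext c
      show Ideal.Quotient.lift q g hgq (Ideal.Quotient.mk q (algebraMap A B c)) = f c
      rw [Ideal.Quotient.lift_mk, ← hg]; rfl
    · intro h hh
      have h6 : h.comp (Ideal.Quotient.mk q) = g := by
        apply huniq
        rw [RingHom.comp_assoc]
        exact hh
      apply Ideal.Quotient.ringHom_ext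
      rw [h6]
      ext x
      simp

end Factor

section Decomp

variable {A : Type u} [CommRing A] {B : Type u} [CommRing B] [Algebra A B] {n : ℕ}
  (e : Fin n → B) (he : ∀ i, IsIdempotentElem (e i)) (hortho : ∀ i j, i ≠ j → e i * e j = 0)
  (hsum : ∑ i, e i = 1)

include he hortho hsum in
theorem nonempty_algEquiv_pi_quotient :
    Nonempty (B ≃ₐ[A] ∀ i, B ⧸ Ideal.span {1 - e i}) := by
  let φ : B →ₐ[A] ∀ i, B ⧸ Ideal.span {1 - e i} :=
    Pi.algHom A _ (fun i => Ideal.Quotient.mkₐ A (Ideal.span {1 - e i}))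
  have hπ1 : ∀ j, Ideal.Quotient.mk (Ideal.span {1 - e j}) (e j) = 1 := by
    intro j
    have : Ideal.Quotient.mk (Ideal.span {1 - e j}) (1 - e j) = 0 :=
      Ideal.Quotient.eq_zero_iff_mem.2 (Ideal.mem_span_singleton_self _)
    rw [map_sub, map_one, sub_eq_zero] at this
    exact this.symm
  have hπ0 : ∀ i j, i ≠ j → Ideal.Quotient.mk (Ideal.span {1 - e j}) (e i) = 0 := by
    intro i j hij
    rw [Ideal.Quotient.eq_zero_iff_mem, Ideal.mem_span_singleton']
    refine ⟨e i, ?_⟩
    rw [mul_sub, mul_one, hortho i j hij, sub_zero]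
  refine ⟨AlgEquiv.ofBijective φ ⟨?_, ?_⟩⟩
  · rw [injective_iff_map_eq_zero]
    intro x hx
    have hxe : ∀ i, x * e i = 0 := by
      intro i
      have h1 : Ideal.Quotient.mk (Ideal.span {1 - e i}) x = 0 := congrFun hx i
      rw [Ideal.Quotient.eq_zero_iff_mem, Ideal.mem_span_singleton'] at h1
      obtain ⟨y, rfl⟩ := h1
      have := (he i).eq
      linear_combination (-y) * this
    calc x = x * ∑ i, e i := by rw [hsum, mul_one]
      _ = ∑ i, x * e i := Finset.mul_sum _ _ _
      _ = 0 := Finset.sum_eq_zero fun i _ => hxe i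
  · intro z
    choose y hy using fun i => Ideal.Quotient.mk_surjective (z i)
    refine ⟨∑ i, e i * y i, ?_⟩
    funext j
    show Ideal.Quotient.mk (Ideal.span {1 - e j}) (∑ i, e i * y i) = z j
    rw [map_sum, Finset.sum_eq_single j]
    · rw [map_mul, hπ1, one_mul, hy]
    · intro i _ hij
      rw [map_mul, hπ0 i j hij, zero_mul]
    · intro h; exact absurd (Finset.mem_univ j) h

end Decomp

section CRT

variable (A : Type u) [CommRing A] {n : ℕ} (I : Fin n → Ideal A)
  (hI : Pairwise fun i j => I i ⊔ I j = ⊤) (B : Type u) [CommRing B] [Algebra A B]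
  (hB : Hens2.IsPairHenselization A (⨅ i, I i) B)

include hI hB in
theorem exists_decomp : ∃ e : Fin n → B, (∀ i, IsIdempotentElem (e i)) ∧
    (∀ i j, i ≠ j → e i * e j = 0) ∧ ∑ i, e i = 1 ∧
    ∀ i, Hens2.IsPairHenselization A (I i) (B ⧸ Ideal.span {1 - e i}) := by
  classical
  have hcop : Pairwise (IsCoprime on I) := by
    intro i j hij
    exact Ideal.isCoprime_iff_sup_eq.2 (hI hij)
  choose a ha using fun i : Fin n =>
    Ideal.exists_forall_sub_mem_ideal hcop (fun j => if i = j then (1 : A) else 0)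
  have ha1 : ∀ i, a i - 1 ∈ I i := by
    intro i; have := ha i i; simpa using this
  have ha0 : ∀ i j, i ≠ j → a i ∈ I j := by
    intro i j hij; have := ha i j; simpa [hij] using this
  set K : Ideal A := ⨅ i, I i with hK
  have hKmem : ∀ x : A, (∀ k, x ∈ I k) → x ∈ K := fun x hx => (Ideal.mem_iInf).2 hx
  obtain ⟨h1, h2⟩ := hB
  haveI := h1
  have hjac := h1.jac
  -- idempotent lifts
  have hβ : ∀ i, algebraMap A B (a i) * algebraMap A B (a i) - algebraMap A B (a i) ∈
      K.map (algebraMap A B) := by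
    intro i
    rw [← map_mul, ← map_sub]
    apply Ideal.mem_map_of_mem
    apply hKmem
    intro k
    by_cases hik : i = k
    · subst hik
      have : a i * a i - a i = a i * (a i - 1) := by ring
      rw [this]
      exact Ideal.mul_mem_left _ _ (ha1 i)
    · have : a i * a i - a i = (a i - 1) * a i := by ring
      rw [this]
      exact Ideal.mul_mem_left _ _ (ha0 i k hik)
  choose e he hea using fun i => exists_idempotent_lift (K.map (algebraMap A B)) _ (hβ i)
  have hortho : ∀ i j, i ≠ j → e i * e j = 0 := by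
    intro i j hij
    apply eq_zero_of_isIdempotentElem_of_mem_jacobson ((he i).mul (he j))
    apply hjac
    have h3 : e i * e j = (e i - algebraMap A B (a i)) * e j +
        algebraMap A B (a i) * (e j - algebraMap A B (a j)) + algebraMap A B (a i * a j) := by
      rw [map_mul]; ring
    rw [h3]
    refine Ideal.add_mem _ (Ideal.add_mem _ (Ideal.mul_mem_right _ _ (hea i))
      (Ideal.mul_mem_left _ _ (hea j))) (Ideal.mem_map_of_mem _ (hKmem _ fun k => ?_))
    by_cases hik : i = k
    · subst hik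
      exact Ideal.mul_mem_left _ _ (ha0 j i (Ne.symm hij))
    · exact Ideal.mul_mem_right _ _ (ha0 i k hik)
  have hsumidem : IsIdempotentElem (∑ i, e i) := by
    rw [IsIdempotentElem, Finset.sum_mul]
    refine Finset.sum_congr rfl fun i _ => ?_
    rw [Finset.mul_sum, Finset.sum_eq_single i]
    · exact (he i).eq
    · intro j _ hji; exact hortho i j (Ne.symm hji)
    · intro h; exact absurd (Finset.mem_univ i) h
  have hsum : ∑ i, e i = 1 := by
    refine idempotent_eq_of_sub_mem_jacobson _ 1 hsumidem IsIdempotentElem.one (hjac ?_)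
    have h4 : ∑ i, e i - 1 = ∑ i, (e i - algebraMap A B (a i)) +
        algebraMap A B (∑ i, a i - 1) := by
      rw [Finset.sum_sub_distrib, map_sub, map_sum, map_one]; ring
    rw [h4]
    refine Ideal.add_mem _ (Ideal.sum_mem _ fun i _ => hea i)
      (Ideal.mem_map_of_mem _ (hKmem _ fun k => ?_))
    have h5 : ∑ i, a i - 1 = (a k - 1) + ∑ i ∈ Finset.univ.erase k, a i := by
      rw [← Finset.add_sum_erase _ _ (Finset.mem_univ k)]; ring
    rw [h5]
    refine Ideal.add_mem _ (ha1 k) (Ideal.sum_mem _ fun i hi => ?_)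
    exact ha0 i k (Finset.ne_of_mem_erase hi)
  refine ⟨e, he, hortho, hsum, fun i => ?_⟩
  refine isPairHenselization_quotient_idempotent K (I i) (iInf_le I i) (a i) (ha1 i) ?_ B
    ⟨h1, h2⟩ (e i) (he i) (hea i)
  intro c hc
  apply hKmem
  intro k
  by_cases hik : i = k
  · subst hik
    exact Ideal.mul_mem_right _ _ hc
  · exact Ideal.mul_mem_left _ _ (ha0 i k hik)

include hI hB in
theorem nonempty_algEquiv_pi (Bi : Fin n → Type u) [∀ i, CommRing (Bi i)]
    [∀ i, Algebra A (Bi i)] (hBi : ∀ i, Hens2.IsPairHenselization A (I i) (Bi i)) :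
    Nonempty (B ≃ₐ[A] ∀ i, Bi i) := by
  obtain ⟨e, he, hortho, hsum, hq⟩ := exists_decomp A I hI B hB
  obtain ⟨Φ⟩ := nonempty_algEquiv_pi_quotient (A := A) e he hortho hsum
  have : ∀ i, Nonempty ((B ⧸ Ideal.span {1 - e i}) ≃ₐ[A] Bi i) := fun i =>
    nonempty_algEquiv_of_isPairHenselization (I i) _ _ (hq i) (hBi i)
  choose Ψ _ using fun i => (⟨this i |>.some, trivial⟩ : ∃ _ : (B ⧸ Ideal.span {1 - e i}) ≃ₐ[A] Bi i, True)
  exact ⟨Φ.trans (AlgEquiv.piCongrRight Ψ)⟩

end CRT

end Groth.Agent.Lib.Helper12.HensCRT
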