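import Mathlib
import Groth.Agent.Lib.Helper4.HenselPairU
import Groth.Agent.Lib.Helper4.HenselPairZ

/-!
# Étale neighbourhoods of `V(I)` and their localizations along `1 + I E` (helper12)

For a pair `(A, I)`, an étale neighbourhood is an étale `A`-algebra `E` with an `A`-algebra map
`σ : E → A ⧸ I` whose kernel is `I E` (so `A ⧸ I ≃ E ⧸ I E`).  `Loc I E` is the localization of
`E` at the multiplicative set `1 + I E`.
-/

set_option autoImplicit false
universe u

namespace Groth.Agent.Lib.Helper12.HzPair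

variable {A : Type u} [CommRing A] (I : Ideal A)

section Nbhd

variable (E : Type u) [CommRing E] [Algebra A E]

/-- `E` is an étale neighbourhood of `V(I)`. -/
structure IsNbhd : Prop where
  etale : Algebra.Etale A E
  exists_sec : ∃ σ : E →ₐ[A] A ⧸ I, RingHom.ker (σ : E →+* A ⧸ I) = I.map (algebraMap A E)

/-- the multiplicative set `1 + I E` -/
def M : Submonoid E where
  carrier := {u | u - 1 ∈ I.map (algebraMap A E)}
  one_mem' := by simp
  mul_mem' := by
    intro a b ha hb
    have : a * b - 1 = (a - 1) * b + (b - 1) := by ring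
    show a * b - 1 ∈ I.map (algebraMap A E)
    rw [this]
    exact Ideal.add_mem _ (Ideal.mul_mem_right _ _ ha) hb

variable {I E}

theorem mem_M {u : E} : u ∈ M I E ↔ u - 1 ∈ I.map (algebraMap A E) := Iff.rfl

variable (I E)

/-- the localization of `E` at `1 + I E` -/
abbrev Loc : Type u := Localization (M I E)

variable {I E}

theorem map_map_eq : (I.map (algebraMap A E)).map (algebraMap E (Loc I E)) =
    I.map (algebraMap A (Loc I E)) := by
  rw [Ideal.map_map, ← IsScalarTower.algebraMap_eq]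

/-- elements of `I (Loc I E)` are fractions with numerator in `I E` -/
theorem mem_map_loc_iff {z : Loc I E} : z ∈ I.map (algebraMap A (Loc I E)) ↔
    ∃ (e : E) (u : M I E), e ∈ I.map (algebraMap A E) ∧
      z * algebraMap E (Loc I E) u = algebraMap E (Loc I E) e := by
  rw [← map_map_eq, IsLocalization.mem_map_algebraMap_iff (M I E)]
  constructor
  · rintro ⟨⟨⟨e, he⟩, u⟩, h⟩
    exact ⟨e, u, he, h⟩
  · rintro ⟨e, u, he, h⟩
    exact ⟨⟨⟨e, he⟩, u⟩, h⟩

theorem isUnit_one_add_of_mem {z : Loc I E} (hz : z ∈ I.map (algebraMap A (Loc I E))) :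
    IsUnit (1 + z) := by
  obtain ⟨e, u, he, h⟩ := mem_map_loc_iff.1 hz
  have hu : IsUnit (algebraMap E (Loc I E) u) := IsLocalization.map_units _ u
  have h1 : (1 + z) * algebraMap E (Loc I E) u = algebraMap E (Loc I E) (u + e) := by
    rw [add_mul, one_mul, h, map_add]
  have h2 : (u : E) + e ∈ M I E := by
    rw [mem_M]
    have : (u : E) + e - 1 = ((u : E) - 1) + e := by ring
    rw [this]
    exact Ideal.add_mem _ u.2 he
  have h3 : IsUnit (algebraMap E (Loc I E) (u + e)) := IsLocalization.map_units _ ⟨_, h2⟩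
  rw [← h1] at h3
  exact isUnit_of_mul_isUnit_left h3

theorem map_le_jacobson : I.map (algebraMap A (Loc I E)) ≤ Ideal.jacobson ⊥ := by
  intro x hx
  rw [Ideal.mem_jacobson_bot]
  intro y
  rw [add_comm]
  exact isUnit_one_add_of_mem (Ideal.mul_mem_right _ _ hx)

/-- `I (Loc I E) ∩ E = I E` -/
theorem algebraMap_mem_map_iff {c : E} :
    algebraMap E (Loc I E) c ∈ I.map (algebraMap A (Loc I E)) ↔ c ∈ I.map (algebraMap A E) := by
  constructor
  · intro h
    obtain ⟨e, u, he, h⟩ := mem_map_loc_iff.1 h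
    rw [← map_mul, IsLocalization.eq_iff_exists (M I E)] at h
    obtain ⟨v, hv⟩ := h
    have h1 : c * ((v : E) * u) ∈ I.map (algebraMap A E) := by
      have : c * ((v : E) * u) = v * e := by rw [← hv]; ring
      rw [this]
      exact Ideal.mul_mem_left _ _ he
    have h2 : (v : E) * u - 1 ∈ I.map (algebraMap A E) := (v * u).2
    have : c = c * ((v : E) * u) - c * ((v : E) * u - 1) := by ring
    rw [this]
    exact Ideal.sub_mem _ h1 (Ideal.mul_mem_left _ _ h2)
  · intro h
    rw [← map_map_eq]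
    exact Ideal.mem_map_of_mem _ h

namespace IsNbhd

variable (h : IsNbhd I E)
include h

theorem exists_sub_mem (x : E) : ∃ a : A, x - algebraMap A E a ∈ I.map (algebraMap A E) := by
  obtain ⟨σ, hσ⟩ := h.exists_sec
  obtain ⟨a, ha⟩ := Ideal.Quotient.mk_surjective (σ x)
  refine ⟨a, ?_⟩
  rw [← hσ, RingHom.mem_ker]
  show σ (x - algebraMap A E a) = 0
  rw [map_sub, σ.commutes, ← ha, sub_eq_zero]
  rfl

theorem mem_of_algebraMap_mem {a : A} (ha : algebraMap A E a ∈ I.map (algebraMap A E)) :
    a ∈ I := by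
  obtain ⟨σ, hσ⟩ := h.exists_sec
  rw [← hσ, RingHom.mem_ker] at ha
  have : σ (algebraMap A E a) = 0 := ha
  rw [σ.commutes] at this
  exact Ideal.Quotient.eq_zero_iff_mem.1 this

theorem exists_sub_mem_loc (x : Loc I E) :
    ∃ a : A, x - algebraMap A (Loc I E) a ∈ I.map (algebraMap A (Loc I E)) := by
  obtain ⟨c, u, rfl⟩ := IsLocalization.exists_mk'_eq (M I E) x
  obtain ⟨a, ha⟩ := h.exists_sub_mem c
  refine ⟨a, ?_⟩
  rw [mem_map_loc_iff]
  refine ⟨c - algebraMap A E a * u, u, ?_, ?_⟩
  · have : c - algebraMap A E a * u = (c - algebraMap A E a) - algebraMap A E a * ((u : E) - 1) := by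
      ring
    rw [this]
    exact Ideal.sub_mem _ ha (Ideal.mul_mem_left _ _ u.2)
  · rw [sub_mul, IsLocalization.mk'_spec, map_sub, map_mul,
      ← IsScalarTower.algebraMap_apply A E (Loc I E)]

theorem mem_of_algebraMap_mem_loc {a : A}
    (ha : algebraMap A (Loc I E) a ∈ I.map (algebraMap A (Loc I E))) : a ∈ I := by
  rw [IsScalarTower.algebraMap_apply A E (Loc I E), algebraMap_mem_map_iff] at ha
  exact h.mem_of_algebraMap_mem ha

omit h in
theorem flat_loc (h : IsNbhd I E) : Module.Flat A (Loc I E) := by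
  have := h.etale
  have h1 : Module.Flat A E := inferInstance
  have h2 : Module.Flat E (Loc I E) := IsLocalization.flat (Loc I E) (M I E)
  exact Module.Flat.trans A E (Loc I E)

end IsNbhd

/-- algebra maps out of a neighbourhood into an algebra `D` with `I D` in the Jacobson radical
are unique -/
theorem algHom_eq_of_nbhd (h : IsNbhd I E) {D : Type*} [CommRing D] [Algebra A D]
    (hD : I.map (algebraMap A D) ≤ Ideal.jacobson ⊥) (φ₁ φ₂ : E →ₐ[A] D) : φ₁ = φ₂ := by
  have := h.etale
  refine Groth.Agent.Lib.Helper4.HenselPair.algHom_ext_of_unramified _ hD φ₁ φ₂ fun x => ?_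
  obtain ⟨a, ha⟩ := h.exists_sub_mem x
  have hmap : ∀ (φ : E →ₐ[A] D) (y : E), y ∈ I.map (algebraMap A E) →
      φ y ∈ I.map (algebraMap A D) := by
    intro φ y hy
    have h1 : (I.map (algebraMap A E)).map (φ : E →+* D) = I.map (algebraMap A D) := by
      rw [Ideal.map_map]
      congr 1
      ext a
      exact φ.commutes a
    rw [← h1]
    exact Ideal.mem_map_of_mem _ hy
  have : φ₁ x - φ₂ x = φ₁ (x - algebraMap A E a) - φ₂ (x - algebraMap A E a) := by
    rw [map_sub, map_sub, φ₁.commutes, φ₂.commutes]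
    ring
  rw [this]
  exact Ideal.sub_mem _ (hmap φ₁ _ ha) (hmap φ₂ _ ha)

theorem algHom_loc_subsingleton (h : IsNbhd I E) {D : Type*} [CommRing D] [Algebra A D]
    (hD : I.map (algebraMap A D) ≤ Ideal.jacobson ⊥) : Subsingleton (Loc I E →ₐ[A] D) := by
  constructor
  intro ψ₁ ψ₂
  have h1 : ψ₁.comp (IsScalarTower.toAlgHom A E (Loc I E)) =
      ψ₂.comp (IsScalarTower.toAlgHom A E (Loc I E)) := algHom_eq_of_nbhd h hD _ _
  apply AlgHom.coe_ringHom_injective
  refine IsLocalization.ringHom_ext (M I E) ?_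
  ext x
  exact congrArg (fun f => f x) h1

/-- lifting an algebra map `E → D` to `Loc I E` when `I D` lies in the Jacobson radical -/
noncomputable def locLift {D : Type*} [CommRing D] [Algebra A D]
    (hD : I.map (algebraMap A D) ≤ Ideal.jacobson ⊥) (φ : E →ₐ[A] D) : Loc I E →ₐ[A] D :=
  IsLocalization.liftAlgHom (M := M I E) (f := φ) (by
    intro u
    have h1 : φ ((u : E) - 1) ∈ I.map (algebraMap A D) := by
      have h2 : (I.map (algebraMap A E)).map (φ : E →+* D) = I.map (algebraMap A D) := by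
        rw [Ideal.map_map]
        congr 1
        ext a
        exact φ.commutes a
      rw [← h2]
      exact Ideal.mem_map_of_mem _ u.2
    have h3 := (Ideal.mem_jacobson_bot.1 (hD h1)) 1
    have : φ (u : E) = φ ((u : E) - 1) * 1 + 1 := by rw [map_sub, map_one]; ring
    rw [this]
    exact h3)

@[simp]
theorem locLift_algebraMap {D : Type*} [CommRing D] [Algebra A D]
    (hD : I.map (algebraMap A D) ≤ Ideal.jacobson ⊥) (φ : E →ₐ[A] D) (c : E) :
    locLift hD φ (algebraMap E (Loc I E) c) = φ c :=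
  IsLocalization.lift_eq _ _

/-- the map induced on localizations -/
noncomputable def locMap {E' : Type u} [CommRing E'] [Algebra A E'] (θ : E →ₐ[A] E') :
    Loc I E →ₐ[A] Loc I E' :=
  locLift map_le_jacobson ((IsScalarTower.toAlgHom A E' (Loc I E')).comp θ)

@[simp]
theorem locMap_algebraMap {E' : Type u} [CommRing E'] [Algebra A E'] (θ : E →ₐ[A] E') (c : E) :
    locMap (I := I) θ (algebraMap E (Loc I E) c) = algebraMap E' (Loc I E') (θ c) := by
  simp [locMap]

theorem IsNbhd.of_equiv {E' : Type u} [CommRing E'] [Algebra A E'] (h : IsNbhd I E)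
    (e : E ≃ₐ[A] E') : IsNbhd I E' := by
  have := h.etale
  obtain ⟨σ, hσ⟩ := h.exists_sec
  refine ⟨Algebra.Etale.of_equiv e, σ.comp e.symm.toAlgHom, ?_⟩
  ext x
  have h1 : x ∈ I.map (algebraMap A E') ↔ e.symm x ∈ I.map (algebraMap A E) := by
    have h2 : (I.map (algebraMap A E')).comap (e : E →+* E') = I.map (algebraMap A E) := by
      have h3 : I.map (algebraMap A E') = (I.map (algebraMap A E)).map (e : E →+* E') := by
        rw [Ideal.map_map]
        congr 1
        ext a
        exact (e.commutes a).symm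
      rw [h3]
      exact Ideal.comap_map_of_bijective _ e.bijective
    rw [← h2, Ideal.mem_comap]
    simp
  rw [h1, ← hσ]
  rfl

end Nbhd

section Constructions

open TensorProduct

variable {E₁ E₂ : Type u} [CommRing E₁] [Algebra A E₁] [CommRing E₂] [Algebra A E₂]

theorem IsNbhd.tensor (h₁ : IsNbhd I E₁) (h₂ : IsNbhd I E₂) : IsNbhd I (E₁ ⊗[A] E₂) := by
  have := h₁.etale
  have := h₂.etale
  obtain ⟨σ₁, hσ₁⟩ := h₁.exists_sec
  obtain ⟨σ₂, hσ₂⟩ := h₂.exists_sec
  have het : Algebra.Etale A (E₁ ⊗[A] E₂) := Algebra.Etale.comp A E₁ (E₁ ⊗[A] E₂)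
  let σ : E₁ ⊗[A] E₂ →ₐ[A] A ⧸ I := Algebra.TensorProduct.lift σ₁ σ₂ (fun _ _ => Commute.all _ _)
  refine ⟨het, σ, ?_⟩
  -- every element is congruent to an element of `A`
  have hsurj : ∀ z : E₁ ⊗[A] E₂, ∃ a : A,
      z - algebraMap A (E₁ ⊗[A] E₂) a ∈ I.map (algebraMap A (E₁ ⊗[A] E₂)) := by
    intro z
    induction z using TensorProduct.induction_on with
    | zero => exact ⟨0, by simp⟩
    | add x y hx hy =>
      obtain ⟨a, ha⟩ := hx
      obtain ⟨b, hb⟩ := hy
      refine ⟨a + b, ?_⟩
      have : x + y - algebraMap A (E₁ ⊗[A] E₂) (a + b) =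
          (x - algebraMap A _ a) + (y - algebraMap A _ b) := by rw [map_add]; ring
      rw [this]
      exact Ideal.add_mem _ ha hb
    | tmul x y =>
      obtain ⟨a, ha⟩ := h₁.exists_sub_mem x
      obtain ⟨b, hb⟩ := h₂.exists_sub_mem y
      refine ⟨a * b, ?_⟩
      have h1 : ∀ x' ∈ I.map (algebraMap A E₁), ∀ y' : E₂,
          x' ⊗ₜ[A] y' ∈ I.map (algebraMap A (E₁ ⊗[A] E₂)) := by
        intro x' hx' y'
        have h2 : (I.map (algebraMap A E₁)).map
            (Algebra.TensorProduct.includeLeft : E₁ →ₐ[A] E₁ ⊗[A] E₂).toRingHom =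
            I.map (algebraMap A (E₁ ⊗[A] E₂)) := by
          have h0 : (Algebra.TensorProduct.includeLeft : E₁ →ₐ[A] E₁ ⊗[A] E₂).toRingHom.comp
              (algebraMap A E₁) = algebraMap A (E₁ ⊗[A] E₂) := by
            ext a
            simp
          rw [Ideal.map_map, h0]
        have h3 : x' ⊗ₜ[A] y' = (x' ⊗ₜ[A] (1 : E₂)) * ((1 : E₁) ⊗ₜ[A] y') := by
          rw [Algebra.TensorProduct.tmul_mul_tmul, mul_one, one_mul]
        rw [h3, ← h2]
        exact Ideal.mul_mem_right _ _ (Ideal.mem_map_of_mem _ hx')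
      have h1' : ∀ x' : E₁, ∀ y' ∈ I.map (algebraMap A E₂),
          x' ⊗ₜ[A] y' ∈ I.map (algebraMap A (E₁ ⊗[A] E₂)) := by
        intro x' y' hy'
        have h2 : (I.map (algebraMap A E₂)).map
            (Algebra.TensorProduct.includeRight : E₂ →ₐ[A] E₁ ⊗[A] E₂).toRingHom =
            I.map (algebraMap A (E₁ ⊗[A] E₂)) := by
          have h0 : (Algebra.TensorProduct.includeRight : E₂ →ₐ[A] E₁ ⊗[A] E₂).toRingHom.comp
              (algebraMap A E₂) = algebraMap A (E₁ ⊗[A] E₂) := by
            ext a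
            simp
          rw [Ideal.map_map, h0]
        have h3 : x' ⊗ₜ[A] y' = (x' ⊗ₜ[A] (1 : E₂)) * ((1 : E₁) ⊗ₜ[A] y') := by
          rw [Algebra.TensorProduct.tmul_mul_tmul, mul_one, one_mul]
        rw [h3, ← h2]
        exact Ideal.mul_mem_left _ _ (Ideal.mem_map_of_mem _ hy')
      have h4 : x ⊗ₜ[A] y - algebraMap A (E₁ ⊗[A] E₂) (a * b) =
          (x - algebraMap A E₁ a) ⊗ₜ[A] y + (algebraMap A E₁ a) ⊗ₜ[A] (y - algebraMap A E₂ b) := by
        rw [TensorProduct.sub_tmul, TensorProduct.tmul_sub, Algebra.TensorProduct.algebraMap_apply,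
          map_mul]
        have : (algebraMap A E₁ a * algebraMap A E₁ b) ⊗ₜ[A] (1 : E₂) =
            (algebraMap A E₁ a) ⊗ₜ[A] (algebraMap A E₂ b) := by
          rw [Algebra.algebraMap_eq_smul_one b, Algebra.algebraMap_eq_smul_one (A := E₂) b,
            mul_smul_comm, mul_one, TensorProduct.smul_tmul]
        rw [this]
        abel
      rw [h4]
      exact Ideal.add_mem _ (h1 _ ha y) (h1' _ _ hb)
  apply le_antisymm
  · intro z hz
    obtain ⟨a, ha⟩ := hsurj z
    have hker : I.map (algebraMap A (E₁ ⊗[A] E₂)) ≤ RingHom.ker (σ : E₁ ⊗[A] E₂ →+* A ⧸ I) := by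
      rw [Ideal.map_le_iff_le_comap]
      intro i hi
      rw [Ideal.mem_comap, RingHom.mem_ker]
      show σ (algebraMap A _ i) = 0
      rw [σ.commutes]
      exact Ideal.Quotient.eq_zero_iff_mem.2 hi
    have h5 : σ (z - algebraMap A _ a) = 0 := hker ha
    have h6 : σ z = 0 := hz
    rw [map_sub, h6, zero_sub, neg_eq_zero, σ.commutes] at h5
    have ha' : a ∈ I := Ideal.Quotient.eq_zero_iff_mem.1 h5
    have : z = (z - algebraMap A _ a) + algebraMap A _ a := by ring
    rw [this]
    exact Ideal.add_mem _ ha (Ideal.mem_map_of_mem _ ha')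
  · rw [Ideal.map_le_iff_le_comap]
    intro i hi
    rw [Ideal.mem_comap, RingHom.mem_ker]
    show σ (algebraMap A _ i) = 0
    rw [σ.commutes]
    exact Ideal.Quotient.eq_zero_iff_mem.2 hi

/-- Given an étale algebra with an `A ⧸ I`-point, a principal localization is a neighbourhood. -/
theorem exists_nbhd_away (E : Type u) [CommRing E] [Algebra A E] [Algebra.Etale A E]
    (σ : E →ₐ[A] A ⧸ I) :
    ∃ ε : E, σ ε = 1 ∧ IsNbhd I (Localization.Away ε) ∧
      ∃ σ' : Localization.Away ε →ₐ[A] A ⧸ I, ∀ c, σ' (algebraMap E _ c) = σ c := by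
  obtain ⟨ε, h1, h2, h3⟩ := Groth.Agent.Lib.Helper4.HenselPair.exists_section_idempotent I σ
  have hunits : ∀ y : Submonoid.powers ε, IsUnit (σ (y : E)) := by
    rintro ⟨_, k, rfl⟩
    show IsUnit (σ (ε ^ k))
    rw [map_pow, h1, one_pow]
    exact isUnit_one
  let σ' : Localization.Away ε →ₐ[A] A ⧸ I :=
    IsLocalization.liftAlgHom (M := Submonoid.powers ε) (f := σ) hunits
  have hσ' : ∀ c, σ' (algebraMap E _ c) = σ c := fun c => IsLocalization.lift_eq _ _
  have het : Algebra.Etale A (Localization.Away ε) := Algebra.Etale.comp A E (Localization.Away ε)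
  refine ⟨ε, h1, ⟨het, σ', ?_⟩, σ', hσ'⟩
  apply le_antisymm
  · intro z hz
    have hz' : σ' z = 0 := hz
    obtain ⟨x, s, rfl⟩ := IsLocalization.exists_mk'_eq (Submonoid.powers ε) z
    have hs : IsUnit (σ (s : E)) := hunits s
    have hx : σ x = 0 := by
      have := IsLocalization.mk'_spec (Localization.Away ε) x s
      have h4 := congrArg σ' this
      rw [map_mul, hz', zero_mul, hσ'] at h4
      exact h4.symm
    have h5 : x * ε ∈ I.map (algebraMap A E) := h3 x hx
    have h6 : algebraMap E (Localization.Away ε) (x * ε) ∈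
        I.map (algebraMap A (Localization.Away ε)) := by
      rw [IsScalarTower.algebraMap_eq A E (Localization.Away ε), ← Ideal.map_map]
      exact Ideal.mem_map_of_mem _ h5
    have hεu : IsUnit (algebraMap E (Localization.Away ε) ε) :=
      IsLocalization.Away.algebraMap_isUnit ε
    have h7 : algebraMap E (Localization.Away ε) x ∈
        I.map (algebraMap A (Localization.Away ε)) := by
      rw [map_mul] at h6
      obtain ⟨w, hw⟩ := hεu
      have : algebraMap E (Localization.Away ε) x =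
          (algebraMap E (Localization.Away ε) x * algebraMap E (Localization.Away ε) ε) *
            ↑w⁻¹ := by
        rw [← hw, mul_assoc, Units.mul_inv, mul_one]
      rw [this]
      exact Ideal.mul_mem_right _ _ h6
    rw [IsLocalization.mk'_eq_mul_mk'_one]
    exact Ideal.mul_mem_right _ _ h7
  · rw [Ideal.map_le_iff_le_comap]
    intro i hi
    rw [Ideal.mem_comap, RingHom.mem_ker]
    show σ' (algebraMap A _ i) = 0
    rw [σ'.commutes]
    exact Ideal.Quotient.eq_zero_iff_mem.2 hi

end Constructions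

end Groth.Agent.Lib.Helper12.HzPair
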