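import Mathlib
import Groth.Agent.Lib.Helper12.HzPairLoc
import Groth.Agent.Lib.Helper4.HznLim

/-!
# The henselization of a pair as a directed colimit (helper12)
-/

set_option autoImplicit false
universe u

namespace Groth.Agent.Lib.Helper12.HzPair

variable {A : Type u} [CommRing A] (I : Ideal A)

/-- A small index type of étale neighbourhoods of `V(I)`. -/
def Idx : Type u :=
  Σ n : ℕ, {J : Ideal (MvPolynomial (Fin n) A) // IsNbhd I (MvPolynomial (Fin n) A ⧸ J)}

variable {I}

namespace Idx

variable (i : Idx I)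

/-- The étale algebra of an index. -/
abbrev C : Type u := MvPolynomial (Fin i.1) A ⧸ i.2.1

theorem isNbhd : IsNbhd I i.C := i.2.2

/-- The localized algebra of an index (kept opaque to the unifier). -/
def G : Type u := Loc I i.C

noncomputable instance : CommRing i.G := inferInstanceAs (CommRing (Loc I i.C))
noncomputable instance : Algebra A i.G := inferInstanceAs (Algebra A (Loc I i.C))

/-- The identification of `i.G` with the localization. -/
noncomputable def toLoc : i.G ≃ₐ[A] Loc I i.C := AlgEquiv.refl

theorem map_le_jacobson : I.map (algebraMap A i.G) ≤ Ideal.jacobson ⊥ :=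
  HzPair.map_le_jacobson (I := I) (E := i.C)

instance flat : Module.Flat A i.G := i.isNbhd.flat_loc

end Idx

/-- Every étale neighbourhood maps to one in the small index type. -/
theorem exists_index {E : Type u} [CommRing E] [Algebra A E] (h : IsNbhd I E) :
    ∃ i : Idx I, Nonempty (Loc I E →ₐ[A] i.G) := by
  have := h.etale
  obtain ⟨n, π, hπ, -⟩ := (inferInstance : Algebra.FinitePresentation A E).out
  let J : Ideal (MvPolynomial (Fin n) A) := RingHom.ker π.toRingHom
  let e : (MvPolynomial (Fin n) A ⧸ J) ≃ₐ[A] E := Ideal.quotientKerAlgEquivOfSurjective hπ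
  have hN : IsNbhd I (MvPolynomial (Fin n) A ⧸ J) := h.of_equiv e.symm
  exact ⟨⟨n, ⟨J, hN⟩⟩, ⟨locMap e.symm.toAlgHom⟩⟩

noncomputable instance : Preorder (Idx I) where
  le i j := Nonempty (i.G →ₐ[A] j.G)
  le_refl i := ⟨AlgHom.id A _⟩
  le_trans _ _ _ := fun ⟨a⟩ ⟨b⟩ => ⟨b.comp a⟩

theorem Idx.le_def (i j : Idx I) : i ≤ j ↔ Nonempty (i.G →ₐ[A] j.G) := Iff.rfl

instance (i j : Idx I) : Subsingleton (i.G →ₐ[A] j.G) :=
  algHom_loc_subsingleton i.isNbhd j.map_le_jacobson

theorem isNbhd_self : IsNbhd I A := by
  refine ⟨inferInstance, Ideal.Quotient.mkₐ A I, ?_⟩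
  ext x
  simp

instance : Nonempty (Idx I) := by
  obtain ⟨i, -⟩ := exists_index (isNbhd_self (I := I))
  exact ⟨i⟩

open scoped TensorProduct in
instance : IsDirectedOrder (Idx I) where
  directed i j := by
    obtain ⟨k, ⟨θ⟩⟩ := exists_index (IsNbhd.tensor I i.isNbhd j.isNbhd)
    refine ⟨k, ⟨θ.comp (locMap Algebra.TensorProduct.includeLeft)⟩,
      ⟨θ.comp (locMap Algebra.TensorProduct.includeRight)⟩⟩

/-- The transition maps. -/
noncomputable def tr (i j : Idx I) (h : i ≤ j) : i.G →ₐ[A] j.G := Classical.choice h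

instance : DirectedSystem (fun i : Idx I => i.G) (fun i j h => (tr i j h : i.G → j.G)) where
  map_self i x := by
    have : tr i i le_rfl = AlgHom.id A _ := Subsingleton.elim _ _
    rw [this]
    rfl
  map_map k j i hij hjk x := by
    have : (tr j k hjk).comp (tr i j hij) = tr i k (hij.trans hjk) := Subsingleton.elim _ _
    rw [← this]
    rfl

variable (I)

/-- The henselization of the pair `(A, I)`. -/
abbrev Hz : Type u := DirectLimit (fun i : Idx I => i.G) (fun i j h => tr i j h)

noncomputable example : CommRing (Hz I) := inferInstance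
noncomputable example : Algebra A (Hz I) := inferInstance

instance Hz.flat : Module.Flat A (Hz I) :=
  Groth.Agent.Lib.Helper4.Hzn.flat_directLimit (fun i j h => tr (I := I) i j h)

end Groth.Agent.Lib.Helper12.HzPair
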