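import Mathlib
import Groth.Agent.Lib.Helper12.HzPairLoc

/-!
# Adjoining a simple root in an étale neighbourhood of `V(I)` (helper12)
-/

set_option autoImplicit false
universe u

namespace Groth.Agent.Lib.Helper12.HzPair

open Polynomial

variable {A : Type u} [CommRing A] {I : Ideal A}

theorem algHom_mem_map {D₁ D₂ : Type*} [CommRing D₁] [CommRing D₂] [Algebra A D₁] [Algebra A D₂]
    (φ : D₁ →ₐ[A] D₂) {y : D₁} (hy : y ∈ I.map (algebraMap A D₁)) :
    φ y ∈ I.map (algebraMap A D₂) := by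
  have h1 : (I.map (algebraMap A D₁)).map (φ : D₁ →+* D₂) = I.map (algebraMap A D₂) := by
    rw [Ideal.map_map]
    congr 1
    ext a
    exact φ.commutes a
  rw [← h1]
  exact Ideal.mem_map_of_mem _ hy

theorem map_quot_eq_bot : I.map (algebraMap A (A ⧸ I)) = ⊥ := by
  rw [eq_bot_iff, Ideal.map_le_iff_le_comap]
  intro i hi
  rw [Ideal.mem_comap, Ideal.mem_bot]
  exact Ideal.Quotient.eq_zero_iff_mem.2 hi

theorem exists_root_adjunction_zero {E : Type u} [CommRing E] [Algebra A E] (h : IsNbhd I E)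
    (f : (Loc I E)[X]) (hf : f.Monic)
    (h0 : f.coeff 0 ∈ I.map (algebraMap A (Loc I E))) (h1 : IsUnit (f.coeff 1)) :
    ∃ (E' : Type u) (_ : CommRing E') (_ : Algebra A E') (_ : IsNbhd I E')
      (φ : Loc I E →ₐ[A] Loc I E') (b : Loc I E'),
      b ∈ I.map (algebraMap A (Loc I E')) ∧ f.eval₂ (φ : Loc I E →+* Loc I E') b = 0 := by
  classical
  have hEt := h.etale
  obtain ⟨σ, hσ⟩ := h.exists_sec
  set B := Loc I E with hB
  set n := f.natDegree with hn
  -- the section on the localization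
  let σB : B →ₐ[A] A ⧸ I := locLift (D := A ⧸ I) (by rw [map_quot_eq_bot]; exact bot_le) σ
  have hσB : ∀ c : E, σB (algebraMap E B c) = σ c := fun c => locLift_algebraMap _ σ c
  -- common denominator
  obtain ⟨s, hs⟩ := IsLocalization.exist_integer_multiples_of_finset (M I E)
    ((Finset.range (n + 1)).image f.coeff)
  set u : B := algebraMap E B (s : E) with hu
  have huunit : IsUnit u := IsLocalization.map_units B s
  have hsk : ∀ k, ∃ c : E, algebraMap E B c = u * f.coeff k := by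
    intro k
    by_cases hk : k < n + 1
    · obtain ⟨c, hc⟩ := hs (f.coeff k) (Finset.mem_image_of_mem _ (Finset.mem_range.mpr hk))
      exact ⟨c, by rw [hc, Algebra.smul_def]⟩
    · refine ⟨0, ?_⟩
      rw [coeff_eq_zero_of_natDegree_lt (by omega), mul_zero, map_zero]
  set g : B[X] := scaleRoots f u with hg
  have hgm : g.Monic := (monic_scaleRoots_iff u).mpr hf
  have hgcoeff : ∀ k, g.coeff k = f.coeff k * u ^ (n - k) := fun k => coeff_scaleRoots f u k
  have hglift : g ∈ lifts (algebraMap E B) := by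
    rw [lifts_iff_coeff_lifts]
    intro k
    rw [hgcoeff]
    rcases lt_trichotomy k n with hk | hk | hk
    · obtain ⟨c, hc⟩ := hsk k
      obtain ⟨m, hm⟩ : ∃ m, n - k = m + 1 := ⟨n - k - 1, by omega⟩
      refine ⟨c * (s : E) ^ m, ?_⟩
      rw [map_mul, map_pow, hc, ← hu, hm, pow_succ]
      ring
    · subst hk
      refine ⟨1, ?_⟩
      rw [map_one, Nat.sub_self, pow_zero, mul_one, hn]
      exact hf.coeff_natDegree.symm
    · refine ⟨0, ?_⟩
      rw [coeff_eq_zero_of_natDegree_lt hk, zero_mul, map_zero]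
  obtain ⟨g', hg'map, hg'deg, hg'm⟩ := lifts_and_natDegree_eq_and_monic hglift hgm
  have hg'coeff : ∀ k, algebraMap E B (g'.coeff k) = g.coeff k := by
    intro k
    rw [← hg'map, coeff_map]
  have hσ0 : σ (g'.coeff 0) = 0 := by
    have h2 : algebraMap E B (g'.coeff 0) ∈ I.map (algebraMap A B) := by
      rw [hg'coeff, hgcoeff]
      exact Ideal.mul_mem_right _ _ h0
    rw [algebraMap_mem_map_iff, ← hσ] at h2
    exact h2
  have hσ1 : IsUnit (σ (g'.coeff 1)) := by
    have h2 : IsUnit (algebraMap E B (g'.coeff 1)) := by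
      rw [hg'coeff, hgcoeff]
      exact h1.mul (huunit.pow _)
    rw [← hσB]
    exact h2.map σB
  -- the standard étale algebra
  let P : StandardEtalePair E := ⟨g', hg'm, derivative g', ⟨1, 0, 1, by ring⟩⟩
  let E₁ := P.Ring
  let _ : Algebra A E₁ := ((algebraMap E E₁).comp (algebraMap A E)).toAlgebra
  have hT : IsScalarTower A E E₁ := IsScalarTower.of_algebraMap_eq fun _ => rfl
  have hE₁ : Algebra.Etale A E₁ := Algebra.Etale.comp A E E₁
  let _ : Algebra E (A ⧸ I) := (σ : E →+* A ⧸ I).toAlgebra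
  have hT2 : IsScalarTower A E (A ⧸ I) :=
    IsScalarTower.of_algebraMap_eq fun r => (σ.commutes r).symm
  have halg : ∀ c : E, algebraMap E (A ⧸ I) c = σ c := fun c => rfl
  have hmap : P.HasMap (0 : A ⧸ I) := by
    refine ⟨?_, ?_⟩
    · show aeval (0 : A ⧸ I) g' = 0
      rw [← coeff_zero_eq_aeval_zero', halg, hσ0]
    · show IsUnit (aeval (0 : A ⧸ I) (derivative g'))
      rw [← coeff_zero_eq_aeval_zero', halg, coeff_derivative]
      simp only [zero_add, Nat.cast_zero, mul_one]
      exact hσ1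
  let σP : E₁ →ₐ[E] A ⧸ I := P.lift 0 hmap
  let σ₁ : E₁ →ₐ[A] A ⧸ I := σP.restrictScalars A
  have hσ₁alg : ∀ c : E, σ₁ (algebraMap E E₁ c) = σ c := fun c => σP.commutes c
  have hσ₁X : σ₁ P.X = 0 := P.lift_X 0 hmap
  -- pass to a principal localization which is a neighbourhood
  obtain ⟨ε, -, hN, σ', hσ'⟩ := exists_nbhd_away (I := I) E₁ σ₁
  let E' := Localization.Away ε
  obtain ⟨σ'', hσ''⟩ := hN.exists_sec
  let θ : E →ₐ[A] E' := (IsScalarTower.toAlgHom A E₁ E').comp (IsScalarTower.toAlgHom A E E₁)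
  let φ : Loc I E →ₐ[A] Loc I E' := locMap θ
  have hφalg : ∀ c : E, φ (algebraMap E B c) = algebraMap E' (Loc I E') (θ c) :=
    fun c => locMap_algebraMap θ c
  set X₁ : E' := algebraMap E₁ E' P.X with hX₁
  set X' : Loc I E' := algebraMap E' (Loc I E') X₁ with hX'
  have hX₁mem : X₁ ∈ I.map (algebraMap A E') := by
    -- `σ'' = σ'` by uniqueness, so `σ'' X₁ = 0`
    have heq : σ'' = σ' := by
      have := hN.etale
      refine Groth.Agent.Lib.Helper4.HenselPair.algHom_ext_of_unramified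
        (⊥ : Ideal (A ⧸ I)) bot_le σ'' σ' fun x => ?_
      obtain ⟨a, ha⟩ := hN.exists_sub_mem x
      have h3 : σ'' (x - algebraMap A E' a) = 0 := by
        have : x - algebraMap A E' a ∈ RingHom.ker (σ'' : E' →+* A ⧸ I) := hσ'' ▸ ha
        exact this
      have h4 : σ' (x - algebraMap A E' a) = 0 := by
        have h5 := algHom_mem_map σ' ha
        rw [map_quot_eq_bot, Ideal.mem_bot] at h5
        exact h5
      rw [map_sub, σ''.commutes] at h3
      rw [map_sub, σ'.commutes] at h4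
      rw [Ideal.mem_bot, sub_eq_zero_of_eq]
      rw [sub_eq_zero.1 h3, sub_eq_zero.1 h4]
    rw [← hσ'', RingHom.mem_ker]
    show σ'' X₁ = 0
    rw [heq, hX₁, hσ', hσ₁X]
  have hX'mem : X' ∈ I.map (algebraMap A (Loc I E')) :=
    algebraMap_mem_map_iff.2 hX₁mem
  have hφu : IsUnit (φ u) := huunit.map φ
  obtain ⟨v, hv⟩ := hφu
  let b : Loc I E' := ↑v⁻¹ * X'
  have hub : φ u * b = X' := by
    rw [← hv, ← mul_assoc, Units.mul_inv, one_mul]
  refine ⟨E', inferInstance, inferInstance, hN, φ, b, Ideal.mul_mem_left _ _ hX'mem, ?_⟩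
  have key := scaleRoots_eval₂_mul (p := f) (φ : B →+* Loc I E') b u
  let ψ : E₁ →+* Loc I E' := (algebraMap E' (Loc I E')).comp (algebraMap E₁ E')
  have hcomp : (φ : B →+* Loc I E').comp (algebraMap E B) = ψ.comp (algebraMap E E₁) :=
    RingHom.ext hφalg
  have hX'ψ : X' = ψ P.X := rfl
  have hzero : eval₂ (φ : B →+* Loc I E') X' g = 0 := by
    rw [← hg'map, eval₂_map, hcomp, hX'ψ, ← hom_eval₂]
    have : eval₂ (algebraMap E E₁) P.X g' = 0 := P.hasMap_X.1
    rw [this, map_zero]
  have hub' : (φ : B →+* Loc I E') u * b = X' := hub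
  rw [hub', hzero] at key
  have hunit : IsUnit ((φ : B →+* Loc I E') u ^ f.natDegree) := (huunit.map φ).pow _
  exact (hunit.mul_right_eq_zero).mp key.symm

end Groth.Agent.Lib.Helper12.HzPair
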