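import Mathlib
import Groth.Prelude.Def_Hens2
import Groth.Agent.Lib.Helper12.HzPairDef
import Groth.Agent.Lib.Helper12.HzPairRoot
import Groth.Agent.Lib.Helper12.HensRad
import Groth.Agent.Lib.Helper4.HznAbs
import Groth.Agent.Lib.Helper4.HenselPairS

/-!
# The henselization of a pair: henselian property and universal property (helper12)
-/

set_option autoImplicit false
universe u

namespace Groth.Agent.Lib.Helper12.HzPair

open Polynomial
open Groth.Agent.Lib.Helper4.Hzn (exists_of_finite of_apply of_f' mk_eq_mk_iff isUnit_of_iff)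

variable {A : Type u} [CommRing A] (I : Ideal A)

/-- the structure maps into the colimit -/
noncomputable abbrev ofL (i : Idx I) : i.G →ₐ[A] Hz I :=
  DirectLimit.Algebra.of (fun i : Idx I => i.G) (fun i j h => tr i j h) i

variable {I}

theorem ofL_tr {i j : Idx I} (h : i ≤ j) (x : i.G) : ofL I j (tr i j h x) = ofL I i x :=
  of_f' (fun i j h => tr (I := I) i j h) h x

theorem exists_ofL (z : Hz I) : ∃ (i : Idx I) (x : i.G), ofL I i x = z := by
  obtain ⟨i, x, hx⟩ := DirectLimit.exists_eq_mk (fun i j h => tr (I := I) i j h) z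
  exact ⟨i, x, hx.symm⟩

theorem ofL_eq_iff {i j : Idx I} (x : i.G) (y : j.G) :
    ofL I i x = ofL I j y ↔ ∃ k, ∃ (hik : i ≤ k) (hjk : j ≤ k), tr i k hik x = tr j k hjk y :=
  mk_eq_mk_iff (fun i j h => tr (I := I) i j h) x y

/-- elements of `I (Hz I)` come from `I G_i` at some stage -/
theorem exists_mem_of_mem_map {z : Hz I} (hz : z ∈ I.map (algebraMap A (Hz I))) :
    ∃ (i : Idx I) (y : i.G), y ∈ I.map (algebraMap A i.G) ∧ ofL I i y = z := by
  induction hz using Submodule.span_induction with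
  | mem z hz =>
    obtain ⟨a, ha, rfl⟩ := hz
    obtain ⟨i⟩ := (inferInstance : Nonempty (Idx I))
    exact ⟨i, algebraMap A i.G a, Ideal.mem_map_of_mem _ ha, (ofL I i).commutes a⟩
  | zero =>
    obtain ⟨i⟩ := (inferInstance : Nonempty (Idx I))
    exact ⟨i, 0, Ideal.zero_mem _, map_zero _⟩
  | add z₁ z₂ _ _ h₁ h₂ =>
    obtain ⟨i₁, y₁, hy₁, rfl⟩ := h₁
    obtain ⟨i₂, y₂, hy₂, rfl⟩ := h₂
    obtain ⟨k, h1, h2⟩ := exists_ge_ge i₁ i₂
    refine ⟨k, tr i₁ k h1 y₁ + tr i₂ k h2 y₂,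
      Ideal.add_mem _ (algHom_mem_map _ hy₁) (algHom_mem_map _ hy₂), ?_⟩
    rw [map_add, ofL_tr, ofL_tr]
  | smul l z _ h =>
    obtain ⟨i₁, y₁, hy₁, rfl⟩ := h
    obtain ⟨i₂, w, rfl⟩ := exists_ofL l
    obtain ⟨k, h1, h2⟩ := exists_ge_ge i₁ i₂
    refine ⟨k, tr i₂ k h2 w * tr i₁ k h1 y₁, Ideal.mul_mem_left _ _ (algHom_mem_map _ hy₁), ?_⟩
    rw [map_mul, ofL_tr, ofL_tr, smul_eq_mul]

theorem exists_tr_mem_of_ofL_mem {i : Idx I} {x : i.G}
    (hx : ofL I i x ∈ I.map (algebraMap A (Hz I))) :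
    ∃ (j : Idx I) (h : i ≤ j), tr i j h x ∈ I.map (algebraMap A j.G) := by
  obtain ⟨i', y, hy, hxy⟩ := exists_mem_of_mem_map hx
  obtain ⟨k, hik, hjk, hk⟩ := (ofL_eq_iff x y).1 hxy.symm
  exact ⟨k, hik, hk ▸ algHom_mem_map _ hy⟩

theorem Hz.map_le_jacobson : I.map (algebraMap A (Hz I)) ≤ Ideal.jacobson ⊥ := by
  intro x hx
  rw [Ideal.mem_jacobson_bot]
  intro y
  obtain ⟨i, w, hw, hwx⟩ := exists_mem_of_mem_map (Ideal.mul_mem_right y _ hx)
  rw [← hwx, add_comm]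
  have := (isUnit_one_add_of_mem (I := I) (E := i.C) hw).map (ofL I i)
  rwa [map_add, map_one] at this

/-- Hensel's lemma for simple roots at `0`. -/
theorem Hz.root_at_zero (f : (Hz I)[X]) (hf : f.Monic)
    (h0 : f.coeff 0 ∈ I.map (algebraMap A (Hz I))) (h1 : IsUnit (f.coeff 1)) :
    ∃ b ∈ I.map (algebraMap A (Hz I)), f.IsRoot b := by
  classical
  set n := f.natDegree with hn
  obtain ⟨i, y, hy⟩ := exists_of_finite (fun i j h => tr (I := I) i j h)
    (fun k : Fin n => f.coeff k)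
  -- the polynomial at stage `i`
  let fi : (i.G)[X] := X ^ n + ∑ k : Fin n, C (y k) * X ^ (k : ℕ)
  have hfim : fi.Monic := monic_X_pow_add (degree_sum_fin_lt _)
  have hfimap : fi.map (ofL I i : i.G →+* Hz I) = f := by
    conv_rhs => rw [hf.as_sum, ← hn, ← Fin.sum_univ_eq_sum_range (fun k => C (f.coeff k) * X ^ k)]
    simp only [fi, Polynomial.map_add, Polynomial.map_pow, map_X, Polynomial.map_sum,
      Polynomial.map_mul, map_C]
    congr 1
    refine Finset.sum_congr rfl fun k _ => ?_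
    rw [hy k]
    rfl
  have hc0 : ofL I i (fi.coeff 0) = f.coeff 0 := by
    rw [← hfimap, coeff_map]; rfl
  have hc1 : ofL I i (fi.coeff 1) = f.coeff 1 := by
    rw [← hfimap, coeff_map]; rfl
  obtain ⟨j₁, hij₁, hj₁⟩ := exists_tr_mem_of_ofL_mem (hc0 ▸ h0)
  obtain ⟨j₂, hij₂, hj₂⟩ := (isUnit_of_iff (fun i j h => tr (I := I) i j h) (fi.coeff 1)).1
    (hc1 ▸ h1)
  obtain ⟨k, hk1, hk2⟩ := exists_ge_ge j₁ j₂
  have hik : i ≤ k := hij₁.trans hk1
  let fk : (k.G)[X] := fi.map (tr i k hik : i.G →+* k.G)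
  have hfkm : fk.Monic := hfim.map _
  have hfk0 : fk.coeff 0 ∈ I.map (algebraMap A k.G) := by
    have e : fk.coeff 0 = tr j₁ k hk1 (tr i j₁ hij₁ (fi.coeff 0)) := by
      rw [coeff_map]
      have : (tr j₁ k hk1).comp (tr i j₁ hij₁) = tr i k hik := Subsingleton.elim _ _
      rw [← this]; rfl
    rw [e]
    exact algHom_mem_map _ hj₁
  have hfk1 : IsUnit (fk.coeff 1) := by
    have e : fk.coeff 1 = tr j₂ k hk2 (tr i j₂ hij₂ (fi.coeff 1)) := by
      rw [coeff_map]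
      have : (tr j₂ k hk2).comp (tr i j₂ hij₂) = tr i k hik := Subsingleton.elim _ _
      rw [← this]; rfl
    rw [e]
    exact hj₂.map _
  obtain ⟨E', _, _, hN', φ, b, hb, hroot⟩ :=
    exists_root_adjunction_zero (E := k.C) k.isNbhd fk hfkm hfk0 hfk1
  obtain ⟨m, ⟨θ⟩⟩ := exists_index hN'
  let φ' : k.G →ₐ[A] Loc I E' := φ
  have hroot' : eval₂ (φ' : k.G →+* Loc I E') b fk = 0 := hroot
  let ψ : k.G →ₐ[A] m.G := θ.comp φ'
  have hkm : k ≤ m := ⟨ψ⟩
  have hψ : tr k m hkm = ψ := Subsingleton.elim _ _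
  refine ⟨ofL I m (θ b), algHom_mem_map _ (algHom_mem_map θ hb), ?_⟩
  have hfk : f = fk.map (ofL I k : k.G →+* Hz I) := by
    rw [← hfimap, Polynomial.map_map]
    congr 1
    ext x
    exact (ofL_tr hik x).symm
  have hcomp : (ofL I k : k.G →+* Hz I) = (ofL I m : m.G →+* Hz I).comp (ψ : k.G →+* m.G) := by
    ext x
    rw [← hψ]
    exact (ofL_tr hkm x).symm
  rw [IsRoot.def, hfk, eval_map, hcomp, ← RingHom.coe_coe (ofL I m), ← hom_eval₂]
  have : eval₂ (ψ : k.G →+* m.G) (θ b) fk = θ (eval₂ (φ' : k.G →+* Loc I E') b fk) := by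
    have : (ψ : k.G →+* m.G) = (θ : Loc I E' →+* m.G).comp (φ' : k.G →+* Loc I E') := rfl
    rw [this, ← RingHom.coe_coe θ, ← hom_eval₂]
  rw [this, hroot', map_zero, map_zero]

end Groth.Agent.Lib.Helper12.HzPair
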