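import Mathlib
import Groth.Prelude.Def_Hens2
import Groth.Agent.Lib.Helper12.HzPairHens

/-!
# The henselization of a pair exists (helper12)

`Hz I` is henselian along `I (Hz I)` and is initial among henselian pairs under `(A, I)`.
-/

set_option autoImplicit false
universe u

namespace Groth.Agent.Lib.Helper12.HzPair

open Polynomial

/-- A pair `(L, J)` with `J` in the Jacobson radical is henselian as soon as Hensel's lemma
holds for simple roots at `0`. -/
theorem henselianRing_of_root_at_zero {L : Type*} [CommRing L] (J : Ideal L)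
    (hJ : J ≤ Ideal.jacobson ⊥)
    (H : ∀ f : L[X], f.Monic → f.coeff 0 ∈ J → IsUnit (f.coeff 1) → ∃ b ∈ J, f.IsRoot b) :
    HenselianRing L J where
  jac := hJ
  is_henselian f hf a₀ h₁ h₂ := by
    have hm : (taylor a₀ f).Monic := by
      rw [taylor_apply]
      exact hf.comp_X_add_C a₀
    obtain ⟨b, hb, hroot⟩ := H (taylor a₀ f) hm (by rwa [taylor_coeff_zero])
      (by rw [taylor_coeff_one]; exact HensRad.isUnit_of_isUnit_mk hJ h₂)
    refine ⟨b + a₀, ?_, by simpa using hb⟩
    rw [IsRoot.def, taylor_eval] at hroot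
    exact hroot

variable {A : Type u} [CommRing A] (I : Ideal A)

instance Hz.henselian : HenselianRing (Hz I) (I.map (algebraMap A (Hz I))) :=
  henselianRing_of_root_at_zero _ Hz.map_le_jacobson Hz.root_at_zero

/-- maps out of each stage to a henselian pair under `(A, I)` exist and are unique -/
theorem Idx.algHom (i : Idx I) (T : Type u) [CommRing T] [Algebra A T] (J : Ideal T)
    [hT : HenselianRing T J] (hJ : I.map (algebraMap A T) ≤ J) :
    Nonempty (i.G →ₐ[A] T) ∧ Subsingleton (i.G →ₐ[A] T) := by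
  have hD : I.map (algebraMap A T) ≤ Ideal.jacobson ⊥ := hJ.trans hT.jac
  refine ⟨?_, algHom_loc_subsingleton i.isNbhd hD⟩
  have := i.isNbhd.etale
  obtain ⟨σ, -⟩ := i.isNbhd.exists_sec
  let ρ : A ⧸ I →ₐ[A] T ⧸ J :=
    Ideal.Quotient.liftₐ I ((Ideal.Quotient.mkₐ A J).comp (Algebra.ofId A T)) (by
      intro a ha
      change Ideal.Quotient.mk J (algebraMap A T a) = 0
      rw [Ideal.Quotient.eq_zero_iff_mem]
      exact hJ (Ideal.mem_map_of_mem _ ha))
  obtain ⟨τ, -⟩ := Groth.Agent.Lib.Helper4.HenselPair.exists_lift_of_etale_algebra J (ρ.comp σ)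
  exact ⟨(locLift hD τ).comp i.toLoc.toAlgHom⟩

theorem Hz.algHom (T : Type u) [CommRing T] [Algebra A T] (J : Ideal T)
    [hT : HenselianRing T J] (hJ : I.map (algebraMap A T) ≤ J) :
    Nonempty (Hz I →ₐ[A] T) ∧ Subsingleton (Hz I →ₐ[A] T) := by
  have hne : ∀ i : Idx I, Nonempty (i.G →ₐ[A] T) := fun i => (Idx.algHom I i T J hJ).1
  have hss : ∀ i : Idx I, Subsingleton (i.G →ₐ[A] T) := fun i => (Idx.algHom I i T J hJ).2
  constructor
  · let g : ∀ i : Idx I, i.G →ₐ[A] T := fun i => Classical.choice (hne i)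
    refine ⟨DirectLimit.Algebra.lift (fun i : Idx I => i.G) (fun i j h => tr i j h) T g
      fun i j hij x => ?_⟩
    have : (g j).comp (tr i j hij) = g i := (hss i).elim _ _
    exact congrArg (fun ψ => ψ x) this
  · constructor
    intro a b
    apply DirectLimit.Algebra.hom_ext
    intro i
    exact (hss i).elim _ _

/-- `Hz I` is a henselization of the pair `(A, I)`. -/
theorem Hz.isPairHenselization : Hens2.IsPairHenselization A I (Hz I) := by
  refine ⟨Hz.henselian I, fun C _ J f hJ hIJ => ?_⟩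
  letI := f.toAlgebra
  obtain ⟨⟨g⟩, hss⟩ := Hz.algHom I C J hIJ
  refine ⟨g, ?_, ?_⟩
  · ext a
    exact g.commutes a
  · intro g' hg'
    let g'' : Hz I →ₐ[A] C := { g' with commutes' := fun a => congrArg (fun φ => φ a) hg' }
    have h := hss.elim g'' g
    apply RingHom.ext
    intro x
    exact congrArg (fun φ : Hz I →ₐ[A] C => φ x) h

end Groth.Agent.Lib.Helper12.HzPair
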