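import Mathlib
import Groth.Prelude.Def_Hens2
import Groth.Agent.Lib.Helper12.HzPairUniv
import Groth.Agent.Lib.Helper12.HensCRT

/-!
# Étale neighbourhoods of `V(I)`: filteredness and the henselization as their colimit (helper12)
-/

set_option autoImplicit false
universe u

namespace Groth.Agent.Lib.Helper12.HzPair

open TensorProduct

variable {A : Type u} [CommRing A] {I : Ideal A}

/-- the neighbourhood condition is bijectivity of `A / I → E / I E` -/
theorem isNbhd_iff_bijective (E : Type u) [CommRing E] [Algebra A E] [het : Algebra.Etale A E] :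
    IsNbhd I E ↔ Function.Bijective
      (Ideal.quotientMap (I.map (algebraMap A E)) (algebraMap A E) Ideal.le_comap_map) := by
  constructor
  · intro h
    constructor
    · rw [injective_iff_map_eq_zero]
      intro x hx
      obtain ⟨a, rfl⟩ := Ideal.Quotient.mk_surjective x
      rw [Ideal.quotientMap_mk, Ideal.Quotient.eq_zero_iff_mem] at hx
      exact Ideal.Quotient.eq_zero_iff_mem.2 (h.mem_of_algebraMap_mem hx)
    · intro x
      obtain ⟨b, rfl⟩ := Ideal.Quotient.mk_surjective x
      obtain ⟨a, ha⟩ := h.exists_sub_mem b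
      refine ⟨Ideal.Quotient.mk _ a, ?_⟩
      rw [Ideal.quotientMap_mk, eq_comm, Ideal.Quotient.eq]
      exact ha
  · intro hbij
    let e : A ⧸ I ≃+* E ⧸ I.map (algebraMap A E) := RingEquiv.ofBijective _ hbij
    let σ₀ : E →+* A ⧸ I := (e.symm : (E ⧸ I.map (algebraMap A E)) →+* A ⧸ I).comp
      (Ideal.Quotient.mk _)
    have hσ₀ : ∀ a, σ₀ (algebraMap A E a) = algebraMap A (A ⧸ I) a := by
      intro a
      change e.symm (Ideal.Quotient.mk _ (algebraMap A E a)) = Ideal.Quotient.mk I a
      rw [RingEquiv.symm_apply_eq]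
      exact (Ideal.quotientMap_mk (f := algebraMap A E) (H := Ideal.le_comap_map)).symm
    let σ : E →ₐ[A] A ⧸ I := { σ₀ with commutes' := hσ₀ }
    refine ⟨het, σ, ?_⟩
    ext x
    rw [RingHom.mem_ker]
    change e.symm (Ideal.Quotient.mk _ x) = 0 ↔ _
    rw [RingEquiv.symm_apply_eq, map_zero, Ideal.Quotient.eq_zero_iff_mem]

/-- localizing a neighbourhood at an element of `1 + I E` gives a neighbourhood -/
theorem IsNbhd.away {E : Type u} [CommRing E] [Algebra A E] (h : IsNbhd I E) {u : E}
    (hu : u ∈ M I E) : IsNbhd I (Localization.Away u) := by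
  have := h.etale
  obtain ⟨σ, hσ⟩ := h.exists_sec
  have hσu : σ u = 1 := by
    have h1 : u - 1 ∈ RingHom.ker (σ : E →+* A ⧸ I) := hσ ▸ hu
    have h2 : σ (u - 1) = 0 := h1
    rw [map_sub, map_one, sub_eq_zero] at h2
    exact h2
  have hunits : ∀ y : Submonoid.powers u, IsUnit (σ (y : E)) := by
    rintro ⟨_, k, rfl⟩
    show IsUnit (σ (u ^ k))
    rw [map_pow, hσu, one_pow]
    exact isUnit_one
  let σ' : Localization.Away u →ₐ[A] A ⧸ I :=
    IsLocalization.liftAlgHom (M := Submonoid.powers u) (f := σ) hunits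
  have hσ' : ∀ c, σ' (algebraMap E _ c) = σ c := fun c => IsLocalization.lift_eq _ _
  have het : Algebra.Etale A (Localization.Away u) := Algebra.Etale.comp A E (Localization.Away u)
  refine ⟨het, σ', ?_⟩
  apply le_antisymm
  · intro z hz
    have hz' : σ' z = 0 := hz
    obtain ⟨x, s, rfl⟩ := IsLocalization.exists_mk'_eq (Submonoid.powers u) z
    have hx : σ x = 0 := by
      have := IsLocalization.mk'_spec (Localization.Away u) x s
      have h4 := congrArg σ' this
      rw [map_mul, hz', zero_mul, hσ'] at h4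
      exact h4.symm
    have h5 : x ∈ I.map (algebraMap A E) := by
      rw [← hσ]
      exact hx
    have h7 : algebraMap E (Localization.Away u) x ∈
        I.map (algebraMap A (Localization.Away u)) := by
      rw [IsScalarTower.algebraMap_eq A E (Localization.Away u), ← Ideal.map_map]
      exact Ideal.mem_map_of_mem _ h5
    rw [IsLocalization.mk'_eq_mul_mk'_one]
    exact Ideal.mul_mem_right _ _ h7
  · rw [Ideal.map_le_iff_le_comap]
    intro i hi
    rw [Ideal.mem_comap, RingHom.mem_ker]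
    show σ' (algebraMap A _ i) = 0
    rw [σ'.commutes]
    exact Ideal.Quotient.eq_zero_iff_mem.2 hi

/-- finitely many elements killed in `Loc I E` are killed in a principal localization -/
theorem exists_away_eq {E : Type u} [CommRing E] [Algebra A E] {κ : Type*} [Finite κ]
    (x y : κ → E) (hxy : ∀ k, algebraMap E (Loc I E) (x k) = algebraMap E (Loc I E) (y k)) :
    ∃ u ∈ M I E, ∀ k, algebraMap E (Localization.Away u) (x k) =
      algebraMap E (Localization.Away u) (y k) := by
  classical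
  have := Fintype.ofFinite κ
  have h1 : ∀ k, ∃ c : M I E, (c : E) * x k = c * y k := fun k =>
    (IsLocalization.eq_iff_exists (M I E) (Loc I E)).1 (hxy k)
  choose c hc using h1
  refine ⟨∏ k, (c k : E), ?_, fun k => ?_⟩
  · have : (∏ k, (c k : E)) = ((∏ k, c k : M I E) : E) := by
      rw [Submonoid.coe_finsetProd]
    rw [this]
    exact (∏ k, c k : M I E).2
  · have hunit : IsUnit (algebraMap E (Localization.Away (∏ k, (c k : E))) (c k)) := by
      have h2 : IsUnit (algebraMap E (Localization.Away (∏ k, (c k : E))) (∏ k, (c k : E))) :=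
        IsLocalization.Away.algebraMap_isUnit _
      have hdvd : (c k : E) ∣ ∏ k, (c k : E) :=
        Finset.dvd_prod_of_mem (fun k => (c k : E)) (Finset.mem_univ k)
      exact isUnit_of_dvd_unit (map_dvd _ hdvd) h2
    have h3 := congrArg (algebraMap E (Localization.Away (∏ k, (c k : E)))) (hc k)
    rw [map_mul, map_mul] at h3
    exact hunit.mul_left_cancel h3

theorem exists_away_eq_zero {E : Type u} [CommRing E] [Algebra A E] {x : E}
    (hx : algebraMap E (Loc I E) x = 0) :
    ∃ u ∈ M I E, algebraMap E (Localization.Away u) x = 0 := by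
  obtain ⟨u, hu, huk⟩ := exists_away_eq (I := I) (E := E) (fun _ : Unit => x) (fun _ => 0)
    (fun _ => by rw [hx, map_zero])
  refine ⟨u, hu, ?_⟩
  have := huk ()
  rw [map_zero] at this
  exact this

/-- two maps between neighbourhoods are equalized by a principal localization of the target -/
theorem exists_equalizer {E₁ E₂ : Type u} [CommRing E₁] [Algebra A E₁] [CommRing E₂]
    [Algebra A E₂] (h₁ : IsNbhd I E₁) (f g : E₁ →ₐ[A] E₂) :
    ∃ u ∈ M I E₂, (IsScalarTower.toAlgHom A E₂ (Localization.Away u)).comp f =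
      (IsScalarTower.toAlgHom A E₂ (Localization.Away u)).comp g := by
  have := h₁.etale
  have hft : Algebra.FiniteType A E₁ := inferInstance
  obtain ⟨s, hs⟩ := hft.out
  have h0 : (IsScalarTower.toAlgHom A E₂ (Loc I E₂)).comp f =
      (IsScalarTower.toAlgHom A E₂ (Loc I E₂)).comp g :=
    algHom_eq_of_nbhd h₁ map_le_jacobson _ _
  obtain ⟨u, hu, huk⟩ := exists_away_eq (I := I) (E := E₂) (fun k : s => f k) (fun k : s => g k)
    (fun k => congrArg (fun φ => φ (k : E₁)) h0)
  refine ⟨u, hu, ?_⟩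
  apply AlgHom.ext_of_adjoin_eq_top hs
  intro x hx
  exact huk ⟨x, hx⟩

/-- a neighbourhood maps to every henselian pair under `(A, I)` -/
theorem IsNbhd.nonempty_algHom {E : Type u} [CommRing E] [Algebra A E] (h : IsNbhd I E)
    (T : Type u) [CommRing T] [Algebra A T] (J : Ideal T) [hT : HenselianRing T J]
    (hJ : I.map (algebraMap A T) ≤ J) : Nonempty (E →ₐ[A] T) := by
  have := h.etale
  obtain ⟨σ, -⟩ := h.exists_sec
  let ρ : A ⧸ I →ₐ[A] T ⧸ J :=
    Ideal.Quotient.liftₐ I ((Ideal.Quotient.mkₐ A J).comp (Algebra.ofId A T)) (by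
      intro a ha
      change Ideal.Quotient.mk J (algebraMap A T a) = 0
      rw [Ideal.Quotient.eq_zero_iff_mem]
      exact hJ (Ideal.mem_map_of_mem _ ha))
  obtain ⟨τ, -⟩ := Groth.Agent.Lib.Helper4.HenselPair.exists_lift_of_etale_algebra J (ρ.comp σ)
  exact ⟨τ⟩

section Colimit

variable (B : Type u) [CommRing B] [Algebra A B] (hB : Hens2.IsPairHenselization A I B)
include hB

theorem nonempty_unique_algHom {E : Type u} [CommRing E] [Algebra A E] (h : IsNbhd I E) :
    Nonempty (Unique (E →ₐ[A] B)) := by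
  haveI := hB.1
  obtain ⟨τ⟩ := h.nonempty_algHom B (I.map (algebraMap A B)) le_rfl
  exact ⟨⟨⟨τ⟩, fun τ' => algHom_eq_of_nbhd h hB.1.jac _ _⟩⟩

theorem exists_nbhd_of_mem (x : B) :
    ∃ (E : Type u) (_ : CommRing E) (_ : Algebra A E), IsNbhd I E ∧
      ∃ (φ : E →ₐ[A] B) (s : E), φ s = x := by
  obtain ⟨e⟩ := HensCRT.nonempty_algEquiv_of_isPairHenselization I (Hz I) B
    (Hz.isPairHenselization I) hB
  obtain ⟨i, y, hy⟩ := exists_ofL (e.symm x)
  obtain ⟨c, u, hcu⟩ := IsLocalization.exists_mk'_eq (M I i.C) (i.toLoc y)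
  have hN : IsNbhd I (Localization.Away (u : i.C)) := i.isNbhd.away u.2
  have hunits : ∀ w : Submonoid.powers (u : i.C),
      IsUnit (IsScalarTower.toAlgHom A i.C (Loc I i.C) (w : i.C)) := by
    rintro ⟨_, k, rfl⟩
    show IsUnit (algebraMap i.C (Loc I i.C) ((u : i.C) ^ k))
    rw [map_pow]
    exact (IsLocalization.map_units (Loc I i.C) u).pow k
  let lam : Localization.Away (u : i.C) →ₐ[A] Loc I i.C :=
    IsLocalization.liftAlgHom (M := Submonoid.powers (u : i.C))
      (f := IsScalarTower.toAlgHom A i.C (Loc I i.C)) hunits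
  have hlam : ∀ c', lam (algebraMap i.C _ c') = algebraMap i.C (Loc I i.C) c' :=
    fun c' => IsLocalization.lift_eq _ _
  let s : Localization.Away (u : i.C) :=
    IsLocalization.mk' (Localization.Away (u : i.C)) c
      (⟨u, Submonoid.mem_powers _⟩ : Submonoid.powers (u : i.C))
  have hs : lam s = i.toLoc y := by
    have h1 : s * algebraMap i.C (Localization.Away (u : i.C)) u = algebraMap i.C _ c :=
      IsLocalization.mk'_spec (Localization.Away (u : i.C)) c
        (⟨u, Submonoid.mem_powers _⟩ : Submonoid.powers (u : i.C))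
    have h2 := congrArg lam h1
    rw [map_mul, hlam, hlam] at h2
    have h3 : i.toLoc y * algebraMap i.C (Loc I i.C) u = algebraMap i.C (Loc I i.C) c := by
      rw [← hcu]
      exact IsLocalization.mk'_spec (Loc I i.C) c u
    exact (IsLocalization.map_units (Loc I i.C) u).mul_right_cancel (h2.trans h3.symm)
  refine ⟨Localization.Away (u : i.C), inferInstance, inferInstance, hN,
    (e.toAlgHom.comp (ofL I i)).comp (i.toLoc.symm.toAlgHom.comp lam), s, ?_⟩
  have h4 : (i.toLoc.symm.toAlgHom.comp lam) s = y := by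
    show i.toLoc.symm (lam s) = y
    rw [hs]
    exact i.toLoc.symm_apply_apply y
  show e (ofL I i ((i.toLoc.symm.toAlgHom.comp lam) s)) = x
  rw [h4, hy]
  exact e.apply_symm_apply x

theorem exists_nbhd_kill {E : Type u} [CommRing E] [Algebra A E] (h : IsNbhd I E)
    (φ : E →ₐ[A] B) (s : E) (hs : φ s = 0) :
    ∃ (E' : Type u) (_ : CommRing E') (_ : Algebra A E'), IsNbhd I E' ∧
      ∃ ψ : E →ₐ[A] E', ψ s = 0 := by
  obtain ⟨e⟩ := HensCRT.nonempty_algEquiv_of_isPairHenselization I (Hz I) B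
    (Hz.isPairHenselization I) hB
  obtain ⟨m, ⟨θ⟩⟩ := exists_index h
  let φ₁ : E →ₐ[A] Hz I := e.symm.toAlgHom.comp φ
  let φ₂ : E →ₐ[A] Hz I := ((ofL I m).comp θ).comp (IsScalarTower.toAlgHom A E (Loc I E))
  have h12 : φ₁ = φ₂ := algHom_eq_of_nbhd h Hz.map_le_jacobson _ _
  have h1 : ofL I m (θ (algebraMap E (Loc I E) s)) = ofL I m 0 := by
    have : φ₂ s = 0 := by
      rw [← h12]
      simp only [φ₁, AlgHom.comp_apply, hs, map_zero]
    rw [map_zero]
    exact this
  obtain ⟨k, hmk, hmk', hk⟩ := (ofL_eq_iff _ _).1 h1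
  rw [map_zero] at hk
  -- the map `E → Loc I k.C`
  let χ : E →ₐ[A] Loc I k.C :=
    ((k.toLoc.toAlgHom.comp (tr m k hmk)).comp θ).comp (IsScalarTower.toAlgHom A E (Loc I E))
  have hχ : χ s = 0 := by
    simp only [χ, AlgHom.comp_apply, IsScalarTower.coe_toAlgHom', AlgEquiv.toAlgHom_eq_coe,
      AlgHom.coe_coe]
    rw [hk, map_zero]
  have hT : IsNbhd I (E ⊗[A] k.C) := IsNbhd.tensor I h k.isNbhd
  let ψ₁ : E →ₐ[A] Loc I (E ⊗[A] k.C) :=
    (IsScalarTower.toAlgHom A (E ⊗[A] k.C) (Loc I (E ⊗[A] k.C))).comp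
      Algebra.TensorProduct.includeLeft
  let ψ₂ : E →ₐ[A] Loc I (E ⊗[A] k.C) :=
    (locMap (I := I) (Algebra.TensorProduct.includeRight : k.C →ₐ[A] E ⊗[A] k.C)).comp χ
  have hψ : ψ₁ = ψ₂ := algHom_eq_of_nbhd h map_le_jacobson _ _
  have h3 : ψ₁ s = ψ₂ s := by rw [hψ]
  simp only [ψ₁, ψ₂, AlgHom.comp_apply, hχ, map_zero] at h3
  obtain ⟨u, hu, huk⟩ := exists_away_eq_zero (I := I) (E := E ⊗[A] k.C) h3
  exact ⟨Localization.Away u, inferInstance, inferInstance, hT.away hu,
    (IsScalarTower.toAlgHom A (E ⊗[A] k.C) (Localization.Away u)).comp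
      Algebra.TensorProduct.includeLeft, huk⟩

end Colimit

end Groth.Agent.Lib.Helper12.HzPair
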