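import Mathlib
import Groth.Prelude.Def_Hens2
import Groth.Agent.Lib.Helper12.HzPairUniv
import Groth.Agent.Lib.Helper12.HensCRT

/-!
# The henselization of a pair is flat and does not change `A / I ^ n` (helper12)
-/

set_option autoImplicit false
universe u

namespace Groth.Agent.Lib.Helper12.HzPair

variable {A : Type u} [CommRing A] (I : Ideal A)

theorem Hz.exists_sub_mem (z : Hz I) :
    ∃ a : A, z - algebraMap A (Hz I) a ∈ I.map (algebraMap A (Hz I)) := by
  obtain ⟨i, x, rfl⟩ := exists_ofL z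
  obtain ⟨a, ha⟩ := i.isNbhd.exists_sub_mem_loc (i.toLoc x)
  refine ⟨a, ?_⟩
  have h1 : ofL I i x - algebraMap A (Hz I) a = ofL I i (x - algebraMap A i.G a) := by
    rw [map_sub, AlgHom.commutes]
  rw [h1]
  exact algHom_mem_map _ ha

variable {I}

/-- if `A → B / I B` is surjective then so is `A → B / I ^ n B` -/
theorem exists_sub_mem_pow {B : Type*} [CommRing B] [Algebra A B]
    (h1 : ∀ b : B, ∃ a : A, b - algebraMap A B a ∈ I.map (algebraMap A B)) (n : ℕ) (b : B) :
    ∃ a : A, b - algebraMap A B a ∈ (I ^ n).map (algebraMap A B) := by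
  induction n with
  | zero =>
    refine ⟨0, ?_⟩
    rw [pow_zero, Ideal.one_eq_top, Ideal.map_top]
    trivial
  | succ n ih =>
    obtain ⟨a, ha⟩ := ih
    have key : ∀ y ∈ (I ^ n).map (algebraMap A B), ∃ c ∈ I ^ n,
        y - algebraMap A B c ∈ (I ^ (n + 1)).map (algebraMap A B) := by
      intro y hy
      induction hy using Submodule.span_induction with
      | mem y hy =>
        obtain ⟨c, hc, rfl⟩ := hy
        exact ⟨c, hc, by rw [sub_self]; exact Ideal.zero_mem _⟩
      | zero => exact ⟨0, Ideal.zero_mem _, by rw [map_zero, sub_self]; exact Ideal.zero_mem _⟩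
      | add y₁ y₂ _ _ h₁ h₂ =>
        obtain ⟨c₁, hc₁, hy₁⟩ := h₁
        obtain ⟨c₂, hc₂, hy₂⟩ := h₂
        refine ⟨c₁ + c₂, Ideal.add_mem _ hc₁ hc₂, ?_⟩
        have : y₁ + y₂ - algebraMap A B (c₁ + c₂) =
            (y₁ - algebraMap A B c₁) + (y₂ - algebraMap A B c₂) := by
          rw [map_add]; ring
        rw [this]
        exact Ideal.add_mem _ hy₁ hy₂
      | smul l y _ h =>
        obtain ⟨c, hc, hy⟩ := h
        obtain ⟨a', ha'⟩ := h1 l
        refine ⟨a' * c, Ideal.mul_mem_left _ _ hc, ?_⟩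
        have : l • y - algebraMap A B (a' * c) =
            l * (y - algebraMap A B c) + (l - algebraMap A B a') * algebraMap A B c := by
          rw [map_mul, smul_eq_mul]; ring
        rw [this]
        refine Ideal.add_mem _ (Ideal.mul_mem_left _ _ hy) ?_
        rw [pow_succ', Ideal.map_mul]
        exact Ideal.mul_mem_mul ha' (Ideal.mem_map_of_mem _ hc)
    obtain ⟨c, -, hc⟩ := key _ ha
    refine ⟨a + c, ?_⟩
    have : b - algebraMap A B (a + c) = (b - algebraMap A B a) - algebraMap A B c := by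
      rw [map_add]; ring
    rw [this]
    exact hc

variable (I)

theorem henselianRing_quot_pow (n : ℕ) :
    HenselianRing (A ⧸ I ^ n) (I.map (Ideal.Quotient.mk (I ^ n))) := by
  apply HensRad.henselianRing_of_le_radical ⊥
  intro x hx
  refine ⟨n, ?_⟩
  have : x ^ n ∈ (I.map (Ideal.Quotient.mk (I ^ n))) ^ n := Ideal.pow_mem_pow hx n
  rw [← Ideal.map_pow, Ideal.map_quotient_self] at this
  exact this

variable {I}

theorem mem_pow_of_isPairHenselization {B : Type u} [CommRing B] [Algebra A B]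
    (hB : Hens2.IsPairHenselization A I B) (n : ℕ) {a : A}
    (ha : algebraMap A B a ∈ (I ^ n).map (algebraMap A B)) : a ∈ I ^ n := by
  haveI := henselianRing_quot_pow I n
  obtain ⟨g, hg, -⟩ := hB.2 (A ⧸ I ^ n) (I.map (Ideal.Quotient.mk (I ^ n)))
    (Ideal.Quotient.mk (I ^ n)) inferInstance le_rfl
  have h1 : g (algebraMap A B a) = Ideal.Quotient.mk (I ^ n) a := congrArg (fun φ => φ a) hg
  have h2 : g (algebraMap A B a) ∈ ((I ^ n).map (algebraMap A B)).map g :=
    Ideal.mem_map_of_mem _ ha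
  rw [Ideal.map_map, hg, Ideal.map_quotient_self, h1] at h2
  exact Ideal.Quotient.eq_zero_iff_mem.1 h2

theorem flat_and_bijective_of_isPairHenselization {B : Type u} [CommRing B] [Algebra A B]
    (hB : Hens2.IsPairHenselization A I B) :
    Module.Flat A B ∧ ∀ n : ℕ, Function.Bijective
      (Ideal.quotientMap ((I ^ n).map (algebraMap A B)) (algebraMap A B) Ideal.le_comap_map) := by
  obtain ⟨e⟩ := HensCRT.nonempty_algEquiv_of_isPairHenselization I (Hz I) B
    (Hz.isPairHenselization I) hB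
  have h1 : ∀ b : B, ∃ a : A, b - algebraMap A B a ∈ I.map (algebraMap A B) := by
    intro b
    obtain ⟨a, ha⟩ := Hz.exists_sub_mem I (e.symm b)
    refine ⟨a, ?_⟩
    have := algHom_mem_map (I := I) e.toAlgHom ha
    simpa using this
  refine ⟨Module.Flat.of_linearEquiv e.symm.toLinearEquiv, fun n => ⟨?_, ?_⟩⟩
  · rw [injective_iff_map_eq_zero]
    intro x hx
    obtain ⟨a, rfl⟩ := Ideal.Quotient.mk_surjective x
    rw [Ideal.quotientMap_mk, Ideal.Quotient.eq_zero_iff_mem] at hx
    exact Ideal.Quotient.eq_zero_iff_mem.2 (mem_pow_of_isPairHenselization hB n hx)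
  · intro x
    obtain ⟨b, rfl⟩ := Ideal.Quotient.mk_surjective x
    obtain ⟨a, ha⟩ := exists_sub_mem_pow h1 n b
    refine ⟨Ideal.Quotient.mk _ a, ?_⟩
    rw [Ideal.quotientMap_mk, eq_comm, Ideal.Quotient.eq]
    exact ha

end Groth.Agent.Lib.Helper12.HzPair
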