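import Mathlib
import Groth.Agent.Lib.Helper21.CompleteFlat
import Groth.Agent.Lib.Helper21.AdicNoetherian
import Groth.Agent.Lib.Helper4.HznNoeth

/-!
# Directed colimits of Noetherian rings along an ideal in the Jacobson radical (helper12)

Pair version of helper4's `Hzn.isNoetherianRing_directLimit` (EGA 0_III 10.3.1.3).
-/

set_option autoImplicit false
set_option linter.unusedSectionVars false
universe u

namespace Groth.Agent.Lib.Helper12.HzPair

open Groth.Agent.Lib.Helper21
open Groth.Agent.Lib.Helper4.Hzn (exists_of_finite of_apply of_f' mk_eq_mk_iff isUnit_of_iff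
  isNoetherianRing_of_faithfullyFlat)

section

variable {R : Type u} [CommRing R] {ι : Type u} [Preorder ι] [IsDirectedOrder ι]
  [Nonempty ι] {G : ι → Type u} [∀ i, CommRing (G i)] [∀ i, Algebra R (G i)]
  (f : ∀ i j, i ≤ j → G i →ₐ[R] G j) [DirectedSystem G (f · · ·)]

local notation "L" => DirectLimit G f
local notation "ofL" => DirectLimit.Algebra.of G f

/-- a directed colimit `L` of Noetherian `R`-algebras, flat over each stage, with `I L` finitely
generated, contained in the Jacobson radical and `L / I L` Noetherian, is Noetherian. -/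
theorem isNoetherianRing_directLimit_pair (I : Ideal R)
    (hN : ∀ i, IsNoetherianRing (G i)) (hfg : I.FG)
    (hjac : I.map (algebraMap R L) ≤ Ideal.jacobson ⊥)
    (hNq : IsNoetherianRing (L ⧸ I.map (algebraMap R L)))
    (hflat : ∀ i, (ofL i : G i →+* L).Flat) : IsNoetherianRing L := by
  set JL : Ideal L := I.map (algebraMap R L) with hJL
  have hmL : ∀ i, (I.map (algebraMap R (G i))).map (ofL i : G i →+* L) = JL := by
    intro i
    rw [Ideal.map_map]
    congr 1
    ext r
    exact (ofL i).commutes r
  have hfgL : JL.FG := hfg.map _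
  have hCN : IsNoetherianRing (AdicCompletion JL L) :=
    isNoetherianRing_adicCompletion_of_fg JL hfgL
  -- flatness of the completion over each stage
  have hstage : ∀ i, @Module.Flat (G i) (AdicCompletion JL L) _ _
      (Module.compHom (AdicCompletion JL L) (ofL i : G i →+* L)) := by
    intro i
    let _ : Algebra (G i) L := (ofL i : G i →+* L).toAlgebra
    let _ : Module (G i) (AdicCompletion JL L) :=
      Module.compHom (AdicCompletion JL L) (ofL i : G i →+* L)
    have hT : IsScalarTower (G i) L (AdicCompletion JL L) :=
      ⟨fun a b c => by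
        show ((ofL i : G i →+* L) a * b) • c = (ofL i : G i →+* L) a • (b • c)
        rw [mul_smul]⟩
    have := hN i
    have hmapL : (I.map (algebraMap R (G i))).map (algebraMap (G i) L) = JL := hmL i
    have hIC : IsAdicComplete (I.map (algebraMap R (G i))) (AdicCompletion JL L) := by
      have h0 : IsAdicComplete JL (AdicCompletion JL L) :=
        AdicCompletion.isAdicComplete hfgL
      have h0' : IsAdicComplete ((I.map (algebraMap R (G i))).map (algebraMap (G i) L))
          (AdicCompletion JL L) := by
        rw [hmapL]
        exact h0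
      exact (IsAdicComplete.map_algebraMap_iff (S := L) (I.map (algebraMap R (G i)))
        (AdicCompletion JL L)).mp h0'
    have hflatL : Module.Flat (G i) L := hflat i
    refine flat_of_isAdicComplete_of_quotFlat (I.map (algebraMap R (G i))) fun n => ?_
    have hq : QuotFlat (I.map (algebraMap R (G i)) ^ n) L := quotFlat_of_flat _
    have hpow : (I.map (algebraMap R (G i)) ^ n).map (algebraMap (G i) L) = JL ^ n := by
      rw [Ideal.map_pow, hmapL]
    have key := QuotFlat.of_dense (R := G i) (R' := G i) (M := L)
      (M' := AdicCompletion JL L) (I.map (algebraMap R (G i)) ^ n)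
      ((AdicCompletion.of JL L).restrictScalars (G i)) ?_ ?_ ?_ hq
    · simpa using key
    · intro r'
      exact ⟨r', by simp⟩
    · intro m'
      obtain ⟨m, hm⟩ := exists_of_sub_mem_pow_smul_top JL hfgL n m'
      refine ⟨m, ?_⟩
      rw [← hpow, mem_map_smul_top_iff] at hm
      simpa using hm
    · intro m hm
      have hm' : AdicCompletion.of JL L m ∈
          (I.map (algebraMap R (G i)) ^ n • ⊤ : Submodule (G i) (AdicCompletion JL L)) := by
        simpa using hm
      rw [← mem_map_smul_top_iff (R' := L), hpow] at hm'
      have h5 := mem_of_of_mem_pow_smul_top JL hfgL n m hm'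
      rw [← hpow, mem_map_smul_top_iff] at h5
      exact h5
  -- flatness over the colimit
  have hCflat : Module.Flat L (AdicCompletion JL L) := by
    refine Module.Flat.of_forall_isTrivialRelation fun {l} {c} {x} hx => ?_
    obtain ⟨i, g, hg⟩ := exists_of_finite f c
    let _ : Module (G i) (AdicCompletion JL L) :=
      Module.compHom (AdicCompletion JL L) (ofL i : G i →+* L)
    have hsm : ∀ (a : G i) (y : AdicCompletion JL L), a • y = ofL i a • y :=
      fun _ _ => rfl
    have hrel : ∑ m, g m • x m = 0 := by
      rw [← hx]
      refine Finset.sum_congr rfl fun m _ => ?_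
      rw [hsm, ← hg m]
    have := hstage i
    obtain ⟨n, a, y, hy, ha⟩ := Module.Flat.isTrivialRelation_of_sum_smul_eq_zero (R := G i)
      (M := AdicCompletion JL L) hrel
    refine ⟨n, fun m t => ofL i (a m t), y, fun m => ?_, fun t => ?_⟩
    · rw [hy m]
      exact Finset.sum_congr rfl fun t _ => hsm _ _
    · have h6 := congrArg (ofL i) (ha t)
      rw [map_zero, map_sum] at h6
      rw [← h6]
      refine Finset.sum_congr rfl fun m _ => ?_
      rw [map_mul, ← hg m]
  have hff : Module.FaithfullyFlat L (AdicCompletion JL L) := by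
    refine ⟨fun m hm => ?_⟩
    intro htop
    have hJm : JL ≤ m := hjac.trans (sInf_le ⟨bot_le, hm⟩)
    have hNm : (JL ^ 1 • ⊤ : Submodule L L) ≤ m := by
      rw [pow_one, smul_eq_mul, Ideal.mul_top]
      exact hJm
    let q : (L ⧸ (JL ^ 1 • ⊤ : Submodule L L)) →ₗ[L] L ⧸ m :=
      Submodule.mapQ _ m LinearMap.id hNm
    let ev : AdicCompletion JL L →ₗ[L] L ⧸ m := q ∘ₗ AdicCompletion.eval JL L 1
    have key : ∀ z ∈ (m • ⊤ : Submodule L (AdicCompletion JL L)), ev z = 0 := by
      intro z hz
      refine Submodule.smul_induction_on hz ?_ ?_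
      · intro c hc x _
        rw [map_smul]
        obtain ⟨y, hy⟩ := Ideal.Quotient.mk_surjective (ev x)
        rw [← hy]
        change c • Ideal.Quotient.mk m y = 0
        rw [Algebra.smul_def, Ideal.Quotient.algebraMap_eq, ← map_mul,
          Ideal.Quotient.eq_zero_iff_mem]
        exact Ideal.mul_mem_right _ _ hc
      · intro x y hx hy
        rw [map_add, hx, hy, add_zero]
    have h1 : AdicCompletion.of JL L 1 ∈ (m • ⊤ : Submodule L (AdicCompletion JL L)) := by
      rw [htop]
      exact Submodule.mem_top
    have h2 : ev (AdicCompletion.of JL L 1) = 0 := key _ h1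
    have h3 : ev (AdicCompletion.of JL L 1) = Ideal.Quotient.mk m 1 := by
      simp only [ev, LinearMap.comp_apply, AdicCompletion.eval_of, Submodule.mkQ_apply, q,
        Submodule.mapQ_apply, LinearMap.id_apply]
      rfl
    rw [h3, Ideal.Quotient.eq_zero_iff_mem] at h2
    exact hm.ne_top ((Ideal.eq_top_iff_one _).2 h2)
  exact isNoetherianRing_of_faithfullyFlat L (AdicCompletion JL L)

end

end Groth.Agent.Lib.Helper12.HzPair
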