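import Mathlib
import Groth.Prelude.Def_Hens2
import Groth.Agent.Lib.Helper12.HzPairNoethA
import Groth.Agent.Lib.Helper12.HzPairQuot

/-!
# The henselization of a Noetherian pair is Noetherian (helper12)
-/

set_option autoImplicit false
set_option linter.unusedSectionVars false
universe u

namespace Groth.Agent.Lib.Helper12.HzPair

open TensorProduct
open Groth.Agent.Lib.Helper4.Hzn (flat_of_cofinal)

variable {A : Type u} [CommRing A] {I : Ideal A}

theorem locMap_flat {E₁ E₂ : Type u} [CommRing E₁] [Algebra A E₁] [CommRing E₂] [Algebra A E₂]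
    (φ : E₁ →ₐ[A] E₂) (hφ : (φ : E₁ →+* E₂).Flat) :
    (locMap (I := I) φ : Loc I E₁ →+* Loc I E₂).Flat := by
  algebraize [(φ : E₁ →+* E₂), (locMap (I := I) φ : Loc I E₁ →+* Loc I E₂)]
  have : IsScalarTower E₁ (Loc I E₁) (Loc I E₂) :=
    .of_algebraMap_eq fun x => (locMap_algebraMap (I := I) φ x).symm
  rw [RingHom.Flat, Module.flat_iff_of_isLocalization (S := Loc I E₁) (p := M I E₁)]
  exact Module.Flat.trans E₁ E₂ (Loc I E₂)

/-- Every étale neighbourhood is isomorphic to one in the small index type. -/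
theorem exists_index_equiv {E : Type u} [CommRing E] [Algebra A E] (h : IsNbhd I E) :
    ∃ i : Idx I, Nonempty (Loc I E ≃ₐ[A] i.G) := by
  have := h.etale
  obtain ⟨n, π, hπ, -⟩ := (inferInstance : Algebra.FinitePresentation A E).out
  let J : Ideal (MvPolynomial (Fin n) A) := RingHom.ker π.toRingHom
  let e : (MvPolynomial (Fin n) A ⧸ J) ≃ₐ[A] E := Ideal.quotientKerAlgEquivOfSurjective hπ
  have hN : IsNbhd I (MvPolynomial (Fin n) A ⧸ J) := h.of_equiv e.symm
  have hs1 := algHom_loc_subsingleton h (map_le_jacobson (I := I) (E := E))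
  have hs2 := algHom_loc_subsingleton hN
    (map_le_jacobson (I := I) (E := MvPolynomial (Fin n) A ⧸ J))
  exact ⟨⟨n, ⟨J, hN⟩⟩, ⟨AlgEquiv.ofAlgHom (locMap e.symm.toAlgHom) (locMap e.toAlgHom)
    (hs2.elim _ _) (hs1.elim _ _)⟩⟩

theorem exists_index_tensor_flat {E₁ E₂ : Type u} [CommRing E₁] [Algebra A E₁]
    [CommRing E₂] [Algebra A E₂] (h₁ : IsNbhd I E₁) (h₂ : IsNbhd I E₂) :
    ∃ (k : Idx I) (ψ₁ : Loc I E₁ →ₐ[A] k.G) (_ : Loc I E₂ →ₐ[A] k.G),
      (ψ₁ : Loc I E₁ →+* k.G).Flat := by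
  have := h₁.etale
  have := h₂.etale
  obtain ⟨k, ⟨θ⟩⟩ := exists_index_equiv (IsNbhd.tensor I h₁ h₂)
  refine ⟨k, θ.toAlgHom.comp (locMap Algebra.TensorProduct.includeLeft),
    θ.toAlgHom.comp (locMap Algebra.TensorProduct.includeRight), ?_⟩
  have hfl : ((Algebra.TensorProduct.includeLeft : E₁ →ₐ[A] E₁ ⊗[A] E₂) :
      E₁ →+* E₁ ⊗[A] E₂).Flat := by
    show (algebraMap E₁ (E₁ ⊗[A] E₂)).Flat
    rw [RingHom.flat_algebraMap_iff]
    infer_instance
  have h3 := locMap_flat (I := I) _ hfl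
  have h4 : (θ.toAlgHom : Loc I (E₁ ⊗[A] E₂) →+* k.G).Flat :=
    RingHom.Flat.of_bijective θ.bijective
  exact RingHom.Flat.comp h3 h4

variable (I)

theorem Hz.cofinal_flat (i j : Idx I) (h : i ≤ j) :
    ∃ k, ∃ (hjk : j ≤ k), (tr i k (h.trans hjk) : i.G →+* k.G).Flat := by
  obtain ⟨k, ψ₁₀, ψ₂₀, hflat⟩ := exists_index_tensor_flat i.isNbhd j.isNbhd
  let ψ₁ : i.G →ₐ[A] k.G := ψ₁₀
  let ψ₂ : j.G →ₐ[A] k.G := ψ₂₀
  refine ⟨k, ⟨ψ₂⟩, ?_⟩
  have : tr i k (h.trans ⟨ψ₂⟩) = ψ₁ := Subsingleton.elim _ _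
  rw [this]
  exact hflat

theorem Idx.isNoetherianRing [IsNoetherianRing A] (i : Idx I) : IsNoetherianRing i.G :=
  IsLocalization.isNoetherianRing (M I i.C) (Loc I i.C) inferInstance

theorem Hz.isNoetherianRing [IsNoetherianRing A] : IsNoetherianRing (Hz I) := by
  refine isNoetherianRing_directLimit_pair (fun i j h => tr (I := I) i j h) I
    (fun i => Idx.isNoetherianRing I i) (IsNoetherian.noetherian I) Hz.map_le_jacobson ?_
    (fun i => flat_of_cofinal (fun i j h => tr (I := I) i j h) i (Hz.cofinal_flat I i))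
  refine isNoetherianRing_of_surjective A _
    ((Ideal.Quotient.mk (I.map (algebraMap A (Hz I)))).comp (algebraMap A (Hz I))) ?_
  intro x
  obtain ⟨z, rfl⟩ := Ideal.Quotient.mk_surjective x
  obtain ⟨a, ha⟩ := Hz.exists_sub_mem I z
  refine ⟨a, ?_⟩
  rw [RingHom.comp_apply, eq_comm, Ideal.Quotient.eq]
  exact ha

theorem isNoetherianRing_of_isPairHenselization [IsNoetherianRing A] (B : Type u) [CommRing B]
    [Algebra A B] (hB : Hens2.IsPairHenselization A I B) : IsNoetherianRing B := by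
  obtain ⟨e⟩ := HensCRT.nonempty_algEquiv_of_isPairHenselization I (Hz I) B
    (Hz.isPairHenselization I) hB
  have := Hz.isNoetherianRing I
  exact isNoetherianRing_of_ringEquiv (Hz I) e.toRingEquiv

end Groth.Agent.Lib.Helper12.HzPair
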