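import Groth.Agent.Lib.Helper12.FF2
import Groth.Agent.Lib.Lead.LinLES.Biprod

/-! # Formal functions, part 7: more on `I^k M`, transition maps and naturality of `δ` -/

set_option autoImplicit false
universe u
open CategoryTheory CategoryTheory.Limits AlgebraicGeometry TopologicalSpace Opposite Abelian

namespace Groth.Agent.Lib.Helper12.H12FF
open Groth.Agent.Lib.Lead.LinLES

section Sheaves
variable {A : Type u} [CommRing A] {X : Scheme.{u}} [X.Over (Spec (CommRingCat.of A))]

instance (I : Ideal A) (k : ℕ) (M : X.Modules) : Epi (Formal.modPowπ I k M) :=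
  inferInstanceAs (Epi (cokernel.π (Formal.smulFamily (I ^ k) M)))

theorem smulMod_modPow_eq_zero (I : Ideal A) (k : ℕ) (M : X.Modules) (r : A) (hr : r ∈ I ^ k) :
    Formal.smulMod A (Formal.modPow I k M) r = 0 := by
  rw [← cancel_epi (Formal.modPowπ I k M), comp_zero, comp_smulMod]
  exact smulMod_modPowπ I k M r hr

/-- `M/I^k M ⟶ M/I^n M` for `n ≤ k` -/
noncomputable def modPowLe (I : Ideal A) (M : X.Modules) {n k : ℕ} (h : n ≤ k) :
    Formal.modPow I k M ⟶ Formal.modPow I n M :=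
  cokernel.desc _ (Formal.modPowπ I n M)
    (Formal.smulFamily_π_of_le (Ideal.pow_le_pow_right h) M)

theorem modPowπ_le (I : Ideal A) (M : X.Modules) {n k : ℕ} (h : n ≤ k) :
    Formal.modPowπ I k M ≫ modPowLe I M h = Formal.modPowπ I n M :=
  cokernel.π_desc _ _ _

theorem inclK_modPowπ_le (I : Ideal A) (M : X.Modules) {n k : ℕ} (h : n ≤ k) :
    inclK I k M ≫ Formal.modPowπ I n M = 0 := by
  rw [← modPowπ_le I M h, ← Category.assoc, inclK_modPowπ, zero_comp]

/-- `I^k M ⊆ I^n M` for `n ≤ k` -/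
noncomputable def leK (I : Ideal A) (M : X.Modules) {n k : ℕ} (h : n ≤ k) :
    Kk I k M ⟶ Kk I n M :=
  toK I n (inclK I k M) (inclK_modPowπ_le I M h)

theorem leK_inclK (I : Ideal A) (M : X.Modules) {n k : ℕ} (h : n ≤ k) :
    leK I M h ≫ inclK I n M = inclK I k M :=
  toK_inclK _ _ _ _

theorem mulK_leK (I : Ideal A) (M : X.Modules) (a : A) (ha : a ∈ I) (k : ℕ) :
    mulK I M a ha k ≫ leK I M (Nat.le_succ k) = Formal.smulMod A (Kk I k M) a := by
  rw [← cancel_mono (inclK I k M), Category.assoc, leK_inclK, mulK_inclK, comp_smulMod]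

theorem leK_comp (I : Ideal A) (M : X.Modules) {n k l : ℕ} (h1 : n ≤ k) (h2 : k ≤ l) :
    leK I M h2 ≫ leK I M h1 = leK I M (h1.trans h2) := by
  rw [← cancel_mono (inclK I n M), Category.assoc, leK_inclK, leK_inclK, leK_inclK]

theorem leK_refl (I : Ideal A) (M : X.Modules) (n : ℕ) : leK I M (le_refl n) = 𝟙 _ := by
  rw [← cancel_mono (inclK I n M), leK_inclK, Category.id_comp]

theorem comp_aux {Y Z W V : X.Modules} (a : Y ⟶ Z) (b : Z ⟶ W) (c : W ⟶ V) (d : Y ⟶ W)
    (e : Y ⟶ V) (h1 : a ≫ b = d) (h2 : d ≫ c = e) : a ≫ b ≫ c = e := by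
  rw [← Category.assoc, h1, h2]

theorem modPowπ_completion_map (I : Ideal A) (M : X.Modules) {n k : ℕ} (h : n ≤ k) :
    Formal.modPowπ I (k + 1) M ≫ (Formal.completion I M).map (homOfLE h).op =
      Formal.modPowπ I (n + 1) M := by
  induction k, h using Nat.le_induction with
  | base =>
    have : (homOfLE (le_refl n)).op = 𝟙 (op n) := Subsingleton.elim _ _
    rw [this, CategoryTheory.Functor.map_id]
    exact Category.comp_id _
  | succ k h ih =>
    have e : (homOfLE (Nat.le_succ_of_le h)).op =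
        (homOfLE (Nat.le_add_right k 1)).op ≫ (homOfLE h).op := Subsingleton.elim _ _
    rw [e, CategoryTheory.Functor.map_comp]
    have e2 : (Formal.completion I M).map (homOfLE (Nat.le_add_right k 1)).op =
        Formal.modPowTrans I (k + 1) M :=
      Functor.ofOpSequence_map_homOfLE_succ _ k
    rw [e2]
    have e3 : Formal.modPowπ I (k + 1 + 1) M ≫ Formal.modPowTrans I (k + 1) M =
        Formal.modPowπ I (k + 1) M := Formal.modPowπ_trans I (k + 1) M
    exact comp_aux _ _ _ _ _ e3 ih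

theorem completion_map_eq (I : Ideal A) (M : X.Modules) {n k : ℕ} (h : n ≤ k) :
    (Formal.completion I M).map (homOfLE h).op = modPowLe I M (Nat.succ_le_succ h) := by
  refine (cancel_epi (Formal.modPowπ I (k + 1) M)).mp ?_
  exact (modPowπ_completion_map I M h).trans (modPowπ_le I M (Nat.succ_le_succ h)).symm

/-- the morphism of short exact sequences for `n ≤ k` -/
noncomputable def sesKLe (I : Ideal A) (M : X.Modules) {n k : ℕ} (h : n ≤ k) :
    sesK I k M ⟶ sesK I n M where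
  τ₁ := leK I M h
  τ₂ := 𝟙 M
  τ₃ := modPowLe I M h
  comm₁₂ := by
    change leK I M h ≫ inclK I n M = inclK I k M ≫ 𝟙 M
    rw [leK_inclK, Category.comp_id]
  comm₂₃ := by
    change 𝟙 M ≫ Formal.modPowπ I n M = Formal.modPowπ I k M ≫ modPowLe I M h
    rw [modPowπ_le, Category.id_comp]

end Sheaves

section Coh
variable (A : Type u) [CommRing A] {X : Scheme.{u}} [X.Over (Spec (CommRingCat.of A))]

theorem HHlin_zero' {M N : X.Modules} (q : ℕ) (x : Coh.HH X M q) :
    Canon.HHlin A (0 : M ⟶ N) q x = 0 := by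
  change Sheaf.H.map ((Groth.Agent.Lib.Helper29.QCoh.toSheafAb X).map (0 : M ⟶ N)) q x = 0
  rw [CategoryTheory.Functor.map_zero]
  change ((Sheaf.functorH _ q).map (0 : Coh.toAb M ⟶ Coh.toAb N)).hom x = 0
  rw [CategoryTheory.Functor.map_zero]
  rfl

theorem HHlin_smulMod (M : X.Modules) (q : ℕ) (r : A) (x : Coh.HH X M q) :
    Canon.HHlin A (Formal.smulMod A M r) q x = r • x := rfl

/-- the image of a morphism of short complexes in abelian sheaves -/
noncomputable def abSMap {S₁ S₂ : ShortComplex X.Modules} (φ : S₁ ⟶ S₂) : abS S₁ ⟶ abS S₂ where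
  τ₁ := abMap φ.τ₁
  τ₂ := abMap φ.τ₂
  τ₃ := abMap φ.τ₃
  comm₁₂ := by
    change abMap φ.τ₁ ≫ abMap S₂.f = abMap S₁.f ≫ abMap φ.τ₂
    exact (Functor.map_comp _ _ _).symm.trans
      ((congrArg (fun ψ => abMap ψ) φ.comm₁₂).trans (Functor.map_comp _ _ _))
  comm₂₃ := by
    change abMap φ.τ₂ ≫ abMap S₂.g = abMap S₁.g ≫ abMap φ.τ₃
    exact (Functor.map_comp _ _ _).symm.trans
      ((congrArg (fun ψ => abMap ψ) φ.comm₂₃).trans (Functor.map_comp _ _ _))

/-- naturality of the connecting homomorphism -/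
theorem δlin_naturality {S₁ S₂ : ShortComplex X.Modules} (h₁ : S₁.ShortExact)
    (h₂ : S₂.ShortExact) (φ : S₁ ⟶ S₂) (q : ℕ) (x : Coh.HH X S₁.X₃ q) :
    δlin A S₂ h₂ q (Canon.HHlin A φ.τ₃ q x) = Canon.HHlin A φ.τ₁ (q + 1) (δlin A S₁ h₁ q x) := by
  rw [δlin_apply, δlin_apply, HHlin_apply, HHlin_apply]
  have h := ShortComplex.ShortExact.extClass_naturality (abS_shortExact S₁ h₁)
    (abS_shortExact S₂ h₂) (abSMap φ)
  change (eC S₁ h₁).comp (Ext.mk₀ (abMap φ.τ₁)) (add_zero 1) =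
    (Ext.mk₀ (abMap φ.τ₃)).comp (eC S₂ h₂) (zero_add 1) at h
  rw [Ext.comp_assoc_of_second_deg_zero, ← h, Ext.comp_assoc_of_third_deg_zero]

end Coh

end Groth.Agent.Lib.Helper12.H12FF
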