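import Groth.Agent.Lib.Helper12.FF9
import Groth.Prelude.Def_ega3

/-! # Formal functions, part 12: `⊕ H^p(X, m^k F)` is generated in bounded degree over the Rees algebra -/

set_option autoImplicit false
universe u
open CategoryTheory CategoryTheory.Limits AlgebraicGeometry TopologicalSpace Opposite

namespace Groth.Agent.Lib.Helper12.H12FF
open Groth.Agent.Lib.Lead.LinLES

section Sheaves
variable {A : Type u} [CommRing A] {X : Scheme.{u}} [X.Over (Spec (CommRingCat.of A))]

/-- `J M` for an ideal `J`: the abelian image of `⨁_{b ∈ J} M ⟶ M` -/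
noncomputable def KJ (J : Ideal A) (M : X.Modules) : X.Modules :=
  kernel (cokernel.π (Formal.smulFamily J M))

/-- `J M ⊆ M` -/
noncomputable def inclJ (J : Ideal A) (M : X.Modules) : KJ J M ⟶ M :=
  kernel.ι (cokernel.π (Formal.smulFamily J M))

instance (J : Ideal A) (M : X.Modules) : Mono (inclJ J M) :=
  inferInstanceAs (Mono (kernel.ι (cokernel.π (Formal.smulFamily J M))))

/-- `⨁_{b ∈ J} M ↠ J M` -/
noncomputable def liftJ (J : Ideal A) (M : X.Modules) : (∐ fun _ : ↥J => M) ⟶ KJ J M :=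
  Abelian.factorThruImage (Formal.smulFamily J M)

instance (J : Ideal A) (M : X.Modules) : Epi (liftJ J M) :=
  inferInstanceAs (Epi (Abelian.factorThruImage (Formal.smulFamily J M)))

theorem liftJ_inclJ (J : Ideal A) (M : X.Modules) :
    liftJ J M ≫ inclJ J M = Formal.smulFamily J M := Abelian.image.fac _

theorem smulMod_cokerπ (J : Ideal A) (M : X.Modules) (a : A) (ha : a ∈ J) :
    Formal.smulMod A M a ≫ cokernel.π (Formal.smulFamily J M) = 0 := by
  have h := ι_smulFamily J M ⟨a, ha⟩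
  rw [← h, Category.assoc, cokernel.condition, comp_zero]

theorem inclJ_smulMod_cokerπ (M : X.Modules) (a : A) (J J' : Ideal A)
    (h : ∀ b ∈ J, b * a ∈ J') :
    (inclJ J M ≫ Formal.smulMod A M a) ≫ cokernel.π (Formal.smulFamily J' M) = 0 := by
  rw [← cancel_epi (liftJ J M), comp_zero, ← Category.assoc, ← Category.assoc, liftJ_inclJ]
  apply Sigma.hom_ext
  intro b
  rw [comp_zero, ← Category.assoc, ← Category.assoc, ι_smulFamily, ← smulMod_mul]
  exact smulMod_cokerπ J' M _ (h b.1 b.2)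

open Classical in
/-- multiplication by `a` as a map `J M ⟶ J' M` (zero unless `a J ⊆ J'`) -/
noncomputable def mulJ (M : X.Modules) (a : A) (J J' : Ideal A) : KJ J M ⟶ KJ J' M :=
  if h : ∀ b ∈ J, b * a ∈ J' then
    kernel.lift _ (inclJ J M ≫ Formal.smulMod A M a) (inclJ_smulMod_cokerπ M a J J' h)
  else 0

theorem mulJ_inclJ (M : X.Modules) (a : A) (J J' : Ideal A) (h : ∀ b ∈ J, b * a ∈ J') :
    mulJ M a J J' ≫ inclJ J' M = inclJ J M ≫ Formal.smulMod A M a := by
  unfold mulJ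
  rw [dif_pos h]
  exact kernel.lift_ι _ _ _

theorem mulK_eq_mulJ (I : Ideal A) (M : X.Modules) (a : A) (ha : a ∈ I) (k : ℕ) :
    mulK I M a ha k = mulJ M a (I ^ k) (I ^ (k + 1)) := by
  have h : ∀ b ∈ I ^ k, b * a ∈ I ^ (k + 1) := fun b hb => by
    rw [pow_succ]; exact Ideal.mul_mem_mul hb ha
  have e1 := mulK_inclK I M a ha k
  have e2 := mulJ_inclJ M a (I ^ k) (I ^ (k + 1)) h
  exact (cancel_mono (inclK I (k + 1) M)).mp (e1.trans e2.symm)

/-- the comparison with the categorical image used by `CohIII.idealMul` -/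
noncomputable def idealMulIso (J : Ideal A) (M : X.Modules) : CohIII.idealMul J M ≅ KJ J M :=
  (Abelian.imageIsoImage (Formal.smulFamily J M)).symm

theorem idealMulIso_hom_inclJ (J : Ideal A) (M : X.Modules) :
    (idealMulIso J M).hom ≫ inclJ J M = CohIII.idealMulι J M := by
  have h := Abelian.imageIsoImage_hom_comp_image_ι (Formal.smulFamily J M)
  change (Abelian.imageIsoImage (Formal.smulFamily J M)).inv ≫
    kernel.ι (cokernel.π (Formal.smulFamily J M)) = Limits.image.ι (Formal.smulFamily J M)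
  rw [← h, Iso.inv_hom_id_assoc]

theorem mulMap_idealMulIso (I J : Ideal A) (M : X.Modules) (a : I) :
    CohIII.mulMap I J M a ≫ (idealMulIso (I * J) M).hom =
      (idealMulIso J M).hom ≫ mulJ M (a : A) J (I * J) := by
  have h : ∀ b ∈ J, b * (a : A) ∈ I * J := fun b hb => by
    exact Ideal.mul_mem_mul_rev a.2 hb
  rw [← cancel_mono (inclJ (I * J) M), Category.assoc, Category.assoc, idealMulIso_hom_inclJ,
    mulJ_inclJ M (a : A) J (I * J) h, ← Category.assoc, idealMulIso_hom_inclJ]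
  exact Limits.image.map_ι (CohIII.mulSq I J M a)

theorem mulJ_one (M : X.Modules) (J : Ideal A) : mulJ M (1 : A) J J = 𝟙 _ := by
  rw [← cancel_mono (inclJ J M), mulJ_inclJ M 1 J J (fun b hb => by rwa [mul_one]), smulMod_one,
    Category.comp_id, Category.id_comp]

theorem mulJ_comp (M : X.Modules) (a b : A) (J J' J'' : Ideal A)
    (h : ∀ c ∈ J, c * a ∈ J') (h' : ∀ c ∈ J', c * b ∈ J'') :
    mulJ M a J J' ≫ mulJ M b J' J'' = mulJ M (a * b) J J'' := by
  have h'' : ∀ c ∈ J, c * (a * b) ∈ J'' := fun c hc => by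
    rw [← mul_assoc]; exact h' _ (h c hc)
  rw [← cancel_mono (inclJ J'' M), Category.assoc, mulJ_inclJ M b J' J'' h', ← Category.assoc,
    mulJ_inclJ M a J J' h, Category.assoc, ← smulMod_mul, mulJ_inclJ M (a * b) J J'' h'']

end Sheaves

section Rees
variable (A : Type u) [CommRing A] [IsNoetherianRing A] (m : Ideal A)
  (X : Scheme.{u}) [X.Over (Spec (CommRingCat.of A))] [IsProper (X ↘ Spec (CommRingCat.of A))]
  (F : X.Modules) (hF : Coh.IsCoh F) (p : ℕ)

include hF in
theorem rees_gen :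
    ∃ k₀ : ℕ, ∀ k, k₀ ≤ k → ∀ r (J' : Ideal A), J' = m ^ (k + r) →
      ∀ y : Coh.HH X (KJ J' F) p,
        y ∈ (⨆ a : ↥(m ^ r),
          (Canon.HHlin A (mulJ F (a : A) (m ^ k) J') p).toAddMonoidHom.range) := by
  classical
  obtain ⟨n, a, hs⟩ := Submodule.fg_iff_exists_fin_generating_family.mp
    ((isNoetherianRing_iff_ideal_fg A).mp ‹_› m)
  have hI : m = Ideal.span (Set.range a) := hs.symm
  have ha : ∀ i, a i ∈ m := fun i => hI ▸ Ideal.subset_span ⟨i, rfl⟩
  obtain ⟨d, hd⟩ := key_stabilize A m X F hF p a hI ha (fun _ => ⊤) (fun _ _ => le_top)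
  refine ⟨d, fun k hk r => ?_⟩
  induction r with
  | zero =>
    intro J' hJ' y
    subst hJ'
    refine AddSubgroup.mem_iSup_of_mem ⟨1, by simp⟩ ⟨y, ?_⟩
    change Canon.HHlin A (mulJ F 1 (m ^ k) (m ^ k)) p y = y
    rw [mulJ_one F (m ^ k), HHlin_id]
  | succ r ih =>
    intro J' hJ' y
    subst hJ'
    have hy : y ∈ (⨆ i, (⊤ : Submodule A (Coh.HH X (Kk m (k + r) F) p)).map
        (Canon.HHlin A (mulK m F (a i) (ha i) (k + r)) p)) := by
      rw [← hd (k + r) (by omega)]; trivial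
    refine Submodule.iSup_induction _ (motive := fun y => y ∈ (⨆ a : ↥(m ^ (r + 1)),
      (Canon.HHlin A (mulJ F (a : A) (m ^ k) (m ^ (k + (r + 1)))) p).toAddMonoidHom.range)) hy
      ?_ ?_ ?_
    · rintro i _ ⟨x, -, rfl⟩
      have hx := ih (m ^ (k + r)) rfl x
      refine AddSubgroup.iSup_induction _ (C := fun x =>
        Canon.HHlin A (mulK m F (a i) (ha i) (k + r)) p x ∈ (⨆ a : ↥(m ^ (r + 1)),
        (Canon.HHlin A (mulJ F (a : A) (m ^ k) (m ^ (k + (r + 1)))) p).toAddMonoidHom.range)) hx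
        ?_ ?_ ?_
      · rintro b _ ⟨z, rfl⟩
        have hb1 : ∀ c ∈ m ^ k, c * (b : A) ∈ m ^ (k + r) := fun c hc => by
          rw [pow_add]; exact Ideal.mul_mem_mul hc b.2
        have hb2 : ∀ c ∈ m ^ (k + r), c * a i ∈ m ^ (k + r + 1) := fun c hc => by
          rw [pow_succ]; exact Ideal.mul_mem_mul hc (ha i)
        refine AddSubgroup.mem_iSup_of_mem ⟨(b : A) * a i, by
          rw [pow_succ]; exact Ideal.mul_mem_mul b.2 (ha i)⟩ ⟨z, ?_⟩
        change Canon.HHlin A (mulJ F ((b : A) * a i) (m ^ k) (m ^ (k + r + 1))) p z =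
          Canon.HHlin A (mulK m F (a i) (ha i) (k + r)) p
            (Canon.HHlin A (mulJ F (b : A) (m ^ k) (m ^ (k + r))) p z)
        have e := HHlin_comp (A := A) (mulJ F (b : A) (m ^ k) (m ^ (k + r)))
          (mulJ F (a i) (m ^ (k + r)) (m ^ (k + r + 1))) p z
        rw [mulJ_comp F (b : A) (a i) _ _ _ hb1 hb2] at e
        rw [mulK_eq_mulJ]
        exact e
      · rw [map_zero]; exact zero_mem _
      · intro x y hx hy; rw [map_add]; exact add_mem hx hy
    · exact zero_mem _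
    · intro x y hx hy; exact add_mem hx hy

include hF in
theorem rees_generation :
    ∃ k₀ : ℕ, ∀ k : ℕ, k₀ ≤ k → ∀ r : ℕ,
      (⨆ a : ↥(m ^ r), (CohIII.HmulMap (m ^ r) (m ^ k) F a p).range) = ⊤ := by
  obtain ⟨k₀, h⟩ := rees_gen A m X F hF p
  refine ⟨k₀, fun k hk r => ?_⟩
  rw [eq_top_iff]
  intro y _
  have hy := h k hk r (m ^ r * m ^ k) (by rw [← pow_add, add_comm])
    (Canon.HHlin A (idealMulIso (m ^ r * m ^ k) F).hom p y)
  have hyy : y = Canon.HHlin A (idealMulIso (m ^ r * m ^ k) F).inv p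
      (Canon.HHlin A (idealMulIso (m ^ r * m ^ k) F).hom p y) := by
    rw [← HHlin_comp, Iso.hom_inv_id, HHlin_id]
  rw [hyy]
  refine AddSubgroup.iSup_induction _ (C := fun z =>
    Canon.HHlin A (idealMulIso (m ^ r * m ^ k) F).inv p z ∈
      ⨆ a : ↥(m ^ r), (CohIII.HmulMap (m ^ r) (m ^ k) F a p).range) hy ?_ ?_ ?_
  · rintro b _ ⟨w, rfl⟩
    refine AddSubgroup.mem_iSup_of_mem b ⟨Canon.HHlin A (idealMulIso (m ^ k) F).inv p w, ?_⟩
    have e : (idealMulIso (m ^ k) F).inv ≫ CohIII.mulMap (m ^ r) (m ^ k) F b =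
        mulJ F (b : A) (m ^ k) (m ^ r * m ^ k) ≫ (idealMulIso (m ^ r * m ^ k) F).inv := by
      rw [Iso.inv_comp_eq, ← Category.assoc, Iso.eq_comp_inv]
      exact mulMap_idealMulIso (m ^ r) (m ^ k) F b
    change Canon.HHlin A (CohIII.mulMap (m ^ r) (m ^ k) F b) p
        (Canon.HHlin A (idealMulIso (m ^ k) F).inv p w) =
      Canon.HHlin A (idealMulIso (m ^ r * m ^ k) F).inv p
        (Canon.HHlin A (mulJ F (b : A) (m ^ k) (m ^ r * m ^ k)) p w)
    rw [← HHlin_comp, ← HHlin_comp, e]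
  · rw [map_zero]; exact zero_mem _
  · intro x y hx hy; rw [map_add]; exact add_mem hx hy

end Rees

end Groth.Agent.Lib.Helper12.H12FF
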