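import Mathlib

/-! # Towers of modules: the kernel of the projection from the limit (Stacks 09B8) -/

set_option autoImplicit false
universe v w

namespace Groth.Agent.Lib.Helper12.H12LT

open Submodule

/-- Compatible sequences through a given element, for towers of types with surjective maps. -/
theorem exists_compatible : ∀ (k : ℕ) {M : ℕ → Type v} (t : ∀ k, M (k + 1) → M k)
    (_ : ∀ k, Function.Surjective (t k)) (y : M k),
    ∃ x : ∀ k, M k, (∀ k, t k (x (k + 1)) = x k) ∧ x k = y
  | 0, M, t, hs, y => by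
      choose g hg using hs
      refine ⟨fun k => Nat.rec (motive := fun k => M k) y (fun k xk => g k xk) k, fun k => ?_, rfl⟩
      exact hg k _
  | k + 1, M, t, hs, y => by
      obtain ⟨x', hx', hy⟩ := exists_compatible k (M := fun j => M (j + 1)) (fun j => t (j + 1))
        (fun j => hs (j + 1)) y
      refine ⟨fun j => match j with | 0 => t 0 (x' 0) | j + 1 => x' j, ?_, hy⟩
      intro j
      cases j with
      | zero => rfl
      | succ j => exact hx' j

variable {A : Type w} [CommRing A] (I : Ideal A)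
variable {M : ℕ → Type v} [∀ k, AddCommGroup (M k)] [∀ k, Module A (M k)]
  (t : ∀ k, M (k + 1) →ₗ[A] M k)

/-- compatible sequences of a tower of modules -/
def towerLim : Submodule A (∀ k, M k) where
  carrier := {x | ∀ k, t k (x (k + 1)) = x k}
  add_mem' := by
    intro x y hx hy k
    simp only [Set.mem_ofPred_eq] at hx hy
    simp [hx k, hy k]
  zero_mem' := by
    intro k
    simp
  smul_mem' := by
    intro a x hx k
    simp only [Set.mem_ofPred_eq] at hx
    simp [hx k]

/-- the projections -/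
def pr (k : ℕ) : towerLim t →ₗ[A] M k := (LinearMap.proj k).comp (towerLim t).subtype

lemma pr_apply (k : ℕ) (x : towerLim t) : pr t k x = x.1 k := rfl

lemma t_pr (k : ℕ) (x : towerLim t) : t k (pr t (k + 1) x) = pr t k x := x.2 k

lemma pr_surjective (hs : ∀ k, Function.Surjective (t k)) (k : ℕ) :
    Function.Surjective (pr t k) := by
  intro y
  obtain ⟨x, hx, hy⟩ := exists_compatible k (fun k => (t k : M (k + 1) → M k)) hs y
  exact ⟨⟨x, hx⟩, hy⟩

lemma ext_pr {x y : towerLim t} (h : ∀ k, pr t k x = pr t k y) : x = y :=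
  Subtype.ext (funext h)

lemma pr_eq_zero_of_le (n : ℕ) (x : towerLim t) (hx : pr t n x = 0) :
    ∀ d i, i + d = n → pr t i x = 0 := by
  intro d
  induction d with
  | zero => intro i hi; simp only [Nat.add_zero] at hi; subst hi; exact hx
  | succ d ih =>
    intro i hi
    have h1 : pr t (i + 1) x = 0 := ih (i + 1) (by omega)
    rw [← t_pr, h1, map_zero]

variable (hkill : ∀ k, ∀ a ∈ I ^ (k + 1), ∀ y : M k, a • y = 0)

include hkill in
lemma smul_top_le_ker_pr (k : ℕ) :
    (I ^ (k + 1) • ⊤ : Submodule A (towerLim t)) ≤ LinearMap.ker (pr t k) := by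
  rw [Submodule.smul_le]
  intro a ha x _
  rw [LinearMap.mem_ker, map_smul]
  exact hkill k a ha _

/-- the map from the quotient by `I^(k+1)` to the `k`-th term -/
noncomputable def φ (k : ℕ) : (towerLim t ⧸ (I ^ (k + 1) • ⊤ : Submodule A (towerLim t))) →ₗ[A] M k :=
  Submodule.liftQ _ (pr t k) (smul_top_le_ker_pr I t hkill k)

lemma φ_mk (k : ℕ) (x : towerLim t) :
    φ I t hkill k (Submodule.mkQ _ x) = pr t k x := by
  unfold φ
  simp

/-- components of the retraction -/
noncomputable def ψc (k : ℕ) : AdicCompletion I (towerLim t) →ₗ[A] M k :=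
  (φ I t hkill k).comp (AdicCompletion.eval I (towerLim t) (k + 1))

lemma ψc_mk (k : ℕ) (f : AdicCompletion.AdicCauchySequence I (towerLim t)) :
    ψc I t hkill k (AdicCompletion.mk I _ f) = pr t k (f (k + 1)) := by
  unfold ψc
  rw [LinearMap.comp_apply, AdicCompletion.eval_apply]
  exact φ_mk I t hkill k _

/-- the retraction `AdicCompletion I N → N` for `N` the limit of the tower -/
noncomputable def Ψ : AdicCompletion I (towerLim t) →ₗ[A] towerLim t :=
  LinearMap.codRestrict (towerLim t) (LinearMap.pi fun k => ψc I t hkill k) (by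
    intro z k
    obtain ⟨f, rfl⟩ := AdicCompletion.mk_surjective I _ z
    simp only [LinearMap.pi_apply]
    rw [ψc_mk, ψc_mk, t_pr]
    have h1 : f (k + 1) ≡ f (k + 2) [SMOD (I ^ (k + 1) • ⊤ : Submodule A (towerLim t))] :=
      f.2 (Nat.le_succ (k + 1))
    have h2 : f (k + 1) - f (k + 2) ∈ LinearMap.ker (pr t k) :=
      smul_top_le_ker_pr I t hkill k ((SModEq.sub_mem).1 h1)
    rw [LinearMap.mem_ker, map_sub, sub_eq_zero] at h2
    exact h2.symm)

lemma pr_Ψ_mk (k : ℕ) (f : AdicCompletion.AdicCauchySequence I (towerLim t)) :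
    pr t k (Ψ I t hkill (AdicCompletion.mk I _ f)) = pr t k (f (k + 1)) := by
  rw [← ψc_mk I t hkill]
  rfl

include hkill in
/-- **Stacks 09B8**: the kernel of `lim M_k → M_n` is `I^(n+1) (lim M_k)`. -/
theorem mem_smul_top_of_pr_eq_zero (hI : I.FG) (hs : ∀ k, Function.Surjective (t k))
    (hker : ∀ k, LinearMap.ker (t k) ≤ (I ^ (k + 1) • ⊤ : Submodule A (M (k + 1))))
    (n : ℕ) (x : towerLim t) (hx : pr t n x = 0) :
    x ∈ (I ^ (n + 1) • ⊤ : Submodule A (towerLim t)) := by
  -- the step
  have step : ∀ (i : ℕ) (w : towerLim t), ∃ w' : towerLim t, pr t (n + i) w = pr t (n + i) x →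
      (w' - w ∈ (I ^ (n + 1 + i) • ⊤ : Submodule A (towerLim t)) ∧
        pr t (n + 1 + i) w' = pr t (n + 1 + i) x) := by
    intro i w
    by_cases hw : pr t (n + i) w = pr t (n + i) x
    · have e : n + 1 + i = (n + i) + 1 := by omega
      have hd : pr t (n + 1 + i) x - pr t (n + 1 + i) w ∈
          (I ^ (n + 1 + i) • ⊤ : Submodule A (M (n + 1 + i))) := by
        rw [e]
        apply hker (n + i)
        rw [LinearMap.mem_ker, map_sub, t_pr, t_pr, hw, sub_self]
      have hmap : Submodule.map (pr t (n + 1 + i)) (I ^ (n + 1 + i) • ⊤ : Submodule A (towerLim t)) =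
          (I ^ (n + 1 + i) • ⊤ : Submodule A (M (n + 1 + i))) := by
        rw [Submodule.map_smul'', Submodule.map_top, LinearMap.range_eq_top.2 (pr_surjective t hs _)]
      rw [← hmap] at hd
      obtain ⟨δ, hδ, hδ2⟩ := hd
      refine ⟨w + δ, fun _ => ⟨by simpa using hδ, ?_⟩⟩
      rw [map_add, hδ2]
      abel
    · exact ⟨w, fun h => absurd h hw⟩
  choose f hf using step
  let ξ : ℕ → towerLim t := fun i => Nat.rec (motive := fun _ => towerLim t) 0 (fun i w => f i w) i
  have hξ0 : ξ 0 = 0 := rfl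
  have hξs : ∀ i, ξ (i + 1) = f i (ξ i) := fun i => rfl
  have hinv : ∀ i, pr t (n + i) (ξ i) = pr t (n + i) x := by
    intro i
    induction i with
    | zero => rw [hξ0, map_zero]; exact hx.symm
    | succ i ih =>
      have := (hf i (ξ i) ih).2
      rw [hξs]
      have e : n + (i + 1) = n + 1 + i := by omega
      rw [e]
      exact this
  have hdiff : ∀ i, ξ (i + 1) - ξ i ∈ (I ^ (n + 1 + i) • ⊤ : Submodule A (towerLim t)) := by
    intro i
    rw [hξs]
    exact (hf i (ξ i) (hinv i)).1
  let ζ : ℕ → towerLim t := fun j => ξ (j - (n + 1))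
  have hζ : ∀ j, ζ j ≡ ζ (j + 1) [SMOD (I ^ j • ⊤ : Submodule A (towerLim t))] := by
    intro j
    by_cases hj : j < n + 1
    · have e1 : j - (n + 1) = 0 := by omega
      have e2 : j + 1 - (n + 1) = 0 := by omega
      show ξ (j - (n + 1)) ≡ ξ (j + 1 - (n + 1)) [SMOD _]
      rw [e1, e2]
    · obtain ⟨i, rfl⟩ : ∃ i, j = n + 1 + i := ⟨j - (n + 1), by omega⟩
      have e1 : n + 1 + i - (n + 1) = i := by omega
      have e2 : n + 1 + i + 1 - (n + 1) = i + 1 := by omega
      show ξ (n + 1 + i - (n + 1)) ≡ ξ (n + 1 + i + 1 - (n + 1)) [SMOD _]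
      rw [e1, e2]
      exact (SModEq.sub_mem.2 (hdiff i)).symm
  let c : AdicCompletion.AdicCauchySequence I (towerLim t) :=
    AdicCompletion.AdicCauchySequence.mk I _ ζ hζ
  let z : AdicCompletion I (towerLim t) := AdicCompletion.mk I _ c
  have hz1 : z ∈ (I ^ (n + 1) • ⊤ : Submodule A (AdicCompletion I (towerLim t))) := by
    rw [AdicCompletion.pow_smul_top_eq_ker_eval hI, LinearMap.mem_ker, AdicCompletion.eval_apply]
    show Submodule.mkQ _ (ζ (n + 1)) = 0
    have : ζ (n + 1) = 0 := by
      show ξ (n + 1 - (n + 1)) = 0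
      rw [Nat.sub_self]
      exact hξ0
    rw [this, map_zero]
  have hz2 : Ψ I t hkill z = x := by
    apply ext_pr
    intro k
    rw [pr_Ψ_mk]
    show pr t k (ξ (k + 1 - (n + 1))) = pr t k x
    by_cases hk : k ≤ n
    · have e1 : k + 1 - (n + 1) = 0 := by omega
      rw [e1, hξ0, map_zero]
      exact (pr_eq_zero_of_le t n x hx (n - k) k (by omega)).symm
    · obtain ⟨i, rfl⟩ : ∃ i, k = n + i := ⟨k - n, by omega⟩
      have e1 : n + i + 1 - (n + 1) = i := by omega
      rw [e1]
      exact hinv i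
  rw [← hz2]
  have h3 : Ψ I t hkill z ∈ Submodule.map (Ψ I t hkill)
      (I ^ (n + 1) • ⊤ : Submodule A (AdicCompletion I (towerLim t))) := ⟨z, hz1, rfl⟩
  rw [Submodule.map_smul''] at h3
  exact Submodule.smul_mono le_rfl le_top h3

end Groth.Agent.Lib.Helper12.H12LT
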