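import Mathlib
import Groth.Prelude.Def_Formal2
import Groth.Agent.Lib.Helper17.SG9
import Groth.Agent.Lib.Helper12.LT1
import Groth.Agent.Lib.Helper12.FF12

/-! # The limit of a quasi-coherent formal system: truncations (Stacks 087W (4)) -/

set_option autoImplicit false
universe u

open CategoryTheory CategoryTheory.Limits AlgebraicGeometry Opposite

namespace Groth.Agent.Lib.Helper12.H12LT

open Groth.Agent.Lib.Helper12.H12FF
open Groth.Agent.Lib.Helper17.SG1 Groth.Agent.Lib.Helper17.SG2 Groth.Agent.Lib.Helper17.SG7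
open Groth.Agent.Lib.Helper17.SG8 Groth.Agent.Lib.Helper17.SG9 Groth.Agent.Lib.Helper17.RL12

variable {A : Type u} [CommRing A] {X : Scheme.{u}} [X.Over (Spec (CommRingCat.of A))]

/-- the `A`-module structure on `Hom(P, M)` -/
@[instance_reducible]
noncomputable def homModule (P M : X.Modules) : Module A (P ⟶ M) where
  smul a σ := σ ≫ Formal.smulMod A M a
  one_smul σ := by
    show σ ≫ Formal.smulMod A M 1 = σ
    rw [smulMod_one, Category.comp_id]
  mul_smul a b σ := by
    show σ ≫ Formal.smulMod A M (a * b) = (σ ≫ Formal.smulMod A M b) ≫ Formal.smulMod A M a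
    rw [mul_comm, smulMod_mul, Category.assoc]
  smul_zero a := by
    show (0 : P ⟶ M) ≫ Formal.smulMod A M a = 0
    rw [zero_comp]
  smul_add a σ τ := by
    show (σ + τ) ≫ Formal.smulMod A M a = σ ≫ Formal.smulMod A M a + τ ≫ Formal.smulMod A M a
    rw [Preadditive.add_comp]
  add_smul a b σ := by
    show σ ≫ Formal.smulMod A M (a + b) = σ ≫ Formal.smulMod A M a + σ ≫ Formal.smulMod A M b
    rw [smulMod_add, Preadditive.comp_add]
  zero_smul σ := by
    show σ ≫ Formal.smulMod A M 0 = 0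
    rw [smulMod_zero, comp_zero]

attribute [local instance] homModule

lemma hom_smul_def {P M : X.Modules} (a : A) (σ : P ⟶ M) :
    a • σ = σ ≫ Formal.smulMod A M a := rfl

/-- post-composition as a linear map -/
noncomputable def postLin (P : X.Modules) {M N : X.Modules} (f : M ⟶ N) :
    (P ⟶ M) →ₗ[A] (P ⟶ N) where
  toFun σ := σ ≫ f
  map_add' σ τ := by
    show (σ + τ) ≫ f = σ ≫ f + τ ≫ f
    rw [Preadditive.add_comp]
  map_smul' a σ := by
    show (σ ≫ Formal.smulMod A M a) ≫ f = (σ ≫ f) ≫ Formal.smulMod A N a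
    rw [Category.assoc, Category.assoc, comp_smulMod]

lemma postLin_apply (P : X.Modules) {M N : X.Modules} (f : M ⟶ N) (σ : P ⟶ M) :
    postLin (A := A) P f σ = σ ≫ f := rfl

lemma smulMod_comp_eq_zero_of_mem_span {M T : X.Modules} (s : Set A) (g : M ⟶ T)
    (h : ∀ j ∈ s, Formal.smulMod A M j ≫ g = 0) :
    ∀ a ∈ Ideal.span s, Formal.smulMod A M a ≫ g = 0 := by
  intro a ha
  induction ha using Submodule.span_induction with
  | mem x hx => exact h x hx
  | zero => rw [smulMod_zero, zero_comp]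
  | add x y _ _ hx hy => rw [smulMod_add, Preadditive.add_comp, hx, hy, add_zero]
  | smul c x _ hx =>
    rw [smul_eq_mul, smulMod_mul, Category.assoc, hx, comp_zero]

lemma isQuasicoherent_of_iso {M N : X.Modules} (e : M ≅ N) [hM : M.IsQuasicoherent] :
    N.IsQuasicoherent :=
  (SheafOfModules.isQuasicoherent X.ringCatSheaf).prop_of_iso e hM

instance isQuasicoherent_sigma {ι : Type u} (f : ι → X.Modules) [∀ i, (f i).IsQuasicoherent] :
    (∐ f).IsQuasicoherent :=
  Groth.Agent.Lib.Helper29.QCoh.isQuasicoherent_colimit (Discrete.functor f)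
    (fun j => inferInstanceAs (f j.as).IsQuasicoherent)

lemma isQuasicoherent_biproduct {r : ℕ} (f : Fin r → X.Modules)
    [∀ i, (f i).IsQuasicoherent] : (⨁ f).IsQuasicoherent := by
  haveI : ∀ i : ULift.{u} (Fin r), ((f ∘ (Equiv.ulift : ULift.{u} (Fin r) ≃ Fin r)) i).IsQuasicoherent :=
    fun i => inferInstanceAs (f i.down).IsQuasicoherent
  haveI : (∐ (f ∘ (Equiv.ulift : ULift.{u} (Fin r) ≃ Fin r))).IsQuasicoherent :=
    isQuasicoherent_sigma _
  exact isQuasicoherent_of_iso
    ((Sigma.reindex (Equiv.ulift : ULift.{u} (Fin r) ≃ Fin r) f) ≪≫ (biproduct.isoCoproduct f).symm)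

/-- (F2): a map from `j_! O_V`, `V` affine, to a quasi-coherent `M` which dies in `M/JM`
is a combination of multiples by elements of `J`. -/
lemma mem_smul_top_of_comp_cokernelπ_eq_zero (V : X.Opens) (hV : IsAffineOpen V) (J : Ideal A)
    (hJ : J.FG) (M : X.Modules) [M.IsQuasicoherent] (σ : (schemeGens X).G V ⟶ M)
    (hσ : σ ≫ cokernel.π (Formal.smulFamily J M) = 0) :
    σ ∈ (J • ⊤ : Submodule A ((schemeGens X).G V ⟶ M)) := by
  obtain ⟨r, c, hs⟩ := (Submodule.fg_iff_exists_fin_generating_family).1 hJ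
  have hsJ : ∀ j : Fin r, c j ∈ J := fun j => hs ▸ Ideal.subset_span ⟨j, rfl⟩
  obtain ⟨Φ, hΦ⟩ : ∃ Φ : (⨁ fun _ : Fin r => M) ⟶ M, ∀ j : Fin r,
      biproduct.ι (fun _ : Fin r => M) j ≫ Φ = Formal.smulMod A M (c j) :=
    ⟨biproduct.desc fun j : Fin r => Formal.smulMod A M (c j), fun j => biproduct.ι_desc _ _⟩
  have hzero : Φ ≫ cokernel.π (Formal.smulFamily J M) = 0 := by
    apply biproduct.hom_ext'
    intro j
    rw [comp_zero, ← Category.assoc, hΦ]
    exact smulMod_cokerπ J M _ (hsJ j)
  have hfam : ∀ {T : X.Modules} (g : M ⟶ T), Φ ≫ g = 0 → Formal.smulFamily J M ≫ g = 0 := by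
    intro T g hg
    apply Sigma.hom_ext
    intro a
    rw [comp_zero, ← Category.assoc, ι_smulFamily]
    apply smulMod_comp_eq_zero_of_mem_span (Set.range c) g _ a (hs ▸ a.2)
    rintro _ ⟨j, rfl⟩
    have := congrArg (fun x => biproduct.ι (fun _ : Fin r => M) j ≫ x) hg
    simp only [comp_zero] at this
    rw [← Category.assoc, hΦ] at this
    exact this
  have hcolim : IsColimit (CokernelCofork.ofπ (cokernel.π (Formal.smulFamily J M)) hzero) :=
    CokernelCofork.IsColimit.ofπ _ _
      (fun g hg => cokernel.desc _ g (hfam g hg))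
      (fun g hg => cokernel.π_desc _ _ _)
      (fun g hg m hm => by
        rw [← cancel_epi (cokernel.π (Formal.smulFamily J M)), hm, cokernel.π_desc])
  have hS : (ShortComplex.mk Φ (cokernel.π (Formal.smulFamily J M)) hzero).Exact :=
    ShortComplex.exact_of_g_is_cokernel _ hcolim
  haveI : Epi (kernel.lift (cokernel.π (Formal.smulFamily J M)) Φ hzero) :=
    (ShortComplex.exact_iff_epi_kernel_lift _).1 hS
  haveI : (⨁ fun _ : Fin r => M).IsQuasicoherent := isQuasicoherent_biproduct _
  haveI : (cokernel (Formal.smulFamily J M)).IsQuasicoherent := inferInstance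
  haveI : (kernel (cokernel.π (Formal.smulFamily J M))).IsQuasicoherent :=
    Groth.Agent.Lib.Helper29.QCoh.isQuasicoherent_kernel (cokernel.π (Formal.smulFamily J M))
  obtain ⟨ρ, hρ⟩ : ∃ ρ : (schemeGens X).G V ⟶ (⨁ fun _ : Fin r => M),
      ρ ≫ kernel.lift (cokernel.π (Formal.smulFamily J M)) Φ hzero =
        kernel.lift (cokernel.π (Formal.smulFamily J M)) σ hσ :=
    exists_lift_of_epi X V hV (kernel.lift (cokernel.π (Formal.smulFamily J M)) Φ hzero)
      (kernel.lift (cokernel.π (Formal.smulFamily J M)) σ hσ)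
  have hρ2 : ρ ≫ Φ = σ := by
    have := congrArg (fun x => x ≫ kernel.ι (cokernel.π (Formal.smulFamily J M))) hρ
    simpa using this
  have h := biproduct.total (f := fun _ : Fin r => M)
  have hρ3 := congrArg (fun x => (ρ ≫ x) ≫ Φ) h
  simp only [Category.comp_id, Category.id_comp, Preadditive.comp_sum, Preadditive.sum_comp, Category.assoc, hΦ]
    at hρ3
  rw [← hρ2, ← hρ3]
  apply Submodule.sum_mem
  intro j _
  have e : ρ ≫ biproduct.π (fun _ : Fin r => M) j ≫ Formal.smulMod A M (c j) =
      (c j) • (ρ ≫ biproduct.π (fun _ : Fin r => M) j) := by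
    rw [hom_smul_def, Category.assoc]
  rw [e]
  exact Submodule.smul_mem_smul (hsJ j) Submodule.mem_top

end Groth.Agent.Lib.Helper12.H12LT
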