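import Mathlib
import Groth.Prelude.Def_Formal2
import Groth.Agent.Lib.Helper9.FormalBase
import Groth.Agent.Lib.Lead.FormalSys.Killed
import Groth.Agent.Lib.Helper12.FF7
import Groth.Agent.Lib.Helper12.LT2
import Groth.Agent.Lib.Helper17.SG9

/-! # Completion systems: uniqueness, coherence, restriction to opens -/

set_option autoImplicit false
universe u

open CategoryTheory CategoryTheory.Limits AlgebraicGeometry Opposite

namespace Groth.Agent.Lib.Helper12.H12AZ

open Groth.Agent.Lib.Helper12.H12FF Groth.Agent.Lib.Lead.FormalSys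

section one

variable {A : Type u} [CommRing A] {X : Scheme.{u}} [X.Over (Spec (CommRingCat.of A))]

/-- (P1) a system of quotients `M → Q_n` by `I^(n+1)` compatible with the transition maps is the
completion system of `M`. -/
theorem nonempty_completion_iso_of_quot (I : Ideal A) (M : X.Modules) (Q : ℕᵒᵖ ⥤ X.Modules)
    (p : ∀ n : ℕ, M ⟶ Q.obj (op n))
    (hp : ∀ n : ℕ, p (n + 1) ≫ Q.map (homOfLE (n.le_add_right 1)).op = p n)
    (hq : ∀ n, IsModQuot (I ^ (n + 1)) (p n)) :
    Nonempty (Formal.completion I M ≅ Q) := by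
  have hz : ∀ n, Formal.smulFamily (I ^ (n + 1)) M ≫ p n = 0 := fun n =>
    (smulFamily_comp_eq_zero_iff _ _).2 (hq n).zero
  let app : ∀ n : ℕ, (Formal.completion I M).obj (op n) ⟶ Q.obj (op n) :=
    fun n => cokernel.desc (Formal.smulFamily (I ^ (n + 1)) M) (p n) (hz n)
  have happ : ∀ n, IsIso (app n) := fun n => (hq n).isIso_desc
  have hnat : ∀ n : ℕ, Formal.modPowTrans I (n + 1) M ≫
      cokernel.desc (Formal.smulFamily (I ^ (n + 1)) M) (p n) (hz n) =
      cokernel.desc (Formal.smulFamily (I ^ (n + 1 + 1)) M) (p (n + 1)) (hz (n + 1)) ≫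
        Q.map (homOfLE (n.le_add_right 1)).op := by
    intro n
    have e1 : Formal.modPowπ I (n + 1) M ≫
        cokernel.desc (Formal.smulFamily (I ^ (n + 1)) M) (p n) (hz n) = p n :=
      cokernel.π_desc _ _ _
    have e2 : Formal.modPowπ I (n + 1 + 1) M ≫
        cokernel.desc (Formal.smulFamily (I ^ (n + 1 + 1)) M) (p (n + 1)) (hz (n + 1)) =
        p (n + 1) :=
      cokernel.π_desc _ _ _
    rw [← cancel_epi (Formal.modPowπ I (n + 1 + 1) M)]
    rw [← Category.assoc, Formal.modPowπ_trans, e1]
    exact ((Category.assoc _ _ _).symm.trans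
      ((congrArg (fun x => x ≫ Q.map (homOfLE (n.le_add_right 1)).op) e2).trans (hp n))).symm
  let φ : Formal.completion I M ⟶ Q := NatTrans.ofOpSequence app (by
    intro n
    have e : (Formal.completion I M).map (homOfLE (n.le_add_right 1)).op =
        Formal.modPowTrans I (n + 1) M := by
      unfold Formal.completion
      rw [Functor.ofOpSequence_map_homOfLE_succ]
    rw [e]
    exact hnat n)
  haveI : ∀ j : ℕᵒᵖ, IsIso (φ.app j) := fun j => happ j.unop
  haveI : IsIso φ := NatIso.isIso_of_isIso_app φ
  exact ⟨asIso φ⟩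

lemma isModQuot_cokernelπ (J : Ideal A) (M : X.Modules) :
    IsModQuot J (cokernel.π (Formal.smulFamily J M)) := by
  refine ⟨inferInstance, (smulFamily_comp_eq_zero_iff _ _).1 (cokernel.condition _), ?_⟩
  intro T f hf
  exact ⟨cokernel.desc _ f ((smulFamily_comp_eq_zero_iff _ _).2 hf), cokernel.π_desc _ _ _⟩

lemma isModQuot_modPowπ (I : Ideal A) (n : ℕ) (M : X.Modules) :
    IsModQuot (I ^ n) (Formal.modPowπ I n M) := isModQuot_cokernelπ _ _

lemma IsModQuot.comp_iso {J : Ideal A} {P Q Q' : X.Modules} {g : P ⟶ Q} (hg : IsModQuot J g)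
    (e : Q ⟶ Q') [IsIso e] : IsModQuot J (g ≫ e) := by
  haveI := hg.epi
  refine ⟨epi_comp _ _, ?_, ?_⟩
  · intro a ha
    rw [← Category.assoc, hg.zero a ha, zero_comp]
  · intro T f hf
    obtain ⟨f', hf'⟩ := hg.fac f hf
    exact ⟨inv e ≫ f', by rw [Category.assoc, IsIso.hom_inv_id_assoc, hf']⟩

/-- the transition maps of the completion system are quotients -/
lemma isModQuot_modPowTrans (I : Ideal A) (n : ℕ) (M : X.Modules) :
    IsModQuot (I ^ n) (Formal.modPowTrans I n M) := by
  haveI : Epi (Formal.modPowTrans I n M) :=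
    epi_of_epi_fac (Formal.modPowπ_trans I n M)
  refine ⟨inferInstance, ?_, ?_⟩
  · intro a ha
    rw [← comp_smulMod, smulMod_modPow_eq_zero I n M a ha, comp_zero]
  · intro T f hf
    have h1 : ∀ a ∈ I ^ n, Formal.smulMod A M a ≫ (Formal.modPowπ I (n + 1) M ≫ f) = 0 := by
      intro a ha
      rw [← Category.assoc, ← comp_smulMod, Category.assoc, hf a ha, comp_zero]
    obtain ⟨f', hf'⟩ := (isModQuot_modPowπ I n M).fac _ h1
    refine ⟨f', ?_⟩
    rw [← cancel_epi (Formal.modPowπ I (n + 1) M), ← Category.assoc, Formal.modPowπ_trans, hf']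

/-- (P2) the completion system of a coherent module is a coherent formal module -/
theorem isCohFormal_completion (I : Ideal A) (M : X.Modules) (hM : Coh.IsCoh M) :
    Formal.IsCohFormal I (Formal.completion I M) := by
  haveI : M.IsQuasicoherent := hM.1
  haveI : M.IsFiniteType := hM.2
  refine ⟨fun n => ?_, fun n => ?_, fun n => ?_⟩
  · show Coh.IsCoh (Formal.modPow I (n + 1) M)
    haveI : (Formal.modPow I (n + 1) M).IsQuasicoherent :=
      inferInstanceAs (cokernel (Formal.smulFamily (I ^ (n + 1)) M)).IsQuasicoherent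
    exact ⟨inferInstance, Groth.Agent.Lib.Helper29.QCoh.isFiniteType_of_epi
      (Formal.modPowπ I (n + 1) M)⟩
  · intro a ha
    exact smulMod_modPow_eq_zero I (n + 1) M a ha
  · have e : (Formal.completion I M).map (homOfLE (Nat.le_succ n)).op =
        Formal.modPowTrans I (n + 1) M := by
      unfold Formal.completion
      exact Functor.ofOpSequence_map_homOfLE_succ _ n
    have hq := isModQuot_modPowTrans I (n + 1) M
    rw [← e] at hq
    exact ⟨(smulFamily_comp_eq_zero_iff _ _).2 hq.zero, hq.isIso_desc⟩

/-- completion is invariant under isomorphism -/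
theorem nonempty_completion_iso_of_iso (I : Ideal A) {M N : X.Modules} (ε : M ≅ N) :
    Nonempty (Formal.completion I M ≅ Formal.completion I N) := by
  refine nonempty_completion_iso_of_quot I M (Formal.completion I N)
    (fun n => ε.hom ≫ Formal.modPowπ I (n + 1) N) ?_ ?_
  · intro n
    have e : (Formal.completion I N).map (homOfLE (n.le_add_right 1)).op =
        Formal.modPowTrans I (n + 1) N := by
      unfold Formal.completion
      rw [Functor.ofOpSequence_map_homOfLE_succ]
    rw [e, Category.assoc]
    exact congrArg (fun x => ε.hom ≫ x) (Formal.modPowπ_trans I (n + 1) N)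
  · intro n
    exact IsModQuot.iso_comp ε.hom (isModQuot_modPowπ I (n + 1) N)

end one

section two

variable (A : Type u) [CommRing A] {X Z : Scheme.{u}} [X.Over (Spec (CommRingCat.of A))]
  [Z.Over (Spec (CommRingCat.of A))] (i : Z ⟶ X) [IsOpenImmersion i]
  (hi : i ≫ (X ↘ Spec (CommRingCat.of A)) = Z ↘ Spec (CommRingCat.of A))

include hi in
theorem restrictFunctor_map_smulMod (N : X.Modules) (a : A) :
    (Scheme.Modules.restrictFunctor i).map (Formal.smulMod A N a) =
      Formal.smulMod A ((Scheme.Modules.restrictFunctor i).obj N) a := by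
  have h1 := (Scheme.Modules.restrictFunctorIsoPullback i).hom.naturality (Formal.smulMod A N a)
  rw [Groth.Agent.Lib.Helper9.FormalBase.pullback_map_smulMod A i hi,
    Groth.Agent.Lib.Helper9.FormalBase.comp_smulMod] at h1
  exact (cancel_mono ((Scheme.Modules.restrictFunctorIsoPullback i).hom.app N)).1 h1

include hi in
/-- (P3) restriction to an open commutes with completion -/
theorem nonempty_completion_restrict_iso (I : Ideal A) (N : X.Modules) :
    Nonempty (Formal.completion I ((Scheme.Modules.restrictFunctor i).obj N) ≅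
      Formal.completion I N ⋙ Scheme.Modules.restrictFunctor i) := by
  haveI : (Scheme.Modules.restrictFunctor i).Additive :=
    (Scheme.Modules.restrictAdjunction i).left_adjoint_additive
  refine nonempty_completion_iso_of_quot I _ _
    (fun n => (Scheme.Modules.restrictFunctor i).map (Formal.modPowπ I (n + 1) N)) ?_ ?_
  · intro n
    have e : (Formal.completion I N).map (homOfLE (n.le_add_right 1)).op =
        Formal.modPowTrans I (n + 1) N := by
      unfold Formal.completion
      rw [Functor.ofOpSequence_map_homOfLE_succ]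
    rw [Functor.comp_map, e, ← Functor.map_comp]
    exact congrArg (fun x => (Scheme.Modules.restrictFunctor i).map x)
      (Formal.modPowπ_trans I (n + 1) N)
  · intro n
    obtain ⟨κ, hκ⟩ := Groth.Agent.Lib.Helper9.FormalBase.exists_iso_cokernel_smulFamily (A := A)
      (Scheme.Modules.restrictAdjunction i) (restrictFunctor_map_smulMod A i hi)
      (I ^ (n + 1)) N
    have e : (Scheme.Modules.restrictFunctor i).map (Formal.modPowπ I (n + 1) N) =
        cokernel.π (Formal.smulFamily (I ^ (n + 1)) ((Scheme.Modules.restrictFunctor i).obj N)) ≫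
          κ.inv := by
      rw [← hκ, Category.assoc, Iso.hom_inv_id, Category.comp_id]
      rfl
    have h := IsModQuot.comp_iso (isModQuot_cokernelπ (I ^ (n + 1))
      ((Scheme.Modules.restrictFunctor i).obj N)) κ.inv
    rw [← e] at h
    exact h

end two

end Groth.Agent.Lib.Helper12.H12AZ
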