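import Mathlib
import Groth.Prelude.Def_Algz
import Groth.Agent.Lib.Helper12.AZ1
import Groth.Agent.Lib.Helper12.ModCons1
import Groth.Agent.Lib.Helper29.QCohQcqs

/-! # Restriction of coherent formal modules to opens; pro-isomorphisms under functors -/

set_option autoImplicit false
universe v u

open CategoryTheory CategoryTheory.Limits AlgebraicGeometry Opposite

namespace Groth.Agent.Lib.Helper12.H12AZ

open Groth.Agent.Lib.Helper12.H12FF Groth.Agent.Lib.Lead.FormalSys

section pro

variable {C : Type u} [Category.{v} C] {D : Type u} [Category.{v} D]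

private lemma aux1 {P P' Q Q' T T' : D} (g : P ⟶ P') (ti' : P' ⟶ Q') (ti : P ⟶ Q) (s : Q ⟶ Q')
    (x' : Q' ⟶ T') (x : Q ⟶ T) (y : T ⟶ T') (h1 : g ≫ ti' = ti ≫ s) (h2 : s ≫ x' = x ≫ y) :
    g ≫ (ti' ≫ x') = (ti ≫ x) ≫ y := by
  rw [← Category.assoc, h1, Category.assoc, h2, Category.assoc]

private lemma aux2 {P Q T W Z : D} (x : P ⟶ Q) (y : Q ⟶ T) (z : T ⟶ W) (w : W ⟶ Z) (s : Q ⟶ W)
    (xinv : Q ⟶ P) (g : P ⟶ Z) (h3 : y ≫ z = s) (h1 : s ≫ w = xinv ≫ g) (hx : x ≫ xinv = 𝟙 P) :
    (x ≫ y) ≫ (z ≫ w) = g := by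
  subst h3
  rw [Category.assoc, ← Category.assoc y, h1, ← Category.assoc, hx, Category.id_comp]

private lemma aux3 {P Q T W : D} (z : P ⟶ Q) (w : Q ⟶ T) (winv : T ⟶ Q) (y : Q ⟶ W) (g : P ⟶ W)
    (hw : w ≫ winv = 𝟙 Q) (h : z ≫ y = g) : (z ≫ w) ≫ (winv ≫ y) = g := by
  subst h
  rw [Category.assoc, ← Category.assoc w, hw, Category.id_comp]

/-- a pro-isomorphism `S → G'` gives, after applying a functor `R` and identifying `S ⋙ R` with `G`,
a pro-isomorphism `G → G' ⋙ R`. -/
theorem isProIsomorphic_of_iso_of_functor (R : C ⥤ D) {S G' : ℕᵒᵖ ⥤ C} {G : ℕᵒᵖ ⥤ D}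
    (θ : S ⋙ R ≅ G) (h : Algz.IsProIsomorphic S G') : Algz.IsProIsomorphic G (G' ⋙ R) := by
  obtain ⟨m, hm, hle, a, ha⟩ := h
  let a' : DerCA.reindex G hm ⟶ G' ⋙ R :=
    { app := fun j => θ.inv.app (op (m j.unop)) ≫ R.map (a.app j)
      naturality := by
        intro j j' f
        have h1 := θ.inv.naturality ((Monotone.functor hm).op.map f)
        have h2 := a.naturality f
        exact aux1 _ _ _ _ _ _ _ h1
          ((R.map_comp _ _).symm.trans ((congrArg R.map h2).trans (R.map_comp _ _))) }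
  refine ⟨m, hm, hle, a', ?_⟩
  intro n
  obtain ⟨k, hk, b, hb1, hb2⟩ := ha n
  refine ⟨k, hk, R.map b ≫ θ.hom.app (op (m n)), ?_, ?_⟩
  · have h1 := θ.hom.naturality (homOfLE (hm hk)).op
    exact aux2 (θ.inv.app (op (m k))) (R.map (a.app (op k))) (R.map b) (θ.hom.app (op (m n)))
      ((S ⋙ R).map (homOfLE (hm hk)).op) (θ.hom.app (op (m k))) (G.map (homOfLE (hm hk)).op)
      ((R.map_comp _ _).symm.trans (congrArg R.map hb1)) h1 (Iso.inv_hom_id_app θ _)
  · exact aux3 (R.map b) (θ.hom.app (op (m n))) (θ.inv.app (op (m n))) (R.map (a.app (op n)))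
      (R.map (G'.map (homOfLE hk).op)) (Iso.hom_inv_id_app θ _)
      ((R.map_comp _ _).symm.trans (congrArg R.map hb2))

end pro

section restr

variable (A : Type u) [CommRing A] {X Z : Scheme.{u}} [X.Over (Spec (CommRingCat.of A))]
  [Z.Over (Spec (CommRingCat.of A))] (i : Z ⟶ X) [IsOpenImmersion i]
  (hi : i ≫ (X ↘ Spec (CommRingCat.of A)) = Z ↘ Spec (CommRingCat.of A))

theorem isCoh_restrictFunctor (F : X.Modules) (hF : Coh.IsCoh F) :
    Coh.IsCoh ((Scheme.Modules.restrictFunctor i).obj F) := by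
  have h := Groth.Agent.Lib.Helper12.H12ConsP.isCoh_pullback i F hF
  haveI := h.1
  haveI := h.2
  have e : (Scheme.Modules.pullback i).obj F ≅ (Scheme.Modules.restrictFunctor i).obj F :=
    ((Scheme.Modules.restrictFunctorIsoPullback i).app F).symm
  haveI : ((Scheme.Modules.restrictFunctor i).obj F).IsQuasicoherent :=
    Groth.Agent.Lib.Helper12.H12LT.isQuasicoherent_of_iso e
  exact ⟨inferInstance, Groth.Agent.Lib.Helper29.QCoh.isFiniteType_of_epi e.hom⟩

include hi in
/-- restriction to an open preserves coherent formal modules -/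
theorem isCohFormal_restrict (I : Ideal A) (G : ℕᵒᵖ ⥤ X.Modules) (hG : Formal.IsCohFormal I G) :
    Formal.IsCohFormal I (G ⋙ Scheme.Modules.restrictFunctor i) := by
  haveI : (Scheme.Modules.restrictFunctor i).Additive :=
    (Scheme.Modules.restrictAdjunction i).left_adjoint_additive
  obtain ⟨h1, h2, h3⟩ := hG
  refine ⟨fun n => isCoh_restrictFunctor i _ (h1 n), ?_, ?_⟩
  · intro n a ha
    change Formal.smulMod A ((Scheme.Modules.restrictFunctor i).obj (G.obj (op n))) a = 0
    rw [← restrictFunctor_map_smulMod A i hi, h2 n a ha, Functor.map_zero]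
  · intro n
    obtain ⟨h, hiso⟩ := h3 n
    obtain ⟨κ, hκ⟩ := Groth.Agent.Lib.Helper9.FormalBase.exists_iso_cokernel_smulFamily (A := A)
      (Scheme.Modules.restrictAdjunction i) (restrictFunctor_map_smulMod A i hi)
      (I ^ (n + 1)) (G.obj (op (n + 1)))
    have e : cokernel.π (Formal.smulFamily (I ^ (n + 1))
        ((Scheme.Modules.restrictFunctor i).obj (G.obj (op (n + 1))))) ≫ κ.inv ≫
        (Scheme.Modules.restrictFunctor i).map (cokernel.desc _ _ h) =
        (Scheme.Modules.restrictFunctor i).map (G.map (homOfLE (Nat.le_succ n)).op) := by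
      rw [← hκ, Category.assoc, Iso.hom_inv_id_assoc, ← Functor.map_comp, cokernel.π_desc]
    have h' : Formal.smulFamily (I ^ (n + 1))
        ((G ⋙ Scheme.Modules.restrictFunctor i).obj (op (n + 1))) ≫
        (G ⋙ Scheme.Modules.restrictFunctor i).map (homOfLE (Nat.le_succ n)).op = 0 := by
      change Formal.smulFamily (I ^ (n + 1))
        ((Scheme.Modules.restrictFunctor i).obj (G.obj (op (n + 1)))) ≫
        (Scheme.Modules.restrictFunctor i).map (G.map (homOfLE (Nat.le_succ n)).op) = 0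
      rw [← e, cokernel.condition_assoc, zero_comp]
    refine ⟨h', ?_⟩
    have e2 : cokernel.desc _ _ h' = κ.inv ≫
        (Scheme.Modules.restrictFunctor i).map (cokernel.desc _ _ h) := by
      rw [← cancel_epi (cokernel.π _), cokernel.π_desc]
      exact e.symm
    rw [e2]
    haveI := hiso
    infer_instance

end restr

section sect

variable (A : Type u) [CommRing A]

/-- the system `(H⁰(U, G_n))~` restricted to `U` is the system `G` itself, when `U.ι` is
quasi-compact and the `G_n` are quasi-coherent. -/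
theorem nonempty_sectSys_restrict_iso (U : (Spec (CommRingCat.of A)).Opens) [QuasiCompact U.ι]
    (G : ℕᵒᵖ ⥤ (U : Scheme.{u}).Modules) (hG : ∀ j, (G.obj j).IsQuasicoherent) :
    Nonempty (Algz.sectSys A U G ⋙ Scheme.Modules.restrictFunctor U.ι ≅ G) := by
  have hq : ∀ j, ((Scheme.Modules.pushforward U.ι).obj (G.obj j)).IsQuasicoherent := fun j =>
    haveI := hG j
    Groth.Agent.Lib.Helper29.QCoh.isQuasicoherent_pushforward_of_qcqs U.ι (G.obj j)
  have hiso : ∀ j, IsIso (Scheme.Modules.fromTildeΓ (R := CommRingCat.of A)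
      ((Scheme.Modules.pushforward U.ι).obj (G.obj j))) := fun j =>
    @Scheme.Modules.isIso_fromTildeΓ_of_isQuasicoherent (CommRingCat.of A)
      ((Scheme.Modules.pushforward U.ι).obj (G.obj j)) (hq j)
  have hi1 : ∀ j, IsIso ((Scheme.Modules.restrictFunctor U.ι).map
      (Scheme.Modules.fromTildeΓ (R := CommRingCat.of A)
        ((Scheme.Modules.pushforward U.ι).obj (G.obj j)))) := fun j => by
    haveI := hiso j
    exact Functor.map_isIso _ _
  have hi2 : ∀ j, IsIso ((Scheme.Modules.restrictAdjunction U.ι).counit.app (G.obj j)) :=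
    fun j => inferInstance
  let app : ∀ j : ℕᵒᵖ, (Algz.sectSys A U G ⋙ Scheme.Modules.restrictFunctor U.ι).obj j ⟶ G.obj j :=
    fun j => (Scheme.Modules.restrictFunctor U.ι).map
        (Scheme.Modules.fromTildeΓ (R := CommRingCat.of A)
          ((Scheme.Modules.pushforward U.ι).obj (G.obj j))) ≫
      (Scheme.Modules.restrictAdjunction U.ι).counit.app (G.obj j)
  haveI : ∀ j, IsIso (app j) := fun j => IsIso.comp_isIso' (hi1 j) (hi2 j)
  refine ⟨NatIso.ofComponents (fun j => asIso (app j)) ?_⟩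
  intro j j' f
  have h1 := (Scheme.Modules.fromTildeΓNatTrans (R := CommRingCat.of A)).naturality
    ((Scheme.Modules.pushforward U.ι).map (G.map f))
  have h2 := (Scheme.Modules.restrictAdjunction U.ι).counit.naturality (G.map f)
  exact aux1 _ _ _ _ _ _ _
    (((Scheme.Modules.restrictFunctor U.ι).map_comp _ _).symm.trans
      ((congrArg (Scheme.Modules.restrictFunctor U.ι).map h1).trans
        ((Scheme.Modules.restrictFunctor U.ι).map_comp _ _))) h2

end sect

end Groth.Agent.Lib.Helper12.H12AZ
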