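import Mathlib
import Groth.Prelude.Def_Algz
import Groth.Agent.Lib.Helper12.AZ2
import Groth.Agent.Lib.Helper12.LT1

/-! # Mittag-Leffler systems of modules: lifting stable images to the limit -/

set_option autoImplicit false
universe u

open CategoryTheory CategoryTheory.Limits AlgebraicGeometry Opposite

namespace Groth.Agent.Lib.Helper12.H12AZ

section alg

variable {A : Type u} [CommRing A]

lemma exists_of_imageSubobject_le {P P' Q : ModuleCat.{u} A} (f : P ⟶ Q) (g : P' ⟶ Q)
    (h : imageSubobject f ≤ imageSubobject g) (x : P) : ∃ y : P', g.hom y = f.hom x := by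
  have e1 : (factorThruImageSubobject f ≫ Subobject.ofLE _ _ h) ≫ (imageSubobject g).arrow = f := by
    rw [Category.assoc, Subobject.ofLE_arrow, imageSubobject_arrow_comp]
  have e2 : factorThruImageSubobject g ≫ (imageSubobject g).arrow = g :=
    imageSubobject_arrow_comp g
  obtain ⟨y, hy⟩ := (ModuleCat.epi_iff_surjective _).1
    (inferInstance : Epi (factorThruImageSubobject g))
    ((factorThruImageSubobject f ≫ Subobject.ofLE _ _ h).hom x)
  refine ⟨y, ?_⟩
  have h1 : g.hom y = (imageSubobject g).arrow.hom ((factorThruImageSubobject g).hom y) :=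
    congrArg (fun φ : P' ⟶ Q => φ.hom y) e2.symm
  have h2 : f.hom x = (imageSubobject g).arrow.hom
      ((factorThruImageSubobject f ≫ Subobject.ofLE _ _ h).hom x) :=
    congrArg (fun φ : P ⟶ Q => φ.hom x) e1.symm
  rw [h1, h2, hy]

variable (X : ℕᵒᵖ ⥤ ModuleCat.{u} A)

lemma tr_tr {a b c : ℕ} (h1 : b ≤ a) (h2 : c ≤ b) (x : X.obj (op a)) :
    (X.map (homOfLE h2).op).hom ((X.map (homOfLE h1).op).hom x) =
      (X.map (homOfLE (h2.trans h1)).op).hom x := by
  have e : X.map (homOfLE h1).op ≫ X.map (homOfLE h2).op = X.map (homOfLE (h2.trans h1)).op := by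
    rw [← X.map_comp]
    rfl
  exact congrArg (fun φ : X.obj (op a) ⟶ X.obj (op c) => φ.hom x) e

/-- ML ⟹ stable ranges -/
lemma exists_stable (hML : ARSys.IsML X) (n : ℕ) : ∃ r : ℕ, ∀ (m : ℕ) (h : n + r ≤ m),
    LinearMap.range (X.map (homOfLE (le_trans (Nat.le_add_right n r) h)).op).hom =
      LinearMap.range (X.map (homOfLE (Nat.le_add_right n r)).op).hom := by
  obtain ⟨r, hr⟩ := hML n
  refine ⟨r, fun m h => ?_⟩
  obtain ⟨s, rfl⟩ := Nat.exists_eq_add_of_le ((Nat.le_add_right n r).trans h)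
  have hs : r ≤ s := by omega
  have e := hr s hs
  apply le_antisymm
  · rintro _ ⟨x, rfl⟩
    obtain ⟨y, hy⟩ := exists_of_imageSubobject_le (ARSys.shiftMap X s n) (ARSys.shiftMap X r n)
      e.le x
    exact ⟨y, hy⟩
  · rintro _ ⟨x, rfl⟩
    obtain ⟨y, hy⟩ := exists_of_imageSubobject_le (ARSys.shiftMap X r n) (ARSys.shiftMap X s n)
      e.ge x
    exact ⟨y, hy⟩

/-- For a Mittag-Leffler system of modules, the stable image at level `n` is the image of the
limit. -/
theorem exists_limit_lift_of_isML (hML : ARSys.IsML X) (n : ℕ) :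
    ∃ (m : ℕ) (h : n ≤ m), ∀ y : X.obj (op m), ∃ ξ : (limit X : ModuleCat.{u} A),
      (limit.π X (op n)).hom ξ = (X.map (homOfLE h).op).hom y := by
  choose r hr using exists_stable X hML
  let S : ∀ k, Submodule A (X.obj (op k)) := fun k =>
    LinearMap.range (X.map (homOfLE (Nat.le_add_right k (r k))).op).hom
  have hS : ∀ k m (h : k + r k ≤ m),
      LinearMap.range (X.map (homOfLE (le_trans (Nat.le_add_right k (r k)) h)).op).hom = S k :=
    fun k m h => hr k m h
  have hinto : ∀ k (z : X.obj (op (k + 1))), z ∈ S (k + 1) →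
      (X.map (homOfLE (Nat.le_succ k)).op).hom z ∈ S k := by
    intro k z hz
    have h1 : k + 1 + r (k + 1) ≤ max (k + 1 + r (k + 1)) (k + r k) := le_max_left _ _
    have h2 : k + r k ≤ max (k + 1 + r (k + 1)) (k + r k) := le_max_right _ _
    rw [← hS (k + 1) _ h1] at hz
    obtain ⟨w, rfl⟩ := hz
    rw [tr_tr, ← hS k _ h2]
    exact ⟨w, rfl⟩
  have hsurj : ∀ k (y : X.obj (op k)), y ∈ S k →
      ∃ z ∈ S (k + 1), (X.map (homOfLE (Nat.le_succ k)).op).hom z = y := by
    intro k y hy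
    have h1 : k + 1 + r (k + 1) ≤ max (k + 1 + r (k + 1)) (k + r k) := le_max_left _ _
    have h2 : k + r k ≤ max (k + 1 + r (k + 1)) (k + r k) := le_max_right _ _
    rw [← hS k _ h2] at hy
    obtain ⟨w, rfl⟩ := hy
    refine ⟨(X.map (homOfLE (le_trans (Nat.le_add_right (k + 1) (r (k + 1))) h1)).op).hom w,
      ?_, ?_⟩
    · rw [← hS (k + 1) _ h1]
      exact ⟨w, rfl⟩
    · rw [tr_tr]
  let T : ℕ → Type u := fun k => ↥(S k)
  let t : ∀ k, T (k + 1) → T k := fun k z =>
    ⟨(X.map (homOfLE (Nat.le_succ k)).op).hom z.1, hinto k z.1 z.2⟩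
  have ht : ∀ k, Function.Surjective (t k) := by
    intro k y
    obtain ⟨z, hz, hzy⟩ := hsurj k y.1 y.2
    exact ⟨⟨z, hz⟩, Subtype.ext hzy⟩
  refine ⟨n + r n, Nat.le_add_right n (r n), fun y => ?_⟩
  obtain ⟨x, hx, hxn⟩ := Groth.Agent.Lib.Helper12.H12LT.exists_compatible n t ht
    ⟨(X.map (homOfLE (Nat.le_add_right n (r n))).op).hom y, ⟨y, rfl⟩⟩
  let c : (Functor.const ℕᵒᵖ).obj (ModuleCat.of A A) ⟶ X := NatTrans.ofOpSequence
    (fun k => ModuleCat.ofHom (LinearMap.toSpanSingleton A (X.obj (op k)) (x k).1)) (by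
      intro k
      rw [Functor.const_obj_map]
      refine (Category.id_comp _).trans ?_
      apply ModuleCat.hom_ext
      apply LinearMap.ext_ring
      have h := congrArg Subtype.val (hx k)
      change (1 : A) • (x k).1 =
        (X.map (homOfLE (k.le_add_right 1)).op).hom ((1 : A) • (x (k + 1)).1)
      rw [one_smul, one_smul]
      exact h.symm)
  refine ⟨(limit.lift X ⟨ModuleCat.of A A, c⟩).hom (1 : A), ?_⟩
  have h1 := limit.lift_π (⟨ModuleCat.of A A, c⟩ : Cone X) (op n)
  have h2 : (limit.π X (op n)).hom ((limit.lift X ⟨ModuleCat.of A A, c⟩).hom (1 : A)) =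
      (c.app (op n)).hom (1 : A) :=
    congrArg (fun φ : ModuleCat.of A A ⟶ X.obj (op n) => φ.hom (1 : A)) h1
  rw [h2]
  change (1 : A) • (x n).1 = _
  rw [one_smul, hxn]

end alg

end Groth.Agent.Lib.Helper12.H12AZ
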