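import Mathlib
import Groth.Prelude.Def_Algz
import Groth.Agent.Lib.Helper12.AZ3

/-! # Mittag-Leffler sections: `M~|_U → F_n` is an epimorphism -/

set_option autoImplicit false
universe u

open CategoryTheory CategoryTheory.Limits AlgebraicGeometry Opposite

namespace Groth.Agent.Lib.Helper12.H12AZ

section geo

variable (A : Type u) [CommRing A] (U : (Spec (CommRingCat.of A)).Opens)

/-- the comparison map `(H⁰(U, N))~|_U ⟶ N` -/
noncomputable def sectApp (N : (U : Scheme.{u}).Modules) :
    (Scheme.Modules.restrictFunctor U.ι).obj ((tilde.functor (CommRingCat.of A)).obj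
      ((moduleSpecΓFunctor (R := CommRingCat.of A)).obj
        ((Scheme.Modules.pushforward U.ι).obj N))) ⟶ N :=
  (Scheme.Modules.restrictFunctor U.ι).map
      (Scheme.Modules.fromTildeΓ (R := CommRingCat.of A) ((Scheme.Modules.pushforward U.ι).obj N)) ≫
    (Scheme.Modules.restrictAdjunction U.ι).counit.app N

lemma isIso_sectApp [QuasiCompact U.ι] (N : (U : Scheme.{u}).Modules) [N.IsQuasicoherent] :
    IsIso (sectApp A U N) := by
  haveI hq : ((Scheme.Modules.pushforward U.ι).obj N).IsQuasicoherent :=
    Groth.Agent.Lib.Helper29.QCoh.isQuasicoherent_pushforward_of_qcqs U.ι N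
  have hiso : IsIso (Scheme.Modules.fromTildeΓ (R := CommRingCat.of A)
      ((Scheme.Modules.pushforward U.ι).obj N)) :=
    @Scheme.Modules.isIso_fromTildeΓ_of_isQuasicoherent (CommRingCat.of A)
      ((Scheme.Modules.pushforward U.ι).obj N) hq
  have hi1 : IsIso ((Scheme.Modules.restrictFunctor U.ι).map
      (Scheme.Modules.fromTildeΓ (R := CommRingCat.of A)
        ((Scheme.Modules.pushforward U.ι).obj N))) := Functor.map_isIso _ _
  have hi2 : IsIso ((Scheme.Modules.restrictAdjunction U.ι).counit.app N) := inferInstance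
  exact IsIso.comp_isIso' hi1 hi2

private lemma aux1' {D : Type*} [Category D] {P P' Q Q' T T' : D} (g : P ⟶ P') (ti' : P' ⟶ Q')
    (ti : P ⟶ Q) (s : Q ⟶ Q') (x' : Q' ⟶ T') (x : Q ⟶ T) (y : T ⟶ T') (h1 : g ≫ ti' = ti ≫ s)
    (h2 : s ≫ x' = x ≫ y) : g ≫ (ti' ≫ x') = (ti ≫ x) ≫ y := by
  rw [← Category.assoc, h1, Category.assoc, h2, Category.assoc]

lemma sectApp_naturality {N N' : (U : Scheme.{u}).Modules} (f : N ⟶ N') :
    (Scheme.Modules.restrictFunctor U.ι).map ((tilde.functor (CommRingCat.of A)).map
      ((moduleSpecΓFunctor (R := CommRingCat.of A)).map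
        ((Scheme.Modules.pushforward U.ι).map f))) ≫ sectApp A U N' = sectApp A U N ≫ f := by
  have h1 := (Scheme.Modules.fromTildeΓNatTrans (R := CommRingCat.of A)).naturality
    ((Scheme.Modules.pushforward U.ι).map f)
  have h2 := (Scheme.Modules.restrictAdjunction U.ι).counit.naturality f
  exact aux1' _ _ _ _ _ _ _
    (((Scheme.Modules.restrictFunctor U.ι).map_comp _ _).symm.trans
      ((congrArg (Scheme.Modules.restrictFunctor U.ι).map h1).trans
        ((Scheme.Modules.restrictFunctor U.ι).map_comp _ _))) h2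

lemma exists_free_fac {B : Type u} [CommRing B] {M H K : ModuleCat.{u} B} (π : M ⟶ K) (t : H ⟶ K)
    (h : ∀ y : H, ∃ ξ : M, π.hom ξ = t.hom y) :
    ∃ (P : ModuleCat.{u} B) (q : P ⟶ H) (l : P ⟶ M), Epi q ∧ l ≫ π = q ≫ t := by
  choose ξ hξ using h
  refine ⟨ModuleCat.of B (H →₀ B),
    ModuleCat.ofHom (Finsupp.linearCombination B (fun y : H => y)),
    ModuleCat.ofHom (Finsupp.linearCombination B ξ), ?_, ?_⟩
  · rw [ModuleCat.epi_iff_surjective]
    intro y
    refine ⟨Finsupp.single y 1, ?_⟩
    change Finsupp.linearCombination B (fun y : H => y) (Finsupp.single y 1) = y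
    rw [Finsupp.linearCombination_single, one_smul]
  · apply ModuleCat.hom_ext
    apply Finsupp.lhom_ext
    intro y a
    change π.hom (Finsupp.linearCombination B ξ (Finsupp.single y a)) =
      t.hom (Finsupp.linearCombination B (fun y : H => y) (Finsupp.single y a))
    rw [Finsupp.linearCombination_single, Finsupp.linearCombination_single, map_smul, map_smul,
      hξ]

/-- Stacks-style: for a Mittag-Leffler system of sections, `M~|_U → F_n` is an epimorphism. -/
theorem epi_of_isML [QuasiCompact U.ι] (G : ℕᵒᵖ ⥤ (U : Scheme.{u}).Modules)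
    (hqc : ∀ j, (G.obj j).IsQuasicoherent)
    (hepi : ∀ (n m : ℕ) (h : n ≤ m), Epi (G.map (homOfLE h).op))
    (ha : ARSys.IsML (Algz.sectMod A U G)) (n : ℕ) :
    Epi (((Scheme.Modules.restrictAdjunction U.ι).homEquiv _ (G.obj (op n))).symm
      (((tilde.adjunction (R := CommRingCat.of A)).homEquiv (limit (Algz.sectMod A U G))
        ((Scheme.Modules.pushforward U.ι).obj (G.obj (op n)))).symm
          (limit.π (Algz.sectMod A U G) (op n)))) := by
  obtain ⟨m, hm, hlift⟩ := exists_limit_lift_of_isML (Algz.sectMod A U G) ha n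
  obtain ⟨P, q, l, hq, hfac⟩ := exists_free_fac (limit.π (Algz.sectMod A U G) (op n))
    ((Algz.sectMod A U G).map (homOfLE hm).op) hlift
  haveI : (tilde.functor (CommRingCat.of A)).PreservesEpimorphisms :=
    (tilde.functor (CommRingCat.of A)).preservesEpimorphisms_of_adjunction tilde.adjunction
  haveI : (Scheme.Modules.restrictFunctor U.ι).PreservesEpimorphisms :=
    (Scheme.Modules.restrictFunctor U.ι).preservesEpimorphisms_of_adjunction
      (Scheme.Modules.restrictAdjunction U.ι)
  have hRTq : Epi ((Scheme.Modules.restrictFunctor U.ι).map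
      ((tilde.functor (CommRingCat.of A)).map q)) := inferInstance
  haveI := hqc (op n)
  haveI := hqc (op m)
  have hin : IsIso (sectApp A U (G.obj (op n))) := isIso_sectApp A U _
  have him : IsIso (sectApp A U (G.obj (op m))) := isIso_sectApp A U _
  have hen : Epi (sectApp A U (G.obj (op n))) := inferInstance
  have hem : Epi (sectApp A U (G.obj (op m))) := inferInstance
  have ht : Epi ((Scheme.Modules.restrictFunctor U.ι).map
      ((tilde.functor (CommRingCat.of A)).map ((Algz.sectMod A U G).map (homOfLE hm).op))) := by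
    have nat := sectApp_naturality A U (G.map (homOfLE hm).op)
    have h1 : Epi (sectApp A U (G.obj (op m)) ≫ G.map (homOfLE hm).op) :=
      epi_comp' hem (hepi n m hm)
    rw [← nat] at h1
    have e : (Scheme.Modules.restrictFunctor U.ι).map
        ((tilde.functor (CommRingCat.of A)).map ((Algz.sectMod A U G).map (homOfLE hm).op)) =
        ((Scheme.Modules.restrictFunctor U.ι).map ((tilde.functor (CommRingCat.of A)).map
          ((moduleSpecΓFunctor (R := CommRingCat.of A)).map
            ((Scheme.Modules.pushforward U.ι).map (G.map (homOfLE hm).op)))) ≫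
          sectApp A U (G.obj (op n))) ≫ inv (sectApp A U (G.obj (op n))) := by
      rw [Category.assoc, IsIso.hom_inv_id, Category.comp_id]
      rfl
    rw [e]
    haveI := hin
    have h5 : Epi (inv (sectApp A U (G.obj (op n)))) := inferInstance
    exact epi_comp' h1 h5
  have h3 : Epi ((Scheme.Modules.restrictFunctor U.ι).map
        ((tilde.functor (CommRingCat.of A)).map l) ≫
      (Scheme.Modules.restrictFunctor U.ι).map ((tilde.functor (CommRingCat.of A)).map
        (limit.π (Algz.sectMod A U G) (op n)))) := by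
    rw [← Functor.map_comp, ← Functor.map_comp, hfac, Functor.map_comp, Functor.map_comp]
    exact epi_comp' hRTq ht
  have h4 : Epi ((Scheme.Modules.restrictFunctor U.ι).map
      ((tilde.functor (CommRingCat.of A)).map (limit.π (Algz.sectMod A U G) (op n)))) :=
    @epi_of_epi _ _ _ _ _ ((Scheme.Modules.restrictFunctor U.ι).map
        ((tilde.functor (CommRingCat.of A)).map l)) _ h3
  have key : ((Scheme.Modules.restrictAdjunction U.ι).homEquiv _ (G.obj (op n))).symm
      (((tilde.adjunction (R := CommRingCat.of A)).homEquiv (limit (Algz.sectMod A U G))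
        ((Scheme.Modules.pushforward U.ι).obj (G.obj (op n)))).symm
          (limit.π (Algz.sectMod A U G) (op n))) =
      (Scheme.Modules.restrictFunctor U.ι).map ((tilde.functor (CommRingCat.of A)).map
        (limit.π (Algz.sectMod A U G) (op n))) ≫ sectApp A U (G.obj (op n)) := by
    rw [Adjunction.homEquiv_counit, Adjunction.homEquiv_counit, Functor.map_comp, Category.assoc]
    rfl
  rw [key]
  exact epi_comp' h4 hen

end geo

end Groth.Agent.Lib.Helper12.H12AZ
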