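import Mathlib
import Groth.Prelude.Def_Algz
import Groth.Agent.Lib.Helper12.AZ4
import Groth.Agent.Lib.Helper25.SubElem

/-! # Mittag-Leffler is inherited from a pro-isomorphic strict system (modules) -/

set_option autoImplicit false
universe u

open CategoryTheory CategoryTheory.Limits AlgebraicGeometry Opposite

namespace Groth.Agent.Lib.Helper12.H12AZ

section alg

variable {A : Type u} [CommRing A]

lemma imageSubobject_le_of_forall {P P' Q : ModuleCat.{u} A} (f : P ⟶ Q) (g : P' ⟶ Q)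
    (h : ∀ x : P, ∃ y : P', g.hom y = f.hom x) : imageSubobject f ≤ imageSubobject g := by
  rw [Groth.Agent.Lib.Helper25.SubElem.imageSubobject_le_iff,
    Groth.Agent.Lib.Helper25.SubElem.imageSubobject_factors_iff]
  obtain ⟨W, q, l, hq, hfac⟩ := exists_free_fac g f h
  exact ⟨W, q, hq, l, hfac.symm⟩

variable (H N : ℕᵒᵖ ⥤ ModuleCat.{u} A)

/-- the elementwise stabilisation statement -/
lemma stable_of_data (m : ℕ → ℕ) (hm : Monotone m) (hle : ∀ n, n ≤ m n)
    (aa : ∀ j, H.obj (op (m j)) → N.obj (op j))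
    (hnat : ∀ (j j' : ℕ) (h : j ≤ j') (x : H.obj (op (m j'))),
      (N.map (homOfLE h).op).hom (aa j' x) = aa j ((H.map (homOfLE (hm h)).op).hom x))
    (hb : ∀ j, ∃ (k : ℕ) (hk : j ≤ k) (bb : N.obj (op k) → H.obj (op (m j))),
      (∀ x, bb (aa k x) = (H.map (homOfLE (hm hk)).op).hom x) ∧
        ∀ y, aa j (bb y) = (N.map (homOfLE hk).op).hom y)
    (hN : ∀ (n k : ℕ) (h : n ≤ k), Function.Surjective (N.map (homOfLE h).op).hom) (n : ℕ) :
    ∃ i₀ : ℕ, ∀ (i i' : ℕ) (_ : i₀ ≤ i) (_ : i₀ ≤ i') (h1 : n ≤ i) (h2 : n ≤ i')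
      (x : H.obj (op i)), ∃ x' : H.obj (op i'),
        (H.map (homOfLE h2).op).hom x' = (H.map (homOfLE h1).op).hom x := by
  obtain ⟨k, hk, bb, hbb1, hbb2⟩ := hb n
  refine ⟨m k, fun i i' hi hi' h1 h2 x => ?_⟩
  -- E2 for index i'
  have E2 : ∀ y : N.obj (op k), ∃ h : H.obj (op (m i')),
      (H.map (homOfLE (hm ((hk.trans (hle k)).trans hi'))).op).hom h = bb y := by
    intro y
    obtain ⟨k', hk', bb', hbb1', hbb2'⟩ := hb i'
    have hkk' : k ≤ k' := ((hle k).trans hi').trans hk'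
    have hki' : k ≤ i' := (hle k).trans hi'
    obtain ⟨y', hy'⟩ := hN k k' hkk' y
    refine ⟨bb' y', ?_⟩
    have e1 : y = (N.map (homOfLE hki').op).hom ((N.map (homOfLE hk').op).hom y') := by
      rw [tr_tr, hy']
    have e2 : (N.map (homOfLE hk').op).hom y' = aa i' (bb' y') := (hbb2' y').symm
    rw [e1, e2, hnat k i' hki' (bb' y'), hbb1, tr_tr]
  obtain ⟨h, hh⟩ := E2 (aa k ((H.map (homOfLE hi).op).hom x))
  refine ⟨(H.map (homOfLE (hle i')).op).hom h, ?_⟩
  rw [tr_tr]
  have e3 : (H.map (homOfLE (h2.trans (hle i'))).op).hom h =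
      (H.map (homOfLE (hle n)).op).hom
        ((H.map (homOfLE (hm ((hk.trans (hle k)).trans hi'))).op).hom h) := by
    rw [tr_tr]
  rw [e3, hh, hbb1, tr_tr, tr_tr]

/-- a system of modules pro-isomorphic to a strict one is Mittag-Leffler -/
theorem isML_of_proIso_strict (hpro : Algz.IsProIsomorphic H N)
    (hN : ∀ (n k : ℕ) (h : n ≤ k), Function.Surjective (N.map (homOfLE h).op).hom) :
    ARSys.IsML H := by
  obtain ⟨m, hm, hle, a, ha⟩ := hpro
  intro n
  obtain ⟨i₀, hst⟩ := stable_of_data H N m hm hle (fun j x => (a.app (op j)).hom x)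
    (fun j j' h x => by
      have e := a.naturality (homOfLE h).op
      exact (congrArg (fun φ : (DerCA.reindex H hm).obj (op j') ⟶ N.obj (op j) => φ.hom x) e).symm)
    (fun j => by
      obtain ⟨k, hk, b, hb1, hb2⟩ := ha j
      exact ⟨k, hk, fun y => b.hom y,
        fun x => congrArg (fun φ : (DerCA.reindex H hm).obj (op k) ⟶
          (DerCA.reindex H hm).obj (op j) => φ.hom x) hb1,
        fun y => congrArg (fun φ : N.obj (op k) ⟶ N.obj (op j) => φ.hom y) hb2⟩)
    hN n
  refine ⟨i₀, fun s hs => ?_⟩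
  apply le_antisymm
  · exact imageSubobject_le_of_forall _ _ (fun x =>
      hst (n + s) (n + i₀) (by omega) (by omega) (Nat.le_add_right n s) (Nat.le_add_right n i₀) x)
  · exact imageSubobject_le_of_forall _ _ (fun x =>
      hst (n + i₀) (n + s) (by omega) (by omega) (Nat.le_add_right n i₀) (Nat.le_add_right n s) x)

end alg

end Groth.Agent.Lib.Helper12.H12AZ
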