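import Mathlib
import Groth.Prelude.Def_Algz
import Groth.Agent.Lib.Helper12.AZ5
import Groth.Agent.Lib.Helper29.QCohAffine

/-! # Coherent formal modules on `Spec A`: the tower of global sections -/

set_option autoImplicit false
universe u

open CategoryTheory CategoryTheory.Limits AlgebraicGeometry Opposite

namespace Groth.Agent.Lib.Helper12.H12AZ

section C1

variable (A : Type u) [CommRing A]

/-- multiplication by `a` on a module over `Spec A` (structure morphism the identity) -/
noncomputable abbrev sm (M : (Spec (CommRingCat.of A)).Modules) (a : A) : M ⟶ M :=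
  @Formal.smulMod A _ (Spec (CommRingCat.of A)) ⟨𝟙 (Spec (CommRingCat.of A))⟩ M a

/-- on global sections, `sm a` is multiplication by `a` -/
lemma Γ_map_sm (M : (Spec (CommRingCat.of A)).Modules) (a : A)
    (y : (moduleSpecΓFunctor (R := CommRingCat.of A)).obj M) :
    ((moduleSpecΓFunctor (R := CommRingCat.of A)).map (sm A M a)).hom y = a • y := by
  change (Coh.smulAb M (Coh.toGlobal (𝟙 (Spec (CommRingCat.of A))) a)).hom.app (op ⊤) y = _
  rw [Coh.smulAb_app]
  have e : Coh.resTop (Spec (CommRingCat.of A)) (op ⊤)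
      (Coh.toGlobal (𝟙 (Spec (CommRingCat.of A))) a) =
      (Scheme.ΓSpecIso (CommRingCat.of A)).inv.hom a := by
    change ((Spec (CommRingCat.of A)).ringCatSheaf.obj.map (𝟙 (op ⊤))).hom _ = _
    rw [CategoryTheory.Functor.map_id]
    rfl
  rw [e]
  rfl

lemma smul_eq_zero_of_killedBy (J : Ideal A) (M : (Spec (CommRingCat.of A)).Modules)
    (hM : @Formal.KilledBy A _ (Spec (CommRingCat.of A)) ⟨𝟙 (Spec (CommRingCat.of A))⟩ J M)
    (a : A) (ha : a ∈ J) (y : (moduleSpecΓFunctor (R := CommRingCat.of A)).obj M) : a • y = 0 := by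
  have h := Γ_map_sm A M a y
  have h0 : sm A M a = 0 := hM a ha
  rw [h0] at h
  rw [← h]
  rfl

lemma sm_tilde_eq_zero (Q : ModuleCat.{u} A) (a : A) (ha : ∀ q : Q, a • q = 0) :
    sm A ((tilde.functor (CommRingCat.of A)).obj Q) a = 0 := by
  apply ((tilde.adjunction (R := CommRingCat.of A)).homEquiv Q _).injective
  rw [Adjunction.homEquiv_unit, Adjunction.homEquiv_unit]
  apply ModuleCat.hom_ext
  apply LinearMap.ext
  intro q
  change ((moduleSpecΓFunctor (R := CommRingCat.of A)).map
      (sm A ((tilde.functor (CommRingCat.of A)).obj Q) a)).hom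
      (((tilde.adjunction (R := CommRingCat.of A)).unit.app Q).hom q) =
    ((moduleSpecΓFunctor (R := CommRingCat.of A)).map
      (0 : (tilde.functor (CommRingCat.of A)).obj Q ⟶ (tilde.functor (CommRingCat.of A)).obj Q)).hom
      (((tilde.adjunction (R := CommRingCat.of A)).unit.app Q).hom q)
  rw [Γ_map_sm, ← map_smul, ha, map_zero]
  rfl

lemma mem_smul_top_of_forall_quot (N : ModuleCat.{u} A) (J : Ideal A) (y : N)
    (h : ∀ (Qm : ModuleCat.{u} A) (qm : N ⟶ Qm), (∀ a ∈ J, ∀ q : Qm, a • q = 0) → qm.hom y = 0) :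
    y ∈ (J • ⊤ : Submodule A N) := by
  have h1 := h (ModuleCat.of A (N ⧸ (J • ⊤ : Submodule A N)))
    (ModuleCat.ofHom (Submodule.mkQ _)) (by
      intro a ha q
      obtain ⟨n, rfl⟩ := Submodule.mkQ_surjective _ q
      rw [← map_smul, Submodule.mkQ_apply, Submodule.Quotient.mk_eq_zero]
      exact Submodule.smul_mem_smul ha trivial)
  exact (Submodule.Quotient.mk_eq_zero _).1 h1

/-- the kernel on global sections of a quotient by `J` lies in `J Γ(P)` -/
lemma ker_le_of_isModQuot (J : Ideal A) {P Q' : (Spec (CommRingCat.of A)).Modules}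
    [P.IsQuasicoherent] (g : P ⟶ Q')
    (hg : @Groth.Agent.Lib.Lead.FormalSys.IsModQuot A _ (Spec (CommRingCat.of A))
      ⟨𝟙 (Spec (CommRingCat.of A))⟩ J P Q' g) :
    LinearMap.ker ((moduleSpecΓFunctor (R := CommRingCat.of A)).map g).hom ≤
      (J • ⊤ : Submodule A ((moduleSpecΓFunctor (R := CommRingCat.of A)).obj P)) := by
  obtain ⟨-, -, hfac⟩ := hg
  intro y hy
  refine mem_smul_top_of_forall_quot A _ J y (fun Qm qm hQ => ?_)
  have hε : IsIso (Scheme.Modules.fromTildeΓ (R := CommRingCat.of A) P) :=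
    @Scheme.Modules.isIso_fromTildeΓ_of_isQuasicoherent (CommRingCat.of A) P inferInstance
  haveI hε' : IsIso ((tilde.adjunction (R := CommRingCat.of A)).counit.app P) := hε
  let f : P ⟶ (tilde.functor (CommRingCat.of A)).obj Qm :=
    inv ((tilde.adjunction (R := CommRingCat.of A)).counit.app P) ≫
      (tilde.functor (CommRingCat.of A)).map qm
  have hf : ∀ a ∈ J, sm A P a ≫ f = 0 := by
    intro a ha
    have e := @Groth.Agent.Lib.Helper9.FormalBase.comp_smulMod A _ (Spec (CommRingCat.of A))
      ⟨𝟙 (Spec (CommRingCat.of A))⟩ _ _ f a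
    rw [← e]
    have e2 := sm_tilde_eq_zero A Qm a (hQ a ha)
    change f ≫ sm A ((tilde.functor (CommRingCat.of A)).obj Qm) a = 0
    rw [e2, comp_zero]
  obtain ⟨f', hf'⟩ := hfac f hf
  have h1 : ((moduleSpecΓFunctor (R := CommRingCat.of A)).map f).hom y = 0 := by
    have e : (moduleSpecΓFunctor (R := CommRingCat.of A)).map f =
        (moduleSpecΓFunctor (R := CommRingCat.of A)).map g ≫
          (moduleSpecΓFunctor (R := CommRingCat.of A)).map f' := by
      rw [← Functor.map_comp, hf']
    rw [e]
    change ((moduleSpecΓFunctor (R := CommRingCat.of A)).map f').hom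
      (((moduleSpecΓFunctor (R := CommRingCat.of A)).map g).hom y) = 0
    rw [LinearMap.mem_ker.1 hy, map_zero]
  -- Γ(f) = qm ≫ unit
  have htri := (tilde.adjunction (R := CommRingCat.of A)).right_triangle_components P
  have e1 : (moduleSpecΓFunctor (R := CommRingCat.of A)).map
      (inv ((tilde.adjunction (R := CommRingCat.of A)).counit.app P)) =
      (tilde.adjunction (R := CommRingCat.of A)).unit.app
        ((moduleSpecΓFunctor (R := CommRingCat.of A)).obj P) := by
    rw [Functor.map_inv]
    exact IsIso.inv_eq_of_inv_hom_id htri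
  have e2 : (moduleSpecΓFunctor (R := CommRingCat.of A)).map f =
      qm ≫ (tilde.adjunction (R := CommRingCat.of A)).unit.app Qm := by
    have hn := (tilde.adjunction (R := CommRingCat.of A)).unit.naturality qm
    rw [Functor.map_comp, e1]
    exact hn.symm
  rw [e2] at h1
  have h2 : ((tilde.adjunction (R := CommRingCat.of A)).unit.app Qm).hom (qm.hom y) = 0 := h1
  haveI : IsIso ((tilde.adjunction (R := CommRingCat.of A)).unit.app Qm) :=
    inferInstanceAs (IsIso ((tilde.toTildeΓNatIso (R := CommRingCat.of A)).hom.app Qm))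
  have e3 : ((tilde.adjunction (R := CommRingCat.of A)).unit.app Qm ≫
      inv ((tilde.adjunction (R := CommRingCat.of A)).unit.app Qm)).hom (qm.hom y) =
      (inv ((tilde.adjunction (R := CommRingCat.of A)).unit.app Qm)).hom 0 :=
    congrArg (fun z => (inv ((tilde.adjunction (R := CommRingCat.of A)).unit.app Qm)).hom z) h2
  rw [IsIso.hom_inv_id, map_zero] at e3
  exact e3

end C1

end Groth.Agent.Lib.Helper12.H12AZ
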