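import Mathlib
import Groth.Prelude.Def_Algz
import Groth.Agent.Lib.Helper12.AZ5
import Groth.Agent.Lib.Helper12.LT1

/-! # The limit topology of a system pro-isomorphic to an `I`-adic tower -/

set_option autoImplicit false
universe u

open CategoryTheory CategoryTheory.Limits AlgebraicGeometry Opposite

namespace Groth.Agent.Lib.Helper12.H12AZ

open Groth.Agent.Lib.Helper12.H12LT

section alg

variable {A : Type u} [CommRing A]

lemma towerLim_tr (N : ℕᵒᵖ ⥤ ModuleCat.{u} A)
    (z : towerLim (fun k => (N.map (homOfLE (Nat.le_succ k)).op).hom)) :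
    ∀ (d i : ℕ), (N.map (homOfLE (Nat.le_add_right i d)).op).hom (z.1 (i + d)) = z.1 i := by
  intro d
  induction d with
  | zero =>
    intro i
    have e : N.map (homOfLE (Nat.le_add_right i 0)).op = 𝟙 _ := N.map_id _
    rw [e]
    rfl
  | succ d ih =>
    intro i
    have h1 := z.2 (i + d)
    have h2 := ih i
    rw [← h2, ← h1]
    exact (tr_tr N (Nat.le_succ (i + d)) (Nat.le_add_right i d) (z.1 (i + d + 1))).symm

lemma towerLim_tr' (N : ℕᵒᵖ ⥤ ModuleCat.{u} A)
    (z : towerLim (fun k => (N.map (homOfLE (Nat.le_succ k)).op).hom)) (i i' : ℕ) (h : i ≤ i') :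
    (N.map (homOfLE h).op).hom (z.1 i') = z.1 i := by
  obtain ⟨d, rfl⟩ := Nat.exists_eq_add_of_le h
  exact towerLim_tr N z d i

theorem ker_le_of_proIso (H N : ℕᵒᵖ ⥤ ModuleCat.{u} A) (I : Ideal A) (hI : I.FG)
    (hpro : Algz.IsProIsomorphic H N)
    (hN : ∀ (n k : ℕ) (h : n ≤ k), Function.Surjective (N.map (homOfLE h).op).hom)
    (hkill : ∀ k, ∀ a ∈ I ^ (k + 1), ∀ y : N.obj (op k), a • y = 0)
    (hker : ∀ k, LinearMap.ker (N.map (homOfLE (Nat.le_succ k)).op).hom ≤
      (I ^ (k + 1) • ⊤ : Submodule A (N.obj (op (k + 1)))))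
    (k : ℕ) : ∃ n : ℕ, LinearMap.ker (limit.π H (op n)).hom ≤
      (I ^ k • ⊤ : Submodule A (limit H : ModuleCat.{u} A)) := by
  obtain ⟨m, hm, hle, a, ha⟩ := hpro
  cases k with
  | zero =>
    refine ⟨0, fun x _ => ?_⟩
    rw [pow_zero, Ideal.one_eq_top, Submodule.top_smul]
    trivial
  | succ n =>
  refine ⟨m n, ?_⟩
  -- elementwise data
  have hnat : ∀ (j j' : ℕ) (h : j ≤ j') (x : H.obj (op (m j'))),
      (N.map (homOfLE h).op).hom ((a.app (op j')).hom x) =
        (a.app (op j)).hom ((H.map (homOfLE (hm h)).op).hom x) := by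
    intro j j' h x
    have e := a.naturality (homOfLE h).op
    exact (congrArg (fun φ : (DerCA.reindex H hm).obj (op j') ⟶ N.obj (op j) => φ.hom x) e).symm
  choose kk hkk b hb1 hb2 using ha
  have hb1' : ∀ j (x : H.obj (op (m (kk j)))),
      (b j).hom ((a.app (op (kk j))).hom x) = (H.map (homOfLE (hm (hkk j))).op).hom x := fun j x =>
    congrArg (fun φ : (DerCA.reindex H hm).obj (op (kk j)) ⟶
      (DerCA.reindex H hm).obj (op j) => φ.hom x) (hb1 j)
  have hb2' : ∀ j (y : N.obj (op (kk j))),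
      (a.app (op j)).hom ((b j).hom y) = (N.map (homOfLE (hkk j)).op).hom y := fun j y =>
    congrArg (fun φ : N.obj (op (kk j)) ⟶ N.obj (op j) => φ.hom y) (hb2 j)
  -- the tower
  let t : ∀ k, N.obj (op (k + 1)) →ₗ[A] N.obj (op k) := fun k =>
    (N.map (homOfLE (Nat.le_succ k)).op).hom
  have hs : ∀ k, Function.Surjective (t k) := fun k => hN k (k + 1) (Nat.le_succ k)
  -- key identity
  have key : ∀ (j L : ℕ) (hL : kk j ≤ L) (z : towerLim (M := fun k => (N.obj (op k) : Type u)) t),
      (H.map (homOfLE (hm ((hkk j).trans hL))).op).hom ((b L).hom (z.1 (kk L))) =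
        (b j).hom (z.1 (kk j)) := by
    intro j L hL z
    have e1 : z.1 (kk j) = (N.map (homOfLE hL).op).hom ((N.map (homOfLE (hkk L)).op).hom
        (z.1 (kk L))) := by
      rw [tr_tr, towerLim_tr' N z (kk j) (kk L) (hL.trans (hkk L))]
    rw [e1, ← hb2' L, hnat (kk j) L hL, hb1', tr_tr]
  -- φ
  let φl : (limit H : ModuleCat.{u} A) →ₗ[A] towerLim (M := fun k => (N.obj (op k) : Type u)) t :=
    LinearMap.codRestrict (towerLim (M := fun k => (N.obj (op k) : Type u)) t)
      (LinearMap.pi fun k => (a.app (op k)).hom ∘ₗ (limit.π H (op (m k))).hom) (by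
        intro x k
        change (N.map (homOfLE (Nat.le_succ k)).op).hom
            ((a.app (op (k + 1))).hom ((limit.π H (op (m (k + 1)))).hom x)) =
          (a.app (op k)).hom ((limit.π H (op (m k))).hom x)
        rw [hnat k (k + 1) (Nat.le_succ k)]
        have e := limit.w H (homOfLE (hm (Nat.le_succ k))).op
        have e' : (H.map (homOfLE (hm (Nat.le_succ k))).op).hom
            ((limit.π H (op (m (k + 1)))).hom x) = (limit.π H (op (m k))).hom x :=
          congrArg (fun φ : limit H ⟶ H.obj (op (m k)) => φ.hom x) e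
        rw [e'])
  -- the cone
  let c : (Functor.const ℕᵒᵖ).obj (ModuleCat.of A (towerLim (M := fun k => (N.obj (op k) : Type u)) t)) ⟶ H := NatTrans.ofOpSequence
    (fun j => ModuleCat.ofHom ((H.map (homOfLE (hle j)).op).hom ∘ₗ (b j).hom ∘ₗ pr (M := fun k => (N.obj (op k) : Type u)) t (kk j))) (by
      intro j
      rw [Functor.const_obj_map]
      refine (Category.id_comp _).trans ?_
      apply ModuleCat.hom_ext
      apply LinearMap.ext
      intro z
      change (H.map (homOfLE (hle j)).op).hom ((b j).hom (z.1 (kk j))) =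
        (H.map (homOfLE (j.le_add_right 1)).op).hom
          ((H.map (homOfLE (hle (j + 1))).op).hom ((b (j + 1)).hom (z.1 (kk (j + 1)))))
      have k1 := key j (max (kk j) (kk (j + 1))) (le_max_left _ _) z
      have k2 := key (j + 1) (max (kk j) (kk (j + 1))) (le_max_right _ _) z
      rw [← k1, ← k2, tr_tr, tr_tr, tr_tr])
  let ψ : ModuleCat.of A (towerLim (M := fun k => (N.obj (op k) : Type u)) t) ⟶ limit H := limit.lift H ⟨ModuleCat.of A (towerLim (M := fun k => (N.obj (op k) : Type u)) t), c⟩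
  have hψφ : ∀ x : (limit H : ModuleCat.{u} A), ψ.hom (φl x) = x := by
    intro x
    apply Concrete.limit_ext H
    intro j
    have e1 := limit.lift_π (⟨ModuleCat.of A (towerLim (M := fun k => (N.obj (op k) : Type u)) t), c⟩ : Cone H) j
    have e2 : (limit.π H j).hom (ψ.hom (φl x)) = (c.app j).hom (φl x) :=
      congrArg (fun φ : ModuleCat.of A (towerLim (M := fun k => (N.obj (op k) : Type u)) t) ⟶ H.obj j => φ.hom (φl x)) e1
    refine e2.trans ?_
    change (H.map (homOfLE (hle j.unop)).op).hom ((b j.unop).hom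
      ((a.app (op (kk j.unop))).hom ((limit.π H (op (m (kk j.unop)))).hom x))) = _
    rw [hb1', tr_tr]
    have e := limit.w H (homOfLE ((hkk j.unop).trans (hle (kk j.unop)))).op
    exact congrArg (fun φ : limit H ⟶ H.obj (op j.unop) => φ.hom x) e
  intro x hx
  have h0 : pr (M := fun k => (N.obj (op k) : Type u)) t n (φl x) = 0 := by
    change (a.app (op n)).hom ((limit.π H (op (m n))).hom x) = 0
    rw [LinearMap.mem_ker.1 hx]
    exact map_zero (a.app (op n)).hom
  have h1 := mem_smul_top_of_pr_eq_zero (M := fun k => (N.obj (op k) : Type u)) I t hkill hI hs (fun k => hker k) n (φl x) h0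
  rw [← hψφ x]
  have h2 : ψ.hom (φl x) ∈ Submodule.map ψ.hom
      (I ^ (n + 1) • ⊤ : Submodule A (towerLim (M := fun k => (N.obj (op k) : Type u)) t)) := ⟨_, h1, rfl⟩
  rw [Submodule.map_smul''] at h2
  exact Submodule.smul_mono le_rfl le_top h2

end alg

end Groth.Agent.Lib.Helper12.H12AZ
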