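import Mathlib
import Groth.Prelude.Def_Algz
import Groth.Agent.Lib.Helper12.AZ7

/-! # From (ML), (topology) to a pro-isomorphism with the `I`-adic system of the limit (modules) -/

set_option autoImplicit false
universe u

open CategoryTheory CategoryTheory.Limits AlgebraicGeometry Opposite

namespace Groth.Agent.Lib.Helper12.H12AZ

section alg

variable {A : Type u} [CommRing A]

lemma exists_linear_of_ker_le_of_range_le {M P Q R : Type u} [AddCommGroup M] [Module A M]
    [AddCommGroup P] [Module A P] [AddCommGroup Q] [Module A Q] [AddCommGroup R] [Module A R]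
    (φ : M →ₗ[A] P) (ψ : M →ₗ[A] Q) (θ : R →ₗ[A] P)
    (hker : LinearMap.ker φ ≤ LinearMap.ker ψ) (hrange : ∀ r, ∃ x, φ x = θ r) :
    ∃ α : R →ₗ[A] Q, ∀ r x, φ x = θ r → α r = ψ x := by
  let θ' : R →ₗ[A] LinearMap.range φ := θ.codRestrict (LinearMap.range φ) (fun r => by
    obtain ⟨x, hx⟩ := hrange r
    exact ⟨x, hx⟩)
  let ψ' : (M ⧸ LinearMap.ker φ) →ₗ[A] Q := (LinearMap.ker φ).liftQ ψ hker
  refine ⟨ψ' ∘ₗ φ.quotKerEquivRange.symm.toLinearMap ∘ₗ θ', fun r x hx => ?_⟩
  have e : φ.quotKerEquivRange (Submodule.Quotient.mk x) = θ' r := by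
    apply Subtype.ext
    rw [LinearMap.quotKerEquivRange_apply_mk]
    exact hx
  change ψ' (φ.quotKerEquivRange.symm (θ' r)) = ψ x
  rw [← e, LinearEquiv.symm_apply_apply]
  rfl

variable (H : ℕᵒᵖ ⥤ ModuleCat.{u} A) (I : Ideal A)

/-- `M / I^(n+1) M` for `M = lim H` -/
abbrev Qn (n : ℕ) : Type u :=
  (limit H : ModuleCat.{u} A) ⧸ (I ^ (n + 1) • ⊤ : Submodule A (limit H : ModuleCat.{u} A))

lemma π_tr {i j : ℕ} (h : i ≤ j) (x : (limit H : ModuleCat.{u} A)) :
    (H.map (homOfLE h).op).hom ((limit.π H (op j)).hom x) = (limit.π H (op i)).hom x :=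
  congrArg (fun φ : limit H ⟶ H.obj (op i) => φ.hom x) (limit.w H (homOfLE h).op)

theorem exists_module_data (hML : ARSys.IsML H)
    (hb : ∀ k : ℕ, ∃ n : ℕ, LinearMap.ker (limit.π H (op n)).hom ≤
      (I ^ k • ⊤ : Submodule A (limit H : ModuleCat.{u} A)))
    (hkill : ∀ j, ∀ a ∈ I ^ (j + 1), ∀ y : H.obj (op j), a • y = 0) :
    ∃ (m : ℕ → ℕ) (_ : Monotone m) (hle : ∀ n, n ≤ m n)
      (α : ∀ n, H.obj (op (m n)) →ₗ[A] Qn H I n),
      (∀ n (x : (limit H : ModuleCat.{u} A)),
        α n ((limit.π H (op (m n))).hom x) = Submodule.Quotient.mk x) ∧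
      (∀ n (h : H.obj (op (m (n + 1)))) (x : (limit H : ModuleCat.{u} A)),
        α (n + 1) h = Submodule.Quotient.mk x →
          α n ((H.map (homOfLE (‹Monotone m› (Nat.le_succ n))).op).hom h) =
            Submodule.Quotient.mk x) ∧
      (∀ n (h : H.obj (op (m (m n)))) (x : (limit H : ModuleCat.{u} A)),
        α (m n) h = Submodule.Quotient.mk x →
          (limit.π H (op (m n))).hom x = (H.map (homOfLE (‹Monotone m› (hle n))).op).hom h) ∧
      (∀ n, ∃ j, ∃ f : (limit H : ModuleCat.{u} A) ⧸ LinearMap.ker (limit.π H (op j)).hom →ₗ[A]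
        Qn H I n, Function.Surjective f) := by
  choose nb hnb using hb
  choose m₀ hm₀ hlift₀ using fun j => exists_limit_lift_of_isML H hML j
  let n' : ℕ → ℕ := fun n => (Finset.range (n + 1)).sup (fun i => max i (nb (i + 1)))
  have hn'mono : Monotone n' := fun a b hab =>
    Finset.sup_mono (Finset.range_mono (Nat.succ_le_succ hab))
  have hn'1 : ∀ n, n ≤ n' n := fun n =>
    (le_max_left n (nb (n + 1))).trans
      (Finset.le_sup (f := fun i => max i (nb (i + 1))) (Finset.self_mem_range_succ n))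
  have hn'2 : ∀ n, nb (n + 1) ≤ n' n := fun n =>
    (le_max_right n (nb (n + 1))).trans
      (Finset.le_sup (f := fun i => max i (nb (i + 1))) (Finset.self_mem_range_succ n))
  let m : ℕ → ℕ := fun n => (Finset.range (n + 1)).sup (fun i => m₀ (n' i))
  have hmmono : Monotone m := fun a b hab =>
    Finset.sup_mono (Finset.range_mono (Nat.succ_le_succ hab))
  have hm1 : ∀ n, m₀ (n' n) ≤ m n := fun n =>
    Finset.le_sup (f := fun i => m₀ (n' i)) (Finset.self_mem_range_succ n)
  have hn'm : ∀ n, n' n ≤ m n := fun n => (hm₀ (n' n)).trans (hm1 n)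
  have hle : ∀ n, n ≤ m n := fun n => (hn'1 n).trans (hn'm n)
  -- kernel monotonicity
  have hkermono : ∀ {i j : ℕ} (_ : i ≤ j), LinearMap.ker (limit.π H (op j)).hom ≤
      LinearMap.ker (limit.π H (op i)).hom := by
    intro i j hij x hx
    rw [LinearMap.mem_ker] at hx ⊢
    rw [← π_tr H hij, hx, map_zero]
  have hbn : ∀ n, LinearMap.ker (limit.π H (op (n' n))).hom ≤
      (I ^ (n + 1) • ⊤ : Submodule A (limit H : ModuleCat.{u} A)) := fun n =>
    (hkermono (hn'2 n)).trans (hnb (n + 1))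
  have hliftn : ∀ n (y : H.obj (op (m n))), ∃ ξ : (limit H : ModuleCat.{u} A),
      (limit.π H (op (n' n))).hom ξ = (H.map (homOfLE (hn'm n)).op).hom y := by
    intro n y
    obtain ⟨ξ, hξ⟩ := hlift₀ (n' n) ((H.map (homOfLE (hm1 n)).op).hom y)
    refine ⟨ξ, ?_⟩
    rw [hξ, tr_tr]
  have hαex : ∀ n, ∃ α : H.obj (op (m n)) →ₗ[A] Qn H I n, ∀ (h : H.obj (op (m n)))
      (x : (limit H : ModuleCat.{u} A)),
      (limit.π H (op (n' n))).hom x = (H.map (homOfLE (hn'm n)).op).hom h →
        α h = Submodule.Quotient.mk x := by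
    intro n
    obtain ⟨α, hα⟩ := exists_linear_of_ker_le_of_range_le (limit.π H (op (n' n))).hom
      (Submodule.mkQ (I ^ (n + 1) • ⊤ : Submodule A (limit H : ModuleCat.{u} A)))
      (H.map (homOfLE (hn'm n)).op).hom
      (by rw [Submodule.ker_mkQ]; exact hbn n) (hliftn n)
    exact ⟨α, fun h x hx => hα h x hx⟩
  choose α hα using hαex
  refine ⟨m, hmmono, hle, α, ?_, ?_, ?_, ?_⟩
  · intro n x
    exact hα n _ x (π_tr H (hn'm n) x).symm
  · intro n h x hx
    obtain ⟨x₀, hx₀⟩ := hliftn (n + 1) h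
    have e1 := hα (n + 1) h x₀ hx₀
    have e2 : α n ((H.map (homOfLE (hmmono (Nat.le_succ n))).op).hom h) =
        Submodule.Quotient.mk x₀ := by
      apply hα n
      rw [tr_tr, ← π_tr H (hn'mono (Nat.le_succ n)) x₀, hx₀, tr_tr]
    rw [e2]
    have e3 : (Submodule.Quotient.mk x₀ : Qn H I (n + 1)) = Submodule.Quotient.mk x :=
      e1.symm.trans hx
    rw [Submodule.Quotient.eq] at e3 ⊢
    exact Submodule.smul_mono_left (Ideal.pow_le_pow_right (Nat.le_succ (n + 1))) e3
  · intro n h x hx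
    obtain ⟨x₀, hx₀⟩ := hliftn (m n) h
    have e1 := hα (m n) h x₀ hx₀
    have e3 : (Submodule.Quotient.mk x₀ : Qn H I (m n)) = Submodule.Quotient.mk x :=
      e1.symm.trans hx
    rw [Submodule.Quotient.eq] at e3
    have e4 : (limit.π H (op (m n))).hom (x₀ - x) = 0 := by
      refine Submodule.smul_induction_on e3 ?_ ?_
      · intro a ha z _
        rw [map_smul]
        exact hkill (m n) a ha _
      · intro z w hz hw
        rw [map_add, hz, hw, add_zero]
    rw [map_sub, sub_eq_zero] at e4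
    rw [← e4, ← π_tr H (hn'1 (m n)) x₀, hx₀, tr_tr]
  · intro n
    refine ⟨n' n, Submodule.mapQ _ _ LinearMap.id (by
      intro x hx
      exact hbn n hx), ?_⟩
    intro q
    obtain ⟨x, rfl⟩ := Submodule.Quotient.mk_surjective _ q
    exact ⟨Submodule.Quotient.mk x, rfl⟩

end alg

end Groth.Agent.Lib.Helper12.H12AZ
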