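import Mathlib
import Groth.Prelude.Def_Algz
import Groth.Agent.Lib.Helper12.AZ6
import Groth.Agent.Lib.Helper12.AZ8
import Groth.Agent.Lib.Helper29.TildeFin

/-! # The `I`-adic system of `M~` on `Spec A` and systems of modules pro-isomorphic to it -/

set_option autoImplicit false
universe u

open CategoryTheory CategoryTheory.Limits AlgebraicGeometry Opposite

namespace Groth.Agent.Lib.Helper12.H12AZ

open Groth.Agent.Lib.Helper12.H12FF Groth.Agent.Lib.Lead.FormalSys

section sheaf

variable (A : Type u) [CommRing A]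

/-- `Spec A` over itself by the identity -/
noncomputable local instance (priority := 5000) selfOver9 :
    (Spec (CommRingCat.of A)).Over (Spec (CommRingCat.of A)) := ⟨𝟙 _⟩

lemma exists_desc_mkQ {M N : ModuleCat.{u} A} (J : Ideal A) (g : M ⟶ N)
    (hk : (J • ⊤ : Submodule A M) ≤ LinearMap.ker g.hom) :
    ∃ g' : ModuleCat.of A (M ⧸ (J • ⊤ : Submodule A M)) ⟶ N,
      ModuleCat.ofHom (Submodule.mkQ (J • ⊤ : Submodule A M)) ≫ g' = g := by
  refine ⟨ModuleCat.ofHom ((J • ⊤ : Submodule A M).liftQ g.hom hk), ?_⟩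
  apply ModuleCat.hom_ext
  apply LinearMap.ext
  intro x
  rfl

/-- tilde of the quotient map `M → M/JM` is a quotient by `J` -/
lemma isModQuot_tilde_mkQ (J : Ideal A) (M : ModuleCat.{u} A) :
    IsModQuot J ((tilde.functor (CommRingCat.of A)).map
      (ModuleCat.ofHom (Submodule.mkQ (J • ⊤ : Submodule A M)))) := by
  have hQ : ∀ a ∈ J, ∀ q : ModuleCat.of A (M ⧸ (J • ⊤ : Submodule A M)), a • q = 0 := by
    intro a ha q
    obtain ⟨n, rfl⟩ := Submodule.mkQ_surjective _ q
    rw [← map_smul, Submodule.mkQ_apply, Submodule.Quotient.mk_eq_zero]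
    exact Submodule.smul_mem_smul ha trivial
  refine ⟨?_, ?_, ?_⟩
  · haveI : Epi (ModuleCat.ofHom (Submodule.mkQ (J • ⊤ : Submodule A M))) :=
      (ModuleCat.epi_iff_surjective _).2 (Submodule.mkQ_surjective _)
    haveI : (tilde.functor (CommRingCat.of A)).PreservesEpimorphisms :=
      (tilde.functor (CommRingCat.of A)).preservesEpimorphisms_of_adjunction tilde.adjunction
    infer_instance
  · intro a ha
    rw [← Groth.Agent.Lib.Helper9.FormalBase.comp_smulMod]
    have e := sm_tilde_eq_zero A (ModuleCat.of A (M ⧸ (J • ⊤ : Submodule A M))) a (hQ a ha)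
    change _ ≫ sm A _ a = 0
    rw [e, comp_zero]
  · intro T' f hf
    have hk : (J • ⊤ : Submodule A M) ≤ LinearMap.ker
        (((tilde.adjunction (R := CommRingCat.of A)).homEquiv M T') f).hom := by
      rw [Submodule.smul_le]
      intro a ha x _
      refine LinearMap.mem_ker.2 ?_
      refine (LinearMap.map_smul
        (((tilde.adjunction (R := CommRingCat.of A)).homEquiv M T') f).hom a x).trans ?_
      have e0 : f ≫ sm A T' a = 0 := by
        have := Groth.Agent.Lib.Helper9.FormalBase.comp_smulMod (A := A) f a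
        exact this.trans (hf a ha)
      have e1 : ((moduleSpecΓFunctor (R := CommRingCat.of A)).map (f ≫ sm A T' a)).hom
          (((tilde.adjunction (R := CommRingCat.of A)).unit.app M).hom x) =
          a • (((tilde.adjunction (R := CommRingCat.of A)).homEquiv M T') f).hom x := by
        rw [Functor.map_comp, Adjunction.homEquiv_unit]
        exact Γ_map_sm A T' a _
      rw [e0] at e1
      exact e1.symm.trans rfl
    obtain ⟨g', hg'⟩ := exists_desc_mkQ A J
      (((tilde.adjunction (R := CommRingCat.of A)).homEquiv M T') f) hk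
    refine ⟨((tilde.adjunction (R := CommRingCat.of A)).homEquiv _ T').symm g', ?_⟩
    rw [← Adjunction.homEquiv_naturality_left_symm, hg', Equiv.symm_apply_apply]

variable (I : Ideal A) (M : ModuleCat.{u} A)

lemma exists_ρ (n : ℕ) : ∃ ρ : (tilde.functor (CommRingCat.of A)).obj
      (ModuleCat.of A (M ⧸ (I ^ (n + 1) • ⊤ : Submodule A M))) ⟶
      Formal.modPow I (n + 1) ((tilde.functor (CommRingCat.of A)).obj M),
    (tilde.functor (CommRingCat.of A)).map
      (ModuleCat.ofHom (Submodule.mkQ (I ^ (n + 1) • ⊤ : Submodule A M))) ≫ ρ =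
      Formal.modPowπ I (n + 1) ((tilde.functor (CommRingCat.of A)).obj M) :=
  (isModQuot_tilde_mkQ A (I ^ (n + 1)) M).fac _
    (isModQuot_modPowπ I (n + 1) ((tilde.functor (CommRingCat.of A)).obj M)).zero

/-- the `I`-adic system of `M~` is a coherent formal module when all `M/I^(n+1)M` are finite -/
theorem isCohFormal_completion_tilde
    (hfin : ∀ n, Module.Finite A (M ⧸ (I ^ (n + 1) • ⊤ : Submodule A M))) :
    Formal.IsCohFormal I (Formal.completion I ((tilde.functor (CommRingCat.of A)).obj M)) := by
  refine ⟨fun n => ?_, fun n => ?_, fun n => ?_⟩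
  · show Coh.IsCoh (Formal.modPow I (n + 1) ((tilde.functor (CommRingCat.of A)).obj M))
    haveI : ((tilde.functor (CommRingCat.of A)).obj M).IsQuasicoherent :=
      inferInstanceAs (tilde (R := CommRingCat.of A) M).IsQuasicoherent
    haveI : (Formal.modPow I (n + 1) ((tilde.functor (CommRingCat.of A)).obj M)).IsQuasicoherent :=
      inferInstanceAs (cokernel (Formal.smulFamily (I ^ (n + 1))
        ((tilde.functor (CommRingCat.of A)).obj M))).IsQuasicoherent
    obtain ⟨ρ, hρ⟩ := exists_ρ A I M n
    haveI : Epi ρ := by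
      haveI : Epi ((tilde.functor (CommRingCat.of A)).map
        (ModuleCat.ofHom (Submodule.mkQ (I ^ (n + 1) • ⊤ : Submodule A M))) ≫ ρ) := by
        rw [hρ]
        exact (isModQuot_modPowπ I (n + 1) _).epi
      exact epi_of_epi ((tilde.functor (CommRingCat.of A)).map
        (ModuleCat.ofHom (Submodule.mkQ (I ^ (n + 1) • ⊤ : Submodule A M)))) ρ
    haveI : Module.Finite (CommRingCat.of A)
        (ModuleCat.of A (M ⧸ (I ^ (n + 1) • ⊤ : Submodule A M))) := hfin n
    haveI : ((tilde.functor (CommRingCat.of A)).obj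
        (ModuleCat.of A (M ⧸ (I ^ (n + 1) • ⊤ : Submodule A M)))).IsFiniteType :=
      Groth.Agent.Lib.Helper29.QCoh.isFiniteType_tilde (R := CommRingCat.of A)
        (ModuleCat.of A (M ⧸ (I ^ (n + 1) • ⊤ : Submodule A M)))
    haveI : ((tilde.functor (CommRingCat.of A)).obj
        (ModuleCat.of A (M ⧸ (I ^ (n + 1) • ⊤ : Submodule A M)))).IsQuasicoherent :=
      inferInstanceAs (tilde (R := CommRingCat.of A)
        (ModuleCat.of A (M ⧸ (I ^ (n + 1) • ⊤ : Submodule A M)))).IsQuasicoherent
    exact ⟨inferInstance, Groth.Agent.Lib.Helper29.QCoh.isFiniteType_of_epi ρ⟩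
  · intro a ha
    exact smulMod_modPow_eq_zero I (n + 1) _ a ha
  · have e : (Formal.completion I ((tilde.functor (CommRingCat.of A)).obj M)).map
        (homOfLE (Nat.le_succ n)).op =
        Formal.modPowTrans I (n + 1) ((tilde.functor (CommRingCat.of A)).obj M) := by
      unfold Formal.completion
      exact Functor.ofOpSequence_map_homOfLE_succ _ n
    have hq := isModQuot_modPowTrans I (n + 1) ((tilde.functor (CommRingCat.of A)).obj M)
    rw [← e] at hq
    exact ⟨(smulFamily_comp_eq_zero_iff _ _).2 hq.zero, hq.isIso_desc⟩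

end sheaf

end Groth.Agent.Lib.Helper12.H12AZ
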