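import Mathlib
import Groth.Prelude.Def_Algz
import Groth.Agent.Lib.Helper12.AZ9

/-! # (ML) + (topology) ⟹ the system `(H_n~)` is pro-isomorphic to the `I`-adic system of `(lim H)~` -/

set_option autoImplicit false
universe u

open CategoryTheory CategoryTheory.Limits AlgebraicGeometry Opposite

namespace Groth.Agent.Lib.Helper12.H12AZ

open Groth.Agent.Lib.Helper12.H12FF Groth.Agent.Lib.Lead.FormalSys

section sheaf

variable (A : Type u) [CommRing A]

/-- `Spec A` over itself by the identity -/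
noncomputable local instance (priority := 5000) selfOver10 :
    (Spec (CommRingCat.of A)).Over (Spec (CommRingCat.of A)) := ⟨𝟙 _⟩

theorem finite_Qn (H : ℕᵒᵖ ⥤ ModuleCat.{u} A) (I : Ideal A) (hML : ARSys.IsML H)
    (hb : ∀ k : ℕ, ∃ n : ℕ, LinearMap.ker (limit.π H (op n)).hom ≤
      (I ^ k • ⊤ : Submodule A (limit H : ModuleCat.{u} A)))
    (hkill : ∀ j, ∀ a ∈ I ^ (j + 1), ∀ y : H.obj (op j), a • y = 0)
    (hc : ∀ n, Module.Finite A (LinearMap.range (limit.π H (op n)).hom)) (n : ℕ) :
    Module.Finite A ((limit H : ModuleCat.{u} A) ⧸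
      (I ^ (n + 1) • ⊤ : Submodule A (limit H : ModuleCat.{u} A))) := by
  obtain ⟨m, hm, hle, α, -, -, -, h4⟩ := exists_module_data H I hML hb hkill
  obtain ⟨j, f, hf⟩ := h4 n
  haveI := hc j
  haveI : Module.Finite A ((limit H : ModuleCat.{u} A) ⧸ LinearMap.ker (limit.π H (op j)).hom) :=
    Module.Finite.equiv (LinearMap.quotKerEquivRange (limit.π H (op j)).hom).symm
  exact Module.Finite.of_surjective f hf

theorem isProIsomorphic_tilde_completion (H : ℕᵒᵖ ⥤ ModuleCat.{u} A) (I : Ideal A)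
    (hML : ARSys.IsML H)
    (hb : ∀ k : ℕ, ∃ n : ℕ, LinearMap.ker (limit.π H (op n)).hom ≤
      (I ^ k • ⊤ : Submodule A (limit H : ModuleCat.{u} A)))
    (hkill : ∀ j, ∀ a ∈ I ^ (j + 1), ∀ y : H.obj (op j), a • y = 0) :
    Algz.IsProIsomorphic (H ⋙ tilde.functor (CommRingCat.of A))
      (Formal.completion I ((tilde.functor (CommRingCat.of A)).obj (limit H))) := by
  obtain ⟨m, hm, hle, α, h1, h3, h2, -⟩ := exists_module_data H I hML hb hkill
  let M : ModuleCat.{u} A := limit H
  let T := tilde.functor (CommRingCat.of A)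
  let F := T.obj M
  let Q : ℕ → ModuleCat.{u} A := fun n =>
    ModuleCat.of A (M ⧸ (I ^ (n + 1) • ⊤ : Submodule A M))
  let qm : ∀ n, M ⟶ Q n := fun n => ModuleCat.ofHom (Submodule.mkQ _)
  let αc : ∀ n, H.obj (op (m n)) ⟶ Q n := fun n => ModuleCat.ofHom (α n)
  choose ρ hρ using exists_ρ A I M
  have hqepi : ∀ n, Epi (T.map (qm n)) := fun n => (isModQuot_tilde_mkQ A (I ^ (n + 1)) M).epi
  have i1 : ∀ n, limit.π H (op (m n)) ≫ αc n = qm n := by
    intro n
    apply ModuleCat.hom_ext
    apply LinearMap.ext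
    intro x
    exact h1 n x
  let red : ∀ n, Q (n + 1) ⟶ Q n := fun n => ModuleCat.ofHom
    (Submodule.mapQ _ _ LinearMap.id (by
      intro x hx
      exact Submodule.smul_mono_left (Ideal.pow_le_pow_right (Nat.le_succ (n + 1))) hx))
  have hred : ∀ n, qm (n + 1) ≫ red n = qm n := by
    intro n
    apply ModuleCat.hom_ext
    apply LinearMap.ext
    intro x
    rfl
  have i3 : ∀ n, H.map (homOfLE (hm (Nat.le_succ n))).op ≫ αc n = αc (n + 1) ≫ red n := by
    intro n
    apply ModuleCat.hom_ext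
    apply LinearMap.ext
    intro h
    obtain ⟨x, hx⟩ := Submodule.Quotient.mk_surjective _ (α (n + 1) h)
    change α n ((H.map (homOfLE (hm (Nat.le_succ n))).op).hom h) = (red n).hom (α (n + 1) h)
    rw [h3 n h x hx.symm, ← hx]
    rfl
  have hρred : ∀ n, T.map (red n) ≫ ρ n = ρ (n + 1) ≫ Formal.modPowTrans I (n + 1) F := by
    intro n
    haveI := hqepi (n + 1)
    rw [← cancel_epi (T.map (qm (n + 1)))]
    rw [← Category.assoc, ← T.map_comp, hred, hρ, ← Category.assoc, hρ, Formal.modPowπ_trans]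
  let a : DerCA.reindex (H ⋙ T) hm ⟶ Formal.completion I F := NatTrans.ofOpSequence
    (fun n => T.map (αc n) ≫ ρ n) (by
      intro n
      have e : (Formal.completion I F).map (homOfLE (n.le_add_right 1)).op =
          Formal.modPowTrans I (n + 1) F := by
        unfold Formal.completion
        rw [Functor.ofOpSequence_map_homOfLE_succ]
      rw [e]
      change T.map (H.map (homOfLE (hm (Nat.le_succ n))).op) ≫ (T.map (αc n) ≫ ρ n) =
        (T.map (αc (n + 1)) ≫ ρ (n + 1)) ≫ Formal.modPowTrans I (n + 1) F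
      rw [← Category.assoc, ← T.map_comp, i3, T.map_comp, Category.assoc, hρred, Category.assoc])
  refine ⟨m, hm, hle, a, ?_⟩
  intro n
  have hzero : ∀ c ∈ I ^ (m n + 1), Formal.smulMod A F c ≫ T.map (limit.π H (op (m n))) = 0 := by
    intro c hc
    rw [← Groth.Agent.Lib.Helper9.FormalBase.comp_smulMod]
    have e := sm_tilde_eq_zero A (H.obj (op (m n))) c (hkill (m n) c hc)
    change _ ≫ sm A _ c = 0
    rw [e, comp_zero]
  obtain ⟨b, hbb⟩ := (isModQuot_modPowπ I (m n + 1) F).fac _ hzero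
  refine ⟨m n, hle n, b, ?_, ?_⟩
  · change (T.map (αc (m n)) ≫ ρ (m n)) ≫ b = T.map (H.map (homOfLE (hm (hle n))).op)
    have hk : (I ^ (m n + 1) • ⊤ : Submodule A M) ≤
        LinearMap.ker (limit.π H (op (m n))).hom := by
      rw [Submodule.smul_le]
      intro c hc x _
      refine LinearMap.mem_ker.2 ?_
      rw [map_smul]
      exact hkill (m n) c hc _
    obtain ⟨ell, hell⟩ := exists_desc_mkQ A (I ^ (m n + 1)) (limit.π H (op (m n))) hk
    have e1 : ρ (m n) ≫ b = T.map ell := by
      haveI := hqepi (m n)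
      rw [← cancel_epi (T.map (qm (m n))), ← Category.assoc, hρ, hbb, ← T.map_comp, hell]
    have e2 : αc (m n) ≫ ell = H.map (homOfLE (hm (hle n))).op := by
      apply ModuleCat.hom_ext
      apply LinearMap.ext
      intro h
      obtain ⟨x, hx⟩ := Submodule.Quotient.mk_surjective _ (α (m n) h)
      change ell.hom (α (m n) h) = _
      rw [← hx]
      have e3 : ell.hom (Submodule.Quotient.mk x) = (limit.π H (op (m n))).hom x :=
        congrArg (fun φ : M ⟶ H.obj (op (m n)) => φ.hom x) hell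
      rw [e3]
      exact h2 n h x hx.symm
    rw [Category.assoc, e1, ← T.map_comp, e2]
  · change b ≫ (T.map (αc n) ≫ ρ n) = (Formal.completion I F).map (homOfLE (hle n)).op
    haveI := (isModQuot_modPowπ I (m n + 1) F).epi
    rw [← cancel_epi (Formal.modPowπ I (m n + 1) F), ← Category.assoc, hbb, ← Category.assoc,
      ← T.map_comp, i1, hρ]
    exact (modPowπ_completion_map I F (hle n)).symm

end sheaf

end Groth.Agent.Lib.Helper12.H12AZ
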