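import Mathlib
import Groth.Agent.Lib.Helper12.LT1

/-! # Limits of `I`-adic towers of finite modules over a complete ring are finite -/

set_option autoImplicit false
universe u

namespace Groth.Agent.Lib.Helper12.H12AZ

open Groth.Agent.Lib.Helper12.H12LT Submodule

section alg

variable {A : Type u} [CommRing A] (I : Ideal A)

lemma mem_smul_top_pi_iff {ι : Type} [Fintype ι] [DecidableEq ι] (J : Ideal A) (x : ι → A) :
    x ∈ (J • ⊤ : Submodule A (ι → A)) ↔ ∀ i, x i ∈ J := by
  constructor
  · intro hx i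
    have h1 : (LinearMap.proj i : (ι → A) →ₗ[A] A) x ∈
        Submodule.map (LinearMap.proj i : (ι → A) →ₗ[A] A) (J • ⊤ : Submodule A (ι → A)) :=
      ⟨x, hx, rfl⟩
    rw [Submodule.map_smul''] at h1
    have h2 : (J • (Submodule.map (LinearMap.proj i : (ι → A) →ₗ[A] A) ⊤) : Submodule A A) ≤ J := by
      rw [Submodule.smul_le]
      intro a ha b _
      exact J.mul_mem_right b ha
    exact h2 h1
  · intro hx
    have e : x = ∑ i, x i • (Pi.single i (1 : A) : ι → A) := by
      funext j
      simp [Finset.sum_apply, Pi.single_apply]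
    rw [e]
    exact Submodule.sum_mem _ (fun i _ => Submodule.smul_mem_smul (hx i) trivial)

instance isPrecomplete_pi {ι : Type} [Fintype ι] [DecidableEq ι] [IsPrecomplete I A] :
    IsPrecomplete I (ι → A) := by
  refine ⟨fun f hf => ?_⟩
  have hc : ∀ i, ∃ L : A, ∀ n, f n i ≡ L [SMOD (I ^ n • ⊤ : Submodule A A)] := by
    intro i
    apply IsPrecomplete.prec' (I := I) (fun n => f n i)
    intro m n hmn
    have h := hf hmn
    rw [SModEq.sub_mem] at h ⊢
    have h' := (mem_smul_top_pi_iff (I ^ m) _).1 h i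
    rw [smul_eq_mul, Ideal.mul_top]
    exact h'
  choose L hL using hc
  refine ⟨L, fun n => ?_⟩
  rw [SModEq.sub_mem, mem_smul_top_pi_iff]
  intro i
  have h := hL i n
  rw [SModEq.sub_mem, smul_eq_mul, Ideal.mul_top] at h
  exact h

variable {M : ℕ → Type u} [∀ k, AddCommGroup (M k)] [∀ k, Module A (M k)]
  (t : ∀ k, M (k + 1) →ₗ[A] M k)

theorem finite_towerLim [IsPrecomplete I A] (hI : I.FG)
    (hkill : ∀ k, ∀ a ∈ I ^ (k + 1), ∀ y : M k, a • y = 0)
    (hs : ∀ k, Function.Surjective (t k))
    (hker : ∀ k, LinearMap.ker (t k) ≤ (I ^ (k + 1) • ⊤ : Submodule A (M (k + 1))))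
    [Module.Finite A (M 0)] : Module.Finite A (towerLim t) := by
  obtain ⟨r, y, hy⟩ := Module.Finite.exists_fin (R := A) (M := M 0)
  choose x hx using fun i => pr_surjective t hs 0 (y i)
  let f : (Fin r → A) →ₗ[A] towerLim t := Fintype.linearCombination A x
  haveI : IsHausdorff I (towerLim t) := by
    refine ⟨fun z hz => ?_⟩
    apply ext_pr
    intro k
    have h := hz (k + 1)
    rw [SModEq.sub_mem, sub_zero] at h
    have h2 := smul_top_le_ker_pr I t hkill k h
    rw [LinearMap.mem_ker] at h2
    rw [h2, map_zero]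
  have hsurj : Function.Surjective ((Submodule.mkQ (I • ⊤ : Submodule A (towerLim t))) ∘ₗ f) := by
    intro q
    obtain ⟨z, rfl⟩ := Submodule.mkQ_surjective _ q
    have hz : pr t 0 z ∈ Submodule.span A (Set.range y) := by rw [hy]; trivial
    obtain ⟨c, hc⟩ := (Submodule.mem_span_range_iff_exists_fun A).1 hz
    refine ⟨c, ?_⟩
    change Submodule.mkQ _ (f c) = Submodule.mkQ _ z
    rw [Submodule.mkQ_apply, Submodule.mkQ_apply, Submodule.Quotient.eq]
    have h0 : pr t 0 (f c - z) = 0 := by
      rw [map_sub]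
      change pr t 0 (Fintype.linearCombination A x c) - _ = 0
      rw [Fintype.linearCombination_apply, map_sum]
      simp only [map_smul, hx]
      rw [hc, sub_self]
    have h1 := mem_smul_top_of_pr_eq_zero I t hkill hI hs hker 0 (f c - z) h0
    rwa [zero_add, pow_one] at h1
  have := surjective_of_mkQ_comp_surjective (I := I) hsurj
  exact Module.Finite.of_surjective f this

end alg

end Groth.Agent.Lib.Helper12.H12AZ
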