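import Mathlib
import Groth.Prelude.Def_Algz
import Groth.Agent.Lib.Helper12.AZ9
import Groth.Agent.Lib.Helper12.AZ11
import Groth.Agent.Lib.Helper29.QCohFinite
import Groth.Agent.Lib.Helper29.QCohAffine

/-! # Affine algebraization: coherent formal modules on `Spec A`, `A` complete, are completions -/

set_option autoImplicit false
universe u

open CategoryTheory CategoryTheory.Limits AlgebraicGeometry Opposite

namespace Groth.Agent.Lib.Helper12.H12AZ

open Groth.Agent.Lib.Helper12.H12FF Groth.Agent.Lib.Lead.FormalSys Groth.Agent.Lib.Helper12.H12LT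

section sheaf

variable (A : Type u) [CommRing A]

/-- `Spec A` over itself by the identity -/
noncomputable local instance (priority := 5000) selfOver12 :
    (Spec (CommRingCat.of A)).Over (Spec (CommRingCat.of A)) := ⟨𝟙 _⟩

/-- global sections of a coherent module on `Spec A` are a finite `A`-module -/
lemma finite_Γ (P : (Spec (CommRingCat.of A)).Modules) [P.IsQuasicoherent] [P.IsFiniteType] :
    Module.Finite A ((moduleSpecΓFunctor (R := CommRingCat.of A)).obj P) := by
  have h := Groth.Agent.Lib.Helper29.QCoh.module_finite_of_isFiniteType P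
    (isAffineOpen_top (Spec (CommRingCat.of A)))
  obtain ⟨s, hs⟩ := h.1
  refine ⟨⟨s, ?_⟩⟩
  rw [eq_top_iff]
  intro x _
  have hx : x ∈ Submodule.span Γ(Spec (CommRingCat.of A), ⊤) (s : Set Γ(P, ⊤)) := by
    rw [hs]; trivial
  induction hx using Submodule.span_induction with
  | mem y hy => exact Submodule.subset_span hy
  | zero => exact Submodule.zero_mem _
  | add y z _ _ hy hz => exact Submodule.add_mem _ (hy trivial) (hz trivial)
  | smul b y _ hy =>
    have hb : ∃ a : A, (Scheme.ΓSpecIso (CommRingCat.of A)).inv.hom a = b :=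
      ⟨(Scheme.ΓSpecIso (CommRingCat.of A)).hom.hom b, by
        change ((Scheme.ΓSpecIso (CommRingCat.of A)).hom ≫
          (Scheme.ΓSpecIso (CommRingCat.of A)).inv).hom b = b
        rw [Iso.hom_inv_id]
        rfl⟩
    obtain ⟨a, rfl⟩ := hb
    exact Submodule.smul_mem _ a (hy trivial)

theorem exists_coh_completion_iso_aux (I : Ideal A) (hI : I.FG) [IsPrecomplete I A]
    (G' : ℕᵒᵖ ⥤ (Spec (CommRingCat.of A)).Modules) (N : ℕᵒᵖ ⥤ ModuleCat.{u} A)
    (ε : N ⋙ tilde.functor (CommRingCat.of A) ≅ G')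
    (hs : ∀ k, Function.Surjective (N.map (homOfLE (Nat.le_succ k)).op).hom)
    (hkill : ∀ k, ∀ a ∈ I ^ (k + 1), ∀ y : N.obj (op k), a • y = 0)
    (hker : ∀ k, LinearMap.ker (N.map (homOfLE (Nat.le_succ k)).op).hom ≤
      (I ^ (k + 1) • ⊤ : Submodule A (N.obj (op (k + 1)))))
    [Module.Finite A (N.obj (op 0))] :
    ∃ F' : (Spec (CommRingCat.of A)).Modules, Coh.IsCoh F' ∧
      Nonempty (Formal.completion I F' ≅ G') := by
  let T := tilde.functor (CommRingCat.of A)
  let t : ∀ k, N.obj (op (k + 1)) →ₗ[A] N.obj (op k) := fun k =>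
    (N.map (homOfLE (Nat.le_succ k)).op).hom
  let Nhat : ModuleCat.{u} A := ModuleCat.of A (towerLim (M := fun k => (N.obj (op k) : Type u)) t)
  let prk : ∀ k, Nhat ⟶ N.obj (op k) := fun k =>
    ModuleCat.ofHom (pr (M := fun k => (N.obj (op k) : Type u)) t k)
  haveI hfin : Module.Finite A Nhat :=
    finite_towerLim (M := fun k => (N.obj (op k) : Type u)) I t hI hkill hs hker
  have hprk : ∀ k, prk (k + 1) ≫ N.map (homOfLE (k.le_add_right 1)).op = prk k := by
    intro k
    apply ModuleCat.hom_ext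
    apply LinearMap.ext
    intro x
    exact x.2 k
  refine ⟨T.obj Nhat, ?_, ?_⟩
  · haveI : (T.obj Nhat).IsQuasicoherent :=
      inferInstanceAs (tilde (R := CommRingCat.of A) Nhat).IsQuasicoherent
    haveI : Module.Finite (CommRingCat.of A) Nhat := hfin
    haveI : (T.obj Nhat).IsFiniteType :=
      Groth.Agent.Lib.Helper29.QCoh.isFiniteType_tilde (R := CommRingCat.of A) Nhat
    exact ⟨inferInstance, inferInstance⟩
  · refine nonempty_completion_iso_of_quot I (T.obj Nhat) G'
      (fun k => T.map (prk k) ≫ ε.hom.app (op k)) ?_ ?_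
    · intro k
      have hn := ε.hom.naturality (homOfLE (k.le_add_right 1)).op
      have e1 : T.map (prk (k + 1)) ≫ (N ⋙ T).map (homOfLE (k.le_add_right 1)).op =
          T.map (prk k) := by
        change T.map (prk (k + 1)) ≫ T.map (N.map (homOfLE (k.le_add_right 1)).op) = _
        rw [← T.map_comp, hprk]
      rw [Category.assoc, ← hn, ← Category.assoc, e1]
    · intro k
      have hk : (I ^ (k + 1) • ⊤ : Submodule A Nhat) ≤ LinearMap.ker (prk k).hom :=
        smul_top_le_ker_pr (M := fun k => (N.obj (op k) : Type u)) I t hkill k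
      obtain ⟨g', hg'⟩ := exists_desc_mkQ A (I ^ (k + 1)) (prk k) hk
      have hg'app : ∀ x : Nhat, g'.hom (Submodule.Quotient.mk x) = (prk k).hom x := fun x =>
        congrArg (fun φ : Nhat ⟶ N.obj (op k) => φ.hom x) hg'
      haveI : IsIso g' := by
        rw [ConcreteCategory.isIso_iff_bijective]
        constructor
        · intro q q' hqq
          obtain ⟨x, rfl⟩ := Submodule.Quotient.mk_surjective _ q
          obtain ⟨x', rfl⟩ := Submodule.Quotient.mk_surjective _ q'
          have h1 : (prk k).hom (x - x') = 0 := by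
            rw [map_sub, sub_eq_zero, ← hg'app, ← hg'app]
            exact hqq
          have h2 := mem_smul_top_of_pr_eq_zero (M := fun k => (N.obj (op k) : Type u)) I t hkill
            hI hs hker k (x - x') h1
          exact (Submodule.Quotient.eq _).2 h2
        · intro y
          obtain ⟨x, hx⟩ := pr_surjective (M := fun k => (N.obj (op k) : Type u)) t hs k y
          exact ⟨Submodule.Quotient.mk x, (hg'app x).trans hx⟩
      have e : T.map (prk k) ≫ ε.hom.app (op k) =
          T.map (ModuleCat.ofHom (Submodule.mkQ (I ^ (k + 1) • ⊤ : Submodule A Nhat))) ≫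
            (T.map g' ≫ ε.hom.app (op k)) := by
        rw [← Category.assoc, ← T.map_comp, hg']
      rw [e]
      exact IsModQuot.comp_iso (isModQuot_tilde_mkQ A (I ^ (k + 1)) Nhat) _

theorem exists_coh_completion_iso [IsNoetherianRing A] (I : Ideal A) [IsAdicComplete I A]
    (G' : ℕᵒᵖ ⥤ (Spec (CommRingCat.of A)).Modules) (hG' : Formal.IsCohFormal I G') :
    ∃ F' : (Spec (CommRingCat.of A)).Modules, Coh.IsCoh F' ∧
      Nonempty (Formal.completion I F' ≅ G') := by
  have hqc : ∀ j : ℕᵒᵖ, (G'.obj j).IsQuasicoherent := fun j => (hG'.1 j.unop).1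
  have hiso : ∀ j : ℕᵒᵖ, IsIso (Scheme.Modules.fromTildeΓ (R := CommRingCat.of A) (G'.obj j)) :=
    fun j => @Scheme.Modules.isIso_fromTildeΓ_of_isQuasicoherent (CommRingCat.of A) (G'.obj j)
      (hqc j)
  let ε : (G' ⋙ moduleSpecΓFunctor (R := CommRingCat.of A)) ⋙ tilde.functor (CommRingCat.of A) ≅
      G' := NatIso.ofComponents (fun j =>
        @asIso _ _ _ _ (Scheme.Modules.fromTildeΓ (R := CommRingCat.of A) (G'.obj j)) (hiso j)) (by
      intro j j' f
      exact (Scheme.Modules.fromTildeΓNatTrans (R := CommRingCat.of A)).naturality (G'.map f))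
  haveI : (G'.obj (op 0)).IsQuasicoherent := (hG'.1 0).1
  haveI : (G'.obj (op 0)).IsFiniteType := (hG'.1 0).2
  haveI : Module.Finite A ((G' ⋙ moduleSpecΓFunctor (R := CommRingCat.of A)).obj (op 0)) :=
    finite_Γ A (G'.obj (op 0))
  refine exists_coh_completion_iso_aux A I (IsNoetherian.noetherian I) G'
    (G' ⋙ moduleSpecΓFunctor (R := CommRingCat.of A)) ε ?_ ?_ ?_
  · intro k
    have hq := isModQuot_tr hG' (k + 1) k (Nat.le_succ k)
    haveI := hq.epi
    haveI : (G'.obj (op (k + 1))).IsQuasicoherent := (hG'.1 (k + 1)).1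
    haveI : (G'.obj (op k)).IsQuasicoherent := (hG'.1 k).1
    intro y
    obtain ⟨x, hx⟩ := Groth.Agent.Lib.Helper29.QCoh.app_surjective_of_epi
      (G'.map (homOfLE (Nat.le_succ k)).op) (isAffineOpen_top (Spec (CommRingCat.of A))) y
    exact ⟨x, hx⟩
  · intro j a ha y
    exact smul_eq_zero_of_killedBy A (I ^ (j + 1)) (G'.obj (op j)) (hG'.2.1 j) a ha y
  · intro j
    have hq := isModQuot_tr hG' (j + 1) j (Nat.le_succ j)
    haveI : (G'.obj (op (j + 1))).IsQuasicoherent := (hG'.1 (j + 1)).1
    exact ker_le_of_isModQuot A (I ^ (j + 1)) (G'.map (homOfLE (Nat.le_succ j)).op) hq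

end sheaf

end Groth.Agent.Lib.Helper12.H12AZ
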