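import Mathlib

set_option autoImplicit false
universe u

namespace Groth.Agent.Lib.Helper12.AdicUnram

open scoped TensorProduct

variable {A B : Type u} [CommRing A] [CommRing B] [Algebra A B] (𝔪 : Ideal A)

theorem isPushout_quotient :
    Algebra.IsPushout A (A ⧸ 𝔪) B (B ⧸ 𝔪.map (algebraMap A B)) where
  out := IsBaseChange.of_equiv
    (Algebra.TensorProduct.quotIdealMapEquivQuotTensor B 𝔪).symm.toLinearEquiv (fun x => by
      have := Algebra.TensorProduct.quotIdealMapEquivQuotTensor_mk (A := A) B 𝔪 x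
      change (Algebra.TensorProduct.quotIdealMapEquivQuotTensor B 𝔪).symm (1 ⊗ₜ x) = _
      rw [AlgEquiv.symm_apply_eq]
      exact this.symm)

theorem smul_top_eq_top [Subsingleton (Ω[B ⧸ 𝔪.map (algebraMap A B)⁄A ⧸ 𝔪])] :
    (𝔪.map (algebraMap A B)) • (⊤ : Submodule B Ω[B⁄A]) = ⊤ := by
  haveI := isPushout_quotient (B := B) 𝔪
  have e := KaehlerDifferential.tensorKaehlerEquiv A (A ⧸ 𝔪) B (B ⧸ 𝔪.map (algebraMap A B))
  haveI : Subsingleton ((B ⧸ 𝔪.map (algebraMap A B)) ⊗[B] Ω[B⁄A]) := e.toEquiv.subsingleton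
  have e2 := TensorProduct.quotTensorEquivQuotSMul Ω[B⁄A] (𝔪.map (algebraMap A B))
  haveI : Subsingleton (Ω[B⁄A] ⧸ (𝔪.map (algebraMap A B)) • (⊤ : Submodule B Ω[B⁄A])) :=
    e2.symm.toEquiv.subsingleton
  exact Submodule.Quotient.subsingleton_iff.mp inferInstance


theorem pow_smul_top_eq_top [Subsingleton (Ω[B ⧸ 𝔪.map (algebraMap A B)⁄A ⧸ 𝔪])] (k : ℕ) :
    (𝔪.map (algebraMap A B)) ^ k • (⊤ : Submodule B Ω[B⁄A]) = ⊤ := by
  induction k with
  | zero => simp
  | succ n ih => rw [pow_succ, Submodule.mul_smul, smul_top_eq_top, ih]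

theorem derivation_eq_zero [Subsingleton (Ω[B ⧸ 𝔪.map (algebraMap A B)⁄A ⧸ 𝔪])]
    {M : Type*} [AddCommGroup M] [Module A M] [Module B M] [IsScalarTower A B M] (k : ℕ)
    (hk : ∀ a ∈ 𝔪 ^ k, ∀ m : M, a • m = 0) (D : Derivation A B M) : D = 0 := by
  have hkill : ∀ r ∈ (𝔪 ^ k).map (algebraMap A B), ∀ m : M, r • m = 0 := by
    intro r hr
    refine Submodule.span_induction ?_ ?_ ?_ ?_ hr
    · rintro _ ⟨a, ha, rfl⟩ m
      rw [algebraMap_smul]
      exact hk a ha m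
    · intro m; rw [zero_smul]
    · intro x y _ _ hx hy m; rw [add_smul, hx, hy, add_zero]
    · intro b x _ hx m
      rw [smul_eq_mul, mul_smul, hx, smul_zero]
  have hL : ∀ ω : Ω[B⁄A], D.liftKaehlerDifferential ω = 0 := by
    intro ω
    have hω : ω ∈ (𝔪.map (algebraMap A B)) ^ k • (⊤ : Submodule B Ω[B⁄A]) := by
      rw [pow_smul_top_eq_top]; trivial
    refine Submodule.smul_induction_on hω ?_ ?_
    · intro r hr n _
      rw [map_smul]
      rw [← Ideal.map_pow] at hr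
      exact hkill r hr _
    · intro x y hx hy; rw [map_add, hx, hy, add_zero]
  ext b
  rw [← D.liftKaehlerDifferential_comp_D]
  simp [hL]

theorem eq_of_sq_zero [Subsingleton (Ω[B ⧸ 𝔪.map (algebraMap A B)⁄A ⧸ 𝔪])]
    {E : Type u} [CommRing E] [Algebra A E] (k : ℕ)
    (hk : (𝔪 ^ k).map (algebraMap A E) = ⊥) (J : Ideal E) (hJ : J ^ 2 = ⊥)
    (v₁ v₂ : B →ₐ[A] E)
    (h : ∀ b : B, Ideal.Quotient.mk J (v₁ b) = Ideal.Quotient.mk J (v₂ b)) : v₁ = v₂ := by
  letI := v₁.toRingHom.toAlgebra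
  haveI : IsScalarTower A B E := IsScalarTower.of_algebraMap_eq (fun a => (v₁.commutes a).symm)
  have e : (Ideal.Quotient.mkₐ A J).comp v₂ = IsScalarTower.toAlgHom A B (E ⧸ J) := by
    ext b; exact (h b).symm
  have hD : derivationToSquareZeroOfLift J hJ v₂ e = 0 := by
    refine derivation_eq_zero 𝔪 k ?_ _
    intro a ha m
    ext
    have h0 : algebraMap A E a = 0 := by
      have : algebraMap A E a ∈ (𝔪 ^ k).map (algebraMap A E) := Ideal.mem_map_of_mem _ ha
      rwa [hk] at this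
    change ((a • m : J) : E) = 0
    rw [Submodule.coe_smul_of_tower, Algebra.smul_def, h0, zero_mul]
  ext b
  have h1 := derivationToSquareZeroOfLift_apply J hJ v₂ e b
  rw [hD] at h1
  have h2 : v₂ b - v₁ b = 0 := h1.symm
  exact (sub_eq_zero.mp h2).symm

theorem eq_of_pow_eq_bot [Subsingleton (Ω[B ⧸ 𝔪.map (algebraMap A B)⁄A ⧸ 𝔪])] :
    ∀ (n : ℕ) {E : Type u} [CommRing E] [Algebra A E] (k : ℕ)
    (_ : (𝔪 ^ k).map (algebraMap A E) = ⊥) (J : Ideal E) (_ : J ^ n = ⊥)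
    (v₁ v₂ : B →ₐ[A] E)
    (_ : ∀ b : B, Ideal.Quotient.mk J (v₁ b) = Ideal.Quotient.mk J (v₂ b)), v₁ = v₂ := by
  intro n
  induction n using Nat.strong_induction_on with
  | _ n ih =>
    intro E _ _ k hk J hJ v₁ v₂ h
    by_cases hn : n ≤ 1
    · have hJ0 : J = ⊥ := by
        refine le_bot_iff.mp ?_
        calc J = J ^ 1 := (pow_one J).symm
          _ ≤ J ^ n := Ideal.pow_le_pow_right hn
          _ = ⊥ := hJ
      ext b
      have := h b
      rw [Ideal.Quotient.eq, hJ0, Ideal.mem_bot, sub_eq_zero] at this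
      exact this
    · push Not at hn
      -- square-zero step in E ⧸ J^2
      have hk' : (𝔪 ^ k).map (algebraMap A (E ⧸ J ^ 2)) = ⊥ := by
        have : algebraMap A (E ⧸ J ^ 2) = (Ideal.Quotient.mk (J ^ 2)).comp (algebraMap A E) := rfl
        rw [this, ← Ideal.map_map, hk, Ideal.map_bot]
      have hJ' : (J.map (Ideal.Quotient.mk (J ^ 2))) ^ 2 = ⊥ := by
        rw [← Ideal.map_pow, Ideal.map_quotient_self]
      have h' : ∀ b : B, Ideal.Quotient.mk (J.map (Ideal.Quotient.mk (J ^ 2)))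
          (((Ideal.Quotient.mkₐ A (J ^ 2)).comp v₁) b) =
          Ideal.Quotient.mk (J.map (Ideal.Quotient.mk (J ^ 2)))
          (((Ideal.Quotient.mkₐ A (J ^ 2)).comp v₂) b) := by
        intro b
        rw [Ideal.Quotient.eq]
        have hb := h b
        rw [Ideal.Quotient.eq] at hb
        have := Ideal.mem_map_of_mem (Ideal.Quotient.mk (J ^ 2)) hb
        rwa [map_sub] at this
      have hstep := eq_of_sq_zero 𝔪 k hk' _ hJ' _ _ h'
      have h2 : ∀ b : B, Ideal.Quotient.mk (J ^ 2) (v₁ b) = Ideal.Quotient.mk (J ^ 2) (v₂ b) :=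
        fun b => DFunLike.congr_fun hstep b
      refine ih ((n + 1) / 2) (by omega) k hk (J ^ 2) ?_ v₁ v₂ h2
      refine le_bot_iff.mp ?_
      calc (J ^ 2) ^ ((n + 1) / 2) = J ^ (2 * ((n + 1) / 2)) := (pow_mul J 2 _).symm
        _ ≤ J ^ n := Ideal.pow_le_pow_right (by omega)
        _ = ⊥ := hJ

end Groth.Agent.Lib.Helper12.AdicUnram
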