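import Mathlib

set_option autoImplicit false
universe u

namespace Groth.Agent.Lib.Helper12.AdicUnram2

open scoped TensorProduct

/-- `AdicCompletion I M` is trivial iff `M = I^n M` for all `n`. -/
theorem adicCompletion_subsingleton_iff {R M : Type*} [CommRing R] [AddCommGroup M] [Module R M]
    (I : Ideal R) :
    Subsingleton (AdicCompletion I M) ↔ ∀ n : ℕ, I ^ n • (⊤ : Submodule R M) = ⊤ := by
  constructor
  · intro h n
    rw [eq_top_iff]
    intro m _
    have h0 : AdicCompletion.eval I M n (AdicCompletion.of I M m) = 0 := by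
      rw [Subsingleton.elim (AdicCompletion.of I M m) 0, map_zero]
    rw [AdicCompletion.eval_of, Submodule.mkQ_apply, Submodule.Quotient.mk_eq_zero] at h0
    exact h0
  · intro h
    refine ⟨fun x y => AdicCompletion.ext fun n => ?_⟩
    haveI : Subsingleton (M ⧸ (I ^ n • (⊤ : Submodule R M))) :=
      Submodule.Quotient.subsingleton_iff.mpr (h n)
    exact Subsingleton.elim _ _

/-- Test-object construction: a "derivation along `φ`" vanishes as soon as square-zero lifts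
through trivial square-zero extensions of `S'` are unique. -/
theorem delta_eq_zero_of_unique {A B S' M : Type u} [CommRing A] [CommRing B] [CommRing S']
    [Algebra A B] [Algebra A S'] [AddCommGroup M] [Module S' M] [Module A M]
    [IsScalarTower A S' M] (φ : B →ₐ[A] S') (δ : B →ₗ[A] M)
    (hδ : ∀ b b', δ (b * b') = φ b • δ b' + φ b' • δ b)
    (hH : ∀ (E : Type u) [CommRing E] [Algebra A E] (J : Ideal E) (_ : J ^ 2 = ⊥)
      (v₁ v₂ : B →ₐ[A] E),
      (∀ a, algebraMap A S' a = 0 → algebraMap A E a = 0) →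
      (∀ b, φ b = 0 → v₁ b = 0) → (∀ b, φ b = 0 → δ b = 0 → v₂ b = 0) →
      (∀ b, Ideal.Quotient.mk J (v₁ b) = Ideal.Quotient.mk J (v₂ b)) → v₁ = v₂) :
    δ = 0 := by
  letI : Module S'ᵐᵒᵖ M := Module.compHom _ ((RingHom.id S').fromOpposite mul_comm)
  haveI : IsCentralScalar S' M := ⟨fun r m => rfl⟩
  haveI : IsScalarTower A S'ᵐᵒᵖ M := ⟨fun a s m => by
    change (a • s).unop • m = a • (s.unop • m)
    rw [MulOpposite.unop_smul, smul_assoc]⟩
  have hδ1 : δ 1 = 0 := by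
    have := hδ 1 1
    rw [mul_one, map_one φ, one_smul] at this
    exact left_eq_add.mp this
  let v₁ : B →ₐ[A] TrivSqZeroExt S' M := (TrivSqZeroExt.inlAlgHom A S' M).comp φ
  let v₂ : B →ₐ[A] TrivSqZeroExt S' M := AlgHom.ofLinearMap
    ((TrivSqZeroExt.inlAlgHom A S' M).toLinearMap ∘ₗ φ.toLinearMap +
      ((TrivSqZeroExt.inrHom S' M).restrictScalars A) ∘ₗ δ)
    (by
      simp only [LinearMap.add_apply, LinearMap.coe_comp, Function.comp_apply,
        AlgHom.toLinearMap_apply, map_one, hδ1, map_zero, add_zero])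
    (by
      intro x y
      simp only [LinearMap.add_apply, LinearMap.coe_comp, Function.comp_apply,
        AlgHom.toLinearMap_apply, LinearMap.coe_restrictScalars]
      ext
      · simp
      · simp [hδ, add_comm])
  have hv : v₁ = v₂ := by
    refine hH (TrivSqZeroExt S' M) (TrivSqZeroExt.kerIdeal S' M) (TrivSqZeroExt.kerIdeal_sq S' M)
      v₁ v₂ ?_ ?_ ?_ ?_
    · intro a ha
      rw [TrivSqZeroExt.algebraMap_eq_inl', ha, TrivSqZeroExt.inl_zero]
    · intro b hb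
      change TrivSqZeroExt.inl (φ b) = 0
      rw [hb, TrivSqZeroExt.inl_zero]
    · intro b hb hb'
      change TrivSqZeroExt.inl (φ b) + TrivSqZeroExt.inr (δ b) = 0
      rw [hb, hb', TrivSqZeroExt.inl_zero, TrivSqZeroExt.inr_zero, add_zero]
    · intro b
      rw [Ideal.Quotient.eq]
      change TrivSqZeroExt.inl (φ b) - (TrivSqZeroExt.inl (φ b) + TrivSqZeroExt.inr (δ b)) ∈ _
      rw [TrivSqZeroExt.kerIdeal, RingHom.mem_ker]
      simp
  ext b
  have := congrArg TrivSqZeroExt.snd (DFunLike.congr_fun hv b)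
  change (TrivSqZeroExt.inl (φ b)).snd = (TrivSqZeroExt.inl (φ b) + TrivSqZeroExt.inr (δ b)).snd
    at this
  simpa using this.symm


variable {A B : Type u} [CommRing A] [CommRing B] [Algebra A B]

theorem D_mem_pow_smul_top (𝔟 : Ideal B) (n : ℕ) :
    ∀ x ∈ 𝔟 ^ (n + 1), KaehlerDifferential.D A B x ∈ 𝔟 ^ n • (⊤ : Submodule B Ω[B⁄A]) := by
  induction n with
  | zero => intro x _; simp
  | succ n ih =>
    intro x hx
    rw [pow_succ] at hx
    refine Submodule.mul_induction_on hx ?_ ?_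
    · intro y hy z hz
      rw [Derivation.leibniz]
      refine add_mem (Submodule.smul_mem_smul hy trivial) ?_
      have h1 := ih y hy
      have h2 : z • KaehlerDifferential.D A B y ∈ 𝔟 • (𝔟 ^ n • (⊤ : Submodule B Ω[B⁄A])) :=
        Submodule.smul_mem_smul hz h1
      rwa [← Submodule.mul_smul, ← pow_succ'] at h2
    · intro y z hy hz
      rw [map_add]
      exact add_mem hy hz

theorem smul_top_eq_top_of_unique (𝔞 : Ideal A) (𝔟 : Ideal B)
    (hAB : ∃ k : ℕ, (𝔞 ^ k).map (algebraMap A B) ≤ 𝔟)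
    (H : ∀ (E : Type u) [CommRing E] [Algebra A E], (∃ k : ℕ, (𝔞 ^ k).map (algebraMap A E) = ⊥) →
      ∀ J : Ideal E, IsNilpotent J → ∀ v₁ v₂ : B →ₐ[A] E,
        (∃ m : ℕ, ∀ x ∈ 𝔟 ^ m, v₁ x = 0) → (∃ m : ℕ, ∀ x ∈ 𝔟 ^ m, v₂ x = 0) →
        (∀ b : B, Ideal.Quotient.mk J (v₁ b) = Ideal.Quotient.mk J (v₂ b)) → v₁ = v₂) (n : ℕ) :
    𝔟 ^ n • (⊤ : Submodule B Ω[B⁄A]) = ⊤ := by
  obtain ⟨k, hk⟩ := hAB
  haveI : IsScalarTower A (B ⧸ 𝔟 ^ n) (Ω[B⁄A] ⧸ (𝔟 ^ n • ⊤ : Submodule B Ω[B⁄A])) := ⟨by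
    intro a s m
    obtain ⟨b, rfl⟩ := Ideal.Quotient.mk_surjective s
    obtain ⟨ω, rfl⟩ := Submodule.Quotient.mk_surjective _ m
    change (Ideal.Quotient.mk (𝔟 ^ n) (a • b)) • _ = a • _
    rw [Module.Quotient.mk_smul_mk, Module.Quotient.mk_smul_mk, smul_assoc]
    rfl⟩
  let φ : B →ₐ[A] (B ⧸ 𝔟 ^ n) := Ideal.Quotient.mkₐ A (𝔟 ^ n)
  let δ : B →ₗ[A] (Ω[B⁄A] ⧸ (𝔟 ^ n • ⊤ : Submodule B Ω[B⁄A])) :=
    ((𝔟 ^ n • ⊤ : Submodule B Ω[B⁄A]).mkQ.restrictScalars A) ∘ₗ (KaehlerDifferential.D A B).toLinearMap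
  have hδ0 : δ = 0 := by
    refine delta_eq_zero_of_unique φ δ ?_ ?_
    · intro b b'
      change Submodule.Quotient.mk (KaehlerDifferential.D A B (b * b')) =
        Ideal.Quotient.mk (𝔟 ^ n) b • Submodule.Quotient.mk (KaehlerDifferential.D A B b') +
        Ideal.Quotient.mk (𝔟 ^ n) b' • Submodule.Quotient.mk (KaehlerDifferential.D A B b)
      rw [Module.Quotient.mk_smul_mk, Module.Quotient.mk_smul_mk, Derivation.leibniz]
      rfl
    · intro E _ _ J hJ v₁ v₂ ha h1 h2 h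
      refine H E ⟨k * n, ?_⟩ J ⟨2, hJ⟩ v₁ v₂ ⟨n, ?_⟩ ⟨n + 1, ?_⟩ h
      · rw [Ideal.map_eq_bot_iff_le_ker]
        intro a ha'
        rw [RingHom.mem_ker]
        refine ha a ?_
        change Ideal.Quotient.mk (𝔟 ^ n) (algebraMap A B a) = 0
        rw [Ideal.Quotient.eq_zero_iff_mem]
        rw [pow_mul] at ha'
        have h3 : algebraMap A B a ∈ ((𝔞 ^ k) ^ n).map (algebraMap A B) :=
          Ideal.mem_map_of_mem _ ha'
        rw [Ideal.map_pow] at h3
        exact Ideal.pow_right_mono hk n h3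
      · intro x hx
        exact h1 x (Ideal.Quotient.eq_zero_iff_mem.mpr hx)
      · intro x hx
        refine h2 x (Ideal.Quotient.eq_zero_iff_mem.mpr
          (Ideal.pow_le_pow_right (Nat.le_succ n) hx)) ?_
        change Submodule.Quotient.mk (KaehlerDifferential.D A B x) = 0
        rw [Submodule.Quotient.mk_eq_zero]
        exact D_mem_pow_smul_top 𝔟 n x hx
  have hle : Submodule.span B (Set.range (KaehlerDifferential.D A B)) ≤
      𝔟 ^ n • (⊤ : Submodule B Ω[B⁄A]) := by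
    rw [Submodule.span_le]
    rintro _ ⟨b, rfl⟩
    have := LinearMap.congr_fun hδ0 b
    change Submodule.Quotient.mk (KaehlerDifferential.D A B b) = 0 at this
    rwa [Submodule.Quotient.mk_eq_zero] at this
  rw [KaehlerDifferential.span_range_derivation] at hle
  exact eq_top_iff.mpr hle

theorem derivation_eq_zero_of_adic (𝔟 : Ideal B)
    (hΩ : ∀ n : ℕ, 𝔟 ^ n • (⊤ : Submodule B Ω[B⁄A]) = ⊤)
    {M : Type*} [AddCommGroup M] [Module A M] [Module B M] [IsScalarTower A B M] (m : ℕ)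
    (hm : ∀ x ∈ 𝔟 ^ m, ∀ y : M, x • y = 0) (D : Derivation A B M) : D = 0 := by
  have hL : ∀ ω : Ω[B⁄A], D.liftKaehlerDifferential ω = 0 := by
    intro ω
    have hω : ω ∈ 𝔟 ^ m • (⊤ : Submodule B Ω[B⁄A]) := by
      rw [hΩ]; trivial
    refine Submodule.smul_induction_on hω ?_ ?_
    · intro r hr n _
      rw [map_smul]
      exact hm r hr _
    · intro x y hx hy; rw [map_add, hx, hy, add_zero]
  ext b
  rw [← D.liftKaehlerDifferential_comp_D]
  simp [hL]

theorem eq_of_sq_zero (𝔟 : Ideal B)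
    (hΩ : ∀ n : ℕ, 𝔟 ^ n • (⊤ : Submodule B Ω[B⁄A]) = ⊤)
    {E : Type u} [CommRing E] [Algebra A E] (J : Ideal E) (hJ : J ^ 2 = ⊥)
    (v₁ v₂ : B →ₐ[A] E) (hv₁ : ∃ m : ℕ, ∀ x ∈ 𝔟 ^ m, v₁ x = 0)
    (h : ∀ b : B, Ideal.Quotient.mk J (v₁ b) = Ideal.Quotient.mk J (v₂ b)) : v₁ = v₂ := by
  obtain ⟨m, hm⟩ := hv₁
  letI := v₁.toRingHom.toAlgebra
  haveI : IsScalarTower A B E := IsScalarTower.of_algebraMap_eq (fun a => (v₁.commutes a).symm)
  have e : (Ideal.Quotient.mkₐ A J).comp v₂ = IsScalarTower.toAlgHom A B (E ⧸ J) := by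
    ext b; exact (h b).symm
  have hD : derivationToSquareZeroOfLift J hJ v₂ e = 0 := by
    refine derivation_eq_zero_of_adic 𝔟 hΩ m ?_ _
    intro x hx y
    ext
    change ((x • y : J) : E) = 0
    rw [Submodule.coe_smul_of_tower, Algebra.smul_def]
    change v₁ x * _ = 0
    rw [hm x hx, zero_mul]
  ext b
  have h1 := derivationToSquareZeroOfLift_apply J hJ v₂ e b
  rw [hD] at h1
  have h2 : v₂ b - v₁ b = 0 := h1.symm
  exact (sub_eq_zero.mp h2).symm

theorem eq_of_pow_eq_bot (𝔟 : Ideal B)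
    (hΩ : ∀ n : ℕ, 𝔟 ^ n • (⊤ : Submodule B Ω[B⁄A]) = ⊤) :
    ∀ (n : ℕ) {E : Type u} [CommRing E] [Algebra A E] (J : Ideal E) (_ : J ^ n = ⊥)
    (v₁ v₂ : B →ₐ[A] E) (_ : ∃ m : ℕ, ∀ x ∈ 𝔟 ^ m, v₁ x = 0)
    (_ : ∀ b : B, Ideal.Quotient.mk J (v₁ b) = Ideal.Quotient.mk J (v₂ b)), v₁ = v₂ := by
  intro n
  induction n using Nat.strong_induction_on with
  | _ n ih =>
    intro E _ _ J hJ v₁ v₂ hv₁ h
    by_cases hn : n ≤ 1
    · have hJ0 : J = ⊥ := by
        refine le_bot_iff.mp ?_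
        calc J = J ^ 1 := (pow_one J).symm
          _ ≤ J ^ n := Ideal.pow_le_pow_right hn
          _ = ⊥ := hJ
      ext b
      have := h b
      rw [Ideal.Quotient.eq, hJ0, Ideal.mem_bot, sub_eq_zero] at this
      exact this
    · push Not at hn
      have hJ' : (J.map (Ideal.Quotient.mk (J ^ 2))) ^ 2 = ⊥ := by
        rw [← Ideal.map_pow, Ideal.map_quotient_self]
      have h' : ∀ b : B, Ideal.Quotient.mk (J.map (Ideal.Quotient.mk (J ^ 2)))
          (((Ideal.Quotient.mkₐ A (J ^ 2)).comp v₁) b) =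
          Ideal.Quotient.mk (J.map (Ideal.Quotient.mk (J ^ 2)))
          (((Ideal.Quotient.mkₐ A (J ^ 2)).comp v₂) b) := by
        intro b
        rw [Ideal.Quotient.eq]
        have hb := h b
        rw [Ideal.Quotient.eq] at hb
        have := Ideal.mem_map_of_mem (Ideal.Quotient.mk (J ^ 2)) hb
        rwa [map_sub] at this
      have hv₁' : ∃ m : ℕ, ∀ x ∈ 𝔟 ^ m, ((Ideal.Quotient.mkₐ A (J ^ 2)).comp v₁) x = 0 := by
        obtain ⟨m, hm⟩ := hv₁
        refine ⟨m, fun x hx => ?_⟩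
        change Ideal.Quotient.mk (J ^ 2) (v₁ x) = 0
        rw [hm x hx, map_zero]
      have hstep := eq_of_sq_zero 𝔟 hΩ _ hJ' _ _ hv₁' h'
      have h2 : ∀ b : B, Ideal.Quotient.mk (J ^ 2) (v₁ b) = Ideal.Quotient.mk (J ^ 2) (v₂ b) :=
        fun b => DFunLike.congr_fun hstep b
      refine ih ((n + 1) / 2) (by omega) (J ^ 2) ?_ v₁ v₂ hv₁ h2
      refine le_bot_iff.mp ?_
      calc (J ^ 2) ^ ((n + 1) / 2) = J ^ (2 * ((n + 1) / 2)) := (pow_mul J 2 _).symm
        _ ≤ J ^ n := Ideal.pow_le_pow_right (by omega)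
        _ = ⊥ := hJ

end Groth.Agent.Lib.Helper12.AdicUnram2
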