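import Mathlib

set_option autoImplicit false
universe u
open Polynomial

namespace H12AlgCl

variable (A : Type u) [CommRing A]

/-- index set: monic polynomials of positive degree -/
abbrev Idx : Type u := {P : Polynomial A // P.Monic ∧ 0 < P.natDegree}

/-- the ideal of relations -/
noncomputable abbrev J : Ideal (MvPolynomial (Idx A) A) :=
  Ideal.span (Set.range fun P : Idx A => Polynomial.aeval (MvPolynomial.X (R := A) P) P.1)

/-- the ring `T` -/
abbrev T : Type u := MvPolynomial (Idx A) A ⧸ J A

/-- class of the variable -/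
noncomputable def x (P : Idx A) : T A := Ideal.Quotient.mk (J A) (MvPolynomial.X P)

theorem aeval_x (P : Idx A) : Polynomial.aeval (x A P) P.1 = 0 := by
  have h1 : Polynomial.aeval (x A P) P.1 =
      Ideal.Quotient.mkₐ A (J A) (Polynomial.aeval (MvPolynomial.X (R := A) P) P.1) := by
    rw [← Polynomial.aeval_algHom_apply]
    rfl
  rw [h1, Ideal.Quotient.mkₐ_eq_mk, Ideal.Quotient.eq_zero_iff_mem]
  exact Ideal.subset_span ⟨P, rfl⟩

/-- maps out of `T`. -/
theorem exists_hom (K : Type u) [Field K] [Algebra A K] [IsAlgClosed K] :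
    Nonempty (T A →ₐ[A] K) := by
  have hroot : ∀ P : Idx A, ∃ r : K, Polynomial.aeval r P.1 = 0 := by
    intro P
    have hdeg : (P.1.map (algebraMap A K)).degree ≠ 0 := by
      intro h0
      have h2 : (P.1.map (algebraMap A K)).natDegree = P.1.natDegree :=
        P.2.1.natDegree_map (algebraMap A K)
      have h3 := Polynomial.natDegree_eq_of_degree_eq_some (n := 0) h0
      have := P.2.2
      omega
    obtain ⟨r, hr⟩ := IsAlgClosed.exists_root (P.1.map (algebraMap A K)) hdeg
    refine ⟨r, ?_⟩
    rwa [Polynomial.IsRoot, Polynomial.eval_map, ← Polynomial.aeval_def] at hr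
  choose r hr using hroot
  refine ⟨Ideal.Quotient.liftₐ (J A) (MvPolynomial.aeval r) ?_⟩
  intro a ha
  have hle : J A ≤ RingHom.ker (MvPolynomial.aeval r : MvPolynomial (Idx A) A →ₐ[A] K).toRingHom := by
    rw [Ideal.span_le]
    rintro _ ⟨P, rfl⟩
    change MvPolynomial.aeval r (Polynomial.aeval (MvPolynomial.X (R := A) P) P.1) = 0
    rw [← Polynomial.aeval_algHom_apply, MvPolynomial.aeval_X]
    exact hr P
  exact hle ha

theorem comap_surjective :
    Function.Surjective (PrimeSpectrum.comap (algebraMap A (T A))) := by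
  intro p
  obtain ⟨φ⟩ := exists_hom A (AlgebraicClosure p.asIdeal.ResidueField)
  refine ⟨⟨RingHom.ker φ.toRingHom, RingHom.ker_isPrime _⟩, ?_⟩
  apply PrimeSpectrum.ext
  ext a
  change algebraMap A (T A) a ∈ RingHom.ker φ.toRingHom ↔ a ∈ p.asIdeal
  rw [RingHom.mem_ker]
  change φ (algebraMap A (T A) a) = 0 ↔ _
  rw [φ.commutes, IsScalarTower.algebraMap_apply A p.asIdeal.ResidueField
    (AlgebraicClosure p.asIdeal.ResidueField), map_eq_zero_iff _
    (algebraMap p.asIdeal.ResidueField (AlgebraicClosure p.asIdeal.ResidueField)).injective]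
  exact Ideal.algebraMap_residueField_eq_zero

end H12AlgCl

namespace H12AlgCl

variable (A : Type u) [CommRing A]

theorem isIntegral_T : Algebra.IsIntegral A (T A) := by
  constructor
  intro t
  have hadj : Algebra.adjoin A (Set.range (x A)) = ⊤ := by
    have h1 : Algebra.adjoin A (Set.range (MvPolynomial.X : Idx A → MvPolynomial (Idx A) A)) = ⊤ :=
      MvPolynomial.adjoin_range_X
    have h2 := congrArg (Subalgebra.map (Ideal.Quotient.mkₐ A (J A))) h1
    rw [AlgHom.map_adjoin, Algebra.map_top, (AlgHom.range_eq_top _).2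
      (Ideal.Quotient.mkₐ_surjective A (J A)), ← Set.range_comp] at h2
    exact h2
  have hle : Algebra.adjoin A (Set.range (x A)) ≤ integralClosure A (T A) := by
    rw [Algebra.adjoin_le_iff]
    rintro _ ⟨P, rfl⟩
    exact ⟨P.1, P.2.1, aeval_x A P⟩
  have : t ∈ integralClosure A (T A) := hle (hadj ▸ Algebra.mem_top)
  exact this

end H12AlgCl
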