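import Mathlib
import Groth.Agent.Lib.Helper12.AlgCl1

set_option autoImplicit false
universe u
open Polynomial

namespace H12AlgCl

variable (A : Type u) [CommRing A] (Q : Ideal (T A)) [Q.IsPrime]

/-- the residue field map -/
noncomputable abbrev ρ : (Q.comap (algebraMap A (T A))).ResidueField →+* Q.ResidueField :=
  Ideal.ResidueField.map (Q.comap (algebraMap A (T A))) Q (algebraMap A (T A)) rfl

theorem ρ_algebraMap (a : A) :
    ρ A Q (algebraMap A _ a) = algebraMap A Q.ResidueField a := by
  rw [ρ, Ideal.ResidueField.map_algebraMap]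
  rw [← IsScalarTower.algebraMap_apply]

/-- every element of the residue field is a quotient of images of `T`. -/
theorem exists_frac (y : Q.ResidueField) : ∃ t s : T A, algebraMap (T A) Q.ResidueField s ≠ 0 ∧
    y * algebraMap (T A) Q.ResidueField s = algebraMap (T A) Q.ResidueField t := by
  obtain ⟨z, rfl⟩ := IsLocalRing.residue_surjective y
  obtain ⟨⟨t, s⟩, rfl⟩ := IsLocalization.mk'_surjective Q.primeCompl z
  refine ⟨t, s, ?_, ?_⟩
  · rw [ne_eq, Ideal.algebraMap_residueField_eq_zero]
    exact s.2
  · have := IsLocalization.mk'_spec (Localization.AtPrime Q) t s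
    have h2 := congrArg (IsLocalRing.residue (Localization.AtPrime Q)) this
    rw [map_mul] at h2
    exact h2

theorem map_isIntegral : (ρ A Q).IsIntegral := by
  letI : Algebra (Q.comap (algebraMap A (T A))).ResidueField Q.ResidueField := (ρ A Q).toAlgebra
  haveI : IsScalarTower A (Q.comap (algebraMap A (T A))).ResidueField Q.ResidueField :=
    IsScalarTower.of_algebraMap_eq (fun a => (ρ_algebraMap A Q a).symm)
  haveI := isIntegral_T A
  have hT : ∀ t : T A, IsIntegral (Q.comap (algebraMap A (T A))).ResidueField
      (algebraMap (T A) Q.ResidueField t) := by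
    intro t
    have h1 : IsIntegral A t := Algebra.IsIntegral.isIntegral t
    have h2 : IsIntegral A (algebraMap (T A) Q.ResidueField t) :=
      h1.map (IsScalarTower.toAlgHom A (T A) Q.ResidueField)
    exact h2.tower_top
  intro y
  change IsIntegral (Q.comap (algebraMap A (T A))).ResidueField y
  obtain ⟨t, s, hs, hy⟩ := exists_frac A Q y
  have : y = algebraMap (T A) Q.ResidueField t * (algebraMap (T A) Q.ResidueField s)⁻¹ := by
    rw [← hy, mul_assoc, mul_inv_cancel₀ hs, mul_one]
  rw [this]
  exact (hT t).mul (hT s).inv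

end H12AlgCl

namespace H12AlgCl

variable (A : Type u) [CommRing A]

/-- common denominators in a residue field -/
theorem exists_denom (p : Ideal A) [p.IsPrime] (g : Polynomial p.ResidueField) :
    ∃ s : A, s ∉ p ∧ ∀ i, ∃ a : A,
      algebraMap A p.ResidueField a = algebraMap A p.ResidueField s * g.coeff i := by
  classical
  have key : ∀ F : Finset ℕ, ∃ s : A, s ∉ p ∧ ∀ i ∈ F, ∃ a : A,
      algebraMap A p.ResidueField a = algebraMap A p.ResidueField s * g.coeff i := by
    intro F
    induction F using Finset.induction_on with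
    | empty =>
      exact ⟨1, fun h => (Ideal.IsPrime.ne_top inferInstance) ((Ideal.eq_top_iff_one p).2 h),
        fun i hi => absurd hi (Finset.notMem_empty i)⟩
    | insert j F hj ih =>
      obtain ⟨s₁, hs₁, h₁⟩ := ih
      obtain ⟨z, hz⟩ := IsLocalRing.residue_surjective (g.coeff j)
      obtain ⟨⟨a, s⟩, rfl⟩ := IsLocalization.mk'_surjective p.primeCompl z
      have hspec := IsLocalization.mk'_spec (Localization.AtPrime p) a s
      have h2 : g.coeff j * algebraMap A p.ResidueField s = algebraMap A p.ResidueField a := by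
        rw [← hz]
        have := congrArg (IsLocalRing.residue (Localization.AtPrime p)) hspec
        rw [map_mul] at this
        exact this
      refine ⟨s₁ * s, fun h => ?_, fun i hi => ?_⟩
      · rcases Ideal.IsPrime.mem_or_mem inferInstance h with h | h
        · exact hs₁ h
        · exact s.2 h
      · rcases Finset.mem_insert.1 hi with rfl | hi
        · refine ⟨s₁ * a, ?_⟩
          rw [map_mul, map_mul, ← h2]
          ring
        · obtain ⟨b, hb⟩ := h₁ i hi
          refine ⟨b * s, ?_⟩
          rw [map_mul, map_mul, hb]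
          ring
  obtain ⟨s, hs, h⟩ := key g.support
  refine ⟨s, hs, fun i => ?_⟩
  by_cases hi : i ∈ g.support
  · exact h i hi
  · refine ⟨0, ?_⟩
    rw [Polynomial.notMem_support_iff.1 hi, mul_zero, map_zero]

end H12AlgCl

namespace H12AlgCl

variable (A : Type u) [CommRing A]

/-- scaled monic polynomials over the residue field lift to monic polynomials over `A`. -/
theorem exists_lift (p : Ideal A) [p.IsPrime] (g : Polynomial p.ResidueField) (hg : g.Monic) :
    ∃ s : A, s ∉ p ∧ ∃ P : Polynomial A, P.Monic ∧ P.natDegree = g.natDegree ∧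
      P.map (algebraMap A p.ResidueField) = scaleRoots g (algebraMap A p.ResidueField s) := by
  obtain ⟨s, hs, h⟩ := exists_denom A p g
  refine ⟨s, hs, ?_⟩
  have hl : scaleRoots g (algebraMap A p.ResidueField s) ∈
      Polynomial.lifts (algebraMap A p.ResidueField) := by
    rw [Polynomial.lifts_iff_coeff_lifts]
    intro i
    rw [coeff_scaleRoots]
    by_cases hi : i < g.natDegree
    · obtain ⟨a, ha⟩ := h i
      refine ⟨a * s ^ (g.natDegree - i - 1), ?_⟩
      have e : g.natDegree - i = (g.natDegree - i - 1) + 1 := by omega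
      rw [map_mul, map_pow, ha, e, pow_succ]
      have e2 : g.natDegree - i - 1 + 1 - 1 = g.natDegree - i - 1 := by omega
      rw [e2]
      ring
    · have e : g.natDegree - i = 0 := by omega
      rw [e, pow_zero, mul_one]
      rcases Nat.lt_or_ge g.natDegree i with h1 | h1
      · exact ⟨0, by rw [map_zero, Polynomial.coeff_eq_zero_of_natDegree_lt h1]⟩
      · have : i = g.natDegree := by omega
        subst this
        exact ⟨1, by rw [map_one, hg.coeff_natDegree]⟩
  obtain ⟨P, hP, hdeg, hmon⟩ := Polynomial.lifts_and_natDegree_eq_and_monic hl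
    ((monic_scaleRoots_iff _).2 hg)
  exact ⟨P, hmon, by rw [hdeg, natDegree_scaleRoots], hP⟩

variable (Q : Ideal (T A)) [Q.IsPrime]

theorem exists_root (g : Polynomial (Q.comap (algebraMap A (T A))).ResidueField) (hg : g.Monic)
    (hdeg : 0 < g.natDegree) : ∃ y : Q.ResidueField, g.eval₂ (ρ A Q) y = 0 := by
  obtain ⟨s, hs, P, hmon, hPdeg, hP⟩ := exists_lift A (Q.comap (algebraMap A (T A))) g hg
  let idx : Idx A := ⟨P, hmon, by rw [hPdeg]; exact hdeg⟩
  have h1 : Polynomial.aeval (algebraMap (T A) Q.ResidueField (x A idx)) P = 0 := by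
    rw [Polynomial.aeval_algebraMap_apply, aeval_x A idx, map_zero]
  have h2 : (scaleRoots g (algebraMap A _ s)).eval₂ (ρ A Q)
      (algebraMap (T A) Q.ResidueField (x A idx)) = 0 := by
    rw [← hP, Polynomial.eval₂_map]
    have e : (ρ A Q).comp (algebraMap A (Q.comap (algebraMap A (T A))).ResidueField) =
        algebraMap A Q.ResidueField := RingHom.ext (ρ_algebraMap A Q)
    rw [e, ← Polynomial.aeval_def]
    exact h1
  have hs0 : ρ A Q (algebraMap A _ s) ≠ 0 := by
    rw [ne_eq, map_eq_zero_iff _ (ρ A Q).injective, Ideal.algebraMap_residueField_eq_zero]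
    exact hs
  refine ⟨(ρ A Q (algebraMap A _ s))⁻¹ * algebraMap (T A) Q.ResidueField (x A idx), ?_⟩
  have h3 := scaleRoots_eval₂_mul (p := g) (ρ A Q)
    ((ρ A Q (algebraMap A _ s))⁻¹ * algebraMap (T A) Q.ResidueField (x A idx)) (algebraMap A _ s)
  rw [← mul_assoc, mul_inv_cancel₀ hs0, one_mul, h2] at h3
  exact (mul_eq_zero.1 h3.symm).resolve_left (pow_ne_zero _ hs0)

theorem isAlgClosed : IsAlgClosed Q.ResidueField := by
  letI : Algebra (Q.comap (algebraMap A (T A))).ResidueField Q.ResidueField := (ρ A Q).toAlgebra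
  haveI : Algebra.IsIntegral (Q.comap (algebraMap A (T A))).ResidueField Q.ResidueField :=
    ⟨map_isIntegral A Q⟩
  haveI : Algebra.IsAlgebraic (Q.comap (algebraMap A (T A))).ResidueField Q.ResidueField :=
    Algebra.IsIntegral.isAlgebraic
  refine (IsAlgClosure.of_exists_root (F := (Q.comap (algebraMap A (T A))).ResidueField)
    (E := Q.ResidueField) (fun g hg hirr => ?_)).isAlgClosed
  obtain ⟨y, hy⟩ := exists_root A Q g hg (Polynomial.natDegree_pos_iff_degree_pos.2
    (Polynomial.degree_pos_of_irreducible hirr))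
  exact ⟨y, hy⟩

end H12AlgCl
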