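import Mathlib

set_option autoImplicit false
universe u

namespace H12AltPoly
open MvPolynomial

variable {k : Type u} [Field k] {n : ℕ}

/-- the substitution of variables. -/
def g (σ : Equiv.Perm (Fin n)) : Fin n × Fin 2 → Fin n × Fin 2 := fun v => (σ v.1, v.2)

lemma g_mul (σ τ : Equiv.Perm (Fin n)) : g σ ∘ g τ = g (σ * τ) := rfl

/-- the monomial with exponent tuple `p`. -/
noncomputable def mon (p : Fin n → ℕ × ℕ) : MvPolynomial (Fin n × Fin 2) k :=
  ∏ i, (X (i, 0) ^ (p i).1 * X (i, 1) ^ (p i).2)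

/-- the determinant. -/
noncomputable def Δ (p : Fin n → ℕ × ℕ) : MvPolynomial (Fin n × Fin 2) k :=
  (Matrix.of fun i j : Fin n =>
    (X (i, 0) : MvPolynomial (Fin n × Fin 2) k) ^ (p j).1 * X (i, 1) ^ (p j).2).det

/-- antisymmetrisation. -/
noncomputable def Alt : MvPolynomial (Fin n × Fin 2) k →ₗ[k] MvPolynomial (Fin n × Fin 2) k :=
  ∑ τ : Equiv.Perm (Fin n), ((Equiv.Perm.sign τ : ℤˣ) : ℤ) • (rename (R := k) (g τ)).toLinearMap

lemma Alt_apply (f : MvPolynomial (Fin n × Fin 2) k) :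
    Alt f = ∑ τ : Equiv.Perm (Fin n), ((Equiv.Perm.sign τ : ℤˣ) : ℤ) • rename (g τ) f := by
  simp [Alt, LinearMap.sum_apply]

lemma rename_mon (τ : Equiv.Perm (Fin n)) (p : Fin n → ℕ × ℕ) :
    rename (g τ) (mon (k := k) p) = ∏ i, (X (τ i, 0) ^ (p i).1 * X (τ i, 1) ^ (p i).2) := by
  simp [mon, g]

lemma Δ_eq (p : Fin n → ℕ × ℕ) : Δ (k := k) p = Alt (mon p) := by
  rw [Δ, Matrix.det_apply, Alt_apply]
  refine Finset.sum_congr rfl fun τ _ => ?_
  rw [rename_mon, Units.smul_def]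
  rfl

lemma rename_Alt (σ : Equiv.Perm (Fin n)) (f : MvPolynomial (Fin n × Fin 2) k) :
    rename (g σ) (Alt f) = ((Equiv.Perm.sign σ : ℤˣ) : ℤ) • Alt f := by
  rw [Alt_apply, map_sum, Finset.smul_sum]
  refine Fintype.sum_equiv (Equiv.mulLeft σ) _ _ fun τ => ?_
  rw [map_zsmul, rename_rename, g_mul, Equiv.coe_mulLeft, smul_smul]
  congr 1
  rw [Equiv.Perm.sign_mul, Units.val_mul, ← mul_assoc, ← Units.val_mul, Int.units_mul_self,
    Units.val_one, one_mul]

lemma Alt_of_alternating (f : MvPolynomial (Fin n × Fin 2) k)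
    (hf : ∀ σ : Equiv.Perm (Fin n), rename (g σ) f = ((Equiv.Perm.sign σ : ℤˣ) : ℤ) • f) :
    Alt f = (n.factorial : k) • f := by
  rw [Alt_apply]
  have : ∀ τ : Equiv.Perm (Fin n), ((Equiv.Perm.sign τ : ℤˣ) : ℤ) • rename (g τ) f = f := by
    intro τ
    rw [hf τ, smul_smul, ← Units.val_mul, Int.units_mul_self, Units.val_one, one_smul]
  rw [Finset.sum_congr rfl fun τ _ => this τ, Finset.sum_const, Finset.card_univ,
    Fintype.card_perm, Fintype.card_fin, Nat.cast_smul_eq_nsmul]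

end H12AltPoly
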