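import Mathlib
import Groth.Agent.Lib.Helper12.AltPoly1

set_option autoImplicit false
universe u

namespace H12AltPoly
open MvPolynomial

variable {k : Type u} [Field k] {n : ℕ}

/-- the exponent vector of `mon p`. -/
noncomputable def E (p : Fin n → ℕ × ℕ) : (Fin n × Fin 2) →₀ ℕ :=
  Finsupp.equivFunOnFinite.symm (fun v => if v.2 = 0 then (p v.1).1 else (p v.1).2)

lemma E_zero (p : Fin n → ℕ × ℕ) (i : Fin n) : E p (i, 0) = (p i).1 := by simp [E]
lemma E_one (p : Fin n → ℕ × ℕ) (i : Fin n) : E p (i, 1) = (p i).2 := by simp [E]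

lemma E_injective : Function.Injective (E (n := n)) := by
  intro p q h
  funext i
  have h0 := DFunLike.congr_fun h (i, 0)
  have h1 := DFunLike.congr_fun h (i, 1)
  rw [E_zero, E_zero] at h0
  rw [E_one, E_one] at h1
  exact Prod.ext h0 h1

/-- the exponent tuple of a monomial. -/
def P (e : (Fin n × Fin 2) →₀ ℕ) : Fin n → ℕ × ℕ := fun i => (e (i, 0), e (i, 1))

lemma monomial_eq_mon (e : (Fin n × Fin 2) →₀ ℕ) :
    monomial e (1 : k) = mon (P e) := by
  rw [monomial_eq, C_1, one_mul, Finsupp.prod_fintype _ _ (fun _ => pow_zero _),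
    Fintype.prod_prod_type, mon]
  refine Finset.prod_congr rfl fun i _ => ?_
  rw [Fin.prod_univ_two]
  rfl

lemma E_P (e : (Fin n × Fin 2) →₀ ℕ) : E (P e) = e := by
  ext ⟨i, j⟩
  fin_cases j
  · exact E_zero _ i
  · exact E_one _ i

lemma P_E (p : Fin n → ℕ × ℕ) : P (E p) = p := E_injective (E_P _)

lemma mon_eq_monomial (p : Fin n → ℕ × ℕ) : mon (k := k) p = monomial (E p) 1 := by
  rw [monomial_eq_mon, P_E]

lemma Alt_mem_span (f : MvPolynomial (Fin n × Fin 2) k) :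
    Alt f ∈ Submodule.span k (Set.range (Δ (k := k) (n := n))) := by
  induction f using MvPolynomial.induction_on' with
  | monomial e c =>
    have : monomial e c = c • mon (k := k) (P e) := by
      rw [← monomial_eq_mon, smul_monomial, smul_eq_mul, mul_one]
    rw [this, map_smul, ← Δ_eq]
    exact Submodule.smul_mem _ _ (Submodule.subset_span ⟨_, rfl⟩)
  | add f g hf hg =>
    rw [map_add]; exact Submodule.add_mem _ hf hg

lemma rename_mon' (τ : Equiv.Perm (Fin n)) (p : Fin n → ℕ × ℕ) :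
    rename (g τ) (mon (k := k) p) = mon (p ∘ ⇑τ⁻¹) := by
  rw [rename_mon, mon]
  rw [← Equiv.prod_comp τ (fun j => (X (j, 0) : MvPolynomial (Fin n × Fin 2) k) ^
    ((p ∘ ⇑τ⁻¹) j).1 * X (j, 1) ^ ((p ∘ ⇑τ⁻¹) j).2)]
  refine Finset.prod_congr rfl fun i _ => ?_
  simp

lemma coeff_Δ (p q : Fin n → ℕ × ℕ) :
    coeff (E q) (Δ (k := k) p) = ∑ τ : Equiv.Perm (Fin n),
      ((Equiv.Perm.sign τ : ℤˣ) : ℤ) • (if p ∘ ⇑τ⁻¹ = q then (1 : k) else 0) := by
  rw [Δ_eq, Alt_apply, coeff_sum]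
  refine Finset.sum_congr rfl fun τ _ => ?_
  rw [rename_mon', mon_eq_monomial]
  have : coeff (E q) (((Equiv.Perm.sign τ : ℤˣ) : ℤ) • (monomial (E (p ∘ ⇑τ⁻¹)) (1 : k))) =
      ((Equiv.Perm.sign τ : ℤˣ) : ℤ) • coeff (E q) (monomial (E (p ∘ ⇑τ⁻¹)) (1 : k)) := by
    rw [← Int.cast_smul_eq_zsmul k, coeff_smul, smul_eq_mul, ← Int.cast_smul_eq_zsmul k,
      smul_eq_mul]
  rw [this, coeff_monomial]
  congr 1
  by_cases h : p ∘ ⇑τ⁻¹ = q
  · rw [if_pos h, if_pos (by rw [h])]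
  · rw [if_neg h, if_neg (fun h' => h (E_injective h'))]

end H12AltPoly
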