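import Mathlib
import Groth.Agent.Lib.Helper12.AltPoly2

set_option autoImplicit false
universe u

namespace H12AltPoly
open MvPolynomial

variable {k : Type u} [Field k] {n : ℕ}

theorem part1 [CharZero k] (f : MvPolynomial (Fin n × Fin 2) k) :
    (∀ σ : Equiv.Perm (Fin n), rename (g σ) f = ((Equiv.Perm.sign σ : ℤˣ) : ℤ) • f) ↔
      f ∈ Submodule.span k (Set.range (Δ (k := k) (n := n))) := by
  constructor
  · intro hf
    have h1 := Alt_of_alternating f hf
    have hn : (n.factorial : k) ≠ 0 := Nat.cast_ne_zero.mpr (Nat.factorial_ne_zero n)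
    have h2 : f = (n.factorial : k)⁻¹ • Alt f := by
      rw [h1, smul_smul, inv_mul_cancel₀ hn, one_smul]
    rw [h2]
    exact Submodule.smul_mem _ _ (Alt_mem_span f)
  · intro hf σ
    induction hf using Submodule.span_induction with
    | mem x hx =>
      obtain ⟨p, rfl⟩ := hx
      rw [Δ_eq]
      exact rename_Alt σ _
    | zero => simp
    | add x y _ _ hx hy => rw [map_add, hx, hy, smul_add]
    | smul c x _ hx => rw [map_smul, hx, smul_comm]

/-- the underlying exponent tuple. -/
def un (p : {p : Fin n → ℕ ×ₗ ℕ // StrictMono p}) : Fin n → ℕ × ℕ := fun j => ofLex (p.1 j)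

lemma un_comp_eq {p q : {p : Fin n → ℕ ×ₗ ℕ // StrictMono p}} {τ : Equiv.Perm (Fin n)}
    (h : un p ∘ ⇑τ⁻¹ = un q) : p = q ∧ τ = 1 := by
  have h1 : p.1 ∘ ⇑τ⁻¹ = q.1 := by
    funext j
    have := congrFun h j
    exact this
  have h2 : p.1 = q.1 := by
    apply (StrictMono.range_inj p.2 q.2).mp
    rw [← h1, Set.range_comp, Equiv.range_eq_univ, Set.image_univ]
  refine ⟨Subtype.ext h2, ?_⟩
  rw [← h2] at h1
  have h3 : ∀ j, τ⁻¹ j = j := fun j => p.2.injective (congrFun h1 j)
  have : τ⁻¹ = 1 := Equiv.ext h3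
  rwa [inv_eq_one] at this

lemma coeff_Δ_un (p q : {p : Fin n → ℕ ×ₗ ℕ // StrictMono p}) :
    coeff (E (un q)) (Δ (k := k) (un p)) = if p = q then 1 else 0 := by
  classical
  rw [coeff_Δ]
  by_cases hpq : p = q
  · rw [if_pos hpq, Finset.sum_eq_single (1 : Equiv.Perm (Fin n))]
    · subst hpq; simp
    · intro τ _ hτ
      rw [if_neg (fun h => hτ (un_comp_eq h).2), smul_zero]
    · intro h; exact absurd (Finset.mem_univ _) h
  · rw [if_neg hpq]
    refine Finset.sum_eq_zero fun τ _ => ?_
    rw [if_neg (fun h => hpq (un_comp_eq h).1), smul_zero]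

theorem part2 : LinearIndependent k
    (fun p : {p : Fin n → ℕ ×ₗ ℕ // StrictMono p} => Δ (k := k) (un p)) := by
  classical
  rw [linearIndependent_iff']
  intro s c hc q hq
  have := congrArg (coeff (E (un q))) hc
  rw [coeff_sum, coeff_zero] at this
  simp only [coeff_smul, coeff_Δ_un, smul_eq_mul, mul_ite, mul_one, mul_zero] at this
  rw [Finset.sum_ite_eq' s q, if_pos hq] at this
  exact this

end H12AltPoly
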