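import Mathlib
import Groth.Agent.Lib.Helper9.FinLenSupp

set_option autoImplicit false
universe u

namespace H12S14614

open CategoryTheory CategoryTheory.Limits AlgebraicGeometry IsLocalRing

/-- the infinitesimal lifting property of the statement -/
def Lift {Z S : Scheme.{u}} (i : Z ⟶ S) : Prop :=
  ∀ (A : Type u) [CommRing A] [IsArtinianRing A] [IsLocalRing A] (g : Spec (CommRingCat.of A) ⟶ S),
      (∃ t : Spec (CommRingCat.of (IsLocalRing.ResidueField A)) ⟶ Z,
          t ≫ i = Spec.map (CommRingCat.ofHom (IsLocalRing.residue A)) ≫ g) →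
        ∃ g' : Spec (CommRingCat.of A) ⟶ Z, g' ≫ i = g

lemma lift_of_isPullback {X Y X' Y' : Scheme.{u}} {i : X ⟶ Y} {i' : X' ⟶ Y'} {a : X' ⟶ X}
    {b : Y' ⟶ Y} (sq : IsPullback a i' i b) (h : Lift i) : Lift i' := by
  intro A _ _ _ g ⟨t, ht⟩
  obtain ⟨g'', hg''⟩ := h A (g ≫ b) ⟨t ≫ a, by
    rw [Category.assoc, sq.w, ← Category.assoc, ht, Category.assoc]⟩
  exact ⟨sq.lift g'' g hg'', sq.lift_snd _ _ _⟩

lemma key {R B : CommRingCat.{u}} [IsNoetherianRing R] (f : R ⟶ B)
    (hf : Function.Surjective f.hom) (h : Lift (Spec.map f))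
    (P : Ideal R) [P.IsPrime] (hIP : RingHom.ker f.hom ≤ P) :
    Ideal.map (algebraMap R (Localization.AtPrime P)) (RingHom.ker f.hom) = ⊥ := by
  set L := Localization.AtPrime P with hL
  rw [eq_bot_iff, ← Ideal.iInf_pow_eq_bot_of_isLocalRing (maximalIdeal L)
    (Ideal.IsMaximal.ne_top inferInstance), le_iInf_iff]
  intro n
  rw [Ideal.map_le_iff_le_comap]
  intro x hx
  rw [Ideal.mem_comap]
  rcases n with _ | n
  · simp
  · let A := L ⧸ maximalIdeal L ^ (n + 1)
    haveI : IsLocalRing A := by
      have hle : maximalIdeal L ^ (n + 1) ≤ maximalIdeal L := Ideal.pow_le_self (by omega)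
      have : Nontrivial A := Ideal.Quotient.nontrivial_iff.mpr
        (fun h => (maximalIdeal.isMaximal L).ne_top (top_le_iff.mp (h ▸ hle)))
      exact IsLocalRing.of_surjective' (Ideal.Quotient.mk _) Ideal.Quotient.mk_surjective
    haveI : IsArtinianRing A :=
      Groth.Agent.Lib.Helper9.FinLenSupp.isArtinianRing_quotient_pow L (n + 1)
    let ρ : R →+* A := (Ideal.Quotient.mk _).comp (algebraMap R L)
    have hker : RingHom.ker f.hom ≤ RingHom.ker ((IsLocalRing.residue A).comp ρ) := by
      intro y hy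
      rw [RingHom.mem_ker, RingHom.comp_apply, IsLocalRing.residue_eq_zero_iff]
      have hyP : algebraMap R L y ∈ maximalIdeal L :=
        (IsLocalization.AtPrime.to_map_mem_maximal_iff L P y).mpr (hIP hy)
      have : IsLocalHom (Ideal.Quotient.mk (maximalIdeal L ^ (n + 1))) :=
        IsLocalHom.of_surjective _ Ideal.Quotient.mk_surjective
      rw [← IsLocalRing.maximalIdeal_comap (Ideal.Quotient.mk (maximalIdeal L ^ (n + 1)))] at hyP
      exact hyP
    let τ : B →+* ResidueField A := RingHom.liftOfSurjective f.hom hf ⟨_, hker⟩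
    have hτ : τ.comp f.hom = (residue A).comp ρ := RingHom.liftOfRightInverse_comp _ _ _ _
    obtain ⟨g', hg'⟩ := h A (Spec.map (CommRingCat.ofHom ρ)) ⟨Spec.map (CommRingCat.ofHom τ), by
      rw [← Spec.map_comp, ← Spec.map_comp]
      congr 1
      ext y
      exact congr($hτ y)⟩
    obtain ⟨β, rfl⟩ := Spec.map_surjective g'
    rw [← Spec.map_comp] at hg'
    have h1 := Spec.map_injective hg'
    have h2 : β.hom (f.hom x) = ρ x := congr($(h1).hom x)
    rw [RingHom.mem_ker.mp hx, map_zero] at h2
    exact Ideal.Quotient.eq_zero_iff_mem.mp h2.symm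

theorem affine_case {R B : CommRingCat.{u}} [IsNoetherianRing R] (f : R ⟶ B)
    (hf : Function.Surjective f.hom) (h : Lift (Spec.map f)) : IsOpenImmersion (Spec.map f) := by
  rw [isOpenImmersion_SpecMap_iff_of_surjective f hf]
  set I := RingHom.ker f.hom with hI
  have hid : IsIdempotentElem I := by
    apply le_antisymm Ideal.mul_le_right
    apply Ideal.le_of_localization_maximal
    intro P hP
    by_cases hIP : I ≤ P
    · rw [key f hf h P hIP]
      exact bot_le
    · rw [Ideal.map_mul, IsLocalization.AtPrime.map_eq_top_of_not_le _ hIP]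
      simp
  exact (Ideal.isIdempotentElem_iff_of_fg I (IsNoetherian.noetherian I)).mp hid

theorem main (S : Scheme.{u}) [IsLocallyNoetherian S] {Z : Scheme.{u}} (i : Z ⟶ S)
    [IsClosedImmersion i] (h : Lift i) : IsOpenImmersion i := by
  rw [IsZariskiLocalAtTarget.iff_of_openCover (P := @IsOpenImmersion) S.affineCover]
  intro j
  change IsOpenImmersion (pullback.snd i (S.affineCover.f j))
  have hL : Lift (pullback.snd i (S.affineCover.f j)) :=
    lift_of_isPullback (IsPullback.of_hasPullback _ _) h
  set i' := pullback.snd i (S.affineCover.f j) with hi'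
  haveI : IsAffine (S.affineCover.X j) := by dsimp [Scheme.affineCover]; infer_instance
  haveI : IsAffine (pullback i (S.affineCover.f j)) := isAffine_of_isAffineHom i'
  rw [MorphismProperty.arrow_mk_iso_iff @IsOpenImmersion (arrowIsoSpecΓOfIsAffine i')]
  haveI : IsNoetherianRing Γ(S.affineCover.X j, ⊤) :=
    IsLocallyNoetherian.component_noetherian ⟨⊤, isAffineOpen_top _⟩
  apply affine_case
  · exact (IsClosedImmersion.isAffine_surjective_of_isAffine i').2
  · let e := arrowIsoSpecΓOfIsAffine i'
    have sq : IsPullback e.inv.left (Spec.map i'.appTop) i' e.inv.right :=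
      IsPullback.of_horiz_isIso ⟨e.inv.w⟩
    exact lift_of_isPullback sq hL

end H12S14614
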