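import Mathlib

set_option autoImplicit false
universe u

namespace Groth.Agent.Lib.Helper12.ArtinSchreier

open Polynomial

theorem existsUnique_artinSchreier (p : ℕ) (hp : 2 ≤ p) (A : Type u) [CommRing A] (q : A[X]) :
    ∃! c : Fin p → A[X], q = ∑ i : Fin p, aeval (X - X ^ p : A[X]) (c i) * X ^ (i : ℕ) := by
  classical
  rcases subsingleton_or_nontrivial A with hA | hA
  · refine ⟨0, Subsingleton.elim _ _, fun _ _ => Subsingleton.elim _ _⟩
  set Y : A[X] := X - X ^ p with hY
  -- the polynomial `f = T^p - T + Y'` over `R = A[Y']`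
  let f : A[X][X] := X ^ p - (X - C (X : A[X]))
  have hdeg : (X - C (X : A[X]) : A[X][X]).degree < (p : WithBot ℕ) := by
    refine lt_of_le_of_lt (degree_X_sub_C_le _) ?_
    exact_mod_cast (by omega : 1 < p)
  have hfm : f.Monic := monic_X_pow_sub hdeg
  have hfdeg : f.natDegree = p := by
    apply natDegree_eq_of_degree_eq_some
    rw [degree_sub_eq_left_of_degree_lt (by rwa [degree_X_pow]), degree_X_pow]
  let ι : A[X] →+* A[X] := (aeval Y : A[X] →ₐ[A] A[X]).toRingHom
  have hι : ∀ r : A[X], ι r = aeval Y r := fun r => rfl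
  have hfX : f.eval₂ ι X = 0 := by
    simp only [f, eval₂_sub, eval₂_pow, eval₂_X, eval₂_C, hι, aeval_X, hY]
    ring
  let φ : AdjoinRoot f →+* A[X] := AdjoinRoot.lift ι X hfX
  have hφof : ∀ r : A[X], φ (AdjoinRoot.of f r) = aeval Y r := fun r => by
    rw [AdjoinRoot.lift_of]; rfl
  have hφroot : φ (AdjoinRoot.root f) = X := AdjoinRoot.lift_root hfX
  let ψ : A[X] →+* AdjoinRoot f :=
    eval₂RingHom ((AdjoinRoot.of f).comp C) (AdjoinRoot.root f)
  have hψC : ∀ a : A, ψ (C a) = AdjoinRoot.of f (C a) := fun a => by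
    simp [ψ]
  have hψX : ψ X = AdjoinRoot.root f := by simp [ψ]
  have hroot : AdjoinRoot.root f ^ p - AdjoinRoot.root f + AdjoinRoot.of f X = 0 := by
    have h := AdjoinRoot.eval₂_root f
    simp only [f, eval₂_sub, eval₂_pow, eval₂_X, eval₂_C] at h
    rw [← h]; ring
  have hφψ : φ.comp ψ = RingHom.id _ := by
    apply Polynomial.ringHom_ext
    · intro a
      rw [RingHom.comp_apply, hψC, hφof, aeval_C]
      rfl
    · rw [RingHom.comp_apply, hψX, hφroot]; rfl
  have hψY : ψ Y = AdjoinRoot.of f X := by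
    rw [hY, map_sub, map_pow, hψX]
    linear_combination (-1 : AdjoinRoot f) * hroot
  have hψφ : ψ.comp φ = RingHom.id _ := by
    have h1 : (ψ.comp φ).comp (AdjoinRoot.mk f) = AdjoinRoot.mk f := by
      apply Polynomial.ringHom_ext
      · intro r
        rw [RingHom.comp_apply, RingHom.comp_apply, AdjoinRoot.mk_C, hφof]
        -- ψ (aeval Y r) = of r
        have h2 : ψ.comp (aeval Y : A[X] →ₐ[A] A[X]).toRingHom = AdjoinRoot.of f := by
          apply Polynomial.ringHom_ext
          · intro a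
            rw [RingHom.comp_apply]
            change ψ (aeval Y (C a)) = _
            rw [aeval_C]
            exact hψC a
          · rw [RingHom.comp_apply]
            change ψ (aeval Y X) = _
            rw [aeval_X, hψY]
        exact RingHom.congr_fun h2 r
      · rw [RingHom.comp_apply, RingHom.comp_apply, AdjoinRoot.mk_X, hφroot, hψX]
    apply RingHom.ext
    intro z
    obtain ⟨g, rfl⟩ := AdjoinRoot.mk_surjective z
    exact RingHom.congr_fun h1 g
  have hφinj : Function.Injective φ := by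
    intro z w hzw
    have := congrArg ψ hzw
    rwa [← RingHom.comp_apply, ← RingHom.comp_apply, hψφ] at this
  -- basis
  let b₀ : Module.Basis (Fin f.natDegree) A[X] (AdjoinRoot f) := (AdjoinRoot.powerBasis' hfm).basis
  let b : Module.Basis (Fin p) A[X] (AdjoinRoot f) := b₀.reindex (finCongr hfdeg)
  have hb : ∀ i : Fin p, b i = AdjoinRoot.root f ^ (i : ℕ) := by
    intro i
    have h1 := (AdjoinRoot.powerBasis' hfm).basis_eq_pow ((finCongr hfdeg).symm i)
    rw [AdjoinRoot.powerBasis'_gen] at h1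
    rw [Module.Basis.reindex_apply]
    refine h1.trans ?_
    simp
  have hφsum : ∀ c : Fin p → A[X],
      φ (∑ i : Fin p, c i • b i) = ∑ i : Fin p, aeval Y (c i) * X ^ (i : ℕ) := by
    intro c
    rw [map_sum]
    refine Finset.sum_congr rfl fun i _ => ?_
    rw [hb, Algebra.smul_def, map_mul, map_pow, hφroot]
    congr 1
    exact hφof (c i)
  refine ⟨fun i => b.repr (ψ q) i, ?_, ?_⟩
  · have h1 : ψ q = ∑ i : Fin p, b.repr (ψ q) i • b i := (b.sum_repr (ψ q)).symm
    have h2 : q = φ (ψ q) := by rw [← RingHom.comp_apply, hφψ]; rfl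
    change q = ∑ i : Fin p, aeval Y ((b.repr (ψ q)) i) * X ^ (i : ℕ)
    rw [← hφsum, ← h1]
    exact h2
  · intro c hc
    have h1 : φ (∑ i : Fin p, c i • b i) = φ (ψ q) := by
      rw [hφsum, ← hc, ← RingHom.comp_apply, hφψ]; rfl
    have h2 := hφinj h1
    funext i
    rw [← h2, b.repr_sum_self]

end Groth.Agent.Lib.Helper12.ArtinSchreier
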