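import Mathlib
import Groth.Prelude.Def_EtGlue

/-!
# Beauville–Laszlo glueing, part 1: approximation and torsion modules
-/

universe u

open TensorProduct

namespace Groth.Agent.Lib.Helper12.BL

variable {R R' : Type u} [CommRing R] [CommRing R'] [Algebra R R'] {f : R}

/-- `r` approximates `r'` modulo `f ^ n`. -/
def Approx (f : R) (n : ℕ) (r' : R') (r : R) : Prop :=
  ∃ s' : R', r' = algebraMap R R' r + algebraMap R R' f ^ n * s'

lemma Approx.of_le {n N : ℕ} {r' : R'} {r : R} (h : Approx f N r' r) (hn : n ≤ N) :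
    Approx f n r' r := by
  obtain ⟨s', hs'⟩ := h
  refine ⟨algebraMap R R' f ^ (N - n) * s', ?_⟩
  rw [hs', ← mul_assoc, ← pow_add, Nat.add_sub_cancel' hn]

lemma Approx.add {n : ℕ} {r₁' r₂' : R'} {r₁ r₂ : R} (h₁ : Approx f n r₁' r₁)
    (h₂ : Approx f n r₂' r₂) : Approx f n (r₁' + r₂') (r₁ + r₂) := by
  obtain ⟨s₁, hs₁⟩ := h₁
  obtain ⟨s₂, hs₂⟩ := h₂
  refine ⟨s₁ + s₂, ?_⟩
  rw [hs₁, hs₂, map_add]
  ring

lemma Approx.smul {n : ℕ} {r' : R'} {r : R} (h : Approx f n r' r) (a : R) :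
    Approx f n (a • r') (a * r) := by
  obtain ⟨s, hs⟩ := h
  refine ⟨algebraMap R R' a * s, ?_⟩
  rw [hs, Algebra.smul_def, map_mul]
  ring

lemma Approx.one (n : ℕ) : Approx (R' := R') f n 1 1 := ⟨0, by simp⟩

lemma Approx.algebraMap (n : ℕ) (r : R) : Approx (R' := R') f n (algebraMap R R' r) r :=
  ⟨0, by simp⟩

lemma exists_approx (hq : EtGlue.QuotPowBijective R R' f) (n : ℕ) (hn : 0 < n) (r' : R') :
    ∃ r : R, Approx f n r' r := by
  obtain ⟨q, hq'⟩ := (hq n hn).2 (Ideal.Quotient.mk _ r')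
  obtain ⟨r, rfl⟩ := Ideal.Quotient.mk_surjective q
  rw [Ideal.quotientMap_mk, Ideal.Quotient.eq, Ideal.map_span, Set.image_singleton,
    Ideal.mem_span_singleton'] at hq'
  obtain ⟨a, ha⟩ := hq'
  refine ⟨r, -a, ?_⟩
  rw [map_pow] at ha
  linear_combination ha

lemma exists_eq_pow_mul (hq : EtGlue.QuotPowBijective R R' f) (n : ℕ) (hn : 0 < n) (r : R)
    (s' : R') (h : algebraMap R R' r = algebraMap R R' f ^ n * s') : ∃ ρ : R, r = f ^ n * ρ := by
  have h1 : (Ideal.quotientMap (Ideal.map (algebraMap R R') (Ideal.span {f ^ n})) (algebraMap R R')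
      Ideal.le_comap_map) (Ideal.Quotient.mk _ r) = 0 := by
    rw [Ideal.quotientMap_mk, Ideal.Quotient.eq_zero_iff_mem, Ideal.map_span, Set.image_singleton,
      Ideal.mem_span_singleton']
    exact ⟨s', by rw [map_pow, h, mul_comm]⟩
  have h2 : (Ideal.Quotient.mk (Ideal.span {f ^ n})) r = 0 := by
    apply (hq n hn).1
    rw [h1, map_zero]
  rw [Ideal.Quotient.eq_zero_iff_mem, Ideal.mem_span_singleton'] at h2
  obtain ⟨a, ha⟩ := h2
  exact ⟨a, by rw [← ha, mul_comm]⟩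

section Torsion

variable {T : Type*} [AddCommGroup T] [Module R T]

lemma smul_eq_smul_of_approx (hq : EtGlue.QuotPowBijective R R' f) (q : T) {n : ℕ} (hn : 0 < n)
    (hnq : f ^ n • q = 0) {r' : R'} {r₁ r₂ : R} (h₁ : Approx f n r' r₁) (h₂ : Approx f n r' r₂) :
    r₁ • q = r₂ • q := by
  obtain ⟨s₁, hs₁⟩ := h₁
  obtain ⟨s₂, hs₂⟩ := h₂
  have h : algebraMap R R' (r₁ - r₂) = algebraMap R R' f ^ n * (s₂ - s₁) := by
    rw [map_sub]
    linear_combination hs₂ - hs₁
  obtain ⟨ρ, hρ⟩ := exists_eq_pow_mul hq n hn _ _ h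
  rw [← sub_eq_zero, ← sub_smul, hρ, mul_comm, mul_smul, hnq, smul_zero]

lemma pow_smul_eq_zero_of_le {q : T} {n N : ℕ} (h : f ^ n • q = 0) (hn : n ≤ N) :
    f ^ N • q = 0 := by
  rw [← Nat.sub_add_cancel hn, pow_add, mul_smul, h, smul_zero]

variable (hq : EtGlue.QuotPowBijective R R' f) (ht : ∀ q : T, ∃ n : ℕ, f ^ n • q = 0)

/-- the action of `R'` on an `f`-power torsion module -/
noncomputable def act (r' : R') (q : T) : T :=
  (Classical.choose (exists_approx hq ((Classical.choose (ht q)) + 1) (Nat.succ_pos _) r')) • q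

include hq ht in
lemma act_eq {r' : R'} {q : T} {n : ℕ} (hn : 0 < n) (hnq : f ^ n • q = 0) {r : R}
    (h : Approx f n r' r) : act hq ht r' q = r • q := by
  have h0 := Classical.choose_spec (exists_approx hq ((Classical.choose (ht q)) + 1)
    (Nat.succ_pos _) r')
  have hq0 : f ^ ((Classical.choose (ht q)) + 1) • q = 0 :=
    pow_smul_eq_zero_of_le (Classical.choose_spec (ht q)) (Nat.le_succ _)
  unfold act
  rcases le_total n ((Classical.choose (ht q)) + 1) with hle | hle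
  · exact smul_eq_smul_of_approx hq q hn hnq (h0.of_le hle) h
  · exact smul_eq_smul_of_approx hq q (Nat.succ_pos _) hq0 h0 (h.of_le hle)

/-- the retraction `R' ⊗ T → T` for an `f`-power torsion module -/
noncomputable def retr : R' ⊗[R] T →ₗ[R] T :=
  TensorProduct.lift (LinearMap.mk₂ R (act hq ht)
    (by
      intro r₁' r₂' q
      obtain ⟨n, hn⟩ := ht q
      have hn' : f ^ (n + 1) • q = 0 := pow_smul_eq_zero_of_le hn (Nat.le_succ _)
      obtain ⟨r₁, h₁⟩ := exists_approx hq (n + 1) (Nat.succ_pos _) r₁'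
      obtain ⟨r₂, h₂⟩ := exists_approx hq (n + 1) (Nat.succ_pos _) r₂'
      rw [act_eq hq ht (Nat.succ_pos _) hn' h₁, act_eq hq ht (Nat.succ_pos _) hn' h₂,
        act_eq hq ht (Nat.succ_pos _) hn' (h₁.add h₂), add_smul])
    (by
      intro a r' q
      obtain ⟨n, hn⟩ := ht q
      have hn' : f ^ (n + 1) • q = 0 := pow_smul_eq_zero_of_le hn (Nat.le_succ _)
      obtain ⟨r, h⟩ := exists_approx hq (n + 1) (Nat.succ_pos _) r'
      rw [act_eq hq ht (Nat.succ_pos _) hn' h, act_eq hq ht (Nat.succ_pos _) hn' (h.smul a),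
        mul_smul])
    (by
      intro r' q₁ q₂
      obtain ⟨n₁, hn₁⟩ := ht q₁
      obtain ⟨n₂, hn₂⟩ := ht q₂
      have h1 : f ^ (n₁ + n₂ + 1) • q₁ = 0 := pow_smul_eq_zero_of_le hn₁ (by omega)
      have h2 : f ^ (n₁ + n₂ + 1) • q₂ = 0 := pow_smul_eq_zero_of_le hn₂ (by omega)
      have h3 : f ^ (n₁ + n₂ + 1) • (q₁ + q₂) = 0 := by rw [smul_add, h1, h2, add_zero]
      obtain ⟨r, h⟩ := exists_approx hq (n₁ + n₂ + 1) (Nat.succ_pos _) r'
      rw [act_eq hq ht (Nat.succ_pos _) h1 h, act_eq hq ht (Nat.succ_pos _) h2 h,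
        act_eq hq ht (Nat.succ_pos _) h3 h, smul_add])
    (by
      intro a r' q
      obtain ⟨n, hn⟩ := ht q
      have hn' : f ^ (n + 1) • q = 0 := pow_smul_eq_zero_of_le hn (Nat.le_succ _)
      have hn'' : f ^ (n + 1) • (a • q) = 0 := by rw [smul_comm, hn', smul_zero]
      obtain ⟨r, h⟩ := exists_approx hq (n + 1) (Nat.succ_pos _) r'
      rw [act_eq hq ht (Nat.succ_pos _) hn' h, act_eq hq ht (Nat.succ_pos _) hn'' h,
        smul_comm]))

include hq ht in
lemma retr_one_tmul (q : T) : retr hq ht ((1 : R') ⊗ₜ[R] q) = q := by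
  obtain ⟨n, hn⟩ := ht q
  have hn' : f ^ (n + 1) • q = 0 := pow_smul_eq_zero_of_le hn (Nat.le_succ _)
  change act hq ht 1 q = q
  rw [act_eq hq ht (Nat.succ_pos _) hn' (Approx.one _), one_smul]

include hq ht in
theorem one_tmul_injective : Function.Injective (fun q : T => (1 : R') ⊗ₜ[R] q) := by
  intro q₁ q₂ h
  have := congrArg (retr hq ht) h
  rwa [retr_one_tmul, retr_one_tmul] at this

include hq ht in
theorem one_tmul_surjective : Function.Surjective (fun q : T => (1 : R') ⊗ₜ[R] q) := by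
  intro z
  induction z using TensorProduct.induction_on with
  | zero => exact ⟨0, by simp⟩
  | add x y hx hy =>
    obtain ⟨a, ha⟩ := hx
    obtain ⟨b, hb⟩ := hy
    refine ⟨a + b, ?_⟩
    change (1 : R') ⊗ₜ[R] (a + b) = x + y
    rw [TensorProduct.tmul_add]
    exact congrArg₂ (· + ·) ha hb
  | tmul r' q =>
    obtain ⟨n, hn⟩ := ht q
    have hn' : f ^ (n + 1) • q = 0 := pow_smul_eq_zero_of_le hn (Nat.le_succ _)
    obtain ⟨r, s', hs'⟩ := exists_approx hq (n + 1) (Nat.succ_pos _) r'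
    refine ⟨r • q, ?_⟩
    change (1 : R') ⊗ₜ[R] (r • q) = r' ⊗ₜ[R] q
    rw [hs', TensorProduct.add_tmul, ← map_pow, ← Algebra.smul_def, TensorProduct.smul_tmul, hn',
      TensorProduct.tmul_zero, add_zero, Algebra.algebraMap_eq_smul_one, TensorProduct.smul_tmul]

include hq ht in
/-- an `f`-power torsion module with vanishing base change is zero -/
theorem eq_zero_of_tmul_eq_zero (q : T) (h : (1 : R') ⊗ₜ[R] q = 0) : q = 0 := by
  apply one_tmul_injective hq ht
  change (1 : R') ⊗ₜ[R] q = (1 : R') ⊗ₜ[R] (0 : T)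
  rw [h, TensorProduct.tmul_zero]

end Torsion

end Groth.Agent.Lib.Helper12.BL
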