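import Groth.Agent.Lib.Helper12.BL9

/-!
# Beauville–Laszlo glueing, part 10: flatness descends along a glueing pair (main argument)
-/

universe u

open TensorProduct Function

namespace Groth.Agent.Lib.Helper12.BL

variable {R R' : Type u} [CommRing R] [CommRing R'] [Algebra R R'] {f : R}

section Chase

variable {A B : Type u} [AddCommGroup A] [Module R A] [AddCommGroup B] [Module R B]

/-- If `A → B` is injective, `B` injects into `(R' × R_f) ⊗ B` and `R'_f ⊗ A → R'_f ⊗ B` is
injective, then `R' ⊗ A → R' ⊗ B` is injective. -/
theorem lTensor_injective_of_glueingPair (hp : EtGlue.IsGlueingPair R R' f) (g : A →ₗ[R] B)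
    (hg : Injective g) (hB : Injective (ιX R R' f B))
    (hH : Injective (LinearMap.lTensor (Localization.Away (algebraMap R R' f)) g)) :
    Injective (LinearMap.lTensor R' g) := by
  rw [injective_iff_map_eq_zero]
  intro ξ hξ
  let ζ := LinearMap.rTensor A (LinearMap.inl R R' (Localization.Away f)) ξ
  have h1 : LinearMap.lTensor (R' × Localization.Away f) g ζ = 0 := by
    change LinearMap.lTensor (R' × Localization.Away f) g (LinearMap.rTensor A _ ξ) = 0
    rw [← LinearMap.comp_apply, LinearMap.lTensor_comp_rTensor, ← LinearMap.rTensor_comp_lTensor,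
      LinearMap.comp_apply, hξ, map_zero]
  have h2 : βX R R' f A ζ = 0 := hH (by rw [βX_naturality, h1, map_zero, map_zero])
  obtain ⟨a, ha⟩ := (ι_β_exact hp A ζ).mp h2
  have h3 : ιX R R' f B (g a) = 0 := by rw [← ιX_naturality, ha, h1]
  have h4 : g a = 0 := hB (h3.trans (map_zero _).symm)
  have h5 : a = 0 := hg (h4.trans (map_zero g).symm)
  have h6 : ξ = LinearMap.rTensor A (LinearMap.fst R R' (Localization.Away f)) ζ := by
    change ξ = LinearMap.rTensor A _ (LinearMap.rTensor A _ ξ)
    rw [← LinearMap.rTensor_comp_apply, LinearMap.fst_comp_inl, LinearMap.rTensor_id_apply]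
  rw [h6, ← ha, h5, map_zero, map_zero]

end Chase

section Main

variable (M : Type u) [AddCommGroup M] [Module R M]
variable {A B : Type u} [AddCommGroup A] [Module R A] [AddCommGroup B] [Module R B]

/-- the `R_f`-algebra structure on `R'_f` -/
noncomputable local instance algAway :
    Algebra (Localization.Away f) (Localization.Away (algebraMap R R' f)) :=
  (Localization.awayMap (algebraMap R R') f).toAlgebra

local instance towerAway :
    IsScalarTower R (Localization.Away f) (Localization.Away (algebraMap R R' f)) :=
  IsScalarTower.of_algebraMap_eq'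
    (IsLocalization.map_comp (Submonoid.powers f).le_comap_map).symm

lemma decompose_eq_zero {X : Type*} [AddCommGroup X] [Module R X]
    (z : ((R' × Localization.Away f) ⊗[R] X) ⊗[R] M)
    (h1 : LinearMap.rTensor M (LinearMap.rTensor X (LinearMap.fst R R' (Localization.Away f))) z = 0)
    (h2 : LinearMap.rTensor M (LinearMap.rTensor X (LinearMap.snd R R' (Localization.Away f))) z = 0) :
    z = 0 := by
  have e : z = LinearMap.rTensor M (LinearMap.rTensor X
      (LinearMap.inl R R' (Localization.Away f) ∘ₗ LinearMap.fst R R' (Localization.Away f) +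
        LinearMap.inr R R' (Localization.Away f) ∘ₗ LinearMap.snd R R' (Localization.Away f))) z := by
    have e0 : LinearMap.inl R R' (Localization.Away f) ∘ₗ LinearMap.fst R R' (Localization.Away f) +
        LinearMap.inr R R' (Localization.Away f) ∘ₗ LinearMap.snd R R' (Localization.Away f) =
        LinearMap.id := by
      ext <;> simp
    rw [e0, LinearMap.rTensor_id, LinearMap.rTensor_id, LinearMap.id_apply]
  rw [e, LinearMap.rTensor_add, LinearMap.rTensor_add, LinearMap.add_apply, LinearMap.rTensor_comp,
    LinearMap.rTensor_comp, LinearMap.rTensor_comp, LinearMap.rTensor_comp, LinearMap.comp_apply,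
    LinearMap.comp_apply, h1, h2, map_zero, map_zero, add_zero]

/-- **Key step.** For a glueing pair and a module `M` whose base changes to `R'` and `R_f` are
flat: if `A → B` is injective, `B` injects into `(R' × R_f) ⊗ B` and `R'_f ⊗ A → R'_f ⊗ B` is
injective, then `A ⊗ M → B ⊗ M` is injective. -/
theorem rTensor_injective_of_glueingPair (hp : EtGlue.IsGlueingPair R R' f)
    [Module.Flat R' (R' ⊗[R] M)] [Module.Flat (Localization.Away f) (Localization.Away f ⊗[R] M)]
    (g : A →ₗ[R] B) (hg : Injective g) (hB : Injective (ιX R R' f B))
    (hH : Injective (LinearMap.lTensor (Localization.Away (algebraMap R R' f)) g)) :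
    Injective (LinearMap.rTensor M g) := by
  rw [injective_iff_map_eq_zero]
  intro x hx
  have hιA : Injective (ιX R R' f A) := ιX_injective_of_injective g hg hB
  have hinj : Injective (LinearMap.rTensor M (ιX R R' f A)) :=
    rTensor_injective_of_module_quotient (Localization.Away f) M (ιX R R' f A) (βX R R' f A) hιA
      (ι_β_exact hp A) (βX_surjective hp A)
  apply hinj
  rw [map_zero]
  apply decompose_eq_zero
  · -- the `R'`-component
    have hinj' : Injective (LinearMap.rTensor M (LinearMap.lTensor R' g)) := by
      have := Groth.Agent.Lib.Helper9.rTensor_injective_of_flat_baseChange (R := R) M R'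
        (g.baseChange R') (by
          rw [LinearMap.baseChange_eq_ltensor]
          exact lTensor_injective_of_glueingPair hp g hg hB hH)
      exact this
    apply hinj'
    rw [map_zero, ← LinearMap.rTensor_comp_apply, ← LinearMap.rTensor_comp_apply]
    have e : (LinearMap.lTensor R' g ∘ₗ
        LinearMap.rTensor A (LinearMap.fst R R' (Localization.Away f))) ∘ₗ ιX R R' f A =
        TensorProduct.mk R R' B 1 ∘ₗ g := by
      ext a
      simp [ιX_apply]
    rw [e, LinearMap.rTensor_comp_apply, hx, map_zero]
  · -- the `R_f`-component
    have hinj' : Injective (LinearMap.rTensor M (LinearMap.lTensor (Localization.Away f) g)) := by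
      have := Groth.Agent.Lib.Helper9.rTensor_injective_of_flat_baseChange (R := R) M (Localization.Away f)
        (g.baseChange (Localization.Away f)) (by
          rw [LinearMap.baseChange_eq_ltensor]
          exact Module.Flat.lTensor_preserves_injective_linearMap g hg)
      exact this
    apply hinj'
    rw [map_zero, ← LinearMap.rTensor_comp_apply, ← LinearMap.rTensor_comp_apply]
    have e : (LinearMap.lTensor (Localization.Away f) g ∘ₗ
        LinearMap.rTensor A (LinearMap.snd R R' (Localization.Away f))) ∘ₗ ιX R R' f A =
        TensorProduct.mk R (Localization.Away f) B 1 ∘ₗ g := by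
      ext a
      simp [ιX_apply]
    rw [e, LinearMap.rTensor_comp_apply, hx, map_zero]


/-- Steps b and c of the flatness argument, for abstract modules. -/
theorem mem_range_rTensor_ker_of_glueingPair (hp : EtGlue.IsGlueingPair R R' f)
    [Module.Flat R' (R' ⊗[R] M)] [Module.Flat (Localization.Away f) (Localization.Away f ⊗[R] M)]
    [Module (Localization.Away f) B] [IsScalarTower R (Localization.Away f) B]
    (g : A →ₗ[R] B) (ht : ∀ b : B, ∃ (n : ℕ) (a : A), g a = f ^ n • b)
    (x : A ⊗[R] M) (hx : LinearMap.rTensor M g x = 0) :
    x ∈ LinearMap.range (LinearMap.rTensor M (LinearMap.ker g).subtype) := by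
  let A' : Submodule R B := LinearMap.range g
  have htors : ∀ q : B ⧸ A', ∃ n : ℕ, f ^ n • q = 0 := by
    intro q
    obtain ⟨b, rfl⟩ := Submodule.Quotient.mk_surjective A' q
    obtain ⟨n, a, ha⟩ := ht b
    refine ⟨n, ?_⟩
    rw [← Submodule.Quotient.mk_smul, Submodule.Quotient.mk_eq_zero]
    exact ⟨a, ha⟩
  have hb : LinearMap.rTensor M g.rangeRestrict x = 0 := by
    have hinj : Injective (LinearMap.rTensor M A'.subtype) := by
      apply rTensor_injective_of_glueingPair (A := A') (B := B) M hp A'.subtype
        (Submodule.injective_subtype A') (ιX_injective_of_module B)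
      have : Subsingleton (Localization.Away f ⊗[R] (B ⧸ A')) :=
        subsingleton_tensor_of_torsion (divisible_of_module (Localization.Away f)) htors
      have : Module.Free (Localization.Away f) (Localization.Away f ⊗[R] (B ⧸ A')) :=
        Module.Free.of_subsingleton _ _
      exact lTensor_injective_of_flat_baseChange (Localization.Away f)
        (Localization.Away (algebraMap R R' f)) A'.subtype A'.mkQ (Submodule.injective_subtype A')
        (LinearMap.exact_subtype_mkQ A') (Submodule.mkQ_surjective A')
    apply hinj
    rw [map_zero, ← LinearMap.rTensor_comp_apply]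
    have e : A'.subtype ∘ₗ g.rangeRestrict = g := by
      ext r
      rfl
    rw [e, hx]
  have hex : Exact (LinearMap.rTensor M (LinearMap.ker g).subtype)
      (LinearMap.rTensor M g.rangeRestrict) := by
    apply rTensor_exact M
    · intro r
      constructor
      · intro hr
        exact ⟨⟨r, congrArg Subtype.val hr⟩, rfl⟩
      · rintro ⟨k, rfl⟩
        exact Subtype.ext k.2
    · exact LinearMap.surjective_rangeRestrict g
  exact (hex x).mp hb

/-- Step d of the flatness argument, for abstract modules. -/
theorem rTensor_injective_of_torsion_of_glueingPair (hp : EtGlue.IsGlueingPair R R' f)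
    [Module.Flat R' (R' ⊗[R] M)] [Module.Flat (Localization.Away f) (Localization.Away f ⊗[R] M)]
    (c : A →ₗ[R] R) (hc : Injective c) (hk : ∀ k : A, ∃ n : ℕ, f ^ n • k = 0) :
    Injective (LinearMap.rTensor M c) := by
  apply rTensor_injective_of_glueingPair M hp c hc (ιX_injective_self hp)
  have : Subsingleton (Localization.Away (algebraMap R R' f) ⊗[R] A) :=
    subsingleton_tensor_of_torsion
      (divisible_of_module (Localization.Away (algebraMap R R' f))) hk
  exact fun a b _ => Subsingleton.elim a b

/-- **Flatness descends along a glueing pair.** -/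
theorem flat_of_glueingPair (hp : EtGlue.IsGlueingPair R R' f)
    [Module.Flat R' (R' ⊗[R] M)] [Module.Flat (Localization.Away f) (Localization.Away f ⊗[R] M)] :
    Module.Flat R M := by
  rw [Module.Flat.iff_rTensor_injective']
  intro I
  rw [injective_iff_map_eq_zero]
  intro x hx
  -- the extended ideal `J = I R_f` and the map `g : I → J`
  let J : Ideal (Localization.Away f) := Ideal.map (algebraMap R (Localization.Away f)) I
  let g : I →ₗ[R] J :=
    { toFun := fun r => ⟨algebraMap R (Localization.Away f) r, Ideal.mem_map_of_mem _ r.2⟩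
      map_add' := fun a b => Subtype.ext (by simp)
      map_smul' := fun a b => Subtype.ext (by simp [Algebra.smul_def]) }
  have hgval : ∀ r : I, ((g r : J) : Localization.Away f) = algebraMap R (Localization.Away f) r :=
    fun r => rfl
  -- Step a
  have ha : LinearMap.rTensor M g x = 0 := by
    have hinj : Injective (LinearMap.rTensor M ((Submodule.subtype J).restrictScalars R)) :=
      Groth.Agent.Lib.Helper9.rTensor_injective_of_flat_baseChange (R := R) M (Localization.Away f)
        (Submodule.subtype J) (Submodule.injective_subtype J)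
    apply hinj
    rw [map_zero, ← LinearMap.rTensor_comp_apply]
    have e : (Submodule.subtype J).restrictScalars R ∘ₗ g =
        Algebra.linearMap R (Localization.Away f) ∘ₗ I.subtype := by
      ext r
      rfl
    rw [e, LinearMap.rTensor_comp_apply, hx, map_zero]
  -- Steps b, c
  have ht : ∀ b : J, ∃ (n : ℕ) (a : I), g a = f ^ n • b := by
    rintro ⟨j, hj⟩
    obtain ⟨⟨a, ⟨_, n, rfl⟩⟩, ha⟩ :=
      (IsLocalization.mem_map_algebraMap_iff (Submonoid.powers f) (Localization.Away f)).mp hj
    refine ⟨n, a, Subtype.ext ?_⟩
    rw [hgval, ← ha]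
    change _ = f ^ n • j
    rw [Algebra.smul_def, mul_comm]
  obtain ⟨y, rfl⟩ := mem_range_rTensor_ker_of_glueingPair M hp g ht x ha
  -- Step d
  have hktors : ∀ k : LinearMap.ker g, ∃ n : ℕ, f ^ n • k = 0 := by
    intro k
    have h0 : algebraMap R (Localization.Away f) (k : I) = 0 := congrArg Subtype.val k.2
    rw [IsLocalization.map_eq_zero_iff (Submonoid.powers f)] at h0
    obtain ⟨⟨_, n, rfl⟩, hn⟩ := h0
    exact ⟨n, Subtype.ext (Subtype.ext hn)⟩
  have hinjc : Injective (LinearMap.rTensor M (I.subtype ∘ₗ (LinearMap.ker g).subtype)) :=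
    rTensor_injective_of_torsion_of_glueingPair M hp _
      ((Submodule.injective_subtype I).comp (Submodule.injective_subtype _)) hktors
  have hy : y = 0 := by
    apply hinjc
    rw [map_zero, LinearMap.rTensor_comp_apply]
    exact hx
  rw [hy, map_zero]

end Main

end Groth.Agent.Lib.Helper12.BL
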