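import Groth.Agent.Lib.Helper12.BL10

/-!
# Beauville–Laszlo glueing, part 11: `Tor₁(R', Q) = 0` for `f`-power torsion `Q`
-/

universe u

open TensorProduct Function

namespace Groth.Agent.Lib.Helper12.BL

variable {R R' : Type u} [CommRing R] [CommRing R'] [Algebra R R'] {f : R}

lemma seqα_injective (hp : EtGlue.IsGlueingPair R R' f) : Injective (seqα R R' f) := by
  intro a b hab
  exact hp.2.1 hab

lemma ιX_injective_of_flat (hp : EtGlue.IsGlueingPair R R' f) (P : Type*) [AddCommGroup P]
    [Module R P] [Module.Flat R P] : Injective (ιX R R' f P) := by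
  intro a b hab
  have h1 : Injective (LinearMap.rTensor P (seqα R R' f)) :=
    Module.Flat.rTensor_preserves_injective_linearMap _ (seqα_injective hp)
  exact (TensorProduct.lid R P).symm.injective (h1 hab)

/-- the `R_f`-algebra structure on `R'_f` -/
noncomputable local instance algAway' :
    Algebra (Localization.Away f) (Localization.Away (algebraMap R R' f)) :=
  (Localization.awayMap (algebraMap R R') f).toAlgebra

local instance towerAway' :
    IsScalarTower R (Localization.Away f) (Localization.Away (algebraMap R R' f)) :=
  IsScalarTower.of_algebraMap_eq'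
    (IsLocalization.map_comp (Submonoid.powers f).le_comap_map).symm

/-- If `0 → A → P → Q → 0` is exact with `P` flat and `Q` is `f`-power torsion, then
`R' ⊗ A → R' ⊗ P` is injective. -/
theorem lTensor_injective_of_torsion_quotient (hp : EtGlue.IsGlueingPair R R' f)
    {A P Q : Type u} [AddCommGroup A] [Module R A] [AddCommGroup P] [Module R P]
    [Module.Flat R P] [AddCommGroup Q] [Module R Q]
    (g : A →ₗ[R] P) (q : P →ₗ[R] Q) (hg : Injective g) (hgq : Exact g q) (hq : Surjective q)
    (htors : ∀ x : Q, ∃ n : ℕ, f ^ n • x = 0) :
    Injective (LinearMap.lTensor R' g) := by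
  apply lTensor_injective_of_glueingPair hp g hg (ιX_injective_of_flat hp P)
  have : Subsingleton (Localization.Away f ⊗[R] Q) :=
    subsingleton_tensor_of_torsion (divisible_of_module (Localization.Away f)) htors
  have : Module.Free (Localization.Away f) (Localization.Away f ⊗[R] Q) :=
    Module.Free.of_subsingleton _ _
  exact lTensor_injective_of_flat_baseChange (Localization.Away f)
    (Localization.Away (algebraMap R R' f)) g q hg hgq hq

/-- `Tor₁(R', Q) = 0` for `f`-power torsion `Q`, for a glueing pair. -/
theorem subsingleton_tor_one_of_torsion (hp : EtGlue.IsGlueingPair R R' f)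
    (Q : Type u) [AddCommGroup Q] [Module R Q] (htors : ∀ x : Q, ∃ n : ℕ, f ^ n • x = 0) :
    Subsingleton (DRing.Tor R 1 R' Q) := by
  obtain ⟨P, _, _, _, p, hpp⟩ := exists_free_presentation (R := R) Q
  exact Groth.Agent.Lib.Helper12.TorSecond.subsingleton_tor_one_of_injective R'
    (LinearMap.ker p).subtype p (Submodule.injective_subtype _) hpp
    (LinearMap.exact_subtype_ker_map p)
    (lTensor_injective_of_torsion_quotient hp (LinearMap.ker p).subtype p
      (Submodule.injective_subtype _) (LinearMap.exact_subtype_ker_map p) hpp htors)

end Groth.Agent.Lib.Helper12.BL
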