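import Groth.Agent.Lib.Helper12.BL11

/-!
# Beauville–Laszlo glueing, part 12: finiteness and finite presentation of modules
-/

universe u

open TensorProduct Function

namespace Groth.Agent.Lib.Helper12.BL

variable {R R' : Type u} [CommRing R] [CommRing R'] [Algebra R R'] {f : R}

section Finite

variable (M : Type u) [AddCommGroup M] [Module R M]

/-- If `M_f` is finite over `R_f`, there is a finite subset of `M` whose span contains an `f`-power
multiple of every element. -/
theorem exists_finset_of_finite_localizedModule
    [Module.Finite (Localization.Away f) (LocalizedModule (Submonoid.powers f) M)] :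
    ∃ s : Finset M, ∀ m : M, ∃ n : ℕ, f ^ n • m ∈ Submodule.span R (s : Set M) := by
  classical
  obtain ⟨S₁, hS₁⟩ := (Module.Finite.fg_top :
    (⊤ : Submodule (Localization.Away f) (LocalizedModule (Submonoid.powers f) M)).FG)
  have hrep : ∀ z : LocalizedModule (Submonoid.powers f) M, ∃ (m : M) (s : Submonoid.powers f),
      z = LocalizedModule.mk m s := by
    intro z
    induction z using LocalizedModule.induction_on with
    | h m s => exact ⟨m, s, rfl⟩
  choose rm rs hr using hrep
  refine ⟨S₁.image rm, fun m => ?_⟩
  have htop : Submodule.span (Localization.Away f)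
      ((LocalizedModule.mkLinearMap (Submonoid.powers f) M) '' ((S₁.image rm : Finset M) : Set M)) = ⊤ := by
    rw [eq_top_iff, ← hS₁, Submodule.span_le]
    intro z hz
    have e : z = (IsLocalization.mk' (Localization.Away f) (1 : R) (rs z)) •
        LocalizedModule.mkLinearMap (Submonoid.powers f) M (rm z) := by
      conv_lhs => rw [hr z]
      rw [LocalizedModule.mkLinearMap_apply, ← Localization.mk_eq_mk', LocalizedModule.mk_smul_mk,
        one_smul, mul_one]
    rw [e]
    apply Submodule.smul_mem
    apply Submodule.subset_span
    refine ⟨rm z, ?_, rfl⟩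
    rw [Finset.coe_image]
    exact ⟨z, hz, rfl⟩
  obtain ⟨⟨_, n, rfl⟩, hn⟩ := multiple_mem_span_of_mem_localization_span (Submonoid.powers f)
    (Localization.Away f)
    ((LocalizedModule.mkLinearMap (Submonoid.powers f) M) '' ((S₁.image rm : Finset M) : Set M))
    (LocalizedModule.mkLinearMap (Submonoid.powers f) M m) (by rw [htop]; trivial)
  rw [← Submodule.map_span] at hn
  obtain ⟨m₀, hm₀, e⟩ := hn
  rw [Submonoid.smul_def, ← map_smul] at e
  have e2 : LocalizedModule.mkLinearMap (Submonoid.powers f) M (m₀ - f ^ n • m) = 0 := by
    rw [map_sub, e, sub_self]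
  rw [mkLinearMap_eq_zero_iff] at e2
  obtain ⟨j, hj⟩ := e2
  refine ⟨j + n, ?_⟩
  rw [smul_sub, sub_eq_zero] at hj
  rw [pow_add, mul_smul, ← hj]
  exact Submodule.smul_mem _ _ hm₀

/-- If `R' ⊗ M` is finite over `R'`, there is a finite subset `s` of `M` such that `R' ⊗ C → R' ⊗ M` is
onto for every submodule `C ⊇ s`. -/
theorem exists_finset_of_finite_baseChange [Module.Finite R' (R' ⊗[R] M)] :
    ∃ s : Finset M, ∀ C : Submodule R M, (s : Set M) ⊆ C →
      ∀ z : R' ⊗[R] M, z ∈ LinearMap.range (LinearMap.lTensor R' C.subtype) := by
  classical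
  obtain ⟨S₂, hS₂⟩ := (Module.Finite.fg_top : (⊤ : Submodule R' (R' ⊗[R] M)).FG)
  choose T hT using fun z : R' ⊗[R] M => TensorProduct.exists_finset z
  refine ⟨S₂.biUnion (fun z => (T z).image Prod.snd), fun C hC z => ?_⟩
  have hz : z ∈ Submodule.span R' (S₂ : Set (R' ⊗[R] M)) := by rw [hS₂]; trivial
  have hle : Submodule.span R' (S₂ : Set (R' ⊗[R] M)) ≤
      LinearMap.range (C.subtype.baseChange R') := by
    rw [Submodule.span_le]
    intro x hx
    rw [hT x]
    refine Submodule.sum_mem _ fun i hi => ?_
    have hi2 : i.2 ∈ C := by
      apply hC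
      rw [Finset.coe_biUnion]
      refine Set.mem_iUnion₂.mpr ⟨x, hx, ?_⟩
      rw [Finset.coe_image]
      exact ⟨i, hi, rfl⟩
    exact ⟨i.1 ⊗ₜ[R] ⟨i.2, hi2⟩, by simp⟩
  obtain ⟨w, hw⟩ := hle hz
  exact ⟨w, hw⟩

/-- Finiteness descends along `R → R' × R_f` when `R/f^n ≅ R'/f^n`. -/
theorem finite_of_quotPowBijective (hq : EtGlue.QuotPowBijective R R' f)
    [Module.Finite R' (R' ⊗[R] M)]
    [Module.Finite (Localization.Away f) (LocalizedModule (Submonoid.powers f) M)] :
    Module.Finite R M := by
  classical
  obtain ⟨s₁, hs₁⟩ := exists_finset_of_finite_localizedModule (R := R) (f := f) M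
  obtain ⟨s₂, hs₂⟩ := exists_finset_of_finite_baseChange (R := R) (R' := R') M
  have key : Submodule.span R ((s₁ ∪ s₂ : Finset M) : Set M) = ⊤ := by
    apply submodule_eq_top hq
    · intro m
      obtain ⟨n, hn⟩ := hs₁ m
      exact ⟨n, Submodule.span_mono (by simp) hn⟩
    · intro m
      apply hs₂
      intro x hx
      exact Submodule.subset_span (by
        rw [Finset.coe_union]
        exact Or.inr hx)
  exact ⟨⟨s₁ ∪ s₂, key⟩⟩

end Finite

section FP

variable (M : Type u) [AddCommGroup M] [Module R M]

theorem exists_finite_free_presentation [Module.Finite R M] :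
    ∃ (P : Type u) (_ : AddCommGroup P) (_ : Module R P) (_ : Module.Free R P)
      (_ : Module.Finite R P) (p : P →ₗ[R] M), Surjective p := by
  obtain ⟨n, p, hp⟩ := Module.Finite.exists_fin' R M
  exact ⟨Fin n → R, inferInstance, inferInstance, inferInstance, inferInstance, p, hp⟩

variable {M}

/-- `S ⊗ ker p` is finite when `S ⊗ M` is finitely presented and `S ⊗ ker p → S ⊗ P` is
injective. -/
theorem finite_baseChange_ker (S : Type u) [CommRing S] [Algebra R S] {P : Type u} [AddCommGroup P]
    [Module R P] [Module.Finite R P] (p : P →ₗ[R] M) (hp : Surjective p)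
    [Module.FinitePresentation S (S ⊗[R] M)]
    (hinj : Injective (LinearMap.lTensor S (LinearMap.ker p).subtype)) :
    Module.Finite S (S ⊗[R] LinearMap.ker p) := by
  let j : S ⊗[R] LinearMap.ker p →ₗ[S] S ⊗[R] P := (LinearMap.ker p).subtype.baseChange S
  have hj : Injective j := hinj
  have hpS : Surjective (p.baseChange S) := LinearMap.lTensor_surjective S hp
  have hfg : (LinearMap.ker (p.baseChange S)).FG :=
    Module.FinitePresentation.fg_ker (p.baseChange S) hpS
  have hrange : LinearMap.range j = LinearMap.ker (p.baseChange S) := by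
    ext z
    have hex := lTensor_exact S (LinearMap.exact_subtype_ker_map p) hp z
    constructor
    · rintro ⟨w, rfl⟩
      exact hex.mpr ⟨w, rfl⟩
    · intro hz
      obtain ⟨w, hw⟩ := hex.mp hz
      exact ⟨w, hw⟩
  have hfin : Module.Finite S (LinearMap.range j) := by
    rw [Module.Finite.iff_fg, hrange]
    exact hfg
  exact Module.Finite.equiv (LinearEquiv.ofInjective j hj).symm

variable (M)

/-- Finite presentation descends along a glueing pair for flat modules. -/
theorem finitePresentation_of_glueingPair (hp : EtGlue.IsGlueingPair R R' f) [Module.Flat R M]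
    [Module.FinitePresentation R' (R' ⊗[R] M)]
    [Module.FinitePresentation (Localization.Away f) (LocalizedModule (Submonoid.powers f) M)] :
    Module.FinitePresentation R M := by
  have hfin : Module.Finite R M := finite_of_quotPowBijective M hp.1
  obtain ⟨P, _, _, _, _, p, hpp⟩ := exists_finite_free_presentation (R := R) M
  have h1 : Module.Finite R' (R' ⊗[R] LinearMap.ker p) :=
    finite_baseChange_ker R' p hpp
      (LinearMap.lTensor_injective_of_exact_of_flat p hpp (LinearMap.ker p).subtype
        (Submodule.injective_subtype _) (LinearMap.exact_subtype_ker_map p) R')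
  have : Module.FinitePresentation (Localization.Away f) (Localization.Away f ⊗[R] M) :=
    Module.FinitePresentation.of_equiv (LocalizedModule.equivTensorProduct (Submonoid.powers f) M)
  have h2' : Module.Finite (Localization.Away f) (Localization.Away f ⊗[R] LinearMap.ker p) :=
    finite_baseChange_ker (Localization.Away f) p hpp
      (Module.Flat.lTensor_preserves_injective_linearMap _ (Submodule.injective_subtype _))
  have h2 : Module.Finite (Localization.Away f)
      (LocalizedModule (Submonoid.powers f) (LinearMap.ker p)) :=
    Module.Finite.equiv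
      (LocalizedModule.equivTensorProduct (Submonoid.powers f) (LinearMap.ker p)).symm
  have h3 : Module.Finite R (LinearMap.ker p) := finite_of_quotPowBijective _ hp.1
  exact Module.finitePresentation_of_free_of_surjective p hpp (Module.Finite.iff_fg.mp h3)

/-- Finite projective modules descend along a glueing pair. -/
theorem finite_projective_of_glueingPair (hp : EtGlue.IsGlueingPair R R' f)
    [Module.Finite R' (R' ⊗[R] M)] [Module.Projective R' (R' ⊗[R] M)]
    [Module.Finite (Localization.Away f) (LocalizedModule (Submonoid.powers f) M)]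
    [Module.Projective (Localization.Away f) (LocalizedModule (Submonoid.powers f) M)] :
    Module.Finite R M ∧ Module.Projective R M := by
  have hfin : Module.Finite R M := finite_of_quotPowBijective M hp.1
  have : Module.Flat (Localization.Away f) (Localization.Away f ⊗[R] M) :=
    Module.Flat.of_linearEquiv (LocalizedModule.equivTensorProduct (Submonoid.powers f) M).symm
  have hflat : Module.Flat R M := flat_of_glueingPair M hp
  have : Module.FinitePresentation R' (R' ⊗[R] M) := Module.finitePresentation_of_projective _ _
  have : Module.FinitePresentation (Localization.Away f)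
      (LocalizedModule (Submonoid.powers f) M) := Module.finitePresentation_of_projective _ _
  have hfp : Module.FinitePresentation R M := finitePresentation_of_glueingPair M hp
  exact ⟨hfin, Module.Flat.projective_of_finitePresentation⟩

end FP

end Groth.Agent.Lib.Helper12.BL
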