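import Groth.Agent.Lib.Helper12.BL4

/-!
# Beauville–Laszlo glueing, part 5: tensoring the glueing sequence with a module
-/

universe u

open TensorProduct

namespace Groth.Agent.Lib.Helper12.BL

variable {R R' : Type u} [CommRing R] [CommRing R'] [Algebra R R'] {f : R}

section Seq

variable (R R' f)

/-- `R → R' × R_f` -/
noncomputable def seqα : R →ₗ[R] R' × Localization.Away f :=
  LinearMap.prod (Algebra.linearMap R R') (Algebra.linearMap R (Localization.Away f))

/-- `R_f → R'_f` as an `R`-linear map -/
noncomputable def awayLin :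
    Localization.Away f →ₗ[R] Localization.Away (algebraMap R R' f) where
  toFun := Localization.awayMap (algebraMap R R') f
  map_add' := map_add _
  map_smul' r y := by
    simp only [Algebra.smul_def, map_mul, RingHom.id_apply]
    congr 1
    rw [IsScalarTower.algebraMap_apply R R' (Localization.Away (algebraMap R R' f))]
    exact IsLocalization.map_eq _ _

/-- `R' × R_f → R'_f` -/
noncomputable def seqβ : R' × Localization.Away f →ₗ[R] Localization.Away (algebraMap R R' f) :=
  LinearMap.coprod
    ((Algebra.linearMap R' (Localization.Away (algebraMap R R' f))).restrictScalars R)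
    (-(awayLin R R' f))

lemma seqβ_apply (x : R') (y : Localization.Away f) :
    seqβ R R' f (x, y) = algebraMap R' (Localization.Away (algebraMap R R' f)) x -
      Localization.awayMap (algebraMap R R') f y := by
  simp [seqβ, awayLin, sub_eq_add_neg]

variable {R R' f}

lemma seq_exact (h : EtGlue.IsGlueingPair R R' f) :
    Function.Exact (seqα R R' f) (seqβ R R' f) := by
  rintro ⟨x, y⟩
  rw [seqβ_apply, sub_eq_zero]
  constructor
  · intro e
    obtain ⟨r, hr1, hr2⟩ := h.2.2.1 x y e
    exact ⟨r, by simp [seqα, hr1, hr2]⟩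
  · rintro ⟨r, hr⟩
    have hr1 : algebraMap R R' r = x := congrArg Prod.fst hr
    have hr2 : algebraMap R (Localization.Away f) r = y := congrArg Prod.snd hr
    rw [← hr1, ← hr2]
    exact (IsLocalization.map_eq _ _).symm

lemma seqβ_surjective (h : EtGlue.IsGlueingPair R R' f) :
    Function.Surjective (seqβ R R' f) := by
  intro z
  obtain ⟨x, y, e⟩ := h.2.2.2 z
  exact ⟨(x, y), by rw [seqβ_apply, e]⟩

end Seq

/-- For a glueing pair, every `f`-power torsion element of `R' ⊗ M` comes from an `f`-power torsion
element of `M`. -/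
theorem exists_torsion_of_glueingPair (h : EtGlue.IsGlueingPair R R' f)
    (M : Type u) [AddCommGroup M] [Module R M] (x : R' ⊗[R] M) (hx : ∃ n : ℕ, f ^ n • x = 0) :
    ∃ m : M, (∃ n : ℕ, f ^ n • m = 0) ∧ (1 : R') ⊗ₜ[R] m = x := by
  obtain ⟨n, hn⟩ := hx
  have hex := rTensor_exact M (seq_exact h) (seqβ_surjective h)
  let ξ := LinearMap.rTensor M (LinearMap.inl R R' (Localization.Away f)) x
  have hξ : LinearMap.rTensor M (seqβ R R' f) ξ = 0 := by
    have hu : IsUnit (algebraMap R (Localization.Away (algebraMap R R' f)) (f ^ n)) := by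
      rw [IsScalarTower.algebraMap_apply R R' (Localization.Away (algebraMap R R' f)), map_pow,
        map_pow]
      exact (IsLocalization.Away.algebraMap_isUnit (algebraMap R R' f)).pow n
    rw [← hu.smul_eq_zero, algebraMap_smul, ← map_smul, ← map_smul, hn, map_zero, map_zero]
  obtain ⟨w, hw⟩ := (hex ξ).mp hξ
  refine ⟨TensorProduct.lid R M w, ?_, ?_⟩
  · have e0 : w = (1 : R) ⊗ₜ[R] (TensorProduct.lid R M w) := by
      rw [← TensorProduct.lid_symm_apply, LinearEquiv.symm_apply_apply]
    have e1 : LinearMap.rTensor M (LinearMap.snd R R' (Localization.Away f)) ξ = 0 := by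
      change LinearMap.rTensor M _ (LinearMap.rTensor M _ x) = 0
      rw [← LinearMap.rTensor_comp_apply, LinearMap.snd_comp_inl, LinearMap.rTensor_zero,
        LinearMap.zero_apply]
    rw [← hw, e0, LinearMap.rTensor_tmul, LinearMap.rTensor_tmul] at e1
    have e2 : TensorProduct.mk R (Localization.Away f) M 1 (TensorProduct.lid R M w) = 0 := by
      rw [← e1]
      simp [seqα]
    rw [IsLocalizedModule.eq_zero_iff (Submonoid.powers f)] at e2
    obtain ⟨⟨_, k, rfl⟩, hk⟩ := e2
    exact ⟨k, hk⟩
  · have e0 : w = (1 : R) ⊗ₜ[R] (TensorProduct.lid R M w) := by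
      rw [← TensorProduct.lid_symm_apply, LinearEquiv.symm_apply_apply]
    have e1 : LinearMap.rTensor M (LinearMap.fst R R' (Localization.Away f)) ξ = x := by
      change LinearMap.rTensor M _ (LinearMap.rTensor M _ x) = x
      rw [← LinearMap.rTensor_comp_apply, LinearMap.fst_comp_inl, LinearMap.rTensor_id_apply]
    rw [← hw, e0, LinearMap.rTensor_tmul, LinearMap.rTensor_tmul] at e1
    rw [← e1]
    simp [seqα]

end Groth.Agent.Lib.Helper12.BL
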