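import Groth.Agent.Lib.Helper12.BL12
import Groth.Agent.S2004

/-!
# Beauville–Laszlo glueing, part 13: the relative glueing pair `(A → R' ⊗ A, f)`
-/

universe u

open TensorProduct Function

namespace Groth.Agent.Lib.Helper12.BL

attribute [local instance] Algebra.TensorProduct.rightAlgebra

variable {R R' : Type u} [CommRing R] [CommRing R'] [Algebra R R'] {f : R}
variable (A : Type u) [CommRing A] [Algebra R A]

lemma algebraMap_right_apply (a : A) : algebraMap A (R' ⊗[R] A) a = (1 : R') ⊗ₜ[R] a := rfl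

lemma pow_smul_eq_mul (n : ℕ) (z : R' ⊗[R] A) :
    f ^ n • z = algebraMap A (R' ⊗[R] A) (algebraMap R A f ^ n) * z := by
  induction z using TensorProduct.induction_on with
  | zero => simp
  | add x y hx hy => rw [smul_add, mul_add, hx, hy]
  | tmul r' a =>
    rw [algebraMap_right_apply, Algebra.TensorProduct.tmul_mul_tmul, one_mul,
      ← TensorProduct.tmul_smul, Algebra.smul_def, map_pow]

theorem quotPowBijective_rel (hq : EtGlue.QuotPowBijective R R' f) :
    EtGlue.QuotPowBijective A (R' ⊗[R] A) (algebraMap R A f) := by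
  intro n hn
  constructor
  · rw [injective_iff_map_eq_zero]
    intro x hx
    obtain ⟨a, rfl⟩ := Ideal.Quotient.mk_surjective x
    rw [Ideal.quotientMap_mk, Ideal.Quotient.eq_zero_iff_mem, Ideal.map_span, Set.image_singleton,
      Ideal.mem_span_singleton'] at hx
    obtain ⟨z, hz⟩ := hx
    have h1 : (1 : R') ⊗ₜ[R] a = f ^ n • z := by
      rw [pow_smul_eq_mul, mul_comm, hz, algebraMap_right_apply]
    obtain ⟨m₂, hm₂⟩ := exists_eq_pow_smul_of_tmul hq n a z h1
    rw [Ideal.Quotient.eq_zero_iff_mem, Ideal.mem_span_singleton']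
    exact ⟨m₂, by rw [hm₂, Algebra.smul_def, map_pow, mul_comm]⟩
  · intro y
    obtain ⟨z, rfl⟩ := Ideal.Quotient.mk_surjective y
    obtain ⟨a, ν, h⟩ := GlueData.exists_eq_one_tmul_add hq n hn z
    refine ⟨Ideal.Quotient.mk _ a, ?_⟩
    rw [Ideal.quotientMap_mk, Ideal.Quotient.eq, Ideal.map_span, Set.image_singleton,
      Ideal.mem_span_singleton']
    refine ⟨-ν, ?_⟩
    have e1 : algebraMap A (R' ⊗[R] A) a = (1 : R') ⊗ₜ[R] a := rfl
    rw [h, pow_smul_eq_mul, ← e1]
    ring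

theorem isGlueingPair_rel (hp : EtGlue.IsGlueingPair R R' f) (hA : EtGlue.IsGlueable R R' f A) :
    EtGlue.IsGlueingPair A (R' ⊗[R] A) (algebraMap R A f) := by
  have hg := (isGlueable_iff A hp.1).mp hA
  refine (Groth.Agent.S2004.result A (R' ⊗[R] A) (algebraMap R A f)
    (quotPowBijective_rel A hp.1)).mpr ⟨?_, ?_⟩
  · rintro x ⟨n, hn⟩ h0
    exact hg.1 x ⟨n, by rw [Algebra.smul_def, map_pow]; exact hn⟩ h0
  · rintro x' ⟨n, hn⟩
    have hn' : f ^ n • x' = 0 := by
      rw [pow_smul_eq_mul, map_pow]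
      exact hn
    obtain ⟨m, ⟨k, hk⟩, hm⟩ := hg.2 x' ⟨n, hn'⟩
    exact ⟨m, ⟨k, by rw [← hk, Algebra.smul_def, map_pow]⟩, hm⟩

end Groth.Agent.Lib.Helper12.BL
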