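import Groth.Agent.Lib.Helper12.BL13

/-!
# Beauville–Laszlo glueing, part 14: flat ring maps between glueable algebras
-/

universe u

open TensorProduct Function

namespace Groth.Agent.Lib.Helper12.BL

attribute [local instance] Algebra.TensorProduct.rightAlgebra

variable {R R' : Type u} [CommRing R] [CommRing R'] [Algebra R R'] {f : R}
variable {A B : Type u} [CommRing A] [Algebra R A] [CommRing B] [Algebra R B]
  [Algebra A B] [IsScalarTower R A B]

section Tensor

variable (R R' A B)

/-- the map `R' ⊗ A → R' ⊗ B` -/
noncomputable abbrev tmap : R' ⊗[R] A →ₐ[R] R' ⊗[R] B :=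
  Algebra.TensorProduct.map (AlgHom.id R R') (IsScalarTower.toAlgHom R A B)

/-- the algebra structure on `R' ⊗ B` over `R' ⊗ A` -/
noncomputable local instance tmapAlgebra : Algebra (R' ⊗[R] A) (R' ⊗[R] B) :=
  (tmap R R' A B).toRingHom.toAlgebra

lemma tmap_eq (x : R' ⊗[R] A) :
    Algebra.TensorProduct.lTensor (S := R') R' (IsScalarTower.toAlgHom R A B) x = tmap R R' A B x := by
  induction x using TensorProduct.induction_on with
  | zero => simp
  | add x y hx hy => rw [map_add, map_add, hx, hy]
  | tmul r' a => simp

/-- `R' ⊗ B ≅ (R' ⊗ A) ⊗_A B` as `R' ⊗ A`-algebras. -/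
noncomputable def tensorEquiv : R' ⊗[R] B ≃ₐ[R' ⊗[R] A] (R' ⊗[R] A) ⊗[A] B :=
  { __ := (Algebra.IsPushout.cancelBaseChangeAlg R R' A (R' ⊗[R] A) B).symm,
    commutes' := fun x => by
      have h := congr($(Algebra.IsPushout.cancelBaseChange_symm_comp_lTensor R A B R') x)
      change (Algebra.IsPushout.cancelBaseChangeAlg R R' A (R' ⊗[R] A) B).symm
        (tmap R R' A B x) = _
      rw [← tmap_eq]
      exact h }

theorem flat_tensor_of_flat_tmap (h : (tmap R R' A B).toRingHom.Flat) :
    Module.Flat (R' ⊗[R] A) ((R' ⊗[R] A) ⊗[A] B) := by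
  have h' : Module.Flat (R' ⊗[R] A) (R' ⊗[R] B) := h
  exact Module.Flat.of_linearEquiv (tensorEquiv R R' A B).symm.toLinearEquiv

end Tensor

section Away

variable (A B)

/-- `A_g ⊗_A B ≅ B_g` -/
theorem flat_away_tensor_of_flat_awayMap (g : A)
    (h : (Localization.awayMap (algebraMap A B) g).Flat) :
    Module.Flat (Localization.Away g) (Localization.Away g ⊗[A] B) := by
  let _ : Algebra (Localization.Away g) (Localization.Away (algebraMap A B g)) :=
    (Localization.awayMap (algebraMap A B) g).toAlgebra
  have : IsScalarTower A (Localization.Away g) (Localization.Away (algebraMap A B g)) :=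
    IsScalarTower.of_algebraMap_eq'
      (IsLocalization.map_comp (Submonoid.powers g).le_comap_map).symm
  have hloc : IsLocalization (Algebra.algebraMapSubmonoid B (Submonoid.powers g))
      (Localization.Away (algebraMap A B g)) := by
    have e : Algebra.algebraMapSubmonoid B (Submonoid.powers g) =
        Submonoid.powers (algebraMap A B g) := Submonoid.map_powers _ _
    rw [e]
    exact Localization.isLocalization
  have h' : Module.Flat (Localization.Away g) (Localization.Away (algebraMap A B g)) := h
  have hbc : IsBaseChange (Localization.Away g)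
      (IsScalarTower.toAlgHom A B (Localization.Away (algebraMap A B g))).toLinearMap :=
    IsLocalizedModule.isBaseChange (Submonoid.powers g) (Localization.Away g) _
  exact Module.Flat.of_linearEquiv hbc.equiv

end Away

section Main

/-- Flatness of ring maps between glueable algebras descends along a glueing pair. -/
theorem flat_algebra_of_glueingPair (hp : EtGlue.IsGlueingPair R R' f)
    (hA : EtGlue.IsGlueable R R' f A)
    (h1 : (Localization.awayMap (algebraMap A B) (algebraMap R A f)).Flat)
    (h2 : (tmap R R' A B).toRingHom.Flat) : Module.Flat A B := by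
  have hpA := isGlueingPair_rel A hp hA
  have : Module.Flat (R' ⊗[R] A) ((R' ⊗[R] A) ⊗[A] B) := flat_tensor_of_flat_tmap R R' A B h2
  have : Module.Flat (Localization.Away (algebraMap R A f))
      (Localization.Away (algebraMap R A f) ⊗[A] B) :=
    flat_away_tensor_of_flat_awayMap A B _ h1
  exact flat_of_glueingPair B hpA

end Main

end Groth.Agent.Lib.Helper12.BL
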