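import Groth.Agent.Lib.Helper12.BL14

/-!
# Beauville–Laszlo glueing, part 15: finite presentation of flat ring maps
-/

universe u

open TensorProduct Function

namespace Groth.Agent.Lib.Helper12.BL

section Surj

variable {R R' : Type u} [CommRing R] [CommRing R'] [Algebra R R'] {f : R}

/-- A linear map whose cokernel is `f`-power torsion and which hits all `1 ⊗ b` after base change
is surjective. -/
theorem surjective_of_quotPowBijective (hq : EtGlue.QuotPowBijective R R' f) {B₀ B : Type*}
    [AddCommGroup B₀] [Module R B₀] [AddCommGroup B] [Module R B] (i : B₀ →ₗ[R] B)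
    (h1 : ∀ b : B, ∃ n : ℕ, f ^ n • b ∈ LinearMap.range i)
    (h2 : ∀ b : B, (1 : R') ⊗ₜ[R] b ∈ LinearMap.range (LinearMap.lTensor R' i)) :
    Surjective i := by
  rw [← LinearMap.range_eq_top]
  apply submodule_eq_top hq _ h1
  intro b
  obtain ⟨w, hw⟩ := h2 b
  refine ⟨LinearMap.lTensor R' i.rangeRestrict w, ?_⟩
  rw [← LinearMap.comp_apply, ← LinearMap.lTensor_comp]
  have e : (LinearMap.range i).subtype ∘ₗ i.rangeRestrict = i := by
    ext x
    rfl
  rw [e, hw]

end Surj

section Away

/-- If the extension of an ideal `K` to `P_g` is finitely generated, then some finitely generated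
subideal of `K` contains a `g`-power multiple of every element of `K`. -/
theorem exists_finset_of_fg_map_away {P : Type*} [CommRing P] (gP : P) (K : Ideal P)
    (h : (K.map (algebraMap P (Localization.Away gP))).FG) :
    ∃ s₁ : Finset P, (s₁ : Set P) ⊆ K ∧
      ∀ k ∈ K, ∃ n : ℕ, gP ^ n * k ∈ Ideal.span (s₁ : Set P) := by
  classical
  have h' : (Submodule.span (Localization.Away gP)
      ((algebraMap P (Localization.Away gP)) '' (K : Set P))).FG := h
  rw [Submodule.fg_span_iff_fg_span_finset_subset] at h'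
  obtain ⟨t, ht, hspan⟩ := h'
  obtain ⟨s₁, hs₁, rfl⟩ := Finset.subset_set_image_iff.mp ht
  refine ⟨s₁, hs₁, fun k hk => ?_⟩
  have hk' : algebraMap P (Localization.Away gP) k ∈
      (Ideal.span (s₁ : Set P)).map (algebraMap P (Localization.Away gP)) := by
    rw [Ideal.map_span]
    have : algebraMap P (Localization.Away gP) k ∈ Submodule.span (Localization.Away gP)
        ((algebraMap P (Localization.Away gP)) '' (K : Set P)) :=
      Submodule.subset_span ⟨k, hk, rfl⟩
    rw [hspan, Finset.coe_image] at this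
    exact this
  rw [IsLocalization.mem_map_algebraMap_iff (Submonoid.powers gP)] at hk'
  obtain ⟨⟨⟨i, hi⟩, ⟨_, a, rfl⟩⟩, e⟩ := hk'
  rw [← map_mul, IsLocalization.eq_iff_exists (Submonoid.powers gP)] at e
  obtain ⟨⟨_, b, rfl⟩, e⟩ := e
  refine ⟨b + a, ?_⟩
  have e' : gP ^ (b + a) * k = gP ^ b * i := by
    rw [pow_add, mul_assoc, mul_comm (gP ^ a) k]
    exact e
  rw [e']
  exact Ideal.mul_mem_left _ _ hi

end Away

section Ideal

variable {A A' : Type u} [CommRing A] [CommRing A'] [Algebra A A'] {g : A}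
variable {P : Type u} [CommRing P] [Algebra A P]

/-- An ideal `K` of an `A`-algebra `P` is finitely generated if it is so after localizing at `g`
and after base change to `A'` (when `A' ⊗ K → A' ⊗ P` is injective). -/
theorem ideal_fg_of_quotPowBijective (hq : EtGlue.QuotPowBijective A A' g) (K : Ideal P)
    (hinj : Injective (LinearMap.lTensor A' (K.restrictScalars A).subtype))
    (h1 : ∃ s₁ : Finset P, (s₁ : Set P) ⊆ K ∧
      ∀ k ∈ K, ∃ n : ℕ, g ^ n • k ∈ Ideal.span (s₁ : Set P))
    (h2 : (K.map (Algebra.TensorProduct.includeRight : P →ₐ[A] A' ⊗[A] P)).FG) : K.FG := by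
  classical
  obtain ⟨s₁, hs₁K, hs₁⟩ := h1
  have h2' : ∃ s₂ : Finset P, (s₂ : Set P) ⊆ K ∧
      K.map (Algebra.TensorProduct.includeRight : P →ₐ[A] A' ⊗[A] P) =
        (Ideal.span (s₂ : Set P)).map (Algebra.TensorProduct.includeRight : P →ₐ[A] A' ⊗[A] P) := by
    have h' : (Submodule.span (A' ⊗[A] P)
        ((Algebra.TensorProduct.includeRight : P →ₐ[A] A' ⊗[A] P) '' (K : Set P))).FG := h2
    rw [Submodule.fg_span_iff_fg_span_finset_subset] at h'
    obtain ⟨t, ht, hspan⟩ := h'
    obtain ⟨s₂, hs₂, rfl⟩ := Finset.subset_set_image_iff.mp ht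
    refine ⟨s₂, hs₂, ?_⟩
    rw [Ideal.map_span]
    change Submodule.span (A' ⊗[A] P) _ = _
    rw [hspan, Finset.coe_image]
  obtain ⟨s₂, hs₂K, hs₂⟩ := h2'
  let K₀ : Ideal P := Ideal.span ((s₁ ∪ s₂ : Finset P) : Set P)
  have hK₀ : K₀ ≤ K := by
    rw [Ideal.span_le, Finset.coe_union]
    exact Set.union_subset hs₁K hs₂K
  have hle : K₀.restrictScalars A ≤ K.restrictScalars A := hK₀
  have hmap : K.map (Algebra.TensorProduct.includeRight : P →ₐ[A] A' ⊗[A] P) =
      K₀.map (Algebra.TensorProduct.includeRight : P →ₐ[A] A' ⊗[A] P) := by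
    apply le_antisymm
    · rw [hs₂]
      apply Ideal.map_mono
      apply Ideal.span_mono
      rw [Finset.coe_union]
      exact Set.subset_union_right
    · exact Ideal.map_mono hK₀
  have hsurj : Surjective (Submodule.inclusion hle) := by
    apply surjective_of_quotPowBijective hq
    · rintro ⟨k, hk⟩
      obtain ⟨n, hn⟩ := hs₁ k hk
      refine ⟨n, ⟨⟨g ^ n • k, ?_⟩, rfl⟩⟩
      refine Ideal.span_mono ?_ hn
      rw [Finset.coe_union]
      exact Set.subset_union_left
    · rintro ⟨k, hk⟩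
      have hmem : (1 : A') ⊗ₜ[A] k ∈
          (K₀.map (Algebra.TensorProduct.includeRight : P →ₐ[A] A' ⊗[A] P)).restrictScalars A := by
        rw [← hmap]
        exact Ideal.mem_map_of_mem _ hk
      rw [Ideal.map_includeRight_eq] at hmem
      obtain ⟨w, hw⟩ := hmem
      refine ⟨w, hinj ?_⟩
      rw [← LinearMap.comp_apply, ← LinearMap.lTensor_comp]
      rw [LinearMap.lTensor_tmul]
      exact hw
  refine ⟨s₁ ∪ s₂, le_antisymm hK₀ ?_⟩
  intro k hk
  obtain ⟨⟨k₀, hk₀⟩, e⟩ := hsurj ⟨k, hk⟩
  have : k₀ = k := congrArg Subtype.val e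
  rw [← this]
  exact hk₀

end Ideal

end Groth.Agent.Lib.Helper12.BL
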