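import Groth.Agent.Lib.Helper12.BL15

/-!
# Beauville–Laszlo glueing, part 16: finite presentation of flat ring maps (assembly)
-/

universe u

open TensorProduct Function

namespace Groth.Agent.Lib.Helper12.BL

section Parts

variable {A : Type u} [CommRing A] {P B : Type u} [CommRing P] [CommRing B] [Algebra A P]
  [Algebra A B]

/-- The kernel of a surjection from a finitely presented algebra onto `B` becomes finitely
generated after inverting `g` when `B_g` is finitely presented. -/
theorem fg_map_away_ker [Algebra.FinitePresentation A P] (π : P →ₐ[A] B) (hπ : Surjective π)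
    (gA : A) [Algebra.FinitePresentation A (Localization.Away (π (algebraMap A P gA)))] :
    ((RingHom.ker π.toRingHom).map
      (algebraMap P (Localization.Away (algebraMap A P gA)))).FG := by
  rw [← IsLocalization.ker_map (Localization.Away (π (algebraMap A P gA))) π.toRingHom
    (Submonoid.map_powers π.toRingHom (algebraMap A P gA))]
  let f' : Localization.Away (algebraMap A P gA) →ₐ[A]
      Localization.Away (π (algebraMap A P gA)) := Localization.awayMapₐ π (algebraMap A P gA)
  have : Algebra.FinitePresentation A (Localization.Away (algebraMap A P gA)) :=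
    haveI : Algebra.FinitePresentation P (Localization.Away (algebraMap A P gA)) :=
      IsLocalization.Away.finitePresentation (algebraMap A P gA)
    Algebra.FinitePresentation.trans A P (Localization.Away (algebraMap A P gA))
  exact Algebra.FinitePresentation.ker_fG_of_surjective f'
    (IsLocalization.Away.mapₐ_surjective_of_surjective _ hπ)

/-- The kernel of a surjection from a finitely presented algebra onto `B` becomes finitely
generated after base change to `A'` when `A' ⊗ B` is finitely presented. -/
theorem fg_map_includeRight_ker (A' : Type u) [CommRing A'] [Algebra A A']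
    [Algebra.FinitePresentation A P] (π : P →ₐ[A] B) (hπ : Surjective π)
    [Algebra.FinitePresentation A' (A' ⊗[A] B)] :
    ((RingHom.ker π.toRingHom).map
      (Algebra.TensorProduct.includeRight : P →ₐ[A] A' ⊗[A] P)).FG := by
  let fT : A' ⊗[A] P →ₐ[A'] A' ⊗[A] B := Algebra.TensorProduct.map (AlgHom.id A' A') π
  have e : (RingHom.ker π.toRingHom).map
      (Algebra.TensorProduct.includeRight : P →ₐ[A] A' ⊗[A] P) = RingHom.ker fT.toRingHom :=
    (Algebra.TensorProduct.lTensor_ker π hπ).symm
  rw [e]
  exact Algebra.FinitePresentation.ker_fG_of_surjective fT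
    (Algebra.TensorProduct.map_surjective _ _ (fun x => ⟨x, rfl⟩) hπ)

/-- `B_g` is finitely presented over `A` when `A_g → B_g` is. -/
theorem finitePresentation_away_of_awayMap (gA : A)
    (h : (Localization.awayMap (algebraMap A B) gA).FinitePresentation) :
    Algebra.FinitePresentation A (Localization.Away (algebraMap A B gA)) := by
  rw [← RingHom.finitePresentation_algebraMap]
  have h0 : (algebraMap A (Localization.Away gA)).FinitePresentation :=
    RingHom.finitePresentation_algebraMap.mpr (IsLocalization.Away.finitePresentation gA)
  have hc := h.comp h0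
  have e : (Localization.awayMap (algebraMap A B) gA).comp (algebraMap A (Localization.Away gA)) =
      algebraMap A (Localization.Away (algebraMap A B gA)) := by
    rw [IsScalarTower.algebraMap_eq A B (Localization.Away (algebraMap A B gA))]
    exact IsLocalization.map_comp _
  rw [e] at hc
  exact hc

end Parts

section Main

attribute [local instance] Algebra.TensorProduct.rightAlgebra

variable {R R' : Type u} [CommRing R] [CommRing R'] [Algebra R R'] {f : R}
variable {A B : Type u} [CommRing A] [Algebra R A] [CommRing B] [Algebra R B]
  [Algebra A B] [IsScalarTower R A B]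

/-- Finite presentation of a flat finite type ring map descends along `R → R' × R_f` when
`R/f^n ≅ R'/f^n`. -/
theorem finitePresentation_algebra_of_quotPowBijective (hq : EtGlue.QuotPowBijective R R' f)
    [Module.Flat A B] [Algebra.FiniteType A B]
    (h1 : (Localization.awayMap (algebraMap A B) (algebraMap R A f)).FinitePresentation)
    (h2 : (tmap R R' A B).toRingHom.FinitePresentation) : Algebra.FinitePresentation A B := by
  obtain ⟨n, π, hπ⟩ := Algebra.FiniteType.iff_quotient_mvPolynomial''.mp
    (inferInstance : Algebra.FiniteType A B)
  refine Algebra.FinitePresentation.of_surjective hπ ?_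
  have hqA := quotPowBijective_rel A hq
  apply ideal_fg_of_quotPowBijective hqA (RingHom.ker π.toRingHom)
  · exact LinearMap.lTensor_injective_of_exact_of_flat π.toLinearMap hπ
      (LinearMap.ker π.toLinearMap).subtype (Submodule.injective_subtype _)
      (LinearMap.exact_subtype_ker_map π.toLinearMap) (R' ⊗[R] A)
  · have : Algebra.FinitePresentation A
        (Localization.Away (π (algebraMap A (MvPolynomial (Fin n) A) (algebraMap R A f)))) := by
      rw [π.commutes]
      exact finitePresentation_away_of_awayMap _ h1
    obtain ⟨s₁, hs, h⟩ := exists_finset_of_fg_map_away _ _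
      (fg_map_away_ker π hπ (algebraMap R A f))
    refine ⟨s₁, hs, fun k hk => ?_⟩
    obtain ⟨m, hm⟩ := h k hk
    exact ⟨m, by rw [Algebra.smul_def, map_pow]; exact hm⟩
  · let _ : Algebra (R' ⊗[R] A) (R' ⊗[R] B) := (tmap R R' A B).toRingHom.toAlgebra
    have h2' : Algebra.FinitePresentation (R' ⊗[R] A) (R' ⊗[R] B) := h2
    have : Algebra.FinitePresentation (R' ⊗[R] A) ((R' ⊗[R] A) ⊗[A] B) :=
      Algebra.FinitePresentation.equiv (tensorEquiv R R' A B)
    exact fg_map_includeRight_ker (R' ⊗[R] A) π hπ

variable (R R' A B) in
/-- Finite presentation is preserved by `R' ⊗_R -`. -/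
theorem finitePresentation_tmap (h : (algebraMap A B).FinitePresentation) :
    (tmap R R' A B).toRingHom.FinitePresentation := by
  let _ : Algebra (R' ⊗[R] A) (R' ⊗[R] B) := (tmap R R' A B).toRingHom.toAlgebra
  have h' : Algebra.FinitePresentation A B := RingHom.finitePresentation_algebraMap.mp h
  change Algebra.FinitePresentation (R' ⊗[R] A) (R' ⊗[R] B)
  exact Algebra.FinitePresentation.equiv (tensorEquiv R R' A B).symm

end Main

end Groth.Agent.Lib.Helper12.BL
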