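import Groth.Agent.Lib.Helper12.BL16

/-!
# Beauville–Laszlo glueing, part 17: unramified and étale ring maps
-/

universe u

open TensorProduct Function

namespace Groth.Agent.Lib.Helper12.BL

attribute [local instance] Algebra.TensorProduct.rightAlgebra

variable {R R' : Type u} [CommRing R] [CommRing R'] [Algebra R R'] {f : R}
variable {A B : Type u} [CommRing A] [Algebra R A] [CommRing B] [Algebra R B]
  [Algebra A B] [IsScalarTower R A B]

section Stable

variable (R R' A B)

/-- A property of ring maps stable under base change is preserved by `R' ⊗_R -`. -/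
theorem tmap_of_isStableUnderBaseChange
    {P : ∀ {R S : Type u} [CommRing R] [CommRing S], (R →+* S) → Prop}
    (hP : RingHom.IsStableUnderBaseChange @P) (hP' : RingHom.RespectsIso @P)
    (h : P (algebraMap A B)) : P (tmap R R' A B).toRingHom := by
  let _ : Algebra (R' ⊗[R] A) (R' ⊗[R] B) := (tmap R R' A B).toRingHom.toAlgebra
  have h1 : P (algebraMap (R' ⊗[R] A) ((R' ⊗[R] A) ⊗[A] B)) := hP.tensorProduct _ h
  have h2 := hP'.1 _ (tensorEquiv R R' A B).symm.toRingEquiv h1
  have e : (tensorEquiv R R' A B).symm.toRingEquiv.toRingHom.comp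
      (algebraMap (R' ⊗[R] A) ((R' ⊗[R] A) ⊗[A] B)) = (tmap R R' A B).toRingHom :=
    RingHom.ext fun x => (tensorEquiv R R' A B).symm.commutes x
  rw [e] at h2
  exact h2

end Stable

section Kaehler

open KaehlerDifferential

variable (A B)

/-- If `A_g → B_g` is formally unramified, every element of `Ω[B⁄A]` is `g`-power torsion. -/
theorem torsion_kaehler_of_awayMap (g : A)
    (h : (Localization.awayMap (algebraMap A B) g).FormallyUnramified) (m : Ω[B⁄A]) :
    ∃ n : ℕ, g ^ n • m = 0 := by
  let _ : Algebra (Localization.Away g) (Localization.Away (algebraMap A B g)) :=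
    (Localization.awayMap (algebraMap A B) g).toAlgebra
  have : IsScalarTower A (Localization.Away g) (Localization.Away (algebraMap A B g)) :=
    IsScalarTower.of_algebraMap_eq'
      (IsLocalization.map_comp (Submonoid.powers g).le_comap_map).symm
  have hloc : IsLocalization (Algebra.algebraMapSubmonoid B (Submonoid.powers g))
      (Localization.Away (algebraMap A B g)) := by
    have e : Algebra.algebraMapSubmonoid B (Submonoid.powers g) =
        Submonoid.powers (algebraMap A B g) := Submonoid.map_powers _ _
    rw [e]
    exact Localization.isLocalization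
  have h' : Algebra.FormallyUnramified (Localization.Away g)
      (Localization.Away (algebraMap A B g)) := h
  have hsub : Subsingleton Ω[Localization.Away (algebraMap A B g)⁄Localization.Away g] :=
    h'.1
  have hL : IsLocalizedModule (Submonoid.powers g)
      ((KaehlerDifferential.map A (Localization.Away g) B
        (Localization.Away (algebraMap A B g))).restrictScalars A) :=
    KaehlerDifferential.isLocalizedModule A (Localization.Away g) B
      (Localization.Away (algebraMap A B g)) (Submonoid.powers g)
  have h0 : ((KaehlerDifferential.map A (Localization.Away g) B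
        (Localization.Away (algebraMap A B g))).restrictScalars A) m = 0 :=
    Subsingleton.elim _ _
  rw [IsLocalizedModule.eq_zero_iff (Submonoid.powers g)] at h0
  obtain ⟨⟨_, n, rfl⟩, hn⟩ := h0
  exact ⟨n, hn⟩

variable (R R')

/-- If `R' ⊗ A → R' ⊗ B` is formally unramified, then `(R' ⊗ A) ⊗_A Ω[B⁄A] = 0`. -/
theorem subsingleton_tensor_kaehler (h : (tmap R R' A B).toRingHom.FormallyUnramified) :
    Subsingleton ((R' ⊗[R] A) ⊗[A] Ω[B⁄A]) := by
  let _ : Algebra (R' ⊗[R] A) (R' ⊗[R] B) := (tmap R R' A B).toRingHom.toAlgebra
  have h' : Algebra.FormallyUnramified (R' ⊗[R] A) (R' ⊗[R] B) := h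
  have : Algebra.FormallyUnramified (R' ⊗[R] A) ((R' ⊗[R] A) ⊗[A] B) :=
    Algebra.FormallyUnramified.of_equiv (tensorEquiv R R' A B)
  have hs : Subsingleton Ω[(R' ⊗[R] A) ⊗[A] B⁄R' ⊗[R] A] := this.1
  exact (KaehlerDifferential.tensorKaehlerEquivBase A (R' ⊗[R] A) B
    ((R' ⊗[R] A) ⊗[A] B)).subsingleton

variable {A B R R'}

/-- Formal unramifiedness descends along `R → R' × R_f` when `R/f^n ≅ R'/f^n`. -/
theorem formallyUnramified_algebra_of_quotPowBijective (hq : EtGlue.QuotPowBijective R R' f)
    (h1 : (Localization.awayMap (algebraMap A B) (algebraMap R A f)).FormallyUnramified)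
    (h2 : (tmap R R' A B).toRingHom.FormallyUnramified) : Algebra.FormallyUnramified A B := by
  constructor
  have hqA := quotPowBijective_rel A hq
  have ht := torsion_kaehler_of_awayMap A B (algebraMap R A f) h1
  have hs := subsingleton_tensor_kaehler R R' A B h2
  have hz : ∀ m : Ω[B⁄A], m = 0 := fun m =>
    eq_zero_of_tmul_eq_zero hqA ht m (Subsingleton.elim _ _)
  exact ⟨fun x y => by rw [hz x, hz y]⟩

end Kaehler

end Groth.Agent.Lib.Helper12.BL
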