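import Groth.Agent.Lib.Helper12.BL1

/-!
# Beauville–Laszlo glueing, part 2: submodules which are everything after both base changes
-/

universe u

open TensorProduct

namespace Groth.Agent.Lib.Helper12.BL

variable {R R' : Type u} [CommRing R] [CommRing R'] [Algebra R R'] {f : R}

/-- A submodule `B₀ ⊆ B` with `B/B₀` `f`-power torsion and `R' ⊗ B₀ → R' ⊗ B` hitting all `1 ⊗ b`
is everything. -/
theorem submodule_eq_top (hq : EtGlue.QuotPowBijective R R' f) {B : Type*} [AddCommGroup B]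
    [Module R B] (B₀ : Submodule R B) (h1 : ∀ b : B, ∃ n : ℕ, f ^ n • b ∈ B₀)
    (h2 : ∀ b : B, (1 : R') ⊗ₜ[R] b ∈ LinearMap.range (LinearMap.lTensor R' B₀.subtype)) :
    B₀ = ⊤ := by
  rw [eq_top_iff]
  intro b _
  have ht : ∀ q : B ⧸ B₀, ∃ n : ℕ, f ^ n • q = 0 := by
    intro q
    obtain ⟨b, rfl⟩ := Submodule.Quotient.mk_surjective B₀ q
    obtain ⟨n, hn⟩ := h1 b
    refine ⟨n, ?_⟩
    rw [← Submodule.Quotient.mk_smul, Submodule.Quotient.mk_eq_zero]
    exact hn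
  have h0 : (1 : R') ⊗ₜ[R] (Submodule.Quotient.mk b : B ⧸ B₀) = 0 := by
    obtain ⟨w, hw⟩ := h2 b
    have e1 : (1 : R') ⊗ₜ[R] (Submodule.Quotient.mk b : B ⧸ B₀) =
        LinearMap.lTensor R' B₀.mkQ ((1 : R') ⊗ₜ[R] b) := by
      rw [LinearMap.lTensor_tmul]
      rfl
    rw [e1, ← hw, ← LinearMap.comp_apply, ← LinearMap.lTensor_comp]
    have : B₀.mkQ ∘ₗ B₀.subtype = 0 := by
      ext x
      simp
    rw [this, LinearMap.lTensor_zero, LinearMap.zero_apply]
  have := eq_zero_of_tmul_eq_zero hq ht _ h0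
  rwa [Submodule.Quotient.mk_eq_zero] at this

end Groth.Agent.Lib.Helper12.BL
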