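import Groth.Agent.Lib.Helper12.BL2

/-!
# Beauville–Laszlo glueing, part 3: finiteness conditions
-/

universe u

open TensorProduct

namespace Groth.Agent.Lib.Helper12.BL

section Away

variable {A B : Type*} [CommRing A] [CommRing B] [Algebra A B]

/-- If `A_g → B_g` is finite, there is a finite subset of `B` whose `A`-span contains a
`g`-power multiple of every element. -/
theorem exists_finset_span_of_finite_away (g : A)
    (h : (Localization.awayMap (algebraMap A B) g).Finite) :
    ∃ s : Finset B, ∀ b : B, ∃ n : ℕ, g ^ n • b ∈ Submodule.span A (s : Set B) := by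
  classical
  let f := algebraMap A B
  let _ := (Localization.awayMap f g).toAlgebra
  have : IsLocalization ((Submonoid.powers g).map (algebraMap A B))
      (Localization.Away (f g)) := by
    rw [Submonoid.map_powers]; exact Localization.isLocalization
  have : IsScalarTower A (Localization.Away g) (Localization.Away (f g)) :=
    IsScalarTower.of_algebraMap_eq'
      (IsLocalization.map_comp (Submonoid.powers g).le_comap_map).symm
  obtain ⟨s₁, s₂⟩ := h.1
  refine ⟨IsLocalization.finsetIntegerMultiple (Submonoid.powers (f g)) s₁, fun x => ?_⟩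
  obtain ⟨⟨_, n₁, rfl⟩, hn₁⟩ :=
    multiple_mem_span_of_mem_localization_span (Submonoid.powers g)
      (Localization.Away g) (s₁ : Set (Localization.Away (f g))) (algebraMap B _ x)
      (by rw [s₂]; trivial)
  dsimp only at hn₁
  rw [Submonoid.smul_def, Algebra.smul_def, IsScalarTower.algebraMap_apply A B (Localization.Away (f g)), ← map_mul] at hn₁
  obtain ⟨⟨_, n₂, rfl⟩, hn₂⟩ :=
    IsLocalization.smul_mem_finsetIntegerMultiple_span (Submonoid.powers g)
      (Localization.Away (f g)) _ s₁ hn₁
  rw [Submonoid.smul_def, ← Algebra.smul_def, smul_smul, ← pow_add] at hn₂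
  simp_rw [Submonoid.map_powers] at hn₂
  exact ⟨n₂ + n₁, hn₂⟩

/-- If `A_g → B_g` is of finite type, there is a finite subset of `B` whose `A`-adjoin contains a
`g`-power multiple of every element. -/
theorem exists_finset_adjoin_of_finiteType_away (g : A)
    (h : (Localization.awayMap (algebraMap A B) g).FiniteType) :
    ∃ s : Finset B, ∀ b : B, ∃ n : ℕ, g ^ n • b ∈ Algebra.adjoin A (s : Set B) := by
  classical
  let f := algebraMap A B
  let _ := (Localization.awayMap f g).toAlgebra
  have : IsLocalization ((Submonoid.powers g).map (algebraMap A B))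
      (Localization.Away (f g)) := by
    rw [Submonoid.map_powers]; exact Localization.isLocalization
  have : IsScalarTower A (Localization.Away g) (Localization.Away (f g)) :=
    IsScalarTower.of_algebraMap_eq'
      (IsLocalization.map_comp (Submonoid.powers g).le_comap_map).symm
  obtain ⟨s₁, s₂⟩ := h.1
  refine ⟨IsLocalization.finsetIntegerMultiple (Submonoid.powers (f g)) s₁, fun x => ?_⟩
  obtain ⟨⟨_, n₁, rfl⟩, hn₁⟩ :=
    multiple_mem_adjoin_of_mem_localization_adjoin (Submonoid.powers g)
      (Localization.Away g) (s₁ : Set (Localization.Away (f g))) (algebraMap B _ x)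
      (by rw [s₂]; trivial)
  rw [Submonoid.smul_def, Algebra.smul_def, IsScalarTower.algebraMap_apply A B (Localization.Away (f g)), ← map_mul] at hn₁
  obtain ⟨⟨_, n₂, rfl⟩, hn₂⟩ :=
    IsLocalization.lift_mem_adjoin_finsetIntegerMultiple (Submonoid.powers g) _ s₁ hn₁
  rw [Submonoid.smul_def, ← Algebra.smul_def, smul_smul, ← pow_add] at hn₂
  simp_rw [Submonoid.map_powers] at hn₂
  exact ⟨n₂ + n₁, hn₂⟩

end Away

section Tensor

variable {R R' : Type u} [CommRing R] [CommRing R'] [Algebra R R']
variable {A B : Type u} [CommRing A] [Algebra R A] [CommRing B] [Algebra R B] (φ : A →ₐ[R] B)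

/-- Finiteness is preserved by `R' ⊗_R -`. -/
theorem finite_tensorMap (h : φ.toRingHom.Finite) :
    (Algebra.TensorProduct.map (AlgHom.id R R') φ).toRingHom.Finite := by
  classical
  let _ := φ.toRingHom.toAlgebra
  let _ := (Algebra.TensorProduct.map (AlgHom.id R R') φ).toRingHom.toAlgebra
  have h' : Module.Finite A B := h
  obtain ⟨s, hs⟩ := h'.1
  change Module.Finite (R' ⊗[R] A) (R' ⊗[R] B)
  refine ⟨⟨s.image (fun b => (1 : R') ⊗ₜ[R] b), ?_⟩⟩
  rw [eq_top_iff]
  rintro z -
  induction z using TensorProduct.induction_on with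
  | zero => exact zero_mem _
  | add x y hx hy => exact add_mem hx hy
  | tmul r' b =>
    have hb : b ∈ Submodule.span A (s : Set B) := by rw [hs]; trivial
    induction hb using Submodule.span_induction with
    | mem x hx =>
      have e : r' ⊗ₜ[R] x = (r' ⊗ₜ[R] (1 : A)) • ((1 : R') ⊗ₜ[R] x) := by
        rw [Algebra.smul_def]
        change _ = (Algebra.TensorProduct.map (AlgHom.id R R') φ) (r' ⊗ₜ[R] (1 : A)) * _
        simp
      rw [e]
      refine Submodule.smul_mem _ _ (Submodule.subset_span ?_)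
      rw [Finset.coe_image]
      exact ⟨x, hx, rfl⟩
    | zero => rw [tmul_zero]; exact zero_mem _
    | add x y _ _ hx hy => rw [tmul_add]; exact add_mem hx hy
    | smul a x _ hx =>
      have e : r' ⊗ₜ[R] (a • x) = ((1 : R') ⊗ₜ[R] a) • (r' ⊗ₜ[R] x) := by
        rw [Algebra.smul_def, Algebra.smul_def]
        change _ ⊗ₜ[R] (φ a * x) =
          (Algebra.TensorProduct.map (AlgHom.id R R') φ) ((1 : R') ⊗ₜ[R] a) * _
        simp
      rw [e]
      exact Submodule.smul_mem _ _ hx

/-- Finite type is preserved by `R' ⊗_R -`. -/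
theorem finiteType_tensorMap (h : φ.toRingHom.FiniteType) :
    (Algebra.TensorProduct.map (AlgHom.id R R') φ).toRingHom.FiniteType := by
  classical
  let _ := φ.toRingHom.toAlgebra
  let _ := (Algebra.TensorProduct.map (AlgHom.id R R') φ).toRingHom.toAlgebra
  have h' : Algebra.FiniteType A B := h
  obtain ⟨s, hs⟩ := h'.1
  change Algebra.FiniteType (R' ⊗[R] A) (R' ⊗[R] B)
  refine ⟨⟨s.image (fun b => (1 : R') ⊗ₜ[R] b), ?_⟩⟩
  rw [eq_top_iff]
  rintro z -
  have key : ∀ b : B, (1 : R') ⊗ₜ[R] b ∈
      Algebra.adjoin (R' ⊗[R] A) ((s.image (fun b => (1 : R') ⊗ₜ[R] b) : Finset (R' ⊗[R] B)) :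
        Set (R' ⊗[R] B)) := by
    intro b
    have hb : b ∈ Algebra.adjoin A (s : Set B) := by rw [hs]; trivial
    induction hb using Algebra.adjoin_induction with
    | mem x hx =>
      refine Algebra.subset_adjoin ?_
      rw [Finset.coe_image]
      exact ⟨x, hx, rfl⟩
    | algebraMap a =>
      have e : (1 : R') ⊗ₜ[R] (algebraMap A B a) =
          algebraMap (R' ⊗[R] A) (R' ⊗[R] B) ((1 : R') ⊗ₜ[R] a) := by
        change _ = (Algebra.TensorProduct.map (AlgHom.id R R') φ) ((1 : R') ⊗ₜ[R] a)
        simp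
        rfl
      rw [e]
      exact Subalgebra.algebraMap_mem _ _
    | add x y _ _ hx hy => rw [tmul_add]; exact add_mem hx hy
    | mul x y _ _ hx hy =>
      have e : (1 : R') ⊗ₜ[R] (x * y) = ((1 : R') ⊗ₜ[R] x) * ((1 : R') ⊗ₜ[R] y) := by simp
      rw [e]
      exact mul_mem hx hy
  induction z using TensorProduct.induction_on with
  | zero => exact zero_mem _
  | add x y hx hy => exact add_mem hx hy
  | tmul r' b =>
    have e : r' ⊗ₜ[R] b = (r' ⊗ₜ[R] (1 : A)) • ((1 : R') ⊗ₜ[R] b) := by
      rw [Algebra.smul_def]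
      change _ = (Algebra.TensorProduct.map (AlgHom.id R R') φ) (r' ⊗ₜ[R] (1 : A)) * _
      simp
    rw [e]
    exact Subalgebra.smul_mem _ (key b) _

/-- The range of `R' ⊗ C → R' ⊗ B` is stable under `R' ⊗ A` when `C` is stable under `A`. -/
theorem mul_mem_range_lTensor (C : Submodule R B) (hC : ∀ a : A, ∀ c ∈ C, φ a * c ∈ C)
    (x : R' ⊗[R] A) (y : R' ⊗[R] B) (hy : y ∈ LinearMap.range (LinearMap.lTensor R' C.subtype)) :
    Algebra.TensorProduct.map (AlgHom.id R R') φ x * y ∈
      LinearMap.range (LinearMap.lTensor R' C.subtype) := by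
  obtain ⟨w, rfl⟩ := hy
  induction x using TensorProduct.induction_on with
  | zero => simp
  | add x₁ x₂ h₁ h₂ =>
    rw [map_add, add_mul]
    exact add_mem h₁ h₂
  | tmul r' a =>
    induction w using TensorProduct.induction_on with
    | zero => simp
    | add w₁ w₂ h₁ h₂ =>
      rw [map_add, mul_add]
      exact add_mem h₁ h₂
    | tmul r'' c =>
      refine ⟨(r' * r'') ⊗ₜ[R] ⟨φ a * c, hC a c c.2⟩, ?_⟩
      simp

/-- If `R' ⊗ A → R' ⊗ B` is finite, there is a finite subset `s` of `B` such that `R' ⊗ C → R' ⊗ B`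
is onto for every `A`-stable submodule `C ⊇ s`. -/
theorem exists_finset_of_finite_tensorMap
    (h : (Algebra.TensorProduct.map (AlgHom.id R R') φ).toRingHom.Finite) :
    ∃ s : Finset B, ∀ C : Submodule R B, (∀ a : A, ∀ c ∈ C, φ a * c ∈ C) → (s : Set B) ⊆ C →
      ∀ z : R' ⊗[R] B, z ∈ LinearMap.range (LinearMap.lTensor R' C.subtype) := by
  classical
  let _ := (Algebra.TensorProduct.map (AlgHom.id R R') φ).toRingHom.toAlgebra
  have h' : Module.Finite (R' ⊗[R] A) (R' ⊗[R] B) := h
  obtain ⟨t, ht⟩ := h'.1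
  choose S hS using fun z : R' ⊗[R] B => TensorProduct.exists_finset z
  refine ⟨t.biUnion (fun z => (S z).image Prod.snd), fun C hC hsC z => ?_⟩
  have hz : z ∈ Submodule.span (R' ⊗[R] A) (t : Set (R' ⊗[R] B)) := by rw [ht]; trivial
  induction hz using Submodule.span_induction with
  | mem x hx =>
    rw [hS x]
    refine Submodule.sum_mem _ fun i hi => ?_
    have hi2 : i.2 ∈ C := by
      apply hsC
      rw [Finset.coe_biUnion]
      refine Set.mem_iUnion₂.mpr ⟨x, hx, ?_⟩
      rw [Finset.coe_image]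
      exact ⟨i, hi, rfl⟩
    exact ⟨i.1 ⊗ₜ[R] ⟨i.2, hi2⟩, by simp⟩
  | zero => exact zero_mem _
  | add x y _ _ hx hy => exact add_mem hx hy
  | smul a x _ hx =>
    rw [Algebra.smul_def]
    exact mul_mem_range_lTensor φ C hC a x hx

/-- If `R' ⊗ A → R' ⊗ B` is of finite type, there is a finite subset `s` of `B` such that
`R' ⊗ C → R' ⊗ B` is onto for every subalgebra `C ⊇ s` containing the image of `A`. -/
theorem exists_finset_of_finiteType_tensorMap
    (h : (Algebra.TensorProduct.map (AlgHom.id R R') φ).toRingHom.FiniteType) :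
    ∃ s : Finset B, ∀ C : Subalgebra R B, (∀ a : A, φ a ∈ C) → (s : Set B) ⊆ C →
      ∀ z : R' ⊗[R] B,
        z ∈ LinearMap.range (LinearMap.lTensor R' (Subalgebra.toSubmodule C).subtype) := by
  classical
  let _ := (Algebra.TensorProduct.map (AlgHom.id R R') φ).toRingHom.toAlgebra
  have h' : Algebra.FiniteType (R' ⊗[R] A) (R' ⊗[R] B) := h
  obtain ⟨t, ht⟩ := h'.1
  choose S hS using fun z : R' ⊗[R] B => TensorProduct.exists_finset z
  refine ⟨t.biUnion (fun z => (S z).image Prod.snd), fun C hC hsC z => ?_⟩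
  let D : Subalgebra R (R' ⊗[R] B) := (Algebra.TensorProduct.map (AlgHom.id R R') C.val).range
  have hD : ∀ w : R' ⊗[R] B, w ∈ D →
      w ∈ LinearMap.range (LinearMap.lTensor R' (Subalgebra.toSubmodule C).subtype) := by
    rintro _ ⟨v, rfl⟩
    refine ⟨v, ?_⟩
    induction v using TensorProduct.induction_on with
    | zero => simp
    | add x y hx hy => rw [map_add, hx, hy]; simp
    | tmul r' c => simp
  apply hD
  have hz : z ∈ Algebra.adjoin (R' ⊗[R] A) (t : Set (R' ⊗[R] B)) := by rw [ht]; trivial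
  induction hz using Algebra.adjoin_induction with
  | mem x hx =>
    rw [hS x]
    refine Subalgebra.sum_mem _ fun i hi => ?_
    have hi2 : i.2 ∈ C := by
      apply hsC
      rw [Finset.coe_biUnion]
      refine Set.mem_iUnion₂.mpr ⟨x, hx, ?_⟩
      rw [Finset.coe_image]
      exact ⟨i, hi, rfl⟩
    exact ⟨i.1 ⊗ₜ[R] ⟨i.2, hi2⟩, by simp⟩
  | algebraMap a =>
    change (Algebra.TensorProduct.map (AlgHom.id R R') φ) a ∈ D
    induction a using TensorProduct.induction_on with
    | zero => simp
    | add x y hx hy => rw [map_add]; exact add_mem hx hy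
    | tmul r' a => exact ⟨r' ⊗ₜ[R] ⟨φ a, hC a⟩, by simp⟩
  | add x y _ _ hx hy => exact add_mem hx hy
  | mul x y _ _ hx hy => exact mul_mem hx hy

end Tensor

end Groth.Agent.Lib.Helper12.BL
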