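import Groth.Agent.Lib.Helper12.BL3

/-!
# Beauville–Laszlo glueing, part 4: glueable modules and torsion
-/

universe u

open TensorProduct

namespace Groth.Agent.Lib.Helper12.BL

variable {R R' : Type u} [CommRing R] [CommRing R'] [Algebra R R'] {f : R}

section L5

variable {M : Type*} [AddCommGroup M] [Module R M]

/-- If `1 ⊗ m` is divisible by `f ^ N` in `R' ⊗ M` then `m` is divisible by `f ^ N` in `M`. -/
theorem exists_eq_pow_smul_of_tmul (hq : EtGlue.QuotPowBijective R R' f) (N : ℕ) (m : M)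
    (z : R' ⊗[R] M) (h : (1 : R') ⊗ₜ[R] m = f ^ N • z) : ∃ m₂ : M, m = f ^ N • m₂ := by
  let P : Submodule R M := LinearMap.range ((f ^ N) • (LinearMap.id : M →ₗ[R] M))
  have ht : ∀ q : M ⧸ P, ∃ n : ℕ, f ^ n • q = 0 := by
    intro q
    obtain ⟨m, rfl⟩ := Submodule.Quotient.mk_surjective P q
    refine ⟨N, ?_⟩
    rw [← Submodule.Quotient.mk_smul, Submodule.Quotient.mk_eq_zero]
    exact ⟨m, rfl⟩
  have hkill : ∀ w : R' ⊗[R] (M ⧸ P), f ^ N • w = 0 := by
    intro w
    induction w using TensorProduct.induction_on with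
    | zero => simp
    | add x y hx hy => rw [smul_add, hx, hy, add_zero]
    | tmul r' q =>
      obtain ⟨m, rfl⟩ := Submodule.Quotient.mk_surjective P q
      have : f ^ N • (Submodule.Quotient.mk m : M ⧸ P) = 0 := by
        rw [← Submodule.Quotient.mk_smul, Submodule.Quotient.mk_eq_zero]
        exact ⟨m, rfl⟩
      rw [← TensorProduct.tmul_smul, this, TensorProduct.tmul_zero]
  have h0 : (1 : R') ⊗ₜ[R] (Submodule.Quotient.mk m : M ⧸ P) = 0 := by
    have e1 : (1 : R') ⊗ₜ[R] (Submodule.Quotient.mk m : M ⧸ P) =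
        LinearMap.lTensor R' P.mkQ ((1 : R') ⊗ₜ[R] m) := by
      rw [LinearMap.lTensor_tmul]
      rfl
    rw [e1, h, map_smul, hkill]
  have := eq_zero_of_tmul_eq_zero hq ht _ h0
  rw [Submodule.Quotient.mk_eq_zero] at this
  obtain ⟨m₂, hm₂⟩ := this
  exact ⟨m₂, hm₂.symm⟩

end L5

section Glueable

variable (M : Type u) [AddCommGroup M] [Module R M]

lemma mkLinearMap_eq_zero_iff {N : Type*} [AddCommGroup N] [Module R N] (m : N) :
    LocalizedModule.mkLinearMap (Submonoid.powers f) N m = 0 ↔ ∃ n : ℕ, f ^ n • m = 0 := by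
  rw [IsLocalizedModule.eq_zero_iff (Submonoid.powers f)]
  constructor
  · rintro ⟨⟨_, n, rfl⟩, h⟩
    exact ⟨n, h⟩
  · rintro ⟨n, h⟩
    exact ⟨⟨_, n, rfl⟩, h⟩

lemma tensorOfLoc_mk (m : M) (s : Submonoid.powers f) :
    EtGlue.tensorOfLoc R R' f M (LocalizedModule.mk m s) =
      LocalizedModule.mk ((1 : R') ⊗ₜ[R] m) s := by
  rw [IsLocalizedModule.mk_eq_mk', IsLocalizedModule.mk_eq_mk']
  exact IsLocalizedModule.map_mk' _ _ _ _ _ _

/-- Characterisation of glueable modules in terms of torsion. -/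
theorem isGlueable_iff (hq : EtGlue.QuotPowBijective R R' f) :
    EtGlue.IsGlueable R R' f M ↔
      ((∀ m : M, (∃ n : ℕ, f ^ n • m = 0) → (1 : R') ⊗ₜ[R] m = 0 → m = 0) ∧
       (∀ x : R' ⊗[R] M, (∃ n : ℕ, f ^ n • x = 0) →
          ∃ m : M, (∃ n : ℕ, f ^ n • m = 0) ∧ (1 : R') ⊗ₜ[R] m = x)) := by
  constructor
  · rintro ⟨h1, h2⟩
    refine ⟨fun m hm h0 => ?_, fun x hx => ?_⟩
    · apply h1
      change ((1 : R') ⊗ₜ[R] m, LocalizedModule.mkLinearMap (Submonoid.powers f) M m) =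
        ((1 : R') ⊗ₜ[R] (0 : M), LocalizedModule.mkLinearMap (Submonoid.powers f) M 0)
      rw [h0, TensorProduct.tmul_zero, map_zero, (mkLinearMap_eq_zero_iff m).mpr hm]
    · obtain ⟨m, hm1, hm2⟩ := h2 x 0 (by
        rw [map_zero]
        exact (mkLinearMap_eq_zero_iff x).mpr hx)
      exact ⟨m, (mkLinearMap_eq_zero_iff m).mp hm2, hm1⟩
  · rintro ⟨t1, t2⟩
    refine ⟨fun m m' h => ?_, fun x y h => ?_⟩
    · have h1 : (1 : R') ⊗ₜ[R] m = (1 : R') ⊗ₜ[R] m' := congrArg Prod.fst h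
      have h2 : LocalizedModule.mkLinearMap (Submonoid.powers f) M m =
        LocalizedModule.mkLinearMap (Submonoid.powers f) M m' := congrArg Prod.snd h
      rw [← sub_eq_zero]
      apply t1
      · rw [← mkLinearMap_eq_zero_iff, map_sub, h2, sub_self]
      · rw [TensorProduct.tmul_sub, h1, sub_self]
    · induction y using LocalizedModule.induction_on with
      | h m₀ s =>
        obtain ⟨_, k, rfl⟩ := s
        rw [tensorOfLoc_mk] at h
        change LocalizedModule.mk x 1 = _ at h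
        rw [LocalizedModule.mk_eq] at h
        obtain ⟨⟨_, j, rfl⟩, hj⟩ := h
        simp only [Submonoid.smul_def, one_smul] at hj
        -- hj : f ^ j • f ^ k • x = f ^ j • 1 ⊗ m₀
        have e1 : (1 : R') ⊗ₜ[R] (f ^ j • m₀) = f ^ (j + k) • x := by
          rw [TensorProduct.tmul_smul, ← hj, pow_add, mul_smul]
        obtain ⟨m₂, hm₂⟩ := exists_eq_pow_smul_of_tmul hq (j + k) _ x e1
        have e2 : f ^ (j + k) • (x - (1 : R') ⊗ₜ[R] m₂) = 0 := by
          rw [smul_sub, ← e1, hm₂, TensorProduct.tmul_smul, sub_self]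
        obtain ⟨t, ht, hxt⟩ := t2 _ ⟨_, e2⟩
        refine ⟨m₂ + t, ?_, ?_⟩
        · rw [TensorProduct.tmul_add, hxt]
          abel
        · rw [map_add, (mkLinearMap_eq_zero_iff t).mpr ht, add_zero]
          change LocalizedModule.mk m₂ 1 = _
          rw [LocalizedModule.mk_eq]
          refine ⟨⟨_, j, rfl⟩, ?_⟩
          simp only [Submonoid.smul_def, one_smul]
          rw [← mul_smul, ← pow_add, ← hm₂]

end Glueable

end Groth.Agent.Lib.Helper12.BL
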