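import Groth.Agent.Lib.Helper12.BL5

/-!
# Beauville–Laszlo glueing, part 6: the glueing theorem (abstract form)
-/

universe u

set_option linter.unusedSectionVars false

open TensorProduct

namespace Groth.Agent.Lib.Helper12.BL

variable {R R' : Type u} [CommRing R] [CommRing R'] [Algebra R R'] {f : R}
variable {M' : Type u} [AddCommGroup M'] [Module R' M'] [Module R M'] [IsScalarTower R R' M']
variable {M₁ : Type u} [AddCommGroup M₁] [Module R M₁]
variable {M : Type u} [AddCommGroup M] [Module R M]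

/-- Abstract glueing data: `M` is the fibre product of `M'` and `M₁` over `R' ⊗ M₁`, where
`a : M' → R' ⊗ M₁` is a localization at `f` and `f` is bijective on `M₁`. -/
structure GlueData (f : R) (a : M' →ₗ[R'] R' ⊗[R] M₁) (p' : M →ₗ[R] M') (p₁ : M →ₗ[R] M₁) :
    Prop where
  bij : Function.Bijective fun x : M₁ => f • x
  surj : ∀ l : R' ⊗[R] M₁, ∃ (n : ℕ) (x : M'), f ^ n • l = a x
  ker : ∀ x : M', a x = 0 → ∃ n : ℕ, f ^ n • x = 0
  inj : ∀ m : M, p' m = 0 → p₁ m = 0 → m = 0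
  comm : ∀ m : M, a (p' m) = (1 : R') ⊗ₜ[R] p₁ m
  ex : ∀ (x : M') (y : M₁), a x = (1 : R') ⊗ₜ[R] y → ∃ m : M, p' m = x ∧ p₁ m = y

namespace GlueData

variable {a : M' →ₗ[R'] R' ⊗[R] M₁} {p' : M →ₗ[R] M'} {p₁ : M →ₗ[R] M₁}

lemma pow_bij (h : GlueData f a p' p₁) (n : ℕ) : Function.Bijective fun x : M₁ => f ^ n • x := by
  induction n with
  | zero =>
    simp only [pow_zero, one_smul]
    exact Function.bijective_id
  | succ n ih =>
    have : (fun x : M₁ => f ^ (n + 1) • x) = (fun x : M₁ => f ^ n • x) ∘ (fun x : M₁ => f • x) := by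
      ext x
      simp [pow_succ, mul_smul]
    rw [this]
    exact ih.comp h.bij

lemma eq_zero_of_torsion (h : GlueData f a p' p₁) (y : M₁) (hy : ∃ n : ℕ, f ^ n • y = 0) :
    y = 0 := by
  obtain ⟨n, hn⟩ := hy
  apply (h.pow_bij n).1
  change f ^ n • y = f ^ n • (0 : M₁)
  rw [hn, smul_zero]

lemma tensor_eq_zero_of_pow_smul (h : GlueData f a p' p₁) (n : ℕ) (l : R' ⊗[R] M₁)
    (hl : f ^ n • l = 0) : l = 0 := by
  let e : M₁ ≃ₗ[R] M₁ := LinearEquiv.ofBijective ((f ^ n) • LinearMap.id) (h.pow_bij n)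
  have he : e.symm.toLinearMap ∘ₗ ((f ^ n) • (LinearMap.id : M₁ →ₗ[R] M₁)) = LinearMap.id := by
    ext x
    exact e.symm_apply_apply x
  have h1 : LinearMap.lTensor R' (e.symm.toLinearMap ∘ₗ ((f ^ n) • (LinearMap.id : M₁ →ₗ[R] M₁)))
      l = l := by
    rw [he, LinearMap.lTensor_id, LinearMap.id_apply]
  rw [LinearMap.lTensor_comp, LinearMap.comp_apply, LinearMap.lTensor_smul, LinearMap.lTensor_id,
    LinearMap.smul_apply, LinearMap.id_apply, hl, map_zero] at h1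
  exact h1.symm

lemma a_smul (r : R) (x : M') : a (r • x) = r • a x :=
  LinearMap.map_smul_of_tower a r x

/-- `p₁ : M → M₁` is the localization at `f`. -/
theorem isLocalizedModule (h : GlueData f a p' p₁) : IsLocalizedModule (Submonoid.powers f) p₁ where
  map_units := by
    rintro ⟨_, n, rfl⟩
    rw [Module.End.isUnit_iff]
    exact h.pow_bij n
  surj := by
    intro y
    obtain ⟨n, x, hx⟩ := h.surj ((1 : R') ⊗ₜ[R] y)
    rw [← TensorProduct.tmul_smul] at hx
    obtain ⟨m, -, hm⟩ := h.ex x _ hx.symm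
    exact ⟨⟨m, ⟨_, n, rfl⟩⟩, hm.symm⟩
  exists_of_eq := by
    intro m₁ m₂ e
    have h1 : p₁ (m₁ - m₂) = 0 := by rw [map_sub, e, sub_self]
    have h2 : a (p' (m₁ - m₂)) = 0 := by rw [h.comm, h1, TensorProduct.tmul_zero]
    obtain ⟨n, hn⟩ := h.ker _ h2
    refine ⟨⟨_, n, rfl⟩, ?_⟩
    rw [← sub_eq_zero, ← smul_sub]
    apply h.inj
    · rw [Submonoid.smul_def, map_smul, hn]
    · rw [Submonoid.smul_def, map_smul, h1, smul_zero]

lemma a_lift (h : GlueData f a p' p₁) (ξ : R' ⊗[R] M) :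
    a (p'.liftBaseChange R' ξ) = LinearMap.lTensor R' p₁ ξ := by
  induction ξ using TensorProduct.induction_on with
  | zero => simp
  | add x y hx hy => rw [map_add, map_add, map_add, hx, hy]
  | tmul r' m =>
    rw [LinearMap.liftBaseChange_tmul, map_smul, h.comm, LinearMap.lTensor_tmul,
      TensorProduct.smul_tmul', smul_eq_mul, mul_one]

lemma torsion_of_lTensor_eq_zero (h : GlueData f a p' p₁) (ξ : R' ⊗[R] M)
    (hξ : LinearMap.lTensor R' p₁ ξ = 0) : ∃ n : ℕ, f ^ n • ξ = 0 := by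
  have := h.isLocalizedModule
  have hloc : IsLocalizedModule (Submonoid.powers f)
      (TensorProduct.AlgebraTensorModule.rTensor R R' p₁) := inferInstance
  have e : TensorProduct.AlgebraTensorModule.rTensor R R' p₁ (TensorProduct.comm R R' M ξ) = 0 := by
    change LinearMap.rTensor R' p₁ (TensorProduct.comm R R' M ξ) = 0
    rw [LinearMap.rTensor_comm, hξ, map_zero]
  rw [IsLocalizedModule.eq_zero_iff (Submonoid.powers f)] at e
  obtain ⟨⟨_, n, rfl⟩, hn⟩ := e
  refine ⟨n, ?_⟩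
  apply (TensorProduct.comm R R' M).injective
  rw [map_smul, map_zero]
  exact hn

/-- every element of `R' ⊗ M` is `1 ⊗ m` modulo `f ^ N` -/
lemma exists_eq_one_tmul_add (hq : EtGlue.QuotPowBijective R R' f) (N : ℕ) (hN : 0 < N)
    (μ : R' ⊗[R] M) : ∃ (m : M) (ν : R' ⊗[R] M), μ = (1 : R') ⊗ₜ[R] m + f ^ N • ν := by
  induction μ using TensorProduct.induction_on with
  | zero => exact ⟨0, 0, by simp⟩
  | add x y hx hy =>
    obtain ⟨m₁, ν₁, h₁⟩ := hx
    obtain ⟨m₂, ν₂, h₂⟩ := hy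
    refine ⟨m₁ + m₂, ν₁ + ν₂, ?_⟩
    rw [h₁, h₂, TensorProduct.tmul_add, smul_add]
    abel
  | tmul r' m =>
    obtain ⟨r, s', hs'⟩ := exists_approx hq N hN r'
    refine ⟨r • m, s' ⊗ₜ[R] m, ?_⟩
    rw [hs', TensorProduct.add_tmul, TensorProduct.tmul_smul, TensorProduct.smul_tmul',
      TensorProduct.smul_tmul', Algebra.smul_def, mul_one, ← map_pow, ← Algebra.smul_def]

theorem lift_surjective (hq : EtGlue.QuotPowBijective R R' f) (h : GlueData f a p' p₁) :
    Function.Surjective (p'.liftBaseChange R') := by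
  -- step 2: every `l` has a multiple in the image of `a ∘ ε`
  have step2 : ∀ l : R' ⊗[R] M₁, ∃ (N : ℕ) (μ : R' ⊗[R] M),
      f ^ N • l = a (p'.liftBaseChange R' μ) := by
    intro l
    induction l using TensorProduct.induction_on with
    | zero => exact ⟨0, 0, by simp⟩
    | add l₁ l₂ h₁ h₂ =>
      obtain ⟨N₁, μ₁, e₁⟩ := h₁
      obtain ⟨N₂, μ₂, e₂⟩ := h₂
      refine ⟨N₁ + N₂, f ^ N₂ • μ₁ + f ^ N₁ • μ₂, ?_⟩
      rw [smul_add, map_add, map_add, LinearMap.map_smul_of_tower (p'.liftBaseChange R') (f ^ N₂) μ₁,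
        LinearMap.map_smul_of_tower (p'.liftBaseChange R') (f ^ N₁) μ₂,
        a_smul, a_smul, ← e₁, ← e₂, ← mul_smul, ← mul_smul, ← pow_add, ← pow_add, add_comm N₂ N₁]
    | tmul r' y =>
      obtain ⟨n, x, hx⟩ := h.surj ((1 : R') ⊗ₜ[R] y)
      rw [← TensorProduct.tmul_smul] at hx
      obtain ⟨m, hm1, hm2⟩ := h.ex x _ hx.symm
      refine ⟨n, r' ⊗ₜ[R] m, ?_⟩
      rw [h.a_lift, LinearMap.lTensor_tmul, hm2, TensorProduct.tmul_smul]
  intro x
  -- step 3
  obtain ⟨N, μ, e⟩ := step2 (a x)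
  have e3 : a (f ^ N • x - p'.liftBaseChange R' μ) = 0 := by
    rw [map_sub, a_smul, e, sub_self]
  obtain ⟨k, hk⟩ := h.ker _ e3
  rw [smul_sub, sub_eq_zero, ← mul_smul, ← pow_add] at hk
  -- f ^ (k + N) • x = f ^ k • ε μ; make the exponent positive
  have hk' : f ^ (k + N + 1) • x = p'.liftBaseChange R' (f ^ (k + 1) • μ) := by
    rw [LinearMap.map_smul_of_tower, pow_succ', mul_smul, hk, pow_succ', mul_smul]
  obtain ⟨m, ν, hμ⟩ := exists_eq_one_tmul_add hq (k + N + 1) (Nat.succ_pos _) (f ^ (k + 1) • μ)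
  rw [hμ, map_add, LinearMap.liftBaseChange_tmul, one_smul, LinearMap.map_smul_of_tower] at hk'
  -- f ^ K • (x - ε ν) = p' m
  have e4 : f ^ (k + N + 1) • (x - p'.liftBaseChange R' ν) = p' m := by
    rw [smul_sub, hk']
    abel
  obtain ⟨y₁, hy₁⟩ := (h.pow_bij (k + N + 1)).2 (p₁ m)
  change f ^ (k + N + 1) • y₁ = p₁ m at hy₁
  have e5 : a (x - p'.liftBaseChange R' ν) = (1 : R') ⊗ₜ[R] y₁ := by
    rw [← sub_eq_zero]
    apply h.tensor_eq_zero_of_pow_smul (k + N + 1)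
    rw [smul_sub, ← a_smul, e4, h.comm, ← hy₁, TensorProduct.tmul_smul, sub_self]
  obtain ⟨m₂, hm₂, -⟩ := h.ex _ _ e5
  refine ⟨ν + (1 : R') ⊗ₜ[R] m₂, ?_⟩
  rw [map_add, LinearMap.liftBaseChange_tmul, one_smul, hm₂]
  abel

theorem lift_injective (hp : EtGlue.IsGlueingPair R R' f) (h : GlueData f a p' p₁) :
    Function.Injective (p'.liftBaseChange R') := by
  rw [injective_iff_map_eq_zero]
  intro ξ hξ
  have h1 : LinearMap.lTensor R' p₁ ξ = 0 := by rw [← h.a_lift, hξ, map_zero]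
  obtain ⟨m, hm, rfl⟩ := exists_torsion_of_glueingPair hp M ξ (h.torsion_of_lTensor_eq_zero ξ h1)
  rw [LinearMap.liftBaseChange_tmul, one_smul] at hξ
  have h2 : p₁ m = 0 := by
    apply h.eq_zero_of_torsion
    obtain ⟨n, hn⟩ := hm
    exact ⟨n, by rw [← map_smul, hn, map_zero]⟩
  rw [h.inj m hξ h2, TensorProduct.tmul_zero]

theorem isGlueable (hp : EtGlue.IsGlueingPair R R' f) (h : GlueData f a p' p₁) :
    EtGlue.IsGlueable R R' f M := by
  rw [isGlueable_iff M hp.1]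
  refine ⟨fun m hm h0 => ?_, fun x hx => exists_torsion_of_glueingPair hp M x hx⟩
  have h2 : p₁ m = 0 := by
    apply h.eq_zero_of_torsion
    obtain ⟨n, hn⟩ := hm
    exact ⟨n, by rw [← map_smul, hn, map_zero]⟩
  have h1 : p' m = 0 := by
    have := congrArg (p'.liftBaseChange R') h0
    rwa [LinearMap.liftBaseChange_tmul, one_smul, map_zero] at this
  exact h.inj m h1 h2

end GlueData

end Groth.Agent.Lib.Helper12.BL
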