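import Mathlib
import Groth.Prelude.Def_DRing2
import Groth.Agent.Lib.Helper10.Resolution

/-!
# `Tor₁` in the second (resolved) variable via a one-step presentation
-/

set_option autoImplicit false
universe u

open CategoryTheory

namespace Groth.Agent.Lib.Helper12.TorSecond

variable {R : Type u} [CommRing R] (M : Type u) [AddCommGroup M] [Module R M]
variable {K P Z : Type u} [AddCommGroup K] [Module R K] [AddCommGroup P] [Module R P]
  [AddCommGroup Z] [Module R Z]

/-- If `0 → K → P → Z → 0` is exact with `P` projective and `M ⊗ K → M ⊗ P` is injective, then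
`Tor₁(M, Z) = 0` (the second variable being resolved). -/
theorem isZero_tor_one_of_injective [Module.Projective R P] (i : K →ₗ[R] P) (p : P →ₗ[R] Z)
    (hi : Function.Injective i) (hp : Function.Surjective p) (hex : Function.Exact i p)
    (hinj : Function.Injective (LinearMap.lTensor M i)) :
    Limits.IsZero (((CategoryTheory.Tor (ModuleCat.{u} R) 1).obj (ModuleCat.of R M)).obj
      (ModuleCat.of R Z)) := by
  let Q := projectiveResolution (ModuleCat.of R K)
  let i' : ModuleCat.of R K ⟶ ModuleCat.of R P := ModuleCat.ofHom i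
  let p' : ModuleCat.of R P ⟶ ModuleCat.of R Z := ModuleCat.ofHom p
  have w : i' ≫ p' = 0 := by
    ext x
    simp only [i', p', ModuleCat.hom_comp, ModuleCat.hom_ofHom, LinearMap.comp_apply,
      ModuleCat.hom_zero, LinearMap.zero_apply]
    exact hex.apply_apply_eq_zero x
  have hS : (ShortComplex.mk i' p' w).ShortExact :=
    ModuleCat.shortComplex_shortExact _ hex hi hp
  have hP : Projective (ModuleCat.of R P) := (IsProjective.iff_projective P).mp inferInstance
  let Pr := Groth.Agent.Lib.Helper10.spliceResolution hP i' p' w hS Q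
  let F : ModuleCat.{u} R ⥤ ModuleCat.{u} R := MonoidalCategory.tensorLeft (ModuleCat.of R M)
  change Limits.IsZero ((F.leftDerived 1).obj (ModuleCat.of R Z))
  refine Limits.IsZero.of_iso ?_ (Pr.isoLeftDerivedObj F 1)
  change Limits.IsZero (((F.mapHomologicalComplex (ComplexShape.down ℕ)).obj Pr.complex).homology 1)
  rw [← HomologicalComplex.exactAt_iff_isZero_homology,
    HomologicalComplex.exactAt_iff' _ 2 1 0 (by simp) (by simp), ShortComplex.moduleCat_exact_iff]
  let q : Q.complex.X 0 ⟶ ModuleCat.of R K := Q.π.f 0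
  have hqs : Function.Surjective q.hom := by
    have : Epi q := by
      change Epi (Q.π.f 0)
      infer_instance
    exact (ModuleCat.epi_iff_surjective q).1 this
  have hdq : Q.complex.d 1 0 ≫ q = 0 := Q.complex_d_comp_π_f_zero
  have hj : Q.complex.d 1 0 ≫ q ≫ i' = 0 := by rw [← Category.assoc, hdq, Limits.zero_comp]
  have hd1 : Pr.complex.d 1 0 = q ≫ i' :=
    Groth.Agent.Lib.Helper10.spliceComplex_d_zero _ Q.complex (q ≫ i') hj
  have hd2 : Pr.complex.d 2 1 = Q.complex.d 1 0 :=
    Groth.Agent.Lib.Helper10.spliceComplex_d_succ _ Q.complex (q ≫ i') hj 0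
  have e1 : (((F.mapHomologicalComplex (ComplexShape.down ℕ)).obj Pr.complex).sc' 2 1 0).g
      = F.map (q ≫ i') := by
    change F.map (Pr.complex.d 1 0) = _
    rw [hd1]
    rfl
  have e2 : (((F.mapHomologicalComplex (ComplexShape.down ℕ)).obj Pr.complex).sc' 2 1 0).f
      = F.map (Q.complex.d 1 0) := by
    change F.map (Pr.complex.d 2 1) = _
    rw [hd2]
    rfl
  have hexQ : Function.Exact (Q.complex.d 1 0).hom q.hom := by
    have := Q.exact₀
    rw [ShortComplex.ShortExact.moduleCat_exact_iff_function_exact] at this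
    exact this
  have hexT := lTensor_exact M hexQ hqs
  intro y hy
  rw [e1] at hy
  change (LinearMap.lTensor M (q ≫ i').hom) y = 0 at hy
  rw [ModuleCat.hom_comp, LinearMap.lTensor_comp, LinearMap.comp_apply] at hy
  have hy' : LinearMap.lTensor M q.hom y = 0 := by
    apply hinj
    rw [map_zero]
    exact hy
  obtain ⟨z, hz⟩ := (hexT y).mp hy'
  refine ⟨z, ?_⟩
  rw [e2]
  exact hz

theorem subsingleton_tor_one_of_injective [Module.Projective R P] (i : K →ₗ[R] P) (p : P →ₗ[R] Z)
    (hi : Function.Injective i) (hp : Function.Surjective p) (hex : Function.Exact i p)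
    (hinj : Function.Injective (LinearMap.lTensor M i)) :
    Subsingleton (DRing.Tor R 1 M Z) :=
  ModuleCat.subsingleton_of_isZero (isZero_tor_one_of_injective M i p hi hp hex hinj)

end Groth.Agent.Lib.Helper12.TorSecond
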