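import Groth.Agent.Lib.Helper12.BL6
import Groth.Agent.Lib.Helper12.TorSecond

/-!
# Beauville–Laszlo glueing, part 7: `Tor₁(R', -)` vanishing statements
-/

universe u

open TensorProduct

namespace Groth.Agent.Lib.Helper12.BL

variable {R R' : Type u} [CommRing R] [CommRing R'] [Algebra R R'] {f : R}

/-- For a glueing pair, `R → R'` is injective on `f`-power torsion. -/
theorem eq_zero_of_torsion_of_algebraMap_eq_zero (h : EtGlue.IsGlueingPair R R' f) (x : R)
    (hx : ∃ n : ℕ, f ^ n * x = 0) (h0 : algebraMap R R' x = 0) : x = 0 := by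
  apply h.2.1
  change (algebraMap R R' x, algebraMap R (Localization.Away f) x) =
    (algebraMap R R' 0, algebraMap R (Localization.Away f) 0)
  have hz : algebraMap R (Localization.Away f) x = 0 := by
    rw [IsLocalization.map_eq_zero_iff (Submonoid.powers f)]
    obtain ⟨n, hn⟩ := hx
    exact ⟨⟨_, n, rfl⟩, hn⟩
  rw [h0, hz, map_zero, map_zero]

/-- For a glueing pair and an ideal `K` consisting of `f`-power torsion elements, the map
`R' ⊗ K → R' ⊗ R` is injective. -/
theorem lTensor_subtype_injective_of_torsion (h : EtGlue.IsGlueingPair R R' f)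
    (K : Submodule R R) (hK : ∀ k ∈ K, ∃ n : ℕ, f ^ n * k = 0) :
    Function.Injective (LinearMap.lTensor R' K.subtype) := by
  have ht : ∀ q : K, ∃ n : ℕ, f ^ n • q = 0 := by
    rintro ⟨k, hk⟩
    obtain ⟨n, hn⟩ := hK k hk
    exact ⟨n, Subtype.ext hn⟩
  rw [injective_iff_map_eq_zero]
  intro ξ hξ
  obtain ⟨k, rfl⟩ := one_tmul_surjective h.1 ht ξ
  change LinearMap.lTensor R' K.subtype ((1 : R') ⊗ₜ[R] k) = 0 at hξ
  rw [LinearMap.lTensor_tmul] at hξ
  have h1 := congrArg (TensorProduct.rid R R') hξ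
  rw [TensorProduct.rid_tmul, map_zero, Submodule.subtype_apply,
    ← Algebra.algebraMap_eq_smul_one] at h1
  have h2 : (k : R) = 0 := eq_zero_of_torsion_of_algebraMap_eq_zero h _ (hK _ k.2) h1
  have h3 : k = 0 := Subtype.ext h2
  change (1 : R') ⊗ₜ[R] k = 0
  rw [h3, TensorProduct.tmul_zero]

end Groth.Agent.Lib.Helper12.BL
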