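import Groth.Agent.Lib.Helper12.BL7
import Groth.Agent.Lib.Helper9.FlatCrit

/-!
# Beauville–Laszlo glueing, part 8: elementary `Tor₁` symmetry and base change lemmas
-/

universe u

open TensorProduct Function

namespace Groth.Agent.Lib.Helper12.BL

section Sym

variable {R : Type*} [CommRing R]
variable {K P M U V W : Type*} [AddCommGroup K] [Module R K] [AddCommGroup P] [Module R P]
  [AddCommGroup M] [Module R M] [AddCommGroup U] [Module R U] [AddCommGroup V] [Module R V]
  [AddCommGroup W] [Module R W]

/-- Symmetry of `Tor₁`-vanishing: if `K → P → M → 0` is exact with `P` flat, `0 → U → V → W → 0` is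
exact and `W ⊗ K → W ⊗ P` is injective, then `U ⊗ M → V ⊗ M` is injective. -/
theorem rTensor_injective_of_lTensor_injective [Module.Flat R P]
    (i : K →ₗ[R] P) (p : P →ₗ[R] M) (hip : Exact i p) (hp : Surjective p)
    (u : U →ₗ[R] V) (v : V →ₗ[R] W) (hu : Injective u) (huv : Exact u v) (hv : Surjective v)
    (h : Injective (LinearMap.lTensor W i)) :
    Injective (LinearMap.rTensor M u) := by
  rw [injective_iff_map_eq_zero]
  intro x hx
  obtain ⟨y, rfl⟩ := LinearMap.lTensor_surjective U hp x
  have c1 : LinearMap.rTensor M u (LinearMap.lTensor U p y) =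
      LinearMap.lTensor V p (LinearMap.rTensor P u y) := by
    rw [← LinearMap.comp_apply, ← LinearMap.comp_apply, LinearMap.rTensor_comp_lTensor,
      LinearMap.lTensor_comp_rTensor]
  have h1 : LinearMap.lTensor V p (LinearMap.rTensor P u y) = 0 := by rw [← c1, hx]
  obtain ⟨k, hk⟩ := (lTensor_exact V hip hp _).mp h1
  have h2 : LinearMap.lTensor W i (LinearMap.rTensor K v k) = 0 := by
    have c2 : LinearMap.lTensor W i (LinearMap.rTensor K v k) =
        LinearMap.rTensor P v (LinearMap.lTensor V i k) := by
      rw [← LinearMap.comp_apply, ← LinearMap.comp_apply, LinearMap.rTensor_comp_lTensor,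
        LinearMap.lTensor_comp_rTensor]
    rw [c2, hk, ← LinearMap.comp_apply, ← LinearMap.rTensor_comp]
    have : v ∘ₗ u = 0 := by
      ext a
      exact huv.apply_apply_eq_zero a
    rw [this, LinearMap.rTensor_zero, LinearMap.zero_apply]
  have h3 : LinearMap.rTensor K v k = 0 := h (by rw [h2, map_zero])
  obtain ⟨k', hk'⟩ := (rTensor_exact K huv hv _).mp h3
  have h4 : LinearMap.rTensor P u y = LinearMap.rTensor P u (LinearMap.lTensor U i k') := by
    rw [← hk, ← hk', ← LinearMap.comp_apply, ← LinearMap.comp_apply,
      LinearMap.rTensor_comp_lTensor, LinearMap.lTensor_comp_rTensor]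
  have h5 : y = LinearMap.lTensor U i k' :=
    Module.Flat.rTensor_preserves_injective_linearMap u hu h4
  rw [h5, ← LinearMap.comp_apply, ← LinearMap.lTensor_comp]
  have : p ∘ₗ i = 0 := by
    ext a
    exact hip.apply_apply_eq_zero a
  rw [this, LinearMap.lTensor_zero, LinearMap.zero_apply]

end Sym

section FlatLoc

variable {R : Type*} [CommRing R] (S : Type*) [CommRing S] [Algebra R S] [Module.Flat R S]
variable {A B X : Type*} [AddCommGroup A] [Module R A] [AddCommGroup B] [Module R B]
  [AddCommGroup X] [Module R X]
variable (Y : Type*) [AddCommGroup Y] [Module R Y] [Module S Y] [IsScalarTower R S Y]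

/-- If `S ⊗ X` is flat over the flat `R`-algebra `S` and `0 → A → B → X → 0` is exact, then
`Y ⊗ A → Y ⊗ B` is injective for every `S`-module `Y`. -/
theorem lTensor_injective_of_flat_baseChange [Module.Flat S (S ⊗[R] X)]
    (g : A →ₗ[R] B) (q : B →ₗ[R] X) (hg : Injective g) (hgq : Exact g q) (hq : Surjective q) :
    Injective (LinearMap.lTensor Y g) := by
  have hgS : Injective (g.baseChange S) := by
    rw [LinearMap.baseChange_eq_ltensor]
    exact Module.Flat.lTensor_preserves_injective_linearMap g hg
  have hqS : Surjective (q.baseChange S) := by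
    rw [LinearMap.baseChange_eq_ltensor]
    exact LinearMap.lTensor_surjective S hq
  have hex : Exact (g.baseChange S) (q.baseChange S) := by
    rw [LinearMap.baseChange_eq_ltensor, LinearMap.baseChange_eq_ltensor]
    exact lTensor_exact S hgq hq
  have h1 : Injective ((g.baseChange S).lTensor Y) :=
    LinearMap.lTensor_injective_of_exact_of_flat (q.baseChange S) hqS (g.baseChange S) hgS hex Y
  let eA := AlgebraTensorModule.cancelBaseChange R S S Y A
  let eB := AlgebraTensorModule.cancelBaseChange R S S Y B
  have h2 : ∀ x, LinearMap.lTensor Y g (eA x) = eB ((g.baseChange S).lTensor Y x) := by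
    intro x
    induction x using TensorProduct.induction_on with
    | zero => simp
    | add x y hx hy => simp only [map_add, hx, hy]
    | tmul a y =>
      induction y using TensorProduct.induction_on with
      | zero => simp
      | add x y hx hy => simp only [TensorProduct.tmul_add, map_add, hx, hy]
      | tmul s m => simp [eA, eB]
  intro a b hab
  obtain ⟨a', rfl⟩ := eA.surjective a
  obtain ⟨b', rfl⟩ := eA.surjective b
  rw [h2, h2] at hab
  exact congrArg _ (h1 (eB.injective hab))

end FlatLoc


section Inv

theorem exists_free_presentation {R : Type u} [CommRing R] (M : Type u) [AddCommGroup M] [Module R M] :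
    ∃ (P : Type u) (_ : AddCommGroup P) (_ : Module R P) (_ : Module.Free R P) (p : P →ₗ[R] M),
      Surjective p :=
  ⟨M →₀ R, inferInstance, inferInstance, inferInstance, Finsupp.linearCombination R id,
    Finsupp.linearCombination_surjective R surjective_id⟩

variable {R : Type u} [CommRing R] (S : Type u) [CommRing S] [Algebra R S] [Module.Flat R S]
variable (M : Type u) [AddCommGroup M] [Module R M]
variable {U V W : Type u} [AddCommGroup U] [Module R U] [AddCommGroup V] [Module R V]
  [AddCommGroup W] [Module R W] [Module S W] [IsScalarTower R S W]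

theorem rTensor_injective_of_module_quotient [Module.Flat S (S ⊗[R] M)]
    (u : U →ₗ[R] V) (v : V →ₗ[R] W) (hu : Injective u) (huv : Exact u v) (hv : Surjective v) :
    Injective (LinearMap.rTensor M u) := by
  obtain ⟨P, _, _, _, p, hp⟩ := exists_free_presentation (R := R) M
  have hip : Exact (LinearMap.ker p).subtype p := LinearMap.exact_subtype_ker_map p
  have h : Injective (LinearMap.lTensor W (LinearMap.ker p).subtype) := by
    apply lTensor_injective_of_flat_baseChange S W (LinearMap.ker p).subtype p
    · exact Submodule.injective_subtype _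
    · exact hip
    · exact hp
  exact rTensor_injective_of_lTensor_injective _ p hip hp u v hu huv hv h

end Inv
end Groth.Agent.Lib.Helper12.BL
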