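import Groth.Agent.Lib.Helper12.BL8

/-!
# Beauville–Laszlo glueing, part 9: flatness descends along a glueing pair
-/

universe u

open TensorProduct Function

namespace Groth.Agent.Lib.Helper12.BL

variable {R R' : Type u} [CommRing R] [CommRing R'] [Algebra R R'] {f : R}

section Defs

variable (R R' f)

/-- `X → (R' × R_f) ⊗ X`, `x ↦ (1, 1) ⊗ x`. -/
noncomputable def ιX (X : Type*) [AddCommGroup X] [Module R X] :
    X →ₗ[R] (R' × Localization.Away f) ⊗[R] X :=
  (LinearMap.rTensor X (seqα R R' f)) ∘ₗ (TensorProduct.lid R X).symm.toLinearMap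

/-- `(R' × R_f) ⊗ X → R'_f ⊗ X`. -/
noncomputable def βX (X : Type*) [AddCommGroup X] [Module R X] :
    (R' × Localization.Away f) ⊗[R] X →ₗ[R] Localization.Away (algebraMap R R' f) ⊗[R] X :=
  LinearMap.rTensor X (seqβ R R' f)

end Defs

section Basic

variable {X A B : Type*} [AddCommGroup X] [Module R X] [AddCommGroup A] [Module R A]
  [AddCommGroup B] [Module R B]

lemma ιX_apply (x : X) : ιX R R' f X x = ((1 : R'), (1 : Localization.Away f)) ⊗ₜ[R] x := by
  simp [ιX, seqα]

lemma ι_β_exact (hp : EtGlue.IsGlueingPair R R' f) (X : Type*) [AddCommGroup X] [Module R X] :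
    Exact (ιX R R' f X) (βX R R' f X) := by
  intro z
  have h := rTensor_exact X (seq_exact hp) (seqβ_surjective hp) z
  constructor
  · intro hz
    obtain ⟨w, hw⟩ := h.mp hz
    refine ⟨TensorProduct.lid R X w, ?_⟩
    simp only [ιX, LinearMap.comp_apply, LinearEquiv.coe_coe, LinearEquiv.symm_apply_apply]
    exact hw
  · rintro ⟨x, rfl⟩
    exact h.mpr ⟨(TensorProduct.lid R X).symm x, rfl⟩

lemma βX_surjective (hp : EtGlue.IsGlueingPair R R' f) (X : Type*) [AddCommGroup X] [Module R X] :
    Surjective (βX R R' f X) :=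
  LinearMap.rTensor_surjective X (seqβ_surjective hp)

lemma ιX_naturality (g : A →ₗ[R] B) (a : A) :
    LinearMap.lTensor (R' × Localization.Away f) g (ιX R R' f A a) = ιX R R' f B (g a) := by
  simp [ιX_apply]

lemma βX_naturality (g : A →ₗ[R] B) (z : (R' × Localization.Away f) ⊗[R] A) :
    LinearMap.lTensor (Localization.Away (algebraMap R R' f)) g (βX R R' f A z) =
      βX R R' f B (LinearMap.lTensor (R' × Localization.Away f) g z) := by
  simp only [βX]
  rw [← LinearMap.comp_apply, ← LinearMap.comp_apply, LinearMap.rTensor_comp_lTensor,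
    LinearMap.lTensor_comp_rTensor]

lemma ιX_injective_of_injective (g : A →ₗ[R] B) (hg : Injective g)
    (hB : Injective (ιX R R' f B)) : Injective (ιX R R' f A) := by
  intro a b hab
  apply hg
  apply hB
  rw [← ιX_naturality, ← ιX_naturality, hab]

lemma ιX_injective_self (hp : EtGlue.IsGlueingPair R R' f) : Injective (ιX R R' f R) := by
  intro a b hab
  apply hp.2.1
  have h := congrArg (TensorProduct.rid R (R' × Localization.Away f)) hab
  simp only [ιX_apply, TensorProduct.rid_tmul] at h
  simpa [Prod.ext_iff, Algebra.algebraMap_eq_smul_one] using h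

lemma ιX_injective_of_module (B : Type*) [AddCommGroup B] [Module R B]
    [Module (Localization.Away f) B] [IsScalarTower R (Localization.Away f) B] :
    Injective (ιX R R' f B) := by
  let r : (R' × Localization.Away f) ⊗[R] B →ₗ[R] B :=
    ((LinearMap.id : B →ₗ[R] B).liftBaseChange (Localization.Away f)).restrictScalars R ∘ₗ
      LinearMap.rTensor B (LinearMap.snd R R' (Localization.Away f))
  have hr : ∀ b, r (ιX R R' f B b) = b := by
    intro b
    simp [r, ιX_apply]
  intro a b hab
  rw [← hr a, ← hr b, hab]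

/-- a tensor with an `f`-power torsion element vanishes when `f` is invertible on the other factor -/
lemma tmul_eq_zero_of_torsion {Y : Type*} [AddCommGroup Y] [Module R Y]
    (hY : ∀ (n : ℕ) (y : Y), ∃ y₀ : Y, f ^ n • y₀ = y) (y : Y) (t : X) (ht : ∃ n : ℕ, f ^ n • t = 0) :
    y ⊗ₜ[R] t = 0 := by
  obtain ⟨n, hn⟩ := ht
  obtain ⟨y₀, rfl⟩ := hY n y
  rw [TensorProduct.smul_tmul, hn, TensorProduct.tmul_zero]

lemma subsingleton_tensor_of_torsion {Y : Type*} [AddCommGroup Y] [Module R Y]
    (hY : ∀ (n : ℕ) (y : Y), ∃ y₀ : Y, f ^ n • y₀ = y) (ht : ∀ t : X, ∃ n : ℕ, f ^ n • t = 0) :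
    Subsingleton (Y ⊗[R] X) := by
  refine ⟨fun a b => ?_⟩
  have h0 : ∀ z : Y ⊗[R] X, z = 0 := by
    intro z
    induction z using TensorProduct.induction_on with
    | zero => rfl
    | add x y hx hy => rw [hx, hy, add_zero]
    | tmul y t => exact tmul_eq_zero_of_torsion hY y t (ht t)
  rw [h0 a, h0 b]

lemma divisible_of_module (Y : Type*) [AddCommGroup Y] [Module R Y]
    [Module (Localization.Away f) Y] [IsScalarTower R (Localization.Away f) Y] :
    ∀ (n : ℕ) (y : Y), ∃ y₀ : Y, f ^ n • y₀ = y := by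
  intro n y
  have hu : IsUnit (algebraMap R (Localization.Away f) (f ^ n)) := by
    rw [map_pow]
    exact (IsLocalization.Away.algebraMap_isUnit f).pow n
  obtain ⟨u, hu⟩ := hu
  refine ⟨(↑u⁻¹ : Localization.Away f) • y, ?_⟩
  rw [← algebraMap_smul (Localization.Away f) (f ^ n), ← hu, smul_smul, Units.mul_inv, one_smul]

end Basic

end Groth.Agent.Lib.Helper12.BL
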