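import Mathlib

set_option autoImplicit false
universe u
open CategoryTheory CategoryTheory.Limits AlgebraicGeometry

namespace Groth.Agent.Lib.Helper12.BigSiteGen

variable (S : Scheme.{u}) (C : MorphismProperty Scheme.{u})

variable {C} in
/-- composition of finite families -/
lemma famC_comp [C.IsStableUnderComposition] [C.RespectsIso]
    (hcoprod : ∀ (κ : Type u) [Finite κ] (A B : κ → Scheme.{u}) (f : ∀ j, A j ⟶ B j),
      (∀ j, C (f j)) → C (Limits.Sigma.map f))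
    {κ : Type u} [Finite κ] {A : κ → Scheme.{u}} {U : Scheme.{u}} (ψ : ∀ j, A j ⟶ U)
    (hψ : C (Limits.Sigma.desc ψ)) {L : κ → Type u} {W : ∀ j, L j → Scheme.{u}}
    (χ : ∀ j l, W j l ⟶ A j) (hχ : ∀ j, C (Limits.Sigma.desc (χ j))) :
    C (Limits.Sigma.desc (fun p : Σ j, L j => χ p.1 p.2 ≫ ψ p.1)) := by
  have h1 : C (Limits.Sigma.map (fun j => Limits.Sigma.desc (χ j))) := hcoprod κ _ _ _ hχ
  have h2 : C (Limits.Sigma.map (fun j => Limits.Sigma.desc (χ j)) ≫ Limits.Sigma.desc ψ) := C.comp_mem _ _ h1 hψ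
  have h3 : Limits.Sigma.desc (fun p : Σ j, L j => χ p.1 p.2 ≫ ψ p.1) =
      (sigmaSigmaIso L W).inv ≫ Limits.Sigma.map (fun j => Limits.Sigma.desc (χ j)) ≫ Limits.Sigma.desc ψ := by
    apply Limits.Sigma.hom_ext
    rintro ⟨j, l⟩
    simp
  rw [h3]
  exact (C.cancel_left_of_respectsIso _ _).mpr h2


variable {C} in
/-- base change of finite families -/
lemma famC_baseChange [C.IsStableUnderBaseChange]
    {κ : Type u} [Finite κ] {A : κ → Scheme.{u}} {U : Scheme.{u}} (ψ : ∀ j, A j ⟶ U)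
    (hψ : C (Limits.Sigma.desc ψ)) {W : Scheme.{u}} (g : W ⟶ U) :
    C (Limits.Sigma.desc (fun j => pullback.snd (ψ j) g)) := by
  haveI : C.RespectsIso := inferInstance
  let P := pullback (Limits.Sigma.desc ψ) g
  let m : ∀ j, pullback (ψ j) g ⟶ P := fun j =>
    pullback.lift (pullback.fst (ψ j) g ≫ Limits.Sigma.ι A j) (pullback.snd (ψ j) g)
      (by simp [pullback.condition])
  have hm1 : ∀ j, m j ≫ pullback.fst _ _ = pullback.fst (ψ j) g ≫ Limits.Sigma.ι A j :=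
    fun j => pullback.lift_fst _ _ _
  have hm2 : ∀ j, m j ≫ pullback.snd _ _ = pullback.snd (ψ j) g :=
    fun j => pullback.lift_snd _ _ _
  have huniv : IsUniversalColimit (Cofan.mk (∐ A) (Limits.Sigma.ι A)) :=
    FinitaryPreExtensive.isUniversal_finiteCoproducts (coproductIsCoproduct A)
  have hcol : Nonempty (IsColimit (Cofan.mk P m)) := by
    refine huniv (Cofan.mk P m) (Discrete.natTrans (fun j => pullback.fst (ψ j.as) g))
      (pullback.fst _ _) ?_ (NatTrans.Equifibered.of_discrete _) ?_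
    · ext ⟨j⟩
      simp [hm1]
    · rintro ⟨j⟩
      dsimp
      refine IsPullback.of_right ?_ (hm1 j) (IsPullback.of_hasPullback _ _).flip
      rw [hm2 j]
      have : Limits.Sigma.ι A j ≫ Limits.Sigma.desc ψ = ψ j := by simp
      rw [this]
      exact (IsPullback.of_hasPullback _ _).flip
  obtain ⟨hcol⟩ := hcol
  have h3 : Limits.Sigma.desc (fun j => pullback.snd (ψ j) g) =
      ((coproductIsCoproduct _).coconePointUniqueUpToIso hcol).hom ≫
        pullback.snd (Limits.Sigma.desc ψ) g := by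
    apply Limits.Sigma.hom_ext
    intro j
    have := (coproductIsCoproduct (fun j => pullback (ψ j) g)).comp_coconePointUniqueUpToIso_hom
      hcol ⟨j⟩
    dsimp at this
    rw [reassoc_of% this]
    simp [hm2]
  rw [h3]
  exact (C.cancel_left_of_respectsIso _ _).mpr (C.pullback_snd _ _ hψ)


/-- local covering datum at an open `U` of `X` -/
def LocCov (X : Over S) (R : Sieve X) (U : X.left.Opens) : Prop :=
  ∃ (κ : Type u) (_ : Finite κ) (V : κ → Over S) (φ : ∀ j, V j ⟶ X)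
    (ψ : ∀ j, (V j).left ⟶ (U : Scheme.{u})),
    (∀ j, IsAffine (V j).left) ∧ (∀ j, R.arrows (φ j)) ∧ (∀ j, ψ j ≫ U.ι = (φ j).left) ∧
      C (Limits.Sigma.desc ψ)

/-- covering sieves, pointwise form -/
def Cov (X : Over S) (R : Sieve X) : Prop :=
  ∀ x : X.left, ∃ U : X.left.Opens, IsAffineOpen U ∧ x ∈ U ∧ LocCov S C X R U

lemma cov_iff (X : Over S) (R : Sieve X) : Cov S C X R ↔
    ∃ (ι : Type u) (U : ι → X.left.Opens), (∀ i, IsAffineOpen (U i)) ∧ ⨆ i, U i = ⊤ ∧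
        ∀ i, ∃ (κ : Type u) (_ : Finite κ) (V : κ → Over S) (φ : ∀ j, V j ⟶ X)
          (ψ : ∀ j, (V j).left ⟶ (U i : Scheme.{u})),
          (∀ j, IsAffine (V j).left) ∧ (∀ j, R.arrows (φ j)) ∧ (∀ j, ψ j ≫ (U i).ι = (φ j).left) ∧
            C (Limits.Sigma.desc ψ) := by
  constructor
  · intro h
    refine ⟨{U : X.left.Opens // IsAffineOpen U ∧ LocCov S C X R U}, fun U => U.1,
      fun U => U.2.1, ?_, fun U => U.2.2⟩
    rw [eq_top_iff]
    intro x _
    obtain ⟨U, hU, hxU, hloc⟩ := h x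
    exact TopologicalSpace.Opens.mem_iSup.mpr ⟨⟨U, hU, hloc⟩, hxU⟩
  · rintro ⟨ι, U, hU, hcov, hloc⟩ x
    have hx : x ∈ (⨆ i, U i) := by rw [hcov]; trivial
    obtain ⟨i, hi⟩ := TopologicalSpace.Opens.mem_iSup.mp hx
    exact ⟨U i, hU i, hi, hloc i⟩


lemma isIso_desc_punit {A B : Scheme.{u}} (f : A ⟶ B) [IsIso f] :
    IsIso (Limits.Sigma.desc (fun _ : PUnit.{u+1} => f)) := by
  refine ⟨inv f ≫ Limits.Sigma.ι (fun _ : PUnit.{u+1} => A) ⟨⟩, ?_, ?_⟩
  · apply Limits.Sigma.hom_ext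
    rintro ⟨⟩
    simp
  · simp

variable {C} in
lemma C_of_isIso [C.IsStableUnderBaseChange]
    (haff : ∀ (U : Scheme.{u}) [IsAffine U] (κ : Type u) [Finite κ] (V : κ → U.Opens),
      (∀ j, IsAffineOpen (V j)) → ⨆ j, V j = ⊤ → C (Limits.Sigma.desc fun j => (V j).ι))
    {A U : Scheme.{u}} [IsAffine U] (f : A ⟶ U) [IsIso f] : C f := by
  haveI : C.RespectsIso := inferInstance
  have h := haff U PUnit.{u+1} (fun _ => ⊤) (fun _ => isAffineOpen_top U) (by simp)
  haveI : IsIso (⊤ : U.Opens).ι := by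
    rw [← Scheme.topIso_hom]; infer_instance
  haveI := isIso_desc_punit (⊤ : U.Opens).ι
  have : f = (f ≫ inv (Limits.Sigma.desc (fun _ : PUnit.{u+1} => (⊤ : U.Opens).ι))) ≫
      Limits.Sigma.desc (fun _ : PUnit.{u+1} => (⊤ : U.Opens).ι) := by simp
  rw [this]
  exact (C.cancel_left_of_respectsIso _ _).mpr h

variable {S C} in
lemma cov_top [C.IsStableUnderBaseChange]
    (haff : ∀ (U : Scheme.{u}) [IsAffine U] (κ : Type u) [Finite κ] (V : κ → U.Opens),
      (∀ j, IsAffineOpen (V j)) → ⨆ j, V j = ⊤ → C (Limits.Sigma.desc fun j => (V j).ι))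
    (X : Over S) : Cov S C X ⊤ := by
  intro x
  obtain ⟨U, hU, hxU, -⟩ := exists_isAffineOpen_mem_and_subset (X := X.left) (x := x)
    (U := ⊤) trivial
  refine ⟨U, hU, hxU, PUnit.{u+1}, inferInstance, fun _ => Over.mk (U.ι ≫ X.hom),
    fun _ => Over.homMk U.ι rfl, fun _ => 𝟙 _, fun _ => hU, fun _ => trivial, fun _ => by simp, ?_⟩
  haveI : IsAffine (U : Scheme.{u}) := hU
  haveI := isIso_desc_punit (𝟙 (U : Scheme.{u}))
  exact C_of_isIso haff (Limits.Sigma.desc (fun _ : PUnit.{u+1} => 𝟙 (U : Scheme.{u})))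


variable {S C} in
lemma cov_pullback [C.IsStableUnderBaseChange]
    {X Y : Over S} (f : Y ⟶ X) (R : Sieve X) (hR : Cov S C X R) : Cov S C Y (R.pullback f) := by
  intro y
  obtain ⟨U, hU, hxU, κ, hκ, V, φ, ψ, hV, hRφ, hψφ, hC⟩ := hR (f.left y)
  obtain ⟨W, hW, hyW, hWU⟩ := exists_isAffineOpen_mem_and_subset (X := Y.left) (x := y)
    (U := f.left ⁻¹ᵁ U) hxU
  haveI : IsAffine (U : Scheme.{u}) := hU
  haveI : IsAffine (W : Scheme.{u}) := hW
  -- the restriction
  let g : (W : Scheme.{u}) ⟶ (U : Scheme.{u}) :=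
    IsOpenImmersion.lift U.ι (W.ι ≫ f.left) (by
      rw [Scheme.Opens.range_ι]
      rintro _ ⟨w, rfl⟩
      exact hWU w.2)
  have hg : g ≫ U.ι = W.ι ≫ f.left := IsOpenImmersion.lift_fac _ _ _
  refine ⟨W, hW, hyW, κ, hκ, fun j => Over.mk (pullback.snd (ψ j) g ≫ W.ι ≫ Y.hom),
    fun j => Over.homMk (pullback.snd (ψ j) g ≫ W.ι) (by simp),
    fun j => pullback.snd (ψ j) g, fun j => ?_, fun j => ?_, fun j => by simp, ?_⟩
  · haveI := hV j
    dsimp
    infer_instance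
  · change R.arrows (_ ≫ f)
    have : (Over.homMk (pullback.snd (ψ j) g ≫ W.ι) (by simp) :
        Over.mk (pullback.snd (ψ j) g ≫ W.ι ≫ Y.hom) ⟶ Y) ≫ f =
        (Over.homMk (pullback.fst (ψ j) g) (by
          dsimp
          rw [← Over.w (φ j), ← hψφ j, ← Over.w f]
          simp only [Category.assoc]
          rw [← reassoc_of% hg, pullback.condition_assoc]) :
          Over.mk (pullback.snd (ψ j) g ≫ W.ι ≫ Y.hom) ⟶ V j) ≫ φ j := by
      ext
      simp only [Over.comp_left, Over.homMk_left, Category.assoc]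
      rw [← hg, ← hψφ j, pullback.condition_assoc]
    rw [this]
    exact R.downward_closed (hRφ j) _
  · exact famC_baseChange ψ hC g


variable {S C} in
lemma cov_trans [C.IsStableUnderComposition] [C.IsStableUnderBaseChange]
    (hcoprod : ∀ (κ : Type u) [Finite κ] (A B : κ → Scheme.{u}) (f : ∀ j, A j ⟶ B j),
      (∀ j, C (f j)) → C (Limits.Sigma.map f))
    (haff : ∀ (U : Scheme.{u}) [IsAffine U] (κ : Type u) [Finite κ] (V : κ → U.Opens),
      (∀ j, IsAffineOpen (V j)) → ⨆ j, V j = ⊤ → C (Limits.Sigma.desc fun j => (V j).ι))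
    {X : Over S} (R R' : Sieve X) (hR : Cov S C X R)
    (h : ∀ ⦃Y : Over S⦄ ⦃f : Y ⟶ X⦄, R.arrows f → Cov S C Y (R'.pullback f)) :
    Cov S C X R' := by
  haveI : C.RespectsIso := inferInstance
  intro x
  obtain ⟨U, hU, hxU, κ, hκ, V, φ, ψ, hV, hRφ, hψφ, hC⟩ := hR x
  refine ⟨U, hU, hxU, ?_⟩
  have key : ∀ j, ∃ (K : Type u) (_ : Finite K) (U' : K → (V j).left.Opens),
      (∀ k, IsAffineOpen (U' k)) ∧ ⨆ k, U' k = ⊤ ∧
        ∀ k, LocCov S C (V j) (R'.pullback (φ j)) (U' k) := by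
    intro j
    have hj := h (hRφ j)
    choose U' hU' hmem hloc using hj
    haveI := hV j
    obtain ⟨t, ht⟩ := isCompact_univ.elim_finite_subcover (fun v => (U' v : Set (V j).left))
      (fun v => (U' v).isOpen) (fun v _ => Set.mem_iUnion.mpr ⟨v, hmem v⟩)
    refine ⟨t, inferInstance, fun k => U' k.1, fun k => hU' _, ?_, fun k => hloc _⟩
    rw [eq_top_iff]
    intro v _
    obtain ⟨k, hk⟩ := Set.mem_iUnion.mp (ht (Set.mem_univ v))
    obtain ⟨hk1, hk2⟩ := Set.mem_iUnion.mp hk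
    exact TopologicalSpace.Opens.mem_iSup.mpr ⟨⟨k, hk1⟩, hk2⟩
  choose K hK U' hU' hcov' hloc' using key
  choose L hL W φ' ψ' hW hR' hψφ' hC' using hloc'
  haveI := hK
  haveI := hL
  refine ⟨Σ j, Σ k : K j, L j k, inferInstance, fun p => W p.1 p.2.1 p.2.2,
    fun p => φ' p.1 p.2.1 p.2.2 ≫ φ p.1,
    fun p => (ψ' p.1 p.2.1 p.2.2 ≫ (U' p.1 p.2.1).ι) ≫ ψ p.1,
    fun p => hW _ _ _, fun p => hR' _ _ _, fun p => ?_, ?_⟩
  · simp [hψφ, hψφ']
  · have inner : ∀ j, C (Limits.Sigma.desc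
        (fun q : Σ k : K j, L j k => ψ' j q.1 q.2 ≫ (U' j q.1).ι)) := fun j => by
      haveI := hV j
      exact famC_comp hcoprod (fun k => (U' j k).ι) (haff _ _ _ (hU' j) (hcov' j)) (ψ' j) (hC' j)
    exact famC_comp hcoprod ψ hC (L := fun j => Σ k : K j, L j k)
      (fun j (q : Σ k : K j, L j k) => ψ' j q.1 q.2 ≫ (U' j q.1).ι) inner


variable {S C} in
/-- the Grothendieck topology generated by the class `C` -/
def topology [C.IsStableUnderComposition] [C.IsStableUnderBaseChange]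
    (hcoprod : ∀ (κ : Type u) [Finite κ] (A B : κ → Scheme.{u}) (f : ∀ j, A j ⟶ B j),
      (∀ j, C (f j)) → C (Limits.Sigma.map f))
    (haff : ∀ (U : Scheme.{u}) [IsAffine U] (κ : Type u) [Finite κ] (V : κ → U.Opens),
      (∀ j, IsAffineOpen (V j)) → ⨆ j, V j = ⊤ → C (Limits.Sigma.desc fun j => (V j).ι)) :
    GrothendieckTopology (Over S) where
  sieves X := {R | Cov S C X R}
  top_mem' X := cov_top haff X
  pullback_stable' _ _ _ f hR := cov_pullback f _ hR
  transitive' _ R hR R' h := cov_trans hcoprod haff R R' hR h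

end Groth.Agent.Lib.Helper12.BigSiteGen
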