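import Mathlib
import Groth.Agent.Lib.Helper12.BigSiteGen

set_option autoImplicit false
universe v u
open CategoryTheory CategoryTheory.Limits AlgebraicGeometry

namespace Groth.Agent.Lib.Helper12.BigSiteGen

variable {S : Scheme.{u}}

lemma ofArrows_mem_zariski_over {X : Over S} {ι : Type u} (Y : ι → Over S) (g : ∀ i, Y i ⟶ X)
    (hg : ∀ i, IsOpenImmersion (g i).left) (hsurj : ∀ x : X.left, ∃ i y, (g i).left y = x) :
    Sieve.ofArrows Y g ∈ (Scheme.zariskiTopology.over S) X := by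
  rw [GrothendieckTopology.mem_over_iff, Sieve.overEquiv_ofArrows]
  exact (Scheme.Cover.mkOfCovers (P := @IsOpenImmersion) ι (fun i => (Y i).left)
    (fun i => (g i).left) hsurj hg).mem_grothendieckTopology


variable (F : (Over S)ᵒᵖ ⥤ Type v)

lemma zariski_le_finest (hF : Presieve.IsSheaf (Scheme.zariskiTopology.over S) F) :
    Scheme.zariskiTopology.over S ≤ Sheaf.finestTopologySingle F :=
  fun _ _ hR _ f => hF _ (GrothendieckTopology.pullback_stable _ f hR)

lemma generate_singleton_mem {C : MorphismProperty Scheme.{u}} [C.IsStableUnderBaseChange]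
    (hF : ∀ (X X' : Over S) (f : X' ⟶ X), C f.left →
      Presieve.IsSheafFor F (Presieve.singleton f))
    {X X' : Over S} (f : X' ⟶ X) (hf : C f.left) :
    Sieve.generate (Presieve.singleton f) ∈ Sheaf.finestTopologySingle F X := by
  intro Y g
  let Y' : Over S := Over.mk (pullback.snd f.left g.left ≫ Y.hom)
  let f' : Y' ⟶ Y := Over.homMk (pullback.snd f.left g.left) rfl
  let g' : Y' ⟶ X' := Over.homMk (pullback.fst f.left g.left) (by
    change _ = pullback.snd f.left g.left ≫ Y.hom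
    rw [← Over.w f, ← Over.w g, pullback.condition_assoc])
  have hcomm : f' ≫ g = g' ≫ f := by
    ext
    simp [f', g', pullback.condition]
  have heq : (Sieve.generate (Presieve.singleton f)).pullback g =
      Sieve.generate (Presieve.singleton f') := by
    ext Z h
    constructor
    · rintro ⟨W, a, b, ⟨⟩, hab⟩
      have hab' : a.left ≫ f.left = h.left ≫ g.left := by
        rw [← Over.comp_left, hab, Over.comp_left]
      refine ⟨Y', Over.homMk (pullback.lift a.left h.left hab') (by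
        change _ ≫ _ ≫ _ = _
        rw [pullback.lift_snd_assoc, Over.w]), f', ⟨⟩, ?_⟩
      ext
      change pullback.lift _ _ _ ≫ pullback.snd _ _ = _
      rw [pullback.lift_snd]
    · rintro ⟨W, a, b, ⟨⟩, rfl⟩
      change (Sieve.generate _) ((a ≫ f') ≫ g)
      rw [Category.assoc, hcomm, ← Category.assoc]
      exact ⟨_, a ≫ g', f, ⟨⟩, rfl⟩
  rw [heq]
  exact (Presieve.isSheafFor_iff_generate _).mp (hF _ _ f' (C.pullback_snd _ _ hf))


/-- a sieve whose pullback along every member of a covering `ofArrows` family is covering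
is covering. -/
lemma mem_of_ofArrows {D : Type*} [Category D] (K : GrothendieckTopology D) {X : D}
    {ι : Type*} (Y : ι → D) (g : ∀ i, Y i ⟶ X) (hg : Sieve.ofArrows Y g ∈ K X)
    (R : Sieve X) (h : ∀ i, R.pullback (g i) ∈ K (Y i)) : R ∈ K X := by
  refine K.transitive hg R ?_
  rintro Z f ⟨W, a, b, ⟨i⟩, rfl⟩
  rw [Sieve.pullback_comp]
  exact K.pullback_stable a (h i)

lemma mem_of_locCov {C : MorphismProperty Scheme.{u}} (K : GrothendieckTopology (Over S))
    (hZ : Scheme.zariskiTopology.over S ≤ K)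
    (hC : ∀ {X X' : Over S} (f : X' ⟶ X), C f.left →
      Sieve.generate (Presieve.singleton f) ∈ K X)
    {X : Over S} (R : Sieve X) (U : X.left.Opens) (hloc : LocCov S C X R U) :
    R.pullback (Over.homMk U.ι rfl : Over.mk (U.ι ≫ X.hom) ⟶ X) ∈ K (Over.mk (U.ι ≫ X.hom)) := by
  obtain ⟨κ, hκ, V, φ, ψ, hV, hRφ, hψφ, hCψ⟩ := hloc
  set gU : Over.mk (U.ι ≫ X.hom) ⟶ X := Over.homMk U.ι rfl
  let T : Over S := Over.mk (Limits.Sigma.desc (fun j => (V j).hom))
  let p : T ⟶ Over.mk (U.ι ≫ X.hom) := Over.homMk (Limits.Sigma.desc ψ) (by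
    apply Limits.Sigma.hom_ext
    intro j
    change _ ≫ _ ≫ U.ι ≫ X.hom = _ ≫ Limits.Sigma.desc (fun j => (V j).hom)
    rw [Limits.Sigma.ι_desc_assoc, Limits.Sigma.ι_desc, reassoc_of% hψφ j, Over.w])
  have hp : Sieve.generate (Presieve.singleton p) ∈ K _ := hC p hCψ
  have hp' : Sieve.ofArrows (fun _ : PUnit.{1} => T) (fun _ => p) ∈ K _ := by
    convert hp using 1
    ext Z f
    constructor
    · rintro ⟨W, a, b, ⟨_⟩, rfl⟩
      exact ⟨_, a, p, ⟨⟩, rfl⟩
    · rintro ⟨W, a, b, ⟨⟩, rfl⟩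
      exact ⟨_, a, p, ⟨⟨⟩⟩, rfl⟩
  refine mem_of_ofArrows K _ _ hp' _ (fun _ => ?_)
  let inj : ∀ j, V j ⟶ T := fun j => Over.homMk (Limits.Sigma.ι (fun j => (V j).left) j) (by
    change _ ≫ Limits.Sigma.desc (fun j => (V j).hom) = _
    rw [Limits.Sigma.ι_desc])
  have hinj : Sieve.ofArrows V inj ∈ K T := by
    apply hZ
    refine ofArrows_mem_zariski_over V inj (fun j => ?_) (fun x => ?_)
    · change IsOpenImmersion (Limits.Sigma.ι (fun j => (V j).left) j)
      infer_instance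
    · obtain ⟨j, y, hy⟩ := (sigmaOpenCover (fun j => (V j).left)).exists_eq x
      exact ⟨j, y, hy⟩
  refine mem_of_ofArrows K _ _ hinj _ (fun j => ?_)
  rw [← Sieve.pullback_comp, ← Sieve.pullback_comp]
  have : inj j ≫ p ≫ gU = φ j := by
    ext
    change Limits.Sigma.ι (fun j => (V j).left) j ≫ Limits.Sigma.desc ψ ≫ U.ι = _
    rw [Limits.Sigma.ι_desc_assoc, hψφ j]
  rw [Category.assoc, this, Sieve.pullback_eq_top_of_mem _ (hRφ j)]
  exact K.top_mem _


lemma mem_of_cov {C : MorphismProperty Scheme.{u}} (K : GrothendieckTopology (Over S))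
    (hZ : Scheme.zariskiTopology.over S ≤ K)
    (hC : ∀ {X X' : Over S} (f : X' ⟶ X), C f.left →
      Sieve.generate (Presieve.singleton f) ∈ K X)
    {X : Over S} (R : Sieve X) (hR : Cov S C X R) : R ∈ K X := by
  let ι := {U : X.left.Opens // IsAffineOpen U ∧ LocCov S C X R U}
  let Y : ι → Over S := fun U => Over.mk (U.1.ι ≫ X.hom)
  let g : ∀ U : ι, Y U ⟶ X := fun U => Over.homMk U.1.ι rfl
  have hg : Sieve.ofArrows Y g ∈ K X := by
    apply hZ
    refine ofArrows_mem_zariski_over Y g (fun U => ?_) (fun x => ?_)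
    · change IsOpenImmersion U.1.ι
      infer_instance
    · obtain ⟨U, hU, hxU, hloc⟩ := hR x
      exact ⟨⟨U, hU, hloc⟩, ⟨x, hxU⟩, rfl⟩
  exact mem_of_ofArrows K Y g hg R (fun U => mem_of_locCov K hZ hC R U.1 U.2.2)

lemma locCov_of_mem {C : MorphismProperty Scheme.{u}} [C.IsStableUnderBaseChange]
    (haff : ∀ (U : Scheme.{u}) [IsAffine U] (κ : Type u) [Finite κ] (V : κ → U.Opens),
      (∀ j, IsAffineOpen (V j)) → ⨆ j, V j = ⊤ → C (Limits.Sigma.desc fun j => (V j).ι))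
    {X : Over S} (R : Sieve X) (U : X.left.Opens) (hU : IsAffineOpen U)
    (hR : R.arrows (Over.homMk U.ι rfl : Over.mk (U.ι ≫ X.hom) ⟶ X)) : LocCov S C X R U := by
  refine ⟨PUnit.{u+1}, inferInstance, fun _ => Over.mk (U.ι ≫ X.hom),
    fun _ => Over.homMk U.ι rfl, fun _ => 𝟙 _, fun _ => hU, fun _ => hR, fun _ => by simp, ?_⟩
  haveI : IsAffine (U : Scheme.{u}) := hU
  haveI := isIso_desc_punit (𝟙 (U : Scheme.{u}))
  exact C_of_isIso haff (Limits.Sigma.desc (fun _ : PUnit.{u+1} => 𝟙 (U : Scheme.{u})))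

lemma cov_of_zariski {C : MorphismProperty Scheme.{u}} [C.IsStableUnderBaseChange]
    (haff : ∀ (U : Scheme.{u}) [IsAffine U] (κ : Type u) [Finite κ] (V : κ → U.Opens),
      (∀ j, IsAffineOpen (V j)) → ⨆ j, V j = ⊤ → C (Limits.Sigma.desc fun j => (V j).ι))
    {X : Over S} (R : Sieve X) (hR : R ∈ (Scheme.zariskiTopology.over S) X) : Cov S C X R := by
  rw [GrothendieckTopology.mem_over_iff] at hR
  obtain ⟨𝒰, h𝒰⟩ := Scheme.exists_cover_of_mem_grothendieckTopology hR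
  intro x
  obtain ⟨i, y, hy⟩ := 𝒰.exists_eq x
  haveI : IsOpenImmersion (𝒰.f i) := 𝒰.map_prop i
  have hx : x ∈ (𝒰.f i).opensRange := ⟨y, hy⟩
  obtain ⟨U, hU, hxU, hUr⟩ := exists_isAffineOpen_mem_and_subset (X := X.left) hx
  refine ⟨U, hU, hxU, locCov_of_mem haff R U hU ?_⟩
  have h1 : (Sieve.overEquiv X R) (𝒰.f i) := h𝒰 _ _ (Presieve.ofArrows.mk i)
  rw [Sieve.overEquiv_iff] at h1
  let l : (U : Scheme.{u}) ⟶ 𝒰.X i := IsOpenImmersion.lift (𝒰.f i) U.ι (by
    rw [Scheme.Opens.range_ι]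
    exact hUr)
  have hl : l ≫ 𝒰.f i = U.ι := IsOpenImmersion.lift_fac _ _ _
  have : (Over.homMk U.ι rfl : Over.mk (U.ι ≫ X.hom) ⟶ X) =
      (Over.homMk l (by simp [reassoc_of% hl]) : Over.mk (U.ι ≫ X.hom) ⟶ Over.mk (𝒰.f i ≫ X.hom)) ≫
        Over.homMk (𝒰.f i) rfl := by
    ext
    simp [hl]
  rw [this]
  exact R.downward_closed h1 _


lemma cov_generate_singleton {C : MorphismProperty Scheme.{u}} [C.IsStableUnderBaseChange]
    (hqc : ∀ {A B : Scheme.{u}} (f : A ⟶ B), C f → QuasiCompact f)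
    (hres : ∀ (W X' : Scheme.{u}) [IsAffine W] (f : X' ⟶ W), C f →
      ∀ (κ : Type u) [Finite κ] (A : κ → X'.Opens), (∀ l, IsAffineOpen (A l)) → ⨆ l, A l = ⊤ →
        C (Limits.Sigma.desc fun l => (A l).ι ≫ f))
    {X X' : Over S} (f : X' ⟶ X) (hf : C f.left) :
    Cov S C X (Sieve.generate (Presieve.singleton f)) := by
  intro x
  obtain ⟨U, hU, hxU, -⟩ := exists_isAffineOpen_mem_and_subset (X := X.left) (x := x)
    (U := ⊤) trivial
  refine ⟨U, hU, hxU, ?_⟩
  haveI : IsAffine (U : Scheme.{u}) := hU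
  let P : X'.left.Opens := f.left ⁻¹ᵁ U
  let r : (P : Scheme.{u}) ⟶ (U : Scheme.{u}) := f.left ∣_ U
  have hr : C r := C.of_isPullback (isPullback_morphismRestrict f.left U).flip hf
  haveI : QuasiCompact r := hqc r hr
  haveI : CompactSpace (P : Scheme.{u}) := QuasiCompact.compactSpace_of_compactSpace r
  have hex : ∀ z : (P : Scheme.{u}), ∃ A : (P : Scheme.{u}).Opens, IsAffineOpen A ∧ z ∈ A := by
    intro z
    obtain ⟨A, hA, hzA, -⟩ := exists_isAffineOpen_mem_and_subset (X := (P : Scheme.{u}))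
      (x := z) (U := ⊤) trivial
    exact ⟨A, hA, hzA⟩
  choose A hA hzA using hex
  obtain ⟨t, ht⟩ := isCompact_univ.elim_finite_subcover (fun z => (A z : Set (P : Scheme.{u})))
    (fun z => (A z).isOpen) (fun z _ => Set.mem_iUnion.mpr ⟨z, hzA z⟩)
  have hcov : ⨆ l : t, A l.1 = ⊤ := by
    rw [eq_top_iff]
    intro v _
    obtain ⟨k, hk⟩ := Set.mem_iUnion.mp (ht (Set.mem_univ v))
    obtain ⟨hk1, hk2⟩ := Set.mem_iUnion.mp hk
    exact TopologicalSpace.Opens.mem_iSup.mpr ⟨⟨k, hk1⟩, hk2⟩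
  have hCdesc := hres (U : Scheme.{u}) (P : Scheme.{u}) r hr t (fun l => A l.1)
    (fun l => hA _) hcov
  refine ⟨t, inferInstance, fun l => Over.mk (((A l.1).ι ≫ P.ι) ≫ X'.hom),
    fun l => (Over.homMk ((A l.1).ι ≫ P.ι) rfl : Over.mk (((A l.1).ι ≫ P.ι) ≫ X'.hom) ⟶ X') ≫ f,
    fun l => (A l.1).ι ≫ r, fun l => hA _, fun l => ⟨_, _, f, ⟨⟩, rfl⟩, fun l => ?_, hCdesc⟩
  simp [r, P, morphismRestrict_ι]

end Groth.Agent.Lib.Helper12.BigSiteGen
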