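import Mathlib

namespace H12CB

open MvPolynomial

variable {k : Type*} [Field k] {ι : Type*} [Fintype ι] {σ : Type*} (pts : ι → σ → k)

noncomputable def ev (d : ℕ) : ↥(homogeneousSubmodule σ k d) →ₗ[k] (ι → k) :=
  (LinearMap.pi fun z : ι => (MvPolynomial.aeval (R := k) (pts z)).toLinearMap) ∘ₗ
            (MvPolynomial.homogeneousSubmodule σ k d).subtype

omit [Fintype ι] in
@[simp] lemma ev_apply (d : ℕ) (p : ↥(homogeneousSubmodule σ k d)) (z : ι) :
    ev pts d p z = eval (pts z) p.1 := by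
  simp [ev, MvPolynomial.aeval_eq_eval]

theorem main [Infinite k] (n m : ℕ) (hm : m ≤ n)
    (hCB : ∀ z, ∀ p : MvPolynomial σ k, p.IsHomogeneous n →
      (∀ z', z' ≠ z → eval (pts z') p = 0) → eval (pts z) p = 0)
    (hinj : ∀ s : MvPolynomial σ k, s.IsHomogeneous (n-m) → (∀ z, eval (pts z) s = 0) → s = 0) :
    Module.finrank k (LinearMap.range (ev pts m)) +
      Module.finrank k ↥(homogeneousSubmodule σ k (n-m)) ≤ Fintype.card ι := by
  classical
  set R := LinearMap.range (ev pts n) with hR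
  set A := R.dualAnnihilator with hA
  have h1 : ∀ z : ι, ∃ φ ∈ A, φ (Pi.single z 1) ≠ 0 := by
    intro z
    by_contra hcon
    push Not at hcon
    have hmem : (Pi.single z (1:k) : ι → k) ∈ A.dualCoannihilator := by
      rw [Submodule.mem_dualCoannihilator]
      exact hcon
    rw [hA, Subspace.dualAnnihilator_dualCoannihilator_eq] at hmem
    obtain ⟨p, hp⟩ := hmem
    have h0 := hCB z p.1 ((mem_homogeneousSubmodule _ _).1 p.2) (fun z' hz' => by
      have := congrFun hp z'
      simpa [Pi.single_apply, hz'] using this)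
    have h2 := congrFun hp z
    simp [h0] at h2
  -- generic element
  have h2 : ∃ φ ∈ A, ∀ z : ι, φ (Pi.single z 1) ≠ 0 := by
    let Az : ι → Subspace k ↥A := fun z =>
      LinearMap.ker ((Module.Dual.eval k (ι → k) (Pi.single z 1)) ∘ₗ A.subtype)
    have hs : (⊤ : Subspace k ↥A) ∉ Finset.univ.image Az := by
      intro htop
      obtain ⟨z, -, hz⟩ := Finset.mem_image.1 htop
      obtain ⟨φ, hφ, hne⟩ := h1 z
      have : (⟨φ, hφ⟩ : ↥A) ∈ Az z := by rw [hz]; trivial
      exact hne (by simpa [Az] using this)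
    have := Subspace.biUnion_ne_univ_of_top_notMem hs
    rw [Ne, Set.eq_univ_iff_forall] at this
    push Not at this
    obtain ⟨φ, hφ⟩ := this
    refine ⟨φ.1, φ.2, fun z hz => hφ ?_⟩
    simp only [Set.mem_iUnion]
    exact ⟨Az z, Finset.mem_image_of_mem _ (Finset.mem_univ z), by simpa [Az] using hz⟩
  obtain ⟨φ, hφA, hφ⟩ := h2
  set W := LinearMap.range (ev pts m) with hW
  let Φ : ↥(homogeneousSubmodule σ k (n-m)) →ₗ[k] Module.Dual k (ι → k) :=
    (LinearMap.llcomp k (ι → k) (ι → k) k φ) ∘ₗ (LinearMap.mul k (ι → k)) ∘ₗ ev pts (n-m)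
  have hΦ : ∀ q w, Φ q w = φ (ev pts (n-m) q * w) := fun q w => rfl
  have hΦinj : Function.Injective Φ := by
    rw [← LinearMap.ker_eq_bot, LinearMap.ker_eq_bot']
    intro q hq
    have : ∀ z, eval (pts z) q.1 = 0 := by
      intro z
      have h3 := hΦ q (Pi.single z 1)
      rw [hq, LinearMap.zero_apply] at h3
      have h4 : ev pts (n-m) q * Pi.single z (1:k) = (eval (pts z) q.1) • Pi.single z (1:k) := by
        ext w
        by_cases hw : w = z
        · subst hw; simp
        · simp [Pi.single_apply, hw]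
      rw [h4, map_smul, smul_eq_mul] at h3
      exact (mul_eq_zero.1 h3.symm).resolve_right (hφ z)
    exact Subtype.ext (hinj q.1 ((mem_homogeneousSubmodule _ _).1 q.2) this)
  have hΦmem : ∀ q, Φ q ∈ W.dualAnnihilator := by
    intro q
    rw [Submodule.mem_dualAnnihilator]
    rintro _ ⟨p, rfl⟩
    rw [hΦ]
    have hqp : q.1 * p.1 ∈ homogeneousSubmodule σ k n := by
      rw [mem_homogeneousSubmodule]
      have := ((mem_homogeneousSubmodule _ _).1 q.2).mul ((mem_homogeneousSubmodule _ _).1 p.2)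
      rwa [Nat.sub_add_cancel hm] at this
    have h5 : ev pts (n-m) q * ev pts m p = ev pts n ⟨q.1 * p.1, hqp⟩ := by
      ext z; simp
    rw [h5]
    exact (Submodule.mem_dualAnnihilator _).1 hφA _ ⟨_, rfl⟩
  let Φ' : ↥(homogeneousSubmodule σ k (n-m)) →ₗ[k] ↥W.dualAnnihilator :=
    Φ.codRestrict _ hΦmem
  have hΦ'inj : Function.Injective Φ' := by
    intro a b hab
    exact hΦinj (congrArg Subtype.val hab)
  have h6 := LinearMap.finrank_le_finrank_of_injective hΦ'inj
  have h7 := Subspace.finrank_add_finrank_dualAnnihilator_eq W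
  rw [Module.finrank_pi] at h7
  omega

end H12CB
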