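import Mathlib

open CategoryTheory CategoryTheory.Limits

namespace H12Chase

universe v u

theorem main
    {V : Type u} [Category.{v} V] [Abelian V] {F W E' E F' G G' : V}
    (a : F ⟶ W) (b : W ⟶ E') (c : E ⟶ W) (d : W ⟶ F') (e : F' ⟶ G) (g : G ⟶ G')
    [Mono a] [Epi b] (wab : a ≫ b = 0) (hab : (ShortComplex.mk a b wab).Exact)
    [Mono c] (wcd : c ≫ d = 0) (hcd : (ShortComplex.mk c d wcd).Exact)
    (wde : d ≫ e = 0) (hde : (ShortComplex.mk d e wde).Exact)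
    (weg : e ≫ g = 0) (heg : (ShortComplex.mk e g weg).Exact) [Epi g]
    (hmono : Mono (a ≫ d)) :
    Mono (c ≫ b) ∧
      ∃ (φ : cokernel (c ≫ b) ⟶ cokernel (a ≫ d)) (ψ : cokernel (a ≫ d) ⟶ kernel g)
        (w : φ ≫ ψ = 0),
        b ≫ cokernel.π (c ≫ b) ≫ φ = d ≫ cokernel.π (a ≫ d) ∧
        cokernel.π (a ≫ d) ≫ ψ ≫ kernel.ι g = e ∧
        (ShortComplex.mk φ ψ w).ShortExact := by
  -- (1) mono
  have h1 : Mono (c ≫ b) := by
    apply Preadditive.mono_of_cancel_zero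
    intro P x hx
    rw [← Category.assoc] at hx
    obtain ⟨A', π, hπ, y, hy⟩ := hab.exact_up_to_refinements (x ≫ c) hx
    dsimp at y hy
    have hy0 : y = 0 := by
      rw [← cancel_mono (a ≫ d), zero_comp, ← Category.assoc, ← hy, Category.assoc,
        Category.assoc, wcd, comp_zero, comp_zero]
    rw [hy0, zero_comp] at hy
    have : π ≫ x = 0 := by
      rw [← cancel_mono c, zero_comp, Category.assoc, hy]
    rw [← cancel_epi π, this, comp_zero]
  refine ⟨h1, ?_⟩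
  -- φ
  have hbcok : IsColimit (CokernelCofork.ofπ b wab) := hab.gIsCokernel
  let φ' : E' ⟶ cokernel (a ≫ d) :=
    hbcok.desc (CokernelCofork.ofπ (d ≫ cokernel.π (a ≫ d)) (by
      rw [← Category.assoc, cokernel.condition]))
  have hφ' : b ≫ φ' = d ≫ cokernel.π (a ≫ d) := hbcok.fac _ WalkingParallelPair.one
  let φ : cokernel (c ≫ b) ⟶ cokernel (a ≫ d) := cokernel.desc (c ≫ b) φ' (by
    rw [Category.assoc, hφ', ← Category.assoc, wcd, zero_comp])
  have hφ : cokernel.π (c ≫ b) ≫ φ = φ' := cokernel.π_desc _ _ _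
  -- ψ
  let ψ' : cokernel (a ≫ d) ⟶ G := cokernel.desc (a ≫ d) e (by rw [Category.assoc, wde, comp_zero])
  have hψ' : cokernel.π (a ≫ d) ≫ ψ' = e := cokernel.π_desc _ _ _
  have hψ'g : ψ' ≫ g = 0 := by
    rw [← cancel_epi (cokernel.π (a ≫ d)), ← Category.assoc, hψ', weg, comp_zero]
  let ψ : cokernel (a ≫ d) ⟶ kernel g := kernel.lift g ψ' hψ'g
  have hψ : ψ ≫ kernel.ι g = ψ' := kernel.lift_ι _ _ _
  have hbφ : b ≫ cokernel.π (c ≫ b) ≫ φ = d ≫ cokernel.π (a ≫ d) := by rw [hφ, hφ']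
  have hπψ : cokernel.π (a ≫ d) ≫ ψ ≫ kernel.ι g = e := by rw [hψ, hψ']
  have w : φ ≫ ψ = 0 := by
    rw [← cancel_mono (kernel.ι g), zero_comp, ← cancel_epi (cokernel.π (c ≫ b)), ← cancel_epi b,
      comp_zero, comp_zero, Category.assoc]
    calc b ≫ cokernel.π (c ≫ b) ≫ φ ≫ ψ ≫ kernel.ι g
        = (b ≫ cokernel.π (c ≫ b) ≫ φ) ≫ ψ ≫ kernel.ι g := by simp only [Category.assoc]
      _ = 0 := by rw [hbφ, Category.assoc, hπψ, wde]
  refine ⟨φ, ψ, w, hbφ, hπψ, ?_⟩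
  have hcokex : (ShortComplex.mk (a ≫ d) (cokernel.π (a ≫ d)) (cokernel.condition _)).Exact :=
    ShortComplex.exact_cokernel _
  -- mono φ
  have hmφ : Mono φ := by
    apply Preadditive.mono_of_cancel_zero
    intro P x hx
    obtain ⟨A₁, p₁, hp₁, w₁, hw₁⟩ :=
      surjective_up_to_refinements_of_epi (b ≫ cokernel.π (c ≫ b)) x
    have h2 : (w₁ ≫ d) ≫ cokernel.π (a ≫ d) = 0 := by
      calc (w₁ ≫ d) ≫ cokernel.π (a ≫ d) = w₁ ≫ (b ≫ cokernel.π (c ≫ b) ≫ φ) := by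
            rw [Category.assoc, hbφ]
        _ = (w₁ ≫ b ≫ cokernel.π (c ≫ b)) ≫ φ := by simp only [Category.assoc]
        _ = 0 := by rw [← hw₁, Category.assoc, hx, comp_zero]
    obtain ⟨A₂, p₂, hp₂, y, hy⟩ := hcokex.exact_up_to_refinements (w₁ ≫ d) h2
    dsimp at y hy
    have h3 : (p₂ ≫ w₁ - y ≫ a) ≫ d = 0 := by
      rw [Preadditive.sub_comp, Category.assoc, Category.assoc, hy, sub_self]
    obtain ⟨A₃, p₃, hp₃, z, hz⟩ := hcd.exact_up_to_refinements _ h3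
    dsimp at z hz
    have h4 : p₃ ≫ p₂ ≫ w₁ = z ≫ c + p₃ ≫ y ≫ a := by
      rw [← hz, Preadditive.comp_sub, sub_add_cancel]
    have h5 : (p₃ ≫ p₂ ≫ p₁) ≫ x = 0 := by
      rw [Category.assoc, Category.assoc, hw₁]
      calc p₃ ≫ p₂ ≫ w₁ ≫ b ≫ cokernel.π (c ≫ b)
          = (p₃ ≫ p₂ ≫ w₁) ≫ b ≫ cokernel.π (c ≫ b) := by simp only [Category.assoc]
        _ = 0 := by
          rw [h4, Preadditive.add_comp, Category.assoc, Category.assoc, Category.assoc,
            ← Category.assoc c, cokernel.condition, comp_zero, ← Category.assoc a, wab,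
            zero_comp, comp_zero, comp_zero, add_zero]
    haveI : Epi (p₃ ≫ p₂ ≫ p₁) := epi_comp' hp₃ (epi_comp' hp₂ hp₁)
    rw [← cancel_epi (p₃ ≫ p₂ ≫ p₁), h5, comp_zero]
  -- epi ψ
  have heψ : Epi ψ := by
    rw [epi_iff_surjective_up_to_refinements]
    intro A y
    have h2 : (y ≫ kernel.ι g) ≫ g = 0 := by rw [Category.assoc, kernel.condition, comp_zero]
    obtain ⟨A₁, p₁, hp₁, z, hz⟩ := heg.exact_up_to_refinements _ h2
    dsimp at z hz
    refine ⟨A₁, p₁, hp₁, z ≫ cokernel.π (a ≫ d), ?_⟩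
    rw [← cancel_mono (kernel.ι g), Category.assoc, hz, Category.assoc, Category.assoc, hπψ]
  -- exactness
  have hex : (ShortComplex.mk φ ψ w).Exact := by
    rw [ShortComplex.exact_iff_exact_up_to_refinements]
    intro A x hx
    dsimp at x hx
    obtain ⟨A₁, p₁, hp₁, z, hz⟩ := surjective_up_to_refinements_of_epi (cokernel.π (a ≫ d)) x
    have h2 : z ≫ e = 0 := by
      rw [← hπψ, ← Category.assoc, ← hz, Category.assoc, ← Category.assoc x, hx, zero_comp,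
        comp_zero]
    obtain ⟨A₂, p₂, hp₂, w₂, hw₂⟩ := hde.exact_up_to_refinements z h2
    dsimp at w₂ hw₂
    refine ⟨A₂, p₂ ≫ p₁, epi_comp' hp₂ hp₁, w₂ ≫ b ≫ cokernel.π (c ≫ b), ?_⟩
    dsimp
    rw [Category.assoc, hz, ← Category.assoc, hw₂, Category.assoc, Category.assoc, Category.assoc,
      hbφ]
  exact { exact := hex, mono_f := hmφ, epi_g := heψ }

end H12Chase
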