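import Mathlib

set_option autoImplicit false
open CategoryTheory Opposite
universe u

namespace H12S6128

variable {C : Type u} [SmallCategory C] {C' : Type u} [SmallCategory C']
  (J : GrothendieckTopology C) (J' : GrothendieckTopology C') (u : C ⥤ C')

/-- the sheaf of closed sieves. -/
def Ω : Sheaf J (Type u) :=
  ⟨(Functor.closedSieves J).toFunctor, (isSheaf_iff_isSheaf_of_type _ _).2 (classifier_isSheaf J)⟩

variable {J}

lemma isClosed_top (Z : C) : J.IsClosed (⊤ : Sieve Z) := fun _ _ _ => trivial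

variable (J)

/-- element constructor -/
def mkΩ (Z : Cᵒᵖ) (S : Sieve (unop Z)) (hS : J.IsClosed S) : (Ω J).obj.obj Z := ⟨S, hS⟩

/-- underlying sieve -/
def valΩ {Z : Cᵒᵖ} (a : (Ω J).obj.obj Z) : Sieve (unop Z) := a.1

@[simp]
lemma valΩ_mkΩ (Z : Cᵒᵖ) (S : Sieve (unop Z)) (hS : J.IsClosed S) : valΩ J (mkΩ J Z S hS) = S := rfl

lemma valΩ_injective {Z : Cᵒᵖ} {a b : (Ω J).obj.obj Z} (h : valΩ J a = valΩ J b) : a = b :=
  Subtype.ext h

lemma valΩ_map {Z Z' : Cᵒᵖ} (t : Z ⟶ Z') (a : (Ω J).obj.obj Z) :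
    valΩ J ((Ω J).obj.map t a) = (valΩ J a).pullback t.unop := rfl

/-- the constant section `⊤`. -/
def s₁ (Y : C) : u.op ⋙ yoneda.obj (u.obj Y) ⟶ (Ω J).obj where
  app Z := TypeCat.ofHom fun _ => mkΩ J Z ⊤ (isClosed_top (unop Z))
  naturality Z Z' t := by
    ext a
    apply valΩ_injective
    show valΩ J (mkΩ J Z' ⊤ (isClosed_top (unop Z'))) =
      valΩ J ((Ω J).obj.map t (mkΩ J Z ⊤ (isClosed_top (unop Z))))
    rw [valΩ_map]
    simp

lemma s₁_app (Y : C) (Z : Cᵒᵖ) (a : u.obj (unop Z) ⟶ u.obj Y) :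
    valΩ J ((s₁ J u Y).app Z a) = ⊤ := rfl

/-- the section given by the closure of the pulled back sieve. -/
def s₂ (Y : C) (R : Sieve (u.obj Y)) : u.op ⋙ yoneda.obj (u.obj Y) ⟶ (Ω J).obj where
  app Z := TypeCat.ofHom fun a =>
    mkΩ J Z (J.close ((R.pullback a).functorPullback u)) (J.close_isClosed _)
  naturality Z Z' t := by
    ext a
    apply valΩ_injective
    show J.close (Sieve.functorPullback u (Sieve.pullback (u.map t.unop ≫ a) R)) =
      (J.close (Sieve.functorPullback u (Sieve.pullback a R))).pullback t.unop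
    rw [← J.pullback_close, ← Sieve.functorPullback_pullback, Sieve.pullback_comp]

lemma s₂_app (Y : C) (R : Sieve (u.obj Y)) (Z : Cᵒᵖ) (a : u.obj (unop Z) ⟶ u.obj Y) :
    valΩ J ((s₂ J u Y R).app Z a) = J.close ((R.pullback a).functorPullback u) := rfl

lemma whisker_eq (Y : C) (R : Sieve (u.obj Y)) :
    Functor.whiskerLeft u.op R.functorInclusion ≫ s₁ J u Y =
      Functor.whiskerLeft u.op R.functorInclusion ≫ s₂ J u Y R := by
  ext Z ⟨a, ha⟩
  apply valΩ_injective
  show valΩ J ((s₁ J u Y).app Z a) = valΩ J ((s₂ J u Y R).app Z a)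
  rw [s₁_app, s₂_app]
  symm
  rw [J.close_eq_top_iff_mem, Sieve.pullback_eq_top_of_mem R ha]
  have : Sieve.functorPullback u (⊤ : Sieve (u.obj (unop Z))) = ⊤ := by
    ext W w
    simp
  erw [this]
  exact J.top_mem _

include J' in
lemma main (h : ∀ G : Sheaf J (Type u), Presheaf.IsSheaf J' ((u.op.ran).obj G.obj)) :
    u.IsCocontinuous J J' := by
  refine ⟨fun {Y R} hR => ?_⟩
  have hsh : Presieve.IsSheafFor ((u.op.ran).obj (Ω J).obj) R.arrows :=
    (isSheaf_iff_isSheaf_of_type _ _).1 (h (Ω J)) R hR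
  let adj := u.op.ranAdjunction (Type u)
  have e : adj.homEquiv _ _ (s₁ J u Y) = adj.homEquiv _ _ (s₂ J u Y R) := by
    apply hsh.hom_ext
    have e1 := adj.homEquiv_naturality_left R.functorInclusion (s₁ J u Y)
    have e2 := adj.homEquiv_naturality_left R.functorInclusion (s₂ J u Y R)
    rw [← e1, ← e2]
    congr 1
    exact whisker_eq J u Y R
  have e' : s₁ J u Y = s₂ J u Y R := (adj.homEquiv _ _).injective e
  have e3 : valΩ J ((s₁ J u Y).app (op Y) (𝟙 _)) = valΩ J ((s₂ J u Y R).app (op Y) (𝟙 _)) := by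
    rw [e']
  rw [s₁_app, s₂_app] at e3
  have e4 : Sieve.pullback (𝟙 (u.obj Y)) R = R := Sieve.pullback_id
  have e5 : J.close (Sieve.functorPullback u R) = ⊤ := by
    rw [← e4]; exact e3.symm
  exact (J.close_eq_top_iff_mem _).1 e5

end H12S6128
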