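import Mathlib

set_option autoImplicit false
universe u

namespace H12ColimHom

open CategoryTheory CategoryTheory.Limits Opposite

variable {A : Type u} [CommRing A] (M : ModuleCat.{u} A)
  {J : Type u} [Preorder J] [IsDirected J (· ≤ ·)] [Nonempty J]
  (N : J ⥤ ModuleCat.{u} A)

theorem post_ι (j : J) (φ : M ⟶ N.obj j) :
    colimit.post N (coyoneda.obj (op M)) (colimit.ι (N ⋙ coyoneda.obj (op M)) j φ) =
      φ ≫ colimit.ι N j := by
  have := ConcreteCategory.congr_hom (colimit.ι_post N (coyoneda.obj (op M)) j) φ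
  exact this

theorem ι_map {i k : J} (h : i ⟶ k) (φ : M ⟶ N.obj i) :
    colimit.ι (N ⋙ coyoneda.obj (op M)) k (φ ≫ N.map h) =
      colimit.ι (N ⋙ coyoneda.obj (op M)) i φ := by
  have := ConcreteCategory.congr_hom (colimit.w (N ⋙ coyoneda.obj (op M)) h) φ
  exact this

/-- equality in the colimit of modules, at a single index -/
theorem exists_map_eq {j : J} (x y : N.obj j) (h : colimit.ι N j x = colimit.ι N j y) :
    ∃ (k : J) (f : j ⟶ k), N.map f x = N.map f y := by
  obtain ⟨k, f, g, hfg⟩ := (Concrete.colimit_rep_eq_iff_exists N x y).mp h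
  have : f = g := Subsingleton.elim _ _
  subst this
  exact ⟨k, f, hfg⟩

/-- finitely many equalities in the colimit hold at a common index -/
theorem exists_map_eq_finset {j : J} {ι : Type*} (S : Finset ι) (x y : ι → N.obj j)
    (h : ∀ s ∈ S, colimit.ι N j (x s) = colimit.ι N j (y s)) :
    ∃ (k : J) (f : j ⟶ k), ∀ s ∈ S, N.map f (x s) = N.map f (y s) := by
  classical
  induction S using Finset.induction_on with
  | empty => exact ⟨j, 𝟙 j, fun s hs => absurd hs (Finset.notMem_empty s)⟩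
  | insert a S ha ih =>
    obtain ⟨k₁, f₁, h₁⟩ := ih (fun s hs => h s (Finset.mem_insert_of_mem hs))
    obtain ⟨k₂, f₂, h₂⟩ := exists_map_eq N (x a) (y a) (h a (Finset.mem_insert_self a S))
    obtain ⟨k, hk₁, hk₂⟩ := exists_ge_ge k₁ k₂
    refine ⟨k, f₁ ≫ homOfLE hk₁, ?_⟩
    intro s hs
    rcases Finset.mem_insert.mp hs with rfl | hs
    · have e : f₁ ≫ homOfLE hk₁ = f₂ ≫ homOfLE hk₂ := Subsingleton.elim _ _
      rw [e, N.map_comp, ModuleCat.comp_apply, ModuleCat.comp_apply, h₂]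
    · rw [N.map_comp, ModuleCat.comp_apply, ModuleCat.comp_apply, h₁ s hs]

theorem injective_of_finite [Module.Finite A M] :
    Function.Injective (colimit.post N (coyoneda.obj (op M))) := by
  classical
  intro x₁ x₂ h
  obtain ⟨j₁, φ₁, rfl⟩ := Types.jointly_surjective' x₁
  obtain ⟨j₂, φ₂, rfl⟩ := Types.jointly_surjective' x₂
  obtain ⟨j, hj₁, hj₂⟩ := exists_ge_ge j₁ j₂
  rw [← ι_map M N (homOfLE hj₁) φ₁, ← ι_map M N (homOfLE hj₂) φ₂] at h ⊢
  set ψ₁ : M ⟶ N.obj j := φ₁ ≫ N.map (homOfLE hj₁) with hψ₁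
  set ψ₂ : M ⟶ N.obj j := φ₂ ≫ N.map (homOfLE hj₂) with hψ₂
  rw [post_ι, post_ι] at h
  obtain ⟨S, hS⟩ := (Module.Finite.fg_top : (⊤ : Submodule A M).FG)
  have hpt : ∀ s ∈ S, colimit.ι N j (ψ₁ s) = colimit.ι N j (ψ₂ s) := by
    intro s _
    have := congrArg (fun (g : M ⟶ colimit N) => g s) h
    simpa using this
  obtain ⟨k, f, hk⟩ := exists_map_eq_finset N S (fun s => ψ₁ s) (fun s => ψ₂ s) hpt
  have heq : ψ₁ ≫ N.map f = ψ₂ ≫ N.map f := by
    apply ModuleCat.hom_ext
    apply LinearMap.ext_on_range (v := fun s : S => (s : M))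
    · rw [Subtype.range_coe_subtype]
      simpa using hS
    · rintro ⟨s, hs⟩
      exact hk s hs
  rw [← ι_map M N f ψ₁, ← ι_map M N f ψ₂, heq]

end H12ColimHom
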