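import Mathlib
import Groth.Agent.Lib.Helper12.ColimHom

set_option autoImplicit false
universe u

namespace H12ColimHom

open CategoryTheory CategoryTheory.Limits Opposite

variable {A : Type u} [CommRing A] (M : ModuleCat.{u} A)
  {J : Type u} [Preorder J] [IsDirected J (· ≤ ·)] [Nonempty J]
  (N : J ⥤ ModuleCat.{u} A)

theorem ι_map_apply {i k : J} (h : i ⟶ k) (x : N.obj i) :
    colimit.ι N k (N.map h x) = colimit.ι N i x := by
  rw [← ModuleCat.comp_apply, colimit.w]

/-- finitely many elements of the colimit are represented at a common index -/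
theorem exists_rep_fin {n : ℕ} (z : Fin n → (colimit N : ModuleCat.{u} A)) :
    ∃ (j : J) (y : Fin n → N.obj j), ∀ l, colimit.ι N j (y l) = z l := by
  classical
  have h1 : ∀ l, ∃ (j : J) (y : N.obj j), colimit.ι N j y = z l :=
    fun l => Concrete.colimit_exists_rep N (z l)
  choose jf yf hyf using h1
  obtain ⟨j, hj⟩ := Finset.exists_le (Finset.univ.image jf)
  have hle : ∀ l, jf l ≤ j := fun l => hj _ (Finset.mem_image_of_mem _ (Finset.mem_univ l))
  refine ⟨j, fun l => N.map (homOfLE (hle l)) (yf l), fun l => ?_⟩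
  rw [ι_map_apply, hyf]

theorem surjective_of_finitePresentation [Module.FinitePresentation A M] :
    Function.Surjective (colimit.post N (coyoneda.obj (op M))) := by
  classical
  intro f
  change M ⟶ colimit N at f
  obtain ⟨n, m, p, g, hp, hgp⟩ := Module.FinitePresentation.exists_fin' A M
  obtain ⟨j, y, hy⟩ := exists_rep_fin N (fun l : Fin n => f (p (Pi.single l 1)))
  let G : (Fin n → A) →ₗ[A] N.obj j := Fintype.linearCombination A y
  have hG : ∀ v, colimit.ι N j (G v) = f (p v) := by
    have : (colimit.ι N j).hom ∘ₗ G = f.hom ∘ₗ p := by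
      apply LinearMap.pi_ext
      intro l x
      simp only [LinearMap.comp_apply, G, Fintype.linearCombination_apply_single, map_smul]
      rw [hy l, ← map_smul, ← map_smul]
      congr 2
      rw [← Pi.single_smul, smul_eq_mul, mul_one]
    intro v
    exact congrArg (fun φ => φ v) this
  have hker : ∀ r : Fin m, colimit.ι N j (G (g (Pi.single r 1))) = colimit.ι N j 0 := by
    intro r
    rw [hG, map_zero]
    have : p (g (Pi.single r 1)) = 0 := hgp.apply_apply_eq_zero _
    rw [this, map_zero]
  obtain ⟨k, fjk, hk⟩ := exists_map_eq_finset N (Finset.univ : Finset (Fin m))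
    (fun r => G (g (Pi.single r 1))) (fun _ => 0) (fun r _ => hker r)
  let G' : (Fin n → A) →ₗ[A] N.obj k := (N.map fjk).hom ∘ₗ G
  have hG'g : G' ∘ₗ g = 0 := by
    apply LinearMap.pi_ext
    intro r x
    have h1 : (Pi.single r x : Fin m → A) = x • Pi.single r 1 := by
      rw [← Pi.single_smul, smul_eq_mul, mul_one]
    rw [h1, map_smul, LinearMap.comp_apply]
    have h2 : G' (g (Pi.single r 1)) = 0 := by
      have := hk r (Finset.mem_univ r)
      rw [map_zero] at this
      exact this
    rw [h2, smul_zero, LinearMap.zero_apply]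
  have hle : LinearMap.ker p ≤ LinearMap.ker G' := by
    intro v hv
    obtain ⟨w, rfl⟩ := (hgp v).mp hv
    exact congrArg (fun φ => φ w) hG'g
  let e := LinearMap.quotKerEquivOfSurjective p hp
  let ψ : M →ₗ[A] N.obj k := (LinearMap.ker p).liftQ G' hle ∘ₗ e.symm.toLinearMap
  have hψ : ∀ v, ψ (p v) = G' v := by
    intro v
    have : e.symm (p v) = Submodule.Quotient.mk v := by
      rw [← LinearMap.quotKerEquivOfSurjective_apply_mk p hp v, LinearEquiv.symm_apply_apply]
    simp only [ψ, LinearMap.comp_apply, LinearEquiv.coe_coe, this, Submodule.liftQ_apply]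
  refine ⟨colimit.ι (N ⋙ coyoneda.obj (op M)) k (ModuleCat.ofHom ψ), ?_⟩
  rw [post_ι]
  apply ModuleCat.hom_ext
  apply LinearMap.ext
  intro x
  obtain ⟨v, rfl⟩ := hp x
  show colimit.ι N k (ψ (p v)) = f (p v)
  rw [hψ, ← hG]
  exact ι_map_apply N fjk (G v)

theorem bijective_of_finitePresentation [Module.FinitePresentation A M] :
    Function.Bijective (colimit.post N (coyoneda.obj (op M))) :=
  ⟨injective_of_finite M N, surjective_of_finitePresentation M N⟩

end H12ColimHom
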