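import Mathlib

set_option autoImplicit false

namespace H12S14039

open PowerSeries Finset

/-- the generating polynomial of one variable: `X + ... + X^(p-1)` -/
noncomputable def P (p : ℕ) : PowerSeries ℤ := ∑ j ∈ Finset.Ico 1 p, (X : PowerSeries ℤ) ^ j

lemma coeff_P (p m : ℕ) : coeff m (P p) = if 1 ≤ m ∧ m < p then 1 else 0 := by
  unfold P
  rw [map_sum]
  simp only [coeff_X_pow]
  rw [Finset.sum_ite_eq]
  simp [Finset.mem_Ico]

lemma coeff_P_pow (p n s : ℕ) :
    coeff s (P p ^ n) =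
      (Fintype.card {e : Fin n → Fin p // (∀ i, 1 ≤ (e i : ℕ)) ∧ ∑ i, (e i : ℕ) = s} : ℤ) := by
  classical
  have h1 : P p ^ n = ∏ _i : Fin n, P p := by simp
  rw [h1, coeff_prod]
  simp only [coeff_P]
  simp only [Finset.prod_boole]
  have key : Fintype.card {e : Fin n → Fin p // (∀ i, 1 ≤ (e i : ℕ)) ∧ ∑ i, (e i : ℕ) = s} =
      ((Finset.univ.finsuppAntidiag s).filter
        (fun l : Fin n →₀ ℕ => ∀ i ∈ Finset.univ, 1 ≤ l i ∧ l i < p)).card := by
    rw [Fintype.card_subtype]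
    refine Finset.card_bij (fun (e : Fin n → Fin p) _ =>
      (Finsupp.equivFunOnFinite.symm (fun i => (e i : ℕ)) : Fin n →₀ ℕ)) ?_ ?_ ?_
    · intro e he
      simp only [Finset.mem_filter, Finset.mem_univ, true_and] at he
      simp only [Finset.mem_filter, mem_finsuppAntidiag, Finset.subset_univ, and_true]
      refine ⟨he.2, fun i _ => ⟨he.1 i, (e i).2⟩⟩
    · intro e _ e' _ h
      funext i
      apply Fin.ext
      have := DFunLike.congr_fun h i
      simpa using this
    · intro l hl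
      simp only [Finset.mem_filter, mem_finsuppAntidiag, Finset.subset_univ, and_true] at hl
      refine ⟨fun i => ⟨l i, (hl.2 i (Finset.mem_univ i)).2⟩, ?_, ?_⟩
      · simp only [Finset.mem_filter, Finset.mem_univ, true_and]
        exact ⟨fun i => (hl.2 i (Finset.mem_univ i)).1, hl.1⟩
      · ext i
        simp
  rw [key]
  convert Finset.sum_boole (R := ℤ) (fun l : Fin n →₀ ℕ => ∀ i ∈ Finset.univ, 1 ≤ l i ∧ l i < p)
    (Finset.univ.finsuppAntidiag s) using 1
  congr!

lemma P_eq (p : ℕ) : P p = X * (1 - X ^ (p - 1)) * (PowerSeries.mk 1 : PowerSeries ℤ) := by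
  have h1 : P p * (1 - X) = X * (1 - X ^ (p - 1)) := by
    have h2 : P p = X * ∑ j ∈ Finset.range (p - 1), (X : PowerSeries ℤ) ^ j := by
      unfold P
      rw [Finset.mul_sum]
      rcases Nat.eq_zero_or_pos p with rfl | hp
      · simp
      · rw [Finset.range_eq_Ico, Finset.sum_Ico_eq_sum_range, Finset.sum_Ico_eq_sum_range]
        simp only [Nat.sub_zero]
        apply Finset.sum_congr rfl
        intro j _
        rw [← pow_succ', Nat.add_comm, Nat.zero_add]
    rw [h2, mul_assoc, geom_sum_mul_neg]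
  calc P p = P p * ((1 - X) * PowerSeries.mk 1) := by
        rw [mul_comm (1 - X), mk_one_mul_one_sub_eq_one, mul_one]
    _ = _ := by rw [← mul_assoc, h1]

lemma one_sub_pow (m n : ℕ) : (1 - (X : PowerSeries ℤ) ^ m) ^ n =
    ∑ i ∈ Finset.range (n + 1), ((-1 : ℤ) ^ i * (n.choose i : ℤ)) • (X : PowerSeries ℤ) ^ (i * m) := by
  have : (1 - (X : PowerSeries ℤ) ^ m) = (-(X ^ m) + 1) := by ring
  rw [this, add_pow]
  apply Finset.sum_congr rfl
  intro i _
  rw [one_pow, mul_one, neg_pow, ← pow_mul, Nat.mul_comm m i, zsmul_eq_mul]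
  push_cast
  ring

theorem main (p n s : ℕ) (hn : 1 ≤ n) :
    (Fintype.card {e : Fin n → Fin p // (∀ i, 1 ≤ (e i : ℕ)) ∧ ∑ i, (e i : ℕ) = s} : ℤ) =
      ∑ i ∈ Finset.range (n + 1),
        (-1 : ℤ) ^ i * (n.choose i : ℤ) *
          (if i * (p - 1) + n ≤ s then (((s - i * (p - 1) - 1).choose (n - 1) : ℕ) : ℤ) else 0) := by
  obtain ⟨d, rfl⟩ : ∃ d, n = d + 1 := ⟨n - 1, by omega⟩
  rw [← coeff_P_pow, P_eq, mul_pow, mul_pow, mk_one_pow_eq_mk_choose_add, one_sub_pow,
    mul_comm (X ^ (d + 1)), Finset.sum_mul, Finset.sum_mul, map_sum]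
  apply Finset.sum_congr rfl
  intro i _
  rw [smul_mul_assoc, smul_mul_assoc, map_smul, smul_eq_mul, ← pow_add, coeff_X_pow_mul', coeff_mk]
  congr 1
  by_cases h : i * (p - 1) + (d + 1) ≤ s
  · rw [if_pos h, if_pos h]
    have : d + (s - (i * (p - 1) + (d + 1))) = s - i * (p - 1) - 1 := by omega
    rw [this, Nat.add_sub_cancel]
  · rw [if_neg h, if_neg h]

end H12S14039
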