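import Mathlib
import Groth.Agent.Lib.Helper12.CompCount

set_option autoImplicit false

namespace H12S19487

open PowerSeries Finset

/-- general count: exponent vectors with prescribed allowed sets. -/
lemma coeff_prod_count (p n s : ℕ) (S : Fin n → Finset ℕ) (hS : ∀ i, ∀ m ∈ S i, m < p) :
    coeff s (∏ i : Fin n, ∑ j ∈ S i, (X : PowerSeries ℤ) ^ j) =
      (Fintype.card {e : Fin n → Fin p // (∀ i, (e i : ℕ) ∈ S i) ∧ ∑ i, (e i : ℕ) = s} : ℤ) := by
  classical
  rw [coeff_prod]
  have hc : ∀ (i : Fin n) (m : ℕ), coeff m (∑ j ∈ S i, (X : PowerSeries ℤ) ^ j) =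
      if m ∈ S i then 1 else 0 := by
    intro i m
    rw [map_sum]
    simp only [coeff_X_pow]
    rw [Finset.sum_ite_eq]
  simp only [hc, Finset.prod_boole]
  have key : Fintype.card {e : Fin n → Fin p // (∀ i, (e i : ℕ) ∈ S i) ∧ ∑ i, (e i : ℕ) = s} =
      ((Finset.univ.finsuppAntidiag s).filter
        (fun l : Fin n →₀ ℕ => ∀ i ∈ Finset.univ, l i ∈ S i)).card := by
    rw [Fintype.card_subtype]
    refine Finset.card_bij (fun (e : Fin n → Fin p) _ =>
      (Finsupp.equivFunOnFinite.symm (fun i => (e i : ℕ)) : Fin n →₀ ℕ)) ?_ ?_ ?_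
    · intro e he
      simp only [Finset.mem_filter, Finset.mem_univ, true_and] at he
      simp only [Finset.mem_filter, mem_finsuppAntidiag, Finset.subset_univ, and_true]
      refine ⟨he.2, fun i _ => he.1 i⟩
    · intro e _ e' _ h
      funext i
      apply Fin.ext
      have := DFunLike.congr_fun h i
      simpa using this
    · intro l hl
      simp only [Finset.mem_filter, mem_finsuppAntidiag, Finset.subset_univ, and_true] at hl
      refine ⟨fun i => ⟨l i, hS i _ (hl.2 i (Finset.mem_univ i))⟩, ?_, ?_⟩
      · simp only [Finset.mem_filter, Finset.mem_univ, true_and]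
        exact ⟨fun i => hl.2 i (Finset.mem_univ i), hl.1⟩
      · ext i
        simp
  rw [key]
  convert Finset.sum_boole (R := ℤ) (fun l : Fin n →₀ ℕ => ∀ i ∈ Finset.univ, l i ∈ S i)
    (Finset.univ.finsuppAntidiag s) using 1
  congr!

/-- the allowed sets attached to a subset `T` of small positions -/
def allowed (q n : ℕ) (T : Finset (Fin n)) (i : Fin n) : Finset ℕ :=
  if i ∈ T then Finset.Ico 1 (q + 1) else Finset.Ico (q + 1) (2 * q + 1)

lemma prod_allowed (q n : ℕ) (T : Finset (Fin n)) :
    ∏ i : Fin n, ∑ j ∈ allowed q n T i, (X : PowerSeries ℤ) ^ j =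
      H12S14039.P (q + 1) ^ T.card * (X ^ (q * (n - T.card)) * H12S14039.P (q + 1) ^ (n - T.card)) := by
  classical
  have hB : ∑ j ∈ Finset.Ico (q + 1) (2 * q + 1), (X : PowerSeries ℤ) ^ j =
      X ^ q * H12S14039.P (q + 1) := by
    unfold H12S14039.P
    rw [Finset.mul_sum]
    rw [Finset.sum_Ico_eq_sum_range, Finset.sum_Ico_eq_sum_range]
    have : 2 * q + 1 - (q + 1) = q + 1 - 1 := by omega
    rw [this]
    apply Finset.sum_congr rfl
    intro j _
    rw [← pow_add]
    congr 1
    omega
  unfold allowed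
  have : ∀ i : Fin n, (∑ j ∈ (if i ∈ T then Finset.Ico 1 (q + 1) else Finset.Ico (q + 1) (2 * q + 1)),
      (X : PowerSeries ℤ) ^ j) = if i ∈ T then H12S14039.P (q + 1) else X ^ q * H12S14039.P (q + 1) := by
    intro i
    split_ifs
    · rfl
    · exact hB
  simp only [this]
  rw [Finset.prod_ite, Finset.prod_const, Finset.prod_const]
  have h1 : (Finset.univ.filter (fun i : Fin n => i ∈ T)).card = T.card := by
    congr 1
    ext i
    simp
  have h2 : (Finset.univ.filter (fun i : Fin n => i ∉ T)).card = n - T.card := by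
    have := Finset.card_filter_add_card_filter_not (s := (Finset.univ : Finset (Fin n)))
      (fun i : Fin n => i ∈ T)
    rw [h1, Finset.card_univ, Fintype.card_fin] at this
    omega
  rw [h1, h2, mul_pow, ← pow_mul]

lemma coeff_zero_P_pow (p n : ℕ) (hn : 0 < n) : coeff 0 (H12S14039.P p ^ n) = 0 := by
  rw [coeff_zero_eq_constantCoeff_apply, map_pow]
  have : constantCoeff (H12S14039.P p) = 0 := by
    rw [← coeff_zero_eq_constantCoeff_apply, H12S14039.coeff_P]
    simp
  rw [this, zero_pow hn.ne']

theorem main (p n s D : ℕ) (hp : Odd p) :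
    Fintype.card {e : Fin n → Fin p // (∀ i, 1 ≤ (e i : ℕ)) ∧ ∑ i, (e i : ℕ) = s ∧
        (Finset.univ.filter fun i => 2 * (e i : ℕ) < p).card = D} =
      n.choose D * ∑ j ∈ Finset.range (s + 1),
        Fintype.card {e : Fin D → Fin ((p + 1) / 2) // (∀ i, 1 ≤ (e i : ℕ)) ∧ ∑ i, (e i : ℕ) = j} *
          Fintype.card {e : Fin (n - D) → Fin ((p + 1) / 2) // (∀ i, 1 ≤ (e i : ℕ)) ∧ ∑ i, (e i : ℕ) = (s - j - (n - D) * ((p - 1) / 2))} := by
  classical
  obtain ⟨q, rfl⟩ := hp
  have e1 : (2 * q + 1 + 1) / 2 = q + 1 := by omega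
  have e2 : (2 * q + 1 - 1) / 2 = q := by omega
  rw [e1, e2]
  -- step 1: partition by the set of small positions
  have step1 : Fintype.card {e : Fin n → Fin (2 * q + 1) // (∀ i, 1 ≤ (e i : ℕ)) ∧ ∑ i, (e i : ℕ) = s ∧
        (Finset.univ.filter fun i => 2 * (e i : ℕ) < 2 * q + 1).card = D} =
      ∑ T ∈ Finset.powersetCard D (Finset.univ : Finset (Fin n)),
        Fintype.card {e : Fin n → Fin (2 * q + 1) //
          (∀ i, (e i : ℕ) ∈ allowed q n T i) ∧ ∑ i, (e i : ℕ) = s} := by
    rw [Fintype.card_subtype]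
    rw [Finset.card_eq_sum_card_fiberwise (f := fun e : Fin n → Fin (2 * q + 1) =>
      Finset.univ.filter fun i => 2 * (e i : ℕ) < 2 * q + 1)
      (t := Finset.powersetCard D (Finset.univ : Finset (Fin n)))]
    · apply Finset.sum_congr rfl
      intro T hT
      rw [Finset.mem_powersetCard] at hT
      rw [Fintype.card_subtype]
      congr 1
      ext e
      simp only [Finset.mem_filter, Finset.mem_univ, true_and]
      constructor
      · rintro ⟨⟨h1, h2, h3⟩, h4⟩
        refine ⟨fun i => ?_, h2⟩
        unfold allowed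
        have hi : i ∈ T ↔ 2 * (e i : ℕ) < 2 * q + 1 := by
          rw [← h4]; simp
        have := (e i).2
        have := h1 i
        split_ifs with hiT
        · rw [Finset.mem_Ico]
          have := hi.mp hiT
          omega
        · rw [Finset.mem_Ico]
          have := mt hi.mpr hiT
          omega
      · rintro ⟨h1, h2⟩
        have hT' : (Finset.univ.filter fun i => 2 * (e i : ℕ) < 2 * q + 1) = T := by
          ext i
          simp only [Finset.mem_filter, Finset.mem_univ, true_and]
          have := h1 i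
          unfold allowed at this
          split_ifs at this with hiT
          · rw [Finset.mem_Ico] at this
            exact ⟨fun _ => hiT, fun _ => by omega⟩
          · rw [Finset.mem_Ico] at this
            exact ⟨fun h => by omega, fun h => absurd h hiT⟩
        refine ⟨⟨fun i => ?_, h2, ?_⟩, hT'⟩
        · have := h1 i
          unfold allowed at this
          split_ifs at this <;> rw [Finset.mem_Ico] at this <;> omega
        · rw [hT']; exact hT.2
    · intro e he
      simp only [Finset.mem_coe, Finset.mem_filter, Finset.mem_univ, true_and] at he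
      rw [Finset.mem_coe, Finset.mem_powersetCard]
      exact ⟨Finset.subset_univ _, he.2.2⟩
  rw [step1]
  apply Nat.cast_injective (R := ℤ)
  push_cast
  -- each term is the same coefficient
  have step2 : ∀ T ∈ Finset.powersetCard D (Finset.univ : Finset (Fin n)),
      (Fintype.card {e : Fin n → Fin (2 * q + 1) //
          (∀ i, (e i : ℕ) ∈ allowed q n T i) ∧ ∑ i, (e i : ℕ) = s} : ℤ) =
      coeff s (H12S14039.P (q + 1) ^ D * (X ^ (q * (n - D)) * H12S14039.P (q + 1) ^ (n - D))) := by
    intro T hT
    rw [Finset.mem_powersetCard] at hT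
    rw [← coeff_prod_count (2 * q + 1) n s (allowed q n T), prod_allowed, hT.2]
    intro i m hm
    unfold allowed at hm
    split_ifs at hm <;> rw [Finset.mem_Ico] at hm <;> omega
  rw [Finset.sum_congr rfl step2, Finset.sum_const, Finset.card_powersetCard, Finset.card_univ,
    Fintype.card_fin, nsmul_eq_mul]
  congr 1
  rw [coeff_mul, Finset.Nat.sum_antidiagonal_eq_sum_range_succ_mk]
  apply Finset.sum_congr rfl
  intro j hj
  rw [Finset.mem_range] at hj
  rw [H12S14039.coeff_P_pow, coeff_X_pow_mul']
  congr 1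
  by_cases h : q * (n - D) ≤ s - j
  · rw [if_pos h, H12S14039.coeff_P_pow, Nat.mul_comm]
  · rw [if_neg h]
    have hpos : 0 < n - D := by
      rcases Nat.eq_zero_or_pos (n - D) with h0 | h0
      · rw [h0] at h; simp at h
      · exact h0
    have : s - j - (n - D) * q = 0 := by
      rw [Nat.mul_comm]; omega
    rw [this, ← H12S14039.coeff_P_pow, coeff_zero_P_pow _ _ hpos]

end H12S19487
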