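import Mathlib
import Groth.Agent.Lib.Helper12.ConsP5

set_option autoImplicit false
universe u

namespace Groth.Agent.Lib.Helper12.H12ConsP

open AlgebraicGeometry CategoryTheory Limits TopologicalSpace Topology

theorem isLocallyNoetherian_of_onePoint (T : Scheme.{u}) [IsIntegral T] [Subsingleton T] :
    IsLocallyNoetherian T := by
  letI : Field Γ(T, ⊤) := (isField_of_isIntegral_of_subsingleton T).toField
  exact isLocallyNoetherian_of_isOpenImmersion T.isoSpec.hom

section Single

variable {P : ∀ ⦃Y T : Scheme.{u}⦄, (Y ⟶ T) → Prop}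

theorem locus_pullback (hP : ConsProp.IsFieldStable P) {X S W : Scheme.{u}} (u : X ⟶ S)
    (ι : W ⟶ S) [LocallyOfFiniteType u] [QuasiCompact u] :
    ∃ (XW : Scheme.{u}) (uW : XW ⟶ W), LocallyOfFiniteType uW ∧ QuasiCompact uW ∧
      ConsProp.locus P uW = ι ⁻¹' ConsProp.locus P u :=
  ⟨_, pullback.snd u ι, inferInstance, inferInstance,
    locus_baseChange hP (IsPullback.of_hasPullback u ι)⟩

theorem isConstructible_locus_of_isNoetherian (hP : ConsProp.IsCons P)
    {X S : Scheme.{u}} [IsNoetherian S] (u : X ⟶ S) [LocallyOfFiniteType u] [QuasiCompact u] :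
    IsConstructible (ConsProp.locus P u) := by
  refine isConstructible_of_forall_closed_integral _ ?_
  intro W ι _ _ _
  obtain ⟨XW, uW, h1, h2, heq⟩ := locus_pullback hP.1 u ι
  rw [← heq]
  exact hP.2 uW

theorem exists_cover_locus_of_isNoetherian (hP : ConsProp.IsIndCons P)
    {X S : Scheme.{u}} [IsNoetherian S] (u : X ⟶ S) [LocallyOfFiniteType u] [QuasiCompact u] :
    ∃ 𝒞 : Set (Set S), (∀ C ∈ 𝒞, IsConstructible C) ∧ ConsProp.locus P u = ⋃₀ 𝒞 := by
  refine exists_constructible_cover_of_forall_closed_integral _ ?_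
  intro W ι _ _ _
  obtain ⟨XW, uW, h1, h2, heq⟩ := locus_pullback hP.1 u ι
  rw [← heq]
  exact hP.2 uW

/-- The relation "`P` holds for all fibres of `f`" is field-stable. -/
theorem isFieldStableMor_forall_fibre (hP : ConsProp.IsFieldStable P) :
    ConsProp.IsFieldStableMor (fun X Y T f g => ∀ y : ↥Y, P (f.fiberToSpecResidueField y)) := by
  intro X X' Y Y' T T' f g f' g' eX eY h _ _ _ _ _ _ _ _ hY hX
  haveI := isLocallyNoetherian_of_onePoint T
  haveI : IsLocallyNoetherian Y := LocallyOfFiniteType.isLocallyNoetherian g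
  haveI : LocallyOfFiniteType f := locallyOfFiniteType_of_comp f g
  haveI : QuasiCompact f := QuasiCompact.of_comp f g
  have key := locus_baseChange hP hX
  haveI : Surjective h := ⟨fun t => by
    obtain ⟨t'⟩ : Nonempty T' := inferInstance
    exact ⟨t', Subsingleton.elim _ _⟩⟩
  haveI : Surjective eY := MorphismProperty.of_isPullback hY.flip inferInstance
  constructor
  · intro H y'
    have : y' ∈ ConsProp.locus P f' := by rw [key]; exact H (eY y')
    exact this
  · intro H y
    obtain ⟨y', rfl⟩ := eY.surjective y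
    have : y' ∈ ConsProp.locus P f' := H y'
    rw [key] at this
    exact this

/-- description of the locus of "`P` holds for all fibres". -/
theorem locusMor_forall_fibre_eq (hP : ConsProp.IsFieldStable P) {X Y S : Scheme.{u}}
    (f : X ⟶ Y) (g : Y ⟶ S) [LocallyOfFiniteType f] [QuasiCompact f] :
    ConsProp.locusMor (fun X Y T f g => ∀ y : ↥Y, P (f.fiberToSpecResidueField y)) f g =
      (g '' (ConsProp.locus P f)ᶜ)ᶜ := by
  ext s
  have key := locus_baseChange hP (isPullback_fiberMap f g s)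
  constructor
  · rintro H ⟨y, hy, rfl⟩
    have h1 : y ∈ Set.range (g.fiberι (g y)) := by rw [Scheme.Hom.range_fiberι]; rfl
    obtain ⟨y', hy'⟩ := h1
    have : y' ∈ ConsProp.locus P (MoreMor.fiberMap f g (g y)) := H y'
    rw [key, Set.mem_preimage, hy'] at this
    exact hy this
  · intro H y'
    have : y' ∈ ConsProp.locus P (MoreMor.fiberMap f g s) := by
      rw [key]
      by_contra hcon
      refine H ⟨g.fiberι s y', hcon, ?_⟩
      have : g.fiberι s y' ∈ Set.range (g.fiberι s) := ⟨y', rfl⟩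
      rw [Scheme.Hom.range_fiberι] at this
      exact this
    exact this

/-- **S5884** -/
theorem isConsMor_forall_fibre (hP : ConsProp.IsCons P) :
    ConsProp.IsConsMor (fun X Y T f g => ∀ y : ↥Y, P (f.fiberToSpecResidueField y)) := by
  refine ⟨isFieldStableMor_forall_fibre hP.1, ?_⟩
  intro X Y S f g _ _ _ _ _ _
  haveI : IsLocallyNoetherian Y := LocallyOfFiniteType.isLocallyNoetherian g
  haveI : CompactSpace Y := QuasiCompact.compactSpace_of_compactSpace g
  haveI : IsNoetherian Y := {}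
  haveI : LocallyOfFiniteType f := locallyOfFiniteType_of_comp f g
  haveI : QuasiCompact f := QuasiCompact.of_comp f g
  haveI : LocallyOfFinitePresentation g := inferInstance
  rw [locusMor_forall_fibre_eq hP.1 f g]
  have hL := isConstructible_locus_of_isNoetherian hP f
  have hE : IsConstructible (g '' (ConsProp.locus P f)ᶜ)ᶜ := (g.isConstructible_image hL.compl).compl
  obtain ⟨U, hU, hne, h | h⟩ := Groth.Agent.Lib.Helper12.constructible_dichotomy hE
    (Y := (Set.univ : Set S)) ⟨Set.univ_nonempty, PreirreducibleSpace.isPreirreducible_univ⟩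
  · left
    rw [Set.inter_univ] at hne h
    exact hne.mono (interior_maximal h hU)
  · right
    rw [Set.inter_univ] at hne h
    exact hne.mono (interior_maximal h hU)

/-- a union of constructible sets containing a generic fibre contains the preimage of an open
neighbourhood of the generic point. -/
theorem exists_open_preimage_subset {Y S : Scheme.{u}} [IsIntegral S] [IsNoetherian Y]
    (g : Y ⟶ S) (𝒞 : Set (Set Y)) (h𝒞 : ∀ C ∈ 𝒞, IsConstructible C)
    (hη : g ⁻¹' {genericPoint S} ⊆ ⋃₀ 𝒞) :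
    ∃ V : Set S, IsOpen V ∧ genericPoint S ∈ V ∧ g ⁻¹' V ⊆ ⋃₀ 𝒞 := by
  have key : ∀ Z : Set Y, IsClosed Z →
      ∃ V : Set S, IsOpen V ∧ genericPoint S ∈ V ∧ Z ∩ g ⁻¹' V ⊆ ⋃₀ 𝒞 := by
    apply Groth.Agent.Lib.Helper12.closed_induction
    · exact ⟨Set.univ, isOpen_univ, trivial, by simp⟩
    · rintro Z₁ Z₂ - - ⟨V₁, hV₁, hη₁, h₁⟩ ⟨V₂, hV₂, hη₂, h₂⟩
      refine ⟨V₁ ∩ V₂, hV₁.inter hV₂, ⟨hη₁, hη₂⟩, ?_⟩
      rintro y ⟨hy | hy, hyV⟩
      · exact h₁ ⟨hy, hyV.1⟩
      · exact h₂ ⟨hy, hyV.2⟩
    · intro Z hZ hZirr ih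
      obtain ⟨ζ, hζ⟩ := QuasiSober.sober hZirr hZ
      by_cases hgζ : g ζ = genericPoint S
      · have hζL : ζ ∈ ⋃₀ 𝒞 := hη hgζ
        obtain ⟨C, hC, hζC⟩ := hζL
        obtain ⟨U, hU, hne, h⟩ := Groth.Agent.Lib.Helper12.constructible_dichotomy (h𝒞 C hC) hZirr
        have hζU : ζ ∈ U := by
          obtain ⟨y, hyU, hyZ⟩ := hne
          have : ζ ⤳ y := by
            rw [specializes_iff_mem_closure, hζ.def]; exact hyZ
          exact this.mem_open hU hyU
        have hζZ : ζ ∈ Z := by rw [← hζ.def]; exact subset_closure rfl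
        have hUC : U ∩ Z ⊆ C := by
          rcases h with h | h
          · exact h
          · exact absurd hζC (h ⟨hζU, hζZ⟩)
        obtain ⟨V, hV, hηV, hVsub⟩ := ih (Z \ U) (hZ.sdiff hU)
          ⟨Set.sdiff_subset, fun hsub => (hsub hζZ).2 hζU⟩
        refine ⟨V, hV, hηV, ?_⟩
        rintro y ⟨hyZ, hyV⟩
        by_cases hyU : y ∈ U
        · exact ⟨C, hC, hUC ⟨hyU, hyZ⟩⟩
        · exact hVsub ⟨⟨hyZ, hyU⟩, hyV⟩
      · refine ⟨(closure {g ζ})ᶜ, isClosed_closure.isOpen_compl, ?_, ?_⟩
        · intro hmem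
          apply hgζ
          have h1 : g ζ ⤳ genericPoint S := specializes_iff_mem_closure.mpr hmem
          exact (h1.antisymm (genericPoint_specializes _)).eq
        · rintro y ⟨hyZ, hyV⟩
          exfalso
          apply hyV
          rw [← hζ.def] at hyZ
          have : ζ ⤳ y := specializes_iff_mem_closure.mpr hyZ
          exact specializes_iff_mem_closure.mp (this.map g.continuous)
  obtain ⟨V, hV, hηV, hsub⟩ := key Set.univ isClosed_univ
  exact ⟨V, hV, hηV, by rwa [Set.univ_inter] at hsub⟩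

/-- **S5885** -/
theorem isIndConsMor_forall_fibre (hP : ConsProp.IsIndCons P) :
    ConsProp.IsIndConsMor (fun X Y T f g => ∀ y : ↥Y, P (f.fiberToSpecResidueField y)) := by
  refine ⟨isFieldStableMor_forall_fibre hP.1, ?_⟩
  intro X Y S f g _ _ _ _ _ _
  haveI : IsLocallyNoetherian Y := LocallyOfFiniteType.isLocallyNoetherian g
  haveI : CompactSpace Y := QuasiCompact.compactSpace_of_compactSpace g
  haveI : IsNoetherian Y := {}
  haveI : LocallyOfFiniteType f := locallyOfFiniteType_of_comp f g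
  haveI : QuasiCompact f := QuasiCompact.of_comp f g
  rw [locusMor_forall_fibre_eq hP.1 f g]
  intro hη
  obtain ⟨𝒞, h𝒞, hcov⟩ := exists_cover_locus_of_isNoetherian hP f
  have hfib : g ⁻¹' {genericPoint S} ⊆ ⋃₀ 𝒞 := by
    intro y hy
    rw [← hcov]
    by_contra hcon
    exact hη ⟨y, hcon, hy⟩
  obtain ⟨V, hV, hηV, hsub⟩ := exists_open_preimage_subset g 𝒞 h𝒞 hfib
  refine ⟨genericPoint S, ?_⟩
  refine interior_maximal ?_ hV hηV
  rintro s hs ⟨y, hy, rfl⟩
  apply hy
  rw [hcov]
  exact hsub hs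

end Single

end Groth.Agent.Lib.Helper12.H12ConsP
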