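import Mathlib
import Groth.Agent.Lib.Helper12.ConsP6
import Groth.Agent.S3444
import Groth.Agent.S3445
import Groth.Agent.Lib.Helper13.QuasiFiniteBaseChange

set_option autoImplicit false
universe u

namespace Groth.Agent.Lib.Helper12.H12ConsP

open AlgebraicGeometry CategoryTheory Limits TopologicalSpace Topology MorphismProperty

/-- a morphism between one-point integral schemes is an fpqc covering. -/
theorem fpqc_of_onePoint {T T' : Scheme.{u}} (h : T' ⟶ T) [IsIntegral T] [Subsingleton T]
    [IsIntegral T'] [Subsingleton T'] :
    (@Surjective ⊓ @Flat ⊓ @QuasiCompact : MorphismProperty Scheme.{u}) h := by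
  refine ⟨⟨?_, ?_⟩, ?_⟩
  · exact ⟨fun t => by
      obtain ⟨t'⟩ : Nonempty T' := inferInstance
      exact ⟨t', Subsingleton.elim _ _⟩⟩
  · letI : Field Γ(T, ⊤) := (isField_of_isIntegral_of_subsingleton T).toField
    rw [HasRingHomProperty.iff_of_isAffine (P := @Flat)]
    algebraize [h.appTop.hom]
    change Module.Flat Γ(T, ⊤) Γ(T', ⊤)
    infer_instance
  · infer_instance

/-- base change of an fpqc covering of one-point schemes. -/
theorem fpqc_of_isPullback_onePoint {Y Y' T T' : Scheme.{u}} {eY : Y' ⟶ Y} {g' : Y' ⟶ T'}
    {g : Y ⟶ T} {h : T' ⟶ T} [IsIntegral T] [Subsingleton T] [IsIntegral T'] [Subsingleton T']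
    (hY : IsPullback eY g' g h) :
    (@Surjective ⊓ @Flat ⊓ @QuasiCompact : MorphismProperty Scheme.{u}) eY :=
  MorphismProperty.of_isPullback hY.flip (fpqc_of_onePoint h)

/-- field stability of a property of morphisms that is stable under base change and descends
along fpqc coverings. -/
theorem isFieldStableMor_of_descends (Q : MorphismProperty Scheme.{u}) [Q.IsStableUnderBaseChange]
    [Q.DescendsAlong (@Surjective ⊓ @Flat ⊓ @QuasiCompact)] :
    ConsProp.IsFieldStableMor (fun X Y T f g => Q f) := by
  intro X X' Y Y' T T' f g f' g' eX eY h _ _ _ _ _ _ _ _ hY hX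
  exact (MorphismProperty.iff_of_isPullback (P := Q) hX.flip
    (fpqc_of_isPullback_onePoint hY)).symm

theorem dichotomy_of_isConstructible {S : Scheme.{u}} [IsIntegral S] {E : Set S}
    (hE : IsConstructible E) : (interior E).Nonempty ∨ (interior Eᶜ).Nonempty := by
  obtain ⟨U, hU, hne, h | h⟩ := Groth.Agent.Lib.Helper12.constructible_dichotomy hE
    (Y := (Set.univ : Set S)) ⟨Set.univ_nonempty, PreirreducibleSpace.isPreirreducible_univ⟩
  · left
    rw [Set.inter_univ] at hne h
    exact hne.mono (interior_maximal h hU)
  · right
    rw [Set.inter_univ] at hne h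
    exact hne.mono (interior_maximal h hU)

/-- **S5890** -/
theorem isConsMor_universallyInjective :
    ConsProp.IsConsMor (fun X Y T f g => AlgebraicGeometry.UniversallyInjective f) := by
  refine ⟨isFieldStableMor_of_descends @UniversallyInjective, ?_⟩
  intro X Y S f g _ _ _ _ _ _
  haveI : IsLocallyNoetherian Y := LocallyOfFiniteType.isLocallyNoetherian g
  haveI : IsLocallyNoetherian X := LocallyOfFiniteType.isLocallyNoetherian (f ≫ g)
  have h := Groth.Agent.S3444.result f g
  exact dichotomy_of_isConstructible h.isConstructible

/-- field stability of a property of schemes over a field that is stable under base change and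
descends along fpqc coverings. -/
theorem isFieldStable_of_descends (Q : MorphismProperty Scheme.{u}) [Q.IsStableUnderBaseChange]
    [Q.DescendsAlong (@Surjective ⊓ @Flat ⊓ @QuasiCompact)] :
    ConsProp.IsFieldStable (fun Y T g => Q g) := by
  intro Y Y' T T' g g' e h _ _ _ _ _ _ hpb
  exact (MorphismProperty.iff_of_isPullback (P := Q) hpb.flip (fpqc_of_onePoint h)).symm

theorem universallyInjective_lift_iff {X S : Scheme.{u}} (u : X ⟶ S) (s : S) (a : X ⟶ S)
    (ha : a = u)
    (w : (pullback.fst a (S.fromSpecResidueField s) ≫ u) ≫ 𝟙 S =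
      pullback.snd a (S.fromSpecResidueField s) ≫ S.fromSpecResidueField s) :
    UniversallyInjective (pullback.lift (pullback.fst a (S.fromSpecResidueField s) ≫ u)
      (pullback.snd a (S.fromSpecResidueField s)) w :
      pullback a (S.fromSpecResidueField s) ⟶ pullback (𝟙 S) (S.fromSpecResidueField s)) ↔
    UniversallyInjective (u.fiberToSpecResidueField s) := by
  subst ha
  have h1 : pullback.lift (pullback.fst a (S.fromSpecResidueField s) ≫ a)
      (pullback.snd a (S.fromSpecResidueField s)) w ≫
        pullback.snd (𝟙 S) (S.fromSpecResidueField s) = a.fiberToSpecResidueField s :=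
    pullback.lift_snd _ _ _
  rw [← h1]
  exact (MorphismProperty.cancel_right_of_respectsIso (P := @UniversallyInjective) _ _).symm

/-- **S5887** -/
theorem isCons_universallyInjective :
    ConsProp.IsCons (fun Y T g => AlgebraicGeometry.UniversallyInjective g) := by
  refine ⟨isFieldStable_of_descends @UniversallyInjective, ?_⟩
  intro X S u _ _ _ _
  haveI : IsLocallyNoetherian X := LocallyOfFiniteType.isLocallyNoetherian u
  haveI : LocallyOfFinitePresentation (u ≫ 𝟙 S) := by rw [Category.comp_id]; infer_instance
  haveI : QuasiCompact (u ≫ 𝟙 S) := by rw [Category.comp_id]; infer_instance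
  haveI : QuasiSeparated (u ≫ 𝟙 S) := by rw [Category.comp_id]; infer_instance
  have h := Groth.Agent.S3444.result u (𝟙 S)
  have heq : ConsProp.locus (fun Y T g => AlgebraicGeometry.UniversallyInjective g) u =
      {s : S | UniversallyInjective
        (pullback.lift (pullback.fst (u ≫ 𝟙 S) (S.fromSpecResidueField s) ≫ u)
          (pullback.snd (u ≫ 𝟙 S) (S.fromSpecResidueField s))
          ((Category.assoc _ _ _).trans pullback.condition) :
        pullback (u ≫ 𝟙 S) (S.fromSpecResidueField s) ⟶
          pullback (𝟙 S) (S.fromSpecResidueField s))} := by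
    ext s
    exact (universallyInjective_lift_iff u s (u ≫ 𝟙 S) (Category.comp_id u) _).symm
  rw [heq]
  exact dichotomy_of_isConstructible h.isConstructible

/-- **S5889** -/
theorem isConsMor_quasiFinite :
    ConsProp.IsConsMor (fun X Y T f g => AlgebraicGeometry.LocallyOfFiniteType f ∧
      AlgebraicGeometry.QuasiCompact f ∧ AlgebraicGeometry.LocallyQuasiFinite f) := by
  refine ⟨?_, ?_⟩
  · intro X X' Y Y' T T' f g f' g' eX eY h _ _ _ _ _ _ _ _ hY hX
    haveI := isLocallyNoetherian_of_onePoint T
    haveI : IsLocallyNoetherian Y := LocallyOfFiniteType.isLocallyNoetherian g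
    haveI : LocallyOfFiniteType f := locallyOfFiniteType_of_comp f g
    haveI : QuasiCompact f := QuasiCompact.of_comp f g
    haveI : LocallyOfFiniteType f' := MorphismProperty.of_isPullback hX inferInstance
    haveI : QuasiCompact f' := MorphismProperty.of_isPullback hX inferInstance
    have hfpqc := fpqc_of_isPullback_onePoint hY
    haveI : Surjective eY := hfpqc.1.1
    haveI : Surjective eX := MorphismProperty.of_isPullback hX.flip inferInstance
    constructor
    · rintro ⟨-, -, h3⟩
      exact ⟨inferInstance, inferInstance, MorphismProperty.of_isPullback hX h3⟩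
    · rintro ⟨-, -, h3⟩
      refine ⟨inferInstance, inferInstance, ?_⟩
      rw [← Scheme.Hom.quasiFiniteLocus_eq_top_iff]
      ext x
      simp only [Opens.coe_top, Set.mem_univ, iff_true]
      obtain ⟨x', rfl⟩ := eX.surjective x
      exact Groth.Agent.Lib.Helper13.quasiFiniteAt_of_isPullback hX x' (f'.quasiFiniteAt x')
  · intro X Y S f g _ _ _ _ _ _
    haveI : IsLocallyNoetherian Y := LocallyOfFiniteType.isLocallyNoetherian g
    haveI : IsLocallyNoetherian X := LocallyOfFiniteType.isLocallyNoetherian (f ≫ g)
    haveI : LocallyOfFiniteType f := locallyOfFiniteType_of_comp f g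
    haveI : QuasiCompact f := QuasiCompact.of_comp f g
    have h := Groth.Agent.S3445.result f g
    have heq : ConsProp.locusMor (fun X Y T f g => AlgebraicGeometry.LocallyOfFiniteType f ∧
        AlgebraicGeometry.QuasiCompact f ∧ AlgebraicGeometry.LocallyQuasiFinite f) f g =
        {s : S | LocallyQuasiFinite (MoreMor.fiberMap f g s)} := by
      ext s
      have hpb := isPullback_fiberMap f g s
      constructor
      · exact fun h => h.2.2
      · intro h3
        exact ⟨MorphismProperty.of_isPullback hpb inferInstance,
          MorphismProperty.of_isPullback hpb inferInstance, h3⟩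
    rw [heq]
    exact dichotomy_of_isConstructible h.isConstructible

end Groth.Agent.Lib.Helper12.H12ConsP
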