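import Mathlib
import Groth.Prelude.Def_ConstAct2

set_option autoImplicit false
universe u

open TensorProduct

namespace H12ConstAct

theorem mulSemiringAction_ext {M A : Type*} [Monoid M] [Semiring A] (a b : MulSemiringAction M A)
    (h : ∀ (g : M) (x : A), a.smul g x = b.smul g x) : a = b := by
  cases a with
  | mk sa1 sa2 =>
    cases b with
    | mk sb1 sb2 =>
      rename_i Da Db
      cases Da with
      | mk d1 d2 =>
        cases Db with
        | mk e1 e2 =>
          rename_i Ma Mb
          cases Ma with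
          | mk m1 =>
            cases Mb with
            | mk n1 =>
              rename_i Sa Sb
              cases Sa with
              | mk s1 =>
                cases Sb with
                | mk t1 =>
                  rename_i Xa Xb
                  cases Xa with
                  | mk fa =>
                    cases Xb with
                    | mk fb =>
                      have : fa = fb := by
                        funext g x
                        exact h g x
                      subst this
                      rfl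

variable (R : Type u) [CommRing R] (B : Type u) [CommRing B] [Algebra R B]
  (Γ : Type u) [Group Γ] [Fintype Γ] [DecidableEq Γ]

/-- the `g`-th coordinate `B ⊗ F → B`. -/
noncomputable def proj (g : Γ) : B ⊗[R] ConstGrp.F R Γ →ₐ[R] B :=
  Algebra.TensorProduct.lift (AlgHom.id R B) ((Algebra.ofId R B).comp (ConstGrp.ev R g))
    (fun _ _ => Commute.all _ _)

theorem proj_tmul (g : Γ) (b : B) (f : ConstGrp.F R Γ) : proj R B Γ g (b ⊗ₜ[R] f) = f g • b := by
  simp [proj, Algebra.smul_def, mul_comm, Algebra.ofId_apply]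

theorem decomp (t : B ⊗[R] ConstGrp.F R Γ) :
    t = ∑ g : Γ, proj R B Γ g t ⊗ₜ[R] ConstGrp.e R g := by
  induction t using TensorProduct.induction_on with
  | zero => simp
  | tmul b f =>
    simp only [proj_tmul]
    conv_lhs => rw [ConstGrp.eq_sum_smul_e f, TensorProduct.tmul_sum]
    refine Finset.sum_congr rfl fun g _ => ?_
    rw [TensorProduct.smul_tmul]
  | add x y hx hy =>
    simp only [map_add, TensorProduct.add_tmul, Finset.sum_add_distrib]
    rw [← hx, ← hy]

end H12ConstAct

namespace H12ConstAct

variable (R : Type u) [CommRing R] (B : Type u) [CommRing B] [Algebra R B]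
  (Γ : Type u) [Group Γ] [Fintype Γ] [DecidableEq Γ]

/-- the functional `f ⊗ f' ↦ f g * f' h`. -/
noncomputable def psi (g h : Γ) : ConstGrp.F R Γ ⊗[R] ConstGrp.F R Γ →ₗ[R] R :=
  (LinearMap.mul' R R) ∘ₗ (TensorProduct.map (ConstGrp.ev R g).toLinearMap (ConstGrp.ev R h).toLinearMap)

theorem psi_tmul (g h : Γ) (f f' : ConstGrp.F R Γ) : psi R Γ g h (f ⊗ₜ[R] f') = f g * f' h := by
  simp [psi]

theorem psi_comul (g h : Γ) (f : ConstGrp.F R Γ) :
    psi R Γ g h (Coalgebra.comul (R := R) f) = f (g * h) := by
  rw [ConstGrp.comul_eq_sum]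
  simp only [map_sum, map_smul, psi_tmul, ConstGrp.e_apply, smul_eq_mul]
  rw [Finset.sum_eq_single g]
  · rw [Finset.sum_eq_single h]
    · simp
    · intro b _ hb
      simp [Ne.symm hb]
    · simp
  · intro a _ ha
    refine Finset.sum_eq_zero fun b _ => ?_
    simp [Ne.symm ha]
  · simp

/-- `b ⊗ (f ⊗ f') ↦ (f g * f' h) • b`. -/
noncomputable def Psi (g h : Γ) : B ⊗[R] (ConstGrp.F R Γ ⊗[R] ConstGrp.F R Γ) →ₗ[R] B :=
  (TensorProduct.rid R B).toLinearMap ∘ₗ (psi R Γ g h).lTensor B

theorem Psi_tmul (g h : Γ) (b : B) (t : ConstGrp.F R Γ ⊗[R] ConstGrp.F R Γ) :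
    Psi R B Γ g h (b ⊗ₜ[R] t) = psi R Γ g h t • b := by
  simp [Psi]

theorem Psi_lTensor_comul (g h : Γ) (t : B ⊗[R] ConstGrp.F R Γ) :
    Psi R B Γ g h ((Coalgebra.comul (R := R) (A := ConstGrp.F R Γ)).lTensor B t) =
      proj R B Γ (g * h) t := by
  induction t using TensorProduct.induction_on with
  | zero => simp
  | tmul b f => rw [LinearMap.lTensor_tmul, Psi_tmul, psi_comul, proj_tmul]
  | add x y hx hy => simp only [map_add, hx, hy]

theorem Psi_assoc (g h : Γ) (T : B ⊗[R] ConstGrp.F R Γ) (f : ConstGrp.F R Γ) :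
    Psi R B Γ g h ((TensorProduct.assoc R B (ConstGrp.F R Γ) (ConstGrp.F R Γ)) (T ⊗ₜ[R] f)) =
      f h • proj R B Γ g T := by
  induction T using TensorProduct.induction_on with
  | zero => simp
  | tmul b f' =>
    rw [TensorProduct.assoc_tmul, Psi_tmul, psi_tmul, proj_tmul, smul_smul, mul_comm]
  | add x y hx hy =>
    simp only [TensorProduct.add_tmul, map_add, hx, hy, smul_add]

variable [HopfRep.Comod R (ConstGrp.F R Γ) B] [GLin.IsCoactAlg R (ConstGrp.F R Γ) B]

/-- the automorphism attached to `g`. -/
noncomputable def alpha (g : Γ) : B →ₐ[R] B :=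
  (proj R B Γ g).comp (GLin.coactAlgHom R (ConstGrp.F R Γ) B)

theorem alpha_apply (g : Γ) (b : B) :
    alpha R B Γ g b = proj R B Γ g (HopfRep.Comod.coact (k := R) (A := ConstGrp.F R Γ) b) := rfl

theorem coact_eq (b : B) : HopfRep.Comod.coact (k := R) (A := ConstGrp.F R Γ) b =
    ∑ g : Γ, alpha R B Γ g b ⊗ₜ[R] ConstGrp.e R g :=
  decomp R B Γ _

theorem alpha_one (b : B) : alpha R B Γ 1 b = b := by
  have h := LinearMap.congr_fun
    (HopfRep.Comod.counit_comp (k := R) (A := ConstGrp.F R Γ) (V := B)) b
  simp only [LinearMap.comp_apply, LinearMap.flip_apply, TensorProduct.mk_apply] at h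
  have h2 : ∀ t : B ⊗[R] ConstGrp.F R Γ,
      TensorProduct.rid R B ((Coalgebra.counit (R := R) (A := ConstGrp.F R Γ)).lTensor B t) =
        proj R B Γ 1 t := by
    intro t
    induction t using TensorProduct.induction_on with
    | zero => simp
    | tmul b f => simp [proj_tmul]
    | add x y hx hy => simp only [map_add, hx, hy]
  rw [alpha_apply, ← h2, h]
  simp

theorem alpha_mul (g h : Γ) (b : B) : alpha R B Γ (g * h) b = alpha R B Γ g (alpha R B Γ h b) := by
  have hc := LinearMap.congr_fun
    (HopfRep.Comod.coassoc (k := R) (A := ConstGrp.F R Γ) (V := B)) b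
  simp only [LinearMap.comp_apply, LinearEquiv.coe_coe] at hc
  have h1 := congrArg (Psi R B Γ g h) hc
  rw [Psi_lTensor_comul] at h1
  rw [alpha_apply, ← h1]
  -- left side
  have h2 : ∀ t : B ⊗[R] ConstGrp.F R Γ,
      Psi R B Γ g h ((TensorProduct.assoc R B (ConstGrp.F R Γ) (ConstGrp.F R Γ))
        ((HopfRep.Comod.coact (k := R) (A := ConstGrp.F R Γ) (V := B)).rTensor (ConstGrp.F R Γ) t)) =
      alpha R B Γ g (proj R B Γ h t) := by
    intro t
    induction t using TensorProduct.induction_on with
    | zero => simp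
    | tmul b f =>
      rw [LinearMap.rTensor_tmul, Psi_assoc, proj_tmul, map_smul, alpha_apply]
    | add x y hx hy => simp only [map_add, hx, hy]
  rw [h2]
  rfl

/-- the action of `Γ` on `B`. -/
@[reducible] noncomputable def act : MulSemiringAction Γ B where
  smul g b := alpha R B Γ g b
  one_smul b := alpha_one R B Γ b
  mul_smul g h b := alpha_mul R B Γ g h b
  smul_zero _ := map_zero _
  smul_add _ := map_add _
  smul_one _ := map_one _
  smul_mul _ := map_mul _

theorem act_smul (g : Γ) (b : B) : (act R B Γ).smul g b = alpha R B Γ g b := rfl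

theorem main :
    ∃! a : MulSemiringAction Γ B, ∃ _ : SMulCommClass Γ R B,
      ConstAct.coactLin R B Γ = HopfRep.Comod.coact (k := R) (A := ConstGrp.F R Γ) (V := B) ∧
        GLin.invariants R (ConstGrp.F R Γ) B = ConstAct.inv R B Γ := by
  refine ⟨act R B Γ, ?_, ?_⟩
  · letI := act R B Γ
    have hsm : ∀ (g : Γ) (b : B), g • b = alpha R B Γ g b := fun _ _ => rfl
    refine ⟨⟨fun g r b => ?_⟩, ?_, ?_⟩
    · rw [hsm, hsm, map_smul]
    · apply LinearMap.ext
      intro b
      rw [ConstAct.coactLin_apply, coact_eq R B Γ b]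
      rfl
    · ext b
      rw [GLin.mem_invariants_iff, ConstAct.mem_inv]
      constructor
      · intro h g
        rw [hsm, alpha_apply, h, proj_tmul]
        simp
      · intro h
        rw [coact_eq R B Γ b]
        have : ∀ g : Γ, alpha R B Γ g b = b := fun g => by rw [← hsm, h g]
        simp only [this]
        rw [← TensorProduct.tmul_sum, ConstGrp.sum_e]
  · rintro a' ⟨inst', h1, -⟩
    apply mulSemiringAction_ext
    intro g b
    rw [act_smul, alpha_apply, ← h1]
    letI := a'
    have h2 : ConstAct.coactLin R B Γ b = ∑ k : Γ, (k • b) ⊗ₜ[R] ConstGrp.e R k :=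
      ConstAct.coactLin_apply R B Γ b
    rw [h2, map_sum]
    simp only [proj_tmul, ConstGrp.e_apply]
    rw [Finset.sum_eq_single g]
    · simp
      rfl
    · intro k _ hk
      simp [Ne.symm hk]
    · simp

end H12ConstAct
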