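import Mathlib

set_option autoImplicit false
universe v u w
open CategoryTheory CategoryTheory.Limits

namespace H12Cosh

variable {C : Type u} [Category.{v} C] [HasPullbacks C] (W : MorphismProperty C)

/-- the cosheaf condition. -/
def IsCosheaf (F : C ⥤ AddCommGrpCat.{w}) : Prop :=
  ∀ ⦃Y X : C⦄ (π : Y ⟶ X), W π → Function.Surjective (F.map π).hom ∧
    (F.map π).hom.ker = ((F.map (pullback.fst π π)).hom - (F.map (pullback.snd π π)).hom).range

variable {W}

/-- descent of maps along a cover. -/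
lemma exists_desc {F : C ⥤ AddCommGrpCat.{w}} (hF : IsCosheaf W F) {Y X : C} (π : Y ⟶ X)
    (hπ : W π) {A : Type w} [AddCommGroup A] (φ : F.obj Y →+ A)
    (hφ : φ.comp (F.map (pullback.fst π π)).hom = φ.comp (F.map (pullback.snd π π)).hom) :
    ∃ ψ : F.obj X →+ A, ψ.comp (F.map π).hom = φ := by
  obtain ⟨hs, hk⟩ := hF π hπ
  have hle : (F.map π).hom.ker ≤ φ.ker := by
    rw [hk]
    rintro _ ⟨z, rfl⟩
    rw [AddMonoidHom.mem_ker, AddMonoidHom.sub_apply, map_sub, sub_eq_zero]
    exact DFunLike.congr_fun hφ z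
  exact ⟨(F.map π).hom.liftOfSurjective hs ⟨φ, hle⟩,
    AddMonoidHom.liftOfRightInverse_comp _ _ _ _⟩

lemma comp_cancel {F : C ⥤ AddCommGrpCat.{w}} (hF : IsCosheaf W F) {Y X : C} (π : Y ⟶ X)
    (hπ : W π) {A : Type w} [AddCommGroup A] (ψ ψ' : F.obj X →+ A)
    (h : ψ.comp (F.map π).hom = ψ'.comp (F.map π).hom) : ψ = ψ' := by
  ext x
  obtain ⟨y, rfl⟩ := (hF π hπ).1 x
  exact DFunLike.congr_fun h y

end H12Cosh

namespace H12Cosh

variable {C : Type u} [Category.{v} C] [HasPullbacks C] {W : MorphismProperty C}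
  [W.IsStableUnderBaseChange] [W.IsStableUnderComposition]
  (D : ObjectProperty C) (hD : ∀ X : C, ∃ (Y : C) (π : Y ⟶ X), W π ∧ D Y)

/-- chosen cover source -/
noncomputable def cY (X : C) : C := (hD X).choose
/-- chosen cover -/
noncomputable def cπ (X : C) : cY D hD X ⟶ X := (hD X).choose_spec.choose
lemma cW (X : C) : W (cπ D hD X) := (hD X).choose_spec.choose_spec.1
lemma cD (X : C) : D (cY D hD X) := (hD X).choose_spec.choose_spec.2

variable {F G : C ⥤ AddCommGrpCat.{w}} (hF : IsCosheaf W F) (hG : IsCosheaf W G)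
  (τ : D.ι ⋙ F ⟶ D.ι ⋙ G)

/-- component of τ as a group hom -/
def τh {Y : C} (hY : D Y) : F.obj Y →+ G.obj Y := (τ.app ⟨Y, hY⟩).hom

omit [HasPullbacks C] [W.IsStableUnderBaseChange] [W.IsStableUnderComposition] in
lemma τh_nat {Y Y' : C} (hY : D Y) (hY' : D Y') (f : Y ⟶ Y') :
    (τh D τ hY').comp (F.map f).hom = (G.map f).hom.comp (τh D τ hY) := by
  have := τ.naturality (ObjectProperty.homMk f : (⟨Y, hY⟩ : D.FullSubcategory) ⟶ ⟨Y', hY'⟩)
  have h2 := congrArg AddCommGrpCat.Hom.hom this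
  exact h2

include hD hF in
/-- the basic compatibility. -/
lemma key_eq {X Y Y' : C} (hY : D Y) (hY' : D Y') (π : Y ⟶ X) (π' : Y' ⟶ X) {T : C}
    (a : T ⟶ Y) (b : T ⟶ Y') (hab : a ≫ π = b ≫ π') :
    ((G.map π).hom.comp (τh D τ hY)).comp (F.map a).hom =
      ((G.map π').hom.comp (τh D τ hY')).comp (F.map b).hom := by
  apply comp_cancel hF (cπ D hD T) (cW D hD T)
  have e1 : (((G.map π).hom.comp (τh D τ hY)).comp (F.map a).hom).comp (F.map (cπ D hD T)).hom =
      (G.map (cπ D hD T ≫ a ≫ π)).hom.comp (τh D τ (cD D hD T)) := by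
    have h1 : (F.map a).hom.comp (F.map (cπ D hD T)).hom = (F.map (cπ D hD T ≫ a)).hom := by
      rw [F.map_comp]; rfl
    rw [AddMonoidHom.comp_assoc, h1, AddMonoidHom.comp_assoc, τh_nat D τ (cD D hD T) hY,
      ← AddMonoidHom.comp_assoc]
    congr 1
    rw [← Category.assoc, G.map_comp (cπ D hD T ≫ a) π]
    rfl
  have e2 : (((G.map π').hom.comp (τh D τ hY')).comp (F.map b).hom).comp (F.map (cπ D hD T)).hom =
      (G.map (cπ D hD T ≫ b ≫ π')).hom.comp (τh D τ (cD D hD T)) := by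
    have h1 : (F.map b).hom.comp (F.map (cπ D hD T)).hom = (F.map (cπ D hD T ≫ b)).hom := by
      rw [F.map_comp]; rfl
    rw [AddMonoidHom.comp_assoc, h1, AddMonoidHom.comp_assoc, τh_nat D τ (cD D hD T) hY',
      ← AddMonoidHom.comp_assoc]
    congr 1
    rw [← Category.assoc, G.map_comp (cπ D hD T ≫ b) π']
    rfl
  rw [e1, e2, hab]

include hD hF in
lemma α_exists (X : C) : ∃ ψ : F.obj X →+ G.obj X,
    ψ.comp (F.map (cπ D hD X)).hom = (G.map (cπ D hD X)).hom.comp (τh D τ (cD D hD X)) :=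
  exists_desc hF (cπ D hD X) (cW D hD X) _
    (key_eq D hD hF τ (cD D hD X) (cD D hD X) _ _ _ _ pullback.condition)

/-- the extension -/
noncomputable def αh (X : C) : F.obj X →+ G.obj X := (α_exists D hD hF τ X).choose

lemma αh_spec (X : C) : (αh D hD hF τ X).comp (F.map (cπ D hD X)).hom =
    (G.map (cπ D hD X)).hom.comp (τh D τ (cD D hD X)) := (α_exists D hD hF τ X).choose_spec

lemma αh_spec' {X Y : C} (hY : D Y) (π : Y ⟶ X) :
    (αh D hD hF τ X).comp (F.map π).hom = (G.map π).hom.comp (τh D τ hY) := by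
  have hW : W (pullback.fst π (cπ D hD X)) := W.pullback_fst _ _ (cW D hD X)
  apply comp_cancel hF _ hW
  have h1 : (F.map π).hom.comp (F.map (pullback.fst π (cπ D hD X))).hom =
      (F.map (cπ D hD X)).hom.comp (F.map (pullback.snd π (cπ D hD X))).hom := by
    have : F.map (pullback.fst π (cπ D hD X)) ≫ F.map π =
        F.map (pullback.snd π (cπ D hD X)) ≫ F.map (cπ D hD X) := by
      rw [← F.map_comp, ← F.map_comp, pullback.condition]
    exact congrArg AddCommGrpCat.Hom.hom this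
  rw [AddMonoidHom.comp_assoc, h1, ← AddMonoidHom.comp_assoc, αh_spec]
  exact (key_eq D hD hF τ hY (cD D hD X) π (cπ D hD X) _ _ pullback.condition).symm

lemma αh_nat {X' X : C} (f : X' ⟶ X) :
    (αh D hD hF τ X).comp (F.map f).hom = (G.map f).hom.comp (αh D hD hF τ X') := by
  apply comp_cancel hF (cπ D hD X') (cW D hD X')
  have h1 : (F.map f).hom.comp (F.map (cπ D hD X')).hom = (F.map (cπ D hD X' ≫ f)).hom := by
    rw [F.map_comp]; rfl
  rw [AddMonoidHom.comp_assoc, h1, αh_spec' D hD hF τ (cD D hD X'), AddMonoidHom.comp_assoc,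
    αh_spec, ← AddMonoidHom.comp_assoc]
  congr 1
  rw [G.map_comp]
  rfl

lemma αh_eq {X : C} (hX : D X) : αh D hD hF τ X = τh D τ hX := by
  have := αh_spec' D hD hF τ hX (𝟙 X)
  simpa using this

/-- the extension as a natural transformation -/
noncomputable def α : F ⟶ G where
  app X := AddCommGrpCat.ofHom (αh D hD hF τ X)
  naturality X' X f := by
    ext1
    exact (αh_nat D hD hF τ f)

end H12Cosh

namespace H12Cosh

variable {C : Type u} [Category.{v} C] [HasPullbacks C] (W : MorphismProperty C)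
  [W.IsStableUnderBaseChange] [W.IsStableUnderComposition]
  (D : ObjectProperty C) (hD : ∀ X : C, ∃ (Y : C) (π : Y ⟶ X), W π ∧ D Y)

/-- the restriction functor. -/
abbrev Res : ObjectProperty.FullSubcategory (IsCosheaf.{v, u, w} W) ⥤
    (D.FullSubcategory ⥤ AddCommGrpCat.{w}) :=
  ObjectProperty.ι (IsCosheaf.{v, u, w} W) ⋙
    (Functor.whiskeringLeft D.FullSubcategory C AddCommGrpCat.{w}).obj D.ι

include hD in
theorem res_full : (Res.{v, u, w} W D).Full := by
  refine ⟨fun {F G} τ => ?_⟩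
  refine ⟨ObjectProperty.homMk (α D hD F.property τ), ?_⟩
  ext Y x
  show αh D hD F.property τ Y.obj x = (τ.app Y).hom x
  rw [αh_eq D hD F.property τ Y.property]
  rfl

include hD in
theorem res_faithful : (Res.{v, u, w} W D).Faithful := by
  refine ⟨fun {F G} a b h => ?_⟩
  apply ObjectProperty.hom_ext
  ext X : 2
  ext1
  apply comp_cancel F.property (cπ D hD X) (cW D hD X)
  have ha := a.hom.naturality (cπ D hD X)
  have hb := b.hom.naturality (cπ D hD X)
  have hab : a.hom.app (cY D hD X) = b.hom.app (cY D hD X) :=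
    NatTrans.congr_app h ⟨cY D hD X, cD D hD X⟩
  have ha' := congrArg AddCommGrpCat.Hom.hom ha
  have hb' := congrArg AddCommGrpCat.Hom.hom hb
  rw [hab] at ha'
  exact ha'.trans hb'.symm

end H12Cosh
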