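import Mathlib

set_option autoImplicit false
universe u

namespace Groth.Agent.Lib.Helper12.CotCharP

open scoped TensorProduct

/-- If `A → C` is surjective with kernel `J` and `1 ⊗ m = 0` in `C ⊗[A] M` then `m ∈ J M`. -/
theorem mem_smul_top_of_one_tmul_eq_zero {A C M : Type*} [CommRing A] [CommRing C] [Algebra A C]
    [AddCommGroup M] [Module A M] (hsurj : Function.Surjective (algebraMap A C)) (m : M)
    (h : (1 : C) ⊗ₜ[A] m = 0) :
    m ∈ (RingHom.ker (algebraMap A C)) • (⊤ : Submodule A M) := by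
  set J := RingHom.ker (algebraMap A C) with hJ
  have hex : Function.Exact (J.subtype : J →ₗ[A] A) (Algebra.linearMap A C) := by
    intro a
    constructor
    · intro ha
      exact ⟨⟨a, ha⟩, rfl⟩
    · rintro ⟨j, rfl⟩
      exact j.2
  have hex2 := rTensor_exact M hex hsurj
  have h1 : (Algebra.linearMap A C).rTensor M ((1 : A) ⊗ₜ[A] m) = 0 := by
    rw [LinearMap.rTensor_tmul, Algebra.linearMap_apply, map_one, h]
  obtain ⟨t, ht⟩ := (hex2 _).mp h1
  have h2 : ∀ t : J ⊗[A] M, TensorProduct.lid A M ((J.subtype : J →ₗ[A] A).rTensor M t) ∈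
      J • (⊤ : Submodule A M) := by
    intro t
    induction t using TensorProduct.induction_on with
    | zero => simp
    | tmul j y =>
      rw [LinearMap.rTensor_tmul, TensorProduct.lid_tmul]
      exact Submodule.smul_mem_smul j.2 trivial
    | add x y hx hy =>
      rw [map_add, map_add]
      exact add_mem hx hy
  have h3 := h2 t
  rw [ht, TensorProduct.lid_tmul, one_smul] at h3
  exact h3


/-- Abstract form: a square-zero thickening `A₁ → C` over `Λ₀` receiving `A`, with `C` formally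
smooth over `Λ₀`, detects elements of `ker (A → C)` whose differential dies in `C ⊗ Ω[A/Λ]`. -/
theorem algebraMap_eq_zero_of_tmul_D_eq_zero {Λ Λ₀ A A₁ C : Type u}
    [CommRing Λ] [CommRing Λ₀] [CommRing A] [CommRing A₁] [CommRing C]
    [Algebra Λ A] [Algebra A C] [Algebra Λ C] [IsScalarTower Λ A C]
    [Algebra Λ Λ₀] [Algebra Λ₀ C] [IsScalarTower Λ Λ₀ C] [Algebra.FormallySmooth Λ₀ C]
    [Algebra A A₁] [Algebra Λ A₁] [IsScalarTower Λ A A₁] [Algebra Λ₀ A₁] [IsScalarTower Λ Λ₀ A₁]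
    (hsurj : Function.Surjective (algebraMap A C))
    (q : A₁ →ₐ[Λ₀] C) (hq : ∀ a : A, q (algebraMap A A₁ a) = algebraMap A C a)
    (hqs : Function.Surjective q) (hq0 : ∀ y z : A₁, q y = 0 → q z = 0 → y * z = 0)
    (x : A) (hx : algebraMap A C x = 0)
    (h0 : (1 : C) ⊗ₜ[A] KaehlerDifferential.D Λ A x = 0) : algebraMap A A₁ x = 0 := by
  have hnil : IsNilpotent (RingHom.ker (q : A₁ →+* C)) := by
    refine ⟨2, ?_⟩
    rw [pow_two, Ideal.zero_eq_bot, eq_bot_iff, Ideal.mul_le]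
    intro y hy z hz
    rw [Ideal.mem_bot]
    exact hq0 y z hy hz
  let σ : C →ₐ[Λ₀] A₁ := Algebra.FormallySmooth.liftOfSurjective (AlgHom.id Λ₀ C) q hqs hnil
  have hσ : ∀ c : C, q (σ c) = c := fun c =>
    Algebra.FormallySmooth.liftOfSurjective_apply (AlgHom.id Λ₀ C) q hqs hnil c
  let D₀ : A →ₗ[Λ] A₁ := (Algebra.linearMap A A₁).restrictScalars Λ -
    ((σ.restrictScalars Λ).toLinearMap ∘ₗ (IsScalarTower.toAlgHom Λ A C).toLinearMap)
  have hD₀ : ∀ a : A, D₀ a = algebraMap A A₁ a - σ (algebraMap A C a) := fun a => rfl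
  have hD₀q : ∀ a : A, q (D₀ a) = 0 := by
    intro a
    rw [hD₀, map_sub, hq, hσ, sub_self]
  let D : Derivation Λ A A₁ := Derivation.mk' D₀ (by
    intro a b
    have h1 := hq0 _ _ (hD₀q a) (hD₀q b)
    rw [hD₀, hD₀] at h1
    rw [hD₀, hD₀, hD₀, Algebra.smul_def, Algebra.smul_def, map_mul, map_mul, map_mul]
    linear_combination (-1 : A₁) * h1)
  have hDx : D x = algebraMap A A₁ x := by
    change D₀ x = _
    rw [hD₀, hx, map_zero, sub_zero]
  have hLq : ∀ ω : Ω[A⁄Λ], q (D.liftKaehlerDifferential ω) = 0 := by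
    intro ω
    have hω : ω ∈ Submodule.span A (Set.range (KaehlerDifferential.D Λ A)) := by
      rw [KaehlerDifferential.span_range_derivation]; trivial
    refine Submodule.span_induction ?_ ?_ ?_ ?_ hω
    · rintro _ ⟨a, rfl⟩
      rw [Derivation.liftKaehlerDifferential_comp_D]
      exact hD₀q a
    · rw [map_zero, map_zero]
    · intro y z _ _ hy hz
      rw [map_add, map_add, hy, hz, add_zero]
    · intro a y _ hy
      rw [map_smul, Algebra.smul_def, map_mul, hy, mul_zero]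
  have hLJ : ∀ ω ∈ (RingHom.ker (algebraMap A C)) • (⊤ : Submodule A Ω[A⁄Λ]),
      D.liftKaehlerDifferential ω = 0 := by
    intro ω hω
    refine Submodule.smul_induction_on hω ?_ ?_
    · intro j hj y _
      rw [map_smul, Algebra.smul_def]
      refine hq0 _ _ ?_ (hLq y)
      rw [hq]
      exact hj
    · intro y z hy hz
      rw [map_add, hy, hz, add_zero]
  have h1 := hLJ _ (mem_smul_top_of_one_tmul_eq_zero hsurj _ h0)
  rw [Derivation.liftKaehlerDifferential_comp_D, hDx] at h1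
  exact h1


theorem mem_of_tmul_D_eq_zero {Λ A C : Type u} [CommRing Λ] [CommRing A] [CommRing C]
    [Algebra Λ A] [Algebra A C] [Algebra Λ C] [IsScalarTower Λ A C]
    (hsurj : Function.Surjective (algebraMap A C)) (p : ℕ)
    [Algebra (Λ ⧸ Ideal.span {(p : Λ)}) C] [IsScalarTower Λ (Λ ⧸ Ideal.span {(p : Λ)}) C]
    [Algebra.FormallySmooth (Λ ⧸ Ideal.span {(p : Λ)}) C]
    (hp : (p : A) ∈ RingHom.ker (algebraMap A C)) (x : A)
    (hx : x ∈ RingHom.ker (algebraMap A C))
    (h0 : (1 : C) ⊗ₜ[A] KaehlerDifferential.D Λ A x = 0) :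
    x ∈ (RingHom.ker (algebraMap A C)) ^ 2 ⊔ Ideal.span {(p : A)} := by
  set K : Ideal A := (RingHom.ker (algebraMap A C)) ^ 2 ⊔ Ideal.span {(p : A)} with hK
  have hpK : (p : A) ∈ K := Ideal.mem_sup_right (Ideal.mem_span_singleton_self _)
  have hKJ : K ≤ RingHom.ker (algebraMap A C) :=
    sup_le (Ideal.pow_le_self two_ne_zero) ((Ideal.span_singleton_le_iff_mem _).mpr hp)
  have hpz : ((p : ℕ) : A ⧸ K) = 0 := by
    have : Ideal.Quotient.mk K (p : A) = 0 := Ideal.Quotient.eq_zero_iff_mem.mpr hpK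
    rwa [map_natCast] at this
  have h : ∀ a ∈ Ideal.span {(p : Λ)}, algebraMap Λ (A ⧸ K) a = 0 := by
    intro a ha
    obtain ⟨b, rfl⟩ := Ideal.mem_span_singleton'.mp ha
    rw [map_mul, map_natCast, hpz, mul_zero]
  letI alg₀ : Algebra (Λ ⧸ Ideal.span {(p : Λ)}) (A ⧸ K) :=
    (Ideal.Quotient.lift (Ideal.span {(p : Λ)}) (algebraMap Λ (A ⧸ K)) h).toAlgebra
  haveI : IsScalarTower Λ (Λ ⧸ Ideal.span {(p : Λ)}) (A ⧸ K) :=
    IsScalarTower.of_algebraMap_eq (fun a => rfl)
  let q₀ : A ⧸ K →+* C := Ideal.Quotient.lift K (algebraMap A C) (fun a ha => hKJ ha)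
  let q : A ⧸ K →ₐ[Λ ⧸ Ideal.span {(p : Λ)}] C :=
    { q₀ with
      commutes' := by
        intro r
        obtain ⟨a, rfl⟩ := Ideal.Quotient.mk_surjective r
        change algebraMap A C (algebraMap Λ A a) =
          algebraMap (Λ ⧸ Ideal.span {(p : Λ)}) C (algebraMap Λ (Λ ⧸ Ideal.span {(p : Λ)}) a)
        rw [← IsScalarTower.algebraMap_apply, ← IsScalarTower.algebraMap_apply] }
  have hq : ∀ a : A, q (algebraMap A (A ⧸ K) a) = algebraMap A C a := fun a => rfl
  have hqs : Function.Surjective q := by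
    intro c
    obtain ⟨a, rfl⟩ := hsurj c
    exact ⟨algebraMap A (A ⧸ K) a, rfl⟩
  have hq0 : ∀ y z : A ⧸ K, q y = 0 → q z = 0 → y * z = 0 := by
    intro y z hy hz
    obtain ⟨a, rfl⟩ := Ideal.Quotient.mk_surjective y
    obtain ⟨b, rfl⟩ := Ideal.Quotient.mk_surjective z
    have ha : a ∈ RingHom.ker (algebraMap A C) := hy
    have hb : b ∈ RingHom.ker (algebraMap A C) := hz
    rw [← map_mul, Ideal.Quotient.eq_zero_iff_mem]
    refine Ideal.mem_sup_left ?_
    rw [pow_two]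
    exact Ideal.mul_mem_mul ha hb
  have := algebraMap_eq_zero_of_tmul_D_eq_zero (Λ := Λ) (Λ₀ := Λ ⧸ Ideal.span {(p : Λ)})
    (A₁ := A ⧸ K) hsurj q hq hqs hq0 x hx h0
  exact Ideal.Quotient.eq_zero_iff_mem.mp this

open KaehlerDifferential in
theorem ker_kerCotangentToTensor {Λ A C : Type u} [CommRing Λ] [CommRing A] [CommRing C]
    [Algebra Λ A] [Algebra A C] [Algebra Λ C] [IsScalarTower Λ A C]
    (hsurj : Function.Surjective (algebraMap A C)) (p : ℕ)
    [Algebra (Λ ⧸ Ideal.span {(p : Λ)}) C] [IsScalarTower Λ (Λ ⧸ Ideal.span {(p : Λ)}) C]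
    [Algebra.FormallySmooth (Λ ⧸ Ideal.span {(p : Λ)}) C]
    (hp : (p : A) ∈ RingHom.ker (algebraMap A C)) :
    LinearMap.ker (kerCotangentToTensor Λ A C) =
      Submodule.span A {(RingHom.ker (algebraMap A C)).toCotangent ⟨(p : A), hp⟩} := by
  apply le_antisymm
  · intro y hy
    obtain ⟨⟨x, hx⟩, rfl⟩ := Ideal.toCotangent_surjective _ y
    rw [LinearMap.mem_ker, kerCotangentToTensor_toCotangent] at hy
    have hxK := mem_of_tmul_D_eq_zero hsurj p hp x hx hy
    obtain ⟨u, hu, v, hv, huv⟩ := Submodule.mem_sup.mp hxK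
    obtain ⟨a, rfl⟩ := Ideal.mem_span_singleton'.mp hv
    have huJ : u ∈ RingHom.ker (algebraMap A C) := Ideal.pow_le_self two_ne_zero hu
    have heq : (⟨x, hx⟩ : RingHom.ker (algebraMap A C)) =
        ⟨u, huJ⟩ + a • ⟨(p : A), hp⟩ := by
      ext
      simp [← huv]
    have hu0 : (RingHom.ker (algebraMap A C)).toCotangent ⟨u, huJ⟩ = 0 :=
      (Ideal.toCotangent_eq_zero _ _).mpr hu
    rw [heq, map_add, map_smul, hu0, zero_add]
    exact Submodule.smul_mem _ _ (Submodule.subset_span rfl)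
  · rw [Submodule.span_le]
    rintro _ rfl
    rw [SetLike.mem_coe, LinearMap.mem_ker, kerCotangentToTensor_toCotangent]
    simp

end Groth.Agent.Lib.Helper12.CotCharP
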