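import Mathlib

/-! # Completion full faithfulness, part 1: Artin–Rees for modules of homomorphisms -/

set_option autoImplicit false
universe u v w

namespace Groth.Agent.Lib.Helper12.H12Cpl

section Algebra
variable {B : Type u} [CommRing B]

/-- Artin–Rees, in the form `J^(n+k) P ∩ Q ⊆ J^n Q`. -/
theorem exists_pow_inf_le [IsNoetherianRing B] (J : Ideal B) {P : Type v} [AddCommGroup P]
    [Module B P] [Module.Finite B P] (Q : Submodule B P) :
    ∃ k : ℕ, ∀ n : ℕ, J ^ (n + k) • (⊤ : Submodule B P) ⊓ Q ≤ J ^ n • Q := by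
  obtain ⟨k, hk⟩ := Ideal.exists_pow_inf_eq_pow_smul J Q
  refine ⟨k, fun n => ?_⟩
  rw [hk (n + k) (Nat.le_add_left k n), Nat.add_sub_cancel]
  exact Submodule.smul_mono le_rfl inf_le_right

/-- a homomorphism out of a finite free module with values in `K P` lies in `K Hom`. -/
theorem mem_smul_top_of_forall_mem {b : ℕ} {P : Type v} [AddCommGroup P] [Module B P]
    (K : Ideal B) (u : (Fin b → B) →ₗ[B] P) (hu : ∀ c, u c ∈ K • (⊤ : Submodule B P)) :
    u ∈ K • (⊤ : Submodule B ((Fin b → B) →ₗ[B] P)) := by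
  classical
  have e : u = ∑ i : Fin b, LinearMap.smulRightₗ (LinearMap.proj i : (Fin b → B) →ₗ[B] B)
      (u (fun j => if i = j then 1 else 0)) := by
    apply LinearMap.ext
    intro c
    rw [LinearMap.sum_apply, LinearMap.pi_apply_eq_sum_univ u c]
    rfl
  rw [e]
  refine Submodule.sum_mem _ fun i _ => ?_
  have h1 : (K • (⊤ : Submodule B P)).map
      (LinearMap.smulRightₗ (LinearMap.proj i : (Fin b → B) →ₗ[B] B)) ≤ K • ⊤ := by
    rw [Submodule.map_smul'']
    exact Submodule.smul_mono le_rfl le_top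
  exact h1 (Submodule.mem_map_of_mem (hu _))

/-- the values of an element of `K Hom` lie in `K P` -/
theorem apply_mem_smul_top {F P : Type*} [AddCommGroup F] [Module B F] [AddCommGroup P]
    [Module B P] (K : Ideal B) (u : F →ₗ[B] P)
    (hu : u ∈ K • (⊤ : Submodule B (F →ₗ[B] P))) (c : F) : u c ∈ K • (⊤ : Submodule B P) := by
  have h1 : (K • (⊤ : Submodule B (F →ₗ[B] P))).map (LinearMap.applyₗ c) ≤ K • ⊤ := by
    rw [Submodule.map_smul'']
    exact Submodule.smul_mono le_rfl le_top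
  exact h1 (Submodule.mem_map_of_mem hu)

variable [IsNoetherianRing B] (J : Ideal B) (M : Type v) (N : Type w) [AddCommGroup M] [Module B M]
  [AddCommGroup N] [Module B N] [Module.Finite B M] [Module.Finite B N]

/-- **Artin–Rees for `Hom`, injectivity form**: a homomorphism with values in `J^(n+k) N` lies in
`J^n Hom(M, N)`. -/
theorem exists_mem_smul_top_linearMap :
    ∃ k : ℕ, ∀ (n : ℕ) (h : M →ₗ[B] N), (∀ x, h x ∈ J ^ (n + k) • (⊤ : Submodule B N)) →
      h ∈ J ^ n • (⊤ : Submodule B (M →ₗ[B] N)) := by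
  obtain ⟨b, f, hf⟩ := Module.Finite.exists_fin' B M
  let ι : (M →ₗ[B] N) →ₗ[B] ((Fin b → B) →ₗ[B] N) := LinearMap.lcomp B N f
  have hι : Function.Injective ι := LinearMap.lcomp_injective_of_surjective f hf
  obtain ⟨k, hk⟩ := exists_pow_inf_le J (LinearMap.range ι)
  refine ⟨k, fun n h hh => ?_⟩
  have h1 : ι h ∈ J ^ (n + k) • (⊤ : Submodule B ((Fin b → B) →ₗ[B] N)) :=
    mem_smul_top_of_forall_mem _ _ fun c => hh (f c)
  have h2 : ι h ∈ J ^ n • LinearMap.range ι := hk n ⟨h1, LinearMap.mem_range_self ι h⟩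
  rw [← Submodule.map_top, ← Submodule.map_smul''] at h2
  obtain ⟨h', hh', e⟩ := h2
  rw [← hι e]
  exact hh'

/-- **Artin–Rees for `Hom`, surjectivity form**: a homomorphism `M → N/K` with `K ⊆ J^(n+k) N`
lifts to `M → N` modulo `J^n N`. -/
theorem exists_lift_linearMap :
    ∃ k : ℕ, ∀ (n : ℕ) (Q : Type w) [AddCommGroup Q] [Module B Q] (p : N →ₗ[B] Q),
      Function.Surjective p → LinearMap.ker p ≤ J ^ (n + k) • (⊤ : Submodule B N) →
      ∀ g : M →ₗ[B] Q, ∃ h : M →ₗ[B] N,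
        ∀ x, ∃ e ∈ J ^ n • (⊤ : Submodule B N), p (h x) = g x + p e := by
  haveI : Module.FinitePresentation B M := Module.finitePresentation_of_finite B M
  obtain ⟨b, a, f, r, hf, hex⟩ := Module.FinitePresentation.exists_fin' B M
  let d : ((Fin b → B) →ₗ[B] N) →ₗ[B] ((Fin a → B) →ₗ[B] N) := LinearMap.lcomp B N r
  have hexN := LinearMap.exact_lcomp_of_exact_of_surjective N hex hf
  obtain ⟨k, hk⟩ := exists_pow_inf_le J (LinearMap.range d)
  refine ⟨k, fun n Q _ _ p hp hker g => ?_⟩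
  obtain ⟨u₀, hu₀⟩ := Module.projective_lifting_property p (g ∘ₗ f) hp
  have hfr : f ∘ₗ r = 0 := hex.linearMap_comp_eq_zero
  have h1 : d u₀ ∈ J ^ (n + k) • (⊤ : Submodule B ((Fin a → B) →ₗ[B] N)) := by
    apply mem_smul_top_of_forall_mem
    intro c
    apply hker
    rw [LinearMap.mem_ker]
    change p (u₀ (r c)) = 0
    have h2 : p (u₀ (r c)) = (p ∘ₗ u₀) (r c) := rfl
    rw [h2, hu₀]
    change g ((f ∘ₗ r) c) = 0
    rw [hfr, LinearMap.zero_apply, map_zero]
  have h2 : d u₀ ∈ J ^ n • LinearMap.range d := hk n ⟨h1, LinearMap.mem_range_self d u₀⟩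
  rw [← Submodule.map_top, ← Submodule.map_smul''] at h2
  obtain ⟨e, he, hde⟩ := h2
  have h3 : d (u₀ - e) = 0 := by rw [map_sub, hde, sub_self]
  obtain ⟨h, hh⟩ := (hexN (u₀ - e)).mp h3
  refine ⟨h, fun x => ?_⟩
  obtain ⟨c, rfl⟩ := hf x
  refine ⟨-(e c), Submodule.neg_mem _ (apply_mem_smul_top _ e he c), ?_⟩
  have h4 : h (f c) = (u₀ - e) c := by
    have := LinearMap.congr_fun hh c
    exact this
  have h5 : p (u₀ c) = g (f c) := LinearMap.congr_fun hu₀ c
  rw [h4, LinearMap.sub_apply, map_sub, h5, map_neg, sub_eq_add_neg]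

end Algebra

end Groth.Agent.Lib.Helper12.H12Cpl
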