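import Mathlib
import Groth.Prelude.Def_RefHull
import Groth.Prelude.Def_Formal
import Groth.Agent.Lib.Helper29.HomSec3
import Groth.Agent.Lib.Helper29.RegDim1
import Groth.Agent.Lib.Helper12.FF7
import Groth.Agent.Lib.Helper4.ZC2
import Groth.Agent.S16484

/-! # Completion full faithfulness, part 2: functoriality of the sheaf Hom in the target -/

set_option autoImplicit false
universe u
open CategoryTheory CategoryTheory.Limits AlgebraicGeometry TopologicalSpace Opposite

namespace Groth.Agent.Lib.Helper12.H12Cpl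

open Groth.Agent.Lib.Helper29.QCoh Groth.Agent.Lib.Helper29.QCoh.Dual
  Groth.Agent.Lib.Helper29.QCoh.HomSec Groth.Agent.Lib.Helper4.ZC

variable {X : Scheme.{u}}

/-- postcomposition on sections of the sheaf Hom -/
noncomputable def homShPostFun (M : X.Modules) {N N' : X.Modules} (g : N ⟶ N') (U : X.Opens) :
    Γ(RefHull.homSh M N, U) →+ Γ(RefHull.homSh M N', U) where
  toFun θ := ⟨fun x => (RefHull.stalkMapₗ g x.1).comp (θ.1 x), fun V i m x => by
    obtain ⟨W, hW, j, n, w⟩ := RefHull.isLocSect_of_mem θ V i m x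
    refine ⟨W, hW, j, g.app W n, fun y => ?_⟩
    have e := w y
    rw [LinearMap.comp_apply, e, RefHull.stalkMapₗ_germ]⟩
  map_zero' := Subtype.ext <| funext fun x => by
    apply LinearMap.ext
    intro v
    exact map_zero (RefHull.stalkMapₗ g x.1)
  map_add' s t := Subtype.ext <| funext fun x => by
    apply LinearMap.ext
    intro v
    exact map_add (RefHull.stalkMapₗ g x.1) _ _

/-- postcomposition `𝓗om(M, N) → 𝓗om(M, N')` with a morphism `N → N'` -/
noncomputable def homShPost (M : X.Modules) {N N' : X.Modules} (g : N ⟶ N') :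
    RefHull.homSh M N ⟶ RefHull.homSh M N' :=
  ⟨PresheafOfModules.homMk
    { app := fun U => AddCommGrpCat.ofHom (homShPostFun M g U.unop)
      naturality := fun {U V} i => by
        ext s
        rfl }
    (fun U r s => Subtype.ext <| funext fun x => by
      apply LinearMap.ext
      intro v
      exact map_smul (RefHull.stalkMapₗ g x.1) _ _)⟩

theorem homShPost_app_apply (M : X.Modules) {N N' : X.Modules} (g : N ⟶ N') {U : X.Opens}
    (θ : Γ(RefHull.homSh M N, U)) (x : U) :
    ((homShPost M g).app U θ).1 x = (RefHull.stalkMapₗ g x.1).comp (θ.1 x) := rfl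

theorem ev_homShPost (M : X.Modules) {N N' : X.Modules} (g : N ⟶ N') {U : X.Opens}
    (θ : Γ(RefHull.homSh M N, U)) (m : Γ(M, U)) :
    ev ((homShPost M g).app U θ) m = g.app U (ev θ m) := by
  apply ev_eq_of_germ
  intro x hx
  rw [homShPost_app_apply, LinearMap.comp_apply, ← germ_ev, RefHull.stalkMapₗ_germ]

theorem stalkMapₗ_comp {N N' N'' : X.Modules} (g : N ⟶ N') (g' : N' ⟶ N'') (x : X) :
    RefHull.stalkMapₗ (g ≫ g') x = (RefHull.stalkMapₗ g' x).comp (RefHull.stalkMapₗ g x) := by
  apply LinearMap.ext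
  intro v
  obtain ⟨W, hxW, m, rfl⟩ := TopCat.Presheaf.exists_germ_eq N.presheaf v
  rw [LinearMap.comp_apply, RefHull.stalkMapₗ_germ, RefHull.stalkMapₗ_germ,
    RefHull.stalkMapₗ_germ]
  rfl

theorem homShPost_comp (M : X.Modules) {N N' N'' : X.Modules} (g : N ⟶ N') (g' : N' ⟶ N'') :
    homShPost M (g ≫ g') = homShPost M g ≫ homShPost M g' := by
  apply Scheme.Modules.hom_ext
  intro U
  ext θ
  apply homSh_ext
  intro y hy
  change (RefHull.stalkMapₗ (g ≫ g') y).comp (θ.1 ⟨y, hy⟩) =
    (RefHull.stalkMapₗ g' y).comp ((RefHull.stalkMapₗ g y).comp (θ.1 ⟨y, hy⟩))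
  rw [stalkMapₗ_comp, LinearMap.comp_assoc]

theorem homShPost_ofHom {M N N' : X.Modules} (φ : M ⟶ N) (g : N ⟶ N') (U : X.Opens) :
    (homShPost M g).app U (RefHull.ofHom φ U) = RefHull.ofHom (φ ≫ g) U := by
  apply homSh_ext
  intro y hy
  change (RefHull.stalkMapₗ g y).comp (RefHull.stalkMapₗ φ y) = RefHull.stalkMapₗ (φ ≫ g) y
  rw [stalkMapₗ_comp]

theorem stalkMapₗ_homOfGlobal {F G : X.Modules} (Φ : Γ(RefHull.homSh F G, ⊤)) (x : X) :
    RefHull.stalkMapₗ (homOfGlobal Φ) x = Φ.1 ⟨x, trivial⟩ := by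
  apply LinearMap.ext
  intro v
  obtain ⟨W, hxW, m, rfl⟩ := TopCat.Presheaf.exists_germ_eq F.presheaf v
  rw [RefHull.stalkMapₗ_germ, homOfGlobal_app, germ_ev]
  rfl

theorem ofHom_homOfGlobal {F G : X.Modules} (Φ : Γ(RefHull.homSh F G, ⊤)) :
    RefHull.ofHom (homOfGlobal Φ) ⊤ = Φ := by
  apply homSh_ext
  intro y hy
  exact stalkMapₗ_homOfGlobal Φ y

theorem ofHom_injective {F G : X.Modules} (φ ψ : F ⟶ G)
    (h : RefHull.ofHom φ ⊤ = RefHull.ofHom ψ ⊤) : φ = ψ := by
  apply Scheme.Modules.hom_ext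
  intro U
  ext m
  apply section_ext
  intro x hx
  rw [← RefHull.stalkMapₗ_germ, ← RefHull.stalkMapₗ_germ]
  have h1 : RefHull.stalkMapₗ φ x = RefHull.stalkMapₗ ψ x :=
    congrArg (fun θ : Γ(RefHull.homSh F G, ⊤) => θ.1 ⟨x, trivial⟩) h
  rw [h1]

theorem res_ofHom {F G : X.Modules} (φ : F ⟶ G) {U V : X.Opens} (h : V ≤ U) :
    res (RefHull.homSh F G) h (RefHull.ofHom φ U) = RefHull.ofHom φ V := rfl

/-- the support of the sheaf Hom is contained in the intersection of the supports -/
theorem support_homSh_subset (M N : X.Modules) (hM : CohB1.IsFT M) :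
    CohB1.support (RefHull.homSh M N) ⊆ CohB1.support M ∩ CohB1.support N := by
  intro x hx
  have hinj := Groth.Agent.S16484.result X M N hM x
  constructor
  · intro hsub
    apply hx
    refine ⟨fun a b => hinj ?_⟩
    apply LinearMap.ext
    intro v
    rw [Subsingleton.elim v 0, map_zero, map_zero]
  · intro hsub
    apply hx
    refine ⟨fun a b => hinj ?_⟩
    apply LinearMap.ext
    intro v
    exact Subsingleton.elim _ _

section Noeth
variable [IsLocallyNoetherian X]

theorem isFP_homSh (F G : X.Modules) (hF : Coh.IsCoh F) (hG : Coh.IsCoh G) :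
    CohB1.IsFP (RefHull.homSh F G) := by
  have := hF.1
  have := hF.2
  have := hG.1
  have := hG.2
  have := isFinitePresentation_of_isCoh F hF
  have := isQuasicoherent_homSh F G
  refine isFinitePresentation_of_module_finitePresentation (RefHull.homSh F G)
    (fun U : X.affineOpens => (U : X.Opens)) (isOpenCover_affineOpens X) (fun U => U.2) fun U => ?_
  have : IsNoetherianRing Γ(X, (U : X.Opens)) := IsLocallyNoetherian.component_noetherian U
  have := module_finite_of_isFiniteType F U.2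
  have := module_finite_of_isFiniteType G U.2
  have : IsNoetherian Γ(X, (U : X.Opens)) Γ(G, (U : X.Opens)) :=
    isNoetherian_of_isNoetherianRing_of_finite _ _
  have : Module.Finite Γ(X, (U : X.Opens))
      (Γ(F, (U : X.Opens)) →ₗ[Γ(X, (U : X.Opens))] Γ(G, (U : X.Opens))) :=
    Module.IsNoetherian.finite _ _
  have : Module.Finite Γ(X, (U : X.Opens)) Γ(RefHull.homSh F G, (U : X.Opens)) :=
    Module.Finite.equiv (homSecEquiv F G U.2).symm
  exact Module.finitePresentation_of_finite _ _

theorem isCoh_homSh (F G : X.Modules) (hF : Coh.IsCoh F) (hG : Coh.IsCoh G) :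
    Coh.IsCoh (RefHull.homSh F G) := by
  have : (RefHull.homSh F G).IsFinitePresentation := isFP_homSh F G hF hG
  exact ⟨inferInstance, inferInstance⟩

end Noeth

section Killed
variable {A : Type u} [CommRing A] [X.Over (Spec (CommRingCat.of A))]

/-- if `a` kills `P` then it kills `𝓗om(M, P)` -/
theorem smulMod_homSh_eq_zero (M P : X.Modules) (a : A) (h : Formal.smulMod A P a = 0) :
    Formal.smulMod A (RefHull.homSh M P) a = 0 := by
  apply Scheme.Modules.hom_ext
  intro U
  ext θ
  rw [smulMod_app]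
  change glHom U a • θ = 0
  apply homSh_ext
  intro y hy
  apply LinearMap.ext
  intro v
  change X.presheaf.germ U y hy (glHom U a) • θ.1 ⟨y, hy⟩ v = 0
  obtain ⟨W, hyW, n, hn⟩ := TopCat.Presheaf.exists_germ_eq P.presheaf (θ.1 ⟨y, hy⟩ v)
  have h1 : (Formal.smulMod A P a).app (W ⊓ U) (res P inf_le_left n) = 0 := by
    rw [h]
    rfl
  rw [smulMod_app] at h1
  have h2 := congrArg (P.presheaf.germ (W ⊓ U) y ⟨hyW, hy⟩) h1
  rw [germ_smul, germ_res, hn, map_zero, ← res_glHom (inf_le_right : W ⊓ U ≤ U) a,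
    TopCat.Presheaf.germ_res_apply] at h2
  exact h2

end Killed

end Groth.Agent.Lib.Helper12.H12Cpl
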