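import Mathlib
import Groth.Agent.Lib.Helper12.Cpl2
import Groth.Agent.Lib.Helper12.PS4
import Groth.Agent.Lib.Helper29.QCohAffine

/-! # Completion full faithfulness, part 3: sections of `F / I^k F` over an affine open -/

set_option autoImplicit false
universe u
open CategoryTheory CategoryTheory.Limits AlgebraicGeometry TopologicalSpace Opposite

namespace Groth.Agent.Lib.Helper12.H12Cpl

open Groth.Agent.Lib.Helper29.QCoh Groth.Agent.Lib.Helper4.ZC Groth.Agent.Lib.Helper12.H12FF

variable {A : Type u} [CommRing A] {X : Scheme.{u}} [X.Over (Spec (CommRingCat.of A))]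

/-- the ideal of `Γ(X, U)` generated by `I` -/
noncomputable def JU (I : Ideal A) (U : X.Opens) : Ideal Γ(X, U) := I.map (glHom U)

theorem JU_pow (I : Ideal A) (U : X.Opens) (k : ℕ) : JU I U ^ k = (I ^ k).map (glHom U) :=
  (Ideal.map_pow _ _ _).symm

theorem sum_app_apply {M N : X.Modules} {ι : Type*} (s : Finset ι) (f : ι → (M ⟶ N))
    (U : X.Opens) (t : Γ(M, U)) :
    (∑ a ∈ s, f a).app U t = ∑ a ∈ s, (f a).app U t := by
  classical
  induction s using Finset.induction_on with
  | empty =>
    rw [Finset.sum_empty, Finset.sum_empty]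
    rfl
  | insert a s ha ih =>
    rw [Finset.sum_insert ha, Finset.sum_insert ha, ← ih]
    rfl

/-- the easy half: `I^k F(U)` dies in `(F / I^k F)(U)` -/
theorem modPowπ_app_eq_zero_of_mem (I : Ideal A) (k : ℕ) (F : X.Modules) (U : X.Opens)
    (s : Γ(F, U)) (hs : s ∈ JU I U ^ k • (⊤ : Submodule Γ(X, U) Γ(F, U))) :
    (Formal.modPowπ I k F).app U s = 0 := by
  let K : Ideal Γ(X, U) :=
    { carrier := {r | ∀ t : Γ(F, U), (Formal.modPowπ I k F).app U (r • t) = 0}
      add_mem' := fun {r r'} hr hr' t => by rw [add_smul, map_add, hr t, hr' t, add_zero]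
      zero_mem' := fun t => by rw [zero_smul, map_zero]
      smul_mem' := fun b r hr t => by
        rw [smul_eq_mul, mul_comm, mul_smul]
        exact hr (b • t) }
  have hK : JU I U ^ k ≤ K := by
    rw [JU_pow]
    apply Ideal.map_le_iff_le_comap.2
    intro a ha t
    rw [← smulMod_app]
    change (Formal.smulMod A F a ≫ Formal.modPowπ I k F).app U t = 0
    rw [smulMod_modPowπ I k F a ha]
    rfl
  exact Submodule.smul_induction_on hs (fun r hr t _ => hK hr t)
    (fun x y hx hy => by rw [map_add, hx, hy, add_zero])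

/-- the hard half: the kernel of `F(U) → (F / I^k F)(U)` is `I^k F(U)`, over a Noetherian base
and for `U` affine -/
theorem mem_smul_top_of_modPowπ_app_eq_zero [IsNoetherianRing A] (I : Ideal A) (k : ℕ)
    (F : X.Modules) [F.IsQuasicoherent] {U : X.Opens} (hU : IsAffineOpen U) (s : Γ(F, U))
    (hs : (Formal.modPowπ I k F).app U s = 0) :
    s ∈ JU I U ^ k • (⊤ : Submodule Γ(X, U) Γ(F, U)) := by
  classical
  obtain ⟨T, hT⟩ : (I ^ k).FG := IsNoetherian.noetherian _
  let D : ↥T → X.Modules := fun _ => F
  let φ : (⨁ D) ⟶ F := biproduct.desc (fun a : ↥T => Formal.smulMod A F (a : A))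
  have hTmem : ∀ a : ↥T, (a : A) ∈ I ^ k := fun a => by
    rw [← hT]
    exact Submodule.subset_span a.2
  have hzero : φ ≫ Formal.modPowπ I k F = 0 := by
    apply biproduct.hom_ext'
    intro a
    rw [biproduct.ι_desc_assoc, comp_zero]
    exact smulMod_modPowπ I k F a (hTmem a)
  -- `modPowπ` is a cokernel of `φ`
  have hkill : ∀ {W : X.Modules} (g' : F ⟶ W), φ ≫ g' = 0 →
      ∀ a ∈ I ^ k, Formal.smulMod A F a ≫ g' = 0 := by
    intro W g' hg' a ha
    rw [← hT] at ha
    induction ha using Submodule.span_induction with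
    | mem a haT =>
      have := congrArg (fun q => biproduct.ι D ⟨a, haT⟩ ≫ q) hg'
      simp only [comp_zero] at this
      rw [← Category.assoc, biproduct.ι_desc] at this
      exact this
    | zero => rw [smulMod_zero, zero_comp]
    | add a b _ _ ha hb => rw [smulMod_add, Preadditive.add_comp, ha, hb, add_zero]
    | smul c a _ ha =>
      rw [smul_eq_mul, smulMod_mul, Category.assoc, ha, comp_zero]
  have hcok : IsColimit (CokernelCofork.ofπ (Formal.modPowπ I k F) hzero) :=
    CokernelCofork.IsColimit.ofπ' _ _ fun {W} g' hg' =>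
      ⟨cokernel.desc (Formal.smulFamily (I ^ k) F) g' (by
        apply Sigma.hom_ext
        intro a
        rw [← Category.assoc, ι_smulFamily, comp_zero]
        exact hkill g' hg' a a.2), cokernel.π_desc _ _ _⟩
  let S : ShortComplex X.Modules := ShortComplex.mk φ (Formal.modPowπ I k F) hzero
  have hS : S.Exact := S.exact_of_g_is_cokernel hcok
  haveI : (∐ D).IsQuasicoherent :=
    Groth.Agent.Lib.Helper17.QCohSubMax.isQuasicoherent_sigma D (fun _ => inferInstance)
  haveI : S.X₁.IsQuasicoherent :=
    Groth.Agent.Lib.Helper17.QCohSubMax.isQuasicoherent_of_iso' (biproduct.isoCoproduct D).symm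
      inferInstance
  haveI : S.X₂.IsQuasicoherent := inferInstanceAs F.IsQuasicoherent
  have hex := app_exact_of_exact S hS hU
  obtain ⟨t, ht⟩ := (hex s).mp hs
  have ht' : φ.app U t = s := ht
  have htot : ∑ a : ↥T, (biproduct.ι D a).app U ((biproduct.π D a).app U t) = t := by
    have h0 : (∑ a : ↥T, biproduct.π D a ≫ biproduct.ι D a) = 𝟙 (⨁ D) :=
      Limits.IsBilimit.total (biproduct.isBilimit D)
    have h1 : (∑ a : ↥T, biproduct.π D a ≫ biproduct.ι D a).app U t = t := by
      rw [h0]
      rfl
    rw [sum_app_apply] at h1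
    exact h1
  rw [← ht', ← htot, map_sum]
  refine Submodule.sum_mem _ fun a _ => ?_
  have h2 : φ.app U ((biproduct.ι D a).app U ((biproduct.π D a).app U t)) =
      glHom U (a : A) • (biproduct.π D a).app U t := by
    rw [← smulMod_app]
    change (biproduct.ι D a ≫ φ).app U _ = _
    rw [biproduct.ι_desc]
  rw [h2]
  refine Submodule.smul_mem_smul ?_ Submodule.mem_top
  rw [JU_pow]
  exact Ideal.mem_map_of_mem _ (hTmem a)

end Groth.Agent.Lib.Helper12.H12Cpl
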