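import Mathlib
import Groth.Agent.Lib.Helper12.Cpl1
import Groth.Agent.Lib.Helper12.Cpl3
import Groth.Agent.Lib.Helper29.QCohGen

/-! # Completion full faithfulness, part 4: the comparison of the two inverse systems over an
affine open -/

set_option autoImplicit false
universe u
open CategoryTheory CategoryTheory.Limits AlgebraicGeometry TopologicalSpace Opposite

namespace Groth.Agent.Lib.Helper12.H12Cpl

open Groth.Agent.Lib.Helper29.QCoh Groth.Agent.Lib.Helper29.QCoh.Dual
  Groth.Agent.Lib.Helper29.QCoh.HomSec Groth.Agent.Lib.Helper4.ZC Groth.Agent.Lib.Helper12.H12FF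

section Abstract

/-- the abstract Mittag-Leffler comparison of two inverse systems -/
theorem existsUnique_lim_of_ML {H : Type*} [AddCommGroup H] {𝒜 ℬ : ℕ → Type*}
    [∀ n, AddCommGroup (𝒜 n)] [∀ n, AddCommGroup (ℬ n)]
    (q : ∀ n, H →+ 𝒜 n) (hq : ∀ n, Function.Surjective (q n))
    (tA : ∀ n, 𝒜 (n + 1) →+ 𝒜 n) (hqt : ∀ n θ, tA n (q (n + 1) θ) = q n θ)
    (ε : ∀ n, 𝒜 n →+ ℬ n)
    (tB : ∀ n, ℬ (n + 1) →+ ℬ n) (hε : ∀ n x, tB n (ε (n + 1) x) = ε n (tA n x))
    (k : ℕ) (ha : ∀ n θ, ε (n + k) (q (n + k) θ) = 0 → q n θ = 0)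
    (y : ∀ n, ℬ n) (hy : ∀ n, tB n (y (n + 1)) = y n)
    (hb : ∀ n, ∃ θ, ε n (q n θ) = y n) :
    ∃! x : ∀ n, 𝒜 n, (∀ n, tA n (x (n + 1)) = x n) ∧ ∀ n, ε n (x n) = y n := by
  have D1 : ∀ (z : ∀ n, ℬ n), (∀ n, tB n (z (n + 1)) = z n) → ∀ (θ : H) (n m : ℕ), n ≤ m →
      ε m (q m θ) = z m → ε n (q n θ) = z n := by
    intro z hz θ n m hnm
    induction m, hnm using Nat.le_induction with
    | base => exact id
    | succ m _ ih =>
      intro h
      apply ih
      rw [← hqt m θ, ← hε, h, hz]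
  have D2 : ∀ (x : ∀ n, 𝒜 n), (∀ n, tA n (x (n + 1)) = x n) → ∀ (θ : H) (n m : ℕ), n ≤ m →
      x m = q m θ → x n = q n θ := by
    intro x hx θ n m hnm
    induction m, hnm using Nat.le_induction with
    | base => exact id
    | succ m _ ih =>
      intro h
      apply ih
      rw [← hx m, h, hqt]
  have ha' : ∀ (θ : H) (n : ℕ), ε (n + k) (q (n + k) θ) = 0 → q n θ = 0 := fun θ n => ha n θ
  choose θ hθ using hb
  have hstep : ∀ n, q n (θ (n + 1 + k)) = q n (θ (n + k)) := by
    intro n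
    have h1 : ε (n + k) (q (n + k) (θ (n + 1 + k))) = y (n + k) :=
      D1 y hy (θ (n + 1 + k)) (n + k) (n + 1 + k) (by omega) (hθ (n + 1 + k))
    have h2 : ε (n + k) (q (n + k) (θ (n + 1 + k) - θ (n + k))) = 0 := by
      rw [map_sub, map_sub, h1, hθ (n + k), sub_self]
    have h3 := ha' _ n h2
    rw [map_sub, sub_eq_zero] at h3
    exact h3
  refine ⟨fun n => q n (θ (n + k)), ⟨fun n => ?_, fun n => ?_⟩, ?_⟩
  · change tA n (q (n + 1) (θ (n + 1 + k))) = q n (θ (n + k))
    rw [hqt, hstep]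
  · exact D1 y hy (θ (n + k)) n (n + k) (Nat.le_add_right n k) (hθ (n + k))
  · rintro x' ⟨hx'1, hx'2⟩
    funext n
    obtain ⟨ϑ, hϑ⟩ := hq (n + k) (x' (n + k) - q (n + k) (θ (n + k)))
    have h1 : ε (n + k) (q (n + k) ϑ) = 0 := by
      rw [hϑ, map_sub, hx'2, hθ (n + k), sub_self]
    have h2 := ha' ϑ n h1
    let d : ∀ n, 𝒜 n := fun j => x' j - q j (θ (n + k))
    have hd : ∀ j, tA j (d (j + 1)) = d j := by
      intro j
      change tA j (x' (j + 1) - q (j + 1) (θ (n + k))) = x' j - q j (θ (n + k))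
      rw [map_sub, hx'1, hqt]
    have h3 : d n = q n ϑ := D2 d hd ϑ n (n + k) (Nat.le_add_right n k) hϑ.symm
    rw [h2] at h3
    exact sub_eq_zero.mp h3

end Abstract

section Sheaf
variable {A : Type u} [CommRing A] (I : Ideal A) {X : Scheme.{u}}
  [X.Over (Spec (CommRingCat.of A))] (M N : X.Modules)

theorem homShPost_id : homShPost M (𝟙 N) = 𝟙 _ := by
  apply Scheme.Modules.hom_ext
  intro U
  ext θ
  apply homSh_ext
  intro y hy
  apply LinearMap.ext
  intro v
  change RefHull.stalkMapₗ (𝟙 N) y (θ.1 ⟨y, hy⟩ v) = θ.1 ⟨y, hy⟩ v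
  obtain ⟨W, hW, n, hn⟩ := TopCat.Presheaf.exists_germ_eq N.presheaf (θ.1 ⟨y, hy⟩ v)
  rw [← hn, RefHull.stalkMapₗ_germ]
  rfl

theorem modPowLe_refl (n : ℕ) : modPowLe I N (le_refl n) = 𝟙 _ := by
  rw [← cancel_epi (Formal.modPowπ I n N), modPowπ_le, Category.comp_id]

theorem modPowLe_succ {n m : ℕ} (h : n ≤ m) :
    modPowLe I N (Nat.le_succ_of_le h) = Formal.modPowTrans I m N ≫ modPowLe I N h := by
  rw [← cancel_epi (Formal.modPowπ I (m + 1) N), modPowπ_le, ← Category.assoc,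
    Formal.modPowπ_trans, modPowπ_le]

/-- `𝓗/I^n 𝓗 ⟶ 𝓗om(M, N/I^n N)` -/
noncomputable def epsHom (n : ℕ) :
    Formal.modPow I n (RefHull.homSh M N) ⟶ RefHull.homSh M (Formal.modPow I n N) :=
  cokernel.desc (Formal.smulFamily (I ^ n) (RefHull.homSh M N))
    (homShPost M (Formal.modPowπ I n N)) (by
      apply Sigma.hom_ext
      intro a
      rw [← Category.assoc, ι_smulFamily, comp_zero, ← comp_smulMod,
        smulMod_homSh_eq_zero M _ _ (smulMod_modPow_eq_zero I n N a a.2), comp_zero])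

theorem modPowπ_epsHom (n : ℕ) :
    Formal.modPowπ I n (RefHull.homSh M N) ≫ epsHom I M N n =
      homShPost M (Formal.modPowπ I n N) :=
  cokernel.π_desc _ _ _

theorem epsHom_trans (n : ℕ) :
    Formal.modPowTrans I n (RefHull.homSh M N) ≫ epsHom I M N n =
      epsHom I M N (n + 1) ≫ homShPost M (Formal.modPowTrans I n N) := by
  rw [← cancel_epi (Formal.modPowπ I (n + 1) (RefHull.homSh M N)), ← Category.assoc,
    Formal.modPowπ_trans, modPowπ_epsHom, ← Category.assoc, modPowπ_epsHom, ← homShPost_comp,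
    Formal.modPowπ_trans]

variable [IsNoetherianRing A] [IsLocallyNoetherian X] (hM : Coh.IsCoh M) (hN : Coh.IsCoh N)
  {U : X.Opens} (hU : IsAffineOpen U)

theorem ev_zero {F G : X.Modules} {V : X.Opens} (m : Γ(F, V)) :
    ev (0 : Γ(RefHull.homSh F G, V)) m = 0 :=
  LinearMap.congr_fun (map_zero (evLinₗ F G V)) m

include hM hN hU in
theorem exists_inj_bound : ∃ k : ℕ, ∀ (n m : ℕ), m = n + k →
    ∀ θ : Γ(RefHull.homSh M N, U),
      (homShPost M (Formal.modPowπ I m N)).app U θ = 0 →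
        (Formal.modPowπ I n (RefHull.homSh M N)).app U θ = 0 := by
  haveI := hM.1
  haveI := hM.2
  haveI := hN.1
  haveI := hN.2
  haveI : IsNoetherianRing Γ(X, U) := IsLocallyNoetherian.component_noetherian ⟨U, hU⟩
  haveI := module_finite_of_isFiniteType M hU
  haveI := module_finite_of_isFiniteType N hU
  obtain ⟨k, hk⟩ := exists_mem_smul_top_linearMap (JU I U) Γ(M, U) Γ(N, U)
  refine ⟨k, fun n m hm θ h0 => ?_⟩
  subst hm
  have h1 : ∀ v : Γ(M, U), evLinₗ M N U θ v ∈
      JU I U ^ (n + k) • (⊤ : Submodule Γ(X, U) Γ(N, U)) := by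
    intro v
    apply mem_smul_top_of_modPowπ_app_eq_zero I (n + k) N hU
    have h2 := ev_homShPost M (Formal.modPowπ I (n + k) N) θ v
    rw [h0, ev_zero] at h2
    exact h2.symm
  have h2 := hk n (evLinₗ M N U θ) h1
  have h3 : θ ∈ JU I U ^ n • (⊤ : Submodule Γ(X, U) Γ(RefHull.homSh M N, U)) := by
    have h4 : (JU I U ^ n • (⊤ : Submodule Γ(X, U) (Γ(M, U) →ₗ[Γ(X, U)] Γ(N, U)))).map
        (homSecEquiv M N hU).symm.toLinearMap ≤ JU I U ^ n • ⊤ := by
      rw [Submodule.map_smul'']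
      exact Submodule.smul_mono le_rfl le_top
    have h5 := h4 (Submodule.mem_map_of_mem h2)
    have h6 : (homSecEquiv M N hU).symm.toLinearMap (evLinₗ M N U θ) = θ :=
      (homSecEquiv M N hU).symm_apply_apply θ
    rw [h6] at h5
    exact h5
  exact modPowπ_app_eq_zero_of_mem I n _ U θ h3

include hM hN hU in
theorem exists_surj_bound : ∃ k : ℕ, ∀ (n m : ℕ) (_ : m = n + k) (hnm : n ≤ m)
    (y : Γ(RefHull.homSh M (Formal.modPow I m N), U)),
    ∃ θ : Γ(RefHull.homSh M N, U),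
      (homShPost M (Formal.modPowπ I n N)).app U θ =
        (homShPost M (modPowLe I N hnm)).app U y := by
  haveI := hM.1
  haveI := hM.2
  haveI := hN.1
  haveI := hN.2
  haveI : IsNoetherianRing Γ(X, U) := IsLocallyNoetherian.component_noetherian ⟨U, hU⟩
  haveI := module_finite_of_isFiniteType M hU
  haveI := module_finite_of_isFiniteType N hU
  obtain ⟨k, hk⟩ := exists_lift_linearMap (JU I U) Γ(M, U) Γ(N, U)
  refine ⟨k, fun n m hm hnm y => ?_⟩
  subst hm
  haveI : (Formal.modPow I (n + k) N).IsQuasicoherent :=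
    Groth.Agent.Lib.Helper12.H12PS.isQuasicoherent_modPow A I N (n + k)
  have hp : Function.Surjective (appₗ (Formal.modPowπ I (n + k) N) U) :=
    app_surjective_of_epi (Formal.modPowπ I (n + k) N) hU
  have hker : LinearMap.ker (appₗ (Formal.modPowπ I (n + k) N) U) ≤
      JU I U ^ (n + k) • (⊤ : Submodule Γ(X, U) Γ(N, U)) := fun s hs =>
    mem_smul_top_of_modPowπ_app_eq_zero I (n + k) N hU s hs
  obtain ⟨h, hh⟩ := hk n _ (appₗ (Formal.modPowπ I (n + k) N) U) hp hker
    (evLinₗ M (Formal.modPow I (n + k) N) U y)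
  refine ⟨(homSecEquiv M N hU).symm h, ?_⟩
  apply evLinₗ_injective hU
  apply LinearMap.ext
  intro v
  rw [evLinₗ_apply, evLinₗ_apply, ev_homShPost, ev_homShPost]
  have h1 : ev ((homSecEquiv M N hU).symm h) v = h v :=
    LinearMap.congr_fun ((homSecEquiv M N hU).apply_symm_apply h) v
  rw [h1]
  obtain ⟨e, he, hhe⟩ := hh v
  have h2 : (Formal.modPowπ I n N).app U (h v) =
      (modPowLe I N hnm).app U ((Formal.modPowπ I (n + k) N).app U (h v)) := by
    change _ = (Formal.modPowπ I (n + k) N ≫ modPowLe I N hnm).app U (h v)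
    rw [modPowπ_le]
  have h3 : (modPowLe I N hnm).app U ((Formal.modPowπ I (n + k) N).app U e) = 0 := by
    change (Formal.modPowπ I (n + k) N ≫ modPowLe I N hnm).app U e = 0
    rw [modPowπ_le]
    exact modPowπ_app_eq_zero_of_mem I n N U e he
  have hhe' : (Formal.modPowπ I (n + k) N).app U (h v) =
      ev y v + (Formal.modPowπ I (n + k) N).app U e := hhe
  rw [h2, hhe', map_add, h3, add_zero]

include hM hN hU in
/-- **The comparison over an affine open**: compatible families of sections of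
`𝓗om(M, N/I^(n+1)N)` lift uniquely to compatible families of sections of `𝓗/I^(n+1)𝓗`. -/
theorem existsUnique_affine
    (y : ∀ n, Γ(RefHull.homSh M (Formal.modPow I (n + 1) N), U))
    (hy : ∀ n, (homShPost M (Formal.modPowTrans I (n + 1) N)).app U (y (n + 1)) = y n) :
    ∃! x : ∀ n, Γ(Formal.modPow I (n + 1) (RefHull.homSh M N), U),
      (∀ n, (Formal.modPowTrans I (n + 1) (RefHull.homSh M N)).app U (x (n + 1)) = x n) ∧
        ∀ n, (epsHom I M N (n + 1)).app U (x n) = y n := by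
  haveI := hM.1
  haveI := hM.2
  haveI := hN.1
  haveI := hN.2
  haveI : M.IsFinitePresentation := isFinitePresentation_of_isCoh M hM
  haveI : (RefHull.homSh M N).IsQuasicoherent := isQuasicoherent_homSh M N
  obtain ⟨k₁, hk₁⟩ := exists_inj_bound I M N hM hN hU
  obtain ⟨k₂, hk₂⟩ := exists_surj_bound I M N hM hN hU
  -- multi-step compatibility
  have hC : ∀ (n j : ℕ) (h : n ≤ j),
      (homShPost M (modPowLe I N (Nat.succ_le_succ h))).app U (y j) = y n := by
    intro n j h
    induction j, h using Nat.le_induction with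
    | base =>
      have e1 : modPowLe I N (Nat.succ_le_succ (le_refl n)) = 𝟙 _ := modPowLe_refl I N (n + 1)
      rw [e1, homShPost_id]
      rfl
    | succ j hj ih =>
      have e1 : modPowLe I N (Nat.succ_le_succ (Nat.le_succ_of_le hj)) =
          Formal.modPowTrans I (j + 1) N ≫ modPowLe I N (Nat.succ_le_succ hj) :=
        modPowLe_succ I N (Nat.succ_le_succ hj)
      rw [e1, homShPost_comp]
      change (homShPost M (modPowLe I N (Nat.succ_le_succ hj))).app U
        ((homShPost M (Formal.modPowTrans I (j + 1) N)).app U (y (j + 1))) = y n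
      rw [hy j, ih]
  refine existsUnique_lim_of_ML
    (H := Γ(RefHull.homSh M N, U))
    (𝒜 := fun n => Γ(Formal.modPow I (n + 1) (RefHull.homSh M N), U))
    (ℬ := fun n => Γ(RefHull.homSh M (Formal.modPow I (n + 1) N), U))
    (fun n => ((Formal.modPowπ I (n + 1) (RefHull.homSh M N)).app U).hom)
    (fun n => ?_)
    (fun n => ((Formal.modPowTrans I (n + 1) (RefHull.homSh M N)).app U).hom)
    (fun n θ => ?_)
    (fun n => ((epsHom I M N (n + 1)).app U).hom)
    (fun n => ((homShPost M (Formal.modPowTrans I (n + 1) N)).app U).hom)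
    (fun n x => ?_) k₁ (fun n θ h => ?_) y hy (fun n => ?_)
  · haveI : (Formal.modPow I (n + 1) (RefHull.homSh M N)).IsQuasicoherent :=
      Groth.Agent.Lib.Helper12.H12PS.isQuasicoherent_modPow A I _ (n + 1)
    exact app_surjective_of_epi (Formal.modPowπ I (n + 1) (RefHull.homSh M N)) hU
  · change (Formal.modPowπ I (n + 1 + 1) (RefHull.homSh M N) ≫
      Formal.modPowTrans I (n + 1) (RefHull.homSh M N)).app U θ = _
    rw [Formal.modPowπ_trans]
  · change (epsHom I M N (n + 1 + 1) ≫ homShPost M (Formal.modPowTrans I (n + 1) N)).app U x =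
      (Formal.modPowTrans I (n + 1) (RefHull.homSh M N) ≫ epsHom I M N (n + 1)).app U x
    rw [epsHom_trans]
  · apply hk₁ (n + 1) (n + k₁ + 1) (by omega) θ
    have h' : (Formal.modPowπ I (n + k₁ + 1) (RefHull.homSh M N) ≫
        epsHom I M N (n + k₁ + 1)).app U θ = 0 := h
    rw [modPowπ_epsHom] at h'
    exact h'
  · obtain ⟨θ, hθ⟩ := hk₂ (n + 1) (n + k₂ + 1) (by omega) (Nat.succ_le_succ (Nat.le_add_right n k₂))
      (y (n + k₂))
    refine ⟨θ, ?_⟩
    change (Formal.modPowπ I (n + 1) (RefHull.homSh M N) ≫ epsHom I M N (n + 1)).app U θ = y n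
    rw [modPowπ_epsHom, hθ]
    exact hC n (n + k₂) (Nat.le_add_right n k₂)

end Sheaf

end Groth.Agent.Lib.Helper12.H12Cpl
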