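import Mathlib
import Groth.Agent.Lib.Helper12.Cpl4
import Groth.Agent.Lib.Helper29.QCohExt

/-! # Completion full faithfulness, part 5: gluing the affine comparisons -/

set_option autoImplicit false
universe u
open CategoryTheory CategoryTheory.Limits AlgebraicGeometry TopologicalSpace Opposite

namespace Groth.Agent.Lib.Helper12.H12Cpl

open Groth.Agent.Lib.Helper29.QCoh Groth.Agent.Lib.Helper29.QCoh.Dual
  Groth.Agent.Lib.Helper29.QCoh.HomSec Groth.Agent.Lib.Helper4.ZC Groth.Agent.Lib.Helper12.H12FF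

variable {X : Scheme.{u}}

/-- gluing sections over the basis of affine opens -/
theorem exists_glue_affine (F : X.Modules) (s : ∀ U : X.affineOpens, Γ(F, U.1))
    (hs : ∀ (U V : X.affineOpens) (h : V.1 ≤ U.1), res F h (s U) = s V) :
    ∃ t : Γ(F, ⊤), ∀ U : X.affineOpens, res F le_top t = s U := by
  refine exists_gluing F (fun U : X.affineOpens => U.1) ⊤ (fun _ => le_top) ?_ s ?_
  · intro x _
    obtain ⟨U, hU, hxU, -⟩ := Opens.isBasis_iff_nbhd.mp X.isBasis_affineOpens (Opens.mem_top x)
    exact Opens.mem_iSup.mpr ⟨⟨U, hU⟩, hxU⟩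
  · intro a b
    apply section_ext
    intro z hz
    rw [germ_res, germ_res]
    obtain ⟨W, hW, hzW, hWab⟩ := Opens.isBasis_iff_nbhd.mp X.isBasis_affineOpens hz
    have ha : W ≤ a.1 := hWab.trans inf_le_left
    have hb : W ≤ b.1 := hWab.trans inf_le_right
    rw [← germ_res F ha z hzW, ← germ_res F hb z hzW, hs a ⟨W, hW⟩ ha, hs b ⟨W, hW⟩ hb]

theorem eq_of_res_affine (F : X.Modules) (t t' : Γ(F, ⊤))
    (h : ∀ U : X.affineOpens, res F (le_top : U.1 ≤ ⊤) t = res F le_top t') : t = t' := by
  apply section_ext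
  intro x hx
  obtain ⟨U, hU, hxU, -⟩ := Opens.isBasis_iff_nbhd.mp X.isBasis_affineOpens (Opens.mem_top x)
  rw [← germ_res F (le_top : U ≤ ⊤) x hxU, ← germ_res F (le_top : U ≤ ⊤) x hxU t', h ⟨U, hU⟩]

variable {A : Type u} [CommRing A] [IsNoetherianRing A] (I : Ideal A)
  [X.Over (Spec (CommRingCat.of A))] [IsLocallyNoetherian X] (M N : X.Modules)
  (hM : Coh.IsCoh M) (hN : Coh.IsCoh N)

include hM hN in
/-- **The global comparison**: compatible families of global sections of `𝓗om(M, N/I^(n+1)N)`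
lift uniquely to compatible families of global sections of `𝓗/I^(n+1)𝓗`. -/
theorem existsUnique_global
    (y : ∀ n, Γ(RefHull.homSh M (Formal.modPow I (n + 1) N), ⊤))
    (hy : ∀ n, (homShPost M (Formal.modPowTrans I (n + 1) N)).app ⊤ (y (n + 1)) = y n) :
    ∃! x : ∀ n, Γ(Formal.modPow I (n + 1) (RefHull.homSh M N), ⊤),
      (∀ n, (Formal.modPowTrans I (n + 1) (RefHull.homSh M N)).app ⊤ (x (n + 1)) = x n) ∧
        ∀ n, (epsHom I M N (n + 1)).app ⊤ (x n) = y n := by
  let yU : ∀ (U : X.affineOpens) (n : ℕ), Γ(RefHull.homSh M (Formal.modPow I (n + 1) N), U.1) :=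
    fun U n => res _ le_top (y n)
  have hyU : ∀ (U : X.affineOpens) (n : ℕ),
      (homShPost M (Formal.modPowTrans I (n + 1) N)).app U.1 (yU U (n + 1)) = yU U n := by
    intro U n
    change (homShPost M (Formal.modPowTrans I (n + 1) N)).app U.1 (res _ le_top (y (n + 1))) = _
    rw [app_res, hy n]
  have h := fun U : X.affineOpens => existsUnique_affine I M N hM hN U.2 (yU U) (hyU U)
  choose xU hxU using fun U => (h U).exists
  have hres : ∀ (U V : X.affineOpens) (hVU : V.1 ≤ U.1) (n : ℕ),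
      res _ hVU (xU U n) = xU V n := by
    intro U V hVU n
    have h1 : (fun n => res (Formal.modPow I (n + 1) (RefHull.homSh M N)) hVU (xU U n)) = xU V := by
      refine (h V).unique ⟨fun n => ?_, fun n => ?_⟩ (hxU V)
      · rw [app_res, (hxU U).1 n]
      · rw [app_res, (hxU U).2 n]
        exact res_res _ _ _ _
    exact congrFun h1 n
  choose x hx using fun n => exists_glue_affine _ (fun U => xU U n) (fun U V hVU => hres U V hVU n)
  refine ⟨x, ⟨fun n => ?_, fun n => ?_⟩, ?_⟩
  · apply eq_of_res_affine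
    intro U
    rw [← app_res, hx (n + 1) U, hx n U]
    exact (hxU U).1 n
  · apply eq_of_res_affine
    intro U
    rw [← app_res, hx n U]
    exact (hxU U).2 n
  · rintro x' ⟨hx'1, hx'2⟩
    funext n
    apply eq_of_res_affine
    intro U
    rw [hx n U]
    have h1 : (fun n => res (Formal.modPow I (n + 1) (RefHull.homSh M N))
        (le_top : U.1 ≤ ⊤) (x' n)) = xU U := by
      refine (h U).unique ⟨fun n => ?_, fun n => ?_⟩ (hxU U)
      · rw [app_res, hx'1 n]
      · rw [app_res, hx'2 n]
    exact congrFun h1 n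

end Groth.Agent.Lib.Helper12.H12Cpl
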