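import Mathlib
import Groth.Agent.Lib.Helper12.Cpl5
import Groth.Agent.Lib.Helper12.PS5
import Groth.Agent.Lib.Helper12.Dev2
import Groth.Agent.Lib.Helper29.Twist6

/-! # Completion full faithfulness, part 6: the completion functor is fully faithful on pairs of
coherent modules whose supports meet in a set proper over the (complete) base -/

set_option autoImplicit false
universe u
open CategoryTheory CategoryTheory.Limits AlgebraicGeometry TopologicalSpace Opposite

namespace Groth.Agent.Lib.Helper12.H12Cpl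

open Groth.Agent.Lib.Helper29.QCoh Groth.Agent.Lib.Helper29.QCoh.Dual
  Groth.Agent.Lib.Helper29.QCoh.HomSec Groth.Agent.Lib.Helper4.ZC Groth.Agent.Lib.Helper12.H12FF

/-- a closed subset of a set proper over the base is proper over the base -/
theorem isProperOver_of_subset {X S : Scheme.{u}} (f : X ⟶ S) [LocallyOfFiniteType f]
    (T : Set X) (hT : ClSub.IsProperOver f T) (Z : Set X) (hZ : IsClosed Z) (hZT : Z ⊆ T) :
    ClSub.IsProperOver f Z := by
  refine ⟨hZ, ?_⟩
  apply Groth.Agent.Lib.Helper12.H12PS.isProper_of_range_subset f T hT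
  rw [Scheme.IdealSheafData.range_subschemeι, Scheme.IdealSheafData.coe_support_vanishingIdeal]
  exact hZT

section HH0
variable {X : Scheme.{u}}

theorem hh0_map' {M N : X.Modules} (φ : M ⟶ N) (x : Coh.HH X M 0) :
    hh0 N (Sheaf.H.map ((SheafOfModules.toSheaf _).map φ) 0 x) = φ.app ⊤ (hh0 M x) :=
  (Sheaf.H.equiv₀_naturality (hT := (isTerminalTop : IsTerminal (⊤ : Opens X)))
    ((SheafOfModules.toSheaf _).map φ) x).symm

theorem hh0_symm_map' {M N : X.Modules} (φ : M ⟶ N) (m : Γ(M, ⊤)) :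
    Sheaf.H.map ((SheafOfModules.toSheaf _).map φ) 0 ((hh0 M).symm m) =
      (hh0 N).symm (φ.app ⊤ m) := by
  apply (hh0 N).injective
  rw [hh0_map', AddEquiv.apply_symm_apply, AddEquiv.apply_symm_apply]

end HH0

section FF
variable (A : Type u) [CommRing A] [IsNoetherianRing A] (I : Ideal A) [IsAdicComplete I A]
  (X : Scheme.{u}) [X.Over (Spec (CommRingCat.of A))]
  [LocallyOfFiniteType (X ↘ Spec (CommRingCat.of A))]
  (F : X.Modules) (hF : Coh.IsCoh F)
  (hsF : ClSub.IsProperOver (X ↘ Spec (CommRingCat.of A)) (CohB1.support F))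

include hF hsF in
theorem exists_section_of_compatible' (s : ∀ n, Γ(Formal.modPow I (n + 1) F, ⊤))
    (hs : ∀ n, (Formal.modPowTrans I (n + 1) F).app ⊤ (s (n + 1)) = s n) :
    ∃ m : Γ(F, ⊤), ∀ n, (Formal.modPowπ I (n + 1) F).app ⊤ m = s n := by
  have hb := (Groth.Agent.Lib.Helper12.H12PS.formal_functions_proper_support A I X F hF hsF 0).2
    inferInstance
  let y : Formal.HHlim I F 0 :=
    ⟨fun n => (hh0 (Formal.modPow I (n + 1) F)).symm (s n), fun n => by
      change Sheaf.H.map ((SheafOfModules.toSheaf _).map (Formal.modPowTrans I (n + 1) F)) 0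
        ((hh0 (Formal.modPow I (n + 1 + 1) F)).symm (s (n + 1))) = _
      rw [hh0_symm_map', hs n]⟩
  obtain ⟨x, hx⟩ := hb.2 y
  refine ⟨hh0 F x, fun n => ?_⟩
  have h1 : Formal.toHHmodPow I F 0 n x = (hh0 (Formal.modPow I (n + 1) F)).symm (s n) :=
    congrArg (fun z : Formal.HHlim I F 0 => z.1 n) hx
  have h2 := congrArg (hh0 (Formal.modPow I (n + 1) F)) h1
  rw [AddEquiv.apply_symm_apply] at h2
  rw [← h2]
  exact (hh0_map' (Formal.modPowπ I (n + 1) F) x).symm

include hF hsF in
theorem eq_zero_of_forall_modPowπ_eq_zero' (m : Γ(F, ⊤))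
    (hm : ∀ n, (Formal.modPowπ I (n + 1) F).app ⊤ m = 0) : m = 0 := by
  have hb := (Groth.Agent.Lib.Helper12.H12PS.formal_functions_proper_support A I X F hF hsF 0).2
    inferInstance
  have h1 : Formal.toHHlim I F 0 ((hh0 F).symm m) = 0 := by
    apply Subtype.ext
    funext n
    change Sheaf.H.map ((SheafOfModules.toSheaf _).map (Formal.modPowπ I (n + 1) F)) 0
      ((hh0 F).symm m) = 0
    rw [hh0_symm_map', hm n, map_zero]
  have h2 : (hh0 F).symm m = 0 := hb.1 (h1.trans (map_zero _).symm)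
  have h3 := congrArg (hh0 F) h2
  rwa [AddEquiv.apply_symm_apply, map_zero] at h3

end FF

section Main
variable (A : Type u) [CommRing A] [IsNoetherianRing A] (I : Ideal A) [IsAdicComplete I A]
  (X : Scheme.{u}) [X.Over (Spec (CommRingCat.of A))]
  [LocallyOfFiniteType (X ↘ Spec (CommRingCat.of A))]
  (M N : X.Modules) (hM : Coh.IsCoh M) (hN : Coh.IsCoh N)
  (hs : ClSub.IsProperOver (X ↘ Spec (CommRingCat.of A)) (CohB1.support M ∩ CohB1.support N))

include hM hN hs in
/-- **Compatible systems of morphisms `M ⟶ N/I^(n+1)N` come from a unique morphism `M ⟶ N`.** -/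
theorem existsUnique_hom (y : ∀ n, M ⟶ Formal.modPow I (n + 1) N)
    (hy : ∀ n, y (n + 1) ≫ Formal.modPowTrans I (n + 1) N = y n) :
    ∃! φ : M ⟶ N, ∀ n, φ ≫ Formal.modPowπ I (n + 1) N = y n := by
  haveI : IsLocallyNoetherian X :=
    LocallyOfFiniteType.isLocallyNoetherian (X ↘ Spec (CommRingCat.of A))
  haveI := hM.1
  haveI := hM.2
  have h𝓗 : Coh.IsCoh (RefHull.homSh M N) := isCoh_homSh M N hM hN
  haveI := h𝓗.1
  haveI := h𝓗.2
  have hs𝓗 : ClSub.IsProperOver (X ↘ Spec (CommRingCat.of A))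
      (CohB1.support (RefHull.homSh M N)) :=
    isProperOver_of_subset _ _ hs _
      (Groth.Agent.Lib.Helper12.H12Dev.isClosed_support (RefHull.homSh M N))
      (support_homSh_subset M N hM.2)
  let Y : ∀ n, Γ(RefHull.homSh M (Formal.modPow I (n + 1) N), ⊤) := fun n =>
    RefHull.ofHom (y n) ⊤
  have hY : ∀ n, (homShPost M (Formal.modPowTrans I (n + 1) N)).app ⊤ (Y (n + 1)) = Y n := by
    intro n
    change (homShPost M (Formal.modPowTrans I (n + 1) N)).app ⊤ (RefHull.ofHom (y (n + 1)) ⊤) = _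
    rw [homShPost_ofHom, hy n]
  obtain ⟨x, ⟨hx1, hx2⟩, hxu⟩ := existsUnique_global I M N hM hN Y hY
  obtain ⟨s, hs'⟩ := exists_section_of_compatible' A I X (RefHull.homSh M N) h𝓗 hs𝓗 x hx1
  have key : ∀ (φ : M ⟶ N) (n : ℕ), RefHull.ofHom (φ ≫ Formal.modPowπ I (n + 1) N) ⊤ =
      (epsHom I M N (n + 1)).app ⊤
        ((Formal.modPowπ I (n + 1) (RefHull.homSh M N)).app ⊤ (RefHull.ofHom φ ⊤)) := by
    intro φ n
    rw [← homShPost_ofHom, ← modPowπ_epsHom]
    rfl
  refine ⟨homOfGlobal s, fun n => ?_, fun φ' hφ' => ?_⟩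
  · apply ofHom_injective
    rw [key, ofHom_homOfGlobal, hs' n, hx2 n]
  · apply ofHom_injective
    rw [ofHom_homOfGlobal]
    have h1 : (fun n => (Formal.modPowπ I (n + 1) (RefHull.homSh M N)).app ⊤
        (RefHull.ofHom φ' ⊤)) = x := by
      apply hxu
      refine ⟨fun n => ?_, fun n => ?_⟩
      · change (Formal.modPowπ I (n + 1 + 1) (RefHull.homSh M N) ≫
          Formal.modPowTrans I (n + 1) (RefHull.homSh M N)).app ⊤ (RefHull.ofHom φ' ⊤) = _
        rw [Formal.modPowπ_trans]
      · rw [← key, hφ' n]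
    have h2 : RefHull.ofHom φ' ⊤ - s = 0 := by
      apply eq_zero_of_forall_modPowπ_eq_zero' A I X (RefHull.homSh M N) h𝓗 hs𝓗
      intro n
      rw [map_sub, hs' n, ← congrFun h1 n, sub_self]
    exact sub_eq_zero.mp h2

include hM hN hs in
/-- **Full faithfulness of completion on the pair `(M, N)`.** -/
theorem existsUnique_of_completion_hom (ψ : Formal.completion I M ⟶ Formal.completion I N) :
    ∃! φ : M ⟶ N, ∀ n : ℕ,
      Formal.modPowπ I (n + 1) M ≫ ψ.app (op n) = φ ≫ Formal.modPowπ I (n + 1) N := by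
  let y : ∀ n, M ⟶ Formal.modPow I (n + 1) N := fun n =>
    Formal.modPowπ I (n + 1) M ≫ ψ.app (op n)
  have hy : ∀ n, y (n + 1) ≫ Formal.modPowTrans I (n + 1) N = y n := by
    intro n
    have e1 : (Formal.completion I N).map (homOfLE (Nat.le_succ n)).op =
        Formal.modPowTrans I (n + 1) N := Functor.ofOpSequence_map_homOfLE_succ _ n
    have e2 : (Formal.completion I M).map (homOfLE (Nat.le_succ n)).op =
        Formal.modPowTrans I (n + 1) M := Functor.ofOpSequence_map_homOfLE_succ _ n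
    have nat := ψ.naturality (homOfLE (Nat.le_succ n)).op
    rw [e1, e2] at nat
    have nat' : ψ.app (op (n + 1)) ≫ Formal.modPowTrans I (n + 1) N =
        Formal.modPowTrans I (n + 1) M ≫ ψ.app (op n) := nat.symm
    have h3 : Formal.modPowπ I (n + 1 + 1) M ≫ ψ.app (op (n + 1)) ≫
        Formal.modPowTrans I (n + 1) N =
        Formal.modPowπ I (n + 1 + 1) M ≫ Formal.modPowTrans I (n + 1) M ≫ ψ.app (op n) :=
      congrArg (fun q => Formal.modPowπ I (n + 1 + 1) M ≫ q) nat'
    exact (Category.assoc _ _ _).trans (h3.trans ((Category.assoc _ _ _).symm.trans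
      (congrArg (fun q => q ≫ ψ.app (op n)) (Formal.modPowπ_trans I (n + 1) M))))
  obtain ⟨φ, h1, h2⟩ := existsUnique_hom A I X M N hM hN hs y hy
  exact ⟨φ, fun n => (h1 n).symm, fun φ' h' => h2 φ' fun n => (h' n).symm⟩

end Main

end Groth.Agent.Lib.Helper12.H12Cpl
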