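import Mathlib
import Groth.Agent.Lib.Helper12.Cpl3

/-! # Completion full faithfulness, part 7: sections of `F / I^k F` over an affine open, for an
arbitrary base ring (the ideal `I^k Γ(X, U)` being finitely generated) -/

set_option autoImplicit false
universe u
open CategoryTheory CategoryTheory.Limits AlgebraicGeometry TopologicalSpace Opposite

namespace Groth.Agent.Lib.Helper12.H12Cpl

open Groth.Agent.Lib.Helper29.QCoh Groth.Agent.Lib.Helper4.ZC Groth.Agent.Lib.Helper12.H12FF

variable {A : Type u} [CommRing A] {X : Scheme.{u}} [X.Over (Spec (CommRingCat.of A))]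

/-- the kernel of `F(U) → (F / I^k F)(U)` is `I^k F(U)`, for `U` affine and `I^k Γ(X, U)`
finitely generated -/
theorem mem_smul_top_of_modPowπ_app_eq_zero' (I : Ideal A) (k : ℕ)
    (F : X.Modules) [F.IsQuasicoherent] {U : X.Opens} (hU : IsAffineOpen U)
    (hfg : (JU I U ^ k).FG) (s : Γ(F, U))
    (hs : (Formal.modPowπ I k F).app U s = 0) :
    s ∈ JU I U ^ k • (⊤ : Submodule Γ(X, U) Γ(F, U)) := by
  classical
  have hJ : JU I U ^ k = Submodule.span Γ(X, U) (glHom U '' (↑(I ^ k) : Set A)) := by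
    rw [JU_pow]
    rfl
  rw [hJ] at hfg
  obtain ⟨s', hs'sub, hs'span⟩ := (Submodule.fg_span_iff_fg_span_finset_subset _).mp hfg
  have hch : ∀ b : ↥s', ∃ a : A, a ∈ I ^ k ∧ glHom U a = b.1 := fun b => by
    obtain ⟨a, ha, hab⟩ := hs'sub b.2
    exact ⟨a, ha, hab⟩
  choose g hgI hgb using hch
  let D : ↥s' → X.Modules := fun _ => F
  let φ : (⨁ D) ⟶ F := biproduct.desc (fun b : ↥s' => Formal.smulMod A F (g b))
  let τ : F ⟶ cokernel φ := cokernel.π φ
  have hgτ : ∀ b : ↥s', Formal.smulMod A F (g b) ≫ τ = 0 := by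
    intro b
    have h1 : biproduct.ι D b ≫ φ = Formal.smulMod A F (g b) := biproduct.ι_desc _ _
    rw [← h1, Category.assoc]
    change biproduct.ι D b ≫ φ ≫ cokernel.π φ = 0
    rw [cokernel.condition, comp_zero]
  -- multiplication by `a ∈ I^k` is killed by `τ` over opens inside `U`
  have hsub : ∀ (W : X.Opens) (_ : W ≤ U) (a : A) (_ : a ∈ I ^ k) (t' : Γ(F, W)),
      τ.app W (glHom W a • t') = 0 := by
    intro W hW a ha t'
    have ha' : glHom U a ∈ Submodule.span Γ(X, U) (↑s' : Set Γ(X, U)) := by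
      rw [← hs'span]
      exact Submodule.subset_span ⟨a, ha, rfl⟩
    obtain ⟨c, hc⟩ := Submodule.mem_span_finset'.mp ha'
    have h1 : glHom W a = ∑ b : ↥s', X.presheaf.map (homOfLE hW).op (c b) * glHom W (g b) := by
      rw [← res_glHom hW a, ← hc, map_sum]
      refine Finset.sum_congr rfl fun b _ => ?_
      rw [smul_eq_mul, map_mul, ← hgb b, res_glHom hW]
    rw [h1, Finset.sum_smul, map_sum]
    refine Finset.sum_eq_zero fun b _ => ?_
    have h3 : τ.app W (glHom W (g b) • t') = 0 := by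
      rw [← smulMod_app]
      change (Formal.smulMod A F (g b) ≫ τ).app W t' = 0
      rw [hgτ b]
      rfl
    rw [mul_smul, Scheme.Modules.Hom.app_smul, h3, smul_zero]
  -- cut off outside `U`
  let η := (Scheme.Modules.restrictAdjunction U.ι).unit.app (cokernel φ)
  have hkill : ∀ a ∈ I ^ k, Formal.smulMod A F a ≫ τ ≫ η = 0 := by
    intro a ha
    apply Scheme.Modules.hom_ext
    intro V
    ext t
    have hWV : U.ι ''ᵁ (U.ι ⁻¹ᵁ V) ≤ V := U.ι.image_preimage_le V
    have hWU : U.ι ''ᵁ (U.ι ⁻¹ᵁ V) ≤ U := U.ι_image_le _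
    have h1 : (Formal.smulMod A F a ≫ τ ≫ η).app V t =
        res (cokernel φ) hWV (τ.app V (glHom V a • t)) := rfl
    rw [h1, ← app_res, res_smul, res_glHom hWV a, hsub _ hWU a ha]
    rfl
  let τbar : Formal.modPow I k F ⟶ _ :=
    cokernel.desc (Formal.smulFamily (I ^ k) F) (τ ≫ η) (by
      apply Sigma.hom_ext
      intro a
      rw [← Category.assoc, ι_smulFamily, comp_zero]
      exact hkill a a.2)
  have hτbar : Formal.modPowπ I k F ≫ τbar = τ ≫ η := cokernel.π_desc _ _ _
  have h3 : (τ ≫ η).app U s = 0 := by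
    rw [← hτbar]
    change τbar.app U ((Formal.modPowπ I k F).app U s) = 0
    rw [hs, map_zero]
  have hWU : U.ι ''ᵁ (U.ι ⁻¹ᵁ U) = U := by
    rw [Scheme.Opens.ι_preimage_self, Scheme.Opens.ι_image_top]
  have h4 : res (cokernel φ) hWU.le (τ.app U s) = 0 := h3
  have h5 : τ.app U s = 0 := by
    apply res_injective_of_eq (cokernel φ) hWU
    rw [h4, map_zero]
  -- exactness over `U`
  let S : ShortComplex X.Modules := ShortComplex.mk φ τ (cokernel.condition φ)
  have hS : S.Exact := ShortComplex.exact_cokernel φ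
  haveI : (∐ D).IsQuasicoherent :=
    Groth.Agent.Lib.Helper17.QCohSubMax.isQuasicoherent_sigma D (fun _ => inferInstance)
  haveI : S.X₁.IsQuasicoherent :=
    Groth.Agent.Lib.Helper17.QCohSubMax.isQuasicoherent_of_iso' (biproduct.isoCoproduct D).symm
      inferInstance
  haveI : S.X₂.IsQuasicoherent := inferInstanceAs F.IsQuasicoherent
  have hex := app_exact_of_exact S hS hU
  obtain ⟨t, ht⟩ := (hex s).mp h5
  have ht' : φ.app U t = s := ht
  have htot : ∑ b : ↥s', (biproduct.ι D b).app U ((biproduct.π D b).app U t) = t := by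
    have h0 : (∑ b : ↥s', biproduct.π D b ≫ biproduct.ι D b) = 𝟙 (⨁ D) :=
      Limits.IsBilimit.total (biproduct.isBilimit D)
    have h1 : (∑ b : ↥s', biproduct.π D b ≫ biproduct.ι D b).app U t = t := by
      rw [h0]
      rfl
    rw [sum_app_apply] at h1
    exact h1
  rw [← ht', ← htot, map_sum]
  refine Submodule.sum_mem _ fun b _ => ?_
  have h2 : φ.app U ((biproduct.ι D b).app U ((biproduct.π D b).app U t)) =
      glHom U (g b) • (biproduct.π D b).app U t := by
    rw [← smulMod_app]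
    change (biproduct.ι D b ≫ φ).app U _ = _
    rw [biproduct.ι_desc]
  rw [h2]
  refine Submodule.smul_mem_smul ?_ Submodule.mem_top
  rw [JU_pow]
  exact Ideal.mem_map_of_mem _ (hgI b)

end Groth.Agent.Lib.Helper12.H12Cpl
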