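import Mathlib
import Groth.Agent.Lib.Helper12.Cpl5
import Groth.Agent.Lib.Helper12.Cpl7

/-! # Completion full faithfulness, part 8: the comparison of the two inverse systems over a
locally Noetherian scheme, for an arbitrary base ring -/

set_option autoImplicit false
universe u
open CategoryTheory CategoryTheory.Limits AlgebraicGeometry TopologicalSpace Opposite

namespace Groth.Agent.Lib.Helper12.H12Cpl

open Groth.Agent.Lib.Helper29.QCoh Groth.Agent.Lib.Helper29.QCoh.Dual
  Groth.Agent.Lib.Helper29.QCoh.HomSec Groth.Agent.Lib.Helper4.ZC Groth.Agent.Lib.Helper12.H12FF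

section Affine
variable {A : Type u} [CommRing A] (I : Ideal A) {X : Scheme.{u}}
  [X.Over (Spec (CommRingCat.of A))] (M N : X.Modules)

variable [IsLocallyNoetherian X] (hM : Coh.IsCoh M) (hN : Coh.IsCoh N)
  {U : X.Opens} (hU : IsAffineOpen U)

include hM hN hU in
theorem exists_inj_bound' : ∃ k : ℕ, ∀ (n m : ℕ), m = n + k →
    ∀ θ : Γ(RefHull.homSh M N, U),
      (homShPost M (Formal.modPowπ I m N)).app U θ = 0 →
        (Formal.modPowπ I n (RefHull.homSh M N)).app U θ = 0 := by
  haveI := hM.1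
  haveI := hM.2
  haveI := hN.1
  haveI := hN.2
  haveI : IsNoetherianRing Γ(X, U) := IsLocallyNoetherian.component_noetherian ⟨U, hU⟩
  haveI := module_finite_of_isFiniteType M hU
  haveI := module_finite_of_isFiniteType N hU
  obtain ⟨k, hk⟩ := exists_mem_smul_top_linearMap (JU I U) Γ(M, U) Γ(N, U)
  refine ⟨k, fun n m hm θ h0 => ?_⟩
  subst hm
  have h1 : ∀ v : Γ(M, U), evLinₗ M N U θ v ∈
      JU I U ^ (n + k) • (⊤ : Submodule Γ(X, U) Γ(N, U)) := by
    intro v
    apply mem_smul_top_of_modPowπ_app_eq_zero' I (n + k) N hU (IsNoetherian.noetherian _)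
    have h2 := ev_homShPost M (Formal.modPowπ I (n + k) N) θ v
    rw [h0, ev_zero] at h2
    exact h2.symm
  have h2 := hk n (evLinₗ M N U θ) h1
  have h3 : θ ∈ JU I U ^ n • (⊤ : Submodule Γ(X, U) Γ(RefHull.homSh M N, U)) := by
    have h4 : (JU I U ^ n • (⊤ : Submodule Γ(X, U) (Γ(M, U) →ₗ[Γ(X, U)] Γ(N, U)))).map
        (homSecEquiv M N hU).symm.toLinearMap ≤ JU I U ^ n • ⊤ := by
      rw [Submodule.map_smul'']
      exact Submodule.smul_mono le_rfl le_top
    have h5 := h4 (Submodule.mem_map_of_mem h2)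
    have h6 : (homSecEquiv M N hU).symm.toLinearMap (evLinₗ M N U θ) = θ :=
      (homSecEquiv M N hU).symm_apply_apply θ
    rw [h6] at h5
    exact h5
  exact modPowπ_app_eq_zero_of_mem I n _ U θ h3

include hM hN hU in
theorem exists_surj_bound' : ∃ k : ℕ, ∀ (n m : ℕ) (_ : m = n + k) (hnm : n ≤ m)
    (y : Γ(RefHull.homSh M (Formal.modPow I m N), U)),
    ∃ θ : Γ(RefHull.homSh M N, U),
      (homShPost M (Formal.modPowπ I n N)).app U θ =
        (homShPost M (modPowLe I N hnm)).app U y := by
  haveI := hM.1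
  haveI := hM.2
  haveI := hN.1
  haveI := hN.2
  haveI : IsNoetherianRing Γ(X, U) := IsLocallyNoetherian.component_noetherian ⟨U, hU⟩
  haveI := module_finite_of_isFiniteType M hU
  haveI := module_finite_of_isFiniteType N hU
  obtain ⟨k, hk⟩ := exists_lift_linearMap (JU I U) Γ(M, U) Γ(N, U)
  refine ⟨k, fun n m hm hnm y => ?_⟩
  subst hm
  haveI : (Formal.modPow I (n + k) N).IsQuasicoherent :=
    Groth.Agent.Lib.Helper12.H12PS.isQuasicoherent_modPow A I N (n + k)
  have hp : Function.Surjective (appₗ (Formal.modPowπ I (n + k) N) U) :=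
    app_surjective_of_epi (Formal.modPowπ I (n + k) N) hU
  have hker : LinearMap.ker (appₗ (Formal.modPowπ I (n + k) N) U) ≤
      JU I U ^ (n + k) • (⊤ : Submodule Γ(X, U) Γ(N, U)) := fun s hs =>
    mem_smul_top_of_modPowπ_app_eq_zero' I (n + k) N hU (IsNoetherian.noetherian _) s hs
  obtain ⟨h, hh⟩ := hk n _ (appₗ (Formal.modPowπ I (n + k) N) U) hp hker
    (evLinₗ M (Formal.modPow I (n + k) N) U y)
  refine ⟨(homSecEquiv M N hU).symm h, ?_⟩
  apply evLinₗ_injective hU
  apply LinearMap.ext
  intro v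
  rw [evLinₗ_apply, evLinₗ_apply, ev_homShPost, ev_homShPost]
  have h1 : ev ((homSecEquiv M N hU).symm h) v = h v :=
    LinearMap.congr_fun ((homSecEquiv M N hU).apply_symm_apply h) v
  rw [h1]
  obtain ⟨e, he, hhe⟩ := hh v
  have h2 : (Formal.modPowπ I n N).app U (h v) =
      (modPowLe I N hnm).app U ((Formal.modPowπ I (n + k) N).app U (h v)) := by
    change _ = (Formal.modPowπ I (n + k) N ≫ modPowLe I N hnm).app U (h v)
    rw [modPowπ_le]
  have h3 : (modPowLe I N hnm).app U ((Formal.modPowπ I (n + k) N).app U e) = 0 := by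
    change (Formal.modPowπ I (n + k) N ≫ modPowLe I N hnm).app U e = 0
    rw [modPowπ_le]
    exact modPowπ_app_eq_zero_of_mem I n N U e he
  have hhe' : (Formal.modPowπ I (n + k) N).app U (h v) =
      ev y v + (Formal.modPowπ I (n + k) N).app U e := hhe
  rw [h2, hhe', map_add, h3, add_zero]

include hM hN hU in
/-- **The comparison over an affine open**: compatible families of sections of
`𝓗om(M, N/I^(n+1)N)` lift uniquely to compatible families of sections of `𝓗/I^(n+1)𝓗`. -/
theorem existsUnique_affine'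
    (y : ∀ n, Γ(RefHull.homSh M (Formal.modPow I (n + 1) N), U))
    (hy : ∀ n, (homShPost M (Formal.modPowTrans I (n + 1) N)).app U (y (n + 1)) = y n) :
    ∃! x : ∀ n, Γ(Formal.modPow I (n + 1) (RefHull.homSh M N), U),
      (∀ n, (Formal.modPowTrans I (n + 1) (RefHull.homSh M N)).app U (x (n + 1)) = x n) ∧
        ∀ n, (epsHom I M N (n + 1)).app U (x n) = y n := by
  haveI := hM.1
  haveI := hM.2
  haveI := hN.1
  haveI := hN.2
  haveI : M.IsFinitePresentation := isFinitePresentation_of_isCoh M hM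
  haveI : (RefHull.homSh M N).IsQuasicoherent := isQuasicoherent_homSh M N
  obtain ⟨k₁, hk₁⟩ := exists_inj_bound' I M N hM hN hU
  obtain ⟨k₂, hk₂⟩ := exists_surj_bound' I M N hM hN hU
  -- multi-step compatibility
  have hC : ∀ (n j : ℕ) (h : n ≤ j),
      (homShPost M (modPowLe I N (Nat.succ_le_succ h))).app U (y j) = y n := by
    intro n j h
    induction j, h using Nat.le_induction with
    | base =>
      have e1 : modPowLe I N (Nat.succ_le_succ (le_refl n)) = 𝟙 _ := modPowLe_refl I N (n + 1)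
      rw [e1, homShPost_id]
      rfl
    | succ j hj ih =>
      have e1 : modPowLe I N (Nat.succ_le_succ (Nat.le_succ_of_le hj)) =
          Formal.modPowTrans I (j + 1) N ≫ modPowLe I N (Nat.succ_le_succ hj) :=
        modPowLe_succ I N (Nat.succ_le_succ hj)
      rw [e1, homShPost_comp]
      change (homShPost M (modPowLe I N (Nat.succ_le_succ hj))).app U
        ((homShPost M (Formal.modPowTrans I (j + 1) N)).app U (y (j + 1))) = y n
      rw [hy j, ih]
  refine existsUnique_lim_of_ML
    (H := Γ(RefHull.homSh M N, U))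
    (𝒜 := fun n => Γ(Formal.modPow I (n + 1) (RefHull.homSh M N), U))
    (ℬ := fun n => Γ(RefHull.homSh M (Formal.modPow I (n + 1) N), U))
    (fun n => ((Formal.modPowπ I (n + 1) (RefHull.homSh M N)).app U).hom)
    (fun n => ?_)
    (fun n => ((Formal.modPowTrans I (n + 1) (RefHull.homSh M N)).app U).hom)
    (fun n θ => ?_)
    (fun n => ((epsHom I M N (n + 1)).app U).hom)
    (fun n => ((homShPost M (Formal.modPowTrans I (n + 1) N)).app U).hom)
    (fun n x => ?_) k₁ (fun n θ h => ?_) y hy (fun n => ?_)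
  · haveI : (Formal.modPow I (n + 1) (RefHull.homSh M N)).IsQuasicoherent :=
      Groth.Agent.Lib.Helper12.H12PS.isQuasicoherent_modPow A I _ (n + 1)
    exact app_surjective_of_epi (Formal.modPowπ I (n + 1) (RefHull.homSh M N)) hU
  · change (Formal.modPowπ I (n + 1 + 1) (RefHull.homSh M N) ≫
      Formal.modPowTrans I (n + 1) (RefHull.homSh M N)).app U θ = _
    rw [Formal.modPowπ_trans]
  · change (epsHom I M N (n + 1 + 1) ≫ homShPost M (Formal.modPowTrans I (n + 1) N)).app U x =
      (Formal.modPowTrans I (n + 1) (RefHull.homSh M N) ≫ epsHom I M N (n + 1)).app U x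
    rw [epsHom_trans]
  · apply hk₁ (n + 1) (n + k₁ + 1) (by omega) θ
    have h' : (Formal.modPowπ I (n + k₁ + 1) (RefHull.homSh M N) ≫
        epsHom I M N (n + k₁ + 1)).app U θ = 0 := h
    rw [modPowπ_epsHom] at h'
    exact h'
  · obtain ⟨θ, hθ⟩ := hk₂ (n + 1) (n + k₂ + 1) (by omega) (Nat.succ_le_succ (Nat.le_add_right n k₂))
      (y (n + k₂))
    refine ⟨θ, ?_⟩
    change (Formal.modPowπ I (n + 1) (RefHull.homSh M N) ≫ epsHom I M N (n + 1)).app U θ = y n
    rw [modPowπ_epsHom, hθ]
    exact hC n (n + k₂) (Nat.le_add_right n k₂)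


end Affine

section Global
variable {X : Scheme.{u}}
variable {A : Type u} [CommRing A] (I : Ideal A)
  [X.Over (Spec (CommRingCat.of A))] [IsLocallyNoetherian X] (M N : X.Modules)
  (hM : Coh.IsCoh M) (hN : Coh.IsCoh N)

include hM hN in
/-- **The global comparison**: compatible families of global sections of `𝓗om(M, N/I^(n+1)N)`
lift uniquely to compatible families of global sections of `𝓗/I^(n+1)𝓗`. -/
theorem existsUnique_global'
    (y : ∀ n, Γ(RefHull.homSh M (Formal.modPow I (n + 1) N), ⊤))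
    (hy : ∀ n, (homShPost M (Formal.modPowTrans I (n + 1) N)).app ⊤ (y (n + 1)) = y n) :
    ∃! x : ∀ n, Γ(Formal.modPow I (n + 1) (RefHull.homSh M N), ⊤),
      (∀ n, (Formal.modPowTrans I (n + 1) (RefHull.homSh M N)).app ⊤ (x (n + 1)) = x n) ∧
        ∀ n, (epsHom I M N (n + 1)).app ⊤ (x n) = y n := by
  let yU : ∀ (U : X.affineOpens) (n : ℕ), Γ(RefHull.homSh M (Formal.modPow I (n + 1) N), U.1) :=
    fun U n => res _ le_top (y n)
  have hyU : ∀ (U : X.affineOpens) (n : ℕ),
      (homShPost M (Formal.modPowTrans I (n + 1) N)).app U.1 (yU U (n + 1)) = yU U n := by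
    intro U n
    change (homShPost M (Formal.modPowTrans I (n + 1) N)).app U.1 (res _ le_top (y (n + 1))) = _
    rw [app_res, hy n]
  have h := fun U : X.affineOpens => existsUnique_affine' I M N hM hN U.2 (yU U) (hyU U)
  choose xU hxU using fun U => (h U).exists
  have hres : ∀ (U V : X.affineOpens) (hVU : V.1 ≤ U.1) (n : ℕ),
      res _ hVU (xU U n) = xU V n := by
    intro U V hVU n
    have h1 : (fun n => res (Formal.modPow I (n + 1) (RefHull.homSh M N)) hVU (xU U n)) = xU V := by
      refine (h V).unique ⟨fun n => ?_, fun n => ?_⟩ (hxU V)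
      · rw [app_res, (hxU U).1 n]
      · rw [app_res, (hxU U).2 n]
        exact res_res _ _ _ _
    exact congrFun h1 n
  choose x hx using fun n => exists_glue_affine _ (fun U => xU U n) (fun U V hVU => hres U V hVU n)
  refine ⟨x, ⟨fun n => ?_, fun n => ?_⟩, ?_⟩
  · apply eq_of_res_affine
    intro U
    rw [← app_res, hx (n + 1) U, hx n U]
    exact (hxU U).1 n
  · apply eq_of_res_affine
    intro U
    rw [← app_res, hx n U]
    exact (hxU U).2 n
  · rintro x' ⟨hx'1, hx'2⟩
    funext n
    apply eq_of_res_affine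
    intro U
    rw [hx n U]
    have h1 : (fun n => res (Formal.modPow I (n + 1) (RefHull.homSh M N))
        (le_top : U.1 ≤ ⊤) (x' n)) = xU U := by
      refine (h U).unique ⟨fun n => ?_, fun n => ?_⟩ (hxU U)
      · rw [app_res, hx'1 n]
      · rw [app_res, hx'2 n]
    exact congrFun h1 n


end Global

end Groth.Agent.Lib.Helper12.H12Cpl
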