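import Mathlib
import Groth.Agent.Lib.Helper12.Cpl6
import Groth.Agent.Lib.Helper12.Cpl8

/-! # Completion full faithfulness, part 9: the general form (arbitrary base ring, locally
Noetherian scheme), from the comparison of `Γ(X, 𝓗)` with `lim Γ(X, 𝓗/I^(n+1)𝓗)` -/

set_option autoImplicit false
universe u
open CategoryTheory CategoryTheory.Limits AlgebraicGeometry TopologicalSpace Opposite

namespace Groth.Agent.Lib.Helper12.H12Cpl

open Groth.Agent.Lib.Helper29.QCoh Groth.Agent.Lib.Helper29.QCoh.Dual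
  Groth.Agent.Lib.Helper29.QCoh.HomSec Groth.Agent.Lib.Helper4.ZC Groth.Agent.Lib.Helper12.H12FF

variable {A : Type u} [CommRing A] (I : Ideal A) {X : Scheme.{u}}
  [X.Over (Spec (CommRingCat.of A))]

/-- "global sections of `F` are the limit of the global sections of `F/I^(n+1)F`" -/
def SecComplete (F : X.Modules) : Prop :=
  ∀ x : ∀ n, Γ(Formal.modPow I (n + 1) F, ⊤),
    (∀ n, (Formal.modPowTrans I (n + 1) F).app ⊤ (x (n + 1)) = x n) →
      ∃! s : Γ(F, ⊤), ∀ n, (Formal.modPowπ I (n + 1) F).app ⊤ s = x n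

section Bij

theorem secComplete_of_bijective (F : X.Modules)
    (hb : Function.Bijective (Formal.toHHlim I F 0)) : SecComplete I F := by
  intro s hs
  let y : Formal.HHlim I F 0 :=
    ⟨fun n => (hh0 (Formal.modPow I (n + 1) F)).symm (s n), fun n => by
      change Sheaf.H.map ((SheafOfModules.toSheaf _).map (Formal.modPowTrans I (n + 1) F)) 0
        ((hh0 (Formal.modPow I (n + 1 + 1) F)).symm (s (n + 1))) = _
      rw [hh0_symm_map', hs n]⟩
  obtain ⟨x, hx⟩ := hb.2 y
  have hex : ∀ n, (Formal.modPowπ I (n + 1) F).app ⊤ (hh0 F x) = s n := by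
    intro n
    have h1 : Formal.toHHmodPow I F 0 n x = (hh0 (Formal.modPow I (n + 1) F)).symm (s n) :=
      congrArg (fun z : Formal.HHlim I F 0 => z.1 n) hx
    have h2 := congrArg (hh0 (Formal.modPow I (n + 1) F)) h1
    rw [AddEquiv.apply_symm_apply] at h2
    rw [← h2]
    exact (hh0_map' (Formal.modPowπ I (n + 1) F) x).symm
  refine ⟨hh0 F x, hex, fun m' hm' => ?_⟩
  have hz : ∀ m : Γ(F, ⊤), (∀ n, (Formal.modPowπ I (n + 1) F).app ⊤ m = 0) → m = 0 := by
    intro m hm
    have h1 : Formal.toHHlim I F 0 ((hh0 F).symm m) = 0 := by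
      apply Subtype.ext
      funext n
      change Sheaf.H.map ((SheafOfModules.toSheaf _).map (Formal.modPowπ I (n + 1) F)) 0
        ((hh0 F).symm m) = 0
      rw [hh0_symm_map', hm n, map_zero]
    have h2 : (hh0 F).symm m = 0 := hb.1 (h1.trans (map_zero _).symm)
    have h3 := congrArg (hh0 F) h2
    rwa [AddEquiv.apply_symm_apply, map_zero] at h3
  have h4 : m' - hh0 F x = 0 := hz _ fun n => by rw [map_sub, hm' n, hex n, sub_self]
  exact sub_eq_zero.mp h4

end Bij

section Killed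

theorem isIso_modPowπ_of_killed (F : X.Modules) (c m : ℕ) (hcm : c ≤ m)
    (hk : Formal.KilledBy (I ^ c) F) : IsIso (Formal.modPowπ I m F) := by
  have h0 : Formal.smulFamily (I ^ m) F = 0 := by
    apply Sigma.hom_ext
    intro a
    rw [ι_smulFamily, comp_zero]
    exact hk a (Ideal.pow_le_pow_right hcm a.2)
  let inv' : Formal.modPow I m F ⟶ F :=
    cokernel.desc (Formal.smulFamily (I ^ m) F) (𝟙 F) (by rw [h0, zero_comp])
  have h1 : Formal.modPowπ I m F ≫ inv' = 𝟙 F := cokernel.π_desc _ _ _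
  refine ⟨inv', h1, ?_⟩
  rw [← cancel_epi (Formal.modPowπ I m F), ← Category.assoc, h1, Category.id_comp,
    Category.comp_id]

theorem secComplete_of_killed (F : X.Modules) (c : ℕ) (hk : Formal.KilledBy (I ^ c) F) :
    SecComplete I F := by
  intro x hx
  -- multi-step compatibility
  have hC : ∀ (n j : ℕ) (h : n ≤ j),
      (modPowLe I F (Nat.succ_le_succ h)).app ⊤ (x j) = x n := by
    intro n j h
    induction j, h using Nat.le_induction with
    | base =>
      have e1 : modPowLe I F (Nat.succ_le_succ (le_refl n)) = 𝟙 _ := modPowLe_refl I F (n + 1)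
      rw [e1]
      rfl
    | succ j hj ih =>
      have e1 : modPowLe I F (Nat.succ_le_succ (Nat.le_succ_of_le hj)) =
          Formal.modPowTrans I (j + 1) F ≫ modPowLe I F (Nat.succ_le_succ hj) :=
        modPowLe_succ I F (Nat.succ_le_succ hj)
      rw [e1]
      change (modPowLe I F (Nat.succ_le_succ hj)).app ⊤
        ((Formal.modPowTrans I (j + 1) F).app ⊤ (x (j + 1))) = x n
      rw [hx j, ih]
  have hiso : ∀ n, c ≤ n → IsIso (Formal.modPowπ I (n + 1) F) := fun n hn =>
    isIso_modPowπ_of_killed I F c (n + 1) (hn.trans (Nat.le_succ n)) hk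
  haveI := hiso c le_rfl
  have hinj : ∀ n, c ≤ n → Function.Injective ((Formal.modPowπ I (n + 1) F).app ⊤) := by
    intro n hn a b hab
    haveI := hiso n hn
    have h1 := congrArg ((inv (Formal.modPowπ I (n + 1) F)).app ⊤) hab
    have h2 : ∀ z : Γ(F, ⊤), (inv (Formal.modPowπ I (n + 1) F)).app ⊤
        ((Formal.modPowπ I (n + 1) F).app ⊤ z) = z := by
      intro z
      change (Formal.modPowπ I (n + 1) F ≫ inv (Formal.modPowπ I (n + 1) F)).app ⊤ z = z
      rw [IsIso.hom_inv_id]
      rfl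
    rw [h2, h2] at h1
    exact h1
  let s : Γ(F, ⊤) := (inv (Formal.modPowπ I (c + 1) F)).app ⊤ (x c)
  have hs : (Formal.modPowπ I (c + 1) F).app ⊤ s = x c := by
    change (inv (Formal.modPowπ I (c + 1) F) ≫ Formal.modPowπ I (c + 1) F).app ⊤ (x c) = x c
    rw [IsIso.inv_hom_id]
    rfl
  have hle : ∀ (n j : ℕ) (h : n ≤ j) (z : Γ(F, ⊤)),
      (modPowLe I F (Nat.succ_le_succ h)).app ⊤ ((Formal.modPowπ I (j + 1) F).app ⊤ z) =
        (Formal.modPowπ I (n + 1) F).app ⊤ z := by
    intro n j h z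
    change (Formal.modPowπ I (j + 1) F ≫ modPowLe I F (Nat.succ_le_succ h)).app ⊤ z = _
    rw [modPowπ_le]
  refine ⟨s, fun n => ?_, fun s' hs' => ?_⟩
  · rcases Nat.le_total n c with h | h
    · rw [← hle n c h s, hs, hC n c h]
    · -- `n ≥ c`: the transition map `𝓗_n → 𝓗_c` is injective on sections
      haveI := hiso n h
      have h3 : (modPowLe I F (Nat.succ_le_succ h)).app ⊤
          ((Formal.modPowπ I (n + 1) F).app ⊤ s) =
          (modPowLe I F (Nat.succ_le_succ h)).app ⊤ (x n) := by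
        rw [hle c n h s, hs, hC c n h]
      -- write `x n = π z`
      have hsurj : ∃ z : Γ(F, ⊤), (Formal.modPowπ I (n + 1) F).app ⊤ z = x n := by
        refine ⟨(inv (Formal.modPowπ I (n + 1) F)).app ⊤ (x n), ?_⟩
        change (inv (Formal.modPowπ I (n + 1) F) ≫ Formal.modPowπ I (n + 1) F).app ⊤ (x n) = x n
        rw [IsIso.inv_hom_id]
        rfl
      obtain ⟨z, hz⟩ := hsurj
      rw [← hz, hle c n h s, hle c n h z] at h3
      rw [← hz, hinj c le_rfl h3]
  · exact hinj c le_rfl ((hs' c).trans hs.symm)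

/-- the germ of a function killing `P` kills the stalks of `P` -/
theorem germ_glHom_smul_eq_zero (P : X.Modules) (a : A) (h : Formal.smulMod A P a = 0)
    (U : X.Opens) (y : X) (hy : y ∈ U) (w : P.presheaf.stalk y) :
    X.presheaf.germ U y hy (glHom U a) • w = 0 := by
  obtain ⟨W, hyW, n, hn⟩ := TopCat.Presheaf.exists_germ_eq P.presheaf w
  have h1 : (Formal.smulMod A P a).app (W ⊓ U) (res P inf_le_left n) = 0 := by
    rw [h]
    rfl
  rw [smulMod_app] at h1
  have h2 := congrArg (P.presheaf.germ (W ⊓ U) y ⟨hyW, hy⟩) h1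
  rw [germ_smul, germ_res, hn, map_zero, ← res_glHom (inf_le_right : W ⊓ U ≤ U) a,
    TopCat.Presheaf.germ_res_apply] at h2
  exact h2

/-- if `a` kills `M` then it kills `𝓗om(M, P)` -/
theorem smulMod_homSh_eq_zero_of_source (M P : X.Modules) (a : A)
    (h : Formal.smulMod A M a = 0) : Formal.smulMod A (RefHull.homSh M P) a = 0 := by
  apply Scheme.Modules.hom_ext
  intro U
  ext θ
  rw [smulMod_app]
  change glHom U a • θ = 0
  apply homSh_ext
  intro y hy
  apply LinearMap.ext
  intro v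
  change X.presheaf.germ U y hy (glHom U a) • θ.1 ⟨y, hy⟩ v = 0
  rw [← map_smul, germ_glHom_smul_eq_zero M a h U y hy v, map_zero]

end Killed

section Main
variable [IsLocallyNoetherian X] (M N : X.Modules) (hM : Coh.IsCoh M) (hN : Coh.IsCoh N)
  (hFF : SecComplete I (RefHull.homSh M N))

include hM hN hFF in
theorem existsUnique_hom' (y : ∀ n, M ⟶ Formal.modPow I (n + 1) N)
    (hy : ∀ n, y (n + 1) ≫ Formal.modPowTrans I (n + 1) N = y n) :
    ∃! φ : M ⟶ N, ∀ n, φ ≫ Formal.modPowπ I (n + 1) N = y n := by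
  let Y : ∀ n, Γ(RefHull.homSh M (Formal.modPow I (n + 1) N), ⊤) := fun n =>
    RefHull.ofHom (y n) ⊤
  have hY : ∀ n, (homShPost M (Formal.modPowTrans I (n + 1) N)).app ⊤ (Y (n + 1)) = Y n := by
    intro n
    change (homShPost M (Formal.modPowTrans I (n + 1) N)).app ⊤ (RefHull.ofHom (y (n + 1)) ⊤) = _
    rw [homShPost_ofHom, hy n]
  obtain ⟨x, ⟨hx1, hx2⟩, hxu⟩ := existsUnique_global' I M N hM hN Y hY
  obtain ⟨s, hs', hsu⟩ := hFF x hx1
  have key : ∀ (φ : M ⟶ N) (n : ℕ), RefHull.ofHom (φ ≫ Formal.modPowπ I (n + 1) N) ⊤ =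
      (epsHom I M N (n + 1)).app ⊤
        ((Formal.modPowπ I (n + 1) (RefHull.homSh M N)).app ⊤ (RefHull.ofHom φ ⊤)) := by
    intro φ n
    rw [← homShPost_ofHom, ← modPowπ_epsHom]
    rfl
  refine ⟨homOfGlobal s, fun n => ?_, fun φ' hφ' => ?_⟩
  · apply ofHom_injective
    rw [key, ofHom_homOfGlobal, hs' n, hx2 n]
  · apply ofHom_injective
    rw [ofHom_homOfGlobal]
    have h1 : (fun n => (Formal.modPowπ I (n + 1) (RefHull.homSh M N)).app ⊤
        (RefHull.ofHom φ' ⊤)) = x := by
      apply hxu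
      refine ⟨fun n => ?_, fun n => ?_⟩
      · change (Formal.modPowπ I (n + 1 + 1) (RefHull.homSh M N) ≫
          Formal.modPowTrans I (n + 1) (RefHull.homSh M N)).app ⊤ (RefHull.ofHom φ' ⊤) = _
        rw [Formal.modPowπ_trans]
      · rw [← key, hφ' n]
    exact hsu _ fun n => congrFun h1 n

include hM hN hFF in
theorem existsUnique_of_completion_hom' (ψ : Formal.completion I M ⟶ Formal.completion I N) :
    ∃! φ : M ⟶ N, ∀ n : ℕ,
      Formal.modPowπ I (n + 1) M ≫ ψ.app (op n) = φ ≫ Formal.modPowπ I (n + 1) N := by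
  let y : ∀ n, M ⟶ Formal.modPow I (n + 1) N := fun n =>
    Formal.modPowπ I (n + 1) M ≫ ψ.app (op n)
  have hy : ∀ n, y (n + 1) ≫ Formal.modPowTrans I (n + 1) N = y n := by
    intro n
    have e1 : (Formal.completion I N).map (homOfLE (Nat.le_succ n)).op =
        Formal.modPowTrans I (n + 1) N := Functor.ofOpSequence_map_homOfLE_succ _ n
    have e2 : (Formal.completion I M).map (homOfLE (Nat.le_succ n)).op =
        Formal.modPowTrans I (n + 1) M := Functor.ofOpSequence_map_homOfLE_succ _ n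
    have nat := ψ.naturality (homOfLE (Nat.le_succ n)).op
    rw [e1, e2] at nat
    have nat' : ψ.app (op (n + 1)) ≫ Formal.modPowTrans I (n + 1) N =
        Formal.modPowTrans I (n + 1) M ≫ ψ.app (op n) := nat.symm
    have h3 : Formal.modPowπ I (n + 1 + 1) M ≫ ψ.app (op (n + 1)) ≫
        Formal.modPowTrans I (n + 1) N =
        Formal.modPowπ I (n + 1 + 1) M ≫ Formal.modPowTrans I (n + 1) M ≫ ψ.app (op n) :=
      congrArg (fun q => Formal.modPowπ I (n + 1 + 1) M ≫ q) nat'
    exact (Category.assoc _ _ _).trans (h3.trans ((Category.assoc _ _ _).symm.trans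
      (congrArg (fun q => q ≫ ψ.app (op n)) (Formal.modPowπ_trans I (n + 1) M))))
  obtain ⟨φ, h1, h2⟩ := existsUnique_hom' I M N hM hN hFF y hy
  exact ⟨φ, fun n => (h1 n).symm, fun φ' h' => h2 φ' fun n => (h' n).symm⟩

end Main

end Groth.Agent.Lib.Helper12.H12Cpl
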