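import Mathlib
import Groth.Agent.Lib.Helper2.HilbZeta

set_option autoImplicit false
universe u

namespace H12S15152

open Polynomial Groth.Agent.Lib.Helper2.HilbZeta

variable {k : Type u} [Field k] {s : ℕ}
  (R : Subalgebra k (Fin s → PowerSeries k))
  (c : Fin s → ℕ)
  (hc : ∀ f : Fin s → PowerSeries k,
      (∀ g : Fin s → PowerSeries k, g * f ∈ R) ↔ ∀ i, ((c i : ℕ) : ℕ∞) ≤ (f i).order)
  (A : Subalgebra k (Fin s → Polynomial k))
  (hA : ∀ g : Fin s → Polynomial k, g ∈ A ↔ (fun i => ((g i : Polynomial k) : PowerSeries k)) ∈ R)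

/-- the uniform exponent -/
def m (c : Fin s → ℕ) : ℕ := Finset.univ.sup c + 1

lemma c_le_m (i : Fin s) : c i ≤ m c := by
  unfold m
  have : c i ≤ Finset.univ.sup c := Finset.le_sup (f := c) (Finset.mem_univ i)
  omega

lemma m_pos : 0 < m c := by unfold m; omega

lemma le_order_coe_of_dvd (n : ℕ) (p : Polynomial k) (h : (X : Polynomial k) ^ n ∣ p) :
    (n : ℕ∞) ≤ (p : PowerSeries k).order := by
  rw [le_order_iff_X_pow_dvd]
  obtain ⟨q, rfl⟩ := h
  refine ⟨(q : PowerSeries k), ?_⟩
  rw [Polynomial.coe_mul, Polynomial.coe_pow, Polynomial.coe_X]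

include hc hA in
lemma mem_A_of_dvd (p : Fin s → Polynomial k) (hp : ∀ i, (X : Polynomial k) ^ (c i) ∣ p i) :
    p ∈ A := by
  rw [hA]
  exact mem_of_le_order R c hc _ (fun i => le_order_coe_of_dvd _ _ (hp i))

include hc hA in
lemma mem_A_of_dvd_m (p : Fin s → Polynomial k) (hp : ∀ i, (X : Polynomial k) ^ (m c) ∣ p i) :
    p ∈ A :=
  mem_A_of_dvd R c hc A hA p (fun i => (pow_dvd_pow _ (c_le_m c i)).trans (hp i))

include hA in
lemma conj2 (hloc : ∀ f ∈ R, ∀ i j : Fin s,
      PowerSeries.constantCoeff (f i) = PowerSeries.constantCoeff (f j))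
    (e : Fin s → Polynomial k) (he : e ∈ A) (hee : e * e = e) : e = 0 ∨ e = 1 := by
  have h1 : ∀ i, e i = 0 ∨ e i = 1 := by
    intro i
    have : e i * e i = e i := congrFun hee i
    have h2 : e i * (e i - 1) = 0 := by rw [mul_sub, this, mul_one, sub_self]
    rcases mul_eq_zero.mp h2 with h | h
    · exact Or.inl h
    · exact Or.inr (sub_eq_zero.mp h)
  have h2 : ∀ i j, (e i).coeff 0 = (e j).coeff 0 := by
    intro i j
    have := hloc _ ((hA e).mp he) i j
    simpa [Polynomial.coeff_coe] using this
  by_cases h : ∃ i, e i = 1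
  · obtain ⟨i, hi⟩ := h
    right
    funext j
    rcases h1 j with hj | hj
    · exfalso
      have := h2 i j
      rw [hi, hj] at this
      simp at this
    · exact hj
  · left
    funext j
    rcases h1 j with hj | hj
    · exact hj
    · exact absurd ⟨j, hj⟩ h

include hc hA in
lemma conj4 : ∃ N : ℕ, ∀ g : Fin N → (Fin s → Polynomial k),
      (∀ n, g n ∈ A ∧ ∀ i, (g n i).coeff 0 = 0) → ∀ p : Fin s → Polynomial k, p * ∏ n, g n ∈ A := by
  refine ⟨m c, fun g hg p => ?_⟩
  apply mem_A_of_dvd_m R c hc A hA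
  intro i
  rw [Pi.mul_apply, Finset.prod_apply]
  apply Dvd.dvd.mul_left
  have : (X : Polynomial k) ^ (m c) = ∏ _n : Fin (m c), (X : Polynomial k) := by
    simp
  rw [this]
  apply Finset.prod_dvd_prod_of_dvd
  intro n _
  rw [Polynomial.X_dvd_iff]
  exact (hg n).2 i

lemma le_order_sub_trunc (M : ℕ) (f : PowerSeries k) :
    (M : ℕ∞) ≤ (f - ((PowerSeries.trunc M f : Polynomial k) : PowerSeries k)).order := by
  apply PowerSeries.le_order
  intro j hj
  have hj' : j < M := by exact_mod_cast hj
  rw [map_sub, Polynomial.coeff_coe, PowerSeries.coeff_trunc, if_pos hj', sub_self]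

include hc hA in
lemma conj5 (f : Fin s → PowerSeries k) (hf : f ∈ R) (N : ℕ) :
    ∃ g ∈ A, ∀ i : Fin s, (N : ℕ∞) ≤ (f i - ((g i : Polynomial k) : PowerSeries k)).order := by
  set M := max N (m c) with hM
  refine ⟨fun i => PowerSeries.trunc M (f i), ?_, fun i => ?_⟩
  · rw [hA]
    have h1 : (f - fun i => ((PowerSeries.trunc M (f i) : Polynomial k) : PowerSeries k)) ∈ R := by
      apply mem_of_le_order R c hc
      intro i
      refine le_trans ?_ (le_order_sub_trunc M (f i))
      have : c i ≤ M := (c_le_m c i).trans (le_max_right _ _)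
      exact_mod_cast this
    have := R.sub_mem hf h1
    rwa [sub_sub_cancel] at this
  · refine le_trans ?_ (le_order_sub_trunc M (f i))
    have : N ≤ M := le_max_left _ _
    exact_mod_cast this

include hc hA in
lemma conj6 (N : ℕ) : ∃ M : ℕ, ∀ g : ↥A,
    (∀ i : Fin s, Polynomial.X ^ M ∣ (g : Fin s → Polynomial k) i) →
      g ∈ (Ideal.span {h : ↥A | ∀ i : Fin s, ((h : Fin s → Polynomial k) i).coeff 0 = 0}) ^ N := by
  refine ⟨N * m c, fun g hg => ?_⟩
  cases N with
  | zero => rw [pow_zero, Ideal.one_eq_top]; trivial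
  | succ n =>
    choose q hq using hg
    have htA : (fun _ : Fin s => (X : Polynomial k) ^ (m c)) ∈ A :=
      mem_A_of_dvd_m R c hc A hA _ (fun i => dvd_rfl)
    have hhA : (fun i : Fin s => (X : Polynomial k) ^ (m c) * q i) ∈ A :=
      mem_A_of_dvd_m R c hc A hA _ (fun i => Dvd.intro _ rfl)
    set I := Ideal.span {h : ↥A | ∀ i : Fin s, ((h : Fin s → Polynomial k) i).coeff 0 = 0}
    have ht : (⟨_, htA⟩ : ↥A) ∈ I := by
      apply Ideal.subset_span
      intro i
      show ((X : Polynomial k) ^ (m c)).coeff 0 = 0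
      rw [Polynomial.coeff_X_pow, if_neg (m_pos c).ne]
    have hh : (⟨_, hhA⟩ : ↥A) ∈ I := by
      apply Ideal.subset_span
      intro i
      show ((X : Polynomial k) ^ (m c) * q i).coeff 0 = 0
      rw [← Polynomial.X_dvd_iff]
      exact Dvd.dvd.mul_right (dvd_pow_self _ (m_pos c).ne') _
    have hg' : g = (⟨_, htA⟩ : ↥A) ^ n * ⟨_, hhA⟩ := by
      apply Subtype.ext
      funext i
      show (g : Fin s → Polynomial k) i = ((X : Polynomial k) ^ (m c)) ^ n * (X ^ (m c) * q i)
      rw [hq i, ← pow_mul, ← mul_assoc, ← pow_add]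
      congr 2
      ring
    rw [hg', pow_succ]
    exact Ideal.mul_mem_mul (Ideal.pow_mem_pow ht n) hh


section Fin

variable {k : Type u} [Field k] {s : ℕ}
  (A : Subalgebra k (Fin s → Polynomial k)) (m : ℕ)
  (hm : ∀ p : Fin s → Polynomial k, (∀ i, (X : Polynomial k) ^ m ∣ p i) → p ∈ A)

include hm in
lemma conj3 : Module.Finite ↥A (Fin s → Polynomial k) := by
  classical
  let S : Finset (Fin s → Polynomial k) :=
    insert 1 (Finset.image (fun ij : Fin s × Fin m => Pi.single ij.1 ((X : Polynomial k) ^ (ij.2 : ℕ)))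
      Finset.univ)
  refine ⟨⟨S, ?_⟩⟩
  rw [eq_top_iff]
  rintro p -
  have h1 : (1 : Fin s → Polynomial k) ∈ Submodule.span ↥A (S : Set (Fin s → Polynomial k)) :=
    Submodule.subset_span (by simp [S])
  have h2 : ∀ (i : Fin s) (j : ℕ), j < m → Pi.single i ((X : Polynomial k) ^ j) ∈
      Submodule.span ↥A (S : Set (Fin s → Polynomial k)) := by
    intro i j hj
    apply Submodule.subset_span
    simp only [S, Finset.coe_insert, Finset.coe_image, Finset.coe_univ, Set.image_univ,
      Set.mem_insert_iff, Set.mem_range]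
    right
    exact ⟨(i, ⟨j, hj⟩), rfl⟩
  have h3 : ∀ (i : Fin s) (q : Polynomial k), Pi.single i q ∈
      Submodule.span ↥A (S : Set (Fin s → Polynomial k)) := by
    intro i q
    have hmon : ((X : Polynomial k) ^ m).Monic := Polynomial.monic_X_pow m
    have hq : q = q %ₘ (X ^ m) + X ^ m * (q /ₘ (X ^ m)) := (Polynomial.modByMonic_add_div q (X ^ m)).symm
    rw [hq, Pi.single_add]
    apply Submodule.add_mem
    · set r := q %ₘ (X ^ m) with hr
      have hdeg : r.degree < (m : WithBot ℕ) := by
        have := Polynomial.degree_modByMonic_lt q hmon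
        rwa [Polynomial.degree_X_pow] at this
      have hr' : r = ∑ j ∈ Finset.range m, Polynomial.monomial j (r.coeff j) := by
        by_cases hr0 : r = 0
        · rw [hr0]; simp
        · apply Polynomial.as_sum_range' r m
          exact (Polynomial.natDegree_lt_iff_degree_lt hr0).mpr hdeg
      rw [hr']
      have : Pi.single i (∑ j ∈ Finset.range m, Polynomial.monomial j (r.coeff j)) =
          ∑ j ∈ Finset.range m, Pi.single (M := fun _ : Fin s => Polynomial k) i
            (Polynomial.monomial j (r.coeff j)) := by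
        funext t
        rw [Finset.sum_apply]
        by_cases hti : t = i
        · subst hti; simp
        · simp [Pi.single_eq_of_ne hti]
      rw [this]
      apply Submodule.sum_mem
      intro j hj
      have hj' : j < m := Finset.mem_range.mp hj
      have : Pi.single (M := fun _ : Fin s => Polynomial k) i (Polynomial.monomial j (r.coeff j)) =
          (algebraMap k ↥A (r.coeff j)) • Pi.single (M := fun _ : Fin s => Polynomial k) i
            ((X : Polynomial k) ^ j) := by
        rw [algebraMap_smul, ← Pi.single_smul, Polynomial.smul_X_eq_monomial]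
      rw [this]
      exact Submodule.smul_mem _ _ (h2 i j hj')
    · have hmem : Pi.single (M := fun _ : Fin s => Polynomial k) i (X ^ m * (q /ₘ (X ^ m))) ∈ A := by
        apply hm
        intro t
        by_cases hti : t = i
        · subst hti; simp
        · simp [Pi.single_eq_of_ne hti]
      have : Pi.single (M := fun _ : Fin s => Polynomial k) i (X ^ m * (q /ₘ (X ^ m))) =
          (⟨_, hmem⟩ : ↥A) • (1 : Fin s → Polynomial k) := by
        rw [Subalgebra.smul_def, smul_eq_mul, mul_one]
      rw [this]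
      exact Submodule.smul_mem _ _ h1
  rw [← Finset.univ_sum_single p]
  exact Submodule.sum_mem _ (fun i _ => h3 i (p i))

instance finiteType_pi : Algebra.FiniteType k (Fin s → Polynomial k) :=
  Algebra.FiniteType.trans (S := Polynomial k) inferInstance inferInstance

include hm in
lemma conj1 : Algebra.FiniteType k ↥A := by
  haveI := conj3 A m hm
  refine ⟨fg_of_fg_of_fg k ↥A (Fin s → Polynomial k) ?_ ?_ ?_⟩
  · exact (finiteType_pi (k := k) (s := s)).out
  · exact Module.Finite.fg_top
  · exact Subtype.val_injective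


end Fin

end H12S15152
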