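import Mathlib
import Groth.Statements.S1838

universe u v

open CycDet IsLocalRing

namespace H12CycDet

variable {R : Type u} [CommRing R] [IsLocalRing R] {M : Type v} [AddCommGroup M] [Module R M] {l : ℕ}

lemma spanBefore_mono (e : Fin l → M) {i j : ℕ} (h : i ≤ j) :
    spanBefore R M e i ≤ spanBefore R M e j :=
  Submodule.span_mono (Set.image_mono (fun x (hx : (x : ℕ) < i) => lt_of_lt_of_le hx h))

lemma mem_spanBefore (e : Fin l → M) {j : Fin l} {i : ℕ} (h : (j : ℕ) < i) :
    e j ∈ spanBefore R M e i :=
  Submodule.subset_span ⟨j, h, rfl⟩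

lemma spanBefore_succ (e : Fin l → M) (i : Fin l) :
    spanBefore R M e ((i : ℕ) + 1) = spanBefore R M e i ⊔ Submodule.span R {e i} := by
  unfold spanBefore
  rw [← Submodule.span_union]
  congr 1
  ext x
  constructor
  · rintro ⟨j, hj, rfl⟩
    rcases Nat.lt_succ_iff_lt_or_eq.mp hj with h | h
    · exact Or.inl ⟨j, h, rfl⟩
    · right
      have : j = i := Fin.ext h
      rw [this]; rfl
  · rintro (⟨j, hj, rfl⟩ | h)
    · exact ⟨j, Nat.lt_succ_of_lt hj, rfl⟩
    · rw [Set.mem_singleton_iff] at h
      exact ⟨i, Nat.lt_succ_self _, h.symm⟩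

lemma spanBefore_congr (e e' : Fin l → M) (i : ℕ) (h : ∀ j : Fin l, (j : ℕ) < i → e j = e' j) :
    spanBefore R M e i = spanBefore R M e' i := by
  unfold spanBefore
  congr 1
  exact Set.image_congr h

lemma spanBefore_zero (e : Fin l → M) : spanBefore R M e 0 = ⊥ := by
  unfold spanBefore
  have : {j : Fin l | (j : ℕ) < 0} = ∅ := by ext j; simp
  rw [this, Set.image_empty, Submodule.span_empty]

lemma spanBefore_len (e : Fin l → M) : spanBefore R M e l = Submodule.span R (Set.range e) := by
  unfold spanBefore
  have : {j : Fin l | (j : ℕ) < l} = Set.univ := by ext j; simp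
  rw [this, Set.image_univ]

lemma spanBefore_update (e : Fin l → M) (i : Fin l) (y : M) (c : Rˣ)
    (hy : y - (c : R) • e i ∈ spanBefore R M e i) (j : ℕ) :
    spanBefore R M (Function.update e i y) j = spanBefore R M e j := by
  have hle : ∀ j : ℕ, j ≤ i → spanBefore R M (Function.update e i y) j = spanBefore R M e j := by
    intro j hj
    apply spanBefore_congr
    intro t ht
    rw [Function.update_of_ne]
    intro h
    rw [h] at ht
    omega
  rcases le_or_gt j (i : ℕ) with hj | hj
  · exact hle j hj
  · apply le_antisymm
    · apply Submodule.span_le.mpr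
      rintro _ ⟨t, ht, rfl⟩
      by_cases hti : t = i
      · subst hti
        rw [Function.update_self]
        have h1 : (c : R) • e t ∈ spanBefore R M e j :=
          Submodule.smul_mem _ _ (mem_spanBefore e hj)
        have h2 := spanBefore_mono e hj.le hy
        have := Submodule.add_mem _ h2 h1
        simpa using this
      · rw [Function.update_of_ne hti]
        exact mem_spanBefore e ht
    · apply Submodule.span_le.mpr
      rintro _ ⟨t, ht, rfl⟩
      by_cases hti : t = i
      · subst hti
        set e' := Function.update e t y with he'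
        have h1 : y ∈ spanBefore R M e' j := by
          have := mem_spanBefore (R := R) e' hj
          rwa [he', Function.update_self] at this
        have h2 : y - (c : R) • e t ∈ spanBefore R M e' j := by
          apply spanBefore_mono e' hj.le
          rw [hle _ le_rfl]
          exact hy
        have h3 : (c : R) • e t ∈ spanBefore R M e' j := by
          have := Submodule.sub_mem _ h1 h2
          simpa using this
        have := Submodule.smul_mem _ ((c⁻¹ : Rˣ) : R) h3
        rwa [smul_smul, Units.inv_mul, one_smul] at this
      · have := mem_spanBefore (R := R) (Function.update e i y) ht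
        rwa [Function.update_of_ne hti] at this

lemma spanBefore_swap (e : Fin l → M) (a b : Fin l) (hab : (b : ℕ) + 1 = a) (j : ℕ)
    (hj : j ≤ b ∨ (a : ℕ) < j) :
    spanBefore R M (e ∘ Equiv.swap a b) j = spanBefore R M e j := by
  rcases hj with hj | hj
  · apply spanBefore_congr
    intro t ht
    have h1 : t ≠ a := by intro h; rw [h] at ht; omega
    have h2 : t ≠ b := by intro h; rw [h] at ht; omega
    simp [Equiv.swap_apply_of_ne_of_ne h1 h2]
  · unfold spanBefore
    rw [Set.image_comp]
    congr 2
    ext t
    constructor
    · rintro ⟨s, hs, rfl⟩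
      change ((Equiv.swap a b s : Fin l) : ℕ) < j
      by_cases h1 : s = a
      · rw [h1, Equiv.swap_apply_left]; omega
      · by_cases h2 : s = b
        · rw [h2, Equiv.swap_apply_right]; exact hj
        · rw [Equiv.swap_apply_of_ne_of_ne h1 h2]; exact hs
    · intro ht
      refine ⟨Equiv.swap a b t, ?_, by simp⟩
      change ((Equiv.swap a b t : Fin l) : ℕ) < j
      by_cases h1 : t = a
      · rw [h1, Equiv.swap_apply_left]; omega
      · by_cases h2 : t = b
        · rw [h2, Equiv.swap_apply_right]; exact hj
        · rw [Equiv.swap_apply_of_ne_of_ne h1 h2]; exact ht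

end H12CycDet
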