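import Mathlib
import Groth.Agent.Lib.Helper12.CycDet1

universe u v

open CycDet IsLocalRing

namespace H12CycDet

variable {R : Type u} [CommRing R] [IsLocalRing R] {M : Type v} [AddCommGroup M] [Module R M] {l : ℕ}

/-- class of a symbol in `DetOfLen` -/
noncomputable def symb (e : Adm R M l) : DetOfLen R M l := Submodule.Quotient.mk (sym R M e)

lemma symb_zero_of_dep (e : Adm R M l) (a : Fin l) (h : e.1 a ∈ spanBefore R M e.1 a) :
    symb e = 0 := by
  rw [symb, Submodule.Quotient.mk_eq_zero]
  exact Submodule.subset_span (Or.inl (Or.inl ⟨e, a, h, rfl⟩))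

lemma symb_replace (e e' : Adm R M l) (a : Fin l) (c : Rˣ) (h1 : ∀ j, j ≠ a → e.1 j = e'.1 j)
    (h2 : e.1 a - (c : R) • e'.1 a ∈ spanBefore R M e.1 a) :
    symb e = residue R (c : R) • symb e' := by
  rw [← sub_eq_zero, symb, symb, ← Submodule.Quotient.mk_smul, ← Submodule.Quotient.mk_sub,
    Submodule.Quotient.mk_eq_zero]
  exact Submodule.subset_span (Or.inl (Or.inr ⟨e, e', a, c, h1, h2, rfl⟩))

lemma symb_swap (e e' : Adm R M l) (a b : Fin l) (hab : (b : ℕ) + 1 = a)
    (h : ∀ r ∈ maximalIdeal R, r • e.1 a ∈ spanBefore R M e.1 b)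
    (h' : e'.1 = e.1 ∘ Equiv.swap a b) : symb e' = - symb e := by
  rw [eq_neg_iff_add_eq_zero, add_comm, symb, symb, ← Submodule.Quotient.mk_add,
    Submodule.Quotient.mk_eq_zero]
  exact Submodule.subset_span (Or.inr ⟨e, e', a, b, hab, h, h', rfl⟩)

lemma isAdmissible_update (e : Fin l → M) (he : IsAdmissible R M e) (i : Fin l) (y : M) (c : Rˣ)
    (hy : y - (c : R) • e i ∈ spanBefore R M e i)
    (hmy : ∀ r ∈ maximalIdeal R, r • y ∈ spanBefore R M e i) :
    IsAdmissible R M (Function.update e i y) := by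
  intro j r hr
  rw [spanBefore_update e i y c hy]
  by_cases hji : j = i
  · subst hji
    rw [Function.update_self]
    exact hmy r hr
  · rw [Function.update_of_ne hji]
    exact he j r hr

lemma isAdmissible_swap (e : Fin l → M) (he : IsAdmissible R M e) (a b : Fin l)
    (hab : (b : ℕ) + 1 = a) (h : ∀ r ∈ maximalIdeal R, r • e a ∈ spanBefore R M e b) :
    IsAdmissible R M (e ∘ Equiv.swap a b) := by
  intro j r hr
  by_cases h1 : j = a
  · subst h1
    simp only [Function.comp_apply, Equiv.swap_apply_left]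
    have h2 : spanBefore R M e b ≤ spanBefore R M (e ∘ Equiv.swap j b) j := by
      rw [← spanBefore_swap e j b hab b (Or.inl le_rfl)]
      exact spanBefore_mono _ (by omega)
    exact h2 (he b r hr)
  · by_cases h2 : j = b
    · subst h2
      simp only [Function.comp_apply, Equiv.swap_apply_right]
      rw [spanBefore_swap e a j hab j (Or.inl le_rfl)]
      exact h r hr
    · simp only [Function.comp_apply, Equiv.swap_apply_of_ne_of_ne h1 h2]
      have hj : (j : ℕ) ≤ b ∨ (a : ℕ) < j := by
        have h1' : (j : ℕ) ≠ a := fun h => h1 (Fin.ext h)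
        have h2' : (j : ℕ) ≠ b := fun h => h2 (Fin.ext h)
        omega
      rw [spanBefore_swap e a b hab j hj]
      exact he j r hr

lemma exists_unit_of_mem (e : Fin l → M) (he : IsAdmissible R M e) (i : Fin l) (y : M)
    (h1 : y ∈ spanBefore R M e ((i : ℕ) + 1)) (h2 : y ∉ spanBefore R M e i) :
    ∃ c : Rˣ, y - (c : R) • e i ∈ spanBefore R M e i := by
  rw [spanBefore_succ, Submodule.mem_sup] at h1
  obtain ⟨x, hx, z, hz, rfl⟩ := h1
  obtain ⟨r, rfl⟩ := Submodule.mem_span_singleton.mp hz
  have hr : IsUnit r := by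
    by_contra hr
    apply h2
    exact Submodule.add_mem _ hx (he i r ((IsLocalRing.mem_maximalIdeal r).mpr hr))
  refine ⟨hr.unit, ?_⟩
  simpa using hx

end H12CycDet
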