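import Mathlib
import Groth.Agent.Lib.Helper12.CycDet2

universe u v

open CycDet IsLocalRing

namespace H12CycDet

variable {R : Type u} [CommRing R] [IsLocalRing R] {M : Type v} [AddCommGroup M] [Module R M] {l : ℕ}

/-- swap-down step -/
theorem swap_down (f : Adm R M l) (k : ℕ) (hk : k < l)
    (IH : ∀ e : Adm R M l, Submodule.span R (Set.range e.1) = ⊤ →
      (∀ j : Fin l, (j : ℕ) < k + 1 → e.1 j = f.1 j) → ∃ r : ResidueField R, symb e = r • symb f) :
    ∀ (n : ℕ) (i : Fin l), (i : ℕ) = k + n → ∀ e : Adm R M l,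
      Submodule.span R (Set.range e.1) = ⊤ → (∀ j : Fin l, (j : ℕ) < k → e.1 j = f.1 j) →
      e.1 i = f.1 ⟨k, hk⟩ → ∃ r : ResidueField R, symb e = r • symb f := by
  intro n
  induction n with
  | zero =>
    intro i hi e hgen hagree hei
    apply IH e hgen
    intro j hj
    rcases Nat.lt_succ_iff_lt_or_eq.mp hj with h | h
    · exact hagree j h
    · have hji : j = i := Fin.ext (by omega)
      have : (⟨k, hk⟩ : Fin l) = j := Fin.ext h.symm
      rw [hji, hei, this, hji]
  | succ n ih =>
    intro i hi e hgen hagree hei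
    let b : Fin l := ⟨k + n, by omega⟩
    have hab : (b : ℕ) + 1 = i := by simp [b]; omega
    have hcond : ∀ r ∈ maximalIdeal R, r • e.1 i ∈ spanBefore R M e.1 b := by
      intro r hr
      rw [hei]
      have h1 := f.2 ⟨k, hk⟩ r hr
      have h2 : spanBefore R M f.1 k = spanBefore R M e.1 k :=
        spanBefore_congr _ _ _ (fun j hj => (hagree j hj).symm)
      change r • f.1 ⟨k, hk⟩ ∈ spanBefore R M f.1 k at h1
      rw [h2] at h1
      exact spanBefore_mono e.1 (by simp [b]) h1
    let e' : Adm R M l := ⟨e.1 ∘ Equiv.swap i b, isAdmissible_swap e.1 e.2 i b hab hcond⟩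
    have hsw := symb_swap e e' i b hab hcond rfl
    have hgen' : Submodule.span R (Set.range e'.1) = ⊤ := by
      rw [← spanBefore_len, spanBefore_swap e.1 i b hab l (Or.inr i.2), spanBefore_len]
      exact hgen
    have hagree' : ∀ j : Fin l, (j : ℕ) < k → e'.1 j = f.1 j := by
      intro j hj
      have h1 : j ≠ i := by intro h; rw [h] at hj; omega
      have h2 : j ≠ b := by intro h; rw [h] at hj; simp [b] at hj
      change e.1 (Equiv.swap i b j) = _
      rw [Equiv.swap_apply_of_ne_of_ne h1 h2]
      exact hagree j hj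
    have heb : e'.1 b = f.1 ⟨k, hk⟩ := by
      change e.1 (Equiv.swap i b b) = _
      rw [Equiv.swap_apply_right]
      exact hei
    obtain ⟨r, hr⟩ := ih b (by simp [b]) e' hgen' hagree' heb
    refine ⟨-r, ?_⟩
    rw [neg_smul, ← hr, hsw, neg_neg]

/-- main elimination -/
theorem elim (f : Adm R M l) (hfg : ∀ a : Fin l, f.1 a ∉ spanBefore R M f.1 a) :
    ∀ (d k : ℕ), k + d = l → ∀ e : Adm R M l, Submodule.span R (Set.range e.1) = ⊤ →
      (∀ j : Fin l, (j : ℕ) < k → e.1 j = f.1 j) → ∃ r : ResidueField R, symb e = r • symb f := by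
  intro d
  induction d with
  | zero =>
    intro k hk e _ hagree
    have : e = f := Subtype.ext (funext fun j => hagree j (by omega))
    refine ⟨1, ?_⟩
    rw [one_smul, this]
  | succ d ih =>
    intro k hk e hgen hagree
    have hkl : k < l := by omega
    have IH := ih (k + 1) (by omega)
    classical
    -- f_k in the span of e
    have hfk : f.1 ⟨k, hkl⟩ ∈ spanBefore R M e.1 l := by
      rw [spanBefore_len, hgen]; trivial
    have hex : ∃ i : ℕ, f.1 ⟨k, hkl⟩ ∈ spanBefore R M e.1 (i + 1) := ⟨l, spanBefore_mono e.1 (by omega) hfk⟩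
    set i := Nat.find hex with hi
    have hi1 : f.1 ⟨k, hkl⟩ ∈ spanBefore R M e.1 (i + 1) := Nat.find_spec hex
    have hspan : spanBefore R M f.1 k = spanBefore R M e.1 k :=
      spanBefore_congr _ _ _ (fun j hj => (hagree j hj).symm)
    have hnot : f.1 ⟨k, hkl⟩ ∉ spanBefore R M e.1 k := by
      rw [← hspan]; exact hfg ⟨k, hkl⟩
    have hki : k ≤ i := by
      by_contra h
      exact hnot (spanBefore_mono e.1 (by omega) hi1)
    have hil : i < l := by
      by_contra h
      have h1 : l ≤ i := by omega
      -- spanBefore e (i) = spanBefore e l contains f_k, contradiction with minimality unless i = 0...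
      have h2 : i ≠ 0 := by omega
      obtain ⟨i', hi'⟩ : ∃ i', i = i' + 1 := ⟨i - 1, by omega⟩
      have := Nat.find_min hex (m := i') (by omega)
      apply this
      rw [← hi']
      have h3 : spanBefore R M e.1 l ≤ spanBefore R M e.1 i := spanBefore_mono e.1 h1
      exact h3 hfk
    have hi2 : f.1 ⟨k, hkl⟩ ∉ spanBefore R M e.1 i := by
      rcases Nat.eq_zero_or_pos i with h0 | hpos
      · rw [h0]
        intro h
        exact hnot (spanBefore_mono e.1 (Nat.zero_le k) h)
      · obtain ⟨i', hi'⟩ : ∃ i', i = i' + 1 := ⟨i - 1, by omega⟩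
        have := Nat.find_min hex (m := i') (by omega)
        rw [hi']
        exact this
    let ii : Fin l := ⟨i, hil⟩
    obtain ⟨c, hc⟩ := exists_unit_of_mem e.1 e.2 ii (f.1 ⟨k, hkl⟩) hi1 hi2
    have hmy : ∀ r ∈ maximalIdeal R, r • f.1 ⟨k, hkl⟩ ∈ spanBefore R M e.1 ii := by
      intro r hr
      have h1 := f.2 ⟨k, hkl⟩ r hr
      change r • f.1 ⟨k, hkl⟩ ∈ spanBefore R M f.1 k at h1
      rw [hspan] at h1
      exact spanBefore_mono e.1 hki h1
    let e1 : Adm R M l := ⟨Function.update e.1 ii (f.1 ⟨k, hkl⟩),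
      isAdmissible_update e.1 e.2 ii _ c hc hmy⟩
    have hrep : symb e1 = residue R (c : R) • symb e := by
      apply symb_replace e1 e ii c
      · intro j hj
        exact Function.update_of_ne hj _ _
      · change Function.update e.1 ii (f.1 ⟨k, hkl⟩) ii - _ ∈ spanBefore R M (Function.update e.1 ii _) ii
        rw [Function.update_self, spanBefore_update e.1 ii _ c hc]
        exact hc
    have hgen1 : Submodule.span R (Set.range e1.1) = ⊤ := by
      rw [← spanBefore_len, spanBefore_update e.1 ii _ c hc, spanBefore_len]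
      exact hgen
    have hagree1 : ∀ j : Fin l, (j : ℕ) < k → e1.1 j = f.1 j := by
      intro j hj
      have : j ≠ ii := by intro h; rw [h] at hj; simp [ii] at hj; omega
      change Function.update e.1 ii _ j = _
      rw [Function.update_of_ne this]
      exact hagree j hj
    have he1i : e1.1 ii = f.1 ⟨k, hkl⟩ := Function.update_self _ _ _
    obtain ⟨r, hr⟩ := swap_down f k hkl IH (i - k) ii (by simp [ii]; omega) e1 hgen1 hagree1 he1i
    have hcne : residue R (c : R) ≠ 0 := by
      intro h
      have : IsUnit (residue R (c : R)) := c.isUnit.map (residue R)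
      exact this.ne_zero h
    refine ⟨(residue R (c : R))⁻¹ * r, ?_⟩
    rw [mul_smul, ← hr, hrep, smul_smul, inv_mul_cancel₀ hcne, one_smul]

end H12CycDet
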