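import Mathlib
import Groth.Agent.Lib.Helper12.CycDet3

universe u v

open CycDet IsLocalRing

namespace H12CycDet

variable {R : Type u} [CommRing R] [IsLocalRing R] {M : Type v} [AddCommGroup M] [Module R M]

/-- a good admissible sequence of length `length M` generates `M` -/
theorem span_eq_top_of_good (hM : IsFiniteLength R M) {l : ℕ} (hlen : (l : ℕ∞) = Module.length R M)
    (e : Adm R M l)
    (hg : ∀ a : Fin l, e.1 a ∉ spanBefore R M e.1 (a : ℕ)) :
    Submodule.span R (Set.range e.1) = ⊤ := by
  obtain ⟨hN, hA⟩ := isFiniteLength_iff_isNoetherian_isArtinian.mp hM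
  have hh : ∀ i : ℕ, i ≤ l → (i : ℕ∞) ≤ Order.height (spanBefore R M e.1 i) := by
    intro i
    induction i with
    | zero => intro _; simp
    | succ i ih =>
      intro hi
      have hlt : spanBefore R M e.1 i < spanBefore R M e.1 (i + 1) := by
        refine lt_of_le_of_ne (spanBefore_mono e.1 (Nat.le_succ i)) ?_
        intro h
        apply hg (⟨i, by omega⟩ : Fin l)
        change e.1 ⟨i, _⟩ ∈ spanBefore R M e.1 i
        rw [h]
        exact mem_spanBefore e.1 (by simp)
      have := Order.height_add_one_le hlt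
      calc ((i + 1 : ℕ) : ℕ∞) = (i : ℕ∞) + 1 := by push_cast; rfl
        _ ≤ Order.height (spanBefore R M e.1 i) + 1 := by gcongr; exact ih (by omega)
        _ ≤ _ := this
  have h1 := hh l le_rfl
  rw [hlen, Module.length_eq_height] at h1
  rw [← spanBefore_len]
  by_contra hne
  have := Submodule.height_strictMono (R := R) (M := M) (lt_top_iff_ne_top.mpr hne)
  exact absurd h1 (not_le.mpr this)

theorem main (hM : IsFiniteLength R M) :
    Module.rank (ResidueField R) (CycDet.Det R M) ≤ 1 := by
  classical
  rw [rank_le_one_iff]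
  have hlen : (((Module.length R M).toNat : ℕ) : ℕ∞) = Module.length R M :=
    ENat.coe_toNat (Module.length_ne_top_iff.mpr hM)
  have key : ∃ v₀ : Det R M, ∀ e : Adm R M (Module.length R M).toNat,
      ∃ r : ResidueField R, symb e = r • v₀ := by
    by_cases hex : ∃ f : Adm R M (Module.length R M).toNat,
        ∀ a : Fin (Module.length R M).toNat, f.1 a ∉ spanBefore R M f.1 (a : ℕ)
    · obtain ⟨f, hf⟩ := hex
      refine ⟨symb f, fun e => ?_⟩
      by_cases he : ∀ a : Fin (Module.length R M).toNat, e.1 a ∉ spanBefore R M e.1 (a : ℕ)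
      · exact elim f hf (Module.length R M).toNat 0 (by omega) e (span_eq_top_of_good hM hlen e he)
          (fun j hj => by omega)
      · push Not at he
        obtain ⟨a, ha⟩ := he
        exact ⟨0, by rw [zero_smul, symb_zero_of_dep e a ha]⟩
    · push Not at hex
      refine ⟨0, fun e => ?_⟩
      obtain ⟨a, ha⟩ := hex e
      exact ⟨0, by rw [zero_smul, symb_zero_of_dep e a ha]⟩
  obtain ⟨v₀, hv₀⟩ := key
  refine ⟨v₀, fun v => ?_⟩
  obtain ⟨x, rfl⟩ := Submodule.Quotient.mk_surjective _ v
  induction x using Finsupp.induction_linear with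
  | zero => exact ⟨0, by simp⟩
  | add x y hx hy =>
    obtain ⟨r, hr⟩ := hx
    obtain ⟨s, hs⟩ := hy
    exact ⟨r + s, by rw [add_smul, hr, hs, Submodule.Quotient.mk_add]⟩
  | single e t =>
    obtain ⟨r, hr⟩ := hv₀ e
    refine ⟨t * r, ?_⟩
    rw [mul_smul, ← hr, symb, sym, ← Submodule.Quotient.mk_smul, Finsupp.smul_single, smul_eq_mul,
      mul_one]

end H12CycDet
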