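import Mathlib
import Groth.Agent.Lib.Helper12.CycDet4
import Groth.Statements.S1840

universe u v

open CycDet IsLocalRing

namespace H12CycDet

variable {R : Type u} [CommRing R] [IsLocalRing R] {M : Type v} [AddCommGroup M] [Module R M]
  [Module (ResidueField R) M] [IsScalarTower R (ResidueField R) M]

lemma smul_eq_residue_smul (r : R) (x : M) : r • x = residue R r • x :=
  (algebraMap_smul (ResidueField R) r x).symm

lemma smul_eq_zero_of_mem (r : R) (hr : r ∈ maximalIdeal R) (x : M) : r • x = 0 := by
  rw [smul_eq_residue_smul, (residue_eq_zero_iff r).mpr hr, zero_smul]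

lemma isAdmissible_of_vs {l : ℕ} (v : Fin l → M) : IsAdmissible R M v := by
  intro i r hr
  rw [smul_eq_zero_of_mem r hr]
  exact Submodule.zero_mem _

lemma ιMulti_eq_zero_of_dep {l : ℕ} (v : Fin l → M) (a : Fin l)
    (h : v a ∈ spanBefore R M v a) : exteriorPower.ιMulti (ResidueField R) l v = 0 := by
  apply AlternatingMap.map_linearDependent
  intro hli
  have h1 := hli.notMem_span_image (s := {j : Fin l | (j : ℕ) < a}) (x := a) (by simp)
  apply h1
  exact Submodule.span_le_restrictScalars R (ResidueField R) _ h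


section Phi
variable (R M)
variable (l : ℕ)

/-- the map on the free space -/
noncomputable def Φ₀ : Free R M l →ₗ[ResidueField R] (⋀[ResidueField R]^l M) :=
  Finsupp.linearCombination (ResidueField R)
    (fun e : Adm R M l => exteriorPower.ιMulti (ResidueField R) l e.1)

lemma Φ₀_sym (e : Adm R M l) : Φ₀ R M l (sym R M e) = exteriorPower.ιMulti (ResidueField R) l e.1 := by
  simp [Φ₀, sym]

lemma relSet_le_ker : Submodule.span (ResidueField R) (relSet R M l) ≤ LinearMap.ker (Φ₀ R M l) := by
  classical
  rw [Submodule.span_le]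
  rintro x ((⟨e, a, ha, rfl⟩ | ⟨e, e', a, c, h1, h2, rfl⟩) | ⟨e, e', a, b, hab, -, h', rfl⟩)
  · rw [SetLike.mem_coe, LinearMap.mem_ker, Φ₀_sym]
    exact ιMulti_eq_zero_of_dep e.1 a ha
  · rw [SetLike.mem_coe, LinearMap.mem_ker, map_sub, map_smul, Φ₀_sym, Φ₀_sym, sub_eq_zero]
    have he : e.1 = Function.update e'.1 a (e.1 a) := by
      funext j
      by_cases hj : j = a
      · subst hj; rw [Function.update_self]
      · rw [Function.update_of_ne hj]; exact h1 j hj
    have hxa : e.1 a = residue R (c : R) • e'.1 a + (e.1 a - (c : R) • e'.1 a) := by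
      rw [← smul_eq_residue_smul]; abel
    have hzero : exteriorPower.ιMulti (ResidueField R) l
        (Function.update e'.1 a (e.1 a - (c : R) • e'.1 a)) = 0 := by
      apply ιMulti_eq_zero_of_dep (R := R) _ a
      rw [Function.update_self]
      have : spanBefore R M (Function.update e'.1 a (e.1 a - (c : R) • e'.1 a)) a
          = spanBefore R M e.1 a := by
        apply spanBefore_congr
        intro j hj
        have hja : j ≠ a := by intro h; rw [h] at hj; omega
        rw [Function.update_of_ne hja]
        exact (h1 j hja).symm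
      rw [this]
      exact h2
    conv_lhs => rw [he, hxa]
    rw [AlternatingMap.map_update_add, AlternatingMap.map_update_smul, Function.update_eq_self,
      hzero, add_zero]
  · rw [SetLike.mem_coe, LinearMap.mem_ker, map_add, Φ₀_sym, Φ₀_sym, h']
    have hne : a ≠ b := by intro h; rw [h] at hab; omega
    rw [AlternatingMap.map_swap _ _ hne, add_neg_cancel]

/-- the induced map on `DetOfLen` -/
noncomputable def Φ₁ : DetOfLen R M l →ₗ[ResidueField R] (⋀[ResidueField R]^l M) :=
  Submodule.liftQ _ (Φ₀ R M l) (relSet_le_ker R M l)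

lemma Φ₁_symb (e : Adm R M l) : Φ₁ R M l (symb e) = exteriorPower.ιMulti (ResidueField R) l e.1 := by
  simp only [Φ₁, symb, Submodule.liftQ_apply]
  exact Φ₀_sym R M l e

lemma Φ₁_surjective : Function.Surjective (Φ₁ R M l) := by
  rw [← LinearMap.range_eq_top, eq_top_iff, ← exteriorPower.ιMulti_span, Submodule.span_le]
  rintro _ ⟨v, rfl⟩
  exact ⟨symb ⟨v, isAdmissible_of_vs v⟩, Φ₁_symb R M l _⟩

end Phi

end H12CycDet
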