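import Mathlib
import Groth.Agent.Lib.Helper12.CycDet5

universe u v

open CycDet IsLocalRing

namespace H12CycDet

theorem main40 (R : Type u) [CommRing R] [IsLocalRing R] (M : Type v) [AddCommGroup M] [Module R M]
    [Module (IsLocalRing.ResidueField R) M] [IsScalarTower R (IsLocalRing.ResidueField R) M]
    [Module.Finite (IsLocalRing.ResidueField R) M] :
    ∃ Φ : CycDet.Det R M ≃ₗ[IsLocalRing.ResidueField R]
        (⋀[IsLocalRing.ResidueField R]^((Module.length R M).toNat) M),
      ∀ e : CycDet.Adm R M (Module.length R M).toNat,
        Φ (CycDet.symbol R M e) =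
          exteriorPower.ιMulti (IsLocalRing.ResidueField R) ((Module.length R M).toNat) e.1 := by
  have hlen : Module.length R M = Module.finrank (ResidueField R) M := by
    rw [Module.length_eq_of_surjective (S := R) (R := ResidueField R) (M := M)
      (by rw [ResidueField.algebraMap_eq]; exact residue_surjective),
      Module.length_eq_finrank]
  have hM : IsFiniteLength R M := by
    rw [← Module.length_ne_top_iff, hlen]
    exact ENat.coe_ne_top _
  have hl : (Module.length R M).toNat = Module.finrank (ResidueField R) M := by
    rw [hlen]; rfl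
  have hnt : Nontrivial (⋀[ResidueField R]^((Module.length R M).toNat) M) := by
    apply Module.nontrivial_of_finrank_pos (R := ResidueField R)
    rw [exteriorPower.finrank_eq, hl, Nat.choose_self]
    exact Nat.one_pos
  have hsurj := Φ₁_surjective R M (Module.length R M).toNat
  have hinj : Function.Injective (Φ₁ R M (Module.length R M).toNat) := by
    obtain ⟨v₀, hv₀⟩ := rank_le_one_iff.mp (main (R := R) (M := M) hM)
    have hne : Φ₁ R M (Module.length R M).toNat v₀ ≠ 0 := by
      intro h0
      obtain ⟨y, hy⟩ := exists_ne (0 : ⋀[ResidueField R]^((Module.length R M).toNat) M)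
      obtain ⟨x, rfl⟩ := hsurj y
      obtain ⟨r, rfl⟩ := hv₀ x
      apply hy
      rw [map_smul, h0, smul_zero]
    rw [injective_iff_map_eq_zero]
    intro x hx
    obtain ⟨r, rfl⟩ := hv₀ x
    rw [map_smul, smul_eq_zero] at hx
    rcases hx with h | h
    · rw [h, zero_smul]
    · exact absurd h hne
  refine ⟨LinearEquiv.ofBijective (Φ₁ R M (Module.length R M).toNat) ⟨hinj, hsurj⟩, fun e => ?_⟩
  exact Φ₁_symb R M _ e

end H12CycDet
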