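import Mathlib
import Groth.Agent.Lib.Helper12.HensRad

/-!
# Directed colimits of rings (ring hom transitions): finiteness lemmas, colimits of henselian
pairs are henselian (helper12)
-/

set_option autoImplicit false
universe u

namespace Groth.Agent.Lib.Helper12.DLRing

open Polynomial

section

variable {ι : Type*} [Preorder ι] [IsDirectedOrder ι] [Nonempty ι]
  {G : ι → Type*} [∀ i, CommRing (G i)]
  (f : ∀ i j, i ≤ j → G i →+* G j) [DirectedSystem G (f · · ·)]

local notation "L" => DirectLimit G f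
local notation "ofR" => DirectLimit.Ring.of G f

theorem of_apply (i : ι) (x : G i) : ofR i x = (⟦⟨i, x⟩⟧ : L) := rfl

theorem of_f {i j : ι} (h : i ≤ j) (x : G i) : ofR j (f i j h x) = ofR i x :=
  DirectLimit.Ring.of_f h x

theorem exists_of (z : L) : ∃ (i : ι) (x : G i), ofR i x = z := by
  obtain ⟨i, x, hx⟩ := DirectLimit.exists_eq_mk f z
  exact ⟨i, x, hx.symm⟩

omit [Nonempty ι] in
theorem mk_eq_mk_iff {i j : ι} (x : G i) (y : G j) :
    (⟦⟨i, x⟩⟧ : L) = ⟦⟨j, y⟩⟧ ↔ ∃ k, ∃ (hik : i ≤ k) (hjk : j ≤ k), f i k hik x = f j k hjk y :=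
  Quotient.eq

theorem of_eq_of_iff {i j : ι} (x : G i) (y : G j) :
    ofR i x = ofR j y ↔ ∃ k, ∃ (hik : i ≤ k) (hjk : j ≤ k), f i k hik x = f j k hjk y :=
  mk_eq_mk_iff f x y

theorem of_eq_of_iff' {i : ι} (x y : G i) :
    ofR i x = ofR i y ↔ ∃ k, ∃ (hik : i ≤ k), f i k hik x = f i k hik y := by
  rw [of_eq_of_iff]
  constructor
  · rintro ⟨k, h1, h2, h⟩
    exact ⟨k, h1, h⟩
  · rintro ⟨k, h1, h⟩
    exact ⟨k, h1, h1, h⟩

theorem of_eq_zero_iff {i : ι} (x : G i) :
    ofR i x = 0 ↔ ∃ k, ∃ (hik : i ≤ k), f i k hik x = 0 := by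
  rw [← map_zero (ofR i), of_eq_of_iff']
  simp only [map_zero]

theorem of_eq_one_iff {i : ι} (x : G i) :
    ofR i x = 1 ↔ ∃ k, ∃ (hik : i ≤ k), f i k hik x = 1 := by
  rw [← map_one (ofR i), of_eq_of_iff']
  simp only [map_one]

theorem map_map' {i j k : ι} (hij : i ≤ j) (hjk : j ≤ k) (x : G i) :
    f j k hjk (f i j hij x) = f i k (hij.trans hjk) x :=
  DirectedSystem.map_map' (f := f) hij hjk x

/-- Finitely many elements of a directed colimit come from a common stage. -/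
theorem exists_of_finite {κ : Type*} [Finite κ] (x : κ → L) :
    ∃ (i : ι) (y : κ → G i), ∀ m, x m = ofR i (y m) := by
  choose i₀ y₀ hy₀ using fun m => DirectLimit.exists_eq_mk f (x m)
  obtain ⟨i, hi⟩ := Finite.exists_le i₀
  refine ⟨i, fun m => f (i₀ m) i (hi m) (y₀ m), fun m => ?_⟩
  rw [of_f, hy₀ m]
  rfl

/-- Finitely many equalities in the colimit hold at a common later stage. -/
theorem exists_eq_of_finite {κ : Type*} [Finite κ] {i : ι} (x y : κ → G i)
    (h : ∀ m, ofR i (x m) = ofR i (y m)) :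
    ∃ (j : ι) (hij : i ≤ j), ∀ m, f i j hij (x m) = f i j hij (y m) := by
  have h' := fun m => (of_eq_of_iff' f (x m) (y m)).1 (h m)
  choose k hk hk' using h'
  obtain ⟨j, hj⟩ := Finite.exists_le (fun m : Option κ => m.elim i k)
  have hij : i ≤ j := hj none
  refine ⟨j, hij, fun m => ?_⟩
  have hkj : k m ≤ j := hj (some m)
  rw [← map_map' f (hk m) hkj, ← map_map' f (hk m) hkj, hk' m]

theorem isUnit_of_iff {i : ι} (a : G i) :
    IsUnit (ofR i a) ↔ ∃ j, ∃ (h : i ≤ j), IsUnit (f i j h a) := by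
  constructor
  · intro hu
    obtain ⟨y, hy⟩ := hu.exists_right_inv
    obtain ⟨j, b, rfl⟩ := exists_of f y
    obtain ⟨k, hik, hjk⟩ := exists_ge_ge i j
    have h1 : ofR k (f i k hik a * f j k hjk b) = 1 := by
      rw [map_mul, of_f, of_f]
      exact hy
    rw [of_eq_one_iff] at h1
    obtain ⟨l, hkl, hl⟩ := h1
    refine ⟨l, hik.trans hkl, ?_⟩
    rw [map_mul, map_map', map_map'] at hl
    exact IsUnit.of_mul_eq_one _ hl
  · rintro ⟨j, h, hu⟩
    rw [← of_f f h]
    exact hu.map _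

variable (J : ∀ i, Ideal (G i)) (hJ : ∀ i j (h : i ≤ j), (J i).map (f i j h) ≤ J j)

include hJ in
theorem mem_iSup_map_iff {z : L} :
    z ∈ ⨆ i, (J i).map (ofR i) ↔ ∃ (i : ι), ∃ y ∈ J i, ofR i y = z := by
  constructor
  · intro hz
    rw [Ideal.iSup_eq_span] at hz
    induction hz using Submodule.span_induction with
    | mem z hz =>
      obtain ⟨i, hi⟩ := Set.mem_iUnion.1 hz
      -- elements of `(J i).map` are finite combinations
      have key : ∀ w ∈ (J i).map (ofR i), ∃ (k : ι), ∃ y ∈ J k, ofR k y = w := by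
        intro w hw
        induction hw using Submodule.span_induction with
        | mem w hw =>
          obtain ⟨y, hy, rfl⟩ := hw
          exact ⟨i, y, hy, rfl⟩
        | zero =>
          exact ⟨i, 0, Ideal.zero_mem _, map_zero _⟩
        | add w₁ w₂ _ _ h₁ h₂ =>
          obtain ⟨k₁, y₁, hy₁, rfl⟩ := h₁
          obtain ⟨k₂, y₂, hy₂, rfl⟩ := h₂
          obtain ⟨k, h1, h2⟩ := exists_ge_ge k₁ k₂
          refine ⟨k, f k₁ k h1 y₁ + f k₂ k h2 y₂, Ideal.add_mem _
            (hJ _ _ h1 (Ideal.mem_map_of_mem _ hy₁)) (hJ _ _ h2 (Ideal.mem_map_of_mem _ hy₂)), ?_⟩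
          rw [map_add, of_f, of_f]
        | smul l w _ h =>
          obtain ⟨k₁, y₁, hy₁, rfl⟩ := h
          obtain ⟨k₂, c, rfl⟩ := exists_of f l
          obtain ⟨k, h1, h2⟩ := exists_ge_ge k₁ k₂
          refine ⟨k, f k₂ k h2 c * f k₁ k h1 y₁, Ideal.mul_mem_left _ _
            (hJ _ _ h1 (Ideal.mem_map_of_mem _ hy₁)), ?_⟩
          rw [map_mul, of_f, of_f, smul_eq_mul]
      exact key z hi
    | zero =>
      obtain ⟨i⟩ := (inferInstance : Nonempty ι)
      exact ⟨i, 0, Ideal.zero_mem _, map_zero _⟩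
    | add w₁ w₂ _ _ h₁ h₂ =>
      obtain ⟨k₁, y₁, hy₁, rfl⟩ := h₁
      obtain ⟨k₂, y₂, hy₂, rfl⟩ := h₂
      obtain ⟨k, h1, h2⟩ := exists_ge_ge k₁ k₂
      refine ⟨k, f k₁ k h1 y₁ + f k₂ k h2 y₂, Ideal.add_mem _
        (hJ _ _ h1 (Ideal.mem_map_of_mem _ hy₁)) (hJ _ _ h2 (Ideal.mem_map_of_mem _ hy₂)), ?_⟩
      rw [map_add, of_f, of_f]
    | smul l w _ h =>
      obtain ⟨k₁, y₁, hy₁, rfl⟩ := h
      obtain ⟨k₂, c, rfl⟩ := exists_of f l
      obtain ⟨k, h1, h2⟩ := exists_ge_ge k₁ k₂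
      refine ⟨k, f k₂ k h2 c * f k₁ k h1 y₁, Ideal.mul_mem_left _ _
        (hJ _ _ h1 (Ideal.mem_map_of_mem _ hy₁)), ?_⟩
      rw [map_mul, of_f, of_f, smul_eq_mul]
  · rintro ⟨i, y, hy, rfl⟩
    exact (le_iSup (fun i => (J i).map (ofR i)) i) (Ideal.mem_map_of_mem _ hy)

include hJ in
theorem exists_mem_of_of_mem {i : ι} {x : G i} (hx : ofR i x ∈ ⨆ i, (J i).map (ofR i)) :
    ∃ (j : ι) (h : i ≤ j), f i j h x ∈ J j := by
  obtain ⟨i', y, hy, hxy⟩ := (mem_iSup_map_iff f J hJ).1 hx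
  obtain ⟨k, hik, hjk, hk⟩ := (of_eq_of_iff f x y).1 hxy.symm
  exact ⟨k, hik, hk ▸ hJ _ _ hjk (Ideal.mem_map_of_mem _ hy)⟩

include hJ in
theorem iSup_map_le_jacobson (hjac : ∀ i, J i ≤ Ideal.jacobson ⊥) :
    (⨆ i, (J i).map (ofR i)) ≤ Ideal.jacobson ⊥ := by
  intro x hx
  rw [Ideal.mem_jacobson_bot]
  intro y
  obtain ⟨i, w, hw, hwx⟩ := (mem_iSup_map_iff f J hJ).1 (Ideal.mul_mem_right y _ hx)
  rw [← hwx]
  have h1 := (Ideal.mem_jacobson_bot.1 (hjac i hw)) 1
  rw [mul_one] at h1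
  have := h1.map (ofR i)
  rwa [map_add, map_one] at this

include hJ in
/-- A directed colimit of henselian pairs is a henselian pair. -/
theorem henselianRing_directLimit [hh : ∀ i, HenselianRing (G i) (J i)] :
    HenselianRing L (⨆ i, (J i).map (ofR i)) where
  jac := iSup_map_le_jacobson f J hJ fun i => (hh i).jac
  is_henselian F hF a₀ h₁ h₂ := by
    classical
    have hjac := iSup_map_le_jacobson f J hJ fun i => (hh i).jac
    have hu : IsUnit (F.derivative.eval a₀) := HensRad.isUnit_of_isUnit_mk hjac h₂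
    set n := F.natDegree with hn
    obtain ⟨i, y, hy⟩ := exists_of_finite f
      (fun k : Option (Fin n) => k.elim a₀ (fun k => F.coeff k))
    let Fi : (G i)[X] := X ^ n + ∑ k : Fin n, C (y (some k)) * X ^ (k : ℕ)
    have hFim : Fi.Monic := monic_X_pow_add (degree_sum_fin_lt _)
    have hFimap : Fi.map (ofR i) = F := by
      conv_rhs => rw [hF.as_sum, ← hn,
        ← Fin.sum_univ_eq_sum_range (fun k => C (F.coeff k) * X ^ k)]
      simp only [Fi, Polynomial.map_add, Polynomial.map_pow, map_X, Polynomial.map_sum,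
        Polynomial.map_mul, map_C]
      congr 1
      refine Finset.sum_congr rfl fun k _ => ?_
      rw [← hy (some k)]
      rfl
    have ha₀ : ofR i (y none) = a₀ := (hy none).symm
    have he0 : ofR i (Fi.eval (y none)) = F.eval a₀ := by
      rw [← hFimap, eval_map, ← ha₀, eval₂_at_apply]
    have he1 : ofR i (Fi.derivative.eval (y none)) = F.derivative.eval a₀ := by
      rw [← hFimap, derivative_map, eval_map, ← ha₀, eval₂_at_apply]
    obtain ⟨j₁, hij₁, hj₁⟩ := exists_mem_of_of_mem f J hJ (he0 ▸ h₁)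
    obtain ⟨j₂, hij₂, hj₂⟩ := (isUnit_of_iff f _).1 (he1 ▸ hu)
    obtain ⟨k, hk1, hk2⟩ := exists_ge_ge j₁ j₂
    have hik : i ≤ k := hij₁.trans hk1
    let Fk : (G k)[X] := Fi.map (f i k hik)
    have hFkm : Fk.Monic := hFim.map _
    have hFk0 : Fk.eval (f i k hik (y none)) ∈ J k := by
      have e : Fk.eval (f i k hik (y none)) = f j₁ k hk1 (f i j₁ hij₁ (Fi.eval (y none))) := by
        rw [map_map', eval_map, eval₂_at_apply]
      rw [e]
      exact hJ _ _ hk1 (Ideal.mem_map_of_mem _ hj₁)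
    have hFk1 : IsUnit (Fk.derivative.eval (f i k hik (y none))) := by
      have e : Fk.derivative.eval (f i k hik (y none)) =
          f j₂ k hk2 (f i j₂ hij₂ (Fi.derivative.eval (y none))) := by
        rw [map_map', derivative_map, eval_map, eval₂_at_apply]
      rw [e]
      exact hj₂.map _
    obtain ⟨b, hb, hbJ⟩ := (hh k).is_henselian Fk hFkm (f i k hik (y none)) hFk0 (hFk1.map _)
    refine ⟨ofR k b, ?_, ?_⟩
    · have hFk : F = Fk.map (ofR k) := by
        rw [← hFimap, Polynomial.map_map]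
        congr 1
        ext x
        exact (of_f f hik x).symm
      rw [IsRoot.def, hFk, eval_map, eval₂_at_apply, hb, map_zero]
    · have : ofR k b - a₀ = ofR k (b - f i k hik (y none)) := by
        rw [map_sub, of_f, ha₀]
      rw [this]
      exact (mem_iSup_map_iff f J hJ).2 ⟨k, _, hbJ, rfl⟩

end

end Groth.Agent.Lib.Helper12.DLRing
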