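import Mathlib

set_option autoImplicit false
universe u
open Polynomial IntermediateField

namespace H12DPow

variable {K : Type u} [Field K] (p : ℕ) [hp : Fact p.Prime] [CharP K p]

/-- the subfield `K^p`. -/
def Kp : Subfield K := (frobenius K p).fieldRange

theorem mem_Kp (y : K) : y ∈ Kp (K := K) p ↔ ∃ x : K, x ^ p = y := by
  simp [Kp, RingHom.mem_fieldRange, frobenius_def]

theorem pow_mem (L : Subfield K) (hL : Kp p ≤ L) (x : K) : x ^ p ∈ L :=
  hL ((mem_Kp p _).2 ⟨x, rfl⟩)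

theorem exists_maximal (a : K) (ha : ∀ b : K, b ^ p ≠ a) :
    ∃ L : Subfield K, Kp p ≤ L ∧ a ∉ L ∧ ∀ L' : Subfield K, L ≤ L' → a ∉ L' → L' = L := by
  have h0 : Kp p ∈ {L : Subfield K | Kp p ≤ L ∧ a ∉ L} := ⟨le_rfl, fun h => by
    obtain ⟨b, hb⟩ := (mem_Kp p a).1 h; exact ha b hb⟩
  have hz : ∀ c ⊆ {L : Subfield K | Kp p ≤ L ∧ a ∉ L}, IsChain (· ≤ ·) c → ∀ y ∈ c,
      ∃ ub ∈ {L : Subfield K | Kp p ≤ L ∧ a ∉ L}, ∀ z ∈ c, z ≤ ub := by
    intro c hc hchain y hy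
    refine ⟨sSup c, ⟨?_, ?_⟩, fun z hz => le_sSup hz⟩
    · exact (hc hy).1.trans (le_sSup hy)
    · rw [Subfield.mem_sSup_of_directedOn ⟨y, hy⟩ hchain.directedOn]
      rintro ⟨s, hs, has⟩
      exact (hc hs).2 has
  obtain ⟨L, hL0, hL⟩ := zorn_le_nonempty₀ {L : Subfield K | Kp p ≤ L ∧ a ∉ L} hz (Kp p) h0
  refine ⟨L, hL.prop.1, hL.prop.2, fun L' hLL' haL' => ?_⟩
  exact le_antisymm (hL.le_of_ge ⟨hL.prop.1.trans hLL', haL'⟩ hLL') hLL'

theorem minpoly_eq (L : Subfield K) (hL : Kp p ≤ L) (x : K) (hx : x ∉ L) :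
    minpoly L x = X ^ p - C (⟨x ^ p, pow_mem p L hL x⟩ : L) := by
  have hirr : Irreducible (X ^ p - C (⟨x ^ p, pow_mem p L hL x⟩ : L)) := by
    refine X_pow_sub_C_irreducible_of_prime hp.out (fun b hb => hx ?_)
    have h1 : (b : K) ^ p = x ^ p := by
      have := congrArg (Subtype.val) hb
      simpa using this
    have h2 : (b : K) = x := frobenius_inj K p h1
    rw [← h2]
    exact b.2
  symm
  refine minpoly.eq_of_irreducible_of_monic hirr ?_ (monic_X_pow_sub_C _ hp.out.ne_zero)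
  simp only [map_sub, map_pow, aeval_X, aeval_C]
  change x ^ p - x ^ p = 0
  exact sub_self _

theorem isIntegral (L : Subfield K) (hL : Kp p ≤ L) (x : K) : IsIntegral L x := by
  refine ⟨X ^ p - C (⟨x ^ p, pow_mem p L hL x⟩ : L), monic_X_pow_sub_C _ hp.out.ne_zero, ?_⟩
  simp only [eval₂_sub, eval₂_pow, eval₂_X, eval₂_C]
  change x ^ p - x ^ p = 0
  exact sub_self _

theorem finrank_adjoin (L : Subfield K) (hL : Kp p ≤ L) (x : K) (hx : x ∉ L) :
    Module.finrank L L⟮x⟯ = p := by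
  rw [adjoin.finrank (isIntegral p L hL x), minpoly_eq p L hL x hx]
  exact natDegree_X_pow_sub_C

theorem adjoin_eq_top (a : K) (L : Subfield K) (hL : Kp p ≤ L) (haL : a ∉ L)
    (hmax : ∀ L' : Subfield K, L ≤ L' → a ∉ L' → L' = L) : L⟮a⟯ = ⊤ := by
  rw [eq_top_iff]
  intro x _
  by_cases hx : x ∈ L
  · exact IntermediateField.algebraMap_mem L⟮a⟯ (⟨x, hx⟩ : L)
  · have h1 : a ∈ L⟮x⟯ := by
      by_contra h
      have h2 := hmax (L⟮x⟯).toSubfield (fun l hl => IntermediateField.algebraMap_mem L⟮x⟯ (⟨l, hl⟩ : L)) h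
      apply hx
      rw [← h2]
      exact mem_adjoin_simple_self L x
    have h2 : L⟮a⟯ ≤ L⟮x⟯ := adjoin_simple_le_iff.2 h1
    haveI : FiniteDimensional L L⟮x⟯ := adjoin.finiteDimensional (isIntegral p L hL x)
    have h3 : L⟮a⟯ = L⟮x⟯ := IntermediateField.eq_of_le_of_finrank_eq h2 (by
      rw [finrank_adjoin p L hL a haL, finrank_adjoin p L hL x hx])
    rw [h3]
    exact mem_adjoin_simple_self L x

end H12DPow
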