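import Mathlib
import Groth.Agent.Lib.Helper12.DPow1

set_option autoImplicit false
universe u
open Polynomial IntermediateField

namespace H12DPow

variable {K : Type u} [Field K] (p : ℕ) [hp : Fact p.Prime] [CharP K p]

theorem exists_hom (a : K) (L : Subfield K) (hL : Kp p ≤ L) (haL : a ∉ L) (htop : L⟮a⟯ = ⊤) :
    ∃ φ : K →ₐ[L] TrivSqZeroExt K K,
      φ a = TrivSqZeroExt.inl a + TrivSqZeroExt.inr 1 ∧ ∀ x, (φ x).fst = x := by
  have hint := isIntegral p L hL a
  have hadj : Algebra.adjoin L {a} = ⊤ := by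
    rw [← adjoin_simple_toSubalgebra_of_isAlgebraic hint.isAlgebraic, htop]
    rfl
  let pb : PowerBasis L K := PowerBasis.ofAdjoinEqTop hint hadj
  have hgen : pb.gen = a := rfl
  have hy : aeval (TrivSqZeroExt.inl a + TrivSqZeroExt.inr 1 : TrivSqZeroExt K K)
      (minpoly L pb.gen) = 0 := by
    rw [hgen, minpoly_eq p L hL a haL]
    simp only [map_sub, map_pow, aeval_X, aeval_C]
    rw [TrivSqZeroExt.algebraMap_eq_inl']
    change _ - TrivSqZeroExt.inl (a ^ p) = 0
    rw [sub_eq_zero]
    ext
    · simp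
    · rw [TrivSqZeroExt.snd_pow]
      simp only [TrivSqZeroExt.snd_inl]
      have : (p : K) = 0 := CharP.cast_eq_zero K p
      rw [← Nat.cast_smul_eq_nsmul K, this, zero_smul]
  refine ⟨pb.lift _ hy, ?_, ?_⟩
  · exact PowerBasis.lift_gen pb _ hy
  · intro x
    have h1 : (TrivSqZeroExt.fstHom L K K).comp (pb.lift _ hy) = AlgHom.id L K := by
      apply pb.algHom_ext
      rw [AlgHom.comp_apply, PowerBasis.lift_gen]
      simp [hgen]
    exact congrArg (fun f => f x) h1

end H12DPow

namespace H12DPow

variable {K : Type u} [Field K] (p : ℕ) [hp : Fact p.Prime]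

/-- a `k`-derivation of `K` not killing `a`, when `a` is not a `p`-th power and `k ⊆ K^p`. -/
theorem exists_derivation [CharP K p] {k : Type*} [Field k] [Algebra k K]
    (hk : ∀ c : k, algebraMap k K c ∈ Kp (K := K) p) (a : K) (ha : ∀ b : K, b ^ p ≠ a) :
    ∃ D : Derivation k K K, D a = 1 := by
  obtain ⟨L, hL, haL, hmax⟩ := exists_maximal p a ha
  obtain ⟨φ, hφa, hφ⟩ := exists_hom p a L hL haL (adjoin_eq_top p a L hL haL hmax)
  let D₀ : K →ₗ[k] K :=
    { toFun := fun x => (φ x).snd
      map_add' := fun x y => by rw [map_add, TrivSqZeroExt.snd_add]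
      map_smul' := fun c x => by
        have e1 : c • x = (⟨algebraMap k K c, hL (hk c)⟩ : L) • x := by
          rw [Algebra.smul_def]; rfl
        rw [e1, map_smul, RingHom.id_apply]
        refine (TrivSqZeroExt.snd_smul _ _).trans ?_
        rw [Algebra.smul_def, Algebra.smul_def]
        rfl }
  refine ⟨Derivation.mk' D₀ (fun x y => ?_), ?_⟩
  · change (φ (x * y)).snd = x • (φ y).snd + y • (φ x).snd
    rw [map_mul, TrivSqZeroExt.snd_mul, hφ, hφ, op_smul_eq_smul]
  · change (φ a).snd = 1
    rw [hφa]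
    simp

theorem main {k : Type*} [Field k] [Algebra k K] [CharP k p] [PerfectRing k p] (a : K) :
    KaehlerDifferential.D k K a = 0 ↔ ∃ b : K, b ^ p = a := by
  haveI : CharP K p := charP_of_injective_algebraMap (algebraMap k K).injective p
  constructor
  · intro h
    by_contra hcon
    push Not at hcon
    have hk : ∀ c : k, algebraMap k K c ∈ Kp (K := K) p := by
      intro c
      obtain ⟨d, hd⟩ := surjective_frobenius k p c
      rw [mem_Kp]
      exact ⟨algebraMap k K d, by rw [← map_pow, ← hd, frobenius_def]⟩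
    obtain ⟨D, hD⟩ := exists_derivation p hk a hcon
    have h1 : D.liftKaehlerDifferential (KaehlerDifferential.D k K a) = D a :=
      Derivation.liftKaehlerDifferential_comp_D D a
    rw [h, map_zero, hD] at h1
    exact zero_ne_one h1
  · rintro ⟨b, rfl⟩
    rw [Derivation.leibniz_pow]
    have : (p : K) = 0 := CharP.cast_eq_zero K p
    rw [← Nat.cast_smul_eq_nsmul K, this, zero_smul]

/-- absolute version over `ℤ`. -/
theorem main_int [CharP K p] (a : K) (h : KaehlerDifferential.D ℤ K a = 0) :
    ∃ b : K, b ^ p = a := by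
  letI : Algebra (ZMod p) K := ZMod.algebra K p
  rw [← main (k := ZMod p) p a]
  have h1 := congrArg (KaehlerDifferential.map ℤ (ZMod p) K K) h
  rw [KaehlerDifferential.map_D, map_zero] at h1
  simpa using h1

end H12DPow

namespace H12DPow

theorem main_normal_aux (p : ℕ) [Fact p.Prime] {A : Type u} [CommRing A] [IsDomain A]
    [IsIntegrallyClosed A] [CharP A p] (K : Type u) [Field K] [Algebra A K] [IsFractionRing A K]
    (s : A) (hs : KaehlerDifferential.D ℤ A s = 0) :
    ∃ f : A, f ^ p = s := by
  haveI : CharP K p :=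
    charP_of_injective_algebraMap (IsFractionRing.injective A K) p
  have h1 := congrArg (KaehlerDifferential.map ℤ ℤ A K) hs
  rw [KaehlerDifferential.map_D, map_zero] at h1
  obtain ⟨b, hb⟩ := main_int p _ h1
  have hint : IsIntegral A b := by
    refine ⟨Polynomial.X ^ p - Polynomial.C s,
      Polynomial.monic_X_pow_sub_C _ (Fact.out : p.Prime).ne_zero, ?_⟩
    simp [hb]
  obtain ⟨f, rfl⟩ := (IsIntegrallyClosed.isIntegral_iff (K := K)).1 hint
  refine ⟨f, IsFractionRing.injective A K ?_⟩
  rw [map_pow, hb]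

theorem main_normal (p : ℕ) [Fact p.Prime] {A : Type u} [CommRing A] [IsDomain A]
    [IsIntegrallyClosed A] [CharP A p] (s : A) (hs : KaehlerDifferential.D ℤ A s = 0) :
    ∃ f : A, f ^ p = s :=
  main_normal_aux p (FractionRing A) s hs

end H12DPow
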