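import Mathlib

set_option autoImplicit false
universe u

namespace H12S2211

variable {A : Type u} [CommRing A] (p : ℕ) (hp : p.Prime)

include hp in
lemma choose_unit_aux (q r : ℕ) (hr : r < p) : (p * q + r).choose (p * q) ≡ 1 [MOD p] := by
  haveI : Fact p.Prime := ⟨hp⟩
  have h := @Choose.choose_modEq_choose_mod_mul_choose_div_nat (p * q + r) (p * q) p _
  have h1 : (p * q + r) % p = r := by
    rw [Nat.mul_add_mod, Nat.mod_eq_of_lt hr]
  have h2 : (p * q) % p = 0 := Nat.mul_mod_right p q
  have h3 : (p * q + r) / p = q := by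
    rw [Nat.mul_add_div hp.pos, Nat.div_eq_of_lt hr, add_zero]
  have h4 : (p * q) / p = q := Nat.mul_div_cancel_left q hp.pos
  rw [h1, h2, h3, h4] at h
  simpa using h

include hp in
lemma bell_unit_aux (q : ℕ) : Nat.uniformBell q p ≡ 1 [MOD p] := by
  haveI : Fact p.Prime := ⟨hp⟩
  rw [Nat.uniformBell_eq]
  have : ∀ i ∈ Finset.range q, (i * p + p - 1).choose (p - 1) ≡ 1 [MOD p] := by
    intro i _
    have h := @Choose.choose_modEq_choose_mod_mul_choose_div_nat (i * p + p - 1) (p - 1) p _
    have hp1 : p - 1 < p := Nat.sub_lt hp.pos one_pos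
    have e : i * p + p - 1 = p * i + (p - 1) := by
      have := hp.pos
      rw [mul_comm]; omega
    have h1 : (i * p + p - 1) % p = p - 1 := by
      rw [e, Nat.mul_add_mod, Nat.mod_eq_of_lt hp1]
    have h2 : (p - 1) % p = p - 1 := Nat.mod_eq_of_lt hp1
    have h3 : (i * p + p - 1) / p = i := by
      rw [e, Nat.mul_add_div hp.pos, Nat.div_eq_of_lt hp1, add_zero]
    have h4 : (p - 1) / p = 0 := Nat.div_eq_of_lt hp1
    rw [h1, h2, h3, h4] at h
    simpa using h
  have h2 := Nat.ModEq.prod this
  simpa using h2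

include hp in
lemma unit_of_modEq_one (hA : ∀ n : ℕ, ¬ p ∣ n → IsUnit (n : A)) (m : ℕ) (hm : m ≡ 1 [MOD p]) :
    IsUnit (m : A) := by
  apply hA
  intro hd
  have : m ≡ 0 [MOD p] := (Nat.modEq_zero_iff_dvd).2 hd
  have h10 : 1 ≡ 0 [MOD p] := hm.symm.trans this
  rw [Nat.modEq_zero_iff_dvd] at h10
  exact hp.one_lt.ne' (Nat.dvd_one.1 h10)

include hp in
lemma main (hA : ∀ n : ℕ, ¬ p ∣ n → IsUnit (n : A)) {I : Ideal A} (γ γ' : DividedPowers I)
    (h : ∀ x ∈ I, γ.dpow p x = γ'.dpow p x) :
    ∀ n : ℕ, ∀ x ∈ I, γ.dpow n x = γ'.dpow n x := by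
  intro n
  induction n using Nat.strong_induction_on with
  | _ n ih =>
    intro x hx
    by_cases hnp : n < p
    · have hu : IsUnit ((n.factorial : ℕ) : A) := by
        apply hA
        intro hd
        exact absurd ((hp.dvd_factorial).1 hd) (not_le.2 hnp)
      have e1 := γ.factorial_mul_dpow_eq_pow (n := n) hx
      have e2 := γ'.factorial_mul_dpow_eq_pow (n := n) hx
      exact hu.mul_left_cancel (e1.trans e2.symm)
    · push Not at hnp
      obtain ⟨q, r, hr, rfl⟩ : ∃ q r, r < p ∧ n = p * q + r :=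
        ⟨n / p, n % p, Nat.mod_lt _ hp.pos, (Nat.div_add_mod n p).symm⟩
      have hq : 1 ≤ q := by
        by_contra hq
        have : q = 0 := by omega
        subst this
        omega
      have hpq : p ≤ p * q := Nat.le_mul_of_pos_right p hq
      by_cases hr0 : r = 0
      · subst hr0
        rw [add_zero]
        have hqlt : q < p * q + 0 := by
          have := hp.two_le
          nlinarith
        have e1 := γ.dpow_comp (m := q) (n := p) hp.ne_zero hx
        have e2 := γ'.dpow_comp (m := q) (n := p) hp.ne_zero hx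
        have hy : γ.dpow p x ∈ I := γ.dpow_mem hp.ne_zero hx
        rw [h x hx] at e1
        rw [ih q hqlt _ (h x hx ▸ hy)] at e1
        have hu := unit_of_modEq_one (A := A) p hp hA _ (bell_unit_aux p hp q)
        have := hu.mul_left_cancel (e1.symm.trans e2)
        rwa [mul_comm q p] at this
      · have hr' : 0 < r := Nat.pos_of_ne_zero hr0
        have e1 := γ.mul_dpow (m := p * q) (n := r) hx
        have e2 := γ'.mul_dpow (m := p * q) (n := r) hx
        rw [ih (p * q) (by omega) x hx, ih r (by omega) x hx] at e1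
        have hu := unit_of_modEq_one (A := A) p hp hA _ (choose_unit_aux p hp q r hr)
        exact hu.mul_left_cancel (e1.symm.trans e2)

end H12S2211
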