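import Mathlib

set_option autoImplicit false
universe u v

namespace H12S2207

open Finset

variable {A : Type u} {B : Type v} [CommRing A] [CommRing B] [Algebra A B]
  (x : A) (γ : DividedPowers (Ideal.span {x}))

local notation "f" => algebraMap A B

lemma map_eq : (Ideal.span {x}).map (algebraMap A B) = Ideal.span {algebraMap A B x} := by
  rw [Ideal.map_span, Set.image_singleton]

lemma mem_iff (y : B) : y ∈ (Ideal.span {x}).map (algebraMap A B) ↔ ∃ b : B, b * algebraMap A B x = y := by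
  rw [map_eq, Ideal.mem_span_singleton']

lemma pow_mul_eq {b b' : B} (h : b * f x = b' * f x) (n : ℕ) : b ^ n * f x = b' ^ n * f x := by
  induction n with
  | zero => simp
  | succ n ih =>
    calc b ^ (n + 1) * f x = b ^ n * (b * f x) := by ring
      _ = b' * (b ^ n * f x) := by rw [h]; ring
      _ = b' ^ (n + 1) * f x := by rw [ih]; ring

include γ in
lemma pow_mul_dpow_eq {b b' : B} (h : b * f x = b' * f x) (n : ℕ) :
    b ^ n * f (γ.dpow n x) = b' ^ n * f (γ.dpow n x) := by
  have hx : x ∈ Ideal.span {x} := Ideal.mem_span_singleton_self x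
  rcases Nat.eq_zero_or_pos n with rfl | hn
  · simp
  · have hm : γ.dpow n x ∈ Ideal.span {x} := γ.dpow_mem hn.ne' hx
    obtain ⟨a, ha⟩ := Ideal.mem_span_singleton'.1 hm
    rw [← ha, map_mul]
    calc b ^ n * (f a * f x) = f a * (b ^ n * f x) := by ring
      _ = f a * (b' ^ n * f x) := by rw [pow_mul_eq x h n]
      _ = b' ^ n * (f a * f x) := by ring

open Classical in
/-- The extended divided power function. -/
noncomputable def dp (n : ℕ) (y : B) : B :=
  if h : y ∈ (Ideal.span {x}).map (algebraMap A B) then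
    ((mem_iff x y).1 h).choose ^ n * f (γ.dpow n x)
  else 0

lemma dp_eq (n : ℕ) (b : B) : dp x γ n (b * f x) = b ^ n * f (γ.dpow n x) := by
  have h : b * f x ∈ (Ideal.span {x}).map (algebraMap A B) := (mem_iff x _).2 ⟨b, rfl⟩
  unfold dp
  rw [dif_pos h]
  exact pow_mul_dpow_eq x γ ((mem_iff x _).1 h).choose_spec n

lemma dp_null (n : ℕ) {y : B} (h : y ∉ (Ideal.span {x}).map (algebraMap A B)) : dp x γ n y = 0 := by
  unfold dp
  rw [dif_neg h]

/-- The extended divided power structure. -/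
noncomputable def δ : DividedPowers ((Ideal.span {x}).map (algebraMap A B)) where
  dpow := dp x γ
  dpow_null := fun {n y} h => dp_null x γ n h
  dpow_zero := fun {y} h => by
    obtain ⟨b, rfl⟩ := (mem_iff x y).1 h
    rw [dp_eq, pow_zero, one_mul, γ.dpow_zero (Ideal.mem_span_singleton_self x), map_one]
  dpow_one := fun {y} h => by
    obtain ⟨b, rfl⟩ := (mem_iff x y).1 h
    rw [dp_eq, pow_one, γ.dpow_one (Ideal.mem_span_singleton_self x)]
  dpow_mem := fun {n y} hn h => by
    obtain ⟨b, rfl⟩ := (mem_iff x y).1 h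
    rw [dp_eq]
    exact Ideal.mul_mem_left _ _ (Ideal.mem_map_of_mem _ (γ.dpow_mem hn (Ideal.mem_span_singleton_self x)))
  dpow_add := fun {n y y'} h h' => by
    obtain ⟨b, rfl⟩ := (mem_iff x y).1 h
    obtain ⟨b', rfl⟩ := (mem_iff x y').1 h'
    have hx : x ∈ Ideal.span {x} := Ideal.mem_span_singleton_self x
    rw [← add_mul, dp_eq, add_pow, Finset.sum_mul, Finset.Nat.sum_antidiagonal_eq_sum_range_succ_mk]
    refine Finset.sum_congr rfl (fun i hi => ?_)
    have hi' : i ≤ n := Nat.lt_succ_iff.1 (Finset.mem_range.1 hi)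
    rw [dp_eq, dp_eq]
    have e := γ.mul_dpow (m := i) (n := n - i) hx
    rw [Nat.add_sub_cancel' hi'] at e
    calc b ^ i * b' ^ (n - i) * ((n.choose i : ℕ) : B) * f (γ.dpow n x)
        = b ^ i * b' ^ (n - i) * f (((n.choose i : ℕ) : A) * γ.dpow n x) := by
          rw [map_mul, map_natCast]; ring
      _ = b ^ i * b' ^ (n - i) * f (γ.dpow i x * γ.dpow (n - i) x) := by rw [e]
      _ = b ^ i * f (γ.dpow i x) * (b' ^ (n - i) * f (γ.dpow (n - i) x)) := by
          rw [map_mul]; ring
  dpow_mul := fun {n c y} h => by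
    obtain ⟨b, rfl⟩ := (mem_iff x y).1 h
    rw [← mul_assoc, dp_eq, dp_eq, mul_pow, mul_assoc]
  mul_dpow := fun {m n y} h => by
    obtain ⟨b, rfl⟩ := (mem_iff x y).1 h
    have hx : x ∈ Ideal.span {x} := Ideal.mem_span_singleton_self x
    rw [dp_eq, dp_eq, dp_eq]
    calc b ^ m * f (γ.dpow m x) * (b ^ n * f (γ.dpow n x))
        = b ^ (m + n) * f (γ.dpow m x * γ.dpow n x) := by rw [map_mul]; ring
      _ = b ^ (m + n) * f ((((m + n).choose m : ℕ) : A) * γ.dpow (m + n) x) := by
          rw [γ.mul_dpow hx]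
      _ = (((m + n).choose m : ℕ) : B) * (b ^ (m + n) * f (γ.dpow (m + n) x)) := by
          rw [map_mul, map_natCast]; ring
  dpow_comp := fun {m n y} hn h => by
    obtain ⟨b, rfl⟩ := (mem_iff x y).1 h
    have hx : x ∈ Ideal.span {x} := Ideal.mem_span_singleton_self x
    have hm : γ.dpow n x ∈ Ideal.span {x} := γ.dpow_mem hn hx
    obtain ⟨a, ha⟩ := Ideal.mem_span_singleton'.1 hm
    rw [dp_eq, dp_eq]
    have e1 : b ^ n * f (γ.dpow n x) = (b ^ n * f a) * f x := by
      rw [← ha, map_mul]; ring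
    rw [e1, dp_eq]
    have e2 : γ.dpow m (γ.dpow n x) = a ^ m * γ.dpow m x := by
      rw [← ha, γ.dpow_mul hx]
    have e3 := γ.dpow_comp (m := m) hn hx
    calc (b ^ n * f a) ^ m * f (γ.dpow m x)
        = b ^ (m * n) * f (a ^ m * γ.dpow m x) := by
          rw [map_mul, map_pow, mul_pow, ← pow_mul, mul_comm n m]; ring
      _ = b ^ (m * n) * f (((Nat.uniformBell m n : ℕ) : A) * γ.dpow (m * n) x) := by
          rw [← e2, e3]
      _ = ((Nat.uniformBell m n : ℕ) : B) * (b ^ (m * n) * f (γ.dpow (m * n) x)) := by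
          rw [map_mul, map_natCast]; ring

lemma isDPMorphism : γ.IsDPMorphism (δ x γ) (algebraMap A B) := by
  refine ⟨le_rfl, ?_⟩
  intro n a ha
  have hx : x ∈ Ideal.span {x} := Ideal.mem_span_singleton_self x
  obtain ⟨c, rfl⟩ := Ideal.mem_span_singleton'.1 ha
  show dp x γ n (f (c * x)) = f (γ.dpow n (c * x))
  rw [map_mul, dp_eq, γ.dpow_mul hx, map_mul, map_pow]

end H12S2207
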