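import Mathlib
import Groth.Agent.Lib.Helper12.DeRham1

namespace Groth.Agent.Lib.Helper12.Poinc

open ExteriorAlgebra CliffordAlgebra
open Groth.Agent.Lib.Helper12.DeRham (ι_mul_eq involute_of_mem mul_mem_exteriorPower ι_mem algebraMap_mem)

universe u v

variable {A : Type u} {M : Type v} [CommRing A] [AddCommGroup M] [Module A M]

/-- contraction by a linear form, on the exterior algebra -/
noncomputable def ctr (ε : Module.Dual A M) : ExteriorAlgebra A M →ₗ[A] ExteriorAlgebra A M :=
  CliffordAlgebra.contractLeft (Q := (0 : QuadraticForm A M)) ε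

theorem ctr_ι_mul (ε : Module.Dual A M) (m : M) (x : ExteriorAlgebra A M) :
    ctr ε (ι A m * x) = algebraMap A _ (ε m) * x - ι A m * ctr ε x := by
  rw [ctr, ExteriorAlgebra.ι, CliffordAlgebra.contractLeft_ι_mul, Algebra.smul_def]

theorem ctr_algebraMap (ε : Module.Dual A M) (a : A) :
    ctr ε (algebraMap A (ExteriorAlgebra A M) a) = 0 :=
  CliffordAlgebra.contractLeft_algebraMap _ _ _

theorem ctr_algebraMap_mul (ε : Module.Dual A M) (a : A) (x : ExteriorAlgebra A M) :
    ctr ε (algebraMap A (ExteriorAlgebra A M) a * x) = algebraMap A _ a * ctr ε x :=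
  CliffordAlgebra.contractLeft_algebraMap_mul _ _ _

theorem ctr_ι (ε : Module.Dual A M) (m : M) :
    ctr ε (ι A m) = algebraMap A (ExteriorAlgebra A M) (ε m) :=
  CliffordAlgebra.contractLeft_ι _ _ _

theorem ctr_one (ε : Module.Dual A M) : ctr ε (1 : ExteriorAlgebra A M) = 0 :=
  CliffordAlgebra.contractLeft_one _ _

/-- contraction is an anti-derivation -/
theorem ctr_mul (ε : Module.Dual A M) (y x : ExteriorAlgebra A M) :
    ctr ε (y * x) = ctr ε y * x + involute y * ctr ε x := by
  induction y using CliffordAlgebra.left_induction with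
  | algebraMap a =>
    rw [ctr_algebraMap_mul, ctr_algebraMap, zero_mul, zero_add, AlgHom.commutes]
  | add y z hy hz => rw [add_mul, map_add, hy, hz, map_add, map_add, add_mul, add_mul]; abel
  | ι_mul y m hy =>
    have e1 : (CliffordAlgebra.ι (0 : QuadraticForm A M)) m = ι A m := rfl
    rw [e1, mul_assoc, ctr_ι_mul, hy, ctr_ι_mul, map_mul, involute_ι]
    noncomm_ring

/-- contraction lowers the degree -/
theorem ctr_mem (ε : Module.Dual A M) (p : ℕ) {x : ExteriorAlgebra A M} (hx : x ∈ ⋀[A]^p M) :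
    (p = 0 → ctr ε x = 0) ∧ ctr ε x ∈ ⋀[A]^(p - 1) M := by
  induction hx using Submodule.pow_induction_on_left' with
  | algebraMap a =>
    rw [ctr_algebraMap]
    exact ⟨fun _ => rfl, Submodule.zero_mem _⟩
  | add x y i hx hy ihx ihy =>
    rw [map_add]
    refine ⟨fun h => ?_, Submodule.add_mem _ ihx.2 ihy.2⟩
    rw [ihx.1 h, ihy.1 h, add_zero]
  | mem_mul m hm i x hx ih =>
    obtain ⟨ω, rfl⟩ := hm
    refine ⟨fun h => by omega, ?_⟩
    have e1 : (CliffordAlgebra.ι (0 : QuadraticForm A M)) ω = ι A ω := rfl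
    rw [e1, ctr_ι_mul, show i.succ - 1 = i from rfl]
    refine Submodule.sub_mem _ ?_ ?_
    · rw [← Algebra.smul_def]
      exact Submodule.smul_mem _ _ hx
    · rcases Nat.eq_zero_or_pos i with h0 | hpos
      · rw [ih.1 h0, mul_zero]
        exact Submodule.zero_mem _
      · have h := mul_mem_exteriorPower (ι_mem (A := A) ω) ih.2
        rwa [show 1 + (i - 1) = i by omega] at h

end Groth.Agent.Lib.Helper12.Poinc
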