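import Mathlib
import Groth.Agent.Lib.Helper12.Poinc1

namespace Groth.Agent.Lib.Helper12.Poinc

open ExteriorAlgebra CliffordAlgebra
open Groth.Agent.Lib.Helper12.DeRham (ι_mul_eq involute_of_mem mul_mem_exteriorPower ι_mem algebraMap_mem)

universe u v w

variable {k : Type w} {A : Type u} {M : Type v} [CommRing k] [CommRing A] [Algebra k A]
  [AddCommGroup M] [Module A M] [Module k M] [IsScalarTower k A M]

/-- the axioms of a de Rham differential on the whole exterior algebra (additive version) -/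
structure IsDR (δ : Derivation k A M) (D : ExteriorAlgebra A M →+ ExteriorAlgebra A M) : Prop where
  one : D 1 = 0
  algebraMap_mul : ∀ (a : A) (x : ExteriorAlgebra A M),
    D (algebraMap A _ a * x) = ι A (δ a) * x + algebraMap A _ a * D x
  ι_mul : ∀ (b : A) (x : ExteriorAlgebra A M), D (ι A (δ b) * x) = -(ι A (δ b) * D x)
  mem : ∀ (p : ℕ) (x : ExteriorAlgebra A M), x ∈ ⋀[A]^p M → D x ∈ ⋀[A]^(p + 1) M
  sq : ∀ x, D (D x) = 0

variable {δ : Derivation k A M} {D : ExteriorAlgebra A M →+ ExteriorAlgebra A M}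

theorem IsDR.algebraMap (h : IsDR δ D) (a : A) : D (algebraMap A _ a) = ι A (δ a) := by
  have := h.algebraMap_mul a 1
  rwa [mul_one, mul_one, h.one, mul_zero, add_zero] at this

theorem IsDR.ι_δ (h : IsDR δ D) (b : A) : D (ι A (δ b)) = 0 := by
  have := h.ι_mul b 1
  rwa [mul_one, h.one, mul_zero, neg_zero] at this

theorem IsDR.ι_mul' (h : IsDR δ D) (hspan : Submodule.span A (Set.range δ) = ⊤) (m : M)
    (x : ExteriorAlgebra A M) : D (ι A m * x) = D (ι A m) * x - ι A m * D x := by
  have hm : m ∈ Submodule.span A (Set.range δ) := by rw [hspan]; trivial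
  induction hm using Submodule.span_induction with
  | mem m hm =>
    obtain ⟨b, rfl⟩ := hm
    rw [h.ι_mul, h.ι_δ, zero_mul, zero_sub]
  | zero => simp
  | add m n _ _ hm hn =>
    rw [map_add, add_mul, map_add, hm, hn, map_add, add_mul, add_mul]; abel
  | smul a m _ hm =>
    rw [map_smul, Algebra.smul_def, mul_assoc, h.algebraMap_mul, hm, h.algebraMap_mul]
    noncomm_ring

/-- the Lie derivative `L = D ι_ε + ι_ε D` -/
noncomputable def Lop (D : ExteriorAlgebra A M →+ ExteriorAlgebra A M) (ε : Module.Dual A M)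
    (x : ExteriorAlgebra A M) : ExteriorAlgebra A M := D (ctr ε x) + ctr ε (D x)

theorem Lop_add (ε : Module.Dual A M) (x y : ExteriorAlgebra A M) :
    Lop D ε (x + y) = Lop D ε x + Lop D ε y := by
  simp only [Lop, map_add]; abel

theorem Lop_zero (ε : Module.Dual A M) : Lop D ε 0 = 0 := by
  simp [Lop]

theorem Lop_sum (ε : Module.Dual A M) {ι' : Type*} (s : Finset ι') (f : ι' → ExteriorAlgebra A M) :
    Lop D ε (∑ i ∈ s, f i) = ∑ i ∈ s, Lop D ε (f i) := by
  classical
  induction s using Finset.induction_on with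
  | empty => simp [Lop_zero]
  | insert a s ha ih => rw [Finset.sum_insert ha, Finset.sum_insert ha, Lop_add, ih]

theorem Lop_one (h : IsDR δ D) (ε : Module.Dual A M) : Lop D ε 1 = 0 := by
  rw [Lop, ctr_one, map_zero, h.one, map_zero, add_zero]

theorem Lop_D (h : IsDR δ D) (ε : Module.Dual A M) (x : ExteriorAlgebra A M) :
    Lop D ε (D x) = D (Lop D ε x) := by
  rw [Lop, Lop, h.sq, map_zero, add_zero, map_add, h.sq, zero_add]

theorem Lop_algebraMap_mul (h : IsDR δ D) (ε : Module.Dual A M) (a : A)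
    (x : ExteriorAlgebra A M) :
    Lop D ε (algebraMap A _ a * x) = algebraMap A _ (ε (δ a)) * x + algebraMap A _ a * Lop D ε x := by
  rw [Lop, Lop, ctr_algebraMap_mul, h.algebraMap_mul, h.algebraMap_mul, map_add, ctr_ι_mul,
    ctr_algebraMap_mul]
  noncomm_ring

theorem Lop_ι_mul (h : IsDR δ D) (hspan : Submodule.span A (Set.range δ) = ⊤)
    (ε : Module.Dual A M) (m : M) (x : ExteriorAlgebra A M) :
    Lop D ε (ι A m * x) = Lop D ε (ι A m) * x + ι A m * Lop D ε x := by
  have hη : involute (D (ι A m)) = D (ι A m) := by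
    rw [involute_of_mem 2 (h.mem 1 _ (ι_mem m))]; simp
  rw [Lop, Lop, Lop, ctr_ι_mul, h.ι_mul' hspan, map_sub, map_sub, h.algebraMap_mul,
    h.ι_mul' hspan, ctr_mul, hη, ctr_ι_mul, ctr_ι, h.algebraMap]
  noncomm_ring

theorem Lop_ι_δ (h : IsDR δ D) (ε : Module.Dual A M) (b : A) :
    Lop D ε (ι A (δ b)) = ι A (δ (ε (δ b))) := by
  rw [Lop, ctr_ι, h.algebraMap, h.ι_δ, map_zero, add_zero]

theorem Lop_list (h : IsDR δ D) (hspan : Submodule.span A (Set.range δ) = ⊤)
    (ε : Module.Dual A M) (l : List M) (hl : ∀ m ∈ l, Lop D ε (ι A m) = ι A m) :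
    Lop D ε (l.map (ι A)).prod = (l.length : ExteriorAlgebra A M) * (l.map (ι A)).prod := by
  induction l with
  | nil => simp [Lop_one h]
  | cons m l ih =>
    rw [List.map_cons, List.prod_cons, Lop_ι_mul h hspan, hl m (List.mem_cons_self ..),
      ih (fun n hn => hl n (List.mem_cons_of_mem _ hn)), List.length_cons]
    push_cast
    have hc : Commute ((l.length : ExteriorAlgebra A M)) (ι A m) := Nat.cast_commute _ _
    rw [← mul_assoc, ← hc.eq]
    noncomm_ring

theorem Lop_coeff (h : IsDR δ D) (hspan : Submodule.span A (Set.range δ) = ⊤)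
    (ε : Module.Dual A M) (l : List M) (hl : ∀ m ∈ l, Lop D ε (ι A m) = ι A m) (a : A) :
    Lop D ε (algebraMap A _ a * (l.map (ι A)).prod) =
      algebraMap A _ (ε (δ a) + l.length • a) * (l.map (ι A)).prod := by
  rw [Lop_algebraMap_mul h, Lop_list h hspan ε l hl, map_add, add_mul, nsmul_eq_mul, map_mul,
    map_natCast]
  have hc : Commute ((l.length : ExteriorAlgebra A M)) (algebraMap A (ExteriorAlgebra A M) a) :=
    Nat.cast_commute _ _
  rw [← mul_assoc, hc.eq]

end Groth.Agent.Lib.Helper12.Poinc
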