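import Mathlib
import Groth.Prelude.Def_DeRham
import Groth.Agent.Lib.Helper12.Poinc2
import Groth.Agent.Lib.Helper5.DeRhamGen

namespace Groth.Agent.Lib.Helper12.Poinc

open ExteriorAlgebra CliffordAlgebra Module
open Groth.Agent.Lib.Helper12.DeRham (ι_mul_eq involute_of_mem mul_mem_exteriorPower ι_mem algebraMap_mem)

universe u w

variable {k : Type w} {A M : Type u} [CommRing k] [CommRing A] [Algebra k A]
  [AddCommGroup M] [Module A M] [Module k M] [IsScalarTower k A M]

/-- the global additive map assembled from a degreewise family -/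
noncomputable def glob (d : ∀ p : ℕ, ↥(⋀[A]^p M) →ₗ[k] ↥(⋀[A]^(p + 1) M)) :
    ExteriorAlgebra A M →+ ExteriorAlgebra A M :=
  (DirectSum.toAddMonoid (fun p : ℕ =>
      ((⋀[A]^(p + 1) M).subtype.toAddMonoidHom).comp (d p).toAddMonoidHom)).comp
    (@DirectSum.decomposeAddEquiv ℕ (ExteriorAlgebra A M) (Submodule A (ExteriorAlgebra A M)) _ _ _ _
      (fun p : ℕ => ⋀[A]^p M)
      (ExteriorAlgebra.gradedAlgebra A M).toDecomposition).toAddMonoidHom

theorem glob_of_mem (d : ∀ p : ℕ, ↥(⋀[A]^p M) →ₗ[k] ↥(⋀[A]^(p + 1) M)) {p : ℕ}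
    {x : ExteriorAlgebra A M} (hx : x ∈ ⋀[A]^p M) :
    glob d x = ((d p ⟨x, hx⟩ : ⋀[A]^(p + 1) M) : ExteriorAlgebra A M) := by
  letI : DirectSum.Decomposition (fun p : ℕ => ⋀[A]^p M) :=
    (ExteriorAlgebra.gradedAlgebra A M).toDecomposition
  show DirectSum.toAddMonoid _ (DirectSum.decompose (fun p : ℕ => ⋀[A]^p M) x) = _
  rw [DirectSum.decompose_of_mem _ hx, DirectSum.toAddMonoid_of]
  rfl

theorem glob_coe (d : ∀ p : ℕ, ↥(⋀[A]^p M) →ₗ[k] ↥(⋀[A]^(p + 1) M)) {p : ℕ}
    (x : ⋀[A]^p M) :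
    glob d (x : ExteriorAlgebra A M) = ((d p x : ⋀[A]^(p + 1) M) : ExteriorAlgebra A M) :=
  glob_of_mem d x.2

theorem coe_gen (δ : Derivation k A M) (p : ℕ) (b₀ : A) (b : Fin p → A) :
    ((DeRham.gen δ p b₀ b : ⋀[A]^p M) : ExteriorAlgebra A M) =
      algebraMap A _ b₀ * ExteriorAlgebra.ιMulti A p (fun i => δ (b i)) := by
  rw [DeRham.gen, Submodule.coe_smul, exteriorPower.ιMulti_apply_coe, Algebra.smul_def]

theorem glob_gen {δ : Derivation k A M} {d : ∀ p : ℕ, ↥(⋀[A]^p M) →ₗ[k] ↥(⋀[A]^(p + 1) M)}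
    (hd : DeRham.IsDiff δ d) (p : ℕ) (b₀ : A) (b : Fin p → A) :
    glob d ((DeRham.gen δ p b₀ b : ⋀[A]^p M) : ExteriorAlgebra A M) =
      ι A (δ b₀) * ExteriorAlgebra.ιMulti A p (fun i => δ (b i)) := by
  rw [glob_coe, hd.1 p b₀ b, exteriorPower.ιMulti_apply_coe, ExteriorAlgebra.ιMulti_succ_apply]
  congr 1

/-- induction principle: additive predicates on the exterior algebra are determined on generators -/
theorem glob_induction {δ : Derivation k A M} (hspan : Submodule.span A (Set.range δ) = ⊤)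
    {P : ExteriorAlgebra A M → Prop} (h0 : P 0) (hadd : ∀ x y, P x → P y → P (x + y))
    (hgen : ∀ (p : ℕ) (b₀ : A) (b : Fin p → A),
      P (algebraMap A _ b₀ * ExteriorAlgebra.ιMulti A p (fun i => δ (b i)))) :
    ∀ x, P x := by
  intro x
  induction x using DirectSum.Decomposition.inductionOn (fun i : ℕ => ⋀[A]^i M) with
  | zero => exact h0
  | @homogeneous p m =>
    refine Groth.Agent.Lib.Helper5.DeRhamGen.gen_induction δ hspan p
      (P := fun y => P (y : ExteriorAlgebra A M)) h0 (fun x y hx hy => ?_) (fun b₀ b => ?_) m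
    · rw [Submodule.coe_add]; exact hadd _ _ hx hy
    · rw [coe_gen]; exact hgen p b₀ b
  | add m m' hm hm' => exact hadd _ _ hm hm'

theorem isDR_glob {δ : Derivation k A M} {d : ∀ p : ℕ, ↥(⋀[A]^p M) →ₗ[k] ↥(⋀[A]^(p + 1) M)}
    (hd : DeRham.IsDiff δ d) (hspan : Submodule.span A (Set.range δ) = ⊤) :
    IsDR δ (glob d) := by
  have hgen : ∀ (p : ℕ) (b₀ : A) (b : Fin p → A),
      glob d (algebraMap A _ b₀ * ExteriorAlgebra.ιMulti A p (fun i => δ (b i))) =
        ι A (δ b₀) * ExteriorAlgebra.ιMulti A p (fun i => δ (b i)) := by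
    intro p b₀ b
    rw [← coe_gen, glob_gen hd]
  refine ⟨?_, ?_, ?_, ?_, ?_⟩
  · have := hgen 0 1 Fin.elim0
    rw [map_one, ExteriorAlgebra.ιMulti_zero_apply, mul_one, Derivation.map_one_eq_zero, map_zero,
      zero_mul] at this
    exact this
  · intro a x
    induction x using glob_induction hspan with
    | h0 => simp
    | hadd x y hx hy => rw [mul_add, map_add, hx, hy, map_add, mul_add, mul_add]; abel
    | hgen p b₀ b =>
      rw [← mul_assoc, ← map_mul, hgen, hgen, Derivation.leibniz, map_add, map_smul, map_smul,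
        Algebra.smul_def, Algebra.smul_def]
      have hc := Algebra.commutes b₀ (ι A (δ a))
      rw [add_mul, mul_assoc, mul_assoc, ← mul_assoc (ι A (δ a)), ← hc, mul_assoc, add_comm]
  · intro b' x
    induction x using glob_induction hspan with
    | h0 => simp
    | hadd x y hx hy => rw [mul_add, map_add, hx, hy, map_add, mul_add, neg_add]
    | hgen p b₀ b =>
      have e3 : ExteriorAlgebra.ιMulti A (p + 1)
            (fun i => δ ((Fin.cons b' b : Fin (p + 1) → A) i)) =
          ι A (δ b') * ExteriorAlgebra.ιMulti A p (fun i => δ (b i)) := by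
        rw [ExteriorAlgebra.ιMulti_succ_apply]
        rfl
      have e1 : ι A (δ b') * (algebraMap A _ b₀ * ExteriorAlgebra.ιMulti A p (fun i => δ (b i))) =
          algebraMap A _ b₀ * ExteriorAlgebra.ιMulti A (p + 1)
            (fun i => δ ((Fin.cons b' b : Fin (p + 1) → A) i)) := by
        rw [e3, ← mul_assoc, ← Algebra.commutes b₀, mul_assoc]
      rw [e1, hgen, hgen, e3]
      have e2 : ι A (δ b₀) * (ι A (δ b') * ExteriorAlgebra.ιMulti A p (fun i => δ (b i))) =
          -(ι A (δ b') * (ι A (δ b₀) * ExteriorAlgebra.ιMulti A p (fun i => δ (b i)))) := by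
        have h0 : ι A (δ b₀) * ι A (δ b') = -(ι A (δ b') * ι A (δ b₀)) := by
          have := ι_mul_eq (A := A) (δ b₀) (ι A (δ b'))
          rw [involute_ι, neg_mul] at this
          exact this
        rw [← mul_assoc, h0, neg_mul, mul_assoc]
      exact e2
  · intro p x hx
    rw [glob_of_mem d hx]
    exact Subtype.property _
  · intro x
    induction x using DirectSum.Decomposition.inductionOn (fun i : ℕ => ⋀[A]^i M) with
    | zero => simp
    | @homogeneous p m =>
      rw [glob_coe, glob_coe]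
      have := LinearMap.congr_fun (hd.2 p) m
      rw [LinearMap.comp_apply, LinearMap.zero_apply] at this
      rw [this]; rfl
    | add m m' hm hm' => rw [map_add, map_add, hm, hm', add_zero]

end Groth.Agent.Lib.Helper12.Poinc
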