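import Mathlib

set_option autoImplicit false
universe u
open CategoryTheory

namespace H12DT

variable (B : Type u) [CommRing B] (F : ModuleCat.{u} B ⥤ ModuleCat.{u} B) [F.Additive] [F.Linear B]

/-- `F` kills the module `N`. -/
def Z (N : Type u) [AddCommGroup N] [Module B N] : Prop :=
  Limits.IsZero (F.obj (ModuleCat.of B N))

variable {B}

theorem Z_of_equiv {N N' : Type u} [AddCommGroup N] [Module B N] [AddCommGroup N'] [Module B N']
    (e : N ≃ₗ[B] N') (h : Z B F N) : Z B F N' :=
  Limits.IsZero.of_iso h (F.mapIso e.toModuleIso).symm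

theorem Z_of_subsingleton (N : Type u) [AddCommGroup N] [Module B N] [Subsingleton N] : Z B F N :=
  F.map_isZero (ModuleCat.isZero_of_subsingleton _)

theorem Z_of_exact
    (hex : ∀ S : ShortComplex (ModuleCat.{u} B), S.ShortExact → Module.Finite B S.X₂ → (S.map F).Exact)
    {N₁ N₂ N₃ : Type u} [AddCommGroup N₁] [Module B N₁] [AddCommGroup N₂] [Module B N₂]
    [AddCommGroup N₃] [Module B N₃] [Module.Finite B N₂]
    (f : N₁ →ₗ[B] N₂) (g : N₂ →ₗ[B] N₃) (hf : Function.Injective f) (hg : Function.Surjective g)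
    (hfg : Function.Exact f g) (h1 : Z B F N₁) (h3 : Z B F N₃) : Z B F N₂ := by
  let S : ShortComplex (ModuleCat.{u} B) :=
    ShortComplex.mk (ModuleCat.ofHom f) (ModuleCat.ofHom g) (by
      ext x
      exact hfg.apply_apply_eq_zero x)
  have hS : S.ShortExact := ModuleCat.shortComplex_shortExact S hfg hf hg
  have hE := hex S hS (inferInstanceAs (Module.Finite B N₂))
  exact hE.isZero_X₂ (h1.eq_of_src _ _) (h3.eq_of_tgt _ _)


section
variable [IsNoetherianRing B]

theorem lemmaA
    (hex : ∀ S : ShortComplex (ModuleCat.{u} B), S.ShortExact → Module.Finite B S.X₂ → (S.map F).Exact)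
    (J : Ideal B)
    (hJ : ∀ q : Ideal B, q.IsPrime → J ≤ q → Z B F (B ⧸ q))
    (N : Type u) [AddCommGroup N] [Module B N] (hN : Module.Finite B N)
    (hk : ∀ a ∈ J, ∀ n : N, a • n = 0) : Z B F N := by
  induction hN using IsNoetherianRing.induction_on_isQuotientEquivQuotientPrime B with
  | subsingleton N => exact Z_of_subsingleton F N
  | quotient N p e =>
    have hle : J ≤ p.1 := by
      intro a ha
      have h1 := hk a ha (e.symm 1)
      have h2 : a • (1 : B ⧸ p.1) = 0 := by
        have := congrArg e h1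
        rwa [map_smul, LinearEquiv.apply_symm_apply, map_zero] at this
      rw [Algebra.smul_def, mul_one] at h2
      exact Ideal.Quotient.eq_zero_iff_mem.mp h2
    exact Z_of_equiv F e.symm (hJ p.1 p.2 hle)
  | exact N₁ N₂ N₃ f g hf hg hfg h₁ h₃ =>
    refine Z_of_exact F hex f g hf hg hfg (h₁ ?_) (h₃ ?_)
    · intro a ha n
      apply hf
      rw [map_smul, map_zero]
      exact hk a ha (f n)
    · intro a ha n
      obtain ⟨n', rfl⟩ := hg n
      rw [← map_smul, hk a ha n', map_zero]

end

end H12DT
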