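import Mathlib
import Groth.Agent.Lib.Helper12.DT1

set_option autoImplicit false
universe u
open CategoryTheory

namespace H12DT

variable {B : Type u} [CommRing B] (F : ModuleCat.{u} B ⥤ ModuleCat.{u} B) [F.Additive] [F.Linear B]

/-- multiplication by `x` is surjective on `F (B/p)` if `F` kills `B/(p + x)`. -/
theorem smul_surj
    (hex : ∀ S : ShortComplex (ModuleCat.{u} B), S.ShortExact → Module.Finite B S.X₂ → (S.map F).Exact)
    (p : Ideal B) [hp : p.IsPrime] (x : B) (hx : x ∉ p)
    (hZ : Z B F (B ⧸ (p ⊔ Ideal.span {x}))) :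
    ∀ n : F.obj (ModuleCat.of B (B ⧸ p)), ∃ n' : F.obj (ModuleCat.of B (B ⧸ p)), x • n' = n := by
  let mulx : (B ⧸ p) →ₗ[B] (B ⧸ p) := LinearMap.lsmul B (B ⧸ p) x
  let g : (B ⧸ p) →ₗ[B] (B ⧸ (p ⊔ Ideal.span {x})) :=
    Submodule.mapQ p (p ⊔ Ideal.span {x}) LinearMap.id (by
      intro y hy
      exact Ideal.mem_sup_left hy)
  have hinj : Function.Injective mulx := by
    rw [← LinearMap.ker_eq_bot, LinearMap.ker_eq_bot']
    intro y hy
    obtain ⟨y, rfl⟩ := Ideal.Quotient.mk_surjective y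
    have h1 : Ideal.Quotient.mk p (x * y) = 0 := by
      rw [map_mul]
      have : mulx (Ideal.Quotient.mk p y) = Ideal.Quotient.mk p x * Ideal.Quotient.mk p y := by
        change x • (Ideal.Quotient.mk p y) = _
        rw [Algebra.smul_def]
        rfl
      rw [← this, hy]
    rw [Ideal.Quotient.eq_zero_iff_mem] at h1 ⊢
    exact (hp.mem_or_mem h1).resolve_left hx
  have hsurj : Function.Surjective g := by
    intro y
    obtain ⟨y, rfl⟩ := Ideal.Quotient.mk_surjective y
    exact ⟨Ideal.Quotient.mk p y, rfl⟩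
  have hexact : Function.Exact mulx g := by
    intro y
    obtain ⟨y, rfl⟩ := Ideal.Quotient.mk_surjective y
    constructor
    · intro hy
      have h1 : Ideal.Quotient.mk (p ⊔ Ideal.span {x}) y = 0 := hy
      rw [Ideal.Quotient.eq_zero_iff_mem, Submodule.mem_sup] at h1
      obtain ⟨a, ha, b, hb, rfl⟩ := h1
      obtain ⟨c, rfl⟩ := Ideal.mem_span_singleton'.mp hb
      refine ⟨Ideal.Quotient.mk p c, ?_⟩
      change x • Ideal.Quotient.mk p c = _
      rw [map_add, Ideal.Quotient.eq_zero_iff_mem.mpr ha, zero_add, Algebra.smul_def, mul_comm c x,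
        map_mul]
      rfl
    · rintro ⟨z, hz⟩
      obtain ⟨z, rfl⟩ := Ideal.Quotient.mk_surjective z
      rw [← hz]
      change Ideal.Quotient.mk (p ⊔ Ideal.span {x}) (x • z) = 0
      rw [Ideal.Quotient.eq_zero_iff_mem]
      exact Ideal.mem_sup_right (Ideal.mul_mem_right _ _ (Ideal.mem_span_singleton_self x))
  let S : ShortComplex (ModuleCat.{u} B) :=
    ShortComplex.mk (ModuleCat.ofHom mulx) (ModuleCat.ofHom g) (by
      apply ModuleCat.hom_ext
      apply LinearMap.ext
      intro y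
      exact hexact.apply_apply_eq_zero y)
  have hS : S.ShortExact := ModuleCat.shortComplex_shortExact S hexact hinj hsurj
  have hE := hex S hS (inferInstanceAs (Module.Finite B (B ⧸ p)))
  rw [ShortComplex.moduleCat_exact_iff] at hE
  intro n
  have hg0 : (S.map F).g = 0 := hZ.eq_of_tgt _ _
  obtain ⟨n', hn'⟩ := hE n (by rw [hg0]; rfl)
  refine ⟨n', ?_⟩
  rw [← hn']
  have h1 : ModuleCat.ofHom mulx = x • 𝟙 (ModuleCat.of B (B ⧸ p)) := by
    apply ModuleCat.hom_ext
    apply LinearMap.ext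
    intro y
    rfl
  change _ = (F.map (ModuleCat.ofHom mulx)).hom n'
  rw [h1, Functor.map_smul, F.map_id]
  rfl

end H12DT
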