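import Mathlib
import Groth.Agent.Lib.Helper12.DT2

set_option autoImplicit false
universe u
open CategoryTheory

namespace H12DT

variable {B : Type u} [CommRing B] [IsNoetherianRing B]
  (F : ModuleCat.{u} B ⥤ ModuleCat.{u} B) [F.Additive] [F.Linear B]

theorem Z_prime
    (hfg : ∀ M : ModuleCat.{u} B, Module.Finite B M → Module.Finite B (F.obj M))
    (hex : ∀ S : ShortComplex (ModuleCat.{u} B), S.ShortExact → Module.Finite B S.X₂ → (S.map F).Exact)
    (h0 : ∀ m : Ideal B, m.IsMaximal → Limits.IsZero (F.obj (ModuleCat.of B (B ⧸ m)))) :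
    ∀ p : Ideal B, p.IsPrime → Z B F (B ⧸ p) := by
  intro p
  induction p using WellFoundedGT.induction with
  | ind p ih =>
    intro hp
    by_cases hmax : p.IsMaximal
    · exact h0 p hmax
    -- non-maximal case
    have hsm : ∀ x : B, x ∉ p →
        ∀ n : F.obj (ModuleCat.of B (B ⧸ p)), ∃ n' : F.obj (ModuleCat.of B (B ⧸ p)), x • n' = n := by
      intro x hx
      refine smul_surj F hex p x hx ?_
      refine lemmaA F hex (p ⊔ Ideal.span {x}) ?_ _ inferInstance ?_
      · intro q hq hle
        refine ih q ?_ hq
        refine lt_of_le_of_ne (le_sup_left.trans hle) ?_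
        intro h
        apply hx
        rw [h]
        exact hle (Ideal.mem_sup_right (Ideal.mem_span_singleton_self x))
      · intro a ha n
        obtain ⟨n, rfl⟩ := Ideal.Quotient.mk_surjective n
        rw [Algebra.smul_def]
        change Ideal.Quotient.mk _ a * _ = 0
        rw [Ideal.Quotient.eq_zero_iff_mem.mpr ha, zero_mul]
    set N := F.obj (ModuleCat.of B (B ⧸ p)) with hN
    haveI : Module.Finite B N := hfg _ (inferInstanceAs (Module.Finite B (B ⧸ p)))
    have hann : (Module.annihilator B N) = ⊤ := by
      by_contra hne
      obtain ⟨m, hm, hle⟩ := Ideal.exists_le_maximal _ hne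
      have hx : ∃ x ∈ m, x ∉ p := by
        by_contra hcon
        push Not at hcon
        have hmp : m ≤ p := fun x hx => hcon x hx
        have : m = p := hm.eq_of_le hp.ne_top hmp
        exact hmax (this ▸ hm)
      obtain ⟨x, hxm, hxp⟩ := hx
      have hle2 : (⊤ : Submodule B N) ≤ Ideal.span {x} • (⊤ : Submodule B N) := by
        intro n _
        obtain ⟨n', rfl⟩ := hsm x hxp n
        exact Submodule.smul_mem_smul (Ideal.mem_span_singleton_self x) Submodule.mem_top
      obtain ⟨r, hr1, hr2⟩ := Submodule.exists_sub_one_mem_and_smul_eq_zero_of_fg_of_le_smul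
        (Ideal.span {x}) (⊤ : Submodule B N) Module.Finite.fg_top hle2
      have hrann : r ∈ Module.annihilator B N := by
        rw [Module.mem_annihilator]
        intro n
        exact hr2 n Submodule.mem_top
      have hrm : r ∈ m := hle hrann
      have h1m : r - 1 ∈ m := by
        have : Ideal.span {x} ≤ m := by
          rw [Ideal.span_le]
          intro y hy
          rw [Set.mem_singleton_iff.mp hy]
          exact hxm
        exact this hr1
      have : (1 : B) ∈ m := by
        have := m.sub_mem hrm h1m
        simpa using this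
      exact hm.ne_top ((Ideal.eq_top_iff_one m).mpr this)
    have hsub : Subsingleton N := by
      constructor
      intro a b
      have h1 : (1 : B) ∈ Module.annihilator B N := by rw [hann]; trivial
      rw [Module.mem_annihilator] at h1
      have ha := h1 a
      have hb := h1 b
      rw [one_smul] at ha hb
      rw [ha, hb]
    exact ModuleCat.isZero_of_subsingleton _

theorem main
    (hfg : ∀ M : ModuleCat.{u} B, Module.Finite B M → Module.Finite B (F.obj M))
    (hex : ∀ S : ShortComplex (ModuleCat.{u} B), S.ShortExact → Module.Finite B S.X₂ → (S.map F).Exact)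
    (h0 : ∀ m : Ideal B, m.IsMaximal → Limits.IsZero (F.obj (ModuleCat.of B (B ⧸ m))))
    (M : ModuleCat.{u} B) (hM : Module.Finite B M) : Limits.IsZero (F.obj M) := by
  have := lemmaA F hex ⊥ (fun q hq _ => Z_prime F hfg hex h0 q hq) M hM (by
    intro a ha n
    rw [Ideal.mem_bot.mp ha, zero_smul])
  exact this

end H12DT
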