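import Mathlib

/-!
# Extensions of discrete valuation rings: ramification index via uniformizers
-/

namespace Groth.Agent.Lib.Helper12.DVRExt

open IsLocalRing IsDiscreteValuationRing

variable {A B : Type*} [CommRing A] [IsDomain A] [IsDiscreteValuationRing A]
  [CommRing B] [IsDomain B] [IsDiscreteValuationRing B] [Algebra A B]

/-- The image of a uniformizer of `A` is a unit times `ϖB ^ e`, `e` the ramification index. -/
lemma exists_unit_mul_pow (hinj : Function.Injective (algebraMap A B)) {ϖA : A}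
    (hA : Irreducible ϖA) {ϖB : B} (hB : Irreducible ϖB) :
    ∃ u : Bˣ, algebraMap A B ϖA =
      u * ϖB ^ (Ideal.ramificationIdx' (maximalIdeal A) (maximalIdeal B)) := by
  have hne : algebraMap A B ϖA ≠ 0 := by
    intro h
    exact hA.ne_zero (hinj (by rw [h, map_zero]))
  obtain ⟨v, u, hvu⟩ := eq_unit_mul_pow_irreducible hne hB
  refine ⟨u, ?_⟩
  have hmap : Ideal.map (algebraMap A B) (maximalIdeal A) = Ideal.span {algebraMap A B ϖA} := by
    rw [hA.maximalIdeal_eq, Ideal.map_span, Set.image_singleton]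
  have hpow : ∀ n : ℕ, IsLocalRing.maximalIdeal B ^ n = Ideal.span {ϖB ^ n} := fun n => by
    rw [hB.maximalIdeal_eq, Ideal.span_singleton_pow]
  have he : Ideal.ramificationIdx' (maximalIdeal A) (maximalIdeal B) = v := by
    apply Ideal.ramificationIdx'_spec
    · rw [hmap, hpow, Ideal.span_singleton_le_span_singleton, hvu]
      exact Dvd.intro_left _ rfl
    · rw [hmap, hpow, Ideal.span_singleton_le_span_singleton, hvu]
      rintro ⟨c, hc⟩
      have h1 : ϖB ^ v * (u : B) = ϖB ^ v * (ϖB * c) := by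
        rw [mul_comm, hc, pow_succ, mul_assoc]
      have h2 : (u : B) = ϖB * c := mul_left_cancel₀ (pow_ne_zero _ hB.ne_zero) h1
      apply hB.not_isUnit
      have h3 : ϖB * (c * ((u⁻¹ : Bˣ) : B)) = 1 := by
        rw [← mul_assoc, ← h2, Units.mul_inv]
      exact IsUnit.of_mul_eq_one _ h3
  rw [he]
  exact hvu

/-- The image of a nonzero `a = w ϖA^n` is a unit times `ϖB ^ (e * n)`. -/
lemma exists_unit_mul_pow_of_ne_zero (hinj : Function.Injective (algebraMap A B)) {ϖA : A}
    (hA : Irreducible ϖA) {ϖB : B} (hB : Irreducible ϖB) {a : A} (ha : a ≠ 0) :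
    ∃ (n : ℕ) (u : Bˣ), algebraMap A B a =
      u * ϖB ^ (Ideal.ramificationIdx' (maximalIdeal A) (maximalIdeal B) * n) := by
  obtain ⟨n, w, rfl⟩ := eq_unit_mul_pow_irreducible ha hA
  obtain ⟨u, hu⟩ := exists_unit_mul_pow hinj hA hB
  refine ⟨n, Units.map (algebraMap A B).toMonoidHom w * u ^ n, ?_⟩
  rw [map_mul, map_pow, hu, mul_pow, ← pow_mul]
  simp [mul_assoc]

/-- Purely inseparable case: the ramification index is a power of `p`. -/
theorem ramificationIdx_eq_pow_of_purelyInseparable {K L : Type*} [Field K] [Field L]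
    (hinj : Function.Injective (algebraMap A B))
    [Algebra A K] [IsFractionRing A K] [Algebra B L] [IsFractionRing B L]
    [Algebra K L] [Algebra A L] [IsScalarTower A K L] [IsScalarTower A B L]
    (p : ℕ) (hp : p.Prime) [CharP K p] [IsPurelyInseparable K L] :
    ∃ k : ℕ, Ideal.ramificationIdx' (maximalIdeal A) (maximalIdeal B) = p ^ k := by
  have : ExpChar K p := ExpChar.prime hp
  obtain ⟨ϖA, hA⟩ := exists_irreducible A
  obtain ⟨ϖB, hB⟩ := exists_irreducible B
  set e := Ideal.ramificationIdx' (maximalIdeal A) (maximalIdeal B) with he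
  obtain ⟨k, y, hy⟩ := IsPurelyInseparable.pow_mem K p (algebraMap B L ϖB)
  obtain ⟨a, s, hs, hys⟩ := IsFractionRing.div_surjective (A := A) y
  have hs0 : s ≠ 0 := nonZeroDivisors.ne_zero hs
  have hsL : algebraMap A L s ≠ 0 := by
    rw [IsScalarTower.algebraMap_apply A K L]
    intro h
    have h1 := (map_eq_zero (algebraMap K L)).1 h
    exact hs0 ((IsFractionRing.injective A K) (by rw [h1, map_zero]))
  have hL : algebraMap A L s * (algebraMap B L ϖB) ^ p ^ k = algebraMap A L a := by
    rw [← hy, ← hys, map_div₀, ← IsScalarTower.algebraMap_apply A K L,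
      ← IsScalarTower.algebraMap_apply A K L, mul_div_cancel₀ _ hsL]
  have hBeq : algebraMap A B s * ϖB ^ p ^ k = algebraMap A B a := by
    apply IsFractionRing.injective B L
    rw [map_mul, map_pow, ← IsScalarTower.algebraMap_apply A B L,
      ← IsScalarTower.algebraMap_apply A B L]
    exact hL
  have ha0 : a ≠ 0 := by
    rintro rfl
    rw [map_zero] at hBeq
    have h1 : algebraMap A B s ≠ 0 := fun h => hs0 (hinj (by rw [h, map_zero]))
    exact mul_ne_zero h1 (pow_ne_zero _ hB.ne_zero) hBeq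
  obtain ⟨ns, us, hus⟩ := exists_unit_mul_pow_of_ne_zero hinj hA hB hs0
  obtain ⟨na, ua, hua⟩ := exists_unit_mul_pow_of_ne_zero hinj hA hB ha0
  rw [hus, hua, mul_assoc, ← pow_add] at hBeq
  have hexp := unit_mul_pow_congr_pow hB hB us ua _ _ hBeq
  have hdvd : e ∣ p ^ k := by
    refine ⟨na - ns, ?_⟩
    have : e * ns ≤ e * na := by lia
    rw [Nat.mul_sub, ← hexp]
    lia
  obtain ⟨m, -, hm⟩ := (Nat.dvd_prime_pow hp).1 hdvd
  exact ⟨m, hm⟩

/-- Independence modulo `𝔪_A B`: if the residues of `b i` are independent over the residue field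
of `A` (in unfolded form), then the elements `b i * ϖB ^ j`, `j < e`, are independent modulo
`ϖB ^ e`. -/
lemma mem_maximalIdeal_of_sum_mem {ι : Type*} [Fintype ι] {ϖA : A} (hA : Irreducible ϖA)
    {ϖB : B} (hB : Irreducible ϖB) (b : ι → B)
    (hb : ∀ a : ι → A, (∑ i, algebraMap A B (a i) * b i ∈ IsLocalRing.maximalIdeal B) →
      ∀ i, a i ∈ IsLocalRing.maximalIdeal A)
    (e : ℕ) (he : algebraMap A B ϖA ∈ Ideal.span {ϖB ^ e})
    (a : ι × Fin e → A)
    (ha : ∑ ij, algebraMap A B (a ij) * (b ij.1 * ϖB ^ (ij.2 : ℕ)) ∈ Ideal.span {ϖB ^ e}) :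
    ∀ ij, a ij ∈ IsLocalRing.maximalIdeal A := by
  classical
  suffices h : ∀ (j : ℕ) (hj : j < e) (i : ι), a (i, ⟨j, hj⟩) ∈ IsLocalRing.maximalIdeal A by
    rintro ⟨i, ⟨j, hj⟩⟩
    exact h j hj i
  intro j
  induction j using Nat.strong_induction_on with
  | _ j ih =>
    intro hj
    set J : Ideal B := Ideal.span {ϖB ^ (j + 1)} with hJ
    have hle : Ideal.span {ϖB ^ e} ≤ J := by
      rw [hJ, Ideal.span_singleton_le_span_singleton]
      exact pow_dvd_pow _ hj
    -- rewrite the sum
    have hsum : ∑ ij : ι × Fin e, algebraMap A B (a ij) * (b ij.1 * ϖB ^ (ij.2 : ℕ)) =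
        ∑ j' : Fin e, (∑ i, algebraMap A B (a (i, j')) * b i) * ϖB ^ (j' : ℕ) := by
      rw [Fintype.sum_prod_type_right]
      refine Finset.sum_congr rfl fun j' _ => ?_
      rw [Finset.sum_mul]
      refine Finset.sum_congr rfl fun i _ => ?_
      ring
    rw [hsum] at ha
    have hT := hle ha
    rw [← Finset.add_sum_erase _ _ (Finset.mem_univ (⟨j, hj⟩ : Fin e))] at hT
    have hrest : ∑ j' ∈ Finset.univ.erase (⟨j, hj⟩ : Fin e),
        (∑ i, algebraMap A B (a (i, j')) * b i) * ϖB ^ (j' : ℕ) ∈ J := by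
      refine Ideal.sum_mem _ fun j' hj' => ?_
      have hne : j' ≠ ⟨j, hj⟩ := Finset.ne_of_mem_erase hj'
      rcases lt_or_gt_of_ne (fun h => hne (Fin.ext h) : (j' : ℕ) ≠ j) with hlt | hgt
      · apply Ideal.mul_mem_right
        refine Ideal.sum_mem _ fun i _ => Ideal.mul_mem_right _ _ (hle ?_)
        have hmem := ih j' hlt j'.2 i
        rw [hA.maximalIdeal_eq, Ideal.mem_span_singleton] at hmem
        obtain ⟨c, hc⟩ := hmem
        rw [show a (i, j') = ϖA * c from hc, map_mul]
        exact Ideal.mul_mem_right _ _ he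
      · apply Ideal.mul_mem_left
        rw [hJ, Ideal.mem_span_singleton]
        exact pow_dvd_pow _ hgt
    have hterm := (Ideal.add_mem_iff_left J hrest).1 hT
    rw [hJ, Ideal.mem_span_singleton, pow_succ'] at hterm
    have hdvd : ϖB ∣ ∑ i, algebraMap A B (a (i, ⟨j, hj⟩)) * b i :=
      (mul_dvd_mul_iff_right (pow_ne_zero j hB.ne_zero)).1 hterm
    apply hb (fun i => a (i, ⟨j, hj⟩))
    rw [hB.maximalIdeal_eq, Ideal.mem_span_singleton]
    exact hdvd

/-- Scaling a nonzero vector over the fraction field of a DVR to a primitive integral vector. -/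
lemma exists_primitive_scaling {K : Type*} [Field K] [Algebra A K] [IsFractionRing A K]
    {ι : Type*} [Fintype ι] (c : ι → K) (hc : c ≠ 0) :
    ∃ (d : K) (a : ι → A), d ≠ 0 ∧ (∀ i, algebraMap A K (a i) = d * c i) ∧
      ∃ i, a i ∉ IsLocalRing.maximalIdeal A := by
  classical
  obtain ⟨ϖ, hϖ⟩ := exists_irreducible A
  obtain ⟨⟨b, hb⟩, hbc⟩ := IsLocalization.exist_integer_multiples (nonZeroDivisors A)
    (Finset.univ : Finset ι) c
  have hb0 : b ≠ 0 := nonZeroDivisors.ne_zero hb
  choose a0 ha0 using fun i => hbc i (Finset.mem_univ i)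
  simp only [Algebra.smul_def] at ha0
  have hbK : algebraMap A K b ≠ 0 := fun h =>
    hb0 ((IsFractionRing.injective A K) (by rw [h, map_zero]))
  have hJne : Ideal.span (Set.range a0) ≠ ⊥ := by
    intro h
    apply hc
    ext i
    have h1 : a0 i ∈ Ideal.span (Set.range a0) := Ideal.subset_span ⟨i, rfl⟩
    rw [h, Ideal.mem_bot] at h1
    have h2 := ha0 i
    rw [h1, map_zero] at h2
    simpa [hbK] using h2.symm
  obtain ⟨m, hm⟩ := ideal_eq_span_pow_irreducible hJne hϖ
  have hdiv : ∀ i, ∃ a' : A, a0 i = ϖ ^ m * a' := by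
    intro i
    have h1 : a0 i ∈ Ideal.span (Set.range a0) := Ideal.subset_span ⟨i, rfl⟩
    rw [hm, Ideal.mem_span_singleton] at h1
    exact h1
  choose a ha using hdiv
  have hϖK : algebraMap A K (ϖ ^ m) ≠ 0 := fun h =>
    (pow_ne_zero m hϖ.ne_zero) ((IsFractionRing.injective A K) (by rw [h, map_zero]))
  refine ⟨algebraMap A K b / algebraMap A K (ϖ ^ m), a, div_ne_zero hbK hϖK, ?_, ?_⟩
  · intro i
    have h1 : algebraMap A K (ϖ ^ m) * algebraMap A K (a i) = algebraMap A K b * c i := by
      rw [← map_mul, ← ha i, ha0 i]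
    field_simp
    rw [mul_comm, h1]
  · by_contra hcon
    push Not at hcon
    have h1 : ϖ ^ m ∈ Ideal.span (Set.range a0) := by
      rw [hm]; exact Ideal.subset_span rfl
    obtain ⟨t, ht⟩ := Ideal.mem_span_range_iff_exists_fun.1 h1
    have h2 : ϖ ^ m * ∑ i, t i * a i = ϖ ^ m * 1 := by
      rw [mul_one, Finset.mul_sum]
      conv_rhs => rw [← ht]
      refine Finset.sum_congr rfl fun i _ => ?_
      rw [ha i]
      ring
    have h3 : ∑ i, t i * a i = 1 := mul_left_cancel₀ (pow_ne_zero m hϖ.ne_zero) h2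
    have h4 : (1 : A) ∈ IsLocalRing.maximalIdeal A := by
      rw [← h3]
      exact Ideal.sum_mem _ fun i _ => Ideal.mul_mem_left _ _ (hcon i)
    exact (Ideal.ne_top_iff_one _).1 (IsLocalRing.maximalIdeal.isMaximal A).ne_top h4

section finrank

variable {K L : Type*} [Field K] [Field L]
  [Algebra A K] [IsFractionRing A K] [Algebra B L] [IsFractionRing B L]
  [Algebra K L] [Algebra A L] [IsScalarTower A K L] [IsScalarTower A B L]

/-- `K`-linear independence in `L` of the elements `b i * ϖB ^ j`, `j < e`. -/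
lemma linearIndependent_mul_pow {ι : Type*} [Fintype ι] {ϖA : A} (hA : Irreducible ϖA)
    {ϖB : B} (hB : Irreducible ϖB) (b : ι → B)
    (hb : ∀ a : ι → A, (∑ i, algebraMap A B (a i) * b i ∈ IsLocalRing.maximalIdeal B) →
      ∀ i, a i ∈ IsLocalRing.maximalIdeal A)
    (e : ℕ) (he : algebraMap A B ϖA ∈ Ideal.span {ϖB ^ e}) :
    LinearIndependent K
      (fun ij : ι × Fin e => algebraMap B L (b ij.1 * ϖB ^ (ij.2 : ℕ))) := by
  classical
  rw [Fintype.linearIndependent_iff]
  intro c hc
  by_contra hne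
  have hc0 : c ≠ 0 := fun h => hne (fun ij => by rw [h]; rfl)
  obtain ⟨d, a, hd, had, ij0, hij0⟩ := exists_primitive_scaling (A := A) c hc0
  have h1 : ∑ ij, algebraMap A B (a ij) * (b ij.1 * ϖB ^ (ij.2 : ℕ)) = 0 := by
    apply IsFractionRing.injective B L
    rw [map_sum, map_zero]
    have h2 : ∀ ij : ι × Fin e,
        algebraMap B L (algebraMap A B (a ij) * (b ij.1 * ϖB ^ (ij.2 : ℕ))) =
          d • (c ij • algebraMap B L (b ij.1 * ϖB ^ (ij.2 : ℕ))) := by
      intro ij
      rw [map_mul (algebraMap B L), ← IsScalarTower.algebraMap_apply A B L,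
        IsScalarTower.algebraMap_apply A K L, had, smul_smul, Algebra.smul_def]
    simp_rw [h2]
    rw [← Finset.smul_sum, hc, smul_zero]
  have h3 := mem_maximalIdeal_of_sum_mem hA hB b hb e he a (by rw [h1]; exact zero_mem _)
  exact hij0 (h3 ij0)

variable [IsLocalHom (algebraMap A B)]

lemma card_mul_le_finrank (hinj : Function.Injective (algebraMap A B)) [FiniteDimensional K L]
    {ι : Type*} [Fintype ι] (v : ι → IsLocalRing.ResidueField B)
    (hv : LinearIndependent (IsLocalRing.ResidueField A) v) :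
    Fintype.card ι * Ideal.ramificationIdx' (IsLocalRing.maximalIdeal A)
      (IsLocalRing.maximalIdeal B) ≤ Module.finrank K L := by
  classical
  obtain ⟨ϖA, hA⟩ := exists_irreducible A
  obtain ⟨ϖB, hB⟩ := exists_irreducible B
  obtain ⟨u, hu⟩ := exists_unit_mul_pow hinj hA hB
  have he : algebraMap A B ϖA ∈ Ideal.span {ϖB ^ Ideal.ramificationIdx'
      (IsLocalRing.maximalIdeal A) (IsLocalRing.maximalIdeal B)} := by
    rw [hu, Ideal.mem_span_singleton]
    exact Dvd.intro_left _ rfl
  choose b hbv using fun i => IsLocalRing.residue_surjective (v i)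
  have hb : ∀ a : ι → A, (∑ i, algebraMap A B (a i) * b i ∈ IsLocalRing.maximalIdeal B) →
      ∀ i, a i ∈ IsLocalRing.maximalIdeal A := by
    intro a ha
    rw [Fintype.linearIndependent_iff] at hv
    have h0 : ∑ i, IsLocalRing.residue A (a i) • v i = 0 := by
      have h1 : IsLocalRing.residue B (∑ i, algebraMap A B (a i) * b i) = 0 :=
        (IsLocalRing.residue_eq_zero_iff _).2 ha
      rw [map_sum] at h1
      rw [← h1]
      refine Finset.sum_congr rfl fun i _ => ?_
      rw [map_mul, hbv, Algebra.smul_def, IsLocalRing.ResidueField.algebraMap_residue]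
    intro i
    exact (IsLocalRing.residue_eq_zero_iff _).1 (hv _ h0 i)
  have hli := linearIndependent_mul_pow (K := K) (L := L) hA hB b hb _ he
  have h4 := hli.fintype_card_le_finrank
  simpa [Fintype.card_prod] using h4

theorem finite_and_ramificationIdx_mul_finrank_le (hinj : Function.Injective (algebraMap A B))
    [FiniteDimensional K L] :
    Module.Finite (IsLocalRing.ResidueField A) (IsLocalRing.ResidueField B) ∧
      Ideal.ramificationIdx' (IsLocalRing.maximalIdeal A) (IsLocalRing.maximalIdeal B) *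
          Module.finrank (IsLocalRing.ResidueField A) (IsLocalRing.ResidueField B) ≤
        Module.finrank K L := by
  classical
  obtain ⟨ϖA, hA⟩ := exists_irreducible A
  obtain ⟨ϖB, hB⟩ := exists_irreducible B
  obtain ⟨u, hu⟩ := exists_unit_mul_pow hinj hA hB
  have he0 : 0 < Ideal.ramificationIdx' (IsLocalRing.maximalIdeal A)
      (IsLocalRing.maximalIdeal B) := by
    by_contra h
    have h0 : Ideal.ramificationIdx' (IsLocalRing.maximalIdeal A)
        (IsLocalRing.maximalIdeal B) = 0 := by omega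
    rw [h0, pow_zero, mul_one] at hu
    have hunit : IsUnit (algebraMap A B ϖA) := hu ▸ u.isUnit
    exact hA.not_isUnit (isUnit_of_map_unit (algebraMap A B) _ hunit)
  have hrank : Module.rank (IsLocalRing.ResidueField A) (IsLocalRing.ResidueField B) ≤
      (Module.finrank K L : ℕ) := by
    apply rank_le
    intro s hs
    have h1 := card_mul_le_finrank (K := K) (L := L) hinj (fun i : s => (i : IsLocalRing.ResidueField B)) hs
    rw [Fintype.card_coe] at h1
    nlinarith [he0]
  have hfin : Module.Finite (IsLocalRing.ResidueField A) (IsLocalRing.ResidueField B) :=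
    Module.rank_lt_aleph0_iff.1 (hrank.trans_lt Cardinal.natCast_lt_aleph0)
  refine ⟨hfin, ?_⟩
  have h2 := card_mul_le_finrank (K := K) (L := L) hinj
    (Module.finBasis (IsLocalRing.ResidueField A) (IsLocalRing.ResidueField B))
    (Module.finBasis (IsLocalRing.ResidueField A) (IsLocalRing.ResidueField B)).linearIndependent
  rw [Fintype.card_fin] at h2
  rw [mul_comm]
  exact h2

end finrank

end Groth.Agent.Lib.Helper12.DVRExt
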