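import Mathlib

set_option autoImplicit false
universe u

namespace Groth.Agent.Lib.Helper12.DerExt

open scoped TensorProduct

/-- A `ℤ`-derivation of `R` extends to any localization of `R`. -/
theorem exists_derivation_extension {R T : Type u} [CommRing R] [CommRing T] [Algebra R T]
    (M : Submonoid R) [IsLocalization M T] (D : Derivation ℤ R R) :
    ∃ D_T : Derivation ℤ T T, ∀ r, D_T (algebraMap R T r) = algebraMap R T (D r) := by
  haveI := Algebra.FormallyEtale.of_isLocalization (Rₘ := T) M
  let e := KaehlerDifferential.tensorKaehlerEquivOfFormallyEtale ℤ R T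
  let L := D.liftKaehlerDifferential
  let LT : T ⊗[R] Ω[R⁄ℤ] →ₗ[T] T :=
    (TensorProduct.AlgebraTensorModule.rid R T T).toLinearMap ∘ₗ (L.baseChange T)
  refine ⟨(LT ∘ₗ e.symm.toLinearMap).compDer (KaehlerDifferential.D ℤ T), ?_⟩
  intro r
  change LT (e.symm (KaehlerDifferential.D ℤ T (algebraMap R T r))) = _
  rw [KaehlerDifferential.tensorKaehlerEquivOfFormallyEtale_symm_D_algebraMap]
  change (TensorProduct.AlgebraTensorModule.rid R T T) (L.baseChange T (1 ⊗ₜ _)) = _
  rw [LinearMap.baseChange_tmul, Derivation.liftKaehlerDifferential_comp_D,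
    TensorProduct.AlgebraTensorModule.rid_tmul, Algebra.smul_def, mul_one]


theorem exists_extension_of_away {R R' T : Type u} [CommRing R] [CommRing R'] [CommRing T]
    [Algebra R R'] [Algebra R' T] [Algebra R T] [IsScalarTower R R' T] [Algebra.FiniteType R R']
    (hinj : Function.Injective (algebraMap R R')) (g : R)
    [IsLocalization.Away (algebraMap R R' g) T]
    (hg : IsSMulRegular R' (algebraMap R R' g))
    (hloc : ∀ x : R', ∃ n : ℕ, (algebraMap R R' g) ^ n * x ∈ Set.range (algebraMap R R'))
    (D : Derivation ℤ R R) :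
    ∃ (N : ℕ) (D' : Derivation ℤ R' R'),
      ∀ r : R, D' (algebraMap R R' r) = algebraMap R R' (g ^ N * D r) := by
  set g' := algebraMap R R' g with hg'
  -- (a) injectivity of R' → T
  have hinjT : Function.Injective (algebraMap R' T) := by
    intro x y hxy
    obtain ⟨n, hn⟩ := IsLocalization.Away.exists_of_eq (x := g') hxy
    have hreg : IsSMulRegular R' (g' ^ n) := hg.pow n
    exact hreg hn
  have hgT : algebraMap R T g = algebraMap R' T g' := IsScalarTower.algebraMap_apply R R' T g
  -- (b) T is the localization of R at g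
  haveI : IsLocalization.Away g T := by
    rw [IsLocalization.Away, isLocalization_iff]
    refine ⟨?_, ?_, ?_⟩
    · rintro ⟨_, n, rfl⟩
      rw [map_pow, hgT]
      exact IsLocalization.Away.algebraMap_pow_isUnit g' n
    · intro t
      obtain ⟨n, x, hx⟩ := IsLocalization.Away.surj g' t
      obtain ⟨k, r, hr⟩ := hloc x
      refine ⟨⟨r, ⟨g ^ (n + k), n + k, rfl⟩⟩, ?_⟩
      change t * algebraMap R T (g ^ (n + k)) = algebraMap R T r
      rw [IsScalarTower.algebraMap_apply R R' T r, hr, map_pow, hgT, pow_add, ← mul_assoc, hx,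
        map_mul, map_pow, mul_comm]
    · intro r₁ r₂ h
      refine ⟨1, ?_⟩
      rw [IsScalarTower.algebraMap_apply R R' T, IsScalarTower.algebraMap_apply R R' T] at h
      rw [hinj (hinjT h)]
  -- (c) the extended derivation
  obtain ⟨DT, hDT⟩ := exists_derivation_extension (T := T) (Submonoid.powers g) D
  -- (d) generators
  obtain ⟨s, hs⟩ := (Algebra.FiniteType.out : (⊤ : Subalgebra R R').FG)
  have hex : ∀ x : R', ∃ n : ℕ, ∃ y : R',
      algebraMap R' T g' ^ n * DT (algebraMap R' T x) = algebraMap R' T y := by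
    intro x
    obtain ⟨n, y, hy⟩ := IsLocalization.Away.surj g' (DT (algebraMap R' T x))
    exact ⟨n, y, by rw [mul_comm]; exact hy⟩
  choose n y hny using hex
  set N := s.sup n with hN
  have hmem : ∀ z : R', ∃ w : R', algebraMap R' T g' ^ N * DT (algebraMap R' T z) =
      algebraMap R' T w := by
    intro z
    have hz : z ∈ Algebra.adjoin R (s : Set R') := by rw [hs]; trivial
    refine Algebra.adjoin_induction ?_ ?_ ?_ ?_ hz
    · intro x hx
      have hle : n x ≤ N := Finset.le_sup (Finset.mem_coe.mp hx)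
      refine ⟨g' ^ (N - n x) * y x, ?_⟩
      rw [map_mul, map_pow, ← hny, ← mul_assoc, ← pow_add, Nat.sub_add_cancel hle]
    · intro r
      refine ⟨g' ^ N * algebraMap R R' (D r), ?_⟩
      rw [← IsScalarTower.algebraMap_apply R R' T r, hDT, map_mul, map_pow,
        ← IsScalarTower.algebraMap_apply R R' T (D r)]
    · rintro a b _ _ ⟨wa, hwa⟩ ⟨wb, hwb⟩
      refine ⟨wa + wb, ?_⟩
      rw [map_add, map_add, mul_add, hwa, hwb, map_add]
    · rintro a b _ _ ⟨wa, hwa⟩ ⟨wb, hwb⟩
      refine ⟨a * wb + b * wa, ?_⟩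
      rw [map_mul, Derivation.leibniz, smul_eq_mul, smul_eq_mul, mul_add, map_add, map_mul,
        map_mul, ← hwa, ← hwb]
      ring
  choose w hw using hmem
  have hwadd : ∀ a b, w (a + b) = w a + w b := by
    intro a b
    apply hinjT
    rw [← hw, map_add, map_add, mul_add, hw, hw, map_add]
  have hwmul : ∀ a b, w (a * b) = a • w b + b • w a := by
    intro a b
    apply hinjT
    rw [← hw, map_mul, Derivation.leibniz, smul_eq_mul, smul_eq_mul, smul_eq_mul, smul_eq_mul,
      map_add, map_mul, map_mul, ← hw, ← hw]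
    ring
  let w₀ : R' →+ R' := AddMonoidHom.mk' w hwadd
  refine ⟨N, Derivation.mk' w₀.toIntLinearMap hwmul, ?_⟩
  intro r
  change w (algebraMap R R' r) = _
  apply hinjT
  rw [← hw, ← IsScalarTower.algebraMap_apply R R' T r, hDT,
    ← IsScalarTower.algebraMap_apply R R' T (g ^ N * D r), map_mul, map_pow, hgT]

end Groth.Agent.Lib.Helper12.DerExt
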