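import Mathlib

/-!
# Linearity of the homology functor on the derived category
-/

namespace Groth.Agent.Lib.Helper12.DerivedLinear

open CategoryTheory DerivedCategory

universe w v u t

variable {C : Type u} [Category.{v} C] [Abelian C] [HasDerivedCategory.{w} C]
  {R : Type t} [Ring R] [Linear R C]

omit [HasDerivedCategory.{w} C] in
lemma homologyMap_smul {ι : Type*} {c : ComplexShape ι} {K L : HomologicalComplex C c}
    (a : R) (φ : K ⟶ L) (i : ι) :
    HomologicalComplex.homologyMap (a • φ) i = a • HomologicalComplex.homologyMap φ i := by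
  exact ShortComplex.homologyMap_smul (φ := (HomologicalComplex.shortComplexFunctor C c i).map φ)
    (a := a)

lemma homologyFunctor_map_smul_id (n : ℤ) (X : DerivedCategory C) (a : R) :
    (homologyFunctor C n).map (a • 𝟙 X) = a • 𝟙 _ := by
  let K := Q.objPreimage X
  let e : Q.obj K ≅ X := Q.objObjPreimageIso X
  have h1 : a • 𝟙 X = e.inv ≫ Q.map (a • 𝟙 K) ≫ e.hom := by
    rw [Functor.map_smul, Q.map_id, Linear.smul_comp, Linear.comp_smul, Category.id_comp,
      e.inv_hom_id]
  have h2 : (homologyFunctor C n).map (Q.map (a • 𝟙 K)) = a • 𝟙 _ := by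
    have hnat := (homologyFunctorFactors C n).hom.naturality (a • 𝟙 K)
    have h3 : (HomologicalComplex.homologyFunctor C (ComplexShape.up ℤ) n).map (a • 𝟙 K) =
        a • 𝟙 _ := by
      change HomologicalComplex.homologyMap (a • 𝟙 K) n = _
      rw [homologyMap_smul, HomologicalComplex.homologyMap_id]
      rfl
    rw [h3] at hnat
    have h4 : (homologyFunctor C n).map (Q.map (a • 𝟙 K)) =
        (homologyFunctorFactors C n).hom.app K ≫ (a • 𝟙 _) ≫
          (homologyFunctorFactors C n).inv.app K := by
      rw [← cancel_mono ((homologyFunctorFactors C n).hom.app K)]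
      simp only [Category.assoc, Iso.inv_hom_id_app, Category.comp_id]
      exact hnat
    rw [h4, Linear.smul_comp, Linear.comp_smul, Category.id_comp, Iso.hom_inv_id_app]
    rfl
  rw [h1, Functor.map_comp, Functor.map_comp, h2, Linear.smul_comp, Linear.comp_smul,
    Category.id_comp, ← Functor.map_comp, e.inv_hom_id, CategoryTheory.Functor.map_id]

lemma homologyFunctor_map_smul (n : ℤ) {X Y : DerivedCategory C} (a : R) (φ : X ⟶ Y) :
    (homologyFunctor C n).map (a • φ) = a • (homologyFunctor C n).map φ := by
  have : a • φ = (a • 𝟙 X) ≫ φ := by rw [Linear.smul_comp, Category.id_comp]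
  rw [this, Functor.map_comp, homologyFunctor_map_smul_id, Linear.smul_comp, Category.id_comp]

end Groth.Agent.Lib.Helper12.DerivedLinear
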