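import Mathlib
import Groth.Agent.Lib.Helper12.DeRham1


namespace Groth.Agent.Lib.Helper12.GenDR

open ExteriorAlgebra CliffordAlgebra MulOpposite
open Groth.Agent.Lib.Helper12.DeRham (ι_mul_eq involute_of_mem mul_mem_exteriorPower ι_mem algebraMap_mem)

universe u

variable (A M : Type u) [CommRing A] [AddCommGroup M] [Module A M]

/-- the exterior algebra -/
abbrev E := ExteriorAlgebra A M

/-- `E` as a bimodule over itself, with the left action twisted by the grade involution -/
def Tw := E A M

noncomputable instance : AddCommGroup (Tw A M) := inferInstanceAs (AddCommGroup (E A M))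

variable {A M}

/-- the identity `E → Tw` -/
def toTw (x : E A M) : Tw A M := x
/-- the identity `Tw → E` -/
def ofTw (y : Tw A M) : E A M := y

@[simp] theorem ofTw_toTw (x : E A M) : ofTw (toTw x) = x := rfl
@[simp] theorem toTw_ofTw (y : Tw A M) : toTw (ofTw y) = y := rfl
@[simp] theorem ofTw_add (y z : Tw A M) : ofTw (y + z) = ofTw y + ofTw z := rfl
@[simp] theorem ofTw_zero : ofTw (0 : Tw A M) = 0 := rfl
@[simp] theorem toTw_add (y z : E A M) : toTw (y + z) = toTw y + toTw z := rfl
@[simp] theorem toTw_zero : toTw (0 : E A M) = 0 := rfl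
@[simp] theorem ofTw_neg (y : Tw A M) : ofTw (-y) = -ofTw y := rfl
@[simp] theorem toTw_neg (y : E A M) : toTw (-y) = -toTw y := rfl

noncomputable instance : Module (E A M) (Tw A M) where
  smul x y := toTw (involute x * ofTw y)
  one_smul y := by
    show toTw (involute (1 : E A M) * ofTw y) = y
    rw [map_one, one_mul]; rfl
  mul_smul x x' y := by
    show toTw (involute (x * x') * ofTw y) = toTw (involute x * ofTw (toTw (involute x' * ofTw y)))
    rw [map_mul, mul_assoc]; rfl
  smul_zero x := by
    show toTw (involute x * ofTw 0) = 0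
    rw [ofTw_zero, mul_zero]; rfl
  smul_add x y z := by
    show toTw (involute x * ofTw (y + z)) = toTw (involute x * ofTw y) + toTw (involute x * ofTw z)
    rw [ofTw_add, mul_add]; rfl
  add_smul x x' y := by
    show toTw (involute (x + x') * ofTw y) = toTw (involute x * ofTw y) + toTw (involute x' * ofTw y)
    rw [map_add, add_mul]; rfl
  zero_smul y := by
    show toTw (involute (0 : E A M) * ofTw y) = 0
    rw [map_zero, zero_mul]; rfl

noncomputable instance : Module (E A M)ᵐᵒᵖ (Tw A M) where
  smul x y := toTw (ofTw y * unop x)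
  one_smul y := by
    show toTw (ofTw y * unop (1 : (E A M)ᵐᵒᵖ)) = y
    rw [unop_one, mul_one]; rfl
  mul_smul x x' y := by
    show toTw (ofTw y * unop (x * x')) = toTw (ofTw (toTw (ofTw y * unop x')) * unop x)
    rw [unop_mul, ← mul_assoc]; rfl
  smul_zero x := by
    show toTw (ofTw 0 * unop x) = 0
    rw [ofTw_zero, zero_mul]; rfl
  smul_add x y z := by
    show toTw (ofTw (y + z) * unop x) = toTw (ofTw y * unop x) + toTw (ofTw z * unop x)
    rw [ofTw_add, add_mul]; rfl
  add_smul x x' y := by
    show toTw (ofTw y * unop (x + x')) = toTw (ofTw y * unop x) + toTw (ofTw y * unop x')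
    rw [unop_add, mul_add]; rfl
  zero_smul y := by
    show toTw (ofTw y * unop (0 : (E A M)ᵐᵒᵖ)) = 0
    rw [unop_zero, mul_zero]; rfl

theorem smul_def (x : E A M) (y : Tw A M) : x • y = toTw (involute x * ofTw y) := rfl
theorem op_smul_def (x : E A M) (y : Tw A M) : op x • y = toTw (ofTw y * x) := rfl

instance : SMulCommClass (E A M) (E A M)ᵐᵒᵖ (Tw A M) where
  smul_comm x x' y := by
    obtain ⟨x', rfl⟩ := MulOpposite.op_surjective x'
    rw [op_smul_def, smul_def, op_smul_def, smul_def, ofTw_toTw, ofTw_toTw, mul_assoc]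

variable (A M)
/-- the twisted square-zero extension -/
abbrev E' := TrivSqZeroExt (E A M) (Tw A M)
variable {A M}

theorem E'.ext {z w : E' A M} (h1 : z.fst = w.fst) (h2 : ofTw z.snd = ofTw w.snd) : z = w :=
  TrivSqZeroExt.ext h1 h2

theorem fst_mul' (z w : E' A M) : (z * w).fst = z.fst * w.fst := rfl

theorem snd_mul' (z w : E' A M) :
    ofTw (z * w).snd = involute z.fst * ofTw w.snd + ofTw z.snd * w.fst := rfl

end Groth.Agent.Lib.Helper12.GenDR
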