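import Mathlib
import Groth.Agent.Lib.Helper12.GenDR1

namespace Groth.Agent.Lib.Helper12.GenDR

open ExteriorAlgebra CliffordAlgebra MulOpposite
open Groth.Agent.Lib.Helper12.DeRham (ι_mul_eq involute_of_mem mul_mem_exteriorPower ι_mem algebraMap_mem)

universe u

/-- data for a de Rham differential on the exterior algebra of `M`: a derivation `A → M` and the
differential of one-forms -/
class DRData (A M : Type u) [CommRing A] [AddCommGroup M] [Module A M] where
  δ : Derivation ℤ A M
  dι₀ : M → ExteriorAlgebra A M
  dι₀_add : ∀ m n, dι₀ (m + n) = dι₀ m + dι₀ n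
  dι₀_smul : ∀ (a : A) (m : M), dι₀ (a • m) = algebraMap A _ a * dι₀ m + ι A (δ a) * ι A m
  dι₀_mem : ∀ m, dι₀ m ∈ ⋀[A]^2 M

variable {A M : Type u} [CommRing A] [AddCommGroup M] [Module A M] [DRData A M]

/-- `da` as an element of the exterior algebra -/
noncomputable def dι (a : A) : E A M := ι A (DRData.δ (A := A) (M := M) a)

theorem dι_add (a b : A) : dι (M := M) (a + b) = dι a + dι b := by
  simp [dι]

theorem dι_mul (a b : A) : dι (M := M) (a * b) =
    algebraMap A (E A M) a * dι b + dι a * algebraMap A (E A M) b := by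
  rw [dι, Derivation.leibniz, map_add, map_smul, map_smul, Algebra.smul_def, Algebra.smul_def,
    ← Algebra.commutes b]
  rfl

theorem dι_one : dι (M := M) (1 : A) = 0 := by
  simp [dι]

theorem dι_zero : dι (M := M) (0 : A) = 0 := by
  simp [dι]

theorem dι_mul_dι (a b : A) : dι (M := M) a * dι b + dι b * dι a = 0 := by
  have h := ι_mul_eq (A := A) (DRData.δ (A := A) (M := M) a) (dι (M := M) b)
  rw [dι, involute_ι] at h
  show ι A _ * ι A _ + ι A _ * ι A _ = 0
  rw [h]
  simp

omit [DRData A M] in
/-- constructor for elements of `E'` -/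
def mkE' (x y : E A M) : E' A M := (x, toTw y)

omit [DRData A M] in
@[simp] theorem mkE'_fst (x y : E A M) : (mkE' x y).fst = x := rfl
omit [DRData A M] in
@[simp] theorem mkE'_snd (x y : E A M) : ofTw (mkE' x y).snd = y := rfl

/-- the twisted structure map `a ↦ (a, da)` -/
noncomputable def j : A →+* E' A M where
  toFun a := mkE' (algebraMap A (E A M) a) (dι a)
  map_one' := by
    apply E'.ext
    · exact map_one _
    · show dι (M := M) (1 : A) = 0
      exact dι_one
  map_mul' a b := by
    apply E'.ext
    · exact map_mul _ _ _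
    · rw [snd_mul', mkE'_snd, mkE'_snd, mkE'_snd, mkE'_fst, mkE'_fst, AlgHom.commutes, dι_mul]
  map_zero' := by
    apply E'.ext
    · exact map_zero _
    · show dι (M := M) (0 : A) = 0
      exact dι_zero
  map_add' a b := by
    apply E'.ext
    · exact map_add _ _ _
    · show dι (M := M) (a + b) = dι a + dι b
      exact dι_add a b

theorem j_fst (a : A) : (j (M := M) a).fst = algebraMap A (E A M) a := rfl
theorem j_snd (a : A) : ofTw (j (M := M) a).snd = dι a := rfl

theorem j_central (a : A) (z : E' A M) : j a * z = z * j a := by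
  apply E'.ext
  · rw [fst_mul', fst_mul', j_fst, Algebra.commutes]
  · rw [snd_mul', snd_mul', j_fst, j_snd, AlgHom.commutes, Algebra.commutes, dι, ι_mul_eq, add_comm]

noncomputable instance : Algebra A (E' A M) := (j (A := A) (M := M)).toAlgebra' j_central

theorem algebraMap_eq (a : A) : algebraMap A (E' A M) a = j a := rfl

theorem smul_eq (a : A) (z : E' A M) : a • z = j a * z := rfl

theorem fst_smul' (a : A) (z : E' A M) : (a • z).fst = algebraMap A (E A M) a * z.fst := rfl

theorem snd_smul' (a : A) (z : E' A M) :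
    ofTw (a • z).snd = algebraMap A (E A M) a * ofTw z.snd + dι a * z.fst := by
  rw [smul_eq, snd_mul', j_fst, j_snd, AlgHom.commutes]

omit [DRData A M] in
theorem mkE'_add (x y x' y' : E A M) : mkE' (x + x') (y + y') = mkE' x y + mkE' x' y' := rfl

theorem smul_mkE' (a : A) (x y : E A M) :
    a • mkE' x y = mkE' (algebraMap A (E A M) a * x) (algebraMap A (E A M) a * y + dι a * x) := by
  apply E'.ext
  · rw [fst_smul', mkE'_fst, mkE'_fst]
  · rw [snd_smul', mkE'_snd, mkE'_snd, mkE'_fst]

end Groth.Agent.Lib.Helper12.GenDR
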