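import Mathlib
import Groth.Agent.Lib.Helper12.GenDR2

namespace Groth.Agent.Lib.Helper12.GenDR

open ExteriorAlgebra CliffordAlgebra MulOpposite
open Groth.Agent.Lib.Helper12.DeRham (ι_mul_eq involute_of_mem mul_mem_exteriorPower ι_mem algebraMap_mem)

universe u

variable {A M : Type u} [CommRing A] [AddCommGroup M] [Module A M] [DRData A M]

/-- the `A`-linear (for the twisted structure) map `ω ↦ (ω, dω)` -/
noncomputable def f : M →ₗ[A] E' A M where
  toFun m := mkE' (ι A m) (DRData.dι₀ (A := A) m)
  map_add' m n := by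
    rw [map_add, DRData.dι₀_add, mkE'_add]
  map_smul' a m := by
    rw [RingHom.id_apply, smul_mkE', DRData.dι₀_smul, map_smul, Algebra.smul_def]
    rfl

theorem f_fst (m : M) : (f (A := A) m).fst = ι A m := rfl
theorem f_snd (m : M) : ofTw (f (A := A) m).snd = DRData.dι₀ (A := A) m := rfl

theorem f_mul_self (m : M) : f (A := A) m * f (A := A) m = 0 := by
  have h2 := DRData.dι₀_mem (A := A) m
  apply E'.ext
  · rw [fst_mul', f_fst, ι_sq_zero]; rfl
  · rw [snd_mul', f_fst, f_snd, involute_ι, neg_mul, ι_mul_eq, involute_of_mem 2 h2]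
    simp

/-- the algebra map `x ↦ (x, dx)` -/
noncomputable def φ : E A M →ₐ[A] E' A M :=
  ExteriorAlgebra.lift A ⟨f (A := A) (M := M), f_mul_self⟩

theorem φ_ι (m : M) : φ (ι A m) = f (A := A) m :=
  ExteriorAlgebra.lift_ι_apply _ _ _ _

theorem φ_fst (x : E A M) : (φ x).fst = x := by
  induction x using CliffordAlgebra.left_induction with
  | algebraMap a => rw [AlgHom.commutes]; rfl
  | add x y hx hy => rw [map_add, TrivSqZeroExt.fst_add, hx, hy]
  | ι_mul x m hx =>
    rw [map_mul, fst_mul', hx]
    congr 1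
    exact ((φ_ι (A := A) m).symm ▸ f_fst (A := A) m :)

/-- the exterior derivative, as a function -/
noncomputable def dfun (x : E A M) : E A M := ofTw (φ x).snd

theorem dfun_add (x y : E A M) : dfun (x + y) = dfun x + dfun y := by
  rw [dfun, map_add, TrivSqZeroExt.snd_add, ofTw_add]; rfl

theorem dfun_mul (x y : E A M) :
    dfun (x * y) = involute x * dfun y + dfun x * y := by
  rw [dfun, map_mul, snd_mul', φ_fst, φ_fst]; rfl

theorem dfun_algebraMap (a : A) : dfun (algebraMap A (E A M) a) = dι a := by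
  rw [dfun, AlgHom.commutes]; rfl

theorem dfun_ι (m : M) : dfun (ι A m) = DRData.dι₀ (A := A) m := by
  rw [dfun, φ_ι, f_snd]

theorem dfun_zero : dfun (0 : E A M) = 0 := by
  have h := dfun_add (A := A) (M := M) 0 0
  rw [add_zero] at h
  exact left_eq_add.mp h

theorem dfun_one : dfun (1 : E A M) = 0 := by
  have := dfun_algebraMap (M := M) (1 : A)
  rwa [map_one, dι_one] at this

theorem dfun_neg (x : E A M) : dfun (-x) = -dfun x := by
  have h := dfun_add x (-x)
  rw [add_neg_cancel, dfun_zero] at h
  exact (neg_eq_of_add_eq_zero_right h.symm).symm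

/-- the differential as an additive map -/
noncomputable def dAdd : E A M →+ E A M where
  toFun := dfun
  map_zero' := dfun_zero
  map_add' := dfun_add

theorem dAdd_apply (x : E A M) : dAdd x = dfun x := rfl

theorem dfun_mem (p : ℕ) {x : E A M} (hx : x ∈ ⋀[A]^p M) :
    dfun x ∈ ⋀[A]^(p + 1) M := by
  induction hx using Submodule.pow_induction_on_left' with
  | algebraMap a =>
    rw [dfun_algebraMap]
    exact ι_mem _
  | add x y i hx hy ihx ihy =>
    rw [dfun_add]
    exact Submodule.add_mem _ ihx ihy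
  | mem_mul m hm i x hx ih =>
    obtain ⟨ω, rfl⟩ := hm
    rw [dfun_mul, involute_ι]
    refine Submodule.add_mem _ ?_ ?_
    · rw [neg_mul]
      refine Submodule.neg_mem _ ?_
      have h := mul_mem_exteriorPower (ι_mem (A := A) ω) ih
      rwa [show 1 + (i + 1) = i + 1 + 1 by omega] at h
    · have h := mul_mem_exteriorPower ((dfun_ι (A := A) ω).symm ▸ DRData.dι₀_mem (A := A) ω) hx
      rwa [show 2 + i = i + 1 + 1 by omega] at h

theorem dfun_algebraMap_mul (a : A) (x : E A M) :
    dfun (algebraMap A (E A M) a * x) = dι a * x + algebraMap A (E A M) a * dfun x := by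
  rw [dfun_mul, AlgHom.commutes, dfun_algebraMap, add_comm]

theorem dfun_ι_mul (m : M) (x : E A M) :
    dfun (ι A m * x) = DRData.dι₀ (A := A) m * x - ι A m * dfun x := by
  rw [dfun_mul, involute_ι, dfun_ι, neg_mul, add_comm, sub_eq_add_neg]

end Groth.Agent.Lib.Helper12.GenDR
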