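import Mathlib
import Groth.Agent.Lib.Helper12.GenDR3
import Groth.Agent.Lib.Helper12.DRGlob

namespace Groth.Agent.Lib.Helper12.Desc

open ExteriorAlgebra CliffordAlgebra
open Groth.Agent.Lib.Helper12.DeRham (ι_mul_eq involute_of_mem mul_mem_exteriorPower ι_mem algebraMap_mem)
open Groth.Agent.Lib.Helper12.Poinc (glob glob_coe glob_of_mem isDR_glob IsDR coe_gen)

universe u

section general
variable {A M N : Type u} [CommRing A] [AddCommGroup M] [Module A M] [AddCommGroup N] [Module A N]

theorem coe_map (π : M →ₗ[A] N) (p : ℕ) (x : ↥(⋀[A]^p M)) :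
    ((exteriorPower.map p π x : ↥(⋀[A]^p N)) : ExteriorAlgebra A N) =
      ExteriorAlgebra.map π (x : ExteriorAlgebra A M) := by
  have : (Submodule.subtype (⋀[A]^p N)).comp (exteriorPower.map p π) =
      (ExteriorAlgebra.map π).toLinearMap.comp (Submodule.subtype (⋀[A]^p M)) := by
    apply exteriorPower.linearMap_ext
    ext m
    simp only [LinearMap.compAlternatingMap_apply, LinearMap.comp_apply, Submodule.subtype_apply,
      exteriorPower.map_apply_ιMulti, exteriorPower.ιMulti_apply_coe, AlgHom.toLinearMap_apply,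
      ExteriorAlgebra.map_apply_ιMulti]
  exact LinearMap.congr_fun this x

theorem map_mem (π : M →ₗ[A] N) (p : ℕ) {x : ExteriorAlgebra A M} (hx : x ∈ ⋀[A]^p M) :
    ExteriorAlgebra.map π x ∈ ⋀[A]^p N := by
  rw [← coe_map π p ⟨x, hx⟩]
  exact Subtype.property _

theorem coe_oneEquiv_symm (m : M) :
    (((exteriorPower.oneEquiv A M).symm m : ↥(⋀[A]^1 M)) : ExteriorAlgebra A M) = ι A m := by
  rw [exteriorPower.oneEquiv_symm_apply, exteriorPower.ιMulti_apply_coe,
    ExteriorAlgebra.ιMulti_succ_apply, ExteriorAlgebra.ιMulti_zero_apply, mul_one]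

end general

end Groth.Agent.Lib.Helper12.Desc
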