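import Mathlib
import Groth.Agent.Lib.Helper12.Desc1

namespace Groth.Agent.Lib.Helper12.Desc

open ExteriorAlgebra CliffordAlgebra
open Groth.Agent.Lib.Helper12.DeRham (ι_mul_eq involute_of_mem mul_mem_exteriorPower ι_mem algebraMap_mem)
open Groth.Agent.Lib.Helper12.Poinc (glob glob_coe glob_of_mem isDR_glob IsDR coe_gen)

universe u

section desc
variable {R A Ω' : Type u} [CommRing R] [CommRing A] [Algebra R A]
  [AddCommGroup Ω'] [Module A Ω'] [Module R Ω'] [IsScalarTower R A Ω']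
  (π : Ω[A⁄R] →ₗ[A] Ω')
  (dA : ∀ p : ℕ, ↥(⋀[A]^p (Ω[A⁄R])) →ₗ[R] ↥(⋀[A]^(p + 1) (Ω[A⁄R])))

theorem isDR_A (hdA : DeRham.IsDiff (KaehlerDifferential.D R A) dA) :
    IsDR (KaehlerDifferential.D R A) (glob dA) :=
  isDR_glob hdA (KaehlerDifferential.span_range_derivation R A)

/-- the differential of a one-form, pushed to the quotient -/
noncomputable def g : Ω[A⁄R] →+ ExteriorAlgebra A Ω' where
  toFun ω := ExteriorAlgebra.map π (glob dA (ι A ω))
  map_zero' := by simp
  map_add' := by intros; simp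

theorem g_apply (ω : Ω[A⁄R]) : g π dA ω = ExteriorAlgebra.map π (glob dA (ι A ω)) := rfl

variable {dA}
variable (hdA : DeRham.IsDiff (KaehlerDifferential.D R A) dA)
include hdA

theorem g_smul (a : A) (ω : Ω[A⁄R]) :
    g π dA (a • ω) = algebraMap A _ a * g π dA ω +
      ι A (π (KaehlerDifferential.D R A a)) * ι A (π ω) := by
  rw [g_apply, map_smul, Algebra.smul_def, (isDR_A dA hdA).algebraMap_mul, map_add, map_mul, map_mul,
    AlgHom.commutes, ExteriorAlgebra.map_apply_ι, ExteriorAlgebra.map_apply_ι, g_apply, add_comm]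

theorem g_mem (ω : Ω[A⁄R]) : g π dA ω ∈ ⋀[A]^2 Ω' :=
  map_mem π 2 ((isDR_A dA hdA).mem 1 _ (ι_mem ω))

theorem g_D (b : A) : g π dA (KaehlerDifferential.D R A b) = 0 := by
  rw [g_apply, (isDR_A dA hdA).ι_δ, map_zero]

theorem g_ker
    (hker : LinearMap.ker π ≤ Submodule.span A {ω : Ω[A⁄R] | π ω = 0 ∧
      exteriorPower.map 2 π (dA 1 ((exteriorPower.oneEquiv A (Ω[A⁄R])).symm ω)) = 0})
    (ω : Ω[A⁄R]) (hω : π ω = 0) : g π dA ω = 0 := by
  have hmem := hker (LinearMap.mem_ker.2 hω)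
  clear hω
  have : π ω = 0 ∧ g π dA ω = 0 := by
    induction hmem using Submodule.span_induction with
    | mem x hx =>
      refine ⟨hx.1, ?_⟩
      rw [g_apply, ← coe_oneEquiv_symm, glob_coe, ← coe_map, hx.2]
      rfl
    | zero => exact ⟨map_zero _, map_zero _⟩
    | add x y _ _ hx hy => exact ⟨by rw [map_add, hx.1, hy.1, add_zero], by rw [map_add, hx.2, hy.2, add_zero]⟩
    | smul a x _ hx =>
      refine ⟨by rw [map_smul, hx.1, smul_zero], ?_⟩
      rw [g_smul π hdA, hx.2, hx.1, map_zero, mul_zero, mul_zero, add_zero]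
  exact this.2

end desc

end Groth.Agent.Lib.Helper12.Desc
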