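import Mathlib
import Groth.Agent.Lib.Helper12.Desc2

namespace Groth.Agent.Lib.Helper12.Desc

open ExteriorAlgebra CliffordAlgebra
open Groth.Agent.Lib.Helper12.DeRham (ι_mul_eq involute_of_mem mul_mem_exteriorPower ι_mem algebraMap_mem)
open Groth.Agent.Lib.Helper12.Poinc (glob glob_coe glob_of_mem isDR_glob IsDR coe_gen)
open Groth.Agent.Lib.Helper12.GenDR (DRData dfun dAdd)

universe u

section desc
variable {R A Ω' : Type u} [CommRing R] [CommRing A] [Algebra R A]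
  [AddCommGroup Ω'] [Module A Ω'] [Module R Ω'] [IsScalarTower R A Ω']
  (π : Ω[A⁄R] →ₗ[A] Ω') (hπ : Function.Surjective π)
  {dA : ∀ p : ℕ, ↥(⋀[A]^p (Ω[A⁄R])) →ₗ[R] ↥(⋀[A]^(p + 1) (Ω[A⁄R]))}
  (hdA : DeRham.IsDiff (KaehlerDifferential.D R A) dA)
  (hker : LinearMap.ker π ≤ Submodule.span A {ω : Ω[A⁄R] | π ω = 0 ∧
      exteriorPower.map 2 π (dA 1 ((exteriorPower.oneEquiv A (Ω[A⁄R])).symm ω)) = 0})

/-- the differential of one-forms on the quotient -/
noncomputable def dι0 (dA : ∀ p : ℕ, ↥(⋀[A]^p (Ω[A⁄R])) →ₗ[R] ↥(⋀[A]^(p + 1) (Ω[A⁄R])))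
    (m' : Ω') : ExteriorAlgebra A Ω' :=
  g π dA (Function.surjInv hπ m')

include hdA hker in
theorem dι0_eq (ω : Ω[A⁄R]) : dι0 π hπ dA (π ω) = g π dA ω := by
  have h : π (Function.surjInv hπ (π ω) - ω) = 0 := by
    rw [map_sub, Function.surjInv_eq hπ, sub_self]
  have := g_ker π hdA hker _ h
  rw [map_sub, sub_eq_zero] at this
  exact this

/-- the data defining the differential on the quotient -/
@[reducible] noncomputable def drData : DRData A Ω' where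
  δ := (π.compDer (KaehlerDifferential.D R A)).restrictScalars ℤ
  dι₀ := dι0 π hπ dA
  dι₀_add m n := by
    obtain ⟨ω, rfl⟩ := hπ m
    obtain ⟨η, rfl⟩ := hπ n
    rw [← map_add, dι0_eq π hπ hdA hker, dι0_eq π hπ hdA hker, dι0_eq π hπ hdA hker, map_add]
  dι₀_smul a m := by
    obtain ⟨ω, rfl⟩ := hπ m
    rw [← map_smul, dι0_eq π hπ hdA hker, dι0_eq π hπ hdA hker, g_smul π hdA]
    rfl
  dι₀_mem m := by
    obtain ⟨ω, rfl⟩ := hπ m
    rw [dι0_eq π hπ hdA hker]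
    exact g_mem π hdA ω

end desc

end Groth.Agent.Lib.Helper12.Desc
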