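import Mathlib
import Groth.Agent.Lib.Helper12.Desc3

namespace Groth.Agent.Lib.Helper12.Desc

open ExteriorAlgebra CliffordAlgebra
open Groth.Agent.Lib.Helper12.DeRham (ι_mul_eq involute_of_mem mul_mem_exteriorPower ι_mem algebraMap_mem)
open Groth.Agent.Lib.Helper12.Poinc (glob glob_coe glob_of_mem isDR_glob IsDR coe_gen)
open Groth.Agent.Lib.Helper12.GenDR (DRData dfun dAdd)

universe u

section desc
variable {R A Ω' : Type u} [CommRing R] [CommRing A] [Algebra R A]
  [AddCommGroup Ω'] [Module A Ω'] [Module R Ω'] [IsScalarTower R A Ω']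
  (π : Ω[A⁄R] →ₗ[A] Ω') (hπ : Function.Surjective π)
  {dA : ∀ p : ℕ, ↥(⋀[A]^p (Ω[A⁄R])) →ₗ[R] ↥(⋀[A]^(p + 1) (Ω[A⁄R]))}
  (hdA : DeRham.IsDiff (KaehlerDifferential.D R A) dA)
  (hker : LinearMap.ker π ≤ Submodule.span A {ω : Ω[A⁄R] | π ω = 0 ∧
      exteriorPower.map 2 π (dA 1 ((exteriorPower.oneEquiv A (Ω[A⁄R])).symm ω)) = 0})

/-- the global differential on the quotient -/
noncomputable def D' : ExteriorAlgebra A Ω' → ExteriorAlgebra A Ω' :=
  letI := drData π hπ hdA hker
  dfun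

theorem D'_add (x y : ExteriorAlgebra A Ω') :
    D' π hπ hdA hker (x + y) = D' π hπ hdA hker x + D' π hπ hdA hker y :=
  letI := drData π hπ hdA hker
  GenDR.dfun_add x y

theorem D'_zero : D' π hπ hdA hker 0 = 0 :=
  letI := drData π hπ hdA hker
  GenDR.dfun_zero

theorem D'_algebraMap (a : A) :
    D' π hπ hdA hker (algebraMap A _ a) = ι A (π (KaehlerDifferential.D R A a)) :=
  letI := drData π hπ hdA hker
  GenDR.dfun_algebraMap a

theorem D'_algebraMap_mul (a : A) (x : ExteriorAlgebra A Ω') :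
    D' π hπ hdA hker (algebraMap A _ a * x) =
      ι A (π (KaehlerDifferential.D R A a)) * x + algebraMap A _ a * D' π hπ hdA hker x :=
  letI := drData π hπ hdA hker
  GenDR.dfun_algebraMap_mul a x

theorem D'_ι_mul (ω : Ω[A⁄R]) (x : ExteriorAlgebra A Ω') :
    D' π hπ hdA hker (ι A (π ω) * x) = g π dA ω * x - ι A (π ω) * D' π hπ hdA hker x := by
  letI := drData π hπ hdA hker
  have := GenDR.dfun_ι_mul (A := A) (π ω) x
  rw [show (DRData.dι₀ (A := A) (π ω)) = dι0 π hπ dA (π ω) from rfl, dι0_eq π hπ hdA hker] at this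
  exact this

theorem D'_mem (p : ℕ) {x : ExteriorAlgebra A Ω'} (hx : x ∈ ⋀[A]^p Ω') :
    D' π hπ hdA hker x ∈ ⋀[A]^(p + 1) Ω' :=
  letI := drData π hπ hdA hker
  GenDR.dfun_mem p hx

theorem D'_map (x : ExteriorAlgebra A (Ω[A⁄R])) :
    D' π hπ hdA hker (ExteriorAlgebra.map π x) = ExteriorAlgebra.map π (glob dA x) := by
  induction x using CliffordAlgebra.left_induction with
  | algebraMap a =>
    rw [AlgHom.commutes, D'_algebraMap]
    have := (isDR_A dA hdA).algebraMap a
    rw [show (algebraMap A (CliffordAlgebra (0 : QuadraticForm A (Ω[A⁄R]))) a) =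
      algebraMap A (ExteriorAlgebra A (Ω[A⁄R])) a from rfl, this, ExteriorAlgebra.map_apply_ι]
  | add x y hx hy => rw [map_add, D'_add, hx, hy, map_add, map_add]
  | ι_mul x ω hx =>
    have e1 : (CliffordAlgebra.ι (0 : QuadraticForm A (Ω[A⁄R]))) ω = ι A ω := rfl
    rw [e1, map_mul, ExteriorAlgebra.map_apply_ι, D'_ι_mul, hx,
      (isDR_A dA hdA).ι_mul' (KaehlerDifferential.span_range_derivation R A), map_sub, map_mul,
      map_mul, ExteriorAlgebra.map_apply_ι, g_apply]

include hπ in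
theorem D'_sq (y : ExteriorAlgebra A Ω') : D' π hπ hdA hker (D' π hπ hdA hker y) = 0 := by
  obtain ⟨x, rfl⟩ := (ExteriorAlgebra.map_surjective_iff.2 hπ) y
  rw [D'_map, D'_map, (isDR_A dA hdA).sq, map_zero]

theorem D'_ι_compDer_mul (b : A) (x : ExteriorAlgebra A Ω') :
    D' π hπ hdA hker (ι A (π (KaehlerDifferential.D R A b)) * x) =
      -(ι A (π (KaehlerDifferential.D R A b)) * D' π hπ hdA hker x) := by
  rw [D'_ι_mul, g_D π hdA, zero_mul, zero_sub]

theorem D'_ιMulti (p : ℕ) (b : Fin p → A) :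
    D' π hπ hdA hker (ExteriorAlgebra.ιMulti A p (fun i => π (KaehlerDifferential.D R A (b i)))) = 0 := by
  induction p with
  | zero =>
    rw [ExteriorAlgebra.ιMulti_zero_apply]
    have := D'_algebraMap π hπ hdA hker 1
    rwa [map_one, Derivation.map_one_eq_zero, map_zero, map_zero] at this
  | succ p ih =>
    rw [ExteriorAlgebra.ιMulti_succ_apply, D'_ι_compDer_mul]
    have := ih (fun i => b i.succ)
    rw [show (Matrix.vecTail fun i => π (KaehlerDifferential.D R A (b i))) =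
      (fun i => π (KaehlerDifferential.D R A (b i.succ))) from rfl, this, mul_zero, neg_zero]

end desc

end Groth.Agent.Lib.Helper12.Desc
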