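import Mathlib
import Groth.Agent.Lib.Helper12.Desc4

namespace Groth.Agent.Lib.Helper12.Desc

open ExteriorAlgebra CliffordAlgebra
open Groth.Agent.Lib.Helper12.DeRham (ι_mul_eq involute_of_mem mul_mem_exteriorPower ι_mem algebraMap_mem)
open Groth.Agent.Lib.Helper12.Poinc (glob glob_coe glob_of_mem isDR_glob IsDR coe_gen)
open Groth.Agent.Lib.Helper12.GenDR (DRData dfun dAdd)
open exteriorPower

universe u

section desc
variable {R A Ω' : Type u} [CommRing R] [CommRing A] [Algebra R A]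
  [AddCommGroup Ω'] [Module A Ω'] [Module R Ω'] [IsScalarTower R A Ω']
  (π : Ω[A⁄R] →ₗ[A] Ω') (hπ : Function.Surjective π)
  {dA : ∀ p : ℕ, ↥(⋀[A]^p (Ω[A⁄R])) →ₗ[R] ↥(⋀[A]^(p + 1) (Ω[A⁄R]))}
  (hdA : DeRham.IsDiff (KaehlerDifferential.D R A) dA)
  (hker : LinearMap.ker π ≤ Submodule.span A {ω : Ω[A⁄R] | π ω = 0 ∧
      exteriorPower.map 2 π (dA 1 ((exteriorPower.oneEquiv A (Ω[A⁄R])).symm ω)) = 0})

/-- the degreewise family on the quotient -/
noncomputable def dfam (p : ℕ) : ↥(⋀[A]^p Ω') →ₗ[R] ↥(⋀[A]^(p + 1) Ω') where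
  toFun x := ⟨D' π hπ hdA hker (x : ExteriorAlgebra A Ω'), D'_mem π hπ hdA hker p x.2⟩
  map_add' x y := by
    apply Subtype.ext
    simp only [Submodule.coe_add]
    exact D'_add π hπ hdA hker _ _
  map_smul' r x := by
    apply Subtype.ext
    simp only [RingHom.id_apply]
    rw [Submodule.coe_smul_of_tower, Submodule.coe_smul_of_tower, ← algebraMap_smul A r,
      ← algebraMap_smul A r (D' π hπ hdA hker (x : ExteriorAlgebra A Ω')), Algebra.smul_def,
      D'_algebraMap_mul, Derivation.map_algebraMap, map_zero, map_zero, zero_mul, zero_add,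
      Algebra.smul_def]

theorem dfam_coe (p : ℕ) (x : ↥(⋀[A]^p Ω')) :
    ((dfam π hπ hdA hker p x : ↥(⋀[A]^(p + 1) Ω')) : ExteriorAlgebra A Ω') =
      D' π hπ hdA hker (x : ExteriorAlgebra A Ω') := rfl

include hπ hdA hker in
theorem main_15296 :
    ∃ d : ∀ p : ℕ, ↥(⋀[A]^p Ω') →ₗ[R] ↥(⋀[A]^(p + 1) Ω'),
      DeRham.IsDiff (π.compDer (KaehlerDifferential.D R A)) d ∧
        ∀ (p : ℕ) (x : ↥(⋀[A]^p (Ω[A⁄R]))),
          d p (exteriorPower.map p π x) = exteriorPower.map (p + 1) π (dA p x) := by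
  refine ⟨dfam π hπ hdA hker, ⟨?_, ?_⟩, ?_⟩
  · intro p b₀ b
    apply Subtype.ext
    rw [dfam_coe, coe_gen, D'_algebraMap_mul, exteriorPower.ιMulti_apply_coe,
      ExteriorAlgebra.ιMulti_succ_apply]
    have h1 := D'_ιMulti π hπ hdA hker p b
    have h2 : (fun i => (π.compDer (KaehlerDifferential.D R A)) (b i)) =
        (fun i => π (KaehlerDifferential.D R A (b i))) := rfl
    rw [h2, h1, mul_zero, add_zero]
    rfl
  · intro p
    apply LinearMap.ext
    intro x
    apply Subtype.ext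
    rw [LinearMap.comp_apply, dfam_coe, dfam_coe, D'_sq π hπ hdA hker]
    rfl
  · intro p x
    apply Subtype.ext
    rw [dfam_coe, coe_map, D'_map, coe_map, glob_coe]

end desc

end Groth.Agent.Lib.Helper12.Desc
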