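import Mathlib.CategoryTheory.EffectiveEpi.Comp
import Mathlib.CategoryTheory.MorphismProperty.Limits
import Mathlib.CategoryTheory.Limits.Shapes.Pullback.HasPullback
import Mathlib.CategoryTheory.Limits.Shapes.KernelPair
import Mathlib.CategoryTheory.Comma.Over.Pullback

set_option autoImplicit false
universe v₁ u₁

namespace Groth.Agent.Lib.Helper12

open CategoryTheory CategoryTheory.Limits

variable {C : Type u₁} [Category.{v₁} C]

/-- universal effective epimorphisms -/
abbrev UEE : MorphismProperty C :=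
  MorphismProperty.universally (fun (A B : C) (p : A ⟶ B) => EffectiveEpi p)

theorem UEE.effectiveEpi {A B : C} {π : A ⟶ B} (hπ : UEE π) : EffectiveEpi π :=
  hπ (𝟙 A) (𝟙 B) π (IsPullback.of_id_snd (f := π))

theorem UEE.effectiveEpi_fst [HasPullbacks C] {A B W : C} {π : A ⟶ B} (hπ : UEE π) (a : W ⟶ B) :
    EffectiveEpi (pullback.fst a π) :=
  hπ _ _ _ (IsPullback.of_hasPullback a π)

theorem UEE.effectiveEpi_snd [HasPullbacks C] {A B W : C} {π : A ⟶ B} (hπ : UEE π) (a : W ⟶ B) :
    EffectiveEpi (pullback.snd π a) :=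
  hπ _ _ _ (IsPullback.of_hasPullback π a).flip

theorem mono_of_forall_eq [HasPullbacks C] {A B Z : C} (π : A ⟶ B) (hπ : UEE π) (g : B ⟶ Z)
    (H : ∀ ⦃P : C⦄ (x y : P ⟶ A), x ≫ π ≫ g = y ≫ π ≫ g → x ≫ π = y ≫ π) : Mono g := by
  constructor
  intro W a b hab
  have h1 : EffectiveEpi (pullback.fst a π) := hπ.effectiveEpi_fst a
  have h2 : EffectiveEpi (pullback.fst (pullback.fst a π ≫ b) π) := hπ.effectiveEpi_fst _
  have hx := H (pullback.fst (pullback.fst a π ≫ b) π ≫ pullback.snd a π)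
    (pullback.snd (pullback.fst a π ≫ b) π) (by
      simp only [Category.assoc]
      rw [← pullback.condition_assoc, ← pullback.condition_assoc, hab]
      simp only [Category.assoc])
  simp only [Category.assoc] at hx
  rw [← pullback.condition, ← pullback.condition] at hx
  rw [← cancel_epi (pullback.fst a π), ← cancel_epi (pullback.fst (pullback.fst a π ≫ b) π)]
  exact hx

theorem UEE.of_isPullback [HasPullbacks C] {X Y X' Y' : C} {f : X ⟶ Y} (hf : UEE f)
    {f' : X' ⟶ Y'} {i₁ : X' ⟶ X} {i₂ : Y' ⟶ Y} (h : IsPullback f' i₁ i₂ f) : UEE f' :=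
  MorphismProperty.of_isPullback (P := UEE) h.flip hf

theorem exists_desc_comp [HasPullbacks C] {X Y Z : C} (f : X ⟶ Y) (g : Y ⟶ Z) (hf : UEE f)
    [EffectiveEpi g] {W : C} (e : X ⟶ W)
    (h : ∀ {T : C} (a b : T ⟶ X), a ≫ f ≫ g = b ≫ f ≫ g → a ≫ e = b ≫ e) :
    ∃ m : Z ⟶ W, (f ≫ g) ≫ m = e := by
  have hfe : EffectiveEpi f := hf.effectiveEpi
  let e₁ : Y ⟶ W := EffectiveEpi.desc f e (fun a b hab => h a b (by
    rw [← Category.assoc, hab, Category.assoc]))
  have he₁ : f ≫ e₁ = e := EffectiveEpi.fac _ _ _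
  have h₁ : ∀ {T : C} (a b : T ⟶ Y), a ≫ g = b ≫ g → a ≫ e₁ = b ≫ e₁ := by
    intro T a b hab
    have h1 : EffectiveEpi (pullback.fst a f) := hf.effectiveEpi_fst a
    have h2 : EffectiveEpi (pullback.fst (pullback.fst a f ≫ b) f) := hf.effectiveEpi_fst _
    have hx := h (pullback.fst (pullback.fst a f ≫ b) f ≫ pullback.snd a f)
      (pullback.snd (pullback.fst a f ≫ b) f) (by
        simp only [Category.assoc]
        rw [← pullback.condition_assoc, ← pullback.condition_assoc, hab]
        simp only [Category.assoc])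
    rw [← he₁] at hx
    simp only [Category.assoc] at hx
    rw [← pullback.condition_assoc, ← pullback.condition_assoc] at hx
    simp only [Category.assoc] at hx
    rw [← cancel_epi (pullback.fst a f), ← cancel_epi (pullback.fst (pullback.fst a f ≫ b) f)]
    exact hx
  refine ⟨EffectiveEpi.desc g e₁ h₁, ?_⟩
  rw [Category.assoc, EffectiveEpi.fac, he₁]

noncomputable def effectiveEpiStructCompOfUEE [HasPullbacks C] {X Y Z : C} (f : X ⟶ Y)
    (g : Y ⟶ Z) (hf : UEE f) [EffectiveEpi g] : EffectiveEpiStruct (f ≫ g) where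
  desc e h := (exists_desc_comp f g hf e (fun a b hab => h a b (by
    simpa only [Category.assoc] using hab))).choose
  fac e h := (exists_desc_comp f g hf e (fun a b hab => h a b (by
    simpa only [Category.assoc] using hab))).choose_spec
  uniq e h m hm := by
    have hfe : EffectiveEpi f := hf.effectiveEpi
    rw [← cancel_epi (f ≫ g), hm]
    exact ((exists_desc_comp f g hf e (fun a b hab => h a b (by
      simpa only [Category.assoc] using hab))).choose_spec).symm

theorem effectiveEpi_comp_of_UEE [HasPullbacks C] {X Y Z : C} (f : X ⟶ Y) (g : Y ⟶ Z)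
    (hf : UEE f) [EffectiveEpi g] : EffectiveEpi (f ≫ g) :=
  ⟨⟨effectiveEpiStructCompOfUEE f g hf⟩⟩

theorem UEE.comp [HasPullbacks C] {X Y Z : C} {f : X ⟶ Y} {g : Y ⟶ Z} (hf : UEE f)
    (hg : UEE g) : UEE (f ≫ g) := by
  intro X' Z' i₁ i₂ fg' hpb
  have hr : IsPullback (pullback.fst i₂ g) (pullback.snd i₂ g) i₂ g := IsPullback.of_hasPullback i₂ g
  have hw : fg' ≫ i₂ = (i₁ ≫ f) ≫ g := by rw [hpb.w, Category.assoc]
  have hl : IsPullback (pullback.lift fg' (i₁ ≫ f) hw) i₁ (pullback.snd i₂ g) f := by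
    refine IsPullback.of_right ?_ (pullback.lift_snd _ _ _) hr
    rw [pullback.lift_fst]
    exact hpb
  have h1 : UEE (pullback.lift fg' (i₁ ≫ f) hw) := hf.of_isPullback hl
  have h2 : EffectiveEpi (pullback.fst i₂ g) := hg _ _ _ hr
  have := effectiveEpi_comp_of_UEE (pullback.lift fg' (i₁ ≫ f) hw) (pullback.fst i₂ g) h1
  rwa [pullback.lift_fst] at this

end Groth.Agent.Lib.Helper12
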