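import Mathlib

/-! # Preimages of subobjects under an epimorphism: two short exact sequences -/

set_option autoImplicit false
universe v u

open CategoryTheory CategoryTheory.Limits

namespace Groth.Agent.Lib.Helper12.H12Dev

section Abelian
variable {C : Type u} [Category.{v} C] [Abelian C]
variable {A B D D' Q : C} (f : A ⟶ B) (g : B ⟶ D) (w : f ≫ g = 0)
  (hS : (ShortComplex.mk f g w).ShortExact)
  (c : D' ⟶ D) (q : D ⟶ Q) (w' : c ≫ q = 0) (hS' : (ShortComplex.mk c q w').ShortExact)

/-- The preimage of `D' ⊆ D` in `B`. -/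
noncomputable abbrev preim : C := pullback g c

/-- `A ⟶ g⁻¹(D')`. -/
noncomputable def preimLift : A ⟶ preim g c := pullback.lift f 0 (by rw [w, zero_comp])

@[reassoc (attr := simp)]
theorem preimLift_fst : preimLift f g w c ≫ pullback.fst g c = f := pullback.lift_fst _ _ _

@[reassoc (attr := simp)]
theorem preimLift_snd : preimLift f g w c ≫ pullback.snd g c = 0 := pullback.lift_snd _ _ _

include hS in
/-- `0 ⟶ A ⟶ g⁻¹(D') ⟶ D' ⟶ 0` is short exact. -/
theorem shortExact_preim_left :
    (ShortComplex.mk (preimLift f g w c) (pullback.snd g c) (preimLift_snd f g w c)).ShortExact := by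
  haveI := hS.mono_f
  haveI := hS.epi_g
  haveI : Mono (preimLift f g w c) := mono_of_mono_fac (preimLift_fst f g w c)
  haveI : Epi (pullback.snd g c) := inferInstance
  refine ShortComplex.ShortExact.mk (ShortComplex.exact_of_f_is_kernel _ ?_)
  refine KernelFork.IsLimit.ofι _ _
    (fun {W} k hk => hS.exact.lift (k ≫ pullback.fst g c) (by
      rw [Category.assoc, pullback.condition, ← Category.assoc]
      change (k ≫ pullback.snd g c) ≫ c = 0
      rw [hk, zero_comp])) ?_ ?_
  · intro W k hk
    apply pullback.hom_ext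
    · rw [Category.assoc, preimLift_fst]
      exact hS.exact.lift_f _ _
    · rw [Category.assoc, preimLift_snd, comp_zero]
      exact hk.symm
  · intro W k hk m hm
    rw [← cancel_mono f]
    rw [hS.exact.lift_f]
    change m ≫ f = k ≫ pullback.fst g c
    rw [← hm, Category.assoc, preimLift_fst]

include hS hS' in
/-- `0 ⟶ g⁻¹(D') ⟶ B ⟶ D/D' ⟶ 0` is short exact. -/
theorem shortExact_preim_right :
    (ShortComplex.mk (pullback.fst g c) (g ≫ q) (by
      rw [← Category.assoc, pullback.condition, Category.assoc, w', comp_zero])).ShortExact := by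
  haveI := hS.epi_g
  haveI := hS'.mono_f
  haveI := hS'.epi_g
  haveI : Mono (pullback.fst g c) := inferInstance
  haveI : Epi (g ≫ q) := epi_comp g q
  refine ShortComplex.ShortExact.mk (ShortComplex.exact_of_f_is_kernel _ ?_)
  refine KernelFork.IsLimit.ofι _ _
    (fun {W} k hk => pullback.lift k (hS'.exact.lift (k ≫ g) (by
      rw [Category.assoc]; exact hk)) (by rw [hS'.exact.lift_f])) ?_ ?_
  · intro W k hk
    exact pullback.lift_fst _ _ _
  · intro W k hk m hm
    rw [← cancel_mono (pullback.fst g c), pullback.lift_fst]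
    exact hm

end Abelian

end Groth.Agent.Lib.Helper12.H12Dev
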