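import Mathlib
import Groth.Agent.Lib.Helper12.Dev8

/-! # Dévissage relative to an irreducible closed subset (S0819-type) -/

set_option autoImplicit false
universe u v

open CategoryTheory CategoryTheory.Limits AlgebraicGeometry TopologicalSpace Opposite Function
open Groth.Agent.Lib.Helper29.QCoh
open Groth.Agent.Lib.Helper12.H12ModGlue

namespace Groth.Agent.Lib.Helper12.H12Dev

section SuppExact
variable {X : Scheme.{u}}

theorem support_subset_union_of_exact (S : ShortComplex X.Modules) (hS : S.Exact) :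
    CohB1.support S.X₂ ⊆ CohB1.support S.X₁ ∪ CohB1.support S.X₃ := by
  intro x hx
  by_contra hxn
  rw [Set.mem_union, not_or] at hxn
  apply hx
  have h1 : Subsingleton (S.X₁.presheaf.stalk x) := (notMem_support_iff _ x).mp hxn.1
  have h3 : Subsingleton (S.X₃.presheaf.stalk x) := (notMem_support_iff _ x).mp hxn.2
  have hex := (exact_iff_stalk_function_exact S).mp hS x
  have key : ∀ t : S.X₂.presheaf.stalk x, t = 0 := by
    intro t
    obtain ⟨s, rfl⟩ := (hex t).mp (Subsingleton.elim _ _)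
    rw [Subsingleton.elim s 0, map_zero]
  exact ⟨fun a b => by rw [key a, key b]⟩

theorem support_eq_of_iso {M N : X.Modules} (e : M ≅ N) : CohB1.support M = CohB1.support N :=
  (support_subset_of_mono e.hom).antisymm (support_subset_of_mono e.inv)

end SuppExact

section Rel
variable {X : Scheme.{u}} [IsNoetherian X]

/-- **S0819-type dévissage.** -/
theorem devissage_rel (Z₀ : Set X) (hZ₀ : IsClosed Z₀) (ξ : X) (hξ : closure {ξ} = Z₀)
    (P : X.Modules → Prop) (hP : ∀ M N : X.Modules, (M ≅ N) → P M → P N)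
    (h₁ : ∀ S : ShortComplex X.Modules, S.ShortExact → Coh.IsCoh S.X₁ → Coh.IsCoh S.X₂ →
      Coh.IsCoh S.X₃ → CohB1.support S.X₂ ⊆ Z₀ →
      (P S.X₁ → P S.X₂ → P S.X₃) ∧ (P S.X₁ → P S.X₃ → P S.X₂) ∧ (P S.X₂ → P S.X₃ → P S.X₁))
    (h₂ : ∀ (Z : Set X) (hZ : IsClosed Z), IsIrreducible Z → Z ⊆ Z₀ → Z ≠ Z₀ →
      ∀ (I : (Scheme.IdealSheafData.vanishingIdeal ⟨Z, hZ⟩).subscheme.Modules)
      (ι : I ⟶ unitM _), Mono ι → I.IsQuasicoherent →
      P ((Scheme.Modules.pushforward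
        (Scheme.IdealSheafData.vanishingIdeal ⟨Z, hZ⟩).subschemeι).obj I))
    (G : X.Modules) (hG : Coh.IsCoh G) (hGsupp : CohB1.support G ⊆ Z₀)
    (hGs : IsSimpleModule (X.presheaf.stalk ξ) (G.presheaf.stalk ξ)) (hPG : P G)
    (M : X.Modules) (hM : Coh.IsCoh M) (hsupp : CohB1.support M ⊆ Z₀) : P M := by
  let K' : X.Modules → Prop := fun F => CohB1.support F ⊆ Z₀ ∧ P F
  have hiso : ∀ M N : X.Modules, (M ≅ N) → K' M → K' N := fun M N e h =>
    ⟨(support_eq_of_iso e) ▸ h.1, hP M N e h.2⟩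
  have h23 : TwoOfThree K' := by
    intro S hS c1 c2 c3
    haveI := hS.mono_f
    haveI := hS.epi_g
    refine ⟨fun k1 k2 => ⟨(support_subset_of_epi S.g).trans k2.1, ?_⟩,
      fun k1 k3 => ?_, fun k2 k3 => ⟨(support_subset_of_mono S.f).trans k2.1, ?_⟩⟩
    · exact (h₁ S hS c1 c2 c3 k2.1).1 k1.2 k2.2
    · have hs : CohB1.support S.X₂ ⊆ Z₀ :=
        (support_subset_union_of_exact S hS.exact).trans (Set.union_subset k1.1 k3.1)
      exact ⟨hs, (h₁ S hS c1 c2 c3 hs).2.1 k1.2 k3.2⟩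
    · exact (h₁ S hS c1 c2 c3 k2.1).2.2 k2.2 k3.2
  have hKG : K' G := ⟨hGsupp, hPG⟩
  have h0 : ∀ M : X.Modules, IsZero M → K' M := mem_zero_of_twoOfThree hiso h23 G hG hKG
  refine (devissage_core (K' := K') h0 h23.extClosed Z₀ ?_ M hM hsupp).2
  intro Z hZ hirr hZZ₀ y hy hsmall T hT hTsupp hTs
  by_cases hZeq : Z = Z₀
  · subst hZeq
    have hyξ : y = ξ := by
      have h1 : IsGenericPoint y Z := hy
      have h2 : IsGenericPoint ξ Z := hξ
      exact h1.eq h2
    subst hyξ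
    exact mem_of_simple_stalks hiso h23 Z y hsmall G hG hKG hGsupp hGs T hT hTsupp hTs
  · refine mem_of_simple_stalk_of_push hiso h23.extClosed Z hZ hirr y hy ?_ hsmall T hT hTsupp hTs
    intro I ι hm hq
    haveI := hq
    refine ⟨?_, h₂ Z hZ hirr hZZ₀ hZeq I ι hm hq⟩
    rw [Groth.Agent.Helper19.ClImmSupp.support_pushforward]
    refine (Set.image_subset_range _ _).trans ?_
    rw [range_subschemeι_vanishingIdeal ⟨Z, hZ⟩]
    exact hZZ₀

end Rel

end Groth.Agent.Lib.Helper12.H12Dev
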