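import Mathlib
import Groth.Agent.Lib.Helper12.Dev9
import Groth.Agent.Lib.Helper12.Dev10

/-! # Filtrations of coherent modules by direct images of ideals of integral subschemes -/

set_option autoImplicit false
universe u v

open CategoryTheory CategoryTheory.Limits AlgebraicGeometry TopologicalSpace Opposite Function
open Groth.Agent.Lib.Helper29.QCoh
open Groth.Agent.Lib.Helper12.H12ModGlue

namespace Groth.Agent.Lib.Helper12.H12Dev

section Filt
variable {X : Scheme.{u}}

/-- The direct image of a nonzero quasi-coherent ideal of an integral closed subscheme. -/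
def IsGoodPiece (Q : X.Modules) : Prop :=
  ∃ (Z : Scheme.{u}) (i : Z ⟶ X), IsClosedImmersion i ∧ IsIntegral Z ∧
    ∃ (I : Z.Modules) (ι : I ⟶ Coh.structureModule Z), Mono ι ∧ Coh.IsQCoh I ∧ ¬ IsZero I ∧
      Nonempty (Q ≅ (Coh.push i).obj I)

/-- `M` is obtained from `0` by successive extensions by good pieces. -/
inductive Filt : X.Modules → Prop
  | zero (M : X.Modules) (h : IsZero M) : Filt M
  | step (M' M Q : X.Modules) (f : M' ⟶ M) (g : M ⟶ Q) (w : f ≫ g = 0)
      (hS : (ShortComplex.mk f g w).ShortExact) (hM' : Coh.IsCoh M') (hM : Coh.IsCoh M)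
      (h' : Filt M') (hQ : IsGoodPiece Q) : Filt M

theorem Filt.of_iso [IsLocallyNoetherian X] {M N : X.Modules} (h : Filt M) (e : M ≅ N) :
    Filt N := by
  cases h with
  | zero _ h => exact Filt.zero N (h.of_iso e.symm)
  | step M' _ Q f g w hS hM' hM h' hQ =>
    refine Filt.step M' N Q (f ≫ e.hom) (e.inv ≫ g) (by simp [w]) ?_ hM' (isCoh_of_iso e hM) h' hQ
    have eS : ShortComplex.mk f g w ≅ ShortComplex.mk (f ≫ e.hom) (e.inv ≫ g) (by simp [w]) :=
      ShortComplex.isoMk (Iso.refl _) e (Iso.refl _) (by simp) (by simp)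
    exact ShortComplex.shortExact_of_iso eS hS

theorem isCoh_pullbackObj [IsLocallyNoetherian X] {A B D : X.Modules} (g : A ⟶ D) (c : B ⟶ D)
    [Mono c] (hA : Coh.IsCoh A) (hB : Coh.IsCoh B) (hD : Coh.IsCoh D) :
    Coh.IsCoh (pullback g c) := by
  haveI := hA.1
  haveI := hA.2
  haveI := hB.1
  haveI := hD.1
  haveI : (pullback g c).IsQuasicoherent := isQuasicoherent_pullbackObj g c
  exact ⟨inferInstance, isFiniteType_of_mono (pullback.fst g c)⟩

theorem Filt.ext_aux [IsLocallyNoetherian X] {D : X.Modules} (hD : Filt D) :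
    ∀ {A B : X.Modules} (f : A ⟶ B) (g : B ⟶ D) (w : f ≫ g = 0),
      (ShortComplex.mk f g w).ShortExact → Coh.IsCoh A → Coh.IsCoh B → Coh.IsCoh D →
      Filt A → Filt B := by
  induction hD with
  | zero D h =>
    intro A B f g w hS hA hB _ hFA
    haveI := hS.mono_f
    have hg : g = 0 := h.eq_of_tgt _ _
    haveI : Epi f := (ShortComplex.exact_iff_epi _ hg).mp hS.exact
    haveI : IsIso f := isIso_of_mono_of_epi f
    exact hFA.of_iso (asIso f)
  | step D' D Q c q w' hS' hD' hD hFD' hQ ih =>
    intro A B f g w hS hA hB _ hFA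
    haveI := hS'.mono_f
    have hB' : Coh.IsCoh (pullback g c) := isCoh_pullbackObj g c hB hD' hD
    have h1 := shortExact_preim_left f g w hS c
    have h2 := shortExact_preim_right f g w hS c q w' hS'
    have hFB' : Filt (pullback g c) := ih _ _ _ h1 hA hB' hD' hFA
    exact Filt.step _ B Q _ _ _ h2 hB' hB hFB' hQ

theorem Filt.extClosed [IsLocallyNoetherian X] : ExtClosed (Filt (X := X)) :=
  fun S hS h1 h2 h3 k1 k3 => k3.ext_aux S.f S.g S.zero hS h1 h2 h3 k1

theorem isCoh_pushforward_sub_unit [IsLocallyNoetherian X] {W : Scheme.{u}} (i : W ⟶ X)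
    [IsClosedImmersion i] (I : W.Modules) (ι : I ⟶ unitM W) [Mono ι] [I.IsQuasicoherent] :
    Coh.IsCoh ((Scheme.Modules.pushforward i).obj I) := by
  haveI : IsLocallyNoetherian W := LocallyOfFiniteType.isLocallyNoetherian i
  haveI : (unitM W).IsQuasicoherent := isQuasicoherent_unitM W
  haveI : (unitM W).IsFiniteType := (isCoh_unitM W).2
  haveI : I.IsFiniteType := isFiniteType_of_mono ι
  exact ⟨isQuasicoherent_pushforward_of_isAffineHom i I, isFiniteType_pushforward_of_isFinite i I⟩

theorem filt_pushforward [IsLocallyNoetherian X] {W : Scheme.{u}} (i : W ⟶ X)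
    [IsClosedImmersion i] [IsIntegral W] (I : W.Modules) (ι : I ⟶ unitM W) (hm : Mono ι)
    (hq : I.IsQuasicoherent) : Filt ((Scheme.Modules.pushforward i).obj I) := by
  by_cases hI : IsZero I
  · exact Filt.zero _ (Functor.map_isZero _ hI)
  · have hM := isCoh_pushforward_sub_unit i I ι
    have hS : (ShortComplex.mk (kernel.ι (𝟙 ((Scheme.Modules.pushforward i).obj I))) (𝟙 _)
        (kernel.condition _)).ShortExact :=
      ShortComplex.ShortExact.mk (ShortComplex.exact_kernel _)
    exact Filt.step _ _ _ _ _ _ hS (isCoh_kernel _ hM hM) hM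
      (Filt.zero _ (isZero_kernel_of_mono _))
      ⟨W, i, inferInstance, inferInstance, I, ι, hm, hq, hI, ⟨Iso.refl _⟩⟩

/-- **Every coherent module on a Noetherian scheme is filtered by good pieces.** -/
theorem filt_of_isCoh [IsNoetherian X] (M : X.Modules) (hM : Coh.IsCoh M) : Filt M := by
  refine devissage_core (K' := Filt) Filt.zero Filt.extClosed Set.univ ?_ M hM (Set.subset_univ _)
  intro Z hZ hirr _ y hy hsmall T hT hTsupp hTs
  haveI := isIntegral_subscheme_vanishingIdeal ⟨Z, hZ⟩ hirr
  exact mem_of_simple_stalk_of_push (fun M N e h => h.of_iso e) Filt.extClosed Z hZ hirr y hy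
    (fun I ι hm hq => filt_pushforward _ I ι hm hq) hsmall T hT hTsupp hTs

end Filt

end Groth.Agent.Lib.Helper12.H12Dev
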