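import Mathlib
import Groth.Agent.Lib.Helper12.Dev11

/-! # From iterated extensions to chains of monomorphisms -/

set_option autoImplicit false
universe u v

open CategoryTheory CategoryTheory.Limits AlgebraicGeometry TopologicalSpace Opposite Function
open Groth.Agent.Lib.Helper29.QCoh
open Groth.Agent.Lib.Helper12.H12ModGlue

namespace Groth.Agent.Lib.Helper12.H12Dev

section Chain
variable {X : Scheme.{u}}

theorem IsGoodPiece.of_iso {Q Q' : X.Modules} (h : IsGoodPiece Q) (e : Q ≅ Q') : IsGoodPiece Q' := by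
  obtain ⟨Z, i, h1, h2, I, ι, h3, h4, h5, ⟨e'⟩⟩ := h
  exact ⟨Z, i, h1, h2, I, ι, h3, h4, h5, ⟨e.symm ≪≫ e'⟩⟩

/-- A finite chain of monomorphisms from `0` to `M` with good successive quotients. -/
def HasChain (M : X.Modules) : Prop :=
  ∃ (m : ℕ) (F : ℕ → X.Modules) (φ : (j : ℕ) → (F j ⟶ F (j + 1))),
    IsZero (F 0) ∧ Nonempty (F m ≅ M) ∧ (∀ j ≤ m, Coh.IsCoh (F j)) ∧ ∀ j < m, Mono (φ j) ∧
      IsGoodPiece (cokernel (φ j))

theorem isCoh_of_isZero [IsLocallyNoetherian X] (M : X.Modules) (h : IsZero M) : Coh.IsCoh M := by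
  have h1 := isCoh_unitM X
  have h2 : Coh.IsCoh (kernel (𝟙 (unitM X))) := isCoh_kernel _ h1 h1
  exact isCoh_of_iso ((isZero_kernel_of_mono (𝟙 (unitM X))).iso h) h2

section Append
variable (m : ℕ) (F : ℕ → X.Modules) (φ : (j : ℕ) → (F j ⟶ F (j + 1))) (M : X.Modules)
  (a : F m ⟶ M)

/-- The objects of the chain extended by one step. -/
def appObj (j : ℕ) : X.Modules := if j ≤ m then F j else M

theorem appObj_of_le {j : ℕ} (h : j ≤ m) : appObj m F M j = F j := if_pos h

theorem appObj_of_gt {j : ℕ} (h : m < j) : appObj m F M j = M := if_neg (not_le.mpr h)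

/-- The maps of the chain extended by one step. -/
noncomputable def appMap (j : ℕ) : appObj m F M j ⟶ appObj m F M (j + 1) :=
  if h : j < m then
    eqToHom (appObj_of_le m F M h.le) ≫ φ j ≫ eqToHom (appObj_of_le m F M h).symm
  else if h2 : j = m then
    eqToHom ((appObj_of_le m F M h2.le).trans (by rw [h2])) ≫ a ≫
      eqToHom (appObj_of_gt m F M (by omega)).symm
  else
    eqToHom ((appObj_of_gt m F M (by omega)).trans (appObj_of_gt m F M (by omega)).symm)

theorem appMap_of_lt {j : ℕ} (h : j < m) :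
    appMap m F φ M a j =
      eqToHom (appObj_of_le m F M h.le) ≫ φ j ≫ eqToHom (appObj_of_le m F M h).symm :=
  dif_pos h

theorem appMap_self :
    appMap m F φ M a m =
      eqToHom (appObj_of_le m F M le_rfl) ≫ a ≫
        eqToHom (appObj_of_gt m F M (Nat.lt_succ_self m)).symm := by
  rw [appMap, dif_neg (lt_irrefl m), dif_pos rfl]


theorem appMap_mono_of_lt {j : ℕ} (h : j < m) [Mono (φ j)] : Mono (appMap m F φ M a j) := by
  rw [appMap_of_lt m F φ M a h]
  infer_instance

theorem appMap_mono_self [Mono a] : Mono (appMap m F φ M a m) := by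
  rw [appMap_self m F φ M a]
  infer_instance

/-- The cokernel of the old maps is unchanged. -/
noncomputable def cokernelAppMapIsoOfLt {j : ℕ} (h : j < m) :
    cokernel (appMap m F φ M a j) ≅ cokernel (φ j) :=
  cokernel.mapIso (appMap m F φ M a j) (φ j) (eqToIso (appObj_of_le m F M h.le))
    (eqToIso (appObj_of_le m F M h)) (by
      rw [appMap_of_lt m F φ M a h]
      simp)

/-- The cokernel of the new map is the cokernel of `a`. -/
noncomputable def cokernelAppMapIsoSelf :
    cokernel (appMap m F φ M a m) ≅ cokernel a :=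
  cokernel.mapIso (appMap m F φ M a m) a (eqToIso (appObj_of_le m F M le_rfl))
    (eqToIso (appObj_of_gt m F M (Nat.lt_succ_self m))) (by
      rw [appMap_self m F φ M a]
      simp)

end Append


theorem HasChain.append [IsLocallyNoetherian X] {M' M Q : X.Modules} (f : M' ⟶ M) (g : M ⟶ Q)
    (w : f ≫ g = 0) (hS : (ShortComplex.mk f g w).ShortExact) (hM : Coh.IsCoh M)
    (h' : HasChain M') (hQ : IsGoodPiece Q) : HasChain M := by
  obtain ⟨m, F, φ, h0, ⟨e⟩, hcoh, hstep⟩ := h'
  haveI : Mono f := hS.mono_f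
  haveI : Epi g := hS.epi_g
  refine ⟨m + 1, appObj m F M, appMap m F φ M (e.hom ≫ f), ?_, ?_, ?_, ?_⟩
  · rw [appObj_of_le m F M (Nat.zero_le m)]
    exact h0
  · exact ⟨eqToIso (appObj_of_gt m F M (Nat.lt_succ_self m))⟩
  · intro j hj
    by_cases hjm : j ≤ m
    · rw [appObj_of_le m F M hjm]
      exact hcoh j hjm
    · rw [appObj_of_gt m F M (not_le.mp hjm)]
      exact hM
  · intro j hj
    by_cases hjm : j < m
    · obtain ⟨h1, h2⟩ := hstep j hjm
      haveI := h1
      exact ⟨appMap_mono_of_lt m F φ M _ hjm, h2.of_iso (cokernelAppMapIsoOfLt m F φ M _ hjm).symm⟩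
    · have hjm' : j = m := by omega
      subst hjm'
      refine ⟨appMap_mono_self j F φ M _, hQ.of_iso ?_⟩
      have e1 : cokernel (e.hom ≫ f) ≅ cokernel f := cokernelEpiComp e.hom f
      have e2 : cokernel f ≅ Q :=
        (colimit.isColimit _).coconePointUniqueUpToIso hS.gIsCokernel
      exact (cokernelAppMapIsoSelf j F φ M _ ≪≫ e1 ≪≫ e2).symm

theorem hasChain_of_filt [IsLocallyNoetherian X] {M : X.Modules} (h : Filt M) : HasChain M := by
  induction h with
  | zero M h =>
    exact ⟨0, fun _ => M, fun _ => 𝟙 M, h, ⟨Iso.refl M⟩,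
      fun _ _ => isCoh_of_isZero M h, fun j hj => absurd hj (Nat.not_lt_zero j)⟩
  | step M' M Q f g w hS hM' hM _ hQ ih => exact HasChain.append f g w hS hM ih hQ

theorem hasChain_of_isCoh [IsNoetherian X] (M : X.Modules) (hM : Coh.IsCoh M) : HasChain M :=
  hasChain_of_filt (filt_of_isCoh M hM)

end Chain

end Groth.Agent.Lib.Helper12.H12Dev
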