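import Mathlib

open scoped TensorProduct

namespace H12Diag

variable {k : Type*} [Field k] {A : Type*} [CommRing A] [Algebra k A] {n : ℕ}

/-- reindexing as an algebra hom. -/
noncomputable def reindexAlg (σ : Equiv.Perm (Fin n)) :
    (⨂[k] _ : Fin n, A) →ₐ[k] (⨂[k] _ : Fin n, A) :=
  PiTensorProduct.liftAlgHom
    ((PiTensorProduct.tprod k (s := fun _ : Fin n => A)).domDomCongr σ.symm)
    (by
      change PiTensorProduct.tprod k (fun i => (1 : Fin n → A) (σ.symm i)) = 1
      rfl)
    (by
      intro x y
      change PiTensorProduct.tprod k (fun i => (x * y) (σ.symm i)) =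
        PiTensorProduct.tprod k (fun i => x (σ.symm i)) * PiTensorProduct.tprod k (fun i => y (σ.symm i))
      rw [PiTensorProduct.tprod_mul_tprod]
      rfl)

theorem reindexAlg_apply (σ : Equiv.Perm (Fin n)) (x : ⨂[k] _ : Fin n, A) :
    reindexAlg σ x = PiTensorProduct.reindex k (fun _ : Fin n => A) σ x := by
  have : (reindexAlg (k := k) (A := A) σ).toLinearMap =
      (PiTensorProduct.reindex k (fun _ : Fin n => A) σ).toLinearMap := by
    apply PiTensorProduct.ext
    ext f
    simp only [LinearMap.compMultilinearMap_apply, AlgHom.toLinearMap_apply,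
      LinearEquiv.coe_coe, PiTensorProduct.reindex_tprod]
    simp [reindexAlg]
  exact LinearMap.congr_fun this x

theorem reindexAlg_single (σ : Equiv.Perm (Fin n)) (l : Fin n) (a : A) :
    reindexAlg (k := k) σ (PiTensorProduct.singleAlgHom (R := k) (A := fun _ : Fin n => A) l a) =
      PiTensorProduct.singleAlgHom (R := k) (A := fun _ : Fin n => A) (σ l) a := by
  rw [reindexAlg_apply]
  simp only [PiTensorProduct.singleAlgHom_apply]
  rw [PiTensorProduct.reindex_tprod]
  congr 1
  funext i
  simp only [MonoidHom.mulSingle_apply, Pi.mulSingle_apply]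
  by_cases h : i = σ l
  · subst h; simp
  · have : σ.symm i ≠ l := fun h2 => h (by rw [← h2]; simp)
    simp [h, this]

end H12Diag

namespace H12Diag

variable {k : Type*} [Field k] {A : Type*} [CommRing A] [Algebra k A] {n : ℕ}

section swap

variable (i j : Fin n)

/-- the generators of the ideal of the (i,j)-diagonal. -/
noncomputable def gen (a : A) : ⨂[k] _ : Fin n, A :=
  PiTensorProduct.singleAlgHom (R := k) (A := fun _ : Fin n => A) i a -
    PiTensorProduct.singleAlgHom (R := k) (A := fun _ : Fin n => A) j a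

/-- the ideal of the (i,j)-diagonal. -/
noncomputable def Iij : Ideal (⨂[k] _ : Fin n, A) := Ideal.span (Set.range (gen (k := k) i j))

theorem rho_gen (a : A) :
    reindexAlg (k := k) (Equiv.swap i j) (gen i j a) = - gen (k := k) i j a := by
  unfold gen
  rw [map_sub, reindexAlg_single, reindexAlg_single, Equiv.swap_apply_left, Equiv.swap_apply_right]
  ring

theorem rho_sub_mem (r : ⨂[k] _ : Fin n, A) :
    reindexAlg (k := k) (Equiv.swap i j) r - r ∈ Iij (k := k) (A := A) i j := by
  have h : (Ideal.Quotient.mkₐ k (Iij (k := k) (A := A) i j)).comp (reindexAlg (Equiv.swap i j)) =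
      Ideal.Quotient.mkₐ k (Iij (k := k) (A := A) i j) := by
    apply PiTensorProduct.algHom_ext
    intro l
    ext a
    simp only [AlgHom.coe_comp, Function.comp_apply, Ideal.Quotient.mkₐ_eq_mk]
    rw [reindexAlg_single, Ideal.Quotient.eq]
    by_cases hli : l = i
    · subst hli
      rw [Equiv.swap_apply_left]
      have : gen (k := k) l j a ∈ Iij (k := k) (A := A) l j := Ideal.subset_span ⟨a, rfl⟩
      have h2 := (Iij (k := k) (A := A) l j).neg_mem this
      unfold gen at h2
      rwa [neg_sub] at h2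
    · by_cases hlj : l = j
      · subst hlj
        rw [Equiv.swap_apply_right]
        exact Ideal.subset_span ⟨a, rfl⟩
      · rw [Equiv.swap_apply_of_ne_of_ne hli hlj, sub_self]
        exact zero_mem _
  have := AlgHom.congr_fun h r
  simp only [AlgHom.coe_comp, Function.comp_apply, Ideal.Quotient.mkₐ_eq_mk] at this
  exact Ideal.Quotient.eq.1 this

theorem rho_add_mem (w : ⨂[k] _ : Fin n, A) (hw : w ∈ Iij (k := k) (A := A) i j) :
    reindexAlg (k := k) (Equiv.swap i j) w + w ∈ (Iij (k := k) (A := A) i j) ^ 2 := by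
  unfold Iij at hw
  induction hw using Submodule.span_induction with
  | mem y hy =>
    obtain ⟨a, rfl⟩ := hy
    rw [rho_gen, neg_add_cancel]
    exact zero_mem _
  | zero => simp
  | add y z _ _ hy hz =>
    rw [map_add]
    have : reindexAlg (k := k) (Equiv.swap i j) y + reindexAlg (k := k) (Equiv.swap i j) z + (y + z) =
        (reindexAlg (k := k) (Equiv.swap i j) y + y) + (reindexAlg (k := k) (Equiv.swap i j) z + z) := by
      ring
    rw [this]
    exact add_mem hy hz
  | smul r y hy0 hy =>
    rw [smul_eq_mul, map_mul]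
    have : reindexAlg (k := k) (Equiv.swap i j) r * reindexAlg (k := k) (Equiv.swap i j) y + r * y =
        reindexAlg (k := k) (Equiv.swap i j) r * (reindexAlg (k := k) (Equiv.swap i j) y + y) -
        (reindexAlg (k := k) (Equiv.swap i j) r - r) * y := by ring
    rw [this]
    refine sub_mem (Ideal.mul_mem_left _ _ hy) ?_
    rw [pow_two]
    exact Ideal.mul_mem_mul (rho_sub_mem i j r) hy0

theorem rho_pow_mem (s : ℕ) (y : ⨂[k] _ : Fin n, A) (hy : y ∈ (Iij (k := k) (A := A) i j) ^ s) :
    reindexAlg (k := k) (Equiv.swap i j) y - (-1) ^ s * y ∈ (Iij (k := k) (A := A) i j) ^ (s + 1) := by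
  induction s generalizing y with
  | zero =>
    simpa using rho_sub_mem i j y
  | succ s ih =>
    rw [pow_succ] at hy
    refine Submodule.smul_induction_on (p := fun y => reindexAlg (k := k) (Equiv.swap i j) y -
        (-1) ^ (s + 1) * y ∈ (Iij (k := k) (A := A) i j) ^ (s + 1 + 1)) hy ?_ ?_
    · intro u hu w hw
      have h1 := ih u hu
      have h2 := rho_add_mem i j w hw
      rw [smul_eq_mul, map_mul]
      set ρ := reindexAlg (k := k) (A := A) (Equiv.swap i j)
      have e : ρ u * ρ w - (-1) ^ (s + 1) * (u * w) =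
          (ρ u - (-1) ^ s * u) * (ρ w + w) - (ρ u - (-1) ^ s * u) * w +
            (-1) ^ s * u * (ρ w + w) := by ring
      rw [e]
      have hI2 : ∀ {a b : ⨂[k] _ : Fin n, A}, a ∈ (Iij (k := k) (A := A) i j) ^ (s + 1) →
          b ∈ (Iij (k := k) (A := A) i j) → a * b ∈ (Iij (k := k) (A := A) i j) ^ (s + 1 + 1) := by
        intro a b ha hb
        rw [pow_succ (Iij (k := k) (A := A) i j) (s + 1)]
        exact Ideal.mul_mem_mul ha hb
      refine add_mem (sub_mem ?_ (hI2 h1 hw)) ?_
      · refine hI2 h1 ?_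
        exact Ideal.pow_le_self (by norm_num) h2
      · have : (-1) ^ s * u * (ρ w + w) ∈
            (Iij (k := k) (A := A) i j) ^ s * (Iij (k := k) (A := A) i j) ^ 2 :=
          Ideal.mul_mem_mul (Ideal.mul_mem_left _ _ hu) h2
        rwa [← pow_add] at this
    · intro y z hy hz
      rw [map_add]
      have e : reindexAlg (k := k) (Equiv.swap i j) y + reindexAlg (k := k) (Equiv.swap i j) z -
          (-1) ^ (s + 1) * (y + z) =
          (reindexAlg (k := k) (Equiv.swap i j) y - (-1) ^ (s + 1) * y) +
          (reindexAlg (k := k) (Equiv.swap i j) z - (-1) ^ (s + 1) * z) := by ring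
      rw [e]
      exact add_mem hy hz

theorem fixed_mem [CharZero k] (m : ℕ) (hm : 1 ≤ m) (x : ⨂[k] _ : Fin n, A)
    (hx : PiTensorProduct.reindex k (fun _ : Fin n => A) (Equiv.swap i j) x = x)
    (hmem : x ∈ (Iij (k := k) (A := A) i j) ^ (2 * m - 1)) :
    x ∈ (Iij (k := k) (A := A) i j) ^ (2 * m) := by
  have h := rho_pow_mem i j (2 * m - 1) x hmem
  rw [reindexAlg_apply, hx, show 2 * m - 1 + 1 = 2 * m by omega] at h
  have hodd : Odd (2 * m - 1) := ⟨m - 1, by omega⟩
  rw [hodd.neg_one_pow] at h
  have h2 : x - -1 * x = algebraMap k (⨂[k] _ : Fin n, A) 2 * x := by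
    rw [map_ofNat]; ring
  rw [h2] at h
  have h3 : x = algebraMap k (⨂[k] _ : Fin n, A) (2⁻¹) * (algebraMap k (⨂[k] _ : Fin n, A) 2 * x) := by
    rw [← mul_assoc, ← map_mul, inv_mul_cancel₀ (two_ne_zero), map_one, one_mul]
  rw [h3]
  exact Ideal.mul_mem_left _ _ h

end swap

end H12Diag
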