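import Mathlib
import Groth.Prelude.Def_GLin

set_option autoImplicit false
universe u

namespace H12DiagWt

open TensorProduct AddMonoidAlgebra

variable {k : Type u} [Field k] {M : Type u} [AddCommGroup M]

/-- coefficient functional -/
noncomputable def pi (a : M) : AddMonoidAlgebra k M →ₗ[k] k :=
  Finsupp.lapply a ∘ₗ (AddMonoidAlgebra.coeffLinearEquiv k).toLinearMap

theorem pi_apply (a : M) (x : AddMonoidAlgebra k M) : pi a x = x.coeff a := rfl

variable (V : Type u) [AddCommGroup V] [Module k V]

/-- component extraction `V ⊗ k[M] → V` -/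
noncomputable def cmp (a : M) : V ⊗[k] AddMonoidAlgebra k M →ₗ[k] V :=
  (TensorProduct.rid k V).toLinearMap ∘ₗ LinearMap.lTensor V (pi a)

variable {V}

theorem cmp_tmul (a : M) (v : V) (x : AddMonoidAlgebra k M) :
    cmp V a (v ⊗ₜ[k] x) = x.coeff a • v := by
  simp [cmp, pi_apply]

theorem sum_coeff_smul_single [Fintype M] (x : AddMonoidAlgebra k M) :
    x = ∑ a : M, x.coeff a • (single a (1 : k) : AddMonoidAlgebra k M) := by
  classical
  apply AddMonoidAlgebra.coeff_injective
  ext b
  rw [AddMonoidAlgebra.coeff_sum, Finsupp.finsetSum_apply]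
  simp only [AddMonoidAlgebra.coeff_smul, AddMonoidAlgebra.coeff_single, Finsupp.smul_apply,
    Finsupp.single_apply, smul_eq_mul, mul_ite, mul_one, mul_zero]
  rw [Finset.sum_ite_eq' Finset.univ b]
  simp

theorem expand [Fintype M] (t : V ⊗[k] AddMonoidAlgebra k M) :
    t = ∑ a : M, cmp V a t ⊗ₜ[k] (single a (1 : k) : AddMonoidAlgebra k M) := by
  induction t using TensorProduct.induction_on with
  | zero => simp
  | tmul v x =>
    simp only [cmp_tmul]
    conv_lhs => rw [sum_coeff_smul_single x, TensorProduct.tmul_sum]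
    refine Finset.sum_congr rfl fun a _ => ?_
    rw [TensorProduct.tmul_smul, TensorProduct.smul_tmul']
  | add s t hs ht =>
    conv_lhs => rw [hs, ht]
    rw [← Finset.sum_add_distrib]
    refine Finset.sum_congr rfl fun a _ => ?_
    rw [map_add, TensorProduct.add_tmul]

/-- the projection of `k[M]` onto the line spanned by `b` -/
noncomputable def proj (b : M) : AddMonoidAlgebra k M →ₗ[k] AddMonoidAlgebra k M :=
  (pi b).smulRight (single b (1 : k) : AddMonoidAlgebra k M)

theorem proj_apply (b : M) (x : AddMonoidAlgebra k M) :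
    proj b x = x.coeff b • (single b (1 : k) : AddMonoidAlgebra k M) := rfl

theorem cmp_comp_comul (b : M) :
    cmp (AddMonoidAlgebra k M) b ∘ₗ (CoalgebraStruct.comul (R := k) (A := AddMonoidAlgebra k M)) =
      proj b := by
  classical
  apply AddMonoidAlgebra.lhom_ext'
  intro a
  apply LinearMap.ext
  intro c
  rw [LinearMap.comp_apply, LinearMap.comp_apply, LinearMap.comp_apply,
    AddMonoidAlgebra.lsingle_apply, AddMonoidAlgebra.comul_single, proj_apply]
  simp only [CommSemiring.comul_apply, TensorProduct.map_tmul, AddMonoidAlgebra.lsingle_apply,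
    cmp_tmul, AddMonoidAlgebra.coeff_single, Finsupp.single_apply]
  split_ifs with h
  · subst h
    first | rfl | simp [AddMonoidAlgebra.smul_single]
  · first | rfl | simp

theorem lTensor_proj (b : M) (t : V ⊗[k] AddMonoidAlgebra k M) :
    LinearMap.lTensor V (proj b) t = cmp V b t ⊗ₜ[k] (single b (1 : k) : AddMonoidAlgebra k M) := by
  induction t using TensorProduct.induction_on with
  | zero => simp
  | tmul v x =>
    rw [LinearMap.lTensor_tmul, proj_apply, cmp_tmul, TensorProduct.tmul_smul,
      TensorProduct.smul_tmul']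
  | add s t hs ht => rw [map_add, hs, ht, map_add, TensorProduct.add_tmul]

theorem lTensor_cmp_assoc (b : M) (s : V ⊗[k] AddMonoidAlgebra k M) (x : AddMonoidAlgebra k M) :
    LinearMap.lTensor V (cmp (AddMonoidAlgebra k M) b)
      ((TensorProduct.assoc k V (AddMonoidAlgebra k M) (AddMonoidAlgebra k M)) (s ⊗ₜ[k] x)) =
      x.coeff b • s := by
  induction s using TensorProduct.induction_on with
  | zero => simp
  | tmul v y =>
    rw [TensorProduct.assoc_tmul, LinearMap.lTensor_tmul, cmp_tmul, TensorProduct.tmul_smul]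
  | add s t hs ht => rw [TensorProduct.add_tmul, map_add, map_add, hs, ht, smul_add]

variable [HopfRep.Comod k (AddMonoidAlgebra k M) V]

theorem lhs_eq (b : M) (t : V ⊗[k] AddMonoidAlgebra k M) :
    LinearMap.lTensor V (cmp (AddMonoidAlgebra k M) b)
      ((TensorProduct.assoc k V (AddMonoidAlgebra k M) (AddMonoidAlgebra k M))
        (LinearMap.rTensor (AddMonoidAlgebra k M)
          (HopfRep.Comod.coact (k := k) (A := AddMonoidAlgebra k M) (V := V)) t)) =
      HopfRep.Comod.coact (k := k) (A := AddMonoidAlgebra k M) (cmp V b t) := by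
  induction t using TensorProduct.induction_on with
  | zero => simp
  | tmul v x =>
    rw [LinearMap.rTensor_tmul, lTensor_cmp_assoc, cmp_tmul, map_smul]
  | add s t hs ht => rw [map_add, map_add, map_add, hs, ht, map_add, map_add]

/-- the components of the coaction are weight vectors -/
theorem coact_cmp (b : M) (v : V) :
    HopfRep.Comod.coact (k := k) (A := AddMonoidAlgebra k M)
        (cmp V b (HopfRep.Comod.coact (k := k) (A := AddMonoidAlgebra k M) v)) =
      cmp V b (HopfRep.Comod.coact (k := k) (A := AddMonoidAlgebra k M) v) ⊗ₜ[k]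
        (single b (1 : k) : AddMonoidAlgebra k M) := by
  have h := congrArg (fun φ => LinearMap.lTensor V (cmp (AddMonoidAlgebra k M) b) (φ v))
    (HopfRep.Comod.coassoc (k := k) (A := AddMonoidAlgebra k M) (V := V))
  simp only [LinearMap.comp_apply, LinearEquiv.coe_coe] at h
  rw [lhs_eq, ← LinearMap.comp_apply (LinearMap.lTensor V _) (LinearMap.lTensor V _),
    ← LinearMap.lTensor_comp, cmp_comp_comul, lTensor_proj] at h
  exact h

theorem sum_cmp [Fintype M] (v : V) :
    v = ∑ a : M, cmp V a (HopfRep.Comod.coact (k := k) (A := AddMonoidAlgebra k M) v) := by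
  have h := congrArg (fun φ => (TensorProduct.rid k V) (φ v))
    (HopfRep.Comod.counit_comp (k := k) (A := AddMonoidAlgebra k M) (V := V))
  simp only [LinearMap.comp_apply, LinearMap.flip_apply, TensorProduct.mk_apply,
    TensorProduct.rid_tmul, one_smul] at h
  conv_lhs => rw [← h]
  conv_lhs => rw [expand (HopfRep.Comod.coact (k := k) (A := AddMonoidAlgebra k M) v)]
  rw [map_sum, map_sum]
  refine Finset.sum_congr rfl fun a _ => ?_
  rw [LinearMap.lTensor_tmul, AddMonoidAlgebra.counit_single, TensorProduct.rid_tmul]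
  simp

end H12DiagWt
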