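import Mathlib
import Groth.Agent.Lib.Helper12.DiagWt

set_option autoImplicit false
universe u

namespace H12DiagWt

open TensorProduct AddMonoidAlgebra

theorem main {k : Type u} [Field k] {M : Type u} [AddCommGroup M] [Finite M]
    {R : Type u} [CommRing R] [Algebra k R] [HopfRep.Comod k (AddMonoidAlgebra k M) R]
    (J : Ideal R) :
    (∀ f : R, LinearMap.rTensor (AddMonoidAlgebra k M) (Ideal.Quotient.mkₐ k J).toLinearMap
        (HopfRep.Comod.coact (k := k) (A := AddMonoidAlgebra k M) f) =
        (Ideal.Quotient.mk J f) ⊗ₜ[k] (1 : AddMonoidAlgebra k M)) ↔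
      Ideal.span (⋃ (a : M) (_ : a ≠ 0),
        (HopfRep.eigenspace k (AddMonoidAlgebra k M) R (AddMonoidAlgebra.single a 1) : Set R)) ≤ J := by
  classical
  cases nonempty_fintype M
  constructor
  · intro h
    rw [Ideal.span_le]
    intro f hf
    simp only [Set.mem_iUnion, SetLike.mem_coe] at hf
    obtain ⟨a, ha, hfa⟩ := hf
    have hfa' : HopfRep.Comod.coact (k := k) (A := AddMonoidAlgebra k M) f =
        f ⊗ₜ[k] (single a (1 : k) : AddMonoidAlgebra k M) := hfa
    have h1 := h f
    rw [hfa', LinearMap.rTensor_tmul] at h1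
    have h2 := congrArg (cmp (R ⧸ J) a) h1
    rw [cmp_tmul, cmp_tmul, AddMonoidAlgebra.one_def, AddMonoidAlgebra.coeff_single,
      AddMonoidAlgebra.coeff_single, Finsupp.single_eq_same,
      Finsupp.single_eq_of_ne ha, one_smul, zero_smul] at h2
    exact Ideal.Quotient.eq_zero_iff_mem.mp h2
  · intro h f
    have hmem : ∀ a : M, a ≠ 0 →
        cmp R a (HopfRep.Comod.coact (k := k) (A := AddMonoidAlgebra k M) f) ∈ J := by
      intro a ha
      apply h
      apply Ideal.subset_span
      simp only [Set.mem_iUnion, SetLike.mem_coe]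
      exact ⟨a, ha, coact_cmp a f⟩
    have hmk : ∀ a : M, a ≠ 0 → (Ideal.Quotient.mkₐ k J).toLinearMap
        (cmp R a (HopfRep.Comod.coact (k := k) (A := AddMonoidAlgebra k M) f)) = 0 := by
      intro a ha
      exact Ideal.Quotient.eq_zero_iff_mem.mpr (hmem a ha)
    conv_lhs => rw [expand (HopfRep.Comod.coact (k := k) (A := AddMonoidAlgebra k M) f)]
    rw [map_sum]
    rw [Finset.sum_eq_single (0 : M)]
    · rw [LinearMap.rTensor_tmul, AddMonoidAlgebra.one_def]
      congr 1
      conv_rhs => rw [sum_cmp (k := k) (M := M) f]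
      rw [map_sum]
      rw [Finset.sum_eq_single (0 : M)]
      · rfl
      · intro a _ ha
        exact hmk a ha
      · intro h0
        exact absurd (Finset.mem_univ _) h0
    · intro a _ ha
      rw [LinearMap.rTensor_tmul, hmk a ha, zero_tmul]
    · intro h0
      exact absurd (Finset.mem_univ _) h0

end H12DiagWt
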