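import Mathlib
import Groth.Agent.Lib.Helper12.TraceLength
import Groth.Agent.Lib.Helper25.CompleteDVRNorm

set_option autoImplicit false
universe u
attribute [local instance] FractionRing.liftAlgebra FractionRing.isScalarTower_liftAlgebra

namespace H12DiffTame
open IsLocalRing Groth.Agent.Lib.Helper25

section
variable (A B : Type u) [CommRing A] [IsDomain A] [IsDiscreteValuationRing A]
    [CommRing B] [IsDomain B] [IsDiscreteValuationRing B] [Algebra A B] [Module.Finite A B]
    [Module.IsTorsionFree A B]

theorem map_eq_pow :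
    (maximalIdeal A).map (algebraMap A B) =
      maximalIdeal B ^ (maximalIdeal B).ramificationIdx A := by
  classical
  have huniq : ∀ Q : Ideal B, Q.IsMaximal → Q = maximalIdeal B :=
    fun Q hQ => IsLocalRing.eq_maximalIdeal hQ
  have hm0 : maximalIdeal A ≠ ⊥ := IsDiscreteValuationRing.not_a_field A
  have hMm : (maximalIdeal B).LiesOver (maximalIdeal A) := liesOver_maximalIdeal A B _
  have hmB : (maximalIdeal A).map (algebraMap A B) ≠ ⊥ := Ideal.map_ne_bot_of_ne_bot hm0
  obtain ⟨hrep, hpow⟩ := eq_pow_card_normalizedFactors B (maximalIdeal B) huniq _ hmB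
  have hke : (maximalIdeal B).ramificationIdx A =
      Multiset.card (UniqueFactorizationMonoid.normalizedFactors
      ((maximalIdeal A).map (algebraMap A B))) := by
    rw [Ideal.IsDedekindDomain.ramificationIdx_eq_normalizedFactors_count (maximalIdeal A)
      (maximalIdeal B) hmB]
    conv_lhs => rw [hrep]
    rw [Multiset.count_replicate_self]
  rw [hke]
  exact hpow

open nonZeroDivisors in
theorem different_le_map_of_forall_intTrace_mem
    [Algebra.IsSeparable (FractionRing A) (FractionRing B)]
    (h : ∀ x : B, Algebra.intTrace A B x ∈ maximalIdeal A) :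
    differentIdeal A B ≤ (maximalIdeal A).map (algebraMap A B) := by
  set p := maximalIdeal A with hpdef
  let K := FractionRing A
  let L := FractionRing B
  have hp : p ≠ ⊥ := IsDiscreteValuationRing.not_a_field A
  have hp' : p.map (algebraMap A B) ≠ ⊥ := Ideal.map_ne_bot_of_ne_bot hp
  have hP : (((p.map (algebraMap A B) : Ideal B) : FractionalIdeal B⁰ L))⁻¹ =
      ((⊤ : Ideal B) : FractionalIdeal B⁰ L) / (p.map (algebraMap A B) : Ideal B) := by
    rw [FractionalIdeal.coeIdeal_top, one_div]
  rw [differentialIdeal_le_iff (K := K) (L := L) hp', hP, Submodule.map_le_iff_le_comap]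
  intro x hx
  rw [Submodule.restrictScalars_mem, FractionalIdeal.mem_coe,
    FractionalIdeal.mem_div_iff_of_ne_zero (by simpa using hp')] at hx
  rw [Submodule.mem_comap, LinearMap.coe_restrictScalars, ← FractionalIdeal.coe_one,
    ← div_self (G₀ := FractionalIdeal A⁰ K) (a := p) (by simpa using hp),
    FractionalIdeal.mem_coe, FractionalIdeal.mem_div_iff_of_ne_zero (by simpa using hp)]
  simp only [FractionalIdeal.mem_coeIdeal, forall_exists_index, and_imp,
    forall_apply_eq_imp_iff₂] at hx
  intro y hy'
  obtain ⟨y, hy, rfl : algebraMap A K _ = _⟩ := (FractionalIdeal.mem_coeIdeal _).mp hy'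
  obtain ⟨z, hz, hz'⟩ := hx _ (Ideal.mem_map_of_mem _ hy)
  have : Algebra.trace K L (algebraMap B L z) ∈ (p : FractionalIdeal A⁰ K) := by
    rw [← Algebra.algebraMap_intTrace (A := A)]
    exact ⟨Algebra.intTrace A B z, h z, rfl⟩
  rwa [mul_comm, ← smul_eq_mul, ← map_smul, Algebra.smul_def, mul_comm,
    ← IsScalarTower.algebraMap_apply, IsScalarTower.algebraMap_apply A B L, ← hz']

theorem different_eq_iff [Algebra.IsSeparable (FractionRing A) (FractionRing B)] :
    differentIdeal A B = maximalIdeal B ^ ((maximalIdeal B).ramificationIdx A - 1) ↔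
      ∃ x : B, Algebra.intTrace A B x ∉ maximalIdeal A := by
  set P := maximalIdeal B with hPdef
  set e := P.ramificationIdx A with hedef
  have hmap : (maximalIdeal A).map (algebraMap A B) = P ^ e := map_eq_pow A B
  have he : 0 < e := Ideal.ramificationIdx_pos _ _
  have hp : maximalIdeal A ≠ ⊥ := IsDiscreteValuationRing.not_a_field A
  have hP0 : P ≠ ⊥ := IsDiscreteValuationRing.not_a_field B
  have hPtop : P ≠ ⊤ := Ideal.IsPrime.ne_top inferInstance
  have hdvd : P ^ (e - 1) ∣ differentIdeal A B :=
    pow_sub_one_dvd_differentIdeal A P e hp (by rw [hmap])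
  constructor
  · intro hD
    by_contra hall
    push Not at hall
    have hle := different_le_map_of_forall_intTrace_mem A B hall
    rw [hD, hmap] at hle
    have hlt : P ^ e < P ^ (e - 1) := Ideal.pow_right_strictAnti P hP0 hPtop (by omega)
    exact absurd hle (not_le_of_gt hlt)
  · rintro ⟨x, hx⟩
    have hnd : ¬ P ^ e ∣ differentIdeal A B :=
      not_dvd_differentIdeal_of_intTrace_not_mem A (P ^ e) ⊤ (by rw [Ideal.mul_top, hmap]) x
        trivial hx
    obtain ⟨J, hJ⟩ := hdvd
    by_cases hJtop : J = ⊤
    · rw [hJ, hJtop, Ideal.mul_top]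
    · exfalso
      apply hnd
      have hJP : J ≤ P := IsLocalRing.le_maximalIdeal hJtop
      obtain ⟨J', hJ'⟩ := Ideal.dvd_iff_le.2 hJP
      refine ⟨J', ?_⟩
      rw [hJ, hJ', ← mul_assoc, ← pow_succ, Nat.sub_add_cancel he]

end

section
attribute [local instance] Ideal.Quotient.field
variable (A B : Type u) [CommRing A] [IsDomain A] [IsDiscreteValuationRing A]
    [CommRing B] [IsDomain B] [IsDiscreteValuationRing B] [Algebra A B] [Module.Finite A B]
    [Module.IsTorsionFree A B] [IsLocalHom (algebraMap A B)]

theorem map_le_maximalIdeal : (maximalIdeal A).map (algebraMap A B) ≤ maximalIdeal B := by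
  rw [map_eq_pow A B]
  exact Ideal.pow_le_self (Ideal.ramificationIdx_pos _ _).ne'

instance isLocalRing_quot : IsLocalRing (B ⧸ (maximalIdeal A).map (algebraMap A B)) := by
  haveI : Nontrivial (B ⧸ (maximalIdeal A).map (algebraMap A B)) := by
    rw [Ideal.Quotient.nontrivial_iff]
    intro h
    have := map_le_maximalIdeal A B
    rw [h, top_le_iff] at this
    exact (Ideal.IsPrime.ne_top inferInstance) this
  exact IsLocalRing.of_surjective' (Ideal.Quotient.mk _) Ideal.Quotient.mk_surjective

theorem exists_iff_trace_ne :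
    (∃ x : B, Algebra.intTrace A B x ∉ maximalIdeal A) ↔
      Algebra.trace (A ⧸ maximalIdeal A) (B ⧸ (maximalIdeal A).map (algebraMap A B)) ≠ 0 := by
  constructor
  · rintro ⟨x, hx⟩ h0
    have := Algebra.trace_quotient_eq_of_isDedekindDomain (R := A) (S := B) (maximalIdeal A) x
    rw [h0, LinearMap.zero_apply] at this
    exact hx (Ideal.Quotient.eq_zero_iff_mem.1 this.symm)
  · intro h
    by_contra hall
    push Not at hall
    apply h
    ext y
    obtain ⟨x, rfl⟩ := Ideal.Quotient.mk_surjective y
    rw [Algebra.trace_quotient_eq_of_isDedekindDomain (R := A) (S := B) (maximalIdeal A) x,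
      LinearMap.zero_apply]
    exact Ideal.Quotient.eq_zero_iff_mem.2 (hall x)

theorem length_quot :
    (Module.length (B ⧸ (maximalIdeal A).map (algebraMap A B))
      (B ⧸ (maximalIdeal A).map (algebraMap A B))).toNat = (maximalIdeal B).ramificationIdx A := by
  rw [← Module.length_eq_of_surjective (S := B) Ideal.Quotient.mk_surjective,
    (Submodule.quotEquivOfEq _ _ (map_eq_pow A B)).length_eq,
    IsDiscreteValuationRing.length_quotient_pow_maximalIdeal]
  rfl

/-- the residue field of `B ⧸ m_A B` is that of `B` -/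
theorem isSeparable_iff :
    Algebra.IsSeparable (A ⧸ maximalIdeal A)
      (ResidueField (B ⧸ (maximalIdeal A).map (algebraMap A B))) ↔
    Algebra.IsSeparable (ResidueField A) (ResidueField B) := by
  letI : Algebra (A ⧸ maximalIdeal A) (ResidueField B) :=
    inferInstanceAs (Algebra (ResidueField A) (ResidueField B))
  let π : (B ⧸ (maximalIdeal A).map (algebraMap A B)) →ₐ[A ⧸ maximalIdeal A] ResidueField B :=
    { Ideal.Quotient.factor (map_le_maximalIdeal A B) with
      commutes' := by
        intro x
        obtain ⟨a, rfl⟩ := Ideal.Quotient.mk_surjective x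
        rfl }
  have hπsurj : Function.Surjective π := Ideal.Quotient.factor_surjective (map_le_maximalIdeal A B)
  have hker : ∀ a ∈ maximalIdeal (B ⧸ (maximalIdeal A).map (algebraMap A B)), π a = 0 := by
    intro a ha
    have hkmax : (RingHom.ker π.toRingHom).IsMaximal :=
      RingHom.ker_isMaximal_of_surjective _ hπsurj
    rw [← IsLocalRing.eq_maximalIdeal hkmax] at ha
    exact ha
  let ψ₀ : ResidueField (B ⧸ (maximalIdeal A).map (algebraMap A B)) →ₐ[A ⧸ maximalIdeal A]
      ResidueField B := Ideal.Quotient.liftₐ _ π hker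
  have hψsurj : Function.Surjective ψ₀ := by
    intro z
    obtain ⟨w, rfl⟩ := hπsurj z
    exact ⟨residue _ w, rfl⟩
  let ψ : ResidueField (B ⧸ (maximalIdeal A).map (algebraMap A B)) ≃ₐ[A ⧸ maximalIdeal A]
      ResidueField B := AlgEquiv.ofBijective ψ₀ ⟨RingHom.injective ψ₀.toRingHom, hψsurj⟩
  exact AlgEquiv.Algebra.isSeparable_iff ψ

theorem main [Algebra.IsSeparable (FractionRing A) (FractionRing B)] :
    differentIdeal A B = IsLocalRing.maximalIdeal B ^
        (Ideal.ramificationIdx (IsLocalRing.maximalIdeal B) A - 1) ↔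
      (Algebra.IsSeparable (IsLocalRing.ResidueField A) (IsLocalRing.ResidueField B) ∧
        ((Ideal.ramificationIdx (IsLocalRing.maximalIdeal B) A : ℕ) :
          IsLocalRing.ResidueField A) ≠ 0) := by
  rw [different_eq_iff A B, exists_iff_trace_ne A B,
    Groth.Agent.Lib.Helper12.TraceLength.trace_ne_zero_iff, length_quot A B, isSeparable_iff A B]
  exact Iff.rfl

end

end H12DiffTame
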