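import Groth.Agent.Lib.Helper12.CodimEmb

/-!
# Local existence of dimension functions on Noetherian sober catenary spaces
-/

universe u

namespace Groth.Agent.Lib.Helper12.Codim

open TopologicalSpace PtTop

section

variable {Y : Type u} [TopologicalSpace Y]

/-- the irreducible closed subset `closure {y}` -/
def pt (y : Y) : IrreducibleCloseds Y :=
  ⟨closure {y}, isIrreducible_singleton.closure, isClosed_closure⟩

lemma pt_le_iff {y : Y} {Z : IrreducibleCloseds Y} : pt y ≤ Z ↔ y ∈ Z := by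
  constructor
  · intro h
    exact h (subset_closure rfl)
  · intro h
    change closure {y} ⊆ (Z : Set Y)
    exact closure_minimal (Set.singleton_subset_iff.2 h) Z.isClosed

lemma pt_le_pt_iff {y z : Y} : pt z ≤ pt y ↔ y ⤳ z := by
  rw [pt_le_iff]
  exact specializes_iff_mem_closure.symm

lemma exists_bad [NoetherianSpace Y] (x : Y) (C : Set Y) (hC : IsClosed C) :
    ∃ B : Set Y, IsClosed B ∧ x ∉ B ∧ ∀ y ∈ C, y ∉ B →
      ∃ W : IrreducibleCloseds Y, (W : Set Y) ⊆ C ∧ x ∈ W ∧ y ∈ W := by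
  obtain ⟨S, hSf, hSc, hSi, rfl⟩ := NoetherianSpace.exists_finite_set_isClosed_irreducible hC
  refine ⟨⋃₀ {t ∈ S | x ∉ t}, ?_, ?_, ?_⟩
  · rw [Set.sUnion_eq_biUnion]
    exact Set.Finite.isClosed_biUnion (hSf.subset fun t ht => ht.1) fun t ht => hSc t ht.1
  · rintro ⟨t, ⟨_, hxt⟩, hxt'⟩
    exact hxt hxt'
  · rintro y ⟨t, htS, hyt⟩ hyB
    have hxt : x ∈ t := by
      by_contra hne
      exact hyB ⟨t, ⟨htS, hne⟩, hyt⟩
    exact ⟨⟨t, hSi t htS, hSc t htS⟩, Set.subset_sUnion_of_mem htS, hxt, hyt⟩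

end

section Main

variable {Y : Type u} [TopologicalSpace Y] [NoetherianSpace Y] [QuasiSober Y] [T0Space Y]

/-- the component containing `y` as an irreducible closed subset -/
def compIC (y : Y) : IrreducibleCloseds Y :=
  ⟨irreducibleComponent y, isIrreducible_irreducibleComponent, isClosed_irreducibleComponent⟩

lemma covBy_pt_of_isImmediate {y z : Y} (h : IsImmediateSpecialization y z) : pt z ⋖ pt y := by
  obtain ⟨h1, h2, h3⟩ := h
  have hle : pt z ≤ pt y := pt_le_pt_iff.2 h1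
  have hne : pt z ≠ pt y := by
    intro e
    apply h2
    have e' : closure {z} = closure {y} := congrArg (fun W : IrreducibleCloseds Y => (W : Set Y)) e
    exact ((isGenericPoint_closure (x := y)).eq (isGenericPoint_def.2 e'))
  refine ⟨lt_of_le_of_ne hle hne, ?_⟩
  intro W hzW hWy
  have hW : pt (gp W) = W := by
    apply IrreducibleCloseds.ext
    exact (isGenericPoint_gp W).def
  rw [← hW] at hzW hWy
  have a1 : y ⤳ gp W := pt_le_pt_iff.1 hWy.le
  have a2 : gp W ⤳ z := pt_le_pt_iff.1 hzW.le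
  rcases h3 (gp W) a1 a2 with e | e
  · rw [e] at hWy
    exact lt_irrefl _ hWy
  · rw [e] at hzW
    exact lt_irrefl _ hzW

theorem exists_local_dimFun (hcat : IsCatenarySpace Y) (x : Y) :
    ∃ V : Set Y, IsOpen V ∧ x ∈ V ∧ ∃ δ : Y → ℤ,
      (∀ y ∈ V, ∀ z ∈ V, y ⤳ z → y ≠ z → δ z < δ y) ∧
      (∀ y ∈ V, ∀ z ∈ V, IsImmediateSpecialization y z → δ y = δ z + 1) := by
  obtain ⟨hfinite, hadd⟩ := (isCat_iff (P := IrreducibleCloseds Y)).1 hcat
  have hfin : (irreducibleComponents Y).Finite := NoetherianSpace.finite_irreducibleComponents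
  haveI : Finite (irreducibleComponents Y) := hfin.to_subtype
  choose B hBc hxB hB using exists_bad (Y := Y) x
  let Bad1 : Set Y := ⋃₀ {C ∈ irreducibleComponents Y | x ∉ C}
  let Bad2 : Set Y := ⋃ (Z : irreducibleComponents Y) (Z' : irreducibleComponents Y),
    B (Z.1 ∩ Z'.1) ((isClosed_of_mem_irreducibleComponents _ Z.2).inter
      (isClosed_of_mem_irreducibleComponents _ Z'.2))
  have hBad1 : IsClosed Bad1 := by
    change IsClosed (⋃₀ {C ∈ irreducibleComponents Y | x ∉ C})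
    rw [Set.sUnion_eq_biUnion]
    exact Set.Finite.isClosed_biUnion (hfin.subset fun t ht => ht.1)
      fun t ht => isClosed_of_mem_irreducibleComponents t ht.1
  have hBad2 : IsClosed Bad2 :=
    isClosed_iUnion_of_finite fun Z => isClosed_iUnion_of_finite fun Z' => hBc _ _
  have hx1 : x ∉ Bad1 := by
    rintro ⟨t, ⟨_, hxt⟩, hxt'⟩
    exact hxt hxt'
  have hx2 : x ∉ Bad2 := by
    intro h
    obtain ⟨Z, h⟩ := Set.mem_iUnion.1 h
    obtain ⟨Z', h⟩ := Set.mem_iUnion.1 h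
    exact hxB _ _ h
  -- the integer valued function attached to a component
  let φ : IrreducibleCloseds Y → Y → ℤ := fun Z y => ((cd (pt x) Z).toNat : ℤ) - ((cd (pt y) Z).toNat : ℤ)
  -- key computation
  have hφ : ∀ (Z W : IrreducibleCloseds Y) (y : Y), W ≤ Z → x ∈ W → y ∈ W →
      φ Z y = ((cd (pt x) W).toNat : ℤ) - ((cd (pt y) W).toNat : ℤ) := by
    intro Z W y hWZ hxW hyW
    have e1 := hadd (pt x) W Z (pt_le_iff.2 hxW) hWZ
    have e2 := hadd (pt y) W Z (pt_le_iff.2 hyW) hWZ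
    have f1 := hfinite (pt x) W (pt_le_iff.2 hxW)
    have f2 := hfinite (pt y) W (pt_le_iff.2 hyW)
    have f3 := hfinite W Z hWZ
    change ((cd (pt x) Z).toNat : ℤ) - ((cd (pt y) Z).toNat : ℤ) = _
    rw [e1, e2, ENat.toNat_add f1 f3, ENat.toNat_add f2 f3]
    push_cast
    ring
  refine ⟨(Bad1 ∪ Bad2)ᶜ, (hBad1.union hBad2).isOpen_compl, fun h => h.elim hx1 hx2,
    fun y => φ (compIC y) y, ?_⟩
  -- facts about points of V
  have hF1 : ∀ y ∈ (Bad1 ∪ Bad2)ᶜ, ∀ Z ∈ irreducibleComponents Y, y ∈ Z → x ∈ Z := by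
    intro y hy Z hZ hyZ
    by_contra hne
    exact hy (Or.inl ⟨Z, ⟨hZ, hne⟩, hyZ⟩)
  have hF3 : ∀ y ∈ (Bad1 ∪ Bad2)ᶜ, ∀ Z Z' : IrreducibleCloseds Y,
      (Z : Set Y) ∈ irreducibleComponents Y → (Z' : Set Y) ∈ irreducibleComponents Y →
      y ∈ Z → y ∈ Z' → φ Z y = φ Z' y := by
    intro y hy Z Z' hZ hZ' hyZ hyZ'
    have hyB : y ∉ B ((Z : Set Y) ∩ (Z' : Set Y)) ((isClosed_of_mem_irreducibleComponents _ hZ).inter
        (isClosed_of_mem_irreducibleComponents _ hZ')) := by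
      intro h
      apply hy
      right
      exact Set.mem_iUnion_of_mem (⟨(Z : Set Y), hZ⟩ : irreducibleComponents Y)
        (Set.mem_iUnion_of_mem (⟨(Z' : Set Y), hZ'⟩ : irreducibleComponents Y) h)
    obtain ⟨W, hW, hxW, hyW⟩ := hB ((Z : Set Y) ∩ (Z' : Set Y)) _ y ⟨hyZ, hyZ'⟩ hyB
    rw [hφ Z W y (fun w hw => (hW hw).1) hxW hyW, hφ Z' W y (fun w hw => (hW hw).2) hxW hyW]
  have hcomp : ∀ y : Y, ((compIC y : IrreducibleCloseds Y) : Set Y) ∈ irreducibleComponents Y :=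
    fun y => irreducibleComponent_mem_irreducibleComponents y
  have hmem : ∀ y : Y, y ∈ compIC y := fun y => mem_irreducibleComponent
  -- difference formula
  have hdiff : ∀ y ∈ (Bad1 ∪ Bad2)ᶜ, ∀ z ∈ (Bad1 ∪ Bad2)ᶜ, y ⤳ z →
      φ (compIC y) y - φ (compIC z) z = ((cd (pt z) (pt y)).toNat : ℤ) := by
    intro y hy z hz hyz
    have hzZ : z ∈ compIC y := hyz.mem_closed (compIC y).isClosed (hmem y)
    rw [hF3 z hz (compIC z) (compIC y) (hcomp z) (hcomp y) (hmem z) hzZ]
    have e2 := hadd (pt z) (pt y) (compIC y) (pt_le_pt_iff.2 hyz) (pt_le_iff.2 (hmem y))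
    have f1 := hfinite (pt z) (pt y) (pt_le_pt_iff.2 hyz)
    have f2 := hfinite (pt y) (compIC y) (pt_le_iff.2 (hmem y))
    change ((cd (pt x) (compIC y)).toNat : ℤ) - ((cd (pt y) (compIC y)).toNat : ℤ) -
      (((cd (pt x) (compIC y)).toNat : ℤ) - ((cd (pt z) (compIC y)).toNat : ℤ)) = _
    rw [e2, ENat.toNat_add f1 f2]
    push_cast
    ring
  constructor
  · intro y hy z hz hyz hne
    have h1 := hdiff y hy z hz hyz
    have hlt : pt z < pt y := by
      refine lt_of_le_of_ne (pt_le_pt_iff.2 hyz) ?_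
      intro e
      apply hne
      have e' : closure {z} = closure {y} :=
        congrArg (fun W : IrreducibleCloseds Y => (W : Set Y)) e
      exact ((isGenericPoint_closure (x := y)).eq (isGenericPoint_def.2 e'))
    have h2 : (1 : ℕ∞) ≤ cd (pt z) (pt y) := by
      have := le_cd (a := pt z) (b := pt y) ((RelSeries.singleton _ (pt z)).snoc (pt y) (by
        rw [RelSeries.last_singleton]; exact hlt)) (by
          rw [RelSeries.head_snoc, RelSeries.head_singleton]) (by rw [RelSeries.last_snoc])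
      rw [RelSeries.snoc_length] at this
      simpa using this
    have f1 := hfinite (pt z) (pt y) (pt_le_pt_iff.2 hyz)
    have h3 : 1 ≤ (cd (pt z) (pt y)).toNat := by
      rw [← ENat.natCast_toNat f1] at h2
      exact_mod_cast h2
    have : (1 : ℤ) ≤ ((cd (pt z) (pt y)).toNat : ℤ) := by exact_mod_cast h3
    change φ (compIC z) z < φ (compIC y) y
    omega
  · intro y hy z hz himm
    have h1 := hdiff y hy z hz himm.1
    rw [cd_of_covBy (covBy_pt_of_isImmediate himm)] at h1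
    change φ (compIC y) y = φ (compIC z) z + 1
    have : ((1 : ℕ∞).toNat : ℤ) = 1 := by simp
    omega

end Main

section Global

variable {X : Type u} [TopologicalSpace X] [QuasiSober X] [T0Space X]

theorem isCatenarySpace_of_local_dimFun
    (h : ∀ x : X, ∃ U : Opens X, x ∈ U ∧ ∃ δ : U → ℤ, IsDimensionFunction δ) :
    IsCatenarySpace X := by
  apply isCatenarySpace_of_local
  intro x
  obtain ⟨U, hxU, δ, hδ⟩ := h x
  haveI : QuasiSober U := U.2.isOpenEmbedding_subtypeVal.quasiSober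
  exact ⟨U, hxU, (dimFun_main δ hδ).1⟩

theorem exists_dimFun_of_noetherian_nhd (hcat : IsCatenarySpace X) (Y₀ : Opens X)
    [NoetherianSpace Y₀] (x : X) (hx : x ∈ Y₀) :
    ∃ U : Opens X, x ∈ U ∧ ∃ δ : U → ℤ, IsDimensionFunction δ := by
  haveI : QuasiSober Y₀ := Y₀.2.isOpenEmbedding_subtypeVal.quasiSober
  have hcatY : IsCatenarySpace Y₀ :=
    isCatenarySpace_of_isLocallyClosed hcat (S := (Y₀ : Set X)) Y₀.2.isLocallyClosed
  obtain ⟨V, hV, hxV, δ, h1, h2⟩ := exists_local_dimFun hcatY ⟨x, hx⟩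
  let U : Opens X := ⟨Subtype.val '' V, Y₀.2.isOpenMap_subtype_val V hV⟩
  have hUY : ∀ u : U, u.1 ∈ Y₀ := by
    rintro ⟨_, ⟨v, _, rfl⟩⟩
    exact v.2
  have hUV : ∀ u : U, (⟨u.1, hUY u⟩ : Y₀) ∈ V := by
    rintro ⟨_, ⟨v, hv, rfl⟩⟩
    exact hv
  have hspec : ∀ u u' : U, u ⤳ u' → (⟨u.1, hUY u⟩ : Y₀) ⤳ (⟨u'.1, hUY u'⟩ : Y₀) := by
    intro u u' huu'
    rw [subtype_specializes_iff]
    exact (subtype_specializes_iff u u').1 huu'
  have hne : ∀ u u' : U, u ≠ u' → (⟨u.1, hUY u⟩ : Y₀) ≠ (⟨u'.1, hUY u'⟩ : Y₀) := by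
    intro u u' hne e
    apply hne
    apply Subtype.ext
    exact congrArg (fun y : Y₀ => (y : X)) e
  refine ⟨U, ⟨⟨x, hx⟩, hxV, rfl⟩, fun u => δ ⟨u.1, hUY u⟩, ?_, ?_⟩
  · intro u u' huu' hn
    exact h1 _ (hUV u) _ (hUV u') (hspec u u' huu') (hne u u' hn)
  · intro u u' himm
    apply h2 _ (hUV u) _ (hUV u')
    obtain ⟨i1, i2, i3⟩ := himm
    refine ⟨hspec u u' i1, hne u u' i2, ?_⟩
    intro w hw1 hw2
    have hwV : w ∈ V := hw2.mem_open hV (hUV u')
    have hwU : w.1 ∈ U := ⟨w, hwV, rfl⟩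
    have a1 := (subtype_specializes_iff _ _).1 hw1
    have a2 := (subtype_specializes_iff _ _).1 hw2
    have := i3 ⟨w.1, hwU⟩ (by
      rw [subtype_specializes_iff]
      exact a1) (by
      rw [subtype_specializes_iff]
      exact a2)
    rcases this with e | e
    · left
      apply Subtype.ext
      exact congrArg (fun y : U => (y : X)) e
    · right
      apply Subtype.ext
      exact congrArg (fun y : U => (y : X)) e

end Global

end Groth.Agent.Lib.Helper12.Codim
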