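import Mathlib
import Groth.Prelude.Def_Disp2

set_option autoImplicit false
universe u v

open TensorProduct

namespace H12DispQ

section abstract

variable {W S R : Type u} [CommRing W] [CommRing S] [CommRing R] [Algebra S R]
  [Module.FaithfullyFlat S R] (c : W →+* S) (hc : Function.Surjective c)
  (g : W →+* R) (hg : ∀ w, g w = algebraMap S R (c w))
  {N : Type v} [AddCommGroup N] [Module W N] (hN : ∀ w : W, c w = 0 → ∀ n : N, w • n = 0)

include hc hg hN in
theorem tmul_one_injective : Function.Injective (fun n : N => Dieu.BC.tmul g 1 n) := by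
  classical
  letI : SMul S N := ⟨fun s n => Function.surjInv hc s • n⟩
  have hsmul : ∀ (w : W) (x : N), c w • x = w • x := by
    intro w x
    change Function.surjInv hc (c w) • x = w • x
    have h1 : c (Function.surjInv hc (c w) - w) = 0 := by
      rw [map_sub, Function.surjInv_eq hc, sub_self]
    have h2 := hN _ h1 x
    rwa [sub_smul, sub_eq_zero] at h2
  letI : Module S N := Function.Surjective.moduleLeft c hc hsmul
  letI : Module W (R ⊗[S] N) := Module.compHom _ c
  have hWsmul : ∀ (w : W) (t : R ⊗[S] N), w • t = c w • t := fun _ _ => rfl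
  let β : Dieu.Res g →ₗ[W] N →ₗ[W] (R ⊗[S] N) :=
    LinearMap.mk₂ W (fun r n => (r.val : R) ⊗ₜ[S] n)
      (fun r r' n => by rw [Dieu.Res.val_add, TensorProduct.add_tmul])
      (fun w r n => by
        rw [Dieu.Res.val_smul, hWsmul, TensorProduct.smul_tmul', hg, Algebra.smul_def])
      (fun r n n' => by rw [TensorProduct.tmul_add])
      (fun w r n => by rw [hWsmul, ← hsmul, TensorProduct.tmul_smul])
  let Φ : Dieu.Res g ⊗[W] N →ₗ[W] (R ⊗[S] N) := TensorProduct.lift β
  have hΦ : ∀ n : N, Φ (Dieu.Res.mk g 1 ⊗ₜ[W] n) = TensorProduct.mk S R N 1 n := by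
    intro n
    change TensorProduct.lift β (Dieu.Res.mk g 1 ⊗ₜ[W] n) = _
    rw [TensorProduct.lift.tmul]
    rfl
  intro n n' h
  apply Module.FaithfullyFlat.tensorProduct_mk_injective (A := S) (B := R) N
  rw [← hΦ, ← hΦ]
  have h' : (Dieu.Res.mk g 1 ⊗ₜ[W] n : Dieu.Res g ⊗[W] N) = Dieu.Res.mk g 1 ⊗ₜ[W] n' := h
  rw [h']

end abstract

end H12DispQ

namespace H12DispQ

theorem main (p : ℕ) [Fact p.Prime]
    (S R : Type u) [CommRing S] [CommRing R] [Algebra S R] [Module.FaithfullyFlat S R]
    (P : Type v) [AddCommGroup P] [Module (WittVector p S) P] (D : W4c1extbt610.Display3n p S P)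
    (DR : W4c1extbt610.Display3n p R (Dieu.BC (WittVector.map (algebraMap S R) : WittVector p S →+* WittVector p R) P))
    (hDR : Dieu.IsDispBaseChange (algebraMap S R) D DR) (x : P) :
    x ∈ D.Q ↔ Dieu.BC.ι (WittVector.map (algebraMap S R) : WittVector p S →+* WittVector p R) P x ∈ DR.Q := by
  rw [hDR.Q_eq, LinearMap.mem_ker, Dieu.BC.ι_apply, Dieu.bcQuotMap_tmul, map_one]
  constructor
  · intro hx
    have : D.Q.mkQ x = 0 := (Submodule.Quotient.mk_eq_zero D.Q).2 hx
    rw [this, Dieu.BC.tmul_zero]
  · intro h
    have hc : Function.Surjective (WittVector.constantCoeff : WittVector p S →+* S) := by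
      intro s
      exact ⟨WittVector.teichmuller p s, by simp⟩
    have hN : ∀ w : WittVector p S, (WittVector.constantCoeff : WittVector p S →+* S) w = 0 →
        ∀ n : P ⧸ D.Q, w • n = 0 := by
      intro w hw n
      obtain ⟨y, rfl⟩ := D.Q.mkQ_surjective n
      have hw' : w = WittVector.verschiebung (w.shift 1) := by
        have := WittVector.eq_iterate_verschiebung (x := w) (n := 1) (by
          intro i hi
          have : i = 0 := by omega
          subst this
          exact hw)
        simpa using this
      have hmem : w • y ∈ D.Q := by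
        apply D.IV_smul_le
        refine Submodule.smul_mem_smul ?_ Submodule.mem_top
        rw [hw']
        exact W4c1extbt610.verschiebung_mem_IV p S _
      have h1 : w • D.Q.mkQ y = D.Q.mkQ (w • y) := (D.Q.mkQ.map_smul w y).symm
      rw [h1]
      exact (Submodule.Quotient.mk_eq_zero D.Q).2 hmem
    have hg : ∀ w : WittVector p S,
        ((WittVector.constantCoeff : WittVector p R →+* R).comp
          (WittVector.map (algebraMap S R) : WittVector p S →+* WittVector p R)) w =
        algebraMap S R ((WittVector.constantCoeff : WittVector p S →+* S) w) := by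
      intro w
      simp [WittVector.map_coeff]
    have hinj := tmul_one_injective (WittVector.constantCoeff : WittVector p S →+* S) hc
      ((WittVector.constantCoeff : WittVector p R →+* R).comp
          (WittVector.map (algebraMap S R) : WittVector p S →+* WittVector p R)) hg hN
    have h0 : D.Q.mkQ x = 0 := by
      apply hinj
      simp only
      rw [h, Dieu.BC.tmul_zero]
    exact (Submodule.Quotient.mk_eq_zero D.Q).1 h0

end H12DispQ
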