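import Mathlib
import Groth.Prelude.Def_EGA43
import Groth.Agent.S9501

set_option autoImplicit false
universe u

namespace Groth.Agent.Lib.Helper12.H12DvrFlat


/-- torsion submodule argument -/
theorem nzd_of_isRadical {B : Type*} [CommRing B] [IsNoetherianRing B] [IsLocalRing B] (ϖ : B)
    (hϖ : ϖ ∈ IsLocalRing.maximalIdeal B) (hrad : (Ideal.span {ϖ}).IsRadical)
    (H : ∀ q ∈ (Ideal.span {ϖ}).minimalPrimes, ∀ s : B, s ∉ q → ∀ n : ℕ, s * ϖ ^ n ≠ 0) :
    ∀ b : B, ϖ * b = 0 → b = 0 := by
  let T : Ideal B :=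
    { carrier := {t | ∃ k : ℕ, ϖ ^ k * t = 0}
      add_mem' := by
        rintro a b ⟨k1, h1⟩ ⟨k2, h2⟩
        refine ⟨k1 + k2, ?_⟩
        have e1 : ϖ ^ (k1 + k2) * a = ϖ ^ k2 * (ϖ ^ k1 * a) := by ring
        have e2 : ϖ ^ (k1 + k2) * b = ϖ ^ k1 * (ϖ ^ k2 * b) := by ring
        rw [mul_add, e1, e2, h1, h2, mul_zero, mul_zero, add_zero]
      zero_mem' := ⟨0, by simp⟩
      smul_mem' := by
        rintro c a ⟨k, hk⟩
        refine ⟨k, ?_⟩
        rw [smul_eq_mul, mul_left_comm, hk, mul_zero] }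
  have hT1 : T ≤ Ideal.span {ϖ} := by
    intro t ht
    obtain ⟨k, hk⟩ := ht
    rw [← hrad.radical, ← Ideal.sInf_minimalPrimes]
    rw [Ideal.mem_sInf]
    intro q hq
    by_contra htq
    exact H q hq t htq k (by rw [mul_comm]; exact hk)
  have hT2 : T ≤ (Ideal.span {ϖ}) • T := by
    intro t ht
    obtain ⟨a, rfl⟩ := Ideal.mem_span_singleton'.mp (hT1 ht)
    obtain ⟨k, hk⟩ := ht
    have ha : a ∈ T := ⟨k + 1, by rw [pow_succ, mul_assoc, mul_comm ϖ a]; exact hk⟩
    rw [mul_comm]
    exact Submodule.smul_mem_smul (Ideal.mem_span_singleton_self ϖ) ha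
  have hT : T = ⊥ := by
    refine Submodule.eq_bot_of_le_smul_of_le_jacobson_bot (Ideal.span {ϖ}) T
      (IsNoetherian.noetherian T) hT2 ?_
    rw [IsLocalRing.jacobson_eq_maximalIdeal ⊥ bot_ne_top]
    exact (Ideal.span_singleton_le_iff_mem _).mpr hϖ
  intro b hb
  have : b ∈ T := ⟨1, by rw [pow_one]; exact hb⟩
  rw [hT] at this
  exact this

theorem flat_of_nzd {A B : Type*} [CommRing A] [IsDomain A] [IsDiscreteValuationRing A]
    [CommRing B] [Algebra A B] (π : A) (hπ : Irreducible π)
    (h : ∀ b : B, algebraMap A B π * b = 0 → b = 0) : Module.Flat A B := by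
  haveI : Module.IsTorsionFree A B := by
    refine Module.IsTorsionFree.of_smul_eq_zero ?_
    intro r m hrm
    by_cases hr : r = 0
    · exact Or.inl hr
    right
    obtain ⟨n, u, rfl⟩ := IsDiscreteValuationRing.eq_unit_mul_pow_irreducible hr hπ
    have h1 : (π ^ n) • m = 0 := by
      have := congrArg (fun z => ((u⁻¹ : Aˣ) : A) • z) hrm
      simpa [smul_smul, ← mul_assoc] using this
    clear hrm hr
    induction n with
    | zero => simpa using h1
    | succ n ih =>
      apply ih
      apply h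
      rw [← Algebra.smul_def, smul_smul, ← pow_succ']
      exact h1
  infer_instance


open AlgebraicGeometry CategoryTheory

variable {A : Type u} [CommRing A] {X : Scheme.{u}} (f : X ⟶ Spec (CommRingCat.of A))

/-- the ring map `A → O_{X,x}` -/
noncomputable def ψ (x : X) : CommRingCat.of A ⟶ X.presheaf.stalk x :=
  ((Scheme.ΓSpecIso (CommRingCat.of A)).inv ≫
    (Spec (CommRingCat.of A)).presheaf.germ ⊤ (f x) trivial) ≫ f.stalkMap x

theorem ψ_eq (x : X) : ψ f x = (Scheme.ΓSpecIso (CommRingCat.of A)).inv ≫ f.app ⊤ ≫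
    X.presheaf.germ (f ⁻¹ᵁ ⊤) x trivial := by
  rw [ψ, Category.assoc, Scheme.Hom.germ_stalkMap]

theorem fromSpecStalk_comp (x : X) : X.fromSpecStalk x ≫ f = Spec.map (ψ f x) := by
  rw [ψ, Spec.map_comp, ← Spec.fromSpecStalk_eq, Scheme.SpecMap_stalkMap_fromSpecStalk]

theorem asIdeal_apply_fromSpecStalk (x : X) (q : Spec (X.presheaf.stalk x)) :
    (f (X.fromSpecStalk x q)).asIdeal = q.asIdeal.comap (ψ f x).hom := by
  rw [← Scheme.Hom.comp_apply, fromSpecStalk_comp, Spec.map_apply]
  rfl

theorem asIdeal_apply (x : X) :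
    (f x).asIdeal = (IsLocalRing.maximalIdeal (X.presheaf.stalk x)).comap (ψ f x).hom := by
  have := asIdeal_apply_fromSpecStalk f x (IsLocalRing.closedPoint _)
  rw [Scheme.fromSpecStalk_closedPoint] at this
  exact this

theorem ψ_specializes {x ξ : X} (h : ξ ⤳ x) :
    ψ f x ≫ X.presheaf.stalkSpecializes h = ψ f ξ := by
  apply Spec.map_injective
  rw [Spec.map_comp, ← fromSpecStalk_comp, ← fromSpecStalk_comp,
    Scheme.SpecMap_stalkSpecializes_fromSpecStalk_assoc]

variable [IsDomain A] [IsDiscreteValuationRing A]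

theorem eq_closedPoint_of_mem (p : PrimeSpectrum A) {π : A} (hπ : Irreducible π)
    (h : π ∈ p.asIdeal) : p = IsLocalRing.closedPoint A := by
  apply PrimeSpectrum.ext
  change p.asIdeal = IsLocalRing.maximalIdeal A
  refine ((IsLocalRing.maximalIdeal.isMaximal A).eq_of_le p.isPrime.ne_top ?_).symm
  rw [hπ.maximalIdeal_eq]
  exact (Ideal.span_singleton_le_iff_mem _).mpr h

theorem not_isNilpotent_of_isOpenAt (ξ : X) (hξ : f ξ = IsLocalRing.closedPoint A)
    (hopen : EGA43.IsOpenAt f.base ξ) {π : A} (hπ : Irreducible π) :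
    ¬ IsNilpotent ((ψ f ξ).hom π) := by
  rintro ⟨n, hn⟩
  -- the global section
  set σ : Γ(X, f ⁻¹ᵁ ⊤) := (f.app ⊤).hom ((Scheme.ΓSpecIso (CommRingCat.of A)).inv.hom π) with hσ
  have hψ : ∀ u : X, (ψ f u).hom π = X.presheaf.germ (f ⁻¹ᵁ ⊤) u trivial σ := by
    intro u
    rw [ψ_eq]
    rfl
  have h0 : X.presheaf.germ (f ⁻¹ᵁ ⊤) ξ trivial (σ ^ n) =
      X.presheaf.germ (f ⁻¹ᵁ ⊤) ξ trivial 0 := by
    rw [map_pow, ← hψ, hn, map_zero]
  obtain ⟨W, hξW, iU, iV, hW⟩ := TopCat.Presheaf.germ_eq X.presheaf (U := f ⁻¹ᵁ ⊤)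
    (V := f ⁻¹ᵁ ⊤) ξ trivial trivial _ _ h0
  have hsub : f.base '' (W : Set X) ⊆ {IsLocalRing.closedPoint A} := by
    rintro _ ⟨u, hu, rfl⟩
    refine eq_closedPoint_of_mem _ hπ ?_
    rw [asIdeal_apply f u, Ideal.mem_comap]
    apply IsLocalRing.mem_maximalIdeal _ |>.mpr
    rw [mem_nonunits_iff]
    intro hunit
    have hz : ((ψ f u).hom π) ^ n = 0 := by
      rw [hψ u, ← map_pow, ← X.presheaf.germ_res_apply iU u hu, hW, map_zero, map_zero]
    have := hunit.pow n
    rw [hz] at this
    exact not_isUnit_zero this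
  have hnhds := hopen (W : Set X) (W.2.mem_nhds hξW)
  rw [hξ, mem_nhds_iff] at hnhds
  obtain ⟨O, hO, hOopen, hcl⟩ := hnhds
  have htop : (⟨O, hOopen⟩ : TopologicalSpace.Opens (PrimeSpectrum A)) = ⊤ :=
    (IsLocalRing.closedPoint_mem_iff _).mp hcl
  have hbot : (⟨⊥, Ideal.isPrime_bot⟩ : PrimeSpectrum A) ∈ O := by
    have : (⟨⊥, Ideal.isPrime_bot⟩ : PrimeSpectrum A) ∈
        (⟨O, hOopen⟩ : TopologicalSpace.Opens (PrimeSpectrum A)) := by rw [htop]; trivial
    exact this
  have := Set.eq_of_mem_singleton (hsub (hO hbot))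
  have h2 := congrArg PrimeSpectrum.asIdeal this
  exact IsDiscreteValuationRing.not_a_field A h2.symm


theorem flat_stalkMap_of_flat (x : X)
    (hfl : letI := (ψ f x).hom.toAlgebra; Module.Flat A (X.presheaf.stalk x)) :
    (f.stalkMap x).hom.Flat := by
  letI algR : Algebra A ((Spec (CommRingCat.of A)).presheaf.stalk (f x)) :=
    StructureSheaf.stalkAlgebra A (f x)
  have hloc : IsLocalization.AtPrime ((Spec (CommRingCat.of A)).presheaf.stalk (f x))
      (f x).asIdeal := StructureSheaf.IsLocalization.to_stalk A (f x)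
  letI := (f.stalkMap x).hom.toAlgebra
  letI := (ψ f x).hom.toAlgebra
  haveI : IsScalarTower A ((Spec (CommRingCat.of A)).presheaf.stalk (f x))
      (X.presheaf.stalk x) := IsScalarTower.of_algebraMap_eq (fun a => rfl)
  exact (Module.flat_iff_of_isLocalization ((Spec (CommRingCat.of A)).presheaf.stalk (f x))
    (f x).asIdeal.primeCompl (X.presheaf.stalk x)).mpr hfl

theorem mem_closedPoint {π : A} (hπ : Irreducible π) :
    π ∈ (IsLocalRing.closedPoint A).asIdeal := by
  change π ∈ IsLocalRing.maximalIdeal A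
  rw [hπ.maximalIdeal_eq]
  exact Ideal.mem_span_singleton_self π

theorem apply_fiberι (s : Spec (CommRingCat.of A)) (t : f.fiber s) : f (f.fiberι s t) = s := by
  have : f.fiberι s t ∈ Set.range (f.fiberι s) := ⟨t, rfl⟩
  rw [f.range_fiberι] at this
  exact this

theorem mem_maximalIdeal_of_apply_eq {π : A} (hπ : Irreducible π) (x : X)
    (hfx : f x = IsLocalRing.closedPoint A) :
    (ψ f x).hom π ∈ IsLocalRing.maximalIdeal (X.presheaf.stalk x) := by
  have := asIdeal_apply f x
  rw [hfx] at this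
  have hmem := mem_closedPoint hπ
  rw [this] at hmem
  exact hmem

theorem isRadical_span {π : A} (hπ : Irreducible π)
    (s : Spec (CommRingCat.of A)) (hs : s = IsLocalRing.closedPoint A) (t : f.fiber s)
    (hred : _root_.IsReduced ((f.fiber s).presheaf.stalk t)) :
    (Ideal.span {(ψ f (f.fiberι s t)).hom π}).IsRadical := by
  set x := f.fiberι s t with hx
  have hfx : f x = s := apply_fiberι f s t
  obtain ⟨hsurj, hker⟩ := Groth.Agent.S9501.result f s t
  have hr : (RingHom.ker ((f.fiberι s).stalkMap t).hom).IsRadical :=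
    (RingHom.ker_isRadical_iff_reduced_of_surjective hsurj).mpr hred
  rw [hker] at hr
  convert hr using 1
  letI algR : Algebra A ((Spec (CommRingCat.of A)).presheaf.stalk (f x)) :=
    StructureSheaf.stalkAlgebra A (f x)
  have hloc : IsLocalization.AtPrime ((Spec (CommRingCat.of A)).presheaf.stalk (f x))
      (f x).asIdeal := StructureSheaf.IsLocalization.to_stalk A (f x)
  have h1 : (f x).asIdeal = Ideal.span {π} := by
    rw [hfx, hs]
    exact hπ.maximalIdeal_eq
  rw [← IsLocalization.AtPrime.map_eq_maximalIdeal (f x).asIdeal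
    ((Spec (CommRingCat.of A)).presheaf.stalk (f x)), h1, Ideal.map_map, Ideal.map_span,
    Set.image_singleton]
  rfl

theorem nzd' {π : A} (hπ : Irreducible π) [LocallyOfFiniteType f]
    (s : Spec (CommRingCat.of A)) (hs : s = IsLocalRing.closedPoint A) (t : f.fiber s)
    (h : ∀ z : f.fiber s, t ∈ closure {z} →
      (∀ z' : f.fiber s, z ∈ closure {z'} → z' = z) → EGA43.IsOpenAt f.base (f.fiberι s z))
    (hred : _root_.IsReduced ((f.fiber s).presheaf.stalk t)) :
    ∀ b, (ψ f (f.fiberι s t)).hom π * b = 0 → b = 0 := by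
  set x := f.fiberι s t with hx
  have hfx : f x = s := apply_fiberι f s t
  haveI : IsLocallyNoetherian X := LocallyOfFiniteType.isLocallyNoetherian f
  have hind := (f.fiberι s).isEmbedding.isInducing
  apply nzd_of_isRadical
  · exact mem_maximalIdeal_of_apply_eq f hπ x (hfx.trans hs)
  · exact isRadical_span f hπ s hs t hred
  · intro q hq s' hs' n hzero
    haveI hqp : q.IsPrime := hq.1.1
    let Q : Spec (X.presheaf.stalk x) := ⟨q, hqp⟩
    set ξ := X.fromSpecStalk x Q with hξ
    have hξx : ξ ⤳ x := by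
      have : ξ ∈ Set.range (X.fromSpecStalk x) := ⟨Q, rfl⟩
      rw [Scheme.range_fromSpecStalk] at this
      exact this
    have hϖq : (ψ f x).hom π ∈ q := hq.1.2 (Ideal.mem_span_singleton_self _)
    have hfξ : f ξ = s := by
      rw [hs]
      apply eq_closedPoint_of_mem _ hπ
      rw [asIdeal_apply_fromSpecStalk]
      exact hϖq
    obtain ⟨z, hz⟩ : ξ ∈ Set.range (f.fiberι s) := by
      rw [f.range_fiberι]
      exact hfξ
    have hopen := h z ?_ ?_
    · rw [hz] at hopen
      have hnil := not_isNilpotent_of_isOpenAt f ξ (hfξ.trans hs) hopen hπ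
      apply hnil
      refine ⟨n, ?_⟩
      set sp := X.presheaf.stalkSpecializes hξx with hspdef
      have hsp : (ψ f ξ).hom π = sp.hom ((ψ f x).hom π) := by
        rw [← ψ_specializes f hξx]
        rfl
      have hcomap : (IsLocalRing.maximalIdeal (X.presheaf.stalk ξ)).comap sp.hom = q := by
        have e1 : X.fromSpecStalk x (Spec.map sp (IsLocalRing.closedPoint _)) = ξ := by
          rw [← Scheme.Hom.comp_apply, Scheme.SpecMap_stalkSpecializes_fromSpecStalk,
            Scheme.fromSpecStalk_closedPoint]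
        have e2 : Spec.map sp (IsLocalRing.closedPoint _) = Q :=
          (X.fromSpecStalk x).isEmbedding.injective e1
        exact congrArg PrimeSpectrum.asIdeal e2
      have hunit : IsUnit (sp.hom s') := by
        by_contra hnu
        have hm : sp.hom s' ∈ IsLocalRing.maximalIdeal (X.presheaf.stalk ξ) :=
          (IsLocalRing.mem_maximalIdeal _).mpr hnu
        apply hs'
        rw [← hcomap]
        exact hm
      rw [hsp, ← map_pow]
      have := congrArg sp.hom hzero
      rw [map_mul, map_zero] at this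
      exact (hunit.mul_right_eq_zero).mp this
    · rw [← specializes_iff_mem_closure, ← hind.specializes_iff, hz]
      exact hξx
    · intro z' hz'
      rw [← specializes_iff_mem_closure] at hz'
      have h1 : f.fiberι s z' ⤳ ξ := by
        rw [← hz]
        exact hz'.map (f.fiberι s).continuous
      have h2 : f.fiberι s z' ⤳ x := h1.trans hξx
      obtain ⟨Q', hQ'⟩ : f.fiberι s z' ∈ Set.range (X.fromSpecStalk x) := by
        rw [Scheme.range_fromSpecStalk]
        exact h2
      have h3 : Q' ⤳ Q := by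
        rw [← (X.fromSpecStalk x).isEmbedding.isInducing.specializes_iff, hQ']
        exact h1
      have h4 : Q'.asIdeal ≤ q := (PrimeSpectrum.le_iff_specializes Q' Q).mpr h3
      have h5 : (ψ f x).hom π ∈ Q'.asIdeal := by
        have hfz' : f (f.fiberι s z') = s := apply_fiberι f s z'
        rw [← hQ'] at hfz'
        have := asIdeal_apply_fromSpecStalk f x Q'
        rw [hfz', hs] at this
        have hmem := mem_closedPoint hπ
        rw [this] at hmem
        exact hmem
      have h6 : q ≤ Q'.asIdeal :=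
        hq.2 ⟨Q'.isPrime, (Ideal.span_singleton_le_iff_mem _).mpr h5⟩ h4
      have h7 : Q' = Q := PrimeSpectrum.ext (le_antisymm h4 h6)
      apply (f.fiberι s).isEmbedding.injective
      rw [hz, ← hQ', h7]


theorem main' {π : A} (hπ : Irreducible π) [LocallyOfFiniteType f]
    (s : Spec (CommRingCat.of A)) (hs : s = IsLocalRing.closedPoint A) (t : f.fiber s)
    (h : ∀ z : f.fiber s, t ∈ closure {z} →
      (∀ z' : f.fiber s, z ∈ closure {z'} → z' = z) → EGA43.IsOpenAt f.base (f.fiberι s z))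
    (hred : _root_.IsReduced ((f.fiber s).presheaf.stalk t)) :
    (f.stalkMap (f.fiberι s t)).hom.Flat := by
  apply flat_stalkMap_of_flat
  letI := (ψ f (f.fiberι s t)).hom.toAlgebra
  apply flat_of_nzd π hπ
  exact nzd' f hπ s hs t h hred

theorem main [LocallyOfFiniteType f] (x : X)
    (hx : f.base x = IsLocalRing.closedPoint A)
    (h : ∀ z : ↥(f.fiber (f.base x)), f.asFiber x ∈ closure {z} →
      (∀ z' : ↥(f.fiber (f.base x)), z ∈ closure {z'} → z' = z) →
        EGA43.IsOpenAt f.base ((f.fiberι (f.base x)).base z))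
    (hred : _root_.IsReduced ((f.fiber (f.base x)).presheaf.stalk (f.asFiber x))) :
    (f.stalkMap x).hom.Flat := by
  obtain ⟨π, hπ⟩ := IsDiscreteValuationRing.exists_irreducible A
  have key := main' f hπ (f.base x) hx (f.asFiber x) h hred
  have e : f.fiberι (f.base x) (f.asFiber x) = x := f.fiberι_asFiber x
  have gen : ∀ (x' : X), x' = x → (f.stalkMap x').hom.Flat → (f.stalkMap x).hom.Flat := by
    intro x' hx' hfl
    subst hx'
    exact hfl
  exact gen _ e key

end Groth.Agent.Lib.Helper12.H12DvrFlat
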