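import Mathlib
import Groth.Prelude.Def_EGA43
import Groth.Agent.Lib.Helper12.DvrFlat

set_option autoImplicit false
universe u
open AlgebraicGeometry CategoryTheory

namespace Groth.Agent.Lib.Helper12.H12DvrConn

open Groth.Agent.Lib.Helper12.H12DvrFlat

theorem exists_specializes_of_mem_closure {C : Type*} [CommRing C] [IsNoetherianRing C]
    (U : Set (PrimeSpectrum C)) (hU : IsOpen U) (p : PrimeSpectrum C) (hp : p ∈ closure U) :
    ∃ q ∈ U, q ⤳ p := by
  classical
  have hfin : (minimalPrimes C).Finite := minimalPrimes.finite_of_isNoetherianRing C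
  have hch : ∀ m : Ideal C, ¬ m ≤ p.asIdeal → ∃ t, t ∈ m ∧ t ∉ p.asIdeal := by
    intro m hm
    exact Set.not_subset.mp hm
  choose! t ht1 ht2 using hch
  set F := hfin.toFinset.filter (fun m => ¬ m ≤ p.asIdeal) with hF
  set s := ∏ m ∈ F, t m with hs
  have hsp : s ∉ p.asIdeal := by
    intro hmem
    rw [hs, Ideal.IsPrime.prod_mem_iff] at hmem
    obtain ⟨m, hmF, hm⟩ := hmem
    rw [hF, Finset.mem_filter] at hmF
    exact ht2 m hmF.2 hm
  obtain ⟨q, hqs, hqU⟩ := mem_closure_iff.mp hp (PrimeSpectrum.basicOpen s)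
    (PrimeSpectrum.basicOpen s).isOpen hsp
  obtain ⟨m, hm, hmq⟩ := Ideal.exists_minimalPrimes_le (bot_le : ⊥ ≤ q.asIdeal)
  haveI hmp : m.IsPrime := hm.1.1
  by_cases hmle : m ≤ p.asIdeal
  · refine ⟨⟨m, hmp⟩, ?_, ?_⟩
    · have : (⟨m, hmp⟩ : PrimeSpectrum C) ⤳ q :=
        (PrimeSpectrum.le_iff_specializes _ _).mp hmq
      exact this.mem_open hU hqU
    · exact (PrimeSpectrum.le_iff_specializes _ _).mp hmle
  · exfalso
    apply hqs
    change s ∈ q.asIdeal
    rw [hs]
    have hmF : m ∈ F := by
      rw [hF, Finset.mem_filter]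
      exact ⟨hfin.mem_toFinset.mpr hm, hmle⟩
    exact Ideal.prod_mem _ hmF (hmq (ht1 m hmle))

theorem idem_away_of_radical {B : Type*} [CommRing B] (ϖ : B)
    (hnzd : ∀ b : B, ϖ * b = 0 → b = 0) (hrad : (Ideal.span {ϖ}).IsRadical)
    (L : Type*) [CommRing L] [Algebra B L] [IsLocalization.Away ϖ L]
    (e : L) (he : IsIdempotentElem e) : ∃ b : B, IsIdempotentElem b ∧ algebraMap B L b = e := by
  have hinj : Function.Injective (algebraMap B L) := by
    apply IsLocalization.injective L (M := Submonoid.powers ϖ)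
    rintro _ ⟨n, rfl⟩
    rw [mem_nonZeroDivisors_iff_right]
    intro b hb
    induction n with
    | zero => simpa using hb
    | succ n ih =>
      apply ih
      apply hnzd
      rw [← hb]
      ring
  have hunit : IsUnit (algebraMap B L ϖ) := IsLocalization.Away.algebraMap_isUnit ϖ
  have key : ∀ n : ℕ, ∀ b : B, e * algebraMap B L (ϖ ^ n) = algebraMap B L b →
      ∃ b' : B, algebraMap B L b' = e := by
    intro n
    induction n with
    | zero =>
      intro b hb
      exact ⟨b, by simpa using hb.symm⟩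
    | succ n ih =>
      intro b hb
      have h1 : algebraMap B L (b * b) = algebraMap B L (ϖ ^ (n + 1) * b) := by
        rw [map_mul, map_mul, ← hb]
        have : e * e = e := he
        calc e * algebraMap B L (ϖ ^ (n + 1)) * (e * algebraMap B L (ϖ ^ (n + 1)))
            = (e * e) * algebraMap B L (ϖ ^ (n + 1)) * algebraMap B L (ϖ ^ (n + 1)) := by ring
          _ = _ := by rw [this]; ring
      have h2 : b * b = ϖ ^ (n + 1) * b := hinj h1
      have h3 : b ^ 2 ∈ Ideal.span {ϖ} := by
        rw [pow_two, h2, pow_succ', mul_assoc]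
        exact Ideal.mul_mem_right _ _ (Ideal.mem_span_singleton_self ϖ)
      have h4 : b ∈ Ideal.span {ϖ} := hrad ⟨2, h3⟩
      obtain ⟨c, rfl⟩ := Ideal.mem_span_singleton'.mp h4
      apply ih c
      apply hunit.mul_right_cancel
      rw [mul_assoc, ← map_mul, ← pow_succ, hb, map_mul]
  obtain ⟨⟨b, ⟨_, ⟨n, rfl⟩⟩⟩, hb⟩ := IsLocalization.surj (Submonoid.powers ϖ) e
  obtain ⟨b', hb'⟩ := key n b hb
  refine ⟨b', ?_, hb'⟩
  apply hinj
  rw [map_mul, hb']
  exact he

theorem eq_empty_or_of_basicOpen {B : Type*} [CommRing B] [IsLocalRing B] (ϖ : B)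
    (hnzd : ∀ b : B, ϖ * b = 0 → b = 0) (hrad : (Ideal.span {ϖ}).IsRadical)
    (V1 V2 : Set (PrimeSpectrum B)) (h1 : IsOpen V1) (h2 : IsOpen V2)
    (hdisj : Disjoint V1 V2) (hun : V1 ∪ V2 = PrimeSpectrum.basicOpen ϖ) :
    V1 = ∅ ∨ V2 = ∅ := by
  set L := Localization.Away ϖ with hL
  set φ := PrimeSpectrum.comap (algebraMap B L) with hφ
  have hrange : Set.range φ = PrimeSpectrum.basicOpen ϖ :=
    PrimeSpectrum.localization_away_comap_range L ϖ
  have hcont : Continuous φ := (PrimeSpectrum.localization_away_isOpenEmbedding L ϖ).continuous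
  have hW1 : IsClopen (φ ⁻¹' V1) := by
    refine ⟨?_, h1.preimage hcont⟩
    have : φ ⁻¹' V1 = (φ ⁻¹' V2)ᶜ := by
      ext q
      simp only [Set.mem_preimage, Set.mem_compl_iff]
      constructor
      · intro hq hq2
        exact Set.disjoint_left.mp hdisj hq hq2
      · intro hq
        have : φ q ∈ V1 ∪ V2 := by
          rw [hun, ← hrange]
          exact ⟨q, rfl⟩
        rcases this with h | h
        · exact h
        · exact absurd h hq
    rw [this]
    exact (h2.preimage hcont).isClosed_compl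
  obtain ⟨e, he, hWe⟩ := PrimeSpectrum.isClopen_iff.mp hW1
  obtain ⟨b, hb, rfl⟩ := idem_away_of_radical ϖ hnzd hrad L e he
  have hb' : b * b = b := hb
  have hsub1 : V1 ⊆ Set.range φ := by
    rw [hrange, ← hun]
    exact Set.subset_union_left
  have hsub2 : V2 ⊆ Set.range φ := by
    rw [hrange, ← hun]
    exact Set.subset_union_right
  rcases IsLocalRing.isUnit_or_isUnit_one_sub_self b with hu | hu
  · -- b = 1
    right
    have hb1 : b = 1 := by
      have : b * (b - 1) = 0 := by rw [mul_sub, hb', mul_one, sub_self]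
      have := (hu.mul_right_eq_zero).mp this
      exact sub_eq_zero.mp this
    rw [hb1, map_one, PrimeSpectrum.basicOpen_one] at hWe
    rw [Set.eq_empty_iff_forall_notMem]
    intro p hp
    obtain ⟨q, rfl⟩ := hsub2 hp
    have : q ∈ φ ⁻¹' V1 := by rw [hWe]; trivial
    exact Set.disjoint_left.mp hdisj this hp
  · left
    have hb0 : b = 0 := by
      have : (1 - b) * b = 0 := by rw [sub_mul, hb', one_mul, sub_self]
      exact (hu.mul_right_eq_zero).mp this
    rw [hb0, map_zero, PrimeSpectrum.basicOpen_zero] at hWe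
    rw [Set.eq_empty_iff_forall_notMem]
    intro p hp
    obtain ⟨q, rfl⟩ := hsub1 hp
    have : q ∈ φ ⁻¹' V1 := hp
    rw [hWe] at this
    exact this

theorem exists_specializes_of_mem_closure_scheme {X : Scheme.{u}} [IsLocallyNoetherian X]
    (U : Set X) (hU : IsOpen U) (x : X) (hx : x ∈ closure U) : ∃ η ∈ U, η ⤳ x := by
  obtain ⟨_, ⟨W, hW : IsAffineOpen W, rfl⟩, hxW, -⟩ :=
    (X.isBasis_affineOpens).exists_subset_of_mem_open (Set.mem_univ x) isOpen_univ
  haveI : IsNoetherianRing Γ(X, W) := IsLocallyNoetherian.component_noetherian ⟨W, hW⟩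
  obtain ⟨p, rfl⟩ : x ∈ Set.range hW.fromSpec := by
    rw [hW.range_fromSpec]; exact hxW
  have hp : p ∈ closure (hW.fromSpec ⁻¹' U) :=
    hW.fromSpec.isOpenEmbedding.isOpenMap.preimage_closure_subset_closure_preimage hx
  obtain ⟨q, hqU, hqp⟩ := exists_specializes_of_mem_closure (hW.fromSpec ⁻¹' U)
    (hU.preimage hW.fromSpec.continuous) p hp
  exact ⟨hW.fromSpec q, hqU, hqp.map hW.fromSpec.continuous⟩

theorem isPreconnected_of_dense_open {X : Type*} [TopologicalSpace X] [PreconnectedSpace X]
    (G : Set X) (hG : IsOpen G) (hdense : Dense G)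
    (H : ∀ U1 U2 : Set X, IsOpen U1 → IsOpen U2 → Disjoint U1 U2 → U1 ∪ U2 = G →
      ∀ x, x ∉ G → x ∈ closure U1 → x ∈ closure U2 → False) :
    _root_.IsPreconnected G := by
  rw [isPreconnected_iff_subset_of_disjoint]
  intro u v hu hv hsub hempty
  set U1 := G ∩ u with hU1
  set U2 := G ∩ v with hU2
  have hU1o : IsOpen U1 := hG.inter hu
  have hU2o : IsOpen U2 := hG.inter hv
  have hdisj : Disjoint U1 U2 := by
    rw [Set.disjoint_left]
    intro x hx1 hx2
    have : x ∈ G ∩ (u ∩ v) := ⟨hx1.1, hx1.2, hx2.2⟩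
    rw [hempty] at this
    exact this
  have hun : U1 ∪ U2 = G := by
    rw [hU1, hU2, ← Set.inter_union_distrib_left]
    exact Set.inter_eq_left.mpr hsub
  have hcover : closure U1 ∪ closure U2 = Set.univ := by
    rw [← closure_union, hun]
    exact hdense.closure_eq
  have hinter : ∀ x, x ∈ closure U1 → x ∈ closure U2 → False := by
    intro x hx1 hx2
    by_cases hxG : x ∈ G
    · rw [← hun] at hxG
      rcases hxG with h | h
      · obtain ⟨y, hy1, hy2⟩ := mem_closure_iff.mp hx2 U1 hU1o h
        exact Set.disjoint_left.mp hdisj hy1 hy2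
      · obtain ⟨y, hy1, hy2⟩ := mem_closure_iff.mp hx1 U2 hU2o h
        exact Set.disjoint_left.mp hdisj hy2 hy1
    · exact H U1 U2 hU1o hU2o hdisj hun x hxG hx1 hx2
  have hclopen : IsClopen (closure U1) := by
    refine ⟨isClosed_closure, ?_⟩
    have : closure U1 = (closure U2)ᶜ := by
      ext x
      simp only [Set.mem_compl_iff]
      constructor
      · intro h1 h2
        exact hinter x h1 h2
      · intro h2
        have : x ∈ closure U1 ∪ closure U2 := by rw [hcover]; trivial
        rcases this with h | h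
        · exact h
        · exact absurd h h2
    rw [this]
    exact isClosed_closure.isOpen_compl
  rcases isClopen_iff.mp hclopen with h | h
  · right
    have h1 : U1 = ∅ := by
      rw [Set.eq_empty_iff_forall_notMem]
      intro x hx
      have : x ∈ closure U1 := subset_closure hx
      rw [h] at this
      exact this
    rw [← hun, h1, Set.empty_union]
    exact Set.inter_subset_right
  · left
    have h2 : U2 = ∅ := by
      rw [Set.eq_empty_iff_forall_notMem]
      intro x hx
      have hx1 : x ∈ closure U1 := by rw [h]; trivial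
      exact hinter x hx1 (subset_closure hx)
    rw [← hun, h2, Set.union_empty]
    exact Set.inter_subset_right

variable {A : Type u} [CommRing A] [IsDomain A] [IsDiscreteValuationRing A] {X : Scheme.{u}}
  (f : X ⟶ Spec (CommRingCat.of A))

theorem local_sep {π : A} (hπ : Irreducible π) [LocallyOfFiniteType f]
    (hopen : IsOpenMap f.base)
    (a : Spec (CommRingCat.of A)) (ha : a = IsLocalRing.closedPoint A) (t : f.fiber a)
    (hred : _root_.IsReduced ((f.fiber a).presheaf.stalk t))
    (b : Spec (CommRingCat.of A)) (hb0 : b.asIdeal = ⊥)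
    (hbz : ∀ z : Spec (CommRingCat.of A), π ∉ z.asIdeal → z = b)
    (U1 U2 : Set X) (h1 : IsOpen U1) (h2 : IsOpen U2) (hdisj : Disjoint U1 U2)
    (hun : U1 ∪ U2 = f.base ⁻¹' {b})
    (hx1 : f.fiberι a t ∈ closure U1) (hx2 : f.fiberι a t ∈ closure U2) : False := by
  set x := f.fiberι a t with hx
  haveI : IsLocallyNoetherian X := LocallyOfFiniteType.isLocallyNoetherian f
  obtain ⟨η1, hη1, hs1⟩ := exists_specializes_of_mem_closure_scheme U1 h1 x hx1
  obtain ⟨η2, hη2, hs2⟩ := exists_specializes_of_mem_closure_scheme U2 h2 x hx2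
  set φ := X.fromSpecStalk x with hφ
  obtain ⟨Q1, hQ1⟩ : η1 ∈ Set.range φ := by
    rw [Scheme.range_fromSpecStalk]; exact hs1
  obtain ⟨Q2, hQ2⟩ : η2 ∈ Set.range φ := by
    rw [Scheme.range_fromSpecStalk]; exact hs2
  set ϖ := (ψ f x).hom π with hϖ
  have hnzd := nzd' f hπ a ha t (fun z _ _ => fun U hU => hopen.image_mem_nhds hU) hred
  have hrad := isRadical_span f hπ a ha t hred
  have hV : (φ ⁻¹' U1 ∪ φ ⁻¹' U2 : Set (PrimeSpectrum (X.presheaf.stalk x))) =
      PrimeSpectrum.basicOpen ϖ := by
    rw [← Set.preimage_union, hun]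
    ext Q
    have hQ := asIdeal_apply_fromSpecStalk f x Q
    constructor
    · intro hmem hϖQ
      have hfb : f (φ Q) = b := hmem
      rw [hfb, hb0] at hQ
      have : π ∈ (⊥ : Ideal A) := by
        rw [hQ]
        exact hϖQ
      exact hπ.ne_zero this
    · intro hmem
      have : f (φ Q) = b := by
        apply hbz
        rw [hQ]
        exact hmem
      exact this
  rcases eq_empty_or_of_basicOpen ϖ hnzd hrad (φ ⁻¹' U1) (φ ⁻¹' U2)
    (h1.preimage φ.continuous) (h2.preimage φ.continuous) (hdisj.preimage φ) hV with h | h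
  · have : Q1 ∈ φ ⁻¹' U1 := by
      change φ Q1 ∈ U1
      rw [hQ1]; exact hη1
    exact (Set.eq_empty_iff_forall_notMem.mp h) Q1 this
  · have : Q2 ∈ φ ⁻¹' U2 := by
      change φ Q2 ∈ U2
      rw [hQ2]; exact hη2
    exact (Set.eq_empty_iff_forall_notMem.mp h) Q2 this

theorem main [LocallyOfFiniteType f] (hopen : IsOpenMap f.base) [PreconnectedSpace X]
    (a b : ↥(Spec (CommRingCat.of A))) (ha : IsClosed ({a} : Set ↥(Spec (CommRingCat.of A))))
    (hb : ∀ z : ↥(Spec (CommRingCat.of A)), b ⤳ z)
    (hred : AlgebraicGeometry.IsReduced (f.fiber a)) :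
    PreconnectedSpace ↥(f.fiber b) := by
  obtain ⟨π, hπ⟩ := IsDiscreteValuationRing.exists_irreducible A
  have ha' : a = IsLocalRing.closedPoint A := by
    have hmax : a.asIdeal.IsMaximal := (PrimeSpectrum.isClosed_singleton_iff_isMaximal a).mp ha
    apply PrimeSpectrum.ext
    exact IsLocalRing.eq_maximalIdeal hmax
  have hb0 : b.asIdeal = ⊥ := by
    have h1 := hb (⟨⊥, Ideal.isPrime_bot⟩ : PrimeSpectrum A)
    have h2 := (PrimeSpectrum.le_iff_specializes _ _).mpr h1
    exact le_bot_iff.mp h2
  have hbz : ∀ z : Spec (CommRingCat.of A), π ∉ z.asIdeal → z = b := by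
    intro z hz
    apply PrimeSpectrum.ext
    rw [hb0, eq_bot_iff]
    intro r hr
    by_contra hr0
    have hr0' : r ≠ 0 := fun h => hr0 (by rw [h]; exact Ideal.zero_mem _)
    obtain ⟨n, u, rfl⟩ := IsDiscreteValuationRing.eq_unit_mul_pow_irreducible hr0' hπ
    apply hz
    have h3 : π ^ n ∈ z.asIdeal := by
      have := z.asIdeal.mul_mem_left ((u⁻¹ : Aˣ) : A) hr
      rwa [← mul_assoc, Units.inv_mul, one_mul] at this
    exact z.isPrime.mem_of_pow_mem n h3
  have hab : ∀ z : Spec (CommRingCat.of A), z = a ∨ z = b := by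
    intro z
    by_cases hz : π ∈ z.asIdeal
    · left
      rw [ha']
      exact eq_closedPoint_of_mem z hπ hz
    · right
      exact hbz z hz
  have hπb : π ∉ b.asIdeal := by
    rw [hb0]
    exact hπ.ne_zero
  have hne : a ≠ b := by
    intro h
    apply hπb
    rw [← h, ha']
    exact mem_closedPoint hπ
  have hbopen : IsOpen ({b} : Set (Spec (CommRingCat.of A))) := by
    have : ({b} : Set (Spec (CommRingCat.of A))) = {a}ᶜ := by
      ext z
      simp only [Set.mem_singleton_iff, Set.mem_compl_iff]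
      constructor
      · rintro rfl
        exact hne.symm
      · intro hz
        exact (hab z).resolve_left hz
    rw [this]
    exact ha.isOpen_compl
  set G := f.base ⁻¹' {b} with hG
  have hGo : IsOpen G := hbopen.preimage f.continuous
  have hGd : Dense G := by
    rw [dense_iff_inter_open]
    rintro V hV ⟨v, hv⟩
    have : b ∈ f.base '' V := (hb (f v)).mem_open (hopen V hV) ⟨v, hv, rfl⟩
    obtain ⟨w, hw, hfw⟩ := this
    exact ⟨w, hw, hfw⟩
  have hpre : _root_.IsPreconnected G := by
    apply isPreconnected_of_dense_open G hGo hGd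
    intro U1 U2 h1 h2 hdisj hun x hxG hx1 hx2
    have hfx : f x = a := (hab (f x)).resolve_right hxG
    obtain ⟨t, rfl⟩ : x ∈ Set.range (f.fiberι a) := by
      rw [f.range_fiberι]; exact hfx
    exact local_sep f hπ hopen a ha' t inferInstance b hb0 hbz U1 U2 h1 h2 hdisj hun hx1 hx2
  haveI : PreconnectedSpace G := isPreconnected_iff_preconnectedSpace.mp hpre
  exact (f.fiberHomeo b).symm.surjective.denseRange.preconnectedSpace
    (f.fiberHomeo b).symm.continuous

end Groth.Agent.Lib.Helper12.H12DvrConn
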