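import Mathlib

/-! Lengths of kernel and cokernel of a nonzerodivisor on finite modules over a one-dimensional
Noetherian local ring. -/

set_option autoImplicit false
universe u v

namespace Groth.Agent.Lib.Helper12.OneDim

open Function
open scoped Pointwise

section length

variable {R : Type*} [Ring R]

theorem length_ker_add_range {X Y : Type*} [AddCommGroup X] [Module R X] [AddCommGroup Y]
    [Module R Y] (φ : X →ₗ[R] Y) :
    Module.length R X = Module.length R (LinearMap.ker φ) + Module.length R (LinearMap.range φ) :=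
  Module.length_eq_add_of_exact (LinearMap.ker φ).subtype φ.rangeRestrict
    (Submodule.injective_subtype _) φ.surjective_rangeRestrict
    (by
      rw [LinearMap.exact_iff, LinearMap.ker_rangeRestrict, Submodule.range_subtype])

theorem length_six {K₁ K₂ K₃ C₁ C₂ C₃ : Type*} [AddCommGroup K₁] [Module R K₁] [AddCommGroup K₂]
    [Module R K₂] [AddCommGroup K₃] [Module R K₃] [AddCommGroup C₁] [Module R C₁]
    [AddCommGroup C₂] [Module R C₂] [AddCommGroup C₃] [Module R C₃]
    (a : K₁ →ₗ[R] K₂) (b : K₂ →ₗ[R] K₃) (d : K₃ →ₗ[R] C₁) (e : C₁ →ₗ[R] C₂) (f : C₂ →ₗ[R] C₃)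
    (ha : Injective a) (hab : Exact a b) (hbd : Exact b d) (hde : Exact d e) (hef : Exact e f)
    (hf : Surjective f) :
    Module.length R K₁ + Module.length R K₃ + Module.length R C₂ =
      Module.length R K₂ + Module.length R C₁ + Module.length R C₃ := by
  have h1 := length_ker_add_range b
  have h2 := length_ker_add_range d
  have h3 := length_ker_add_range e
  have h4 := length_ker_add_range f
  rw [LinearMap.exact_iff.mp hab] at h1
  rw [LinearMap.exact_iff.mp hbd] at h2
  rw [LinearMap.exact_iff.mp hde] at h3
  rw [LinearMap.exact_iff.mp hef, LinearMap.range_eq_top.mpr hf, Module.length_top] at h4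
  have h5 : Module.length R (LinearMap.range a) = Module.length R K₁ :=
    (LinearEquiv.ofInjective a ha).length_eq.symm
  rw [h5] at h1
  rw [h1, h2, h3, h4]
  ring

end length

section snake

variable {A : Type u} [CommRing A] (t : A)
variable {M' M M'' : Type v} [AddCommGroup M'] [Module A M'] [AddCommGroup M] [Module A M]
  [AddCommGroup M''] [Module A M'']

/-- The map induced on `t`-torsion. -/
def kerMap (f : M →ₗ[A] M') :
    LinearMap.ker (t • (LinearMap.id : M →ₗ[A] M)) →ₗ[A]
      LinearMap.ker (t • (LinearMap.id : M' →ₗ[A] M')) :=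
  f.restrict (by
    intro x hx
    rw [LinearMap.mem_ker, LinearMap.smul_apply, LinearMap.id_apply] at hx ⊢
    rw [← map_smul, hx, map_zero])

@[simp] theorem kerMap_coe (f : M →ₗ[A] M') (x : LinearMap.ker (t • (LinearMap.id : M →ₗ[A] M))) :
    (kerMap t f x : M') = f x := rfl

theorem exact_smul_mkQ (N : Type v) [AddCommGroup N] [Module A N] :
    Exact (t • (LinearMap.id : N →ₗ[A] N)) (Submodule.mkQ (t • (⊤ : Submodule A N))) := by
  rw [LinearMap.exact_iff, Submodule.ker_mkQ]
  ext x
  rw [Submodule.mem_smul_pointwise_iff_exists, LinearMap.mem_range]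
  constructor
  · rintro ⟨y, -, rfl⟩
    exact ⟨y, rfl⟩
  · rintro ⟨y, rfl⟩
    exact ⟨y, trivial, rfl⟩

theorem length_snake (i : M' →ₗ[A] M) (p : M →ₗ[A] M'') (hi : Injective i) (hp : Surjective p)
    (hex : Exact i p) :
    Module.length A (LinearMap.ker (t • (LinearMap.id : M' →ₗ[A] M'))) +
        Module.length A (LinearMap.ker (t • (LinearMap.id : M'' →ₗ[A] M''))) +
        Module.length A (QuotSMulTop t M) =
      Module.length A (LinearMap.ker (t • (LinearMap.id : M →ₗ[A] M))) +
        Module.length A (QuotSMulTop t M') + Module.length A (QuotSMulTop t M'') := by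
  have h₁ : i.comp (t • (LinearMap.id : M' →ₗ[A] M')) = (t • (LinearMap.id : M →ₗ[A] M)).comp i := by
    ext x; simp
  have h₂ : p.comp (t • (LinearMap.id : M →ₗ[A] M)) = (t • (LinearMap.id : M'' →ₗ[A] M'')).comp p := by
    ext x; simp
  have hι₂ : Exact (LinearMap.ker (t • (LinearMap.id : M →ₗ[A] M))).subtype
      (t • (LinearMap.id : M →ₗ[A] M)) := LinearMap.exact_subtype_ker_map _
  have hι₃ : Exact (LinearMap.ker (t • (LinearMap.id : M'' →ₗ[A] M''))).subtype
      (t • (LinearMap.id : M'' →ₗ[A] M'')) := LinearMap.exact_subtype_ker_map _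
  refine length_six (kerMap t i) (kerMap t p)
    (SnakeLemma.δ' (t • (LinearMap.id : M' →ₗ[A] M')) (t • (LinearMap.id : M →ₗ[A] M))
      (t • (LinearMap.id : M'' →ₗ[A] M'')) i p hex i p hex h₁ h₂ _ hι₃ _ (exact_smul_mkQ t M') hp hi)
    (QuotSMulTop.map t i) (QuotSMulTop.map t p) ?_ ?_ ?_ ?_ ?_ ?_
  · intro x y hxy
    apply Subtype.ext
    apply hi
    have := congrArg Subtype.val hxy
    simpa using this
  · -- exactness at K₂
    intro x
    constructor
    · intro hx
      have hx' : p x = 0 := by
        have := congrArg Subtype.val hx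
        simpa using this
      obtain ⟨y, hy⟩ := (hex x).mp hx'
      have hty : t • y = 0 := by
        apply hi
        rw [map_smul, hy, map_zero]
        have := x.2
        rw [LinearMap.mem_ker, LinearMap.smul_apply, LinearMap.id_apply] at this
        exact this
      refine ⟨⟨y, ?_⟩, Subtype.ext hy⟩
      rw [LinearMap.mem_ker, LinearMap.smul_apply, LinearMap.id_apply]; exact hty
    · rintro ⟨y, rfl⟩
      apply Subtype.ext
      show p (i y) = 0
      exact hex.apply_apply_eq_zero _
  · exact SnakeLemma.exact_δ'_right _ _ _ _ _ hex _ _ hex h₁ h₂ _ hι₂ _ hι₃ _ (exact_smul_mkQ t M')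
      hp hi (kerMap t p) (by ext x; rfl) (Submodule.injective_subtype _)
  · exact SnakeLemma.exact_δ'_left _ _ _ _ _ hex _ _ hex h₁ h₂ _ hι₃ _ (exact_smul_mkQ t M')
      _ (exact_smul_mkQ t M) hp hi (QuotSMulTop.map t i) (by ext x; rfl)
      (Submodule.mkQ_surjective _)
  · exact QuotSMulTop.map_exact t hex hp
  · exact QuotSMulTop.map_surjective t hp

end snake

section onedim

variable {A : Type u} [CommRing A] [IsNoetherianRing A]

theorem isFiniteLength_of_smul_eq_zero (hdim : ringKrullDim A = 1) {a : A}
    (ha : a ∈ nonZeroDivisors A) (N : Type v) [AddCommGroup N] [Module A N] [Module.Finite A N]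
    (h : ∀ x : N, a • x = 0) : IsFiniteLength A N := by
  haveI : Ring.KrullDimLE 1 A := Ring.krullDimLE_iff.mpr (by rw [hdim]; rfl)
  have hart : IsArtinianRing (A ⧸ Ideal.span {a}) := by
    rw [isArtinianRing_iff_krullDimLE_zero, Ring.KrullDimLE, Order.krullDimLE_iff,
      ← ENat.WithBot.add_le_add_one_right_iff, Nat.cast_zero, zero_add]
    exact (ringKrullDim_quotient_succ_le_of_nonZeroDivisor ha).trans
      (Order.KrullDimLE.krullDim_le)
  have hM : Module.IsTorsionBySet A N (Ideal.span {a} : Set A) := by
    rw [← Ideal.submodule_span_eq, Module.isTorsionBySet_span_singleton_iff]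
    exact fun x => h x
  letI := hM.module
  haveI : IsScalarTower A (A ⧸ Ideal.span {a}) N := hM.isScalarTower
  haveI : Module.Finite (A ⧸ Ideal.span {a}) N := Module.Finite.of_restrictScalars_finite A _ _
  rw [isFiniteLength_iff_isNoetherian_isArtinian]
  exact ⟨inferInstance, isArtinian_of_surjective_algebraMap (S := A) (R := A ⧸ Ideal.span {a})
    Ideal.Quotient.mk_surjective⟩

variable (t : A)

theorem length_ker_lt_top (hdim : ringKrullDim A = 1) (ht : t ∈ nonZeroDivisors A)
    (N : Type v) [AddCommGroup N] [Module A N] [Module.Finite A N] :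
    Module.length A (LinearMap.ker (t • (LinearMap.id : N →ₗ[A] N))) < ⊤ := by
  rw [lt_top_iff_ne_top, Module.length_ne_top_iff]
  apply isFiniteLength_of_smul_eq_zero hdim ht
  rintro ⟨x, hx⟩
  apply Subtype.ext
  rw [LinearMap.mem_ker, LinearMap.smul_apply, LinearMap.id_apply] at hx
  exact hx

theorem length_quot_lt_top (hdim : ringKrullDim A = 1) (ht : t ∈ nonZeroDivisors A)
    (N : Type v) [AddCommGroup N] [Module A N] [Module.Finite A N] :
    Module.length A (QuotSMulTop t N) < ⊤ := by
  rw [lt_top_iff_ne_top, Module.length_ne_top_iff]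
  apply isFiniteLength_of_smul_eq_zero hdim ht
  intro x
  obtain ⟨y, rfl⟩ := Submodule.mkQ_surjective _ x
  rw [← map_smul, Submodule.mkQ_apply, Submodule.Quotient.mk_eq_zero]
  exact Submodule.smul_mem_pointwise_smul y t ⊤ trivial

end onedim

section chi

variable {A : Type u} [CommRing A] (t : A)

/-- For a module of finite length, kernel and cokernel of `t` have the same length. -/
theorem length_ker_eq_length_quot (F : Type v) [AddCommGroup F] [Module A F]
    (hF : Module.length A F < ⊤) :
    Module.length A (LinearMap.ker (t • (LinearMap.id : F →ₗ[A] F))) =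
      Module.length A (QuotSMulTop t F) := by
  have h1 := length_ker_add_range (t • (LinearMap.id : F →ₗ[A] F))
  have h2 : Module.length A F = Module.length A ↥(t • (⊤ : Submodule A F)) +
      Module.length A (QuotSMulTop t F) :=
    Module.length_eq_add_of_exact (t • (⊤ : Submodule A F)).subtype
      (t • (⊤ : Submodule A F)).mkQ (Submodule.injective_subtype _) (Submodule.mkQ_surjective _)
      (LinearMap.exact_subtype_mkQ _)
  have h3 : LinearMap.range (t • (LinearMap.id : F →ₗ[A] F)) = t • (⊤ : Submodule A F) :=
    ((LinearMap.exact_iff.mp (exact_smul_mkQ t F)).symm).trans (Submodule.ker_mkQ _)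
  rw [h3] at h1
  have hfin : Module.length A ↥(t • (⊤ : Submodule A F)) ≠ ⊤ :=
    ((Module.length_le_of_injective _ (Submodule.injective_subtype _)).trans_lt hF).ne
  rw [h1, add_comm] at h2
  exact WithTop.add_left_cancel hfin h2

theorem subsingleton_of_subsingleton_quot [IsLocalRing A] (htm : t ∈ IsLocalRing.maximalIdeal A)
    (N : Type v) [AddCommGroup N] [Module A N] [Module.Finite A N]
    (h : Subsingleton (QuotSMulTop t N)) : Subsingleton N := by
  by_contra hN
  rw [not_subsingleton_iff_nontrivial] at hN
  have hann : Module.annihilator A N ≠ ⊤ := by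
    intro h1
    have : (1 : A) ∈ Module.annihilator A N := by rw [h1]; trivial
    rw [Module.mem_annihilator] at this
    obtain ⟨x, hx⟩ := exists_ne (0 : N)
    exact hx (by rw [← one_smul A x]; exact this x)
  have := Submodule.top_ne_pointwise_smul_of_mem_jacobson_annihilator (M := N) (r := t)
    (by rw [IsLocalRing.jacobson_eq_maximalIdeal _ hann]; exact htm)
  apply this
  exact ((Submodule.Quotient.subsingleton_iff).mp h).symm

end chi

section main

variable {A : Type u} [CommRing A] [IsNoetherianRing A] [IsLocalRing A]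

theorem main_2855 (hdim : ringKrullDim A = 1) (t : A) (ht : t ∈ nonZeroDivisors A)
    (htm : t ∈ IsLocalRing.maximalIdeal A)
    (M : Type v) [AddCommGroup M] [Module A M] [Module.Finite A M] :
    Module.length A (LinearMap.ker (t • (LinearMap.id : M →ₗ[A] M))) ≤
        Module.length A (QuotSMulTop t M) ∧
      (Module.length A (LinearMap.ker (t • (LinearMap.id : M →ₗ[A] M))) =
        Module.length A (QuotSMulTop t M) ↔ Module.length A M < ⊤) := by
  obtain ⟨n, hn⟩ := (Module.End.eventually_disjoint_ker_pow_range_pow
    (t • (LinearMap.id : M →ₗ[A] M))).exists_forall_of_atTop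
  have hn1 := hn (n + 1) (Nat.le_succ n)
  set S : Submodule A M := LinearMap.range ((t • (LinearMap.id : M →ₗ[A] M)) ^ (n + 1)) with hS
  have hpow : ∀ (k : ℕ) (x : M), ((t • (LinearMap.id : M →ₗ[A] M)) ^ k) x = t ^ k • x := by
    intro k x
    induction k with
    | zero => simp
    | succ k ih => rw [pow_succ', Module.End.mul_apply, ih, LinearMap.smul_apply,
        LinearMap.id_apply, smul_smul, ← pow_succ']
  -- `t` is injective on `S`
  have hKS : Subsingleton (LinearMap.ker (t • (LinearMap.id : S →ₗ[A] S))) := by
    constructor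
    rintro ⟨⟨x, hxS⟩, hx⟩ ⟨⟨y, hyS⟩, hy⟩
    rw [LinearMap.mem_ker, LinearMap.smul_apply, LinearMap.id_apply] at hx hy
    have hx' : t • x = 0 := congrArg Subtype.val hx
    have hy' : t • y = 0 := congrArg Subtype.val hy
    have h0 : ∀ z ∈ S, t • z = 0 → z = 0 := by
      intro z hzS hz
      have hzk : z ∈ LinearMap.ker ((t • (LinearMap.id : M →ₗ[A] M)) ^ (n + 1)) := by
        rw [LinearMap.mem_ker, hpow, pow_succ, mul_smul, hz, smul_zero]
      exact (Submodule.disjoint_def.mp hn1) z hzk hzS
    apply Subtype.ext
    apply Subtype.ext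
    show x = y
    rw [h0 x hxS hx', h0 y hyS hy']
  -- the quotient has finite length
  have hFfin : Module.length A (M ⧸ S) < ⊤ := by
    rw [lt_top_iff_ne_top, Module.length_ne_top_iff]
    apply isFiniteLength_of_smul_eq_zero hdim (pow_mem ht (n + 1))
    intro x
    obtain ⟨y, rfl⟩ := Submodule.mkQ_surjective _ x
    rw [← map_smul, Submodule.mkQ_apply, Submodule.Quotient.mk_eq_zero]
    exact ⟨y, hpow _ _⟩
  have hsn := length_snake t S.subtype S.mkQ (Submodule.injective_subtype _)
    (Submodule.mkQ_surjective _) (LinearMap.exact_subtype_mkQ _)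
  rw [Module.length_eq_zero_iff.mpr hKS, zero_add, length_ker_eq_length_quot t _ hFfin,
    add_comm, add_right_comm] at hsn
  have hQF := length_quot_lt_top t hdim ht (M ⧸ S)
  have hkey : Module.length A (QuotSMulTop t M) =
      Module.length A (LinearMap.ker (t • (LinearMap.id : M →ₗ[A] M))) +
        Module.length A (QuotSMulTop t S) := by
    have hsn' : Module.length A (QuotSMulTop t (M ⧸ S)) + Module.length A (QuotSMulTop t M) =
        Module.length A (QuotSMulTop t (M ⧸ S)) +
          (Module.length A (LinearMap.ker (t • (LinearMap.id : M →ₗ[A] M))) +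
            Module.length A (QuotSMulTop t S)) := by
      rw [add_comm, hsn]; ring
    exact WithTop.add_left_cancel hQF.ne hsn'
  refine ⟨by rw [hkey]; exact le_self_add, ?_⟩
  constructor
  · intro heq
    have hK := length_ker_lt_top t hdim ht M
    rw [hkey] at heq
    have h0 : Module.length A (QuotSMulTop t S) = 0 := by
      have : Module.length A (LinearMap.ker (t • (LinearMap.id : M →ₗ[A] M))) + 0 =
          Module.length A (LinearMap.ker (t • (LinearMap.id : M →ₗ[A] M))) +
            Module.length A (QuotSMulTop t S) := by rw [add_zero]; exact heq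
      exact (WithTop.add_left_cancel hK.ne this).symm
    rw [Module.length_eq_zero_iff] at h0
    have hSs := subsingleton_of_subsingleton_quot t htm S h0
    rw [lt_top_iff_ne_top, Module.length_ne_top_iff]
    apply isFiniteLength_of_smul_eq_zero hdim (pow_mem ht (n + 1))
    intro x
    have hx : t ^ (n + 1) • x ∈ S := ⟨x, hpow _ _⟩
    have := congrArg Subtype.val (Subsingleton.elim (⟨_, hx⟩ : S) 0)
    exact this
  · intro hfin
    exact length_ker_eq_length_quot t M hfin

end main

end Groth.Agent.Lib.Helper12.OneDim
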