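import Mathlib
import Groth.Agent.Lib.Helper12.OneDim2

/-! Dimension formula for finitely generated modules over a DVR. -/

set_option autoImplicit false
universe u

namespace Groth.Agent.Lib.Helper12.DvrDim

open scoped TensorProduct Pointwise
open IsLocalRing

variable {R : Type u} [CommRing R] [IsDomain R] [IsDiscreteValuationRing R]

/-- `dim_k (k ⊗ N) = len_R (N / ϖ N)`. -/
theorem finrank_residue_tensor (ϖ : R) (hϖ : Irreducible ϖ) (N : Type u) [AddCommGroup N]
    [Module R N] [Module.Finite R N] :
    (Module.finrank (ResidueField R) (ResidueField R ⊗[R] N) : ℕ∞) =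
      Module.length R (QuotSMulTop ϖ N) := by
  rw [← Module.length_eq_finrank, ← Module.length_eq_of_surjective (S := R)
    (R := ResidueField R) (M := ResidueField R ⊗[R] N) Ideal.Quotient.mk_surjective]
  have hm : maximalIdeal R = Ideal.span {ϖ} := (Irreducible.maximalIdeal_eq hϖ)
  have e1 : (ResidueField R ⊗[R] N) ≃ₗ[R] N ⧸ (maximalIdeal R • (⊤ : Submodule R N)) :=
    TensorProduct.quotTensorEquivQuotSMul N (maximalIdeal R)
  have e2 : (N ⧸ (maximalIdeal R • (⊤ : Submodule R N))) ≃ₗ[R] QuotSMulTop ϖ N :=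
    Submodule.quotEquivOfEq _ _ (by rw [hm, Submodule.ideal_span_singleton_smul])
  exact (e1.trans e2).length_eq

theorem main_11550 (ϖ : R) (hϖ : Irreducible ϖ) (M : Type u) [AddCommGroup M]
    [Module R M] [Module.Finite R M] :
    Module.finrank (ResidueField R) (ResidueField R ⊗[R] M) =
      Module.finrank (ResidueField R)
          (ResidueField R ⊗[R] ↥(Submodule.torsionBy R M ϖ)) +
        Module.finrank (FractionRing R) (FractionRing R ⊗[R] M) := by
  have hdim : ringKrullDim R = 1 := IsDiscreteValuationRing.ringKrullDim_eq_one R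
  have hϖ0 : ϖ ≠ 0 := hϖ.ne_zero
  have ht : ϖ ∈ nonZeroDivisors R := mem_nonZeroDivisors_of_ne_zero hϖ0
  have hm : maximalIdeal R = Ideal.span {ϖ} := (Irreducible.maximalIdeal_eq hϖ)
  -- freeness of the localisation
  have hfree : Nonempty (LocalizedModule (nonZeroDivisors R) M ≃ₗ[Localization (nonZeroDivisors R)]
      (Fin (Module.finrank (FractionRing R) (FractionRing R ⊗[R] M)) →
        Localization (nonZeroDivisors R))) :=
    ⟨(LocalizedModule.equivTensorProduct (nonZeroDivisors R) M).trans
      (Module.finBasis (FractionRing R) (FractionRing R ⊗[R] M)).equivFun⟩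
  have h := OneDim.main_2856 hdim ϖ ht M _ hfree
  -- the residue field has length one
  have h1 : Module.length R (R ⧸ Ideal.span {ϖ}) = 1 := by
    rw [Module.length_eq_one_iff, isSimpleModule_iff_isCoatom, ← Ideal.isMaximal_def, ← hm]
    infer_instance
  rw [h1, mul_one] at h
  -- the ϖ-torsion is killed by ϖ
  have hK : LinearMap.ker (ϖ • (LinearMap.id : M →ₗ[R] M)) = Submodule.torsionBy R M ϖ := by
    ext x
    rw [LinearMap.mem_ker, Submodule.mem_torsionBy_iff]
    rfl
  have h2 : Module.length R (QuotSMulTop ϖ ↥(Submodule.torsionBy R M ϖ)) =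
      Module.length R ↥(Submodule.torsionBy R M ϖ) := by
    have : (ϖ • (⊤ : Submodule R ↥(Submodule.torsionBy R M ϖ))) = ⊥ := by
      rw [eq_bot_iff]
      intro x hx
      obtain ⟨y, -, rfl⟩ := (Submodule.mem_smul_pointwise_iff_exists _ _ _).mp hx
      rw [Submodule.mem_bot]
      exact Subtype.ext (y.2)
    exact ((Submodule.quotEquivOfEq _ _ this).trans (Submodule.quotEquivOfEqBot ⊥ rfl)).length_eq
  have e1 := finrank_residue_tensor ϖ hϖ M
  have e2 := finrank_residue_tensor ϖ hϖ ↥(Submodule.torsionBy R M ϖ)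
  rw [h2, ← hK] at e2
  rw [h, ← e2] at e1
  exact_mod_cast e1

end Groth.Agent.Lib.Helper12.DvrDim
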