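import Mathlib
import Groth.Prelude.Def_DeRham
import Groth.Agent.Lib.Helper12.EBC2
import Groth.Agent.Lib.Helper5.DeRhamGen

namespace Groth.Agent.Lib.Helper12.EBC

open ExteriorAlgebra CliffordAlgebra TensorProduct
open Groth.Agent.Lib.Helper12.DeRham (ι_mul_eq involute_of_mem mul_mem_exteriorPower ι_mem algebraMap_mem)
open exteriorPower

universe u

theorem tauEquiv_apply (A B M : Type u) [CommRing A] [CommRing B] [Algebra A B] [AddCommGroup M]
    [Module A M] (p : ℕ) (z : B ⊗[A] ↥(⋀[A]^p M)) : tauEquiv A B M p z = tau A B M p z := rfl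

section main
variable (R S A B : Type u) [CommRing R] [CommRing S] [CommRing A] [CommRing B]
    [Algebra R S] [Algebra R A] [Algebra R B] [Algebra A B] [Algebra S B]
    [IsScalarTower R A B] [IsScalarTower R S B] [Algebra.IsPushout R S A B]

/-- the composite comparison isomorphism -/
noncomputable def theta (p : ℕ) : S ⊗[R] ↥(⋀[A]^p (Ω[A⁄R])) → ↥(⋀[B]^p (Ω[B⁄S])) := fun z =>
  exteriorPower.map p (KaehlerDifferential.tensorKaehlerEquiv R S A B).toLinearMap
    (tauEquiv A B (Ω[A⁄R]) p
      ((Algebra.IsPushout.cancelBaseChange R S A B ↥(⋀[A]^p (Ω[A⁄R]))).symm z))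

theorem theta_bijective (p : ℕ) : Function.Bijective (theta R S A B p) := by
  have h3 : Function.Bijective
      (exteriorPower.map p (KaehlerDifferential.tensorKaehlerEquiv R S A B).toLinearMap) := by
    refine ⟨?_, ?_⟩
    · exact exteriorPower.map_injective
        (KaehlerDifferential.tensorKaehlerEquiv R S A B).symm.toLinearMap (by
          apply LinearMap.ext
          intro x
          exact (KaehlerDifferential.tensorKaehlerEquiv R S A B).symm_apply_apply x)
    · exact exteriorPower.map_surjective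
        (KaehlerDifferential.tensorKaehlerEquiv R S A B).surjective
  exact h3.comp ((tauEquiv A B (Ω[A⁄R]) p).bijective.comp
    (Algebra.IsPushout.cancelBaseChange R S A B ↥(⋀[A]^p (Ω[A⁄R]))).symm.bijective)

theorem theta_add (p : ℕ) (z w : S ⊗[R] ↥(⋀[A]^p (Ω[A⁄R]))) :
    theta R S A B p (z + w) = theta R S A B p z + theta R S A B p w := by
  simp only [theta, map_add]

theorem theta_zero (p : ℕ) : theta R S A B p 0 = 0 := by
  simp only [theta, map_zero]

theorem theta_tmul_gen (p : ℕ) (s : S) (a₀ : A) (a : Fin p → A) :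
    theta R S A B p (s ⊗ₜ DeRham.gen (KaehlerDifferential.D R A) p a₀ a) =
      s • DeRham.gen (KaehlerDifferential.D S B) p (algebraMap A B a₀)
        (fun i => algebraMap A B (a i)) := by
  rw [theta, Algebra.IsPushout.cancelBaseChange_symm_tmul, DeRham.gen, DeRham.gen,
    ← TensorProduct.smul_tmul, tauEquiv_apply, tau_tmul_ιMulti, map_smul,
    exteriorPower.map_apply_ιMulti]
  have h1 : (⇑(KaehlerDifferential.tensorKaehlerEquiv R S A B).toLinearMap ∘
      fun i => (1 : B) ⊗ₜ[A] (KaehlerDifferential.D R A) (a i)) =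
      fun i => KaehlerDifferential.D S B (algebraMap A B (a i)) := by
    funext i
    simp only [Function.comp_apply, LinearEquiv.coe_coe]
    rw [KaehlerDifferential.tensorKaehlerEquiv_tmul_D, one_smul]
  rw [h1, ← algebraMap_smul B s, smul_smul, Algebra.smul_def, mul_comm]

end main

end Groth.Agent.Lib.Helper12.EBC

namespace Groth.Agent.Lib.Helper12.EBC

open ExteriorAlgebra CliffordAlgebra TensorProduct
open exteriorPower

universe u

theorem main_15295 (R S A B : Type u) [CommRing R] [CommRing S] [CommRing A] [CommRing B]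
    [Algebra R S] [Algebra R A] [Algebra R B] [Algebra A B] [Algebra S B]
    [IsScalarTower R A B] [IsScalarTower R S B] [Algebra.IsPushout R S A B]
    (ψ : ∀ p : ℕ, ↥(⋀[A]^p (Ω[A⁄R])) →+ ↥(⋀[B]^p (Ω[B⁄S])))
    (hψ : DeRham.IsCxMap (KaehlerDifferential.D R A) (KaehlerDifferential.D S B) (algebraMap A B) ψ)
    (p : ℕ) (Φ : S ⊗[R] ↥(⋀[A]^p (Ω[A⁄R])) →+ ↥(⋀[B]^p (Ω[B⁄S])))
    (hΦ : ∀ (s : S) (x : ↥(⋀[A]^p (Ω[A⁄R]))), Φ (s ⊗ₜ[R] x) = s • ψ p x) :
    Function.Bijective Φ := by
  have key : ∀ z, Φ z = theta R S A B p z := by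
    intro z
    induction z with
    | zero => rw [map_zero, theta_zero]
    | add x y hx hy => rw [map_add, theta_add, hx, hy]
    | tmul s x =>
      induction x using Groth.Agent.Lib.Helper5.DeRhamGen.gen_induction (KaehlerDifferential.D R A)
        (KaehlerDifferential.span_range_derivation R A) p with
      | h0 => rw [tmul_zero, map_zero, theta_zero]
      | hadd x y hx hy => rw [tmul_add, map_add, theta_add, hx, hy]
      | hgen b₀ b => rw [hΦ, hψ, theta_tmul_gen]
  have : (Φ : S ⊗[R] ↥(⋀[A]^p (Ω[A⁄R])) → ↥(⋀[B]^p (Ω[B⁄S]))) = theta R S A B p := funext key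
  rw [this]
  exact theta_bijective R S A B p

end Groth.Agent.Lib.Helper12.EBC
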