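import Mathlib
import Groth.Agent.Lib.Helper12.EBC3

namespace Groth.Agent.Lib.Helper12.EBC

open ExteriorAlgebra CliffordAlgebra TensorProduct
open exteriorPower

universe u

theorem flat_ker {R S N N' : Type*} [CommRing R] [CommRing S] [Algebra R S] [Module.Flat R S]
    [AddCommGroup N] [Module R N] [AddCommGroup N'] [Module R N'] (f : N →ₗ[R] N')
    (z : S ⊗[R] N) (hz : f.lTensor S z = 0) :
    ∃ w : S ⊗[R] ↥(LinearMap.ker f), (LinearMap.ker f).subtype.lTensor S w = z := by
  have hex : Function.Exact (LinearMap.lTensor S (LinearMap.ker f).subtype)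
      (LinearMap.lTensor S f) :=
    Module.Flat.lTensor_exact S (LinearMap.exact_subtype_ker_map f)
  exact (hex z).1 hz

section main
variable {R S A B : Type u} [CommRing R] [CommRing S] [CommRing A] [CommRing B]
    [Algebra R S] [Algebra R A] [Algebra R B] [Algebra A B] [Algebra S B]
    [IsScalarTower R A B] [IsScalarTower R S B] [Algebra.IsPushout R S A B]
    {ψ : ∀ p : ℕ, ↥(⋀[A]^p (Ω[A⁄R])) →+ ↥(⋀[B]^p (Ω[B⁄S]))}
    (hψ : DeRham.IsCxMap (KaehlerDifferential.D R A) (KaehlerDifferential.D S B) (algebraMap A B) ψ)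

include hψ in
theorem theta_tmul (p : ℕ) (s : S) (x : ↥(⋀[A]^p (Ω[A⁄R]))) :
    theta R S A B p (s ⊗ₜ x) = s • ψ p x := by
  induction x using Groth.Agent.Lib.Helper5.DeRhamGen.gen_induction (KaehlerDifferential.D R A)
    (KaehlerDifferential.span_range_derivation R A) p with
  | h0 => rw [tmul_zero, map_zero, theta_zero, smul_zero]
  | hadd x y hx hy => rw [tmul_add, map_add, theta_add, hx, hy, smul_add]
  | hgen b₀ b => rw [hψ, theta_tmul_gen]

theorem mem_span_of_tensor (p : ℕ) (Z : Submodule R ↥(⋀[A]^p (Ω[A⁄R])))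
    (hψ : DeRham.IsCxMap (KaehlerDifferential.D R A) (KaehlerDifferential.D S B) (algebraMap A B) ψ)
    (w : S ⊗[R] ↥Z) :
    theta R S A B p (LinearMap.lTensor S Z.subtype w) ∈
      Submodule.span S (ψ p '' (Z : Set ↥(⋀[A]^p (Ω[A⁄R])))) := by
  induction w with
  | zero => rw [map_zero, theta_zero]; exact Submodule.zero_mem _
  | add x y hx hy => rw [map_add, theta_add]; exact Submodule.add_mem _ hx hy
  | tmul s x =>
    rw [LinearMap.lTensor_tmul, theta_tmul hψ]
    exact Submodule.smul_mem _ _ (Submodule.subset_span ⟨x.1, x.2, rfl⟩)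

theorem main_19628 [Module.Flat R S]
    (d : ∀ p : ℕ, ↥(⋀[A]^p (Ω[A⁄R])) →ₗ[R] ↥(⋀[A]^(p + 1) (Ω[A⁄R])))
    (d' : ∀ p : ℕ, ↥(⋀[B]^p (Ω[B⁄S])) →ₗ[S] ↥(⋀[B]^(p + 1) (Ω[B⁄S])))
    (hψ : DeRham.IsCxMap (KaehlerDifferential.D R A) (KaehlerDifferential.D S B) (algebraMap A B) ψ)
    (hcomm : ∀ (p : ℕ) (x : ↥(⋀[A]^p (Ω[A⁄R]))), ψ (p + 1) (d p x) = d' p (ψ p x))
    (p : ℕ) :
    Submodule.span S (ψ p '' (DeRham.cocycles d p : Set ↥(⋀[A]^p (Ω[A⁄R])))) = DeRham.cocycles d' p ∧
      Submodule.span S (ψ p '' (DeRham.coboundaries d p : Set ↥(⋀[A]^p (Ω[A⁄R])))) =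
        DeRham.coboundaries d' p := by
  have hinter : ∀ (q : ℕ) (z : S ⊗[R] ↥(⋀[A]^q (Ω[A⁄R]))),
      d' q (theta R S A B q z) = theta R S A B (q + 1) (LinearMap.lTensor S (d q) z) := by
    intro q z
    induction z with
    | zero => rw [theta_zero, map_zero, map_zero, theta_zero]
    | add x y hx hy => rw [theta_add, map_add, hx, hy, map_add, theta_add]
    | tmul s x => rw [theta_tmul hψ, map_smul, ← hcomm, LinearMap.lTensor_tmul, theta_tmul hψ]
  refine ⟨le_antisymm ?_ ?_, ?_⟩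
  · rw [Submodule.span_le]
    rintro _ ⟨x, hx, rfl⟩
    have hx' : d p x = 0 := hx
    show d' p (ψ p x) = 0
    rw [← hcomm, hx', map_zero]
  · intro y hy
    have hy' : d' p y = 0 := hy
    obtain ⟨z, rfl⟩ := (theta_bijective R S A B p).2 y
    rw [hinter] at hy'
    have hz : LinearMap.lTensor S (d p) z = 0 := by
      apply (theta_bijective R S A B (p + 1)).1
      rw [hy', theta_zero]
    obtain ⟨w, rfl⟩ := flat_ker (d p) z hz
    exact mem_span_of_tensor p (LinearMap.ker (d p)) hψ w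
  · cases p with
    | zero =>
      show Submodule.span S (ψ 0 '' (((⊥ : Submodule R ↥(⋀[A]^0 (Ω[A⁄R]))) : Set ↥(⋀[A]^0 (Ω[A⁄R]))))) = ⊥
      rw [Submodule.bot_coe, Set.image_singleton, map_zero, Submodule.span_singleton_eq_bot]
    | succ q =>
      show Submodule.span S (ψ (q + 1) '' (LinearMap.range (d q) : Set _)) = LinearMap.range (d' q)
      apply le_antisymm
      · rw [Submodule.span_le]
        rintro _ ⟨_, ⟨x, rfl⟩, rfl⟩
        exact ⟨ψ q x, (hcomm q x).symm⟩
      · rintro _ ⟨u, rfl⟩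
        obtain ⟨z, rfl⟩ := (theta_bijective R S A B q).2 u
        rw [hinter]
        have : LinearMap.lTensor S (d q) z =
            LinearMap.lTensor S (LinearMap.range (d q)).subtype
              (LinearMap.lTensor S (d q).rangeRestrict z) := by
          rw [← LinearMap.comp_apply, ← LinearMap.lTensor_comp]
          rfl
        rw [this]
        exact mem_span_of_tensor (q + 1) (LinearMap.range (d q)) hψ _

end main

end Groth.Agent.Lib.Helper12.EBC
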