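import Mathlib
import Groth.Statements.S19741

open Cardinal IntermediateField CategoryTheory AlgebraicGeometry Opposite EssDim

universe w u

namespace H12EssDim

section
variable {k K L : Type u} [Field k] [Field K] [Field L] [Algebra k K] [Algebra K L] [Algebra k L]
  [IsScalarTower k K L]

open scoped IntermediateField.algebraAdjoinAdjoin in
theorem trdeg_adjoin_le (E : IntermediateField k L) :
    Algebra.trdeg K (IntermediateField.adjoin K (E : Set L)) ≤ Algebra.trdeg k E := by
  classical
  obtain ⟨s, hs⟩ := exists_isTranscendenceBasis k E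
  set F := IntermediateField.adjoin K (E : Set L) with hF
  let ι : E →+* F := (algebraMap E L).codRestrict F (fun x => subset_adjoin K _ x.2)
  have hι : ∀ x : E, ((ι x : F) : L) = (x : L) := fun x => rfl
  let S : Set F := Set.range (fun i : s => ι i)
  let M' := IntermediateField.adjoin k (Set.range ((↑) : s → E))
  have halg' : Algebra.IsAlgebraic M' E := hs.isAlgebraic_field
  let M_F := IntermediateField.adjoin K S
  -- membership
  have hmem : ∀ x : E, x ∈ M' → ι x ∈ M_F := by
    intro x hx
    induction hx using IntermediateField.adjoin_induction with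
    | mem x hx =>
      obtain ⟨i, rfl⟩ := hx
      exact subset_adjoin K S ⟨i, rfl⟩
    | algebraMap x =>
      have : ι (algebraMap k E x) = algebraMap K F (algebraMap k K x) := by
        apply Subtype.ext
        change algebraMap k L x = algebraMap K L (algebraMap k K x)
        exact IsScalarTower.algebraMap_apply k K L x
      rw [this]
      exact M_F.algebraMap_mem _
    | add x y _ _ hx hy => rw [map_add]; exact add_mem hx hy
    | inv x _ hx => rw [map_inv₀]; exact inv_mem hx
    | mul x y _ _ hx hy => rw [map_mul]; exact mul_mem hx hy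
  let φ : M' →+* M_F := (ι.comp (algebraMap M' E)).codRestrict M_F (fun x => hmem x x.2)
  -- every element of `F` is algebraic over `M_F`
  have halgF : Algebra.IsAlgebraic M_F F := by
    constructor
    intro f
    obtain ⟨f, hf⟩ := f
    induction hf using IntermediateField.adjoin_induction with
    | mem x hx =>
      have h1 : IsIntegral M' (⟨x, hx⟩ : E) := Algebra.IsIntegral.isIntegral _
      have h2 := IsIntegral.map_of_comp_eq φ ι (R := M') (S := E) (T := M_F) (U := F)
        (by ext y; rfl) h1
      exact h2.isAlgebraic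
    | algebraMap x =>
      have : (⟨algebraMap K L x, F.algebraMap_mem x⟩ : F) = algebraMap M_F F (algebraMap K M_F x) := by
        apply Subtype.ext
        rfl
      rw [this]
      exact isAlgebraic_algebraMap _
    | add x y hx hy hx' hy' =>
      have : (⟨x + y, add_mem hx hy⟩ : F) = ⟨x, hx⟩ + ⟨y, hy⟩ := rfl
      rw [this]; exact hx'.add hy'
    | inv x hx hx' =>
      have : (⟨x⁻¹, inv_mem hx⟩ : F) = (⟨x, hx⟩ : F)⁻¹ := rfl
      rw [this]; exact IsAlgebraic.inv_iff.mpr hx'
    | mul x y hx hy hx' hy' =>
      have : (⟨x * y, mul_mem hx hy⟩ : F) = ⟨x, hx⟩ * ⟨y, hy⟩ := rfl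
      rw [this]; exact hx'.mul hy'
  have halgA : Algebra.IsAlgebraic (Algebra.adjoin K S) F :=
    Algebra.IsAlgebraic.trans (Algebra.adjoin K S) M_F F
  have h1 : Algebra.trdeg K F ≤ #S := Algebra.IsAlgebraic.trdeg_le_cardinalMk K S
  have h2 : #S ≤ #s := Cardinal.mk_range_le
  have h3 : #s = Algebra.trdeg k E := hs.cardinalMk_eq_trdeg
  exact h1.trans (h2.trans h3.le)

end

theorem main (k : Type u) [Field k] (K : Type u) [Field K] [Algebra k K]
    (P : (Over (Spec (CommRingCat.of k)))ᵒᵖ ⥤ Type w) :
    EssDim.ed (k := K) ((Over.map (Spec.map (CommRingCat.ofHom (algebraMap k K)))).op ⋙ P) ≤ EssDim.ed P := by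
  unfold EssDim.ed
  refine iSup_le fun L => iSup_le fun _ => iSup_le fun _ => iSup_le fun ξ => ?_
  letI : Algebra k L := ((algebraMap K L).comp (algebraMap k K)).toAlgebra
  haveI : IsScalarTower k K L := IsScalarTower.of_algebraMap_eq (fun _ => rfl)
  let e : (Over.map (Spec.map (CommRingCat.ofHom (algebraMap k K)))).obj (SGA7.pt (K := K) L) ≅ SGA7.pt (K := k) L :=
    Over.isoMk (Iso.refl _) (by
      simp only [Iso.refl_hom, Category.id_comp]
      change _ = Spec.map _ ≫ Spec.map _
      rw [← Spec.map_comp, ← CommRingCat.ofHom_comp]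
      rfl)
  let ξ' : FPt P L := P.map e.inv.op ξ
  refine le_trans ?_ (edAt_le_ed (P := P) ξ')
  rw [WithBot.coe_le_coe]
  have key : ∀ E : IntermediateField k L, Descends P ξ' E →
      edAt (k := K) ((Over.map (Spec.map (CommRingCat.ofHom (algebraMap k K)))).op ⋙ P) ξ ≤ toENat (Algebra.trdeg k E) := by
    intro E hE
    obtain ⟨ξ₀, hξ₀⟩ := hE
    let F : IntermediateField K L := IntermediateField.adjoin K (E : Set L)
    have hF : Descends (k := K) ((Over.map (Spec.map (CommRingCat.ofHom (algebraMap k K)))).op ⋙ P) ξ F := by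
      let j : E →+* F := (algebraMap E L).codRestrict F (fun x => subset_adjoin K _ x.2)
      let m : (Over.map (Spec.map (CommRingCat.ofHom (algebraMap k K)))).obj (SGA7.pt (K := K) F) ⟶ SGA7.pt (K := k) E :=
        Over.homMk (Spec.map (CommRingCat.ofHom j)) (by
          change Spec.map _ ≫ Spec.map _ = Spec.map _ ≫ Spec.map _
          rw [← Spec.map_comp, ← Spec.map_comp, ← CommRingCat.ofHom_comp, ← CommRingCat.ofHom_comp]
          congr 2)
      refine ⟨P.map m.op ξ₀, ?_⟩
      have hcomm : (Over.map (Spec.map (CommRingCat.ofHom (algebraMap k K)))).map (resPt (k := K) F.val) ≫ m = e.hom ≫ resPt (k := k) E.val := by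
        ext : 1
        simp only [Over.comp_left, Over.map_map_left, resPt_left, m, e, Over.homMk_left,
          Over.isoMk_hom_left, Iso.refl_hom, Category.id_comp]
        rw [← Spec.map_comp, ← CommRingCat.ofHom_comp]
        rfl
      have hξ : ξ = P.map e.hom.op ξ' := by
        simp only [ξ']
        rw [← Functor.map_comp_apply, ← op_comp, e.hom_inv_id, op_id,
          Functor.map_id_apply]
      change P.map ((Over.map (Spec.map (CommRingCat.ofHom (algebraMap k K)))).map (resPt (k := K) F.val)).op (P.map m.op ξ₀) = ξ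
      rw [← Functor.map_comp_apply, ← op_comp, hcomm, op_comp, Functor.map_comp_apply,
        hξ]
      congr 1
    exact (edAt_le_of_descends hF).trans (OrderHomClass.mono Cardinal.toENat (trdeg_adjoin_le E))
  exact le_iInf fun ⟨E, hE⟩ => key E hE

end H12EssDim
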