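import Mathlib

/-!
# Étale coordinates from a basis of differentials (helper12)
-/

set_option autoImplicit false
universe u

namespace Groth.Agent.Lib.Helper12.EtCoord

open TensorProduct KaehlerDifferential

/-- If `S` is formally smooth over `k` and `d s₁, …, d s_d` is a basis of `Ω[S⁄k]`, then `S` is
formally étale over `k[y₁, …, y_d]` via `y_i ↦ s_i`. -/
theorem formallyEtale_mvPolynomial_of_basis {k S : Type*} [CommRing k] [CommRing S] [Algebra k S]
    [Algebra.FormallySmooth k S] {d : ℕ} (s : Fin d → S)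
    (b : Module.Basis (Fin d) S Ω[S⁄k]) (hb : ∀ i, b i = D k S (s i))
    [Algebra (MvPolynomial (Fin d) k) S] [IsScalarTower k (MvPolynomial (Fin d) k) S]
    (halg : ∀ i, algebraMap (MvPolynomial (Fin d) k) S (MvPolynomial.X i) = s i) :
    Algebra.FormallyEtale (MvPolynomial (Fin d) k) S := by
  have hbij : Function.Bijective (mapBaseChange k (MvPolynomial (Fin d) k) S) := by
    let b₁ : Module.Basis (Fin d) S (S ⊗[MvPolynomial (Fin d) k] Ω[MvPolynomial (Fin d) k⁄k]) :=
      (mvPolynomialBasis k (Fin d)).baseChange S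
    have h : mapBaseChange k (MvPolynomial (Fin d) k) S =
        (b₁.equiv b (Equiv.refl _)).toLinearMap := by
      apply b₁.ext
      intro i
      rw [LinearEquiv.coe_coe, Module.Basis.equiv_apply, Equiv.refl_apply, hb]
      simp only [b₁, Module.Basis.baseChange_apply, mvPolynomialBasis_apply, mapBaseChange_tmul,
        one_smul, map_D, halg]
    rw [h]
    exact (b₁.equiv b (Equiv.refl _)).bijective
  refine ⟨⟨fun x y => ?_⟩, ⟨fun x y => ?_⟩⟩
  · have h0 : ∀ z : Ω[S⁄MvPolynomial (Fin d) k], z = 0 := by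
      intro z
      obtain ⟨w, rfl⟩ := KaehlerDifferential.map_surjective k (MvPolynomial (Fin d) k) S z
      obtain ⟨u, rfl⟩ := hbij.2 w
      exact (exact_mapBaseChange_map k (MvPolynomial (Fin d) k) S).apply_apply_eq_zero u
    rw [h0 x, h0 y]
  · have hex1 := Algebra.H1Cotangent.exact_map_δ k (MvPolynomial (Fin d) k) S
    have hex2 := Algebra.H1Cotangent.exact_δ_mapBaseChange k (MvPolynomial (Fin d) k) S
    have h0 : ∀ z : Algebra.H1Cotangent (MvPolynomial (Fin d) k) S, z = 0 := by
      intro z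
      have h1 : mapBaseChange k (MvPolynomial (Fin d) k) S
          (Algebra.H1Cotangent.δ k (MvPolynomial (Fin d) k) S z) = 0 :=
        hex2.apply_apply_eq_zero z
      have h2 : Algebra.H1Cotangent.δ k (MvPolynomial (Fin d) k) S z = 0 :=
        hbij.1 (h1.trans (map_zero _).symm)
      obtain ⟨w, rfl⟩ := (hex1 z).1 h2
      rw [Subsingleton.elim w 0, map_zero]
    rw [h0 x, h0 y]

/-- the determinant of a family `1 ⊗ m_i` in a base change -/
theorem det_baseChange_tmul {S K M : Type*} [CommRing S] [CommRing K] [Algebra S K]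
    [AddCommGroup M] [Module S M] {d : ℕ} (e : Module.Basis (Fin d) S M) (m : Fin d → M) :
    (e.baseChange K).det (fun i => (1 : K) ⊗ₜ[S] m i) = algebraMap S K (e.det m) := by
  classical
  rw [Module.Basis.det_apply, Module.Basis.det_apply, RingHom.map_det]
  congr 1
  ext i j
  simp only [Module.Basis.toMatrix_apply, Module.Basis.baseChange_repr_tmul,
    RingHom.mapMatrix_apply, Matrix.map_apply, Algebra.smul_def, mul_one]

/-- Inverting the determinant of `d s_i` with respect to a basis of `Ω[S⁄k]` makes the `d s_i`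
a basis. -/
theorem exists_basis_away {k S : Type*} [CommRing k] [CommRing S] [Algebra k S] {d : ℕ}
    (e : Module.Basis (Fin d) S Ω[S⁄k]) (s : Fin d → S) :
    ∃ b : Module.Basis (Fin d) (Localization.Away (e.det fun i => D k S (s i)))
        Ω[Localization.Away (e.det fun i => D k S (s i))⁄k],
      ∀ i, b i = D k _ (algebraMap S _ (s i)) := by
  classical
  set δ := e.det fun i => D k S (s i) with hδ
  have : Algebra.FormallyEtale S (Localization.Away δ) :=
    Algebra.FormallyEtale.of_isLocalization (Rₘ := Localization.Away δ) (Submonoid.powers δ)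
  let E := tensorKaehlerEquivOfFormallyEtale k S (Localization.Away δ)
  let e' : Module.Basis (Fin d) (Localization.Away δ) (Localization.Away δ ⊗[S] Ω[S⁄k]) :=
    e.baseChange (Localization.Away δ)
  let w : Fin d → Localization.Away δ ⊗[S] Ω[S⁄k] := fun i => 1 ⊗ₜ D k S (s i)
  have hdet : e'.det w = algebraMap S (Localization.Away δ) δ :=
    det_baseChange_tmul e _
  have hunit : IsUnit (e'.det w) := by
    rw [hdet]
    exact IsLocalization.Away.algebraMap_isUnit δ
  obtain ⟨hli, hsp⟩ := (Module.Basis.is_basis_iff_det e').2 hunit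
  refine ⟨(Module.Basis.mk hli hsp.ge).map E, fun i => ?_⟩
  rw [Module.Basis.map_apply, Module.Basis.mk_apply]
  simp only [E, w, tensorKaehlerEquivOfFormallyEtale_apply, mapBaseChange_tmul, one_smul, map_D]

section Coord

variable {k S K : Type*} [CommRing k] [CommRing S] [Algebra k S] [Field K] [Algebra S K]
  [Algebra k K] [IsScalarTower k S K]

/-- every element of `K ⊗ Ω[S⁄k]` is `1 ⊗ d x` with `x` in the kernel of `S → K`, when
`Ω[K⁄k] = 0` -/
theorem exists_ker_D_eq (hsurj : Function.Surjective (algebraMap S K))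
    [Subsingleton Ω[K⁄k]] (v : K ⊗[S] Ω[S⁄k]) :
    ∃ x : S, algebraMap S K x = 0 ∧ (1 : K) ⊗ₜ[S] D k S x = v := by
  have hex := exact_kerCotangentToTensor_mapBaseChange k S K hsurj
  obtain ⟨c, hc⟩ := (hex v).1 (Subsingleton.elim _ _)
  obtain ⟨x, rfl⟩ := Ideal.toCotangent_surjective _ c
  exact ⟨x.1, x.2, by rw [← hc, kerCotangentToTensor_toCotangent]⟩

/-- choice of coordinates with prescribed differentials at `K` and prescribed first value -/
theorem exists_coordinates (hsurj : Function.Surjective (algebraMap S K))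
    [Subsingleton Ω[K⁄k]] {d : ℕ} (hd : 0 < d) (v : Fin d → K ⊗[S] Ω[S⁄k]) (θ : K) :
    ∃ s : Fin d → S, (∀ i, (1 : K) ⊗ₜ[S] D k S (s i) = v i) ∧
      algebraMap S K (s ⟨0, hd⟩) = θ := by
  classical
  obtain ⟨t, ht⟩ := hsurj θ
  choose x hx0 hxv using fun i => exists_ker_D_eq (k := k) hsurj (v i)
  obtain ⟨x₀, hx₀0, hx₀v⟩ := exists_ker_D_eq (k := k) hsurj
    (v ⟨0, hd⟩ - (1 : K) ⊗ₜ[S] D k S t)
  refine ⟨fun i => if i = ⟨0, hd⟩ then t + x₀ else x i, fun i => ?_, ?_⟩
  · by_cases hi : i = ⟨0, hd⟩
    · subst hi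
      simp only [if_true, map_add, TensorProduct.tmul_add, hx₀v]
      abel
    · simp only [hi, if_false, hxv]
  · simp only [if_true, map_add, ht, hx₀0, add_zero]

/-- if the `1 ⊗ d s_i` form a basis at `K`, the determinant does not vanish at `K` -/
theorem algebraMap_det_ne_zero {d : ℕ} (e : Module.Basis (Fin d) S Ω[S⁄k]) (s : Fin d → S)
    (v : Module.Basis (Fin d) K (K ⊗[S] Ω[S⁄k])) (hv : ∀ i, (1 : K) ⊗ₜ[S] D k S (s i) = v i) :
    algebraMap S K (e.det fun i => D k S (s i)) ≠ 0 := by
  rw [← det_baseChange_tmul]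
  have h1 : (fun i => (1 : K) ⊗ₜ[S] D k S (s i)) = v := funext hv
  rw [h1]
  exact ((Module.Basis.is_basis_iff_det (e.baseChange K)).1
    ⟨v.linearIndependent, v.span_eq⟩).ne_zero

end Coord

end Groth.Agent.Lib.Helper12.EtCoord
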