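import Groth.Agent.Lib.Helper12.EtCoord

set_option autoImplicit false
universe u

namespace Groth.Agent.Lib.Helper12.EtCoord

open TensorProduct KaehlerDifferential

/-- given a basis `d s_i` of `Ω[S_δ⁄k]`, the map `k[y] → S_δ`, `y_i ↦ s_i`, is étale -/
theorem etale_aeval_of_basis {k S : Type u} [CommRing k] [CommRing S] [Algebra k S]
    [Algebra.FormallySmooth k S] [Algebra.FinitePresentation k S] {d : ℕ} (δ : S) (s : Fin d → S)
    (b : Module.Basis (Fin d) (Localization.Away δ) Ω[Localization.Away δ⁄k])
    (hb : ∀ i, b i = D k _ (algebraMap S _ (s i))) :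
    (MvPolynomial.aeval (R := k) (fun i => algebraMap S (Localization.Away δ) (s i))).toRingHom.Etale := by
  classical
  let φ : MvPolynomial (Fin d) k →ₐ[k] Localization.Away δ :=
    MvPolynomial.aeval (fun i => algebraMap S (Localization.Away δ) (s i))
  change φ.toRingHom.Etale
  letI : Algebra (MvPolynomial (Fin d) k) (Localization.Away δ) := φ.toRingHom.toAlgebra
  have htower : IsScalarTower k (MvPolynomial (Fin d) k) (Localization.Away δ) :=
    IsScalarTower.of_algebraMap_eq fun x => (φ.commutes x).symm
  have hsm : Algebra.FormallySmooth k (Localization.Away δ) := by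
    have : Algebra.FormallySmooth S (Localization.Away δ) :=
      Algebra.FormallySmooth.of_isLocalization (Submonoid.powers δ)
    exact Algebra.FormallySmooth.comp k S (Localization.Away δ)
  have hfe : Algebra.FormallyEtale (MvPolynomial (Fin d) k) (Localization.Away δ) :=
    formallyEtale_mvPolynomial_of_basis (fun i => algebraMap S (Localization.Away δ) (s i)) b hb
      (fun i => by
        change φ (MvPolynomial.X i) = _
        simp [φ])
  have hfp0 : Algebra.FinitePresentation k (Localization.Away δ) := by
    have : Algebra.FinitePresentation S (Localization.Away δ) :=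
      IsLocalization.Away.finitePresentation δ
    exact Algebra.FinitePresentation.trans k S (Localization.Away δ)
  have hfp : Algebra.FinitePresentation (MvPolynomial (Fin d) k) (Localization.Away δ) :=
    Algebra.FinitePresentation.of_restrict_scalars_finitePresentation k _ _
  have het : Algebra.Etale (MvPolynomial (Fin d) k) (Localization.Away δ) := ⟨hfe, hfp⟩
  exact RingHom.etale_algebraMap.2 het

/-- abstract core: étale coordinates on a principal open of `S` with prescribed residue value -/
theorem exists_etale_chart {k S K : Type u} [CommRing k] [CommRing S] [Algebra k S] [Field K]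
    [Algebra S K] [Algebra k K] [IsScalarTower k S K]
    [Algebra.FormallySmooth k S] [Algebra.FinitePresentation k S]
    (hsurj : Function.Surjective (algebraMap S K)) [Subsingleton Ω[K⁄k]] {d : ℕ} (hd : 0 < d)
    (e : Module.Basis (Fin d) S Ω[S⁄k]) (θ : K) :
    ∃ (δ : S) (s : S) (φ : MvPolynomial (Fin d) k →ₐ[k] Localization.Away δ),
      algebraMap S K δ ≠ 0 ∧ algebraMap S K s = θ ∧
      φ (MvPolynomial.X ⟨0, hd⟩) = algebraMap S _ s ∧ φ.toRingHom.Etale := by
  classical
  let v : Module.Basis (Fin d) K (K ⊗[S] Ω[S⁄k]) := e.baseChange K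
  obtain ⟨s, hs, hθ⟩ := exists_coordinates (k := k) hsurj hd (fun i => v i) θ
  have hδ := algebraMap_det_ne_zero e s v hs
  obtain ⟨b, hb⟩ := exists_basis_away e s
  exact ⟨_, s ⟨0, hd⟩, MvPolynomial.aeval (fun i => algebraMap S _ (s i)), hδ, hθ, by simp,
    etale_aeval_of_basis _ s b hb⟩


/-- residue field of a f.t. algebra over a local ring with finite residue field at a maximal ideal
over the maximal ideal is finite, and has no differentials -/
theorem finite_quotient (k : Type u) [CommRing k] [IsLocalRing k] [Finite (IsLocalRing.ResidueField k)]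
    (R : Type u) [CommRing R] [Algebra k R] [Algebra.FiniteType k R]
    (m : Ideal R) [m.IsMaximal] (hm : m.comap (algebraMap k R) = IsLocalRing.maximalIdeal k) :
    Finite (R ⧸ m) := by
  haveI : m.LiesOver (IsLocalRing.maximalIdeal k) := ⟨hm.symm⟩
  letI : Field (R ⧸ m) := Ideal.Quotient.field m
  letI : Algebra (IsLocalRing.ResidueField k) (R ⧸ m) :=
    inferInstanceAs (Algebra (k ⧸ IsLocalRing.maximalIdeal k) (R ⧸ m))
  haveI : IsScalarTower k (IsLocalRing.ResidueField k) (R ⧸ m) :=
    inferInstanceAs (IsScalarTower k (k ⧸ IsLocalRing.maximalIdeal k) (R ⧸ m))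
  haveI : Algebra.FiniteType k (R ⧸ m) :=
    Algebra.FiniteType.of_surjective (Ideal.Quotient.mkₐ k m) Ideal.Quotient.mk_surjective
  haveI : Algebra.FiniteType (IsLocalRing.ResidueField k) (R ⧸ m) :=
    Algebra.FiniteType.of_restrictScalars_finiteType k _ _
  haveI : Module.Finite (IsLocalRing.ResidueField k) (R ⧸ m) :=
    finite_of_finite_type_of_isJacobsonRing _ _
  exact Module.finite_of_finite (IsLocalRing.ResidueField k)


theorem subsingleton_kaehler_of_finite_field (k K : Type*) [CommRing k] [Field K] [Finite K]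
    [Algebra k K] : Subsingleton Ω[K⁄k] := by
  classical
  letI := Fintype.ofFinite K
  have h0 : ∀ x : K, D k K x = 0 := by
    intro x
    have hx : x ^ Fintype.card K = x := FiniteField.pow_card x
    have h1 : D k K (x ^ Fintype.card K) = D k K x := by rw [hx]
    rw [Derivation.leibniz_pow] at h1
    rw [← h1]
    have : (Fintype.card K : K) = 0 := FiniteField.cast_card_eq_zero K
    rw [← Nat.cast_smul_eq_nsmul K, this, zero_smul]
  refine ⟨fun a b => ?_⟩
  have hz : ∀ z : Ω[K⁄k], z = 0 := by
    intro z
    have hz : z ∈ Submodule.span K (Set.range (D k K)) := by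
      rw [KaehlerDifferential.span_range_derivation]; trivial
    refine Submodule.span_induction ?_ rfl ?_ ?_ hz
    · rintro _ ⟨x, rfl⟩
      exact h0 x
    · intro a b _ _ ha hb
      rw [ha, hb, add_zero]
    · intro c a _ ha
      rw [ha, smul_zero]
  rw [hz a, hz b]

theorem exists_generator_of_finite_field (K : Type*) [Field K] [Finite K] :
    ∃ θ : K, ∀ x : K, x = 0 ∨ ∃ j : ℕ, x = θ ^ j := by
  obtain ⟨u, hu⟩ := IsCyclic.exists_monoid_generator (α := Kˣ)
  refine ⟨u, fun x => ?_⟩
  by_cases hx : x = 0
  · exact Or.inl hx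
  · obtain ⟨j, hj⟩ := hu (Units.mk0 x hx)
    refine Or.inr ⟨j, ?_⟩
    have := congrArg Units.val hj
    simpa using this.symm

/-- transfer to a localization: the data of `S = R_{g₀}`, `K = R ⧸ m` -/
theorem exists_chart_of_standardSmooth (k : Type u) [CommRing k]
    (R : Type u) [CommRing R] [Algebra k R] [Algebra.FinitePresentation k R]
    (K : Type u) [Field K] [Finite K] [Algebra R K] [Algebra k K] [IsScalarTower k R K]
    (hRK : Function.Surjective (algebraMap R K)) [Subsingleton Ω[K⁄k]]
    (g₀ : R) (hg₀ : algebraMap R K g₀ ≠ 0) [Algebra.IsStandardSmooth k (Localization.Away g₀)]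
    (d : ℕ) (hd : 0 < d)
    (hdim : Module.finrank K (K ⊗[R] Ω[R⁄k]) = d) :
    ∃ g : R, algebraMap R K g ≠ 0 ∧ ∃ φ : MvPolynomial (Fin d) k →ₐ[k] Localization.Away g,
      φ.toRingHom.Etale ∧
      ∀ t : Localization.Away g, ∃ p, t - φ p ∈
        (RingHom.ker (algebraMap R K)).map (algebraMap R (Localization.Away g)) := by
  classical
  set S := Localization.Away g₀ with hS
  have hunit : IsUnit (algebraMap R K g₀) := IsUnit.mk0 _ hg₀
  letI : Algebra S K := (IsLocalization.Away.lift g₀ hunit).toAlgebra
  have halg : ∀ r : R, algebraMap S K (algebraMap R S r) = algebraMap R K r :=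
    fun r => IsLocalization.Away.lift_eq g₀ hunit r
  haveI : IsScalarTower R S K := IsScalarTower.of_algebraMap_eq fun r => (halg r).symm
  haveI : IsScalarTower k S K := IsScalarTower.of_algebraMap_eq fun x => by
    rw [IsScalarTower.algebraMap_apply k R K, IsScalarTower.algebraMap_apply k R S, halg]
  have hsurj : Function.Surjective (algebraMap S K) := by
    intro y
    obtain ⟨r, rfl⟩ := hRK y
    exact ⟨algebraMap R S r, halg r⟩
  haveI : Nontrivial S := (algebraMap S K).domain_nontrivial
  -- the rank
  haveI : Algebra.FormallyEtale R S := Algebra.FormallyEtale.of_isLocalization (Submonoid.powers g₀)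
  have hrank : Module.finrank K (K ⊗[S] Ω[S⁄k]) = d := by
    rw [← hdim]
    refine LinearEquiv.finrank_eq ?_
    exact (TensorProduct.AlgebraTensorModule.congr (LinearEquiv.refl K K)
      (tensorKaehlerEquivOfFormallyEtale k R S).symm).trans
      (TensorProduct.AlgebraTensorModule.cancelBaseChange R S K K Ω[R⁄k])
  have hrank' : Module.finrank S Ω[S⁄k] = d := by
    rw [← hrank, Module.finrank_baseChange]
  let e : Module.Basis (Fin d) S Ω[S⁄k] := (Module.finBasis S Ω[S⁄k]).reindex (finCongr hrank')
  obtain ⟨θ, hθ⟩ := exists_generator_of_finite_field K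
  haveI : Algebra.FinitePresentation k S := by
    have : Algebra.FinitePresentation R S := IsLocalization.Away.finitePresentation g₀
    exact Algebra.FinitePresentation.trans k R S
  obtain ⟨δ, s, φ, hδ, hs, hφs, hφ⟩ := exists_etale_chart (k := k) hsurj hd e θ
  -- write `δ` as a fraction
  obtain ⟨δ', u, hδ'⟩ := IsLocalization.exists_mk'_eq (.powers g₀) δ
  obtain ⟨N, hN⟩ := u.2
  replace hN : g₀ ^ N = (u : R) := hN
  have hspec : δ * algebraMap R S (g₀ ^ N) = algebraMap R S δ' := by
    rw [← hδ', hN]
    exact IsLocalization.mk'_spec S δ' u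
  have hδ'K : algebraMap R K δ' ≠ 0 := by
    rw [← halg, ← hspec, map_mul, halg, map_pow]
    exact mul_ne_zero hδ (pow_ne_zero _ hg₀)
  have hgK : algebraMap R K (g₀ * δ') ≠ 0 := by
    rw [map_mul]
    exact mul_ne_zero hg₀ hδ'K
  -- `S_δ` is the localization of `R` at `g₀ * δ'`
  haveI : IsLocalization.Away (g₀ * δ') (Localization.Away δ) := by
    suffices IsLocalization.Away (algebraMap R S δ') (Localization.Away δ) from
      .mul' S _ _ _
    refine IsLocalization.Away.of_associated (r := δ)
      ⟨(IsLocalization.Away.algebraMap_pow_isUnit g₀ N).unit, ?_⟩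
    rw [IsUnit.unit_spec, ← map_pow]
    exact hspec
  let ε : Localization.Away δ ≃ₐ[R] Localization.Away (g₀ * δ') :=
    IsLocalization.algEquiv (.powers (g₀ * δ')) _ _
  refine ⟨g₀ * δ', hgK, (ε.restrictScalars k).toAlgHom.comp φ, ?_, ?_⟩
  · exact RingHom.Etale.respectsIso.1 φ.toRingHom ε.toRingEquiv hφ
  · set T := Localization.Away (g₀ * δ') with hT
    let χ : T →+* K := IsLocalization.Away.lift (g₀ * δ') (g := algebraMap R K) (IsUnit.mk0 _ hgK)
    have hχ : ∀ r : R, χ (algebraMap R T r) = algebraMap R K r :=
      fun r => IsLocalization.Away.lift_eq (g₀ * δ') (IsUnit.mk0 _ hgK) r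
    have hker : ∀ t : T, χ t = 0 →
        t ∈ (RingHom.ker (algebraMap R K)).map (algebraMap R T) := by
      intro t ht
      obtain ⟨r, v, rfl⟩ := IsLocalization.exists_mk'_eq (.powers (g₀ * δ')) t
      rw [IsLocalization.mk'_mem_map_algebraMap_iff]
      refine ⟨1, one_mem _, ?_⟩
      rw [one_mul, RingHom.mem_ker, ← hχ, ← IsLocalization.mk'_spec T r v, map_mul, ht, zero_mul]
    have hcomp : χ.comp (ε.toAlgHom.toRingHom.comp (algebraMap S (Localization.Away δ))) =
        algebraMap S K := by
      refine IsLocalization.ringHom_ext (Submonoid.powers g₀) ?_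
      apply RingHom.ext
      intro r
      simp only [RingHom.comp_apply]
      rw [← IsScalarTower.algebraMap_apply R S (Localization.Away δ), halg]
      change χ (ε (algebraMap R (Localization.Away δ) r)) = _
      rw [ε.commutes, hχ]
    have hX : χ ((ε.restrictScalars k).toAlgHom.comp φ (MvPolynomial.X ⟨0, hd⟩)) = θ := by
      rw [AlgHom.comp_apply, hφs, ← hs]
      exact RingHom.congr_fun hcomp s
    intro t
    rcases hθ (χ t) with h0 | ⟨j, hj⟩
    · exact ⟨0, by rw [map_zero, sub_zero]; exact hker t h0⟩
    · refine ⟨MvPolynomial.X ⟨0, hd⟩ ^ j, hker _ ?_⟩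
      rw [map_sub, map_pow, map_pow, hX, hj, sub_self]


end Groth.Agent.Lib.Helper12.EtCoord
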