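import Mathlib
import Groth.Agent.Lib.Helper4.HznDVR

set_option autoImplicit false
universe u

namespace Groth.Agent.Lib.Helper12.EtDedekind

open IsLocalRing Function

/-- local rings of an étale algebra over a Dedekind domain are fields or DVRs -/
theorem field_or_dvr_localization (A E : Type u) [CommRing A] [IsDedekindDomain A] [CommRing E]
    [Algebra A E] [Algebra.Etale A E] (Q : Ideal E) [Q.IsPrime] :
    IsField (Localization.AtPrime Q) ∨
      ∃ _ : IsDomain (Localization.AtPrime Q), IsDiscreteValuationRing (Localization.AtPrime Q) := by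
  set p : Ideal A := Q.under A with hp
  haveI : p.IsPrime := Ideal.IsPrime.under A Q
  haveI : Q.LiesOver p := ⟨rfl⟩
  letI : Algebra (Localization.AtPrime p) (Localization.AtPrime Q) :=
    Localization.AtPrime.algebraOfLiesOver p Q
  haveI : Localization.AtPrime.IsLiesOverAlgebra p Q := ⟨rfl⟩
  haveI : IsNoetherianRing E := Algebra.FiniteType.isNoetherianRing A E
  haveI : Module.Flat A E := inferInstance
  haveI : Module.Flat (Localization.AtPrime p) (Localization.AtPrime Q) := inferInstance
  haveI : IsLocalHom (algebraMap (Localization.AtPrime p) (Localization.AtPrime Q)) := by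
    change IsLocalHom (Localization.localRingHom p Q (algebraMap A E) Ideal.LiesOver.over)
    infer_instance
  haveI : Module.FaithfullyFlat (Localization.AtPrime p) (Localization.AtPrime Q) :=
    Module.FaithfullyFlat.of_flat_of_isLocalHom
  have hm : (maximalIdeal (Localization.AtPrime p)).map
      (algebraMap (Localization.AtPrime p) (Localization.AtPrime Q)) =
      maximalIdeal (Localization.AtPrime Q) := by
    have h1 := ((Algebra.isUnramifiedAt_iff_map_eq A p Q).1 inferInstance).2
    rw [← Localization.AtPrime.map_eq_maximalIdeal, Ideal.map_map,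
      ← IsScalarTower.algebraMap_eq]
    exact h1
  haveI : IsNoetherianRing (Localization.AtPrime Q) := IsLocalization.isNoetherianRing Q.primeCompl _ inferInstance
  haveI : IsNoetherianRing (Localization.AtPrime p) := IsLocalization.isNoetherianRing p.primeCompl _ inferInstance
  by_cases hp0 : p = ⊥
  · left
    rw [IsLocalRing.isField_iff_maximalIdeal_eq, ← hm, ← Localization.AtPrime.map_eq_maximalIdeal]
    have h0 : Ideal.map (algebraMap A (Localization.AtPrime p)) p = ⊥ := by
      rw [eq_bot_iff, Ideal.map_le_iff_le_comap]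
      intro x hx
      rw [hp0, Ideal.mem_bot] at hx
      rw [hx]
      exact zero_mem _
    rw [h0, Ideal.map_bot]
  · right
    haveI : IsDiscreteValuationRing (Localization.AtPrime p) :=
      IsLocalization.AtPrime.isDiscreteValuationRing_of_dedekind_domain A hp0 _
    exact (Groth.Agent.Lib.Helper4.Hzn.dvr_iff_of_faithfullyFlat_local
      (Localization.AtPrime p) (Localization.AtPrime Q) hm).1 ⟨inferInstance, inferInstance⟩


/-- a minimal prime below a maximal ideal with domain localization is the kernel of the
localization map -/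
theorem minimalPrime_eq_ker {B : Type u} [CommRing B] (q : Ideal B) [q.IsMaximal]
    [IsDomain (Localization.AtPrime q)] (P : Ideal B) (hP : P ∈ minimalPrimes B) (hPq : P ≤ q) :
    P = RingHom.ker (algebraMap B (Localization.AtPrime q)) := by
  have hprime : (RingHom.ker (algebraMap B (Localization.AtPrime q))).IsPrime :=
    RingHom.ker_isPrime _
  have hle : RingHom.ker (algebraMap B (Localization.AtPrime q)) ≤ P := by
    intro x hx
    rw [RingHom.mem_ker, IsLocalization.map_eq_zero_iff q.primeCompl] at hx
    obtain ⟨s, hs⟩ := hx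
    have hmem : (s : B) * x ∈ P := by rw [hs]; exact zero_mem _
    rcases hP.1.1.mem_or_mem hmem with h1 | h1
    · exact absurd (hPq h1) s.2
    · exact h1
  exact le_antisymm (hP.2 ⟨hprime, bot_le⟩ hle) hle

theorem exists_pi_quotient_minimalPrimes (B : Type u) [CommRing B] [IsNoetherianRing B]
    (h : ∀ (q : Ideal B) [q.IsMaximal], IsDomain (Localization.AtPrime q)) :
    ∃ (n : ℕ) (P : Fin n → Ideal B), (∀ i, (P i).IsPrime) ∧ Pairwise (IsCoprime on P) ∧
      ⨅ i, P i = ⊥ := by
  classical
  haveI : IsReduced B := by
    refine isReduced_ofLocalizationMaximal B fun q hq => ?_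
    haveI := hq
    haveI := h q
    infer_instance
  have hfin : (minimalPrimes B).Finite := minimalPrimes.finite_of_isNoetherianRing B
  haveI : Fintype (minimalPrimes B) := hfin.fintype
  let e : Fin (Fintype.card (minimalPrimes B)) ≃ minimalPrimes B := (Fintype.equivFin _).symm
  refine ⟨_, fun i => (e i).1, fun i => (e i).2.1.1, ?_, ?_⟩
  · intro i j hij
    change IsCoprime (e i).1 (e j).1
    rw [Ideal.isCoprime_iff_sup_eq]
    by_contra hne
    obtain ⟨q, hq, hle⟩ := Ideal.exists_le_maximal _ hne
    haveI := hq
    haveI := h q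
    have h1 := minimalPrime_eq_ker q (e i).1 (e i).2 (le_sup_left.trans hle)
    have h2 := minimalPrime_eq_ker q (e j).1 (e j).2 (le_sup_right.trans hle)
    exact hij (e.injective (Subtype.ext (h1.trans h2.symm)))
  · have h1 : sInf (minimalPrimes B) = ⊥ := by
      rw [minimalPrimes, Ideal.sInf_minimalPrimes]
      exact nilradical_eq_zero B
    rw [← h1]
    apply le_antisymm
    · refine le_sInf fun P hP => ?_
      refine (iInf_le _ (e.symm ⟨P, hP⟩)).trans ?_
      change (e (e.symm ⟨P, hP⟩)).1 ≤ P
      rw [Equiv.apply_symm_apply]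
    · exact le_iInf fun i => sInf_le (e i).2


theorem main (A B : Type u) [CommRing A] [IsDedekindDomain A] [CommRing B] [Algebra A B]
    [Algebra.Etale A B] :
    (∃ (n : ℕ) (D : Fin n → Type u) (_ : ∀ i, CommRing (D i)) (_ : ∀ i, IsDedekindDomain (D i)),
      Nonempty (B ≃+* ∀ i, D i)) ∧
    ∀ (q : Ideal B) [q.IsMaximal], ¬ IsField (Localization.AtPrime q) →
      ∃ _ : IsDomain (Localization.AtPrime q), IsDiscreteValuationRing (Localization.AtPrime q) := by
  classical
  refine ⟨?_, fun q _ hq => (field_or_dvr_localization A B q).resolve_left hq⟩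
  haveI : IsNoetherianRing B := Algebra.FiniteType.isNoetherianRing A B
  have hdom : ∀ (q : Ideal B) [q.IsMaximal], IsDomain (Localization.AtPrime q) := by
    intro q _
    rcases field_or_dvr_localization A B q with h | ⟨h, -⟩
    · exact h.isDomain
    · exact h
  obtain ⟨n, P, hPprime, hcop, hinf⟩ := exists_pi_quotient_minimalPrimes B hdom
  let e₀ : B ≃+* ∀ i, B ⧸ P i :=
    (RingEquiv.quotientBot B).symm.trans
      ((Ideal.quotEquivOfEq hinf.symm).trans (Ideal.quotientInfRingEquivPiQuotient P hcop))
  have he₀ : ∀ b : B, e₀ b = fun i => Ideal.Quotient.mk (P i) b := fun b => rfl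
  let e : B ≃ₐ[A] ∀ i, B ⧸ P i := AlgEquiv.ofRingEquiv (f := e₀) (fun a => by
    rw [he₀]
    rfl)
  haveI : Algebra.FormallyEtale A (∀ i, B ⧸ P i) := Algebra.FormallyEtale.of_equiv e
  have hfe : ∀ i, Algebra.FormallyEtale A (B ⧸ P i) :=
    (Algebra.FormallyEtale.pi_iff (fun i => B ⧸ P i)).1 inferInstance
  refine ⟨n, fun i => B ⧸ P i, inferInstance, fun i => ?_, ⟨e₀⟩⟩
  haveI := hPprime i
  haveI := hfe i
  haveI : Algebra.FiniteType A (B ⧸ P i) :=
    Algebra.FiniteType.of_surjective (Ideal.Quotient.mkₐ A (P i)) Ideal.Quotient.mk_surjective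
  haveI : Algebra.FinitePresentation A (B ⧸ P i) := Algebra.FinitePresentation.of_finiteType.1 inferInstance
  haveI : Algebra.Etale A (B ⧸ P i) := ⟨inferInstance, inferInstance⟩
  haveI : IsDedekindDomainDvr (B ⧸ P i) :=
    { toIsNoetherian := inferInstance
      is_dvr_at_nonzero_prime := fun Q hQ hQp => by
        haveI := hQp
        rcases field_or_dvr_localization A (B ⧸ P i) Q with h | ⟨_, h⟩
        · exact absurd h (IsLocalization.AtPrime.not_isField (B ⧸ P i) hQ _)
        · exact h }
  infer_instance

end Groth.Agent.Lib.Helper12.EtDedekind
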