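import Mathlib
import Groth.Prelude.Def_W4c1chowmix47Eta

/-!
# The pointwise construction `EtaPt`: basic facts on the field endofunctor and evaluation maps
-/

set_option autoImplicit false
set_option linter.unusedSectionVars false

universe u

open EtaPt

namespace Groth.Agent.Lib.Helper12.Eta

variable (η : FieldEndo.{u})

section FieldLevel

variable {K L E : Type u} [Field K] [Field L] [Field E]

lemma map_comp_apply (f : K →+* L) (g : L →+* E) (x : η.obj K) :
    η.map (g.comp f) x = η.map g (η.map f x) := by
  rw [η.map_comp]; rfl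

lemma map_id_apply (x : η.obj K) : η.map (RingHom.id K) x = x := by
  rw [η.map_id]; rfl

lemma eta_natural_apply (f : K →+* L) (x : K) : η.map f (η.eta K x) = η.eta L (f x) :=
  RingHom.congr_fun (η.eta_natural f) x

lemma map_bijective_of_bijective (f : K →+* L) (hf : Function.Bijective f) :
    Function.Bijective (η.map f) := by
  let e := RingEquiv.ofBijective f hf
  refine ⟨(η.map f).injective, fun y => ⟨η.map e.symm.toRingHom y, ?_⟩⟩
  rw [← map_comp_apply]
  have : f.comp e.symm.toRingHom = RingHom.id L := by
    ext x; exact e.apply_symm_apply x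
  rw [this, map_id_apply]

lemma eta_bijective_of_bijective (f : K →+* L) (hf : Function.Bijective f)
    (hK : Function.Bijective (η.eta K)) : Function.Bijective (η.eta L) := by
  have h1 : (η.eta L) ∘ f = (η.map f) ∘ (η.eta K) := by
    funext x; exact (eta_natural_apply η f x).symm
  have h2 : Function.Bijective ((η.eta L) ∘ f) := by
    rw [h1]; exact (map_bijective_of_bijective η f hf).comp hK
  exact (Function.Bijective.of_comp_iff _ hf).1 h2

lemma eta_bijective_iff_of_bijective (f : K →+* L) (hf : Function.Bijective f) :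
    Function.Bijective (η.eta K) ↔ Function.Bijective (η.eta L) := by
  refine ⟨eta_bijective_of_bijective η f hf, fun h => ?_⟩
  let e := RingEquiv.ofBijective f hf
  exact eta_bijective_of_bijective η e.symm.toRingHom e.symm.bijective h

/-- uniqueness of `e^n`-th roots in a field receiving a map from `K`. -/
lemma eq_of_pow_expChar_pow_eq {K L : Type*} [Field K] [Field L] (f : K →+* L) (n : ℕ) {x y : L}
    (h : x ^ ringExpChar K ^ n = y ^ ringExpChar K ^ n) : x = y := by
  have : ExpChar L (ringExpChar K) := expChar_of_injective_ringHom f.injective _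
  exact iterateFrobenius_inj L (ringExpChar K) n (by simpa [iterateFrobenius_def] using h)

/-- A field map is purely inseparable in the naive sense. -/
def PI {K K' : Type*} [Field K] [Field K'] (i : K →+* K') : Prop :=
  ∀ x : K', ∃ n : ℕ, x ^ ringExpChar K ^ n ∈ i.range

lemma PI_eta : PI (η.eta K) := fun x => η.exists_pow_mem_range_eta K x

lemma ringHom_ext_of_PI {K K' L : Type*} [Field K] [Field K'] [Field L] {i : K →+* K'} (hi : PI i)
    {φ ψ : K' →+* L} (h : φ.comp i = ψ.comp i) : φ = ψ := by
  refine RingHom.ext fun x => ?_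
  obtain ⟨n, y, hy⟩ := hi x
  refine eq_of_pow_expChar_pow_eq (φ.comp i) n ?_
  rw [← map_pow, ← map_pow, ← hy]
  exact RingHom.congr_fun h y

lemma PI_of_comp {K K' L : Type*} [Field K] [Field K'] [Field L] {i : K →+* K'} {φ : K' →+* L}
    (h : PI (φ.comp i)) : PI i := by
  intro x
  obtain ⟨n, y, hy⟩ := h (φ x)
  refine ⟨n, y, φ.injective ?_⟩
  rw [map_pow]; exact hy

lemma ringHom_ext_of_comp_eta {L : Type*} [Field L] {φ ψ : η.obj K →+* L}
    (h : φ.comp (η.eta K) = ψ.comp (η.eta K)) : φ = ψ :=
  ringHom_ext_of_PI (PI_eta η) h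

lemma eta_obj : η.eta (η.obj K) = η.map (η.eta K) :=
  ringHom_ext_of_comp_eta η (η.eta_natural (η.eta K)).symm

lemma eta_obj_bijective : Function.Bijective (η.eta (η.obj K)) := by
  rw [eta_obj]; exact η.bijective_map_eta K

/-- if `φ ∘ i = η_K` then `F(i)` is bijective -/
lemma map_bijective_of_factor (i : K →+* L) (φ : L →+* η.obj K) (h : φ.comp i = η.eta K) :
    Function.Bijective (η.map i) := by
  have h1 : (η.map φ).comp (η.map i) = η.map (η.eta K) := by rw [← η.map_comp, h]
  have h2 : Function.Bijective ((η.map φ) ∘ (η.map i)) := by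
    rw [← RingHom.coe_comp, h1]; exact η.bijective_map_eta K
  have h3 : Function.Bijective (η.map φ) :=
    ⟨(η.map φ).injective, Function.Surjective.of_comp h2.2⟩
  exact (Function.Bijective.of_comp_iff' h3 _).1 h2

/-- if `F(i)` is bijective then `η_K` factors through `i`. -/
lemma exists_factor_of_map_bijective (i : K →+* L) (h : Function.Bijective (η.map i)) :
    ∃ φ : L →+* η.obj K, φ.comp i = η.eta K := by
  let e := RingEquiv.ofBijective (η.map i) h
  refine ⟨e.symm.toRingHom.comp (η.eta L), RingHom.ext fun x => ?_⟩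
  change e.symm (η.eta L (i x)) = η.eta K x
  rw [← eta_natural_apply]
  exact e.symm_apply_apply _

lemma PI_of_map_bijective (i : K →+* L) (h : Function.Bijective (η.map i)) : PI i := by
  obtain ⟨φ, hφ⟩ := exists_factor_of_map_bijective η i h
  exact PI_of_comp (φ := φ) (hφ ▸ PI_eta η)

/-- the factorisation `F(i) ∘ φ = η_L` when `φ ∘ i = η_K`. -/
lemma map_comp_factor (i : K →+* L) (φ : L →+* η.obj K) (h : φ.comp i = η.eta K) :
    (η.map i).comp φ = η.eta L := by
  have h1 : (η.map φ).comp ((η.map i).comp φ) = (η.map φ).comp (η.eta L) := by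
    rw [← RingHom.comp_assoc, ← η.map_comp, h, η.eta_natural φ, eta_obj]
  exact RingHom.ext fun x => (η.map φ).injective (RingHom.congr_fun h1 x)

lemma eta_bijective_of_perfectField [PerfectField K] : Function.Bijective (η.eta K) := by
  refine ⟨(η.eta K).injective, fun x => ?_⟩
  obtain ⟨n, y, hy⟩ := η.exists_pow_mem_range_eta K x
  obtain ⟨z, hz⟩ := (iterateFrobeniusEquiv K (ringExpChar K) n).surjective y
  refine ⟨z, eq_of_pow_expChar_pow_eq (η.eta K) n ?_⟩
  rw [← hy, ← map_pow, ← hz]
  simp [iterateFrobenius_def]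

end FieldLevel

end Groth.Agent.Lib.Helper12.Eta
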