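import Groth.Agent.Lib.Helper12.Eta9

/-!
# The pointwise construction `EtaPt`: the integral closures `Abar p` and the structure of `M A`
-/

set_option autoImplicit false
set_option linter.unusedSectionVars false

universe u

open EtaPt

namespace Groth.Agent.Lib.Helper12.Eta

variable (η : FieldEndo.{u})

section Abar

variable {A : Type u} [CommRing A]

/-- `F(k(p))` as an `A`-algebra. -/
def FK (p : PrimeSpectrum A) : Type u := η.obj p.asIdeal.ResidueField

noncomputable instance (p : PrimeSpectrum A) : Field (FK η p) := η.fld _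

noncomputable instance (p : PrimeSpectrum A) : Algebra A (FK η p) :=
  ((η.eta _).comp (algebraMap A p.asIdeal.ResidueField)).toAlgebra

lemma algebraMap_FK (p : PrimeSpectrum A) (a : A) :
    algebraMap A (FK η p) a = η.eta _ (algebraMap A p.asIdeal.ResidueField a) := rfl

lemma algebraMap_FK_eq_zero_iff (p : PrimeSpectrum A) (a : A) :
    algebraMap A (FK η p) a = 0 ↔ a ∈ p.asIdeal := by
  change η.eta _ (algebraMap A p.asIdeal.ResidueField a) = 0 ↔ _
  rw [map_eq_zero, Ideal.algebraMap_residueField_eq_zero]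

lemma eta_FK_bijective (p : PrimeSpectrum A) : Function.Bijective (η.eta (FK η p)) :=
  eta_obj_bijective η (K := p.asIdeal.ResidueField)

/-- the integral closure of `A` in `F(k(p))`. -/
noncomputable abbrev Abar (p : PrimeSpectrum A) : Subalgebra A (FK η p) := integralClosure A (FK η p)

lemma exists_mul_isIntegral (p : PrimeSpectrum A) (z : FK η p) :
    ∃ s : A, s ∉ p.asIdeal ∧ IsIntegral A (z * algebraMap A (FK η p) s) := by
  obtain ⟨n, w, hw⟩ := η.exists_pow_mem_range_eta p.asIdeal.ResidueField z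
  obtain ⟨w', rfl⟩ := IsLocalRing.residue_surjective w
  obtain ⟨a, s, rfl⟩ := IsLocalization.exists_mk'_eq p.asIdeal.primeCompl w'
  set e := ringExpChar p.asIdeal.ResidueField ^ n with he
  have hepos : 0 < e := expChar_pow_pos p.asIdeal.ResidueField _ n
  have h1 : IsLocalRing.residue _ (IsLocalization.mk' (Localization.AtPrime p.asIdeal) a s) *
      algebraMap A p.asIdeal.ResidueField s = algebraMap A p.asIdeal.ResidueField a := by
    rw [IsScalarTower.algebraMap_apply A (Localization.AtPrime p.asIdeal) p.asIdeal.ResidueField,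
      IsScalarTower.algebraMap_apply A (Localization.AtPrime p.asIdeal) p.asIdeal.ResidueField,
      IsLocalRing.ResidueField.algebraMap_eq, ← map_mul, IsLocalization.mk'_spec]
  refine ⟨s, s.2, ?_⟩
  have hpow : ∀ (z' σ α w : η.obj p.asIdeal.ResidueField), w = z' ^ e → w * σ = α →
      (z' * σ) ^ e = α * σ ^ (e - 1) := by
    intro z' σ α w h1 h2
    have hσ : σ ^ e = σ * σ ^ (e - 1) := by rw [← pow_succ', Nat.sub_add_cancel hepos]
    rw [mul_pow, ← h1, hσ, ← mul_assoc, h2]
  have h2 : (z * algebraMap A (FK η p) s) ^ e = algebraMap A (FK η p) (a * s ^ (e - 1)) := by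
    have := hpow z (η.eta _ (algebraMap A p.asIdeal.ResidueField s))
      (η.eta _ (algebraMap A p.asIdeal.ResidueField a)) _ hw
      (by rw [← map_mul, h1])
    change ((id z : η.obj p.asIdeal.ResidueField) *
      η.eta _ (algebraMap A p.asIdeal.ResidueField s)) ^ e =
      η.eta _ (algebraMap A p.asIdeal.ResidueField (a * s ^ (e - 1)))
    rw [map_mul, map_mul, map_pow, map_pow]
    exact this
  refine ⟨Polynomial.X ^ e - Polynomial.C (a * s ^ (e - 1)),
    Polynomial.monic_X_pow_sub_C _ hepos.ne', ?_⟩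
  simp [h2]

instance isFractionRing_Abar (p : PrimeSpectrum A) : IsFractionRing (Abar η p) (FK η p) where
  map_units := fun ⟨y, hy⟩ =>
    IsUnit.mk0 _ (show algebraMap (Abar η p) (FK η p) y ≠ 0 from fun h =>
      mem_nonZeroDivisors_iff_ne_zero.mp hy (Subtype.ext h))
  surj := fun z => by
    obtain ⟨s, hs, hint⟩ := exists_mul_isIntegral η p z
    refine ⟨⟨⟨_, hint⟩, ⟨algebraMap A (Abar η p) s, mem_nonZeroDivisors_of_ne_zero fun h => hs ?_⟩⟩,
      rfl⟩
    rw [← algebraMap_FK_eq_zero_iff η p s]
    exact congrArg Subtype.val h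
  exists_of_eq := fun {x y} h => ⟨1, by simpa using Subtype.ext h⟩

instance isIntegrallyClosed_Abar (p : PrimeSpectrum A) : IsIntegrallyClosed (Abar η p) :=
  (isIntegrallyClosed_iff_isIntegrallyClosedIn (FK η p)).2 inferInstance

lemma InV_Abar (p : PrimeSpectrum A) : η.InV (Abar η p) := by
  let e : FractionRing (Abar η p) ≃ₐ[Abar η p] FK η p := FractionRing.algEquiv _ _
  exact (eta_bijective_iff_of_bijective η (e : FractionRing (Abar η p) →+* FK η p)
    e.bijective).2 (eta_FK_bijective η p)

/-- the canonical map `A → Abar p`. -/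
noncomputable abbrev fbar (p : PrimeSpectrum A) : A →+* Abar η p := algebraMap A (Abar η p)

lemma fbar_isIntegral (p : PrimeSpectrum A) : (fbar η p).IsIntegral :=
  algebraMap_isIntegral_iff.2 inferInstance

lemma ker_fbar (p : PrimeSpectrum A) : RingHom.ker (fbar η p) = p.asIdeal := by
  ext a
  rw [RingHom.mem_ker, ← algebraMap_FK_eq_zero_iff η p a]
  exact ⟨fun h => congrArg Subtype.val h, fun h => Subtype.ext h⟩

lemma exists_comap_fbar_eq (p P : PrimeSpectrum A) (h : p.asIdeal ≤ P.asIdeal) :
    ∃ Q : PrimeSpectrum (Abar η p), PrimeSpectrum.comap (fbar η p) Q = P := by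
  obtain ⟨Q, -, hQ, hQP⟩ := Ideal.exists_ideal_over_prime_of_isIntegral (S := Abar η p) P.asIdeal
    (⊥ : Ideal (Abar η p)) (by
      rw [← RingHom.ker_eq_comap_bot]
      exact (ker_fbar η p).le.trans h)
  exact ⟨⟨Q, hQ⟩, PrimeSpectrum.ext hQP⟩

lemma t_Abar_injective (p : PrimeSpectrum A) : Function.Injective (η.t (Abar η p)) := by
  intro a b hab
  have h2 := congrArg (ev η (algebraMap (Abar η p) (FK η p))) hab
  rw [ev_t, ev_t] at h2
  exact Subtype.ext ((η.eta _).injective h2)

lemma exists_t_eq_of_mem_M_Abar (p : PrimeSpectrum A) {y : η.N (Abar η p)}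
    (hy : y ∈ η.M (Abar η p)) : ∃ a, η.t (Abar η p) a = y :=
  exists_t_eq_of_mem_M_of_isIntegrallyClosed η (InV_Abar η p) hy

end Abar

section Struct

variable {A : Type u} [CommRing A]

/-- the point of `Spec A` of a minimal prime. -/
def minPt (i : minimalPrimes A) : PrimeSpectrum A := ⟨i.1, i.2.1.1⟩

lemma exists_minPt_le (P : PrimeSpectrum A) : ∃ i : minimalPrimes A, (minPt i).asIdeal ≤ P.asIdeal := by
  obtain ⟨p, hp, hpP⟩ := Ideal.exists_minimalPrimes_le (I := ⊥) (J := P.asIdeal) bot_le
  exact ⟨⟨p, hp⟩, hpP⟩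

lemma exists_comap_fbar_minPt (P : PrimeSpectrum A) :
    ∃ i : minimalPrimes A, ∃ Q : PrimeSpectrum (Abar η (minPt i)),
      PrimeSpectrum.comap (fbar η (minPt i)) Q = P := by
  obtain ⟨i, hi⟩ := exists_minPt_le P
  exact ⟨i, exists_comap_fbar_eq η (minPt i) P hi⟩

/-- The structure of `M A`: membership is tested on the integral closures at the minimal
primes. -/
theorem mem_M_iff_forall_minimalPrimes (x : η.N A) :
    x ∈ η.M A ↔ ∀ i : minimalPrimes A,
      ∃ a : Abar η (minPt i), η.t _ a = η.Nmap (fbar η (minPt i)) x := by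
  constructor
  · intro hx i
    exact exists_t_eq_of_mem_M_Abar η (minPt i) (Nmap_mem_M η _ hx)
  · intro h
    refine mem_M_of_forall_Nmap_mem_M η (fun i : minimalPrimes A => Abar η (minPt i))
      (fun i => fbar η (minPt i)) (fun i => fbar_isIntegral η (minPt i))
      (exists_comap_fbar_minPt η) x (fun i => ?_)
    obtain ⟨a, ha⟩ := h i
    rw [← ha]
    exact η.t_mem_M _ a

lemma eq_zero_of_forall_Nmap_fbar_eq_zero (x : η.N A)
    (h : ∀ i : minimalPrimes A, η.Nmap (fbar η (minPt i)) x = 0) : x = 0 :=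
  eq_zero_of_forall_Nmap_eq_zero η (fun i : minimalPrimes A => Abar η (minPt i))
    (fun i => fbar η (minPt i)) (exists_comap_fbar_minPt η) x h

end Struct

end Groth.Agent.Lib.Helper12.Eta
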