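import Groth.Agent.Lib.Helper12.Eta10

/-!
# The pointwise construction `EtaPt`: integrality of `q` and the primes of `M A`
-/

set_option autoImplicit false
set_option linter.unusedSectionVars false

universe u

open EtaPt

namespace Groth.Agent.Lib.Helper12.Eta

variable (η : FieldEndo.{u})

section Phi

variable {A : Type u} [CommRing A]

lemma q_Abar_bijective (p : PrimeSpectrum A) : Function.Bijective (η.q (Abar η p)) :=
  ⟨fun _ _ h => t_Abar_injective η p (congrArg Subtype.val h), fun y =>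
    let ⟨a, ha⟩ := exists_t_eq_of_mem_M_Abar η p y.2
    ⟨a, Subtype.ext ha⟩⟩

/-- the component map `M A → Abar p`. -/
noncomputable def Phi (p : PrimeSpectrum A) : η.M A →+* Abar η p :=
  (RingEquiv.ofBijective (η.q (Abar η p)) (q_Abar_bijective η p)).symm.toRingHom.comp
    (Mmap η (fbar η p))

lemma q_Phi (p : PrimeSpectrum A) (x : η.M A) :
    η.q _ (Phi η p x) = Mmap η (fbar η p) x :=
  (RingEquiv.ofBijective (η.q (Abar η p)) (q_Abar_bijective η p)).apply_symm_apply _

lemma t_Phi (p : PrimeSpectrum A) (x : η.M A) :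
    η.t _ (Phi η p x) = η.Nmap (fbar η p) x :=
  congrArg Subtype.val (q_Phi η p x)

lemma Phi_q (p : PrimeSpectrum A) (a : A) : Phi η p (η.q A a) = fbar η p a := by
  apply t_Abar_injective η p
  rw [t_Phi]
  exact η.Nmap_t_apply _ a

lemma Phi_comp_q (p : PrimeSpectrum A) : (Phi η p).comp (η.q A) = fbar η p :=
  RingHom.ext (Phi_q η p)

lemma eq_zero_of_forall_Phi_eq_zero (x : η.M A)
    (h : ∀ i : minimalPrimes A, Phi η (minPt i) x = 0) : x = 0 := by
  apply Subtype.ext
  apply eq_zero_of_forall_Nmap_fbar_eq_zero η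
  intro i
  rw [← t_Phi, h i, map_zero]

open Polynomial in
/-- a common monic polynomial for finitely many integral elements. -/
lemma exists_monic_forall_eval₂_eq_zero (hA : (minimalPrimes A).Finite)
    (y : ∀ i : minimalPrimes A, Abar η (minPt i)) :
    ∃ P : A[X], P.Monic ∧ ∀ i, eval₂ (fbar η (minPt i)) (y i) P = 0 := by
  have := hA.fintype
  have h : ∀ i, ∃ P : A[X], P.Monic ∧ eval₂ (fbar η (minPt i)) (y i) P = 0 :=
    fun i => fbar_isIntegral η (minPt i) (y i)
  choose P hPm hP using h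
  refine ⟨∏ i, P i, monic_prod_of_monic _ _ (fun i _ => hPm i), fun i => ?_⟩
  rw [eval₂_finset_prod]
  exact Finset.prod_eq_zero (Finset.mem_univ i) (hP i)

open Polynomial in
theorem q_isIntegral (hA : (minimalPrimes A).Finite) : (η.q A).IsIntegral := by
  intro x
  obtain ⟨P, hPm, hP⟩ := exists_monic_forall_eval₂_eq_zero η hA (fun i => Phi η (minPt i) x)
  refine ⟨P, hPm, eq_zero_of_forall_Phi_eq_zero η _ (fun i => ?_)⟩
  rw [hom_eval₂, Phi_comp_q]
  exact hP i

end Phi

section Primes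

variable {A : Type u} [CommRing A]

/-- the product of the component maps. -/
noncomputable def PhiPi : η.M A →+* ∀ i : minimalPrimes A, Abar η (minPt i) :=
  Pi.ringHom fun i => Phi η (minPt i)

lemma PhiPi_injective : Function.Injective (PhiPi (A := A) η) := by
  rw [injective_iff_map_eq_zero]
  intro x hx
  exact eq_zero_of_forall_Phi_eq_zero η x (fun i => congrFun hx i)

open Polynomial in
lemma PhiPi_isIntegral (hA : (minimalPrimes A).Finite) : (PhiPi (A := A) η).IsIntegral := by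
  intro y
  obtain ⟨P, hPm, hP⟩ := exists_monic_forall_eval₂_eq_zero η hA y
  refine ⟨P.map (η.q A), hPm.map _, ?_⟩
  rw [eval₂_map]
  funext i
  have := hom_eval₂ P ((PhiPi η).comp (η.q A)) (Pi.evalRingHom _ i) y
  change _ = eval₂ _ (y i) P at this
  change Pi.evalRingHom _ i _ = 0
  rw [this]
  have e : (Pi.evalRingHom (fun i : minimalPrimes A => Abar η (minPt i)) i).comp
      ((PhiPi η).comp (η.q A)) = fbar η (minPt i) := by
    rw [← RingHom.comp_assoc]
    exact Phi_comp_q η (minPt i)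
  rw [e]
  exact hP i

/-- membership in the contraction of a prime of `Abar p`. -/
lemma mem_comap_Phi_iff (p : PrimeSpectrum A) (𝔮 : PrimeSpectrum (Abar η p)) (x : η.M A) :
    x ∈ (PrimeSpectrum.comap (Phi η p) 𝔮).asIdeal ↔
      (x : η.N A) (PrimeSpectrum.comap (fbar η p) 𝔮) = 0 := by
  change Phi η p x ∈ 𝔮.asIdeal ↔ _
  rw [← Ideal.algebraMap_residueField_eq_zero, ← map_eq_zero (η.eta _)]
  change η.t _ (Phi η p x) 𝔮 = 0 ↔ _
  rw [t_Phi]
  change η.map _ ((x : η.N A) (PrimeSpectrum.comap (fbar η p) 𝔮)) = 0 ↔ _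
  exact map_eq_zero _

lemma comap_q_comap_Phi (p : PrimeSpectrum A) (𝔮 : PrimeSpectrum (Abar η p)) :
    PrimeSpectrum.comap (η.q A) (PrimeSpectrum.comap (Phi η p) 𝔮) =
      PrimeSpectrum.comap (fbar η p) 𝔮 := by
  rw [← PrimeSpectrum.comap_comp_apply, Phi_comp_q]

lemma apply_eq_zero_congr (x : η.N A) {P P' : PrimeSpectrum A} (h : P = P') :
    x P = 0 ↔ x P' = 0 := by subst h; rfl

lemma exists_eq_comap_Phi (hA : (minimalPrimes A).Finite) (Q : PrimeSpectrum (η.M A)) :
    ∃ (i : minimalPrimes A) (𝔮 : PrimeSpectrum (Abar η (minPt i))),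
      Q = PrimeSpectrum.comap (Phi η (minPt i)) 𝔮 := by
  have := hA.to_subtype
  let _ := (PhiPi (A := A) η).toAlgebra
  have hint : Algebra.IsIntegral (η.M A) (∀ i : minimalPrimes A, Abar η (minPt i)) :=
    ⟨PhiPi_isIntegral η hA⟩
  obtain ⟨𝔔, -, h𝔔, h𝔔Q⟩ := Ideal.exists_ideal_over_prime_of_isIntegral
    (S := ∀ i : minimalPrimes A, Abar η (minPt i)) Q.asIdeal ⊥ (by
      rw [← RingHom.ker_eq_comap_bot]
      have : RingHom.ker (algebraMap (η.M A) (∀ i : minimalPrimes A, Abar η (minPt i))) = ⊥ :=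
        (RingHom.injective_iff_ker_eq_bot _).1 (PhiPi_injective η)
      rw [this]; exact bot_le)
  obtain ⟨⟨i, 𝔮⟩, h⟩ := (PrimeSpectrum.sigmaToPi_bijective
    (fun i : minimalPrimes A => Abar η (minPt i))).2 ⟨𝔔, h𝔔⟩
  refine ⟨i, 𝔮, ?_⟩
  rw [PrimeSpectrum.sigmaToPi_apply] at h
  apply PrimeSpectrum.ext
  rw [← h𝔔Q]
  have h' := congrArg PrimeSpectrum.asIdeal h
  change Ideal.comap _ 𝔮.asIdeal = 𝔔 at h'
  rw [← h']
  rfl

/-- The primes of `M A`: `x ∈ Q` iff the component of `x` at the contraction of `Q` vanishes. -/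
theorem mem_prime_iff (hA : (minimalPrimes A).Finite) (Q : PrimeSpectrum (η.M A)) (x : η.M A) :
    x ∈ Q.asIdeal ↔ (x : η.N A) (PrimeSpectrum.comap (η.q A) Q) = 0 := by
  obtain ⟨i, 𝔮, rfl⟩ := exists_eq_comap_Phi η hA Q
  rw [mem_comap_Phi_iff]
  exact apply_eq_zero_congr η _ (comap_q_comap_Phi η _ 𝔮).symm

/-- evaluation of `M A` at a prime of `A`. -/
noncomputable def evM (P : PrimeSpectrum A) : η.M A →+* η.obj P.asIdeal.ResidueField :=
  (Pi.evalRingHom _ P).comp (η.M A).subtype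

lemma evM_apply (P : PrimeSpectrum A) (x : η.M A) : evM η P x = (x : η.N A) P := rfl

lemma evM_q (P : PrimeSpectrum A) (a : A) :
    evM η P (η.q A a) = η.eta _ (algebraMap A P.asIdeal.ResidueField a) := rfl

lemma ker_evM (hA : (minimalPrimes A).Finite) (Q : PrimeSpectrum (η.M A)) :
    RingHom.ker (evM η (PrimeSpectrum.comap (η.q A) Q)) = Q.asIdeal := by
  ext x
  rw [RingHom.mem_ker, evM_apply, mem_prime_iff η hA]

theorem comap_q_bijective (hA : (minimalPrimes A).Finite) :
    Function.Bijective (PrimeSpectrum.comap (η.q A)) := by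
  constructor
  · intro Q Q' h
    apply PrimeSpectrum.ext
    ext x
    rw [mem_prime_iff η hA, mem_prime_iff η hA]
    exact apply_eq_zero_congr η _ h
  · intro P
    refine ⟨⟨RingHom.ker (evM η P), RingHom.ker_isPrime _⟩, PrimeSpectrum.ext ?_⟩
    ext a
    change evM η P (η.q A a) = 0 ↔ _
    rw [evM_q, map_eq_zero, Ideal.algebraMap_residueField_eq_zero]

/-- the factorisation of `η` at `k(P)` through `k(P) → k(Q)`. -/
theorem exists_factor_residue (hA : (minimalPrimes A).Finite) (Q : PrimeSpectrum (η.M A)) :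
    ∃ φ : Q.asIdeal.ResidueField →+* η.obj (PrimeSpectrum.comap (η.q A) Q).asIdeal.ResidueField,
      φ.comp (Ideal.ResidueField.map (PrimeSpectrum.comap (η.q A) Q).asIdeal Q.asIdeal (η.q A) rfl) =
        η.eta (PrimeSpectrum.comap (η.q A) Q).asIdeal.ResidueField ∧
      ∀ x : η.M A, φ (algebraMap _ _ x) = (x : η.N A) (PrimeSpectrum.comap (η.q A) Q) := by
  let φ := liftOfKer Q (evM η (PrimeSpectrum.comap (η.q A) Q)) (ker_evM η hA Q)
  have hφ : ∀ x : η.M A, φ (algebraMap _ _ x) = (x : η.N A) (PrimeSpectrum.comap (η.q A) Q) :=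
    fun x => RingHom.congr_fun (liftOfKer_comp Q _ (ker_evM η hA Q)) x
  refine ⟨φ, Ideal.ResidueField.ringHom_ext (RingHom.ext fun a => ?_), hφ⟩
  change φ (Ideal.ResidueField.map _ _ (η.q A) rfl (algebraMap A _ a)) = _
  rw [Ideal.ResidueField.map_algebraMap, hφ]
  rfl

theorem Nmap_q_bijective (hA : (minimalPrimes A).Finite) :
    Function.Bijective (η.Nmap (η.q A)) := by
  apply Nmap_bijective_of_comap_bijective η _ (comap_q_bijective η hA)
  intro Q
  obtain ⟨φ, hφ, -⟩ := exists_factor_residue η hA Q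
  exact map_bijective_of_factor η _ φ hφ

end Primes

end Groth.Agent.Lib.Helper12.Eta
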