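import Groth.Agent.Lib.Helper12.Eta11

/-!
# The pointwise construction `EtaPt`: universal properties of `q : A → M A`
-/

set_option autoImplicit false
set_option linter.unusedSectionVars false

universe u

open EtaPt

namespace Groth.Agent.Lib.Helper12.Eta

variable (η : FieldEndo.{u})

section Epi

variable {A B C : Type u} [CommRing A] [CommRing B] [CommRing C]

instance isReduced_M : IsReduced (η.M A) :=
  isReduced_of_injective (η.M A).subtype Subtype.val_injective

/-- the residue field extensions of a map with `Nmap` bijective are purely inseparable. -/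
lemma PI_residue_of_Nmap_bijective (g : A →+* B) (hN : Function.Bijective (η.Nmap g))
    (Q : PrimeSpectrum B) :
    PI (Ideal.ResidueField.map (PrimeSpectrum.comap g Q).asIdeal Q.asIdeal g rfl) :=
  PI_of_map_bijective η _ (map_residue_bijective_of_Nmap_surjective η g hN.2 Q)

/-- two maps to a field which agree after `g` agree, when the residue field extensions of `g` are
purely inseparable and `Spec g` is injective. -/
lemma ringHom_field_ext (g : A →+* B) (hinj : Function.Injective (PrimeSpectrum.comap g))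
    (hPI : ∀ Q : PrimeSpectrum B,
      PI (Ideal.ResidueField.map (PrimeSpectrum.comap g Q).asIdeal Q.asIdeal g rfl))
    {L : Type u} [Field L] (u₁ u₂ : B →+* L) (h : u₁.comp g = u₂.comp g) : u₁ = u₂ := by
  have hQ : pt u₂ = pt u₁ := by
    apply hinj
    apply PrimeSpectrum.ext
    change Ideal.comap g (RingHom.ker u₂) = Ideal.comap g (RingHom.ker u₁)
    rw [RingHom.comap_ker, RingHom.comap_ker, h]
  have hker : RingHom.ker u₂ = (pt u₁).asIdeal := congrArg PrimeSpectrum.asIdeal hQ
  let v₁ := resLift u₁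
  let v₂ := liftOfKer (pt u₁) u₂ hker
  have hv₁ : v₁.comp (algebraMap B _) = u₁ := resLift_comp_algebraMap u₁
  have hv₂ : v₂.comp (algebraMap B _) = u₂ := liftOfKer_comp _ u₂ hker
  have h12 : v₁ = v₂ := by
    apply ringHom_ext_of_PI (hPI (pt u₁))
    apply Ideal.ResidueField.ringHom_ext
    refine RingHom.ext fun a => ?_
    change v₁ (Ideal.ResidueField.map _ _ g rfl (algebraMap A _ a)) =
      v₂ (Ideal.ResidueField.map _ _ g rfl (algebraMap A _ a))
    rw [Ideal.ResidueField.map_algebraMap]
    have e1 : v₁ (algebraMap B _ (g a)) = u₁ (g a) := RingHom.congr_fun hv₁ (g a)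
    have e2 : v₂ (algebraMap B _ (g a)) = u₂ (g a) := RingHom.congr_fun hv₂ (g a)
    rw [e1, e2]
    exact RingHom.congr_fun h a
  rw [← hv₁, ← hv₂, h12]

/-- a map with `Nmap` bijective is an epimorphism towards reduced rings. -/
theorem ringHom_ext_of_Nmap_bijective [IsReduced C] (g : A →+* B)
    (hN : Function.Bijective (η.Nmap g)) (h₁ h₂ : B →+* C) (h : h₁.comp g = h₂.comp g) :
    h₁ = h₂ := by
  refine RingHom.ext fun b => ?_
  rw [← sub_eq_zero]
  apply IsNilpotent.eq_zero
  rw [nilpotent_iff_mem_prime]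
  intro J hJ
  rw [← Ideal.algebraMap_residueField_eq_zero, map_sub, sub_eq_zero]
  have := ringHom_field_ext g (comap_bijective_of_Nmap_bijective η g hN).1
    (PI_residue_of_Nmap_bijective η g hN)
    ((algebraMap C J.ResidueField).comp h₁) ((algebraMap C J.ResidueField).comp h₂)
    (by rw [RingHom.comp_assoc, RingHom.comp_assoc, h])
  exact RingHom.congr_fun this b

theorem existsUnique_factor (g : A →+* B) (hg : g.IsIntegral)
    (hN : Function.Bijective (η.Nmap g)) : ∃! g' : B →+* η.M A, g'.comp g = η.q A := by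
  let e := RingEquiv.ofBijective (Mmap η g) (Mmap_bijective_of_Nmap_bijective η g hg hN)
  refine ⟨e.symm.toRingHom.comp (η.q B), RingHom.ext fun a => ?_, fun g'' hg'' => ?_⟩
  · change e.symm (η.q B (g a)) = η.q A a
    rw [RingEquiv.symm_apply_eq]
    exact (Mmap_q η g a).symm
  · apply ringHom_ext_of_Nmap_bijective η g hN
    rw [hg'']
    refine (RingHom.ext fun a => ?_)
    change η.q A a = e.symm (η.q B (g a))
    rw [eq_comm, RingEquiv.symm_apply_eq]
    exact (Mmap_q η g a).symm

theorem bijective_of_isIntegral_of_Nmap_bijective (hA : (minimalPrimes A).Finite)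
    [IsReduced B] (f : η.M A →+* B) (hf : f.IsIntegral) (hN : Function.Bijective (η.Nmap f)) :
    Function.Bijective f := by
  have hq := q_isIntegral η hA
  have hNq := Nmap_q_bijective η hA
  have hg : (f.comp (η.q A)).IsIntegral := RingHom.IsIntegral.trans _ _ hq hf
  have hNg : Function.Bijective (η.Nmap (f.comp (η.q A))) := by
    have : η.Nmap (f.comp (η.q A)) = (η.Nmap f).comp (η.Nmap (η.q A)) :=
      RingHom.ext fun x => Nmap_comp η _ _ x
    rw [this]
    exact hN.comp hNq
  obtain ⟨g', hg', -⟩ := existsUnique_factor η (f.comp (η.q A)) hg hNg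
  have h1 : g'.comp f = RingHom.id _ := by
    apply ringHom_ext_of_Nmap_bijective η (η.q A) hNq
    rw [RingHom.comp_assoc, hg', RingHom.id_comp]
  have h2 : f.comp g' = RingHom.id _ := by
    apply ringHom_ext_of_Nmap_bijective η (f.comp (η.q A)) hNg
    rw [RingHom.comp_assoc, hg', RingHom.id_comp]
  refine ⟨fun x y hxy => ?_, fun b => ⟨g' b, RingHom.congr_fun h2 b⟩⟩
  have := congrArg g' hxy
  have e1 : g' (f x) = x := RingHom.congr_fun h1 x
  have e2 : g' (f y) = y := RingHom.congr_fun h1 y
  rw [e1, e2] at this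
  exact this

/-- `Nmap q` and `t` agree on `M A`. -/
theorem Nmap_q_eq_t (hA : (minimalPrimes A).Finite) (x : η.M A) :
    η.Nmap (η.q A) (x : η.N A) = η.t (η.M A) x := by
  funext Q
  obtain ⟨φ, hφ, hφx⟩ := exists_factor_residue η hA Q
  have h1 := map_comp_factor η _ φ hφ
  change η.map _ ((x : η.N A) (PrimeSpectrum.comap (η.q A) Q)) =
    η.eta _ (algebraMap _ Q.asIdeal.ResidueField x)
  rw [← hφx, ← h1]
  rfl

theorem q_M_bijective (hA : (minimalPrimes A).Finite) : Function.Bijective (η.q (η.M A)) := by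
  have hNq := Nmap_q_bijective η hA
  constructor
  · intro x y hxy
    have h1 : η.t (η.M A) x = η.t (η.M A) y := congrArg Subtype.val hxy
    rw [← Nmap_q_eq_t η hA, ← Nmap_q_eq_t η hA] at h1
    exact Subtype.ext (hNq.1 h1)
  · intro y
    obtain ⟨x, hx, hxy⟩ := (bijOn_M_of_Nmap_bijective η (η.q A) (q_isIntegral η hA) hNq).2.2 y.2
    refine ⟨⟨x, hx⟩, Subtype.ext ?_⟩
    change η.t (η.M A) ⟨x, hx⟩ = y
    rw [← Nmap_q_eq_t η hA]
    exact hxy

end Epi

end Groth.Agent.Lib.Helper12.Eta
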