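import Groth.Agent.Lib.Helper12.Eta12

/-!
# The pointwise construction `EtaPt`: the relative ring `rel f`
-/

set_option autoImplicit false
set_option linter.unusedSectionVars false

universe u

open EtaPt

namespace Groth.Agent.Lib.Helper12.Eta

variable (η : FieldEndo.{u})

section Rho

variable {A B : Type u} [CommRing A] [CommRing B]

/-- an element of `B` with vanishing diagonal image is nilpotent. -/
lemma isNilpotent_of_t_eq_zero {b : B} (h : η.t B b = 0) : IsNilpotent b := by
  rw [nilpotent_iff_mem_prime]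
  intro J hJ
  have := congrFun h ⟨J, hJ⟩
  change η.eta _ (algebraMap B J.ResidueField b) = 0 at this
  rwa [map_eq_zero, Ideal.algebraMap_residueField_eq_zero] at this

/-- the map `rel f → M A` for `Spec f` surjective. -/
noncomputable def rho (f : A →+* B) (hs : Function.Surjective (PrimeSpectrum.comap f)) :
    η.rel f →+* η.M A :=
  ((η.M A).equivMapOfInjective (η.Nmap f)
      (Nmap_injective_of_comap_surjective η f hs)).symm.toRingHom.comp
    ((η.t B).restrict (η.rel f) ((η.M A).map (η.Nmap f)) (fun _ h => h))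

lemma Nmap_rho (f : A →+* B) (hs : Function.Surjective (PrimeSpectrum.comap f)) (c : η.rel f) :
    η.Nmap f (rho η f hs c : η.N A) = η.t B c := by
  have := ((η.M A).equivMapOfInjective (η.Nmap f)
      (Nmap_injective_of_comap_surjective η f hs)).apply_symm_apply
    ((η.t B).restrict (η.rel f) ((η.M A).map (η.Nmap f)) (fun _ h => h) c)
  have h2 := congrArg Subtype.val this
  rw [Subring.coe_equivMapOfInjective_apply] at h2
  exact h2

lemma rho_qRel (f : A →+* B) (hs : Function.Surjective (PrimeSpectrum.comap f)) (a : A) :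
    rho η f hs (η.qRel f a) = η.q A a := by
  apply Subtype.ext
  apply Nmap_injective_of_comap_surjective η f hs
  rw [Nmap_rho]
  exact (η.Nmap_t_apply f a).symm

lemma rho_comp_qRel (f : A →+* B) (hs : Function.Surjective (PrimeSpectrum.comap f)) :
    (rho η f hs).comp (η.qRel f) = η.q A := RingHom.ext (rho_qRel η f hs)

lemma isNilpotent_of_rho_eq_zero (f : A →+* B) (hs : Function.Surjective (PrimeSpectrum.comap f))
    {c : η.rel f} (h : rho η f hs c = 0) : IsNilpotent c := by
  have h1 : η.t B c = 0 := by rw [← Nmap_rho η f hs, h]; exact map_zero _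
  obtain ⟨m, hm⟩ := isNilpotent_of_t_eq_zero η h1
  exact ⟨m, Subtype.ext hm⟩

open Polynomial in
theorem qRel_isIntegral (hA : (minimalPrimes A).Finite) (f : A →+* B)
    (hs : Function.Surjective (PrimeSpectrum.comap f)) : (η.qRel f).IsIntegral := by
  intro c
  obtain ⟨P, hPm, hP⟩ := q_isIntegral η hA (rho η f hs c)
  have h1 : rho η f hs (eval₂ (η.qRel f) c P) = 0 := by
    rw [hom_eval₂, rho_comp_qRel]; exact hP
  obtain ⟨m, hm⟩ := isNilpotent_of_rho_eq_zero η f hs h1
  exact ⟨P ^ m, hPm.pow m, by rw [eval₂_pow, hm]⟩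

lemma rho_isIntegral (hA : (minimalPrimes A).Finite) (f : A →+* B)
    (hs : Function.Surjective (PrimeSpectrum.comap f)) : (rho η f hs).IsIntegral := by
  apply RingHom.IsIntegral.tower_top (η.qRel f)
  rw [rho_comp_qRel]
  exact q_isIntegral η hA

lemma comap_rho_surjective (hA : (minimalPrimes A).Finite) (f : A →+* B)
    (hs : Function.Surjective (PrimeSpectrum.comap f)) :
    Function.Surjective (PrimeSpectrum.comap (rho η f hs)) := by
  intro Q
  let _ := (rho η f hs).toAlgebra
  have hint : Algebra.IsIntegral (η.rel f) (η.M A) := ⟨rho_isIntegral η hA f hs⟩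
  obtain ⟨Q', -, hQ', hQ'Q⟩ := Ideal.exists_ideal_over_prime_of_isIntegral
    (S := η.M A) Q.asIdeal ⊥ (by
      rw [← RingHom.ker_eq_comap_bot]
      intro c hc
      obtain ⟨m, hm⟩ := isNilpotent_of_rho_eq_zero η f hs hc
      exact Q.2.mem_of_pow_mem m (hm ▸ Q.asIdeal.zero_mem))
  exact ⟨⟨Q', hQ'⟩, PrimeSpectrum.ext hQ'Q⟩

lemma comap_qRel_comap_rho (f : A →+* B) (hs : Function.Surjective (PrimeSpectrum.comap f))
    (Q' : PrimeSpectrum (η.M A)) :
    PrimeSpectrum.comap (η.qRel f) (PrimeSpectrum.comap (rho η f hs) Q') =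
      PrimeSpectrum.comap (η.q A) Q' := by
  rw [← PrimeSpectrum.comap_comp_apply, rho_comp_qRel]

theorem comap_qRel_bijective (hA : (minimalPrimes A).Finite) (f : A →+* B)
    (hs : Function.Surjective (PrimeSpectrum.comap f)) :
    Function.Bijective (PrimeSpectrum.comap (η.qRel f)) := by
  constructor
  · intro Q₁ Q₂ h
    obtain ⟨Q₁', rfl⟩ := comap_rho_surjective η hA f hs Q₁
    obtain ⟨Q₂', rfl⟩ := comap_rho_surjective η hA f hs Q₂
    rw [comap_qRel_comap_rho, comap_qRel_comap_rho] at h
    rw [(comap_q_bijective η hA).1 h]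
  · intro P
    obtain ⟨Q', rfl⟩ := (comap_q_bijective η hA).2 P
    exact ⟨_, comap_qRel_comap_rho η f hs Q'⟩

theorem exists_factor_residue_rel (hA : (minimalPrimes A).Finite) (f : A →+* B)
    (hs : Function.Surjective (PrimeSpectrum.comap f)) (Q : PrimeSpectrum (η.rel f)) :
    ∃ φ : Q.asIdeal.ResidueField →+* η.obj (PrimeSpectrum.comap (η.qRel f) Q).asIdeal.ResidueField,
      φ.comp (Ideal.ResidueField.map (PrimeSpectrum.comap (η.qRel f) Q).asIdeal Q.asIdeal
        (η.qRel f) rfl) = η.eta (PrimeSpectrum.comap (η.qRel f) Q).asIdeal.ResidueField := by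
  obtain ⟨Q', hQ'⟩ := comap_rho_surjective η hA f hs Q
  have hP : PrimeSpectrum.comap (η.q A) Q' = PrimeSpectrum.comap (η.qRel f) Q := by
    rw [← hQ', comap_qRel_comap_rho]
  let ψ : η.rel f →+* η.obj (PrimeSpectrum.comap (η.qRel f) Q).asIdeal.ResidueField :=
    (evM η (PrimeSpectrum.comap (η.qRel f) Q)).comp (rho η f hs)
  have hker : RingHom.ker ψ = Q.asIdeal := by
    ext c
    rw [RingHom.mem_ker]
    change (rho η f hs c : η.N A) (PrimeSpectrum.comap (η.qRel f) Q) = 0 ↔ _
    rw [← apply_eq_zero_congr η _ hP, ← mem_prime_iff η hA, ← hQ']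
    rfl
  let φ := liftOfKer Q ψ hker
  have hφ : ∀ c, φ (algebraMap _ _ c) = ψ c := fun c =>
    RingHom.congr_fun (liftOfKer_comp Q ψ hker) c
  refine ⟨φ, Ideal.ResidueField.ringHom_ext (RingHom.ext fun a => ?_)⟩
  change φ (Ideal.ResidueField.map _ _ (η.qRel f) rfl (algebraMap A _ a)) = _
  rw [Ideal.ResidueField.map_algebraMap, hφ]
  change evM η _ (rho η f hs (η.qRel f a)) = _
  rw [rho_qRel]
  rfl

theorem Nmap_qRel_bijective (hA : (minimalPrimes A).Finite) (f : A →+* B)
    (hs : Function.Surjective (PrimeSpectrum.comap f)) :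
    Function.Bijective (η.Nmap (η.qRel f)) := by
  apply Nmap_bijective_of_comap_bijective η _ (comap_qRel_bijective η hA f hs)
  intro Q
  obtain ⟨φ, hφ⟩ := exists_factor_residue_rel η hA f hs Q
  exact map_bijective_of_factor η _ φ hφ

/-- a factorisation through an integral map with `Nmap` bijective lands in the relative ring. -/
theorem range_le_rel_of_Nmap_bijective {B' : Type u} [CommRing B'] (f₁ : A →+* B')
    (f₂ : B' →+* B) (h₁ : f₁.IsIntegral) (hN : Function.Bijective (η.Nmap f₁)) :
    f₂.range ≤ η.rel (f₂.comp f₁) := by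
  rintro _ ⟨b', rfl⟩
  have h1 : η.t B' b' ∈ η.M B' := η.t_mem_M B' b'
  obtain ⟨x, hx, hxb⟩ := (bijOn_M_of_Nmap_bijective η f₁ h₁ hN).2.2 h1
  refine ⟨x, hx, ?_⟩
  rw [Nmap_comp, hxb, η.Nmap_t_apply]

end Rho

section IntClosure

variable (A B : Type u) [CommRing A] [CommRing B] [Algebra A B]

theorem rel_integralClosure (hA : (minimalPrimes A).Finite)
    (hs : Function.Surjective (PrimeSpectrum.comap (algebraMap A B))) :
    (η.rel (algebraMap A (integralClosure A B))).map (integralClosure A B).val.toRingHom =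
      η.rel (algebraMap A B) := by
  apply le_antisymm
  · rintro _ ⟨c, hc, rfl⟩
    exact map_mem_rel_of_comm η (algebraMap A (integralClosure A B)) (algebraMap A B)
      (RingHom.id A) (integralClosure A B).val.toRingHom rfl hc
  · intro b hb
    have hint : ∀ d : η.rel (algebraMap A B), IsIntegral A (d : B) := by
      intro d
      obtain ⟨P, hPm, hP⟩ := qRel_isIntegral η hA (algebraMap A B) hs d
      refine ⟨P, hPm, ?_⟩
      have := congrArg Subtype.val hP
      rw [← Subring.coe_subtype, Polynomial.hom_eval₂] at this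
      exact this
    let f₂ : η.rel (algebraMap A B) →+* integralClosure A B :=
      (η.rel (algebraMap A B)).subtype.codRestrict (integralClosure A B) hint
    have hcomp : f₂.comp (η.qRel (algebraMap A B)) = algebraMap A (integralClosure A B) :=
      RingHom.ext fun a => Subtype.ext rfl
    have := range_le_rel_of_Nmap_bijective η (η.qRel (algebraMap A B)) f₂
      (qRel_isIntegral η hA _ hs) (Nmap_qRel_bijective η hA _ hs)
    rw [hcomp] at this
    exact ⟨f₂ ⟨b, hb⟩, this ⟨⟨b, hb⟩, rfl⟩, rfl⟩

end IntClosure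

end Groth.Agent.Lib.Helper12.Eta
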