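import Groth.Agent.Lib.Helper12.Eta13

/-!
# The pointwise construction `EtaPt`: localization of `M`, and `M` on morphisms
-/

set_option autoImplicit false
set_option linter.unusedSectionVars false

universe u

open EtaPt

namespace Groth.Agent.Lib.Helper12.Eta

variable (η : FieldEndo.{u})

section InV

lemma InV_of_isFractionRing (R : Type u) [CommRing R] [IsDomain R] (K : Type u) [Field K]
    [Algebra R K] [IsFractionRing R K] (hK : Function.Bijective (η.eta K)) : η.InV R := by
  let e : FractionRing R ≃ₐ[R] K := FractionRing.algEquiv R K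
  exact (eta_bijective_iff_of_bijective η (e : FractionRing R →+* K) e.bijective).2 hK

lemma eta_bijective_of_InV (R : Type u) [CommRing R] [IsDomain R] (K : Type u) [Field K]
    [Algebra R K] [IsFractionRing R K] (hR : η.InV R) : Function.Bijective (η.eta K) := by
  let e : FractionRing R ≃ₐ[R] K := FractionRing.algEquiv R K
  exact (eta_bijective_iff_of_bijective η (e : FractionRing R →+* K) e.bijective).1 hR

/-- localizations of a domain in `V_η` (away from an element) stay in `V_η`. -/
lemma InV_away (D : Type u) [CommRing D] [IsDomain D] (hD : η.InV D) (d : D) (hd : d ≠ 0)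
    [IsDomain (Localization.Away d)] : η.InV (Localization.Away d) := by
  let K := FractionRing D
  have hM : Submonoid.powers d ≤ nonZeroDivisors D :=
    powers_le_nonZeroDivisors_of_noZeroDivisors hd
  let g : Localization.Away d →+* K :=
    IsLocalization.map _ (T := nonZeroDivisors D) (RingHom.id D) hM
  let _ := g.toAlgebra
  have : IsScalarTower D (Localization.Away d) K := IsScalarTower.of_algebraMap_eq'
    (by rw [RingHom.algebraMap_toAlgebra, IsLocalization.map_comp, RingHomCompTriple.comp_eq])
  have := IsFractionRing.isFractionRing_of_isDomain_of_isLocalization (Submonoid.powers d)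
    (Localization.Away d) K
  exact InV_of_isFractionRing η (Localization.Away d) K hD

end InV

section NmapEquiv

variable {A B : Type u} [CommRing A] [CommRing B]

lemma Nmap_bijective_of_bijective (g : A →+* B) (hg : Function.Bijective g) :
    Function.Bijective (η.Nmap g) := by
  let e := RingEquiv.ofBijective g hg
  have h1 : ∀ x, η.Nmap e.symm.toRingHom (η.Nmap g x) = x := by
    intro x
    rw [← Nmap_comp]
    have : e.symm.toRingHom.comp g = RingHom.id A := RingHom.ext fun a => e.symm_apply_apply a
    rw [this, Nmap_id]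
  have h2 : ∀ y, η.Nmap g (η.Nmap e.symm.toRingHom y) = y := by
    intro y
    rw [← Nmap_comp]
    have : g.comp e.symm.toRingHom = RingHom.id B := RingHom.ext fun a => e.apply_symm_apply a
    rw [this, Nmap_id]
  exact ⟨Function.LeftInverse.injective h1, Function.RightInverse.surjective h2⟩

end NmapEquiv

section LocA

/-- localization for an integrally closed domain in `V_η`. -/
lemma exists_pow_mul_eq_t_of_isIntegrallyClosed (D : Type u) [CommRing D] [IsDomain D]
    [IsIntegrallyClosed D] (hD : η.InV D) (d : D) (z : η.N D)
    (hz : η.Nmap (algebraMap D (Localization.Away d)) z ∈ η.M (Localization.Away d)) :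
    ∃ (n : ℕ) (a : D), η.t D d ^ n * z = η.t D a := by
  by_cases hd : d = 0
  · exact ⟨1, 0, by rw [hd, map_zero, pow_one, zero_mul]⟩
  have hM : Submonoid.powers d ≤ nonZeroDivisors D :=
    powers_le_nonZeroDivisors_of_noZeroDivisors hd
  have : IsDomain (Localization.Away d) := IsLocalization.isDomain_localization hM
  have : IsIntegrallyClosed (Localization.Away d) :=
    isIntegrallyClosed_of_isLocalization _ (Submonoid.powers d) hM
  obtain ⟨w, hw⟩ := exists_t_eq_of_mem_M_of_isIntegrallyClosed η (InV_away η D hD d hd) hz
  obtain ⟨a, s, rfl⟩ := IsLocalization.exists_mk'_eq (Submonoid.powers d) w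
  obtain ⟨m, hm⟩ := s.2
  replace hm : d ^ m = (s : D) := hm
  have h1 : IsLocalization.mk' (Localization.Away d) a s *
      algebraMap D (Localization.Away d) d ^ m = algebraMap D (Localization.Away d) a := by
    rw [← map_pow]
    change _ * algebraMap D (Localization.Away d) (d ^ m) = _
    rw [hm]
    exact IsLocalization.mk'_spec _ a s
  have h2 : η.Nmap (algebraMap D (Localization.Away d)) (η.t D d ^ m * z - η.t D a) = 0 := by
    rw [map_sub, map_mul, map_pow, η.Nmap_t_apply, η.Nmap_t_apply, ← hw, ← map_pow, ← map_mul,
      mul_comm, h1, sub_self]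
  have h3 := t_mul_eq_zero_of_Nmap_away_eq_zero η d (Localization.Away d) _ h2
  refine ⟨m + 1, d * a, ?_⟩
  rw [mul_sub, sub_eq_zero] at h3
  rw [pow_succ', mul_assoc, h3, map_mul]

end LocA

section LocM

variable {A : Type u} [CommRing A]

theorem exists_mem_M_away (hA : (minimalPrimes A).Finite) (f : A)
    (y : η.N (Localization.Away f)) (hy : y ∈ η.M (Localization.Away f)) :
    ∃ x ∈ η.M A, ∃ n : ℕ,
      y * η.t (Localization.Away f) (algebraMap A (Localization.Away f) f) ^ n =
        η.Nmap (algebraMap A (Localization.Away f)) x := by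
  obtain ⟨x₀, hx₀⟩ := Nmap_localization_surjective η (Submonoid.powers f) (Localization.Away f) y
  have key : ∀ i : minimalPrimes A, ∃ (n : ℕ) (a : Abar η (minPt i)),
      η.t _ (fbar η (minPt i) f) ^ n * η.Nmap (fbar η (minPt i)) x₀ = η.t _ a := by
    intro i
    apply exists_pow_mul_eq_t_of_isIntegrallyClosed η _ (InV_Abar η (minPt i))
    have hcomm : (algebraMap (Abar η (minPt i)) (Localization.Away (fbar η (minPt i) f))).comp
        (fbar η (minPt i)) = (Localization.awayMap (fbar η (minPt i)) f).comp
          (algebraMap A (Localization.Away f)) := by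
      refine RingHom.ext fun a => ?_
      simp only [RingHom.comp_apply, Localization.awayMap, IsLocalization.Away.map,
        IsLocalization.map_eq]
    rw [← Nmap_comp, hcomm, Nmap_comp, hx₀]
    exact Nmap_mem_M η _ hy
  choose n a hna using key
  have := hA.to_subtype
  obtain ⟨N, hN⟩ : ∃ N, ∀ i, n i ≤ N := by
    obtain ⟨N, hN⟩ := (Set.finite_range n).bddAbove
    exact ⟨N, fun i => hN ⟨i, rfl⟩⟩
  refine ⟨η.t A f ^ N * x₀, ?_, N, ?_⟩
  · rw [mem_M_iff_forall_minimalPrimes]
    intro i
    refine ⟨fbar η (minPt i) f ^ (N - n i) * a i, ?_⟩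
    rw [map_mul (η.t _), map_pow (η.t _), map_mul (η.Nmap _), map_pow (η.Nmap _),
      η.Nmap_t_apply, ← hna i, ← mul_assoc, ← pow_add, Nat.sub_add_cancel (hN i)]
  · rw [map_mul, map_pow, η.Nmap_t_apply, hx₀, mul_comm]

end LocM

end Groth.Agent.Lib.Helper12.Eta
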