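import Groth.Agent.Lib.Helper12.Eta14

/-!
# The pointwise construction `EtaPt`: localization of the relative ring
-/

set_option autoImplicit false
set_option linter.unusedSectionVars false

universe u

open EtaPt

namespace Groth.Agent.Lib.Helper12.Eta

variable (η : FieldEndo.{u})

section LocRel

variable {A B : Type u} [CommRing A] [CommRing B]

lemma awayMap_comp_algebraMap (φ : A →+* B) (f : A) :
    (Localization.awayMap φ f).comp (algebraMap A (Localization.Away f)) =
      (algebraMap B (Localization.Away (φ f))).comp φ := by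
  refine RingHom.ext fun a => ?_
  simp only [RingHom.comp_apply, Localization.awayMap, IsLocalization.Away.map,
    IsLocalization.map_eq]

lemma awayMap_algebraMap (φ : A →+* B) (f : A) (a : A) :
    Localization.awayMap φ f (algebraMap A (Localization.Away f) a) =
      algebraMap B (Localization.Away (φ f)) (φ a) :=
  RingHom.congr_fun (awayMap_comp_algebraMap φ f) a

theorem map_rel_le_rel_awayMap (φ : A →+* B) (f : A) :
    (η.rel φ).map (algebraMap B (Localization.Away (φ f))) ≤ η.rel (Localization.awayMap φ f) := by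
  rintro _ ⟨b, hb, rfl⟩
  exact map_mem_rel_of_comm η φ (Localization.awayMap φ f) (algebraMap A _)
    (algebraMap B _) (awayMap_comp_algebraMap φ f).symm hb

theorem exists_mem_rel_of_mem_rel_awayMap (hA : (minimalPrimes A).Finite) (φ : A →+* B) (f : A)
    (y : Localization.Away (φ f)) (hy : y ∈ η.rel (Localization.awayMap φ f)) :
    ∃ x ∈ η.rel φ, ∃ n : ℕ,
      y * algebraMap B (Localization.Away (φ f)) (φ f) ^ n =
        algebraMap B (Localization.Away (φ f)) x := by
  obtain ⟨z, hz, hzy⟩ := hy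
  obtain ⟨x', hx', n₁, hx'z⟩ := exists_mem_M_away η hA f z hz
  obtain ⟨b, s, rfl⟩ := IsLocalization.exists_mk'_eq (Submonoid.powers (φ f)) y
  obtain ⟨m, hm⟩ := s.2
  replace hm : φ f ^ m = (s : B) := hm
  set ℓA := algebraMap A (Localization.Away f)
  set ℓB := algebraMap B (Localization.Away (φ f))
  set φ' := Localization.awayMap φ f
  have hsq : ∀ w, η.Nmap φ' (η.Nmap ℓA w) = η.Nmap ℓB (η.Nmap φ w) := by
    intro w
    rw [← Nmap_comp, ← Nmap_comp, awayMap_comp_algebraMap]
  have h1 : IsLocalization.mk' (Localization.Away (φ f)) b s * ℓB (φ f) ^ m = ℓB b := by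
    rw [← map_pow, hm]
    exact IsLocalization.mk'_spec _ b s
  -- the element of `M A`
  have hx'' : x' * η.t A f ^ m ∈ η.M A :=
    (η.M A).mul_mem hx' ((η.M A).pow_mem (η.t_mem_M A f) m)
  have h2 : η.Nmap ℓB (η.t B (b * φ f ^ n₁) - η.Nmap φ (x' * η.t A f ^ m)) = 0 := by
    rw [map_sub, ← hsq, map_mul (η.Nmap ℓA), ← hx'z, map_pow (η.Nmap ℓA), η.Nmap_t_apply,
      η.Nmap_t_apply, map_mul (η.Nmap φ'), map_mul (η.Nmap φ'), hzy, map_pow (η.Nmap φ'),
      map_pow (η.Nmap φ'), η.Nmap_t_apply, awayMap_algebraMap, map_mul ℓB, map_pow ℓB, ← h1,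
      map_mul (η.t _), map_mul (η.t _), map_pow (η.t _), map_pow (η.t _)]
    ring
  have h3 := t_mul_eq_zero_of_Nmap_away_eq_zero η (φ f) (Localization.Away (φ f)) _ h2
  rw [mul_sub, sub_eq_zero] at h3
  refine ⟨φ f * (b * φ f ^ n₁), ⟨η.t A f * (x' * η.t A f ^ m),
    (η.M A).mul_mem (η.t_mem_M A f) hx'', ?_⟩, m + n₁ + 1, ?_⟩
  · rw [map_mul (η.Nmap φ), η.Nmap_t_apply, ← h3, ← map_mul]
  · rw [map_mul ℓB, map_mul ℓB, map_pow ℓB, ← h1]
    ring

theorem qRel_awayMap_bijective (hA : (minimalPrimes A).Finite) (φ : A →+* B)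
    (h : Function.Bijective (η.qRel φ)) (f : A) :
    Function.Bijective (η.qRel (Localization.awayMap φ f)) := by
  rw [qRel_bijective_iff] at h ⊢
  constructor
  · rw [Localization.awayMap_injective_iff]
    intro a ha
    exact ⟨0, by rw [pow_zero, one_mul]; exact h.1 (ha.trans (map_zero φ).symm)⟩
  · intro y hy
    obtain ⟨x, hx, n, hxy⟩ := exists_mem_rel_of_mem_rel_awayMap η hA φ f y hy
    obtain ⟨a, rfl⟩ := h.2 x hx
    refine ⟨IsLocalization.mk' (Localization.Away f) a (⟨f ^ n, n, rfl⟩ : Submonoid.powers f), ?_⟩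
    have hu : IsUnit (algebraMap B (Localization.Away (φ f)) (φ f) ^ n) :=
      (IsLocalization.map_units (Localization.Away (φ f))
        (⟨φ f, 1, pow_one _⟩ : Submonoid.powers (φ f))).pow n
    apply hu.mul_left_injective
    change _ * _ = y * _
    rw [hxy, ← awayMap_algebraMap, ← awayMap_algebraMap, ← map_pow, ← map_mul, ← map_pow]
    congr 1
    exact IsLocalization.mk'_spec _ a (⟨f ^ n, n, rfl⟩ : Submonoid.powers f)

end LocRel

section Cover

variable {A B : Type u} [CommRing A] [CommRing B]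

/-- an element killed by powers of a family generating the unit ideal is zero. -/
lemma eq_zero_of_forall_pow_mul_eq_zero {M : Type*} [AddCommGroup M] [Module A M] (s : Finset A)
    (hs : Ideal.span (s : Set A) = ⊤) (m : M) (h : ∀ f ∈ s, ∃ n : ℕ, f ^ n • m = 0) : m = 0 := by
  choose! n hn using h
  have h1 : ∀ f ∈ s, f ^ (s.sup n) • m = 0 := by
    intro f hf
    have : s.sup n = (s.sup n - n f) + n f := (Nat.sub_add_cancel (Finset.le_sup hf)).symm
    rw [this, pow_add, mul_smul, hn f hf, smul_zero]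
  have h2 := Ideal.span_pow_eq_top (s : Set A) hs (s.sup n)
  let I : Ideal A := LinearMap.ker (LinearMap.toSpanSingleton A M m)
  have h3 : Ideal.span ((fun x => x ^ s.sup n) '' (s : Set A)) ≤ I := by
    rw [Ideal.span_le]
    rintro _ ⟨f, hf, rfl⟩
    change LinearMap.toSpanSingleton A M m (f ^ s.sup n) = 0
    rw [LinearMap.toSpanSingleton_apply]
    exact h1 f hf
  rw [h2] at h3
  have h4 : (1 : A) ∈ I := h3 Submodule.mem_top
  change LinearMap.toSpanSingleton A M m 1 = 0 at h4
  rwa [LinearMap.toSpanSingleton_apply, one_smul] at h4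

lemma mem_range_of_forall_pow_mul_mem_range (φ : A →+* B) (s : Finset A)
    (hs : Ideal.span (s : Set A) = ⊤) (b : B) (h : ∀ f ∈ s, ∃ n : ℕ, φ f ^ n * b ∈ φ.range) :
    b ∈ φ.range := by
  let _ := φ.toAlgebra
  let Nsub : Submodule A B := LinearMap.range (Algebra.linearMap A B)
  have h0 : Nsub.mkQ b = 0 := by
    apply eq_zero_of_forall_pow_mul_eq_zero s hs
    intro f hf
    obtain ⟨n, a, ha⟩ := h f hf
    refine ⟨n, ?_⟩
    rw [← map_smul, Submodule.mkQ_apply, Submodule.Quotient.mk_eq_zero]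
    refine ⟨a, ?_⟩
    rw [Algebra.smul_def, map_pow]
    exact ha
  rw [Submodule.mkQ_apply, Submodule.Quotient.mk_eq_zero] at h0
  obtain ⟨a, ha⟩ := h0
  exact ⟨a, ha⟩

theorem qRel_bijective_of_cover (φ : A →+* B) (s : Finset A)
    (hspan : Ideal.span (s : Set A) = ⊤)
    (h : ∀ f ∈ s, Function.Bijective (η.qRel (Localization.awayMap φ f))) :
    Function.Bijective (η.qRel φ) := by
  rw [qRel_bijective_iff]
  constructor
  · rw [injective_iff_map_eq_zero]
    intro a ha
    apply eq_zero_of_forall_pow_mul_eq_zero s hspan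
    intro f hf
    have hf1 := ((qRel_bijective_iff η _).1 (h f hf)).1
    rw [Localization.awayMap_injective_iff] at hf1
    exact hf1 a ha
  · intro b hb
    apply mem_range_of_forall_pow_mul_mem_range φ s hspan
    intro f hf
    have hf2 := ((qRel_bijective_iff η _).1 (h f hf)).2
    obtain ⟨w, hw⟩ := hf2 _ (map_rel_le_rel_awayMap η φ f ⟨b, hb, rfl⟩)
    obtain ⟨a, t, rfl⟩ := IsLocalization.exists_mk'_eq (Submonoid.powers f) w
    obtain ⟨m, hm⟩ := t.2
    replace hm : f ^ m = (t : A) := hm
    have h1 : Localization.awayMap φ f (IsLocalization.mk' (Localization.Away f) a t) *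
        algebraMap B (Localization.Away (φ f)) (φ f ^ m) =
        algebraMap B (Localization.Away (φ f)) (φ a) := by
      rw [← map_pow, hm, ← awayMap_algebraMap, ← awayMap_algebraMap, ← map_mul,
        IsLocalization.mk'_spec]
    rw [hw, ← map_mul] at h1
    obtain ⟨⟨_, k, rfl⟩, hk⟩ := (IsLocalization.eq_iff_exists (Submonoid.powers (φ f)) _).1 h1
    refine ⟨k + m, f ^ k * a, ?_⟩
    change φ f ^ k * (b * φ f ^ m) = φ f ^ k * φ a at hk
    rw [map_mul, map_pow, ← hk]
    ring

end Cover

end Groth.Agent.Lib.Helper12.Eta
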