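import Groth.Agent.Lib.Helper12.Eta15

/-!
# The pointwise construction `EtaPt`: `M` on morphisms
-/

set_option autoImplicit false
set_option linter.unusedSectionVars false

universe u

open EtaPt

namespace Groth.Agent.Lib.Helper12.Eta

variable (η : FieldEndo.{u})

section Mor

variable {A B : Type u} [CommRing A] [CommRing B]

lemma comp_q_of_compat (f : A →+* B) (g : η.M A →+* η.M B)
    (hg : ∀ x : η.M A, ((g x : η.M B) : η.N B) = η.Nmap f (x : η.N A)) :
    g.comp (η.q A) = (η.q B).comp f := by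
  refine RingHom.ext fun a => Subtype.ext ?_
  change ((g (η.q A a) : η.M B) : η.N B) = η.t B (f a)
  rw [hg]
  exact η.Nmap_t_apply f a

open Polynomial in
theorem isIntegral_iff_of_compat (hA : (minimalPrimes A).Finite) (hB : (minimalPrimes B).Finite)
    (f : A →+* B) (g : η.M A →+* η.M B)
    (hg : ∀ x : η.M A, ((g x : η.M B) : η.N B) = η.Nmap f (x : η.N A)) :
    f.IsIntegral ↔ g.IsIntegral := by
  have hsq := comp_q_of_compat η f g hg
  constructor
  · intro hf
    apply RingHom.IsIntegral.tower_top (η.q A)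
    rw [hsq]
    exact RingHom.IsIntegral.trans _ _ hf (q_isIntegral η hB)
  · intro hgi b
    have h1 : ((η.q B).comp f).IsIntegral := by
      rw [← hsq]
      exact RingHom.IsIntegral.trans _ _ (q_isIntegral η hA) hgi
    obtain ⟨P, hPm, hP⟩ := h1 (η.q B b)
    rw [← hom_eval₂] at hP
    have h2 : η.t B (eval₂ f b P) = 0 := congrArg Subtype.val hP
    obtain ⟨m, hm⟩ := isNilpotent_of_t_eq_zero η h2
    exact ⟨P ^ m, hPm.pow m, by rw [eval₂_pow, hm]⟩

theorem comap_surjective_iff_of_compat (hA : (minimalPrimes A).Finite)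
    (hB : (minimalPrimes B).Finite) (f : A →+* B) (g : η.M A →+* η.M B)
    (hg : ∀ x : η.M A, ((g x : η.M B) : η.N B) = η.Nmap f (x : η.N A)) :
    Function.Surjective (PrimeSpectrum.comap f) ↔ Function.Surjective (PrimeSpectrum.comap g) := by
  have hsq := comp_q_of_compat η f g hg
  have hqA := comap_q_bijective η hA
  have hqB := comap_q_bijective η hB
  have hcomm : ∀ Q', PrimeSpectrum.comap (η.q A) (PrimeSpectrum.comap g Q') =
      PrimeSpectrum.comap f (PrimeSpectrum.comap (η.q B) Q') := by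
    intro Q'
    rw [← PrimeSpectrum.comap_comp_apply, ← PrimeSpectrum.comap_comp_apply, hsq]
  constructor
  · intro hf Q
    obtain ⟨P', hP'⟩ := hf (PrimeSpectrum.comap (η.q A) Q)
    obtain ⟨Q', rfl⟩ := hqB.2 P'
    exact ⟨Q', hqA.1 ((hcomm Q').trans hP')⟩
  · intro hgs P
    obtain ⟨Q, rfl⟩ := hqA.2 P
    obtain ⟨Q', rfl⟩ := hgs Q
    exact ⟨_, (hcomm Q').symm⟩

theorem Nmap_bijective_of_compat_bijective (hA : (minimalPrimes A).Finite)
    (hB : (minimalPrimes B).Finite) (f : A →+* B) (g : η.M A →+* η.M B)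
    (hg : ∀ x : η.M A, ((g x : η.M B) : η.N B) = η.Nmap f (x : η.N A))
    (hbij : Function.Bijective g) : Function.Bijective (η.Nmap f) := by
  have hsq := comp_q_of_compat η f g hg
  have h1 : (η.Nmap (η.q B)) ∘ (η.Nmap f) = (η.Nmap g) ∘ (η.Nmap (η.q A)) := by
    funext x
    change η.Nmap (η.q B) (η.Nmap f x) = η.Nmap g (η.Nmap (η.q A) x)
    rw [← Nmap_comp, ← Nmap_comp, hsq]
  have h2 : Function.Bijective ((η.Nmap (η.q B)) ∘ (η.Nmap f)) := by
    rw [h1]
    exact (Nmap_bijective_of_bijective η g hbij).comp (Nmap_q_bijective η hA)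
  exact (Function.Bijective.of_comp_iff' (Nmap_q_bijective η hB) _).1 h2

theorem exists_factor_of_Nmap_bijective' (f : A →+* B) (hN : Function.Bijective (η.Nmap f))
    (Q : PrimeSpectrum B) :
    ∃ φ : Q.asIdeal.ResidueField →+* η.obj (PrimeSpectrum.comap f Q).asIdeal.ResidueField,
      φ.comp (Ideal.ResidueField.map (PrimeSpectrum.comap f Q).asIdeal Q.asIdeal f rfl) =
        η.eta (PrimeSpectrum.comap f Q).asIdeal.ResidueField :=
  exists_factor_of_map_bijective η _ (map_residue_bijective_of_Nmap_surjective η f hN.2 Q)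

end Mor

end Groth.Agent.Lib.Helper12.Eta
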