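import Groth.Agent.Lib.Helper12.Eta16
import Groth.Agent.Lib.Helper6.UnivHomeoRF
import Groth.Prelude.Def_HTop2

/-!
# The pointwise construction `EtaPt`: universal homeomorphisms and seminormalization
-/

set_option autoImplicit false
set_option linter.unusedSectionVars false

universe u

open EtaPt CategoryTheory AlgebraicGeometry

namespace Groth.Agent.Lib.Helper12.Eta

variable (η : FieldEndo.{u})

section UH

variable {A B : Type u} [CommRing A] [CommRing B]

/-- an integral map with `Nmap` bijective induces a universal homeomorphism on spectra. -/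
theorem isUnivHomeo_SpecMap_of_Nmap_bijective (g : A →+* B) (hg : g.IsIntegral)
    (hN : Function.Bijective (η.Nmap g)) :
    FlatMor.IsUnivHomeo (Spec.map (CommRingCat.ofHom g)) := by
  rw [Groth.Agent.Lib.Helper6.UnivHomeoRing.isUnivHomeo_SpecMap_iff]
  have hbij := comap_bijective_of_Nmap_bijective η g hN
  refine ⟨hg, fun K _ σ τ h => ?_, hbij.2⟩
  exact ringHom_field_ext g hbij.1 (PI_residue_of_Nmap_bijective η g hN) σ τ h

end UH

section Ident

variable {A B : Type u} [CommRing A] [CommRing B]

/-- ring-level criterion for surjectivity of a residue field map. -/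
lemma residue_map_surjective_iff (g : A →+* B) (Q : PrimeSpectrum B) :
    Function.Surjective (Ideal.ResidueField.map (PrimeSpectrum.comap g Q).asIdeal Q.asIdeal g rfl) ↔
      ∀ c : B, ∃ s a : A, g s ∉ Q.asIdeal ∧ g s * c - g a ∈ Q.asIdeal := by
  set i := Ideal.ResidueField.map (PrimeSpectrum.comap g Q).asIdeal Q.asIdeal g rfl with hi
  constructor
  · intro H c
    obtain ⟨z, hz⟩ := H (algebraMap B _ c)
    obtain ⟨s, hs, a, hsa⟩ := Groth.Agent.Lib.Helper6.exists_denominator
      (PrimeSpectrum.comap g Q).asIdeal z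
    refine ⟨s, a, hs, ?_⟩
    rw [← Ideal.algebraMap_residueField_eq_zero, map_sub, map_mul, sub_eq_zero, ← hz,
      ← Ideal.ResidueField.map_algebraMap (PrimeSpectrum.comap g Q).asIdeal Q.asIdeal g rfl,
      ← Ideal.ResidueField.map_algebraMap (PrimeSpectrum.comap g Q).asIdeal Q.asIdeal g rfl,
      ← map_mul, mul_comm, hsa]
  · intro H z
    have hC : ∀ c : B, algebraMap B Q.asIdeal.ResidueField c ∈ i.fieldRange := by
      intro c
      obtain ⟨s, a, hs, hsa⟩ := H c
      rw [← Ideal.algebraMap_residueField_eq_zero, map_sub, map_mul, sub_eq_zero] at hsa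
      have hs0 : algebraMap B Q.asIdeal.ResidueField (g s) ≠ 0 := by
        rwa [Ne, Ideal.algebraMap_residueField_eq_zero]
      have : algebraMap B Q.asIdeal.ResidueField c =
          i (algebraMap A _ a) / i (algebraMap A _ s) := by
        rw [hi, Ideal.ResidueField.map_algebraMap, Ideal.ResidueField.map_algebraMap, ← hsa]
        field_simp
      rw [this]
      exact div_mem ⟨_, rfl⟩ ⟨_, rfl⟩
    obtain ⟨d, hd, c, hdc⟩ := Groth.Agent.Lib.Helper6.exists_denominator Q.asIdeal z
    have hd0 : algebraMap B Q.asIdeal.ResidueField d ≠ 0 := by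
      rwa [Ne, Ideal.algebraMap_residueField_eq_zero]
    have hz : z = algebraMap B _ c / algebraMap B _ d := by
      rw [← hdc]; field_simp
    have : z ∈ i.fieldRange := by
      rw [hz]; exact div_mem (hC c) (hC d)
    exact this

/-- for the identity endofunctor: trivial residue field extensions. -/
theorem residueFieldsIso_SpecMap_iff (g : A →+* B) :
    HTop.ResidueFieldsIso (Spec.map (CommRingCat.ofHom g)) ↔
      ∀ Q : PrimeSpectrum B, Function.Surjective
        (Ideal.ResidueField.map (PrimeSpectrum.comap g Q).asIdeal Q.asIdeal g rfl) := by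
  constructor
  · intro h Q
    rw [residue_map_surjective_iff]
    have h1 := h Q
    have h2 := ((ConcreteCategory.isIso_iff_bijective _).1 h1).2
    exact (Groth.Agent.Lib.Helper6.UnivHomeoRing.residueFieldMap_surjective_iff
      (CommRingCat.ofHom g) Q).1 h2
  · intro h Q
    have h2 := (Groth.Agent.Lib.Helper6.UnivHomeoRing.residueFieldMap_surjective_iff
      (CommRingCat.ofHom g) Q).2 ((residue_map_surjective_iff g Q).1 (h Q))
    have hinj : Function.Injective ((Spec.map (CommRingCat.ofHom g)).residueFieldMap Q) :=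
      ((Spec.map (CommRingCat.ofHom g)).residueFieldMap Q).hom.injective
    exact (ConcreteCategory.isIso_iff_bijective _).mpr ⟨hinj, h2⟩

theorem residueFieldsIso_of_Nmap_ident_bijective (g : A →+* B)
    (hN : Function.Bijective (FieldEndo.ident.{u}.Nmap g)) :
    HTop.ResidueFieldsIso (Spec.map (CommRingCat.ofHom g)) := by
  rw [residueFieldsIso_SpecMap_iff]
  intro Q
  exact (map_residue_bijective_of_Nmap_surjective FieldEndo.ident.{u} g hN.2 Q).2

theorem Nmap_ident_bijective_of_isUnivHomeo (g : A →+* B)
    (h1 : FlatMor.IsUnivHomeo (Spec.map (CommRingCat.ofHom g)))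
    (h2 : HTop.ResidueFieldsIso (Spec.map (CommRingCat.ofHom g))) :
    g.IsIntegral ∧ Function.Bijective (FieldEndo.ident.{u}.Nmap g) := by
  have h3 := (Groth.Agent.Lib.Helper6.UnivHomeoRing.isUnivHomeo_SpecMap_iff _).1 h1
  refine ⟨h3.1, ?_⟩
  have hbij : Function.Bijective (PrimeSpectrum.comap g) :=
    (Groth.Agent.Lib.Helper12.IsUnivHomeo.isHomeomorph h1).bijective
  apply Nmap_bijective_of_comap_bijective _ g hbij
  intro Q
  exact ⟨RingHom.injective _, (residueFieldsIso_SpecMap_iff g).1 h2 Q⟩

end Ident

end Groth.Agent.Lib.Helper12.Eta
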