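import Groth.Agent.Lib.Helper12.Eta17
import Groth.Prelude.Def_EGA4b

/-!
# The pointwise construction `EtaPt`: normal rings
-/

set_option autoImplicit false
set_option linter.unusedSectionVars false

universe u

open EtaPt

namespace Groth.Agent.Lib.Helper12.Eta

variable (η : FieldEndo.{u})

section MinComp

variable {A : Type u} [CommRing A]

lemma ev_algebraMap_FK (p : PrimeSpectrum A) (x : η.N A) :
    ev η (algebraMap A (FK η p)) x = η.map (η.eta p.asIdeal.ResidueField) (x p) := by
  have := ev_comp η (algebraMap A p.asIdeal.ResidueField) (η.eta p.asIdeal.ResidueField) x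
  rw [← apply_eq_ev] at this
  exact this

/-- the generic component of `Phi p x` is `x p`. -/
lemma eta_Phi (p : PrimeSpectrum A) (x : η.M A) :
    η.eta (FK η p) (algebraMap (Abar η p) (FK η p) (Phi η p x)) =
      η.map (η.eta p.asIdeal.ResidueField) ((x : η.N A) p) := by
  have h1 := t_Phi η p x
  have h2 := congrArg (ev η (algebraMap (Abar η p) (FK η p))) h1
  rw [ev_t, ev_Nmap] at h2
  have h3 : (algebraMap (Abar η p) (FK η p)).comp (fbar η p) = algebraMap A (FK η p) := rfl
  rw [h3, ev_algebraMap_FK] at h2
  exact h2

/-- elements of `M A` are determined by their components at the minimal primes. -/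
lemma eq_zero_of_forall_minPt_eq_zero {x : η.N A} (hx : x ∈ η.M A)
    (h : ∀ i : minimalPrimes A, x (minPt i) = 0) : x = 0 := by
  have := eq_zero_of_forall_Phi_eq_zero η ⟨x, hx⟩ (fun i => ?_)
  · exact congrArg Subtype.val this
  · have h2 := eta_Phi η (minPt i) ⟨x, hx⟩
    change _ = η.map _ (x (minPt i)) at h2
    rw [h i, map_zero, map_eq_zero] at h2
    exact Subtype.ext h2

end MinComp

section Normal

variable {A : Type u} [CommRing A]

lemma comap_bot_mem_minimalPrimes (P : Ideal A) [P.IsPrime] [IsDomain (Localization.AtPrime P)] :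
    (⊥ : Ideal (Localization.AtPrime P)).comap (algebraMap A (Localization.AtPrime P)) ∈
      minimalPrimes A := by
  have h1 := IsLocalization.minimalPrimes_map P.primeCompl (Localization.AtPrime P) (⊥ : Ideal A)
  rw [Ideal.map_bot] at h1
  have h2 : (⊥ : Ideal (Localization.AtPrime P)) ∈
      (⊥ : Ideal (Localization.AtPrime P)).minimalPrimes := by
    rw [Ideal.minimalPrimes_eq_subsingleton_self]; rfl
  rw [h1] at h2
  exact h2

/-- `η` is bijective at the fraction field of a localization of a normal ring. -/
lemma InV_localization_atPrime (P : Ideal A) [P.IsPrime] [IsDomain (Localization.AtPrime P)]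
    (hη : ∀ p : PrimeSpectrum A, p.asIdeal ∈ minimalPrimes A →
      Function.Bijective (η.eta p.asIdeal.ResidueField)) : η.InV (Localization.AtPrime P) := by
  let q₀ : PrimeSpectrum (Localization.AtPrime P) := ⟨⊥, Ideal.isPrime_bot⟩
  let p₀ : PrimeSpectrum A := PrimeSpectrum.comap (algebraMap A (Localization.AtPrime P)) q₀
  have hp₀ : p₀.asIdeal ∈ minimalPrimes A := comap_bot_mem_minimalPrimes P
  have hbij : Function.Bijective (Ideal.ResidueField.map p₀.asIdeal q₀.asIdeal
      (algebraMap A (Localization.AtPrime P)) rfl) :=
    (RingHom.surjectiveOnStalks_of_isLocalization P.primeCompl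
      (Localization.AtPrime P)).residueFieldMap_bijective _ _ rfl
  have h1 : Function.Bijective (η.eta q₀.asIdeal.ResidueField) :=
    eta_bijective_of_bijective η _ hbij (hη p₀ hp₀)
  exact InV_of_isFractionRing η (Localization.AtPrime P) (⊥ : Ideal (Localization.AtPrime P)).ResidueField h1

theorem q_bijective_of_isNormalRing (hn : EGA4.IsNormalRing A) (hA : (minimalPrimes A).Finite)
    (hη : ∀ p : PrimeSpectrum A, p.asIdeal ∈ minimalPrimes A →
      Function.Bijective (η.eta p.asIdeal.ResidueField)) : Function.Bijective (η.q A) := by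
  have := hA.fintype
  constructor
  · -- injectivity: `A` is reduced
    rw [injective_iff_map_eq_zero]
    intro a ha
    have h1 : η.t A a = 0 := congrArg Subtype.val ha
    have hnil := isNilpotent_of_t_eq_zero η h1
    apply eq_zero_of_localization
    intro J hJ
    have := (hn J).1
    exact (hnil.map (algebraMap A (Localization.AtPrime J))).eq_zero
  · rintro ⟨x, hx⟩
    -- the ideal of denominators
    let I : Ideal A :=
      { carrier := {r | ∃ a, η.t A r * x = η.t A a}
        add_mem' := by
          rintro r r' ⟨a, ha⟩ ⟨a', ha'⟩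
          exact ⟨a + a', by rw [map_add, add_mul, ha, ha', map_add]⟩
        zero_mem' := ⟨0, by rw [map_zero, zero_mul]⟩
        smul_mem' := by
          rintro c r ⟨a, ha⟩
          exact ⟨c * a, by rw [smul_eq_mul, map_mul, mul_assoc, ha, map_mul]⟩ }
    have hI : I = ⊤ := by
      by_contra hne
      obtain ⟨P, hPmax, hIP⟩ := Ideal.exists_le_maximal I hne
      have hPprime : P.IsPrime := hPmax.isPrime
      have hdom := (hn P).1
      have hic := (hn P).2
      set ℓ := algebraMap A (Localization.AtPrime P) with hℓ
      obtain ⟨w, hw⟩ := exists_t_eq_of_mem_M_of_isIntegrallyClosed η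
        (InV_localization_atPrime η P hη) (Nmap_mem_M η ℓ hx)
      obtain ⟨a, s, rfl⟩ := IsLocalization.exists_mk'_eq P.primeCompl w
      -- `z = t s * x - t a` vanishes on the generizations of `P`
      have hz : η.Nmap ℓ (η.t A s * x - η.t A a) = 0 := by
        rw [map_sub, map_mul, η.Nmap_t_apply, η.Nmap_t_apply, ← hw, ← map_mul, mul_comm,
          IsLocalization.mk'_spec, sub_self]
      have hzM : η.t A s * x - η.t A a ∈ η.M A :=
        (η.M A).sub_mem ((η.M A).mul_mem (η.t_mem_M A s) hx) (η.t_mem_M A a)
      -- choose elements killing the other minimal primes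
      have hu : ∀ i : minimalPrimes A, ∃ u : A, u ∉ P ∧
          (¬ (minPt i).asIdeal ≤ P → u ∈ (minPt i).asIdeal) := by
        intro i
        by_cases hi : (minPt i).asIdeal ≤ P
        · exact ⟨1, fun h1 => hPprime.ne_top ((Ideal.eq_top_iff_one P).2 h1), fun h => (h hi).elim⟩
        · obtain ⟨u, hu1, hu2⟩ := Set.not_subset.1 hi
          exact ⟨u, hu2, fun _ => hu1⟩
      choose u hu1 hu2 using hu
      have huP : ∏ i, u i ∉ P := by
        rw [Ideal.IsPrime.prod_mem_iff]
        rintro ⟨i, -, hi⟩
        exact hu1 i hi
      have hkill : η.t A (∏ i, u i) * (η.t A s * x - η.t A a) = 0 := by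
        apply eq_zero_of_forall_minPt_eq_zero η ((η.M A).mul_mem (η.t_mem_M A _) hzM)
        intro i
        change η.eta _ (algebraMap A _ (∏ i, u i)) * (η.t A s * x - η.t A a) (minPt i) = 0
        by_cases hi : (minPt i).asIdeal ≤ P
        · have hr : minPt i ∈ Set.range (PrimeSpectrum.comap ℓ) := by
            rw [PrimeSpectrum.localization_comap_range (Localization.AtPrime P) P.primeCompl]
            change Disjoint _ _
            rw [Set.disjoint_left]
            intro r hr hr'
            exact hr (hi hr')
          obtain ⟨Q, hQ⟩ := hr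
          have := congrFun hz Q
          change η.map _ ((η.t A s * x - η.t A a) (PrimeSpectrum.comap ℓ Q)) = 0 at this
          rw [map_eq_zero, apply_eq_zero_congr η _ hQ] at this
          rw [this, mul_zero]
        · have hmem : ∏ i, u i ∈ (minPt i).asIdeal :=
            Ideal.mem_of_dvd _ (Finset.dvd_prod_of_mem u (Finset.mem_univ i)) (hu2 i hi)
          rw [Ideal.algebraMap_residueField_eq_zero.2 hmem, map_zero, zero_mul]
      -- conclude
      have hmemI : (∏ i, u i) * s ∈ I := by
        refine ⟨(∏ i, u i) * a, ?_⟩
        rw [mul_sub, sub_eq_zero] at hkill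
        rw [map_mul, mul_assoc, hkill, map_mul]
      have := hIP hmemI
      rcases hPprime.mem_or_mem this with h | h
      · exact huP h
      · exact s.2 h
    have h1 : (1 : A) ∈ I := hI ▸ Submodule.mem_top
    obtain ⟨a, ha⟩ := h1
    refine ⟨a, Subtype.ext ?_⟩
    change η.t A a = x
    rw [← ha, map_one, one_mul]

end Normal

end Groth.Agent.Lib.Helper12.Eta
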