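import Groth.Agent.Lib.Helper12.Eta18

/-!
# The pointwise construction `EtaPt`: integrally closed domains and valuation rings
-/

set_option autoImplicit false
set_option linter.unusedSectionVars false

universe u

open EtaPt

namespace Groth.Agent.Lib.Helper12.Eta

variable (η : FieldEndo.{u})

section Char

/-- the exponential characteristic of the fraction field of a domain `R` controls all fields
receiving a ring map from `R`. -/
lemma expChar_cases {R K₀ L : Type*} [CommRing R] [IsDomain R] [Field K₀] [Field L]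
    (ι : R →+* K₀) (hι : Function.Injective ι) (g : R →+* L) :
    ringExpChar K₀ = 1 ∨ (ExpChar L (ringExpChar K₀) ∧ ringChar L = ringChar R) := by
  have hE : ExpChar K₀ (ringExpChar K₀) := inferInstance
  generalize ringExpChar K₀ = e at hE ⊢
  cases hE with
  | zero => exact Or.inl rfl
  | prime hp =>
    right
    have h0R : ((e : ℕ) : R) = 0 := hι (by rw [map_natCast, map_zero]; exact CharP.cast_eq_zero K₀ e)
    have h0L : ((e : ℕ) : L) = 0 := by rw [← map_natCast g, h0R, map_zero]
    have hL : CharP L e := (CharP.charP_iff_prime_eq_zero hp).2 h0L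
    have hR : CharP R e := (CharP.charP_iff_prime_eq_zero hp).2 h0R
    exact ⟨ExpChar.prime hp, (ringChar.eq L e).trans (ringChar.eq R e).symm⟩

lemma eq_of_pow_eq_of_ringHom {R K₀ L : Type*} [CommRing R] [IsDomain R] [Field K₀] [Field L]
    (ι : R →+* K₀) (hι : Function.Injective ι) (g : R →+* L) (n : ℕ) {x y : L}
    (h : x ^ ringExpChar K₀ ^ n = y ^ ringExpChar K₀ ^ n) : x = y := by
  rcases expChar_cases ι hι g with h1 | ⟨hE, -⟩
  · rw [h1, one_pow, pow_one, pow_one] at h; exact h
  · exact iterateFrobenius_inj L (ringExpChar K₀) n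
      (by rw [iterateFrobenius_def, iterateFrobenius_def]; exact h)

end Char

section Dom

variable (R : Type u) [CommRing R] [IsDomain R]

/-- the generic point of a domain. -/
abbrev genPt : PrimeSpectrum R := ⟨⊥, Ideal.isPrime_bot⟩

/-- membership in `M R` for a domain `R` is tested on the integral closure in `F(Frac R)`. -/
lemma mem_M_iff_of_isDomain (x : η.N R) :
    x ∈ η.M R ↔ ∃ a : Abar η (genPt R), η.t _ a = η.Nmap (fbar η (genPt R)) x := by
  constructor
  · intro hx
    exact exists_t_eq_of_mem_M_Abar η (genPt R) (Nmap_mem_M η _ hx)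
  · rintro ⟨a, ha⟩
    refine mem_M_of_forall_Nmap_mem_M η (fun _ : Unit => Abar η (genPt R))
      (fun _ => fbar η (genPt R)) (fun _ => fbar_isIntegral η (genPt R))
      (fun P => ⟨(), exists_comap_fbar_eq η (genPt R) P bot_le⟩) x (fun _ => ?_)
    rw [← ha]
    exact η.t_mem_M _ a

lemma Nmap_fbar_genPt_injective : Function.Injective (η.Nmap (fbar η (genPt R))) :=
  Nmap_injective_of_comap_surjective η _
    (fun P => exists_comap_fbar_eq η (genPt R) P bot_le)

/-- the generic component of an element of `M R` is the corresponding element of `Abar`. -/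
lemma coe_Phi_genPt (x : η.M R) :
    ((Phi η (genPt R) x : Abar η (genPt R)) : FK η (genPt R)) = (x : η.N R) (genPt R) := by
  have h := eta_Phi η (genPt R) x
  rw [← eta_obj] at h
  exact (η.eta (FK η (genPt R))).injective h

theorem injOn_generic_of_isDomain :
    Set.InjOn (fun x : η.N R => x ⟨⊥, Ideal.isPrime_bot⟩) (η.M R) := by
  intro x hx y hy hxy
  have h1 := coe_Phi_genPt η R ⟨x, hx⟩
  have h2 := coe_Phi_genPt η R ⟨y, hy⟩
  have h3 : Phi η (genPt R) ⟨x, hx⟩ = Phi η (genPt R) ⟨y, hy⟩ :=
    Subtype.ext (h1.trans (hxy.trans h2.symm))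
  have h4 := congrArg (η.t _) h3
  rw [t_Phi, t_Phi] at h4
  exact Nmap_fbar_genPt_injective η R h4

lemma isIntegral_generic (x : η.M R) :
    ((η.eta _).comp (algebraMap R (genPt R).asIdeal.ResidueField)).IsIntegralElem
      ((x : η.N R) (genPt R)) := by
  have h : IsIntegral R ((Phi η (genPt R) x : Abar η (genPt R)) : FK η (genPt R)) :=
    (Phi η (genPt R) x).2
  rw [coe_Phi_genPt] at h
  exact h

end Dom

section IC

variable (R : Type u) [CommRing R] [IsDomain R] [IsIntegrallyClosed R]

/-- an element of the fraction field whose image in `F(Frac R)` is integral comes from `R`. -/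
lemma exists_algebraMap_eq_of_isIntegral_eta (z : (genPt R).asIdeal.ResidueField)
    (hz : ((η.eta _).comp (algebraMap R (genPt R).asIdeal.ResidueField)).IsIntegralElem
      (η.eta _ z)) :
    ∃ r : R, algebraMap R (genPt R).asIdeal.ResidueField r = z := by
  obtain ⟨P, hPm, hP⟩ := hz
  have h1 : IsIntegral R z := by
    refine ⟨P, hPm, (η.eta _).injective ?_⟩
    rw [map_zero, Polynomial.hom_eval₂]
    exact hP
  exact IsIntegrallyClosed.isIntegral_iff.1 h1

/-- a power of an integral element of `F(Frac R)` comes from `R`. -/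
lemma exists_pow_eq_algebraMap (y : FK η (genPt R)) (hy : IsIntegral R y) :
    ∃ (n : ℕ) (r : R), y ^ ringExpChar (genPt R).asIdeal.ResidueField ^ n =
      algebraMap R (FK η (genPt R)) r := by
  obtain ⟨n, z, hz⟩ := η.exists_pow_mem_range_eta (genPt R).asIdeal.ResidueField y
  have h3 : IsIntegral R (y ^ ringExpChar (genPt R).asIdeal.ResidueField ^ n) := hy.pow _
  obtain ⟨P, hPm, hP⟩ := h3
  have h2 : ((η.eta _).comp (algebraMap R (genPt R).asIdeal.ResidueField)).IsIntegralElem
      (η.eta _ z) := ⟨P, hPm, by rw [hz]; exact hP⟩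
  obtain ⟨r, rfl⟩ := exists_algebraMap_eq_of_isIntegral_eta η R z h2
  exact ⟨n, r, hz.symm⟩

/-- the hypothesis of the valuation ring rows. -/
def Hyp : Prop :=
  η.InV R ∨ ∀ (k : Type u) [Field k], ringChar k = ringChar R →
    Function.Bijective (η.eta k) → PerfectField k

lemma exists_root_of_Hyp (hη : Hyp η R) (n : ℕ) (r : R) (y : FK η (genPt R))
    (hy : y ^ ringExpChar (genPt R).asIdeal.ResidueField ^ n = algebraMap R (FK η (genPt R)) r)
    (𝔮 : PrimeSpectrum R) :
    ∃ v : η.obj 𝔮.asIdeal.ResidueField,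
      v ^ ringExpChar (genPt R).asIdeal.ResidueField ^ n =
        η.eta _ (algebraMap R 𝔮.asIdeal.ResidueField r) := by
  rcases hη with hInV | hH
  · have hbij := eta_bijective_of_InV η R (genPt R).asIdeal.ResidueField hInV
    obtain ⟨z', hz'⟩ := hbij.2 y
    have h1 : z' ^ ringExpChar (genPt R).asIdeal.ResidueField ^ n =
        algebraMap R (genPt R).asIdeal.ResidueField r := by
      apply (η.eta _).injective
      rw [map_pow, hz']
      exact hy
    have h2 : IsIntegral R z' := by
      refine ⟨Polynomial.X ^ (ringExpChar (genPt R).asIdeal.ResidueField ^ n) - Polynomial.C r,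
        Polynomial.monic_X_pow_sub_C _ (expChar_pow_pos (genPt R).asIdeal.ResidueField _ n).ne', ?_⟩
      simp [h1]
    obtain ⟨r', rfl⟩ := IsIntegrallyClosed.isIntegral_iff.1 h2
    have h3 : r' ^ ringExpChar (genPt R).asIdeal.ResidueField ^ n = r := by
      apply IsFractionRing.injective R (genPt R).asIdeal.ResidueField
      rw [map_pow]; exact h1
    exact ⟨η.eta _ (algebraMap R 𝔮.asIdeal.ResidueField r'), by
      rw [← map_pow, ← map_pow, h3]⟩
  · rcases expChar_cases (algebraMap R (genPt R).asIdeal.ResidueField)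
      (IsFractionRing.injective R _)
      ((η.eta _).comp (algebraMap R 𝔮.asIdeal.ResidueField)) with h1 | ⟨hE, hchar⟩
    · exact ⟨η.eta _ (algebraMap R 𝔮.asIdeal.ResidueField r), by rw [h1, one_pow, pow_one]⟩
    · have hperf : PerfectField (η.obj 𝔮.asIdeal.ResidueField) :=
        hH _ hchar (eta_obj_bijective η)
      obtain ⟨v, hv⟩ := (iterateFrobeniusEquiv (η.obj 𝔮.asIdeal.ResidueField)
        (ringExpChar (genPt R).asIdeal.ResidueField) n).surjective
        (η.eta _ (algebraMap R 𝔮.asIdeal.ResidueField r))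
      exact ⟨v, by rw [← hv]; rfl⟩

/-- every integral element of `F(Frac R)` is the generic component of an element of `M R`. -/
theorem exists_mem_M_generic_eq (hη : Hyp η R) (y : FK η (genPt R)) (hy : IsIntegral R y) :
    ∃ x ∈ η.M R, x (genPt R) = y := by
  obtain ⟨n, r, hnr⟩ := exists_pow_eq_algebraMap η R y hy
  choose v hv using exists_root_of_Hyp η R hη n r y hnr
  have hgen : v (genPt R) = y := by
    refine eq_of_pow_expChar_pow_eq (η.eta (genPt R).asIdeal.ResidueField) n ?_
    rw [hv]
    exact hnr.symm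
  refine ⟨v, ?_, hgen⟩
  rw [mem_M_iff_of_isDomain]
  refine ⟨⟨y, hy⟩, ?_⟩
  funext 𝔮'
  refine eq_of_pow_eq_of_ringHom (algebraMap R (genPt R).asIdeal.ResidueField)
    (IsFractionRing.injective R _)
    ((η.eta _).comp ((algebraMap (Abar η (genPt R)) 𝔮'.asIdeal.ResidueField).comp
      (fbar η (genPt R)))) n ?_
  change (η.eta _ (algebraMap _ 𝔮'.asIdeal.ResidueField (⟨y, hy⟩ : Abar η (genPt R)))) ^ _ =
    (η.map _ (v (PrimeSpectrum.comap (fbar η (genPt R)) 𝔮'))) ^ _
  rw [← map_pow, ← map_pow, ← map_pow, hv, eta_natural_apply, Ideal.ResidueField.map_algebraMap]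
  congr 2
  exact Subtype.ext hnr

end IC

end Groth.Agent.Lib.Helper12.Eta
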