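import Groth.Agent.Lib.Helper12.Eta1

/-!
# The pointwise construction `EtaPt`: evaluation of `N A` at a ring map to a field
-/

set_option autoImplicit false
set_option linter.unusedSectionVars false

universe u

open EtaPt

namespace Groth.Agent.Lib.Helper12.Eta

variable (η : FieldEndo.{u})

section Ev

variable {A B C : Type u} [CommRing A] [CommRing B] [CommRing C]
variable {L L' : Type u} [Field L] [Field L']

lemma ker_comp_algebraMap_residueField (p : PrimeSpectrum A)
    (j : p.asIdeal.ResidueField →+* L) :
    RingHom.ker (j.comp (algebraMap A p.asIdeal.ResidueField)) = p.asIdeal := by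
  ext a
  rw [RingHom.mem_ker, RingHom.comp_apply, map_eq_zero, Ideal.algebraMap_residueField_eq_zero]

/-- The basic congruence lemma: the value `F(j)(x_p)` only depends on the composite
`A → k(p) → L`. -/
lemma map_apply_eq_of_comp_eq (x : η.N A) {p p' : PrimeSpectrum A}
    (j : p.asIdeal.ResidueField →+* L) (j' : p'.asIdeal.ResidueField →+* L)
    (h : j.comp (algebraMap A p.asIdeal.ResidueField) =
      j'.comp (algebraMap A p'.asIdeal.ResidueField)) :
    η.map j (x p) = η.map j' (x p') := by
  have hp : p = p' := by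
    apply PrimeSpectrum.ext
    rw [← ker_comp_algebraMap_residueField p j, h, ker_comp_algebraMap_residueField]
  subst hp
  have : j = j' := Ideal.ResidueField.ringHom_ext h
  rw [this]

/-- the point of `Spec A` defined by a ring map to a field. -/
def pt (h : A →+* L) : PrimeSpectrum A := ⟨RingHom.ker h, RingHom.ker_isPrime h⟩

/-- the induced map from the residue field at `pt h`. -/
noncomputable def resLift (h : A →+* L) : (pt h).asIdeal.ResidueField →+* L :=
  Ideal.ResidueField.lift (pt h).asIdeal h le_rfl (by
    intro a ha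
    change IsUnit (h a)
    exact isUnit_iff_ne_zero.2 (fun h0 => ha h0))

@[simp] lemma resLift_algebraMap (h : A →+* L) (a : A) :
    resLift h (algebraMap A _ a) = h a :=
  Ideal.ResidueField.lift_algebraMap _ _ _ _ _

lemma resLift_comp_algebraMap (h : A →+* L) :
    (resLift h).comp (algebraMap A _) = h := RingHom.ext (resLift_algebraMap h)

/-- evaluation of a family `x ∈ N A` at a ring map `h : A → L` to a field. -/
noncomputable def ev (h : A →+* L) : η.N A →+* η.obj L :=
  (η.map (resLift h)).comp (Pi.evalRingHom _ (pt h))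

lemma ev_eq (h : A →+* L) (x : η.N A) (p : PrimeSpectrum A)
    (j : p.asIdeal.ResidueField →+* L) (hj : j.comp (algebraMap A _) = h) :
    ev η h x = η.map j (x p) :=
  map_apply_eq_of_comp_eq η x _ _ ((resLift_comp_algebraMap h).trans hj.symm)

lemma ev_t (h : A →+* L) (a : A) : ev η h (η.t A a) = η.eta L (h a) := by
  change η.map (resLift h) (η.eta _ (algebraMap A _ a)) = _
  rw [eta_natural_apply, resLift_algebraMap]

lemma ev_comp (h : A →+* L) (j : L →+* L') (x : η.N A) :
    ev η (j.comp h) x = η.map j (ev η h x) := by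
  rw [ev_eq η (j.comp h) x (pt h) (j.comp (resLift h))
    (by rw [RingHom.comp_assoc, resLift_comp_algebraMap])]
  exact map_comp_apply η _ _ _

lemma Nmap_apply (f : A →+* B) (x : η.N A) (q : PrimeSpectrum B) :
    η.Nmap f x q = ev η ((algebraMap B q.asIdeal.ResidueField).comp f) x := by
  symm
  refine ev_eq η _ x (PrimeSpectrum.comap f q)
    (Ideal.ResidueField.map (PrimeSpectrum.comap f q).asIdeal q.asIdeal f rfl) ?_
  exact RingHom.ext fun a => Ideal.ResidueField.map_algebraMap _ _ _ _ _

lemma apply_eq_ev (x : η.N A) (p : PrimeSpectrum A) :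
    x p = ev η (algebraMap A p.asIdeal.ResidueField) x := by
  rw [ev_eq η _ x p (RingHom.id _) (RingHom.id_comp _), map_id_apply]

lemma ev_Nmap (f : A →+* B) (h : B →+* L) (x : η.N A) :
    ev η h (η.Nmap f x) = ev η (h.comp f) x := by
  change η.map (resLift h) (η.Nmap f x (pt h)) = _
  rw [Nmap_apply, ← ev_comp, ← RingHom.comp_assoc, resLift_comp_algebraMap]

lemma N_ext {x y : η.N A}
    (h : ∀ p : PrimeSpectrum A, ev η (algebraMap A p.asIdeal.ResidueField) x =
      ev η (algebraMap A p.asIdeal.ResidueField) y) : x = y := by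
  funext p
  rw [apply_eq_ev η x p, apply_eq_ev η y p, h]

lemma Nmap_comp (f : A →+* B) (g : B →+* C) (x : η.N A) :
    η.Nmap (g.comp f) x = η.Nmap g (η.Nmap f x) := by
  funext q
  rw [Nmap_apply, Nmap_apply, ev_Nmap, RingHom.comp_assoc]

lemma Nmap_id (x : η.N A) : η.Nmap (RingHom.id A) x = x := by
  funext q
  rw [Nmap_apply, RingHom.comp_id, ← apply_eq_ev]

/-- `ev` at a map only depends on the point and the map. -/
lemma ev_congr {h h' : A →+* L} (e : h = h') (x : η.N A) : ev η h x = ev η h' x := by
  rw [e]

lemma ev_eq_zero_iff (h : A →+* L) (x : η.N A) : ev η h x = 0 ↔ x (pt h) = 0 := by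
  change η.map (resLift h) (x (pt h)) = 0 ↔ _
  exact map_eq_zero _

/-- `ev` at `h` and at `j ∘ h` vanish together. -/
lemma ev_comp_eq_zero_iff (h : A →+* L) (j : L →+* L') (x : η.N A) :
    ev η (j.comp h) x = 0 ↔ ev η h x = 0 := by
  rw [ev_comp]; exact map_eq_zero _

lemma Nmap_mem_M (f : A →+* B) {x : η.N A} (hx : x ∈ η.M A) : η.Nmap f x ∈ η.M B := by
  intro R _ _ _ hR g
  rw [← Nmap_comp]
  exact hx R hR (g.comp f)

/-- `Nmap f` is injective when `Spec f` is surjective. -/
lemma Nmap_injective_of_comap_surjective (f : A →+* B)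
    (hf : Function.Surjective (PrimeSpectrum.comap f)) : Function.Injective (η.Nmap f) := by
  rw [injective_iff_map_eq_zero]
  intro x hx
  funext p
  obtain ⟨q, rfl⟩ := hf p
  have := congrFun hx q
  change η.map _ (x (PrimeSpectrum.comap f q)) = 0 at this
  exact (map_eq_zero _).1 this

end Ev

end Groth.Agent.Lib.Helper12.Eta
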