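import Groth.Agent.Lib.Helper12.Eta19

/-!
# The pointwise construction `EtaPt`: `M R` for a valuation ring `R`
-/

set_option autoImplicit false
set_option linter.unusedSectionVars false

universe u

open EtaPt

namespace Groth.Agent.Lib.Helper12.Eta

variable (η : FieldEndo.{u})

section Val

variable (R : Type u) [CommRing R] [IsDomain R]

lemma evM_genPt_injective : Function.Injective (evM η (genPt R)) := by
  intro x y hxy
  exact Subtype.ext (injOn_generic_of_isDomain η R x.2 y.2 hxy)

lemma isDomain_M : IsDomain (η.M R) :=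
  Function.Injective.isDomain (evM η (genPt R)) (evM_genPt_injective η R)

variable [IsIntegrallyClosed R]

/-- an element of `F(Frac R)` with a power in the image of `R` is a generic component. -/
lemma exists_mem_M_of_pow_eq (hη : Hyp η R) (w : η.obj (genPt R).asIdeal.ResidueField) (N : ℕ)
    (hN : 0 < N) (r : R)
    (hw : w ^ N = η.eta _ (algebraMap R (genPt R).asIdeal.ResidueField r)) :
    ∃ c : η.M R, (c : η.N R) (genPt R) = w := by
  have hint : @IsIntegral R (FK η (genPt R)) _ _ _ w := by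
    refine ⟨Polynomial.X ^ N - Polynomial.C r, Polynomial.monic_X_pow_sub_C _ hN.ne', ?_⟩
    rw [Polynomial.eval₂_sub, Polynomial.eval₂_pow, Polynomial.eval₂_X, Polynomial.eval₂_C,
      sub_eq_zero]
    exact hw
  obtain ⟨x, hx, hxw⟩ := exists_mem_M_generic_eq η R hη w hint
  exact ⟨⟨x, hx⟩, hxw⟩

theorem preValuationRing_M [ValuationRing R] (hη : Hyp η R) : PreValuationRing (η.M R) := by
  constructor
  intro a b
  by_cases hβ : (b : η.N R) (genPt R) = 0
  · have hb : b = 0 := evM_genPt_injective η R (hβ.trans (map_zero _).symm)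
    exact ⟨0, Or.inl (by rw [mul_zero, hb])⟩
  by_cases hα : (a : η.N R) (genPt R) = 0
  · have ha : a = 0 := evM_genPt_injective η R (hα.trans (map_zero _).symm)
    exact ⟨0, Or.inr (by rw [mul_zero, ha])⟩
  set α := (a : η.N R) (genPt R) with hαdef
  set β := (b : η.N R) (genPt R) with hβdef
  obtain ⟨n, z, hz⟩ := η.exists_pow_mem_range_eta (genPt R).asIdeal.ResidueField (α / β)
  have hpos : 0 < ringExpChar (genPt R).asIdeal.ResidueField ^ n :=
    expChar_pow_pos (genPt R).asIdeal.ResidueField _ n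
  rcases ValuationRing.isInteger_or_isInteger R z with ⟨r, hr⟩ | ⟨r, hr⟩
  · obtain ⟨c, hc⟩ := exists_mem_M_of_pow_eq η R hη (α / β) _ hpos r (by rw [hr, hz])
    refine ⟨c, Or.inr (evM_genPt_injective η R ?_)⟩
    change evM η (genPt R) (b * c) = α
    rw [map_mul]
    change β * (c : η.N R) (genPt R) = α
    rw [hc, mul_div_cancel₀ _ hβ]
  · obtain ⟨c, hc⟩ := exists_mem_M_of_pow_eq η R hη (β / α) _ hpos r (by
      rw [hr, map_inv₀, hz, ← inv_pow, inv_div])
    refine ⟨c, Or.inl (evM_genPt_injective η R ?_)⟩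
    change evM η (genPt R) (a * c) = β
    rw [map_mul]
    change α * (c : η.N R) (genPt R) = β
    rw [hc, mul_div_cancel₀ _ hα]

theorem exists_fraction (hη : Hyp η R) (y : η.obj (genPt R).asIdeal.ResidueField) :
    ∃ a b : η.M R, (b : η.N R) (genPt R) ≠ 0 ∧
      y * (b : η.N R) (genPt R) = (a : η.N R) (genPt R) := by
  obtain ⟨s, hs, hint⟩ := exists_mul_isIntegral η (genPt R) y
  obtain ⟨x, hx, hxy⟩ := exists_mem_M_generic_eq η R hη _ hint
  refine ⟨⟨x, hx⟩, η.q R s, ?_, hxy.symm⟩
  change η.eta _ (algebraMap R (genPt R).asIdeal.ResidueField s) ≠ 0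
  rw [Ne, map_eq_zero, Ideal.algebraMap_residueField_eq_zero]
  exact hs

theorem generic_inter_range_eta :
    (fun x : η.N R => x ⟨⊥, Ideal.isPrime_bot⟩) '' (η.M R : Set (η.N R)) ∩
        Set.range (η.eta (⊥ : Ideal R).ResidueField) =
      Set.range ((η.eta (⊥ : Ideal R).ResidueField).comp
        (algebraMap R (⊥ : Ideal R).ResidueField)) := by
  ext y
  constructor
  · rintro ⟨⟨x, hx, rfl⟩, ⟨z, hz⟩⟩
    have h1 := isIntegral_generic η R ⟨x, hx⟩
    change ((η.eta _).comp (algebraMap R (genPt R).asIdeal.ResidueField)).IsIntegralElem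
      (x (genPt R)) at h1
    have hz' : η.eta (genPt R).asIdeal.ResidueField z = x (genPt R) := hz
    rw [← hz'] at h1
    obtain ⟨r, rfl⟩ := exists_algebraMap_eq_of_isIntegral_eta η R z h1
    exact ⟨r, hz⟩
  · rintro ⟨r, rfl⟩
    exact ⟨⟨η.t R r, η.t_mem_M R r, rfl⟩, ⟨_, rfl⟩⟩

end Val

end Groth.Agent.Lib.Helper12.Eta
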