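import Groth.Agent.Lib.Helper12.Eta2

/-!
# The pointwise construction `EtaPt`: the closed point criterion for membership in `M A`
-/

set_option autoImplicit false
set_option linter.unusedSectionVars false

universe u

open EtaPt

namespace Groth.Agent.Lib.Helper12.Eta

variable (η : FieldEndo.{u})

lemma preValuationRing_of_isLocalization {R : Type*} [CommRing R] [PreValuationRing R]
    (M : Submonoid R) (S : Type*) [CommRing S] [Algebra R S] [IsLocalization M S] :
    PreValuationRing S := by
  constructor
  intro x y
  obtain ⟨a, s, rfl⟩ := IsLocalization.exists_mk'_eq M x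
  obtain ⟨b, t, rfl⟩ := IsLocalization.exists_mk'_eq M y
  obtain ⟨c, h | h⟩ := PreValuationRing.cond a b
  · refine ⟨IsLocalization.mk' S (c * s) t, Or.inl ?_⟩
    rw [← IsLocalization.mk'_mul, IsLocalization.mk'_eq_iff_eq]
    congr 1
    rw [← h]
    simp only [Submonoid.coe_mul]
    ring
  · refine ⟨IsLocalization.mk' S (c * t) s, Or.inr ?_⟩
    rw [← IsLocalization.mk'_mul, IsLocalization.mk'_eq_iff_eq]
    congr 1
    rw [← h]
    simp only [Submonoid.coe_mul]
    ring

instance valuationRing_localization_atPrime {R : Type*} [CommRing R] [IsDomain R] [ValuationRing R]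
    (p : Ideal R) [p.IsPrime] : ValuationRing (Localization.AtPrime p) :=
  have : PreValuationRing (Localization.AtPrime p) :=
    preValuationRing_of_isLocalization p.primeCompl _
  .mk

section Good

variable {A : Type u} [CommRing A]

/-- The closed point criterion at a valuation ring `R` with fraction field `K`. -/
def Good (x : η.N A) (R : Type u) [CommRing R] [IsLocalRing R] (K : Type u) [Field K]
    [Algebra R K] (g : A →+* R) : Prop :=
  ∃ r : R, ev η ((algebraMap R K).comp g) x = η.eta K (algebraMap R K r) ∧
    ev η ((IsLocalRing.residue R).comp g) x = η.eta _ (IsLocalRing.residue R r)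

lemma good_of_mem_M {x : η.N A} (hx : x ∈ η.M A) (R : Type u) [CommRing R] [IsDomain R]
    [ValuationRing R] (K : Type u) [Field K] [Algebra R K] [IsFractionRing R K]
    (hK : Function.Bijective (η.eta K)) (g : A →+* R) : Good η x R K g := by
  have hR : η.InV R := by
    let e : FractionRing R ≃ₐ[R] K := FractionRing.algEquiv R K
    exact (eta_bijective_iff_of_bijective η (e : FractionRing R →+* K) e.bijective).2 hK
  obtain ⟨r, hr⟩ := hx R hR g
  refine ⟨r, ?_, ?_⟩
  · rw [← ev_Nmap, ← hr, ev_t]
  · rw [← ev_Nmap, ← hr, ev_t]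

lemma mem_M_of_good {x : η.N A}
    (h : ∀ (R : Type u) [CommRing R] [IsDomain R] [ValuationRing R] (K : Type u) [Field K]
      [Algebra R K] [IsFractionRing R K], Function.Bijective (η.eta K) → ∀ g : A →+* R,
      Good η x R K g) : x ∈ η.M A := by
  intro R _ _ _ hR g
  obtain ⟨r, hr1, -⟩ := h R (FractionRing R) hR g
  refine ⟨r, ?_⟩
  funext 𝔮
  obtain ⟨r', hr1', hr2'⟩ := h (Localization.AtPrime 𝔮.asIdeal) (FractionRing R) hR
    ((algebraMap R (Localization.AtPrime 𝔮.asIdeal)).comp g)
  have e1 : (algebraMap (Localization.AtPrime 𝔮.asIdeal) (FractionRing R)).comp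
      ((algebraMap R (Localization.AtPrime 𝔮.asIdeal)).comp g) =
      (algebraMap R (FractionRing R)).comp g := by
    rw [← RingHom.comp_assoc, ← IsScalarTower.algebraMap_eq]
  rw [e1, hr1] at hr1'
  have e2 : r' = algebraMap R (Localization.AtPrime 𝔮.asIdeal) r := by
    apply IsFractionRing.injective (Localization.AtPrime 𝔮.asIdeal) (FractionRing R)
    rw [← IsScalarTower.algebraMap_apply]
    exact ((η.eta (FractionRing R)).injective hr1').symm
  have e3 : (algebraMap R 𝔮.asIdeal.ResidueField) =
      (IsLocalRing.residue (Localization.AtPrime 𝔮.asIdeal)).comp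
        (algebraMap R (Localization.AtPrime 𝔮.asIdeal)) := by
    rw [IsScalarTower.algebraMap_eq R (Localization.AtPrime 𝔮.asIdeal) 𝔮.asIdeal.ResidueField,
      IsLocalRing.ResidueField.algebraMap_eq]
  rw [Nmap_apply, e3, RingHom.comp_assoc, hr2', e2]
  change _ = η.eta _ (algebraMap R 𝔮.asIdeal.ResidueField r)
  rw [e3]; rfl

end Good

end Groth.Agent.Lib.Helper12.Eta
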