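import Groth.Agent.Lib.Helper12.Eta3

/-!
# The pointwise construction `EtaPt`: fields, domains, integrally closed domains
-/

set_option autoImplicit false
set_option linter.unusedSectionVars false

universe u

open EtaPt

namespace Groth.Agent.Lib.Helper12.Eta

variable (η : FieldEndo.{u})

section Dom

variable {A : Type u} [CommRing A]

/-- A valuation subring of `K` through which `h : A → K` factors and whose closed point lies
over a given prime containing the kernel. -/
lemma exists_valuationSubring_dominating (p : PrimeSpectrum A) {K : Type u} [Field K]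
    (h : A →+* K) (hp : RingHom.ker h ≤ p.asIdeal) :
    ∃ (V : ValuationSubring K) (g : A →+* V), V.subtype.comp g = h ∧
      RingHom.ker ((IsLocalRing.residue V).comp g) = p.asIdeal := by
  let h' : Localization.AtPrime p.asIdeal →+* K :=
    IsLocalization.lift (M := p.asIdeal.primeCompl) (g := h)
      (fun s => isUnit_iff_ne_zero.2 (fun h0 => s.2 (hp h0)))
  obtain ⟨V, hV, hloc⟩ := IsLocalRing.exists_factor_valuationRing h'
  let g' : Localization.AtPrime p.asIdeal →+* V := h'.codRestrict V.toSubring hV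
  refine ⟨V, g'.comp (algebraMap A _), ?_, ?_⟩
  · refine RingHom.ext fun a => ?_
    change h' (algebraMap A _ a) = h a
    exact IsLocalization.lift_eq _ _
  · ext a
    rw [RingHom.mem_ker, RingHom.comp_apply, IsLocalRing.residue_eq_zero_iff,
      IsLocalRing.mem_maximalIdeal, mem_nonunits_iff]
    have h1 : IsUnit (g' (algebraMap A _ a)) ↔ IsUnit (algebraMap A (Localization.AtPrime p.asIdeal) a) :=
      ⟨fun hu => hloc.map_nonunit _ hu, fun hu => hu.map g'⟩
    change ¬ IsUnit (g' (algebraMap A _ a)) ↔ _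
    rw [h1, IsLocalization.AtPrime.isUnit_to_map_iff (Localization.AtPrime p.asIdeal) p.asIdeal]
    simp [Ideal.primeCompl]

end Dom

section Field

variable {K : Type u} [Field K]

lemma exists_pow_mem_range_eta' {K₀ K : Type u} [Field K₀] [Field K] (i : K₀ →+* K) (x : η.obj K) :
    ∃ n : ℕ, x ^ ringExpChar K₀ ^ n ∈ Set.range (η.eta K) := by
  have : ExpChar K (ringExpChar K₀) := expChar_of_injective_ringHom i.injective _
  rw [← ringExpChar.eq K (ringExpChar K₀)]
  exact η.exists_pow_mem_range_eta K x

/-- For a field `K`, all evaluations of `x ∈ N K` have a common `e^n`-th power coming from `K`. -/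
lemma exists_pow_ev_eq_of_field (x : η.N K) :
    ∃ (n : ℕ) (c : K), ∀ (L : Type u) [Field L] (h : K →+* L),
      (ev η h x) ^ ringExpChar K ^ n = η.eta L (h c) := by
  let p₀ : PrimeSpectrum K := ⟨⊥, Ideal.isPrime_bot⟩
  let e : K ≃ₐ[K] p₀.asIdeal.ResidueField := Ideal.algEquivResidueFieldOfField p₀.asIdeal
  obtain ⟨n, z, hz⟩ := exists_pow_mem_range_eta' η (e : K →+* p₀.asIdeal.ResidueField) (x p₀)
  refine ⟨n, e.symm z, fun L _ h => ?_⟩
  have hj : (h.comp (e.symm : p₀.asIdeal.ResidueField →+* K)).comp (algebraMap K _) = h := by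
    refine RingHom.ext fun c => ?_
    change h (e.symm (algebraMap K _ c)) = h c
    rw [← Ideal.algEquivResidueFieldOfField_apply]
    exact congrArg h (e.symm_apply_apply c)
  rw [ev_eq η h x p₀ _ hj, ← map_pow, ← hz, eta_natural_apply]
  rfl

/-- `M K = N K` for a field `K`. -/
lemma mem_M_of_field (x : η.N K) : x ∈ η.M K := by
  apply mem_M_of_good
  intro R _ _ _ K' _ _ _ hK' g
  obtain ⟨n, c, hc⟩ := exists_pow_ev_eq_of_field η x
  obtain ⟨r₀, hr₀⟩ := hK'.2 (ev η ((algebraMap R K').comp g) x)
  have h1 : r₀ ^ ringExpChar K ^ n = algebraMap R K' (g c) := by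
    apply (η.eta K').injective
    rw [map_pow, hr₀, hc]; rfl
  have hint : IsIntegral R r₀ := by
    refine ⟨Polynomial.X ^ (ringExpChar K ^ n) - Polynomial.C (g c),
      Polynomial.monic_X_pow_sub_C _ (expChar_pow_pos K (ringExpChar K) n).ne', ?_⟩
    simp [h1]
  obtain ⟨r, rfl⟩ := IsIntegrallyClosed.isIntegral_iff.1 hint
  refine ⟨r, hr₀.symm, ?_⟩
  have h2 : r ^ ringExpChar K ^ n = g c := by
    apply IsFractionRing.injective R K'
    rw [map_pow, h1]
  refine eq_of_pow_expChar_pow_eq
    ((η.eta _).comp ((IsLocalRing.residue R).comp g)) n ?_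
  rw [hc, ← map_pow, ← map_pow, h2]; rfl

end Field

section Domain

variable {A : Type u} [CommRing A] [IsDomain A]

lemma pt_algebraMap_fractionRing :
    pt (algebraMap A (FractionRing A)) = ⟨⊥, Ideal.isPrime_bot⟩ := by
  apply PrimeSpectrum.ext
  change RingHom.ker (algebraMap A (FractionRing A)) = ⊥
  exact (RingHom.injective_iff_ker_eq_bot _).1 (IsFractionRing.injective A (FractionRing A))

lemma ev_algebraMap_fractionRing_eq_zero_iff (x : η.N A) :
    ev η (algebraMap A (FractionRing A)) x = 0 ↔ x ⟨⊥, Ideal.isPrime_bot⟩ = 0 := by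
  rw [ev_eq_zero_iff, pt_algebraMap_fractionRing]

/-- For a domain `A` with `η` bijective at `Frac A`, an element of `M A` with vanishing generic
component vanishes. -/
lemma eq_zero_of_mem_M_of_generic_eq_zero (hA : η.InV A) {x : η.N A} (hx : x ∈ η.M A)
    (h0 : x ⟨⊥, Ideal.isPrime_bot⟩ = 0) : x = 0 := by
  funext p
  obtain ⟨V, g, hg, hker⟩ := exists_valuationSubring_dominating p
    (algebraMap A (FractionRing A))
    (by rw [(RingHom.injective_iff_ker_eq_bot _).1 (IsFractionRing.injective A (FractionRing A))]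
        exact bot_le)
  obtain ⟨r, hr1, hr2⟩ := good_of_mem_M η hx V (FractionRing A) hA g
  have e1 : (algebraMap V (FractionRing A)).comp g = algebraMap A (FractionRing A) := hg
  rw [e1, (ev_algebraMap_fractionRing_eq_zero_iff η x).2 h0] at hr1
  have hr : r = 0 := by
    have := (map_eq_zero _).1 hr1.symm
    exact (map_eq_zero_iff _ (IsFractionRing.injective V (FractionRing A))).1 this
  rw [hr, map_zero, map_zero, ev_eq_zero_iff] at hr2
  have hpt : pt ((IsLocalRing.residue V).comp g) = p := PrimeSpectrum.ext hker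
  rw [hpt] at hr2
  exact hr2

lemma injOn_generic_of_InV (hA : η.InV A) :
    Set.InjOn (fun x : η.N A => x ⟨⊥, Ideal.isPrime_bot⟩) (η.M A) := by
  intro x hx y hy hxy
  have := eq_zero_of_mem_M_of_generic_eq_zero η hA ((η.M A).sub_mem hx hy)
    (by change x _ - y _ = 0; exact sub_eq_zero.2 hxy)
  exact sub_eq_zero.1 this

/-- For an integrally closed domain with `η` bijective at the fraction field, `M A = t A`. -/
lemma exists_t_eq_of_mem_M_of_isIntegrallyClosed [IsIntegrallyClosed A] (hA : η.InV A)
    {x : η.N A} (hx : x ∈ η.M A) : ∃ a : A, η.t A a = x := by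
  obtain ⟨r₀, hr₀⟩ := hA.2 (ev η (algebraMap A (FractionRing A)) x)
  have hmem : r₀ ∈ (algebraMap A (FractionRing A)).range := by
    by_contra hnot
    have : IsIntegrallyClosedIn (algebraMap A (FractionRing A)).range (FractionRing A) := by
      rw [Subring.isIntegrallyClosedIn_iff]
      intro y hy
      have hy' : IsIntegral A y := by
        obtain ⟨P, hP, hPy⟩ := hy
        have hl : P ∈ Polynomial.lifts (algebraMap A (FractionRing A)).rangeRestrict :=
          (Polynomial.lifts_iff_coeff_lifts _).2 fun n =>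
            (algebraMap A (FractionRing A)).rangeRestrict_surjective _
        obtain ⟨Q, hQ, -, hQm⟩ := Polynomial.lifts_and_natDegree_eq_and_monic hl hP
        refine ⟨Q, hQm, ?_⟩
        rw [← hPy, ← hQ, Polynomial.eval₂_map]
        rfl
      exact IsIntegrallyClosed.isIntegral_iff.1 hy'
    obtain ⟨V, hV, hrV⟩ := Subring.exists_le_valuationSubring_of_isIntegrallyClosedIn hnot
    let g : A →+* V := (algebraMap A (FractionRing A)).codRestrict V.toSubring
      (fun a => hV ⟨a, rfl⟩)
    obtain ⟨r, hr1, -⟩ := good_of_mem_M η hx V (FractionRing A) hA g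
    have e1 : (algebraMap V (FractionRing A)).comp g = algebraMap A (FractionRing A) := rfl
    rw [e1, ← hr₀] at hr1
    have := (η.eta (FractionRing A)).injective hr1
    exact hrV (this ▸ r.2)
  obtain ⟨a, ha⟩ := hmem
  refine ⟨a, ?_⟩
  have h1 : x - η.t A a ∈ η.M A := (η.M A).sub_mem hx (η.t_mem_M A a)
  have h2 : (x - η.t A a) ⟨⊥, Ideal.isPrime_bot⟩ = 0 := by
    rw [← ev_algebraMap_fractionRing_eq_zero_iff, map_sub, ev_t, ← hr₀, ha, sub_self]
  have := eq_zero_of_mem_M_of_generic_eq_zero η hA h1 h2
  exact (sub_eq_zero.1 this).symm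

end Domain

end Groth.Agent.Lib.Helper12.Eta
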