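import Groth.Agent.Lib.Helper12.Eta4

/-!
# The pointwise construction `EtaPt`: integral maps
-/

set_option autoImplicit false
set_option linter.unusedSectionVars false

universe u

open EtaPt

namespace Groth.Agent.Lib.Helper12.Eta

variable (η : FieldEndo.{u})

section CommAlg

/-- lift a ring map through an injective ring map containing its range. -/
lemma exists_lift_of_range_le {B R K : Type*} [CommRing B] [CommRing R] [CommRing K]
    (ι : R →+* K) (hι : Function.Injective ι) (g₀ : B →+* K) (h : ∀ b, g₀ b ∈ ι.range) :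
    ∃ g' : B →+* R, ι.comp g' = g₀ := by
  let e : R ≃+* ι.range := RingEquiv.ofBijective ι.rangeRestrict
    ⟨(RingHom.injective_codRestrict).2 hι, ι.rangeRestrict_surjective⟩
  refine ⟨e.symm.toRingHom.comp (g₀.codRestrict ι.range h), RingHom.ext fun b => ?_⟩
  change ι (e.symm ⟨g₀ b, h b⟩) = g₀ b
  have : e (e.symm ⟨g₀ b, h b⟩) = ⟨g₀ b, h b⟩ := e.apply_symm_apply _
  exact congrArg Subtype.val this

/-- extension of a map to an algebraically closed field along an integral map. -/
lemma exists_extension_algClosed {A B Ω : Type*} [CommRing A] [CommRing B] [Field Ω]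
    [IsAlgClosed Ω] (f : A →+* B) (hf : f.IsIntegral) (Q : Ideal B) [Q.IsPrime] (h : A →+* Ω)
    (hk : RingHom.ker h = Q.comap f) : ∃ h' : B →+* Ω, h'.comp f = h := by
  let φ₁ : A ⧸ Q.comap f →+* B ⧸ Q := Ideal.quotientMap Q f le_rfl
  have hφ₁ : Function.Injective φ₁ := Ideal.quotientMap_injective
  have hφ₁i : φ₁.IsIntegral := hf.quotient
  let φ₂ : A ⧸ Q.comap f →+* Ω := Ideal.Quotient.lift (Q.comap f) h
    (fun a ha => by rw [← hk] at ha; exact ha)
  have hφ₂ : Function.Injective φ₂ := by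
    rw [injective_iff_map_eq_zero]
    intro a ha
    obtain ⟨a, rfl⟩ := Ideal.Quotient.mk_surjective a
    rw [Ideal.Quotient.eq_zero_iff_mem, ← hk]
    exact ha
  let _ := φ₁.toAlgebra
  let _ := φ₂.toAlgebra
  have : Module.IsTorsionFree (A ⧸ Q.comap f) (B ⧸ Q) :=
    Module.isTorsionFree_iff_algebraMap_injective.2 hφ₁
  have : Module.IsTorsionFree (A ⧸ Q.comap f) Ω :=
    Module.isTorsionFree_iff_algebraMap_injective.2 hφ₂
  have : Algebra.IsIntegral (A ⧸ Q.comap f) (B ⧸ Q) := ⟨hφ₁i⟩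
  let σ : B ⧸ Q →ₐ[A ⧸ Q.comap f] Ω := IsAlgClosed.lift
  refine ⟨(σ : B ⧸ Q →+* Ω).comp (Ideal.Quotient.mk Q), RingHom.ext fun a => ?_⟩
  have := σ.commutes (Ideal.Quotient.mk (Q.comap f) a)
  exact this

/-- integral elements land in a valuation subring. -/
lemma mem_valuationSubring_of_isIntegral {A B Ω : Type*} [CommRing A] [CommRing B] [Field Ω]
    (V : ValuationSubring Ω) (f : A →+* B) (hf : f.IsIntegral) (h' : B →+* Ω)
    (hV : ∀ a, h' (f a) ∈ V) (b : B) : h' b ∈ V := by
  obtain ⟨P, hP, hPb⟩ := hf b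
  let g₀ : A →+* V := (h'.comp f).codRestrict V.toSubring hV
  have hint : IsIntegral V (h' b) := by
    refine ⟨P.map g₀, hP.map _, ?_⟩
    rw [Polynomial.eval₂_map]
    have : (algebraMap V Ω).comp g₀ = h'.comp f := rfl
    rw [this, ← Polynomial.hom_eval₂, hPb, map_zero]
  obtain ⟨y, hy⟩ := IsIntegrallyClosed.isIntegral_iff.1 hint
  rw [← hy]; exact y.2

/-- a valuation subring dominating a valuation ring `R` meets `Frac R` in `R`. -/
lemma mem_range_of_mem_dominating {R K Ω : Type*} [CommRing R] [IsDomain R] [ValuationRing R]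
    [Field K] [Algebra R K] [IsFractionRing R K] [Field Ω] (ι : K →+* Ω) (V : ValuationSubring Ω)
    (gV : R →+* V) [IsLocalHom gV] (hgV : ∀ r, (gV r : Ω) = ι (algebraMap R K r))
    (r₀ : K) (hr₀ : ι r₀ ∈ V) : r₀ ∈ (algebraMap R K).range := by
  rcases ValuationRing.isInteger_or_isInteger R r₀ with ⟨r, hr⟩ | ⟨r, hr⟩
  · exact ⟨r, hr⟩
  · by_cases h0 : r₀ = 0
    · exact ⟨0, by rw [h0, map_zero]⟩
    · have hu : IsUnit (gV r) := by
        refine IsUnit.of_mul_eq_one (⟨ι r₀, hr₀⟩ : V) (Subtype.ext ?_)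
        change (gV r : Ω) * ι r₀ = 1
        rw [hgV, hr, ← map_mul, inv_mul_cancel₀ h0, map_one]
      have hu' : IsUnit r := IsUnit.of_map gV r hu
      obtain ⟨s, hs⟩ := hu'.exists_right_inv
      refine ⟨s, ?_⟩
      have : algebraMap R K r * algebraMap R K s = 1 := by rw [← map_mul, hs, map_one]
      rw [hr] at this
      exact (eq_inv_of_mul_eq_one_right this).trans (inv_inv r₀)

end CommAlg

section Integral

variable {A : Type u} [CommRing A]

/-- The family version of the integral descent of membership in `M`. -/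
theorem mem_M_of_forall_Nmap_mem_M {ι : Type*} (B : ι → Type u) [∀ i, CommRing (B i)]
    (f : ∀ i, A →+* B i) (hf : ∀ i, (f i).IsIntegral)
    (hs : ∀ p : PrimeSpectrum A, ∃ i, ∃ q : PrimeSpectrum (B i), PrimeSpectrum.comap (f i) q = p)
    (x : η.N A) (hx : ∀ i, η.Nmap (f i) x ∈ η.M (B i)) : x ∈ η.M A := by
  apply mem_M_of_good
  intro R _ _ _ K _ _ _ hK g
  set h : A →+* K := (algebraMap R K).comp g with hh
  obtain ⟨i, Q, hQ⟩ := hs (pt h)
  let Ω := AlgebraicClosure K
  let ι' : K →+* Ω := algebraMap K Ω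
  have hker : RingHom.ker (ι'.comp h) = Q.asIdeal.comap (f i) := by
    have h1 : RingHom.ker (ι'.comp h) = RingHom.ker h := by
      ext a; simp [RingHom.mem_ker]
    rw [h1]
    exact (congrArg PrimeSpectrum.asIdeal hQ).symm
  obtain ⟨h', hh'⟩ := exists_extension_algClosed (f i) (hf i) Q.asIdeal (ι'.comp h) hker
  obtain ⟨V, hV, hloc⟩ := IsLocalRing.exists_factor_valuationRing (ι'.comp (algebraMap R K))
  let gV : R →+* V := (ι'.comp (algebraMap R K)).codRestrict V.toSubring hV
  have hgV : ∀ r, (gV r : Ω) = ι' (algebraMap R K r) := fun r => rfl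
  have : IsLocalHom gV := hloc
  have hmem : ∀ b, h' b ∈ V := by
    apply mem_valuationSubring_of_isIntegral V (f i) (hf i) h'
    intro a
    have : h' (f i a) = ι' (algebraMap R K (g a)) := RingHom.congr_fun hh' a
    rw [this]; exact hV (g a)
  let g' : B i →+* V := h'.codRestrict V.toSubring hmem
  have hΩ : Function.Bijective (η.eta Ω) := eta_bijective_of_perfectField η
  obtain ⟨rbar, hr1, hr2⟩ := good_of_mem_M η (hx i) V Ω hΩ g'
  obtain ⟨r₀, hr₀⟩ := hK.2 (ev η h x)
  have e1 : ((algebraMap V Ω).comp g').comp (f i) = ι'.comp h := hh'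
  rw [ev_Nmap, e1, ev_comp, ← hr₀, eta_natural_apply] at hr1
  have hr₀V : ι' r₀ = (rbar : Ω) := (η.eta Ω).injective hr1
  obtain ⟨r, hr⟩ := mem_range_of_mem_dominating ι' V gV hgV r₀ (hr₀V ▸ rbar.2)
  refine ⟨r, by rw [hr, hr₀], ?_⟩
  have hrbar : rbar = gV r := Subtype.ext (by rw [← hr₀V, hgV, hr])
  have e2 : ((IsLocalRing.residue V).comp g').comp (f i) =
      (IsLocalRing.ResidueField.map gV).comp ((IsLocalRing.residue R).comp g) := by
    rw [← RingHom.comp_assoc, IsLocalRing.ResidueField.map_comp_residue, RingHom.comp_assoc,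
      RingHom.comp_assoc]
    congr 1
    refine RingHom.ext fun a => Subtype.ext ?_
    change h' (f i a) = ι' (algebraMap R K (g a))
    exact RingHom.congr_fun hh' a
  rw [ev_Nmap, e2, ev_comp, hrbar, ← IsLocalRing.ResidueField.map_residue,
    ← eta_natural_apply] at hr2
  exact (η.map _).injective hr2

/-- `x ∈ M A ↔ Nmap f x ∈ M B` for `f` integral with `Spec f` surjective. -/
theorem mem_M_iff_Nmap_mem_M {B : Type u} [CommRing B] (f : A →+* B) (hf : f.IsIntegral)
    (hs : Function.Surjective (PrimeSpectrum.comap f)) (x : η.N A) :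
    x ∈ η.M A ↔ η.Nmap f x ∈ η.M B := by
  refine ⟨fun hx => Nmap_mem_M η f hx, fun hx => ?_⟩
  exact mem_M_of_forall_Nmap_mem_M η (ι := Unit) (fun _ => B) (fun _ => f) (fun _ => hf)
    (fun p => ⟨(), hs p⟩) x (fun _ => hx)

end Integral

end Groth.Agent.Lib.Helper12.Eta
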