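import Groth.Agent.Lib.Helper12.Eta5

/-!
# The pointwise construction `EtaPt`: maps with `Nmap` bijective
-/

set_option autoImplicit false
set_option linter.unusedSectionVars false

universe u

open EtaPt

namespace Groth.Agent.Lib.Helper12.Eta

variable (η : FieldEndo.{u})

section NBij

variable {A B : Type u} [CommRing A] [CommRing B]

open Classical in
lemma comap_surjective_of_Nmap_injective (f : A →+* B) (h : Function.Injective (η.Nmap f)) :
    Function.Surjective (PrimeSpectrum.comap f) := by
  intro p
  by_contra hp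
  push Not at hp
  have h1 : η.Nmap f (Pi.single p 1) = 0 := by
    funext q
    change η.map _ ((Pi.single p 1 : η.N A) (PrimeSpectrum.comap f q)) = 0
    rw [Pi.single_eq_of_ne (hp q), map_zero]
  have h2 := h (h1.trans (map_zero _).symm)
  have h3 := congrFun h2 p
  rw [Pi.single_eq_same] at h3
  exact one_ne_zero h3

open Classical in
lemma comap_injective_of_Nmap_surjective (f : A →+* B) (h : Function.Surjective (η.Nmap f)) :
    Function.Injective (PrimeSpectrum.comap f) := by
  intro q q' hqq'
  by_contra hne
  obtain ⟨x, hx⟩ := h (Pi.single q 1)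
  have h1 := congrFun hx q
  have h2 := congrFun hx q'
  rw [Pi.single_eq_same] at h1
  rw [Pi.single_eq_of_ne (Ne.symm hne)] at h2
  rw [Nmap_apply] at h1 h2
  rw [ev_eq_zero_iff] at h2
  have h3 : pt ((algebraMap B q'.asIdeal.ResidueField).comp f) =
      pt ((algebraMap B q.asIdeal.ResidueField).comp f) := by
    apply PrimeSpectrum.ext
    change RingHom.ker _ = RingHom.ker _
    rw [← RingHom.comap_ker, ← RingHom.comap_ker, Ideal.ker_algebraMap_residueField,
      Ideal.ker_algebraMap_residueField]
    exact (congrArg PrimeSpectrum.asIdeal hqq').symm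
  rw [h3, ← ev_eq_zero_iff, h1] at h2
  exact one_ne_zero h2

lemma comap_bijective_of_Nmap_bijective (f : A →+* B) (h : Function.Bijective (η.Nmap f)) :
    Function.Bijective (PrimeSpectrum.comap f) :=
  ⟨comap_injective_of_Nmap_surjective η f h.2, comap_surjective_of_Nmap_injective η f h.1⟩

open Classical in
lemma map_residue_bijective_of_Nmap_surjective (f : A →+* B)
    (h : Function.Surjective (η.Nmap f)) (q : PrimeSpectrum B) :
    Function.Bijective (η.map (Ideal.ResidueField.map (PrimeSpectrum.comap f q).asIdeal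
      q.asIdeal f rfl)) := by
  refine ⟨(η.map _).injective, fun z => ?_⟩
  obtain ⟨x, hx⟩ := h (Pi.single q z)
  have h1 := congrFun hx q
  rw [Pi.single_eq_same] at h1
  exact ⟨x (PrimeSpectrum.comap f q), h1⟩

/-- The converse: `Spec f` bijective with all `F(k(p) → k(q))` bijective gives `Nmap f`
bijective. -/
lemma Nmap_bijective_of_comap_bijective (f : A →+* B)
    (hf : Function.Bijective (PrimeSpectrum.comap f))
    (hres : ∀ q : PrimeSpectrum B, Function.Bijective
      (η.map (Ideal.ResidueField.map (PrimeSpectrum.comap f q).asIdeal q.asIdeal f rfl))) :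
    Function.Bijective (η.Nmap f) := by
  refine ⟨Nmap_injective_of_comap_surjective η f hf.2, fun y => ?_⟩
  have key : ∀ p : PrimeSpectrum A, ∃ v : η.obj p.asIdeal.ResidueField,
      ∀ q : PrimeSpectrum B, ∀ hq : PrimeSpectrum.comap f q = p,
        η.map (Ideal.ResidueField.map p.asIdeal q.asIdeal f
          (congrArg PrimeSpectrum.asIdeal hq).symm) v = y q := by
    intro p
    obtain ⟨q₀, rfl⟩ := hf.2 p
    obtain ⟨v, hv⟩ := (hres q₀).2 (y q₀)
    refine ⟨v, fun q hq => ?_⟩
    have : q = q₀ := hf.1 hq
    subst this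
    exact hv
  choose v hv using key
  exact ⟨v, funext fun q => hv _ q rfl⟩

/-- a lift of a map to a field with given kernel to the residue field. -/
noncomputable def liftOfKer (p : PrimeSpectrum A) {L : Type u} [Field L] (h : A →+* L)
    (hp : RingHom.ker h = p.asIdeal) : p.asIdeal.ResidueField →+* L :=
  Ideal.ResidueField.lift p.asIdeal h hp.ge (by
    intro a ha
    change IsUnit (h a)
    refine isUnit_iff_ne_zero.2 (fun h0 => ha ?_)
    rw [← hp]; exact h0)

lemma liftOfKer_comp (p : PrimeSpectrum A) {L : Type u} [Field L] (h : A →+* L)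
    (hp : RingHom.ker h = p.asIdeal) : (liftOfKer p h hp).comp (algebraMap A _) = h := by
  refine RingHom.ext fun a => ?_
  unfold liftOfKer
  rw [RingHom.comp_apply, Ideal.ResidueField.lift_algebraMap]

/-- integral with `Nmap` bijective: maps to valuation rings in `V_η` extend. -/
theorem exists_factor_of_Nmap_bijective (f : A →+* B) (hf : f.IsIntegral)
    (hN : Function.Bijective (η.Nmap f))
    (R : Type u) [CommRing R] [IsDomain R] [ValuationRing R] (hR : η.InV R) (g : A →+* R) :
    ∃ g' : B →+* R, g'.comp f = g := by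
  let K := FractionRing R
  set h : A →+* K := (algebraMap R K).comp g with hh
  obtain ⟨Q, hQ⟩ := (comap_bijective_of_Nmap_bijective η f hN).2 (pt h)
  have hres := map_residue_bijective_of_Nmap_surjective η f hN.2 Q
  obtain ⟨φ, hφ⟩ := exists_factor_of_map_bijective η _ hres
  have hker : RingHom.ker h = (PrimeSpectrum.comap f Q).asIdeal :=
    (congrArg PrimeSpectrum.asIdeal hQ).symm
  let j := liftOfKer (PrimeSpectrum.comap f Q) h hker
  have hj : j.comp (algebraMap A _) = h := liftOfKer_comp _ h hker
  let e := RingEquiv.ofBijective (η.eta K) hR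
  let ψ : Q.asIdeal.ResidueField →+* K := e.symm.toRingHom.comp ((η.map j).comp φ)
  let g₀ : B →+* K := ψ.comp (algebraMap B _)
  have hg₀ : g₀.comp f = h := by
    refine RingHom.ext fun a => ?_
    change e.symm (η.map j (φ (algebraMap B _ (f a)))) = h a
    rw [← Ideal.ResidueField.map_algebraMap (PrimeSpectrum.comap f Q).asIdeal Q.asIdeal f rfl a]
    have h1 : φ (Ideal.ResidueField.map (PrimeSpectrum.comap f Q).asIdeal Q.asIdeal f rfl
        (algebraMap A _ a)) = η.eta _ (algebraMap A _ a) := RingHom.congr_fun hφ _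
    rw [h1, eta_natural_apply]
    have h2 : j (algebraMap A _ a) = h a := RingHom.congr_fun hj a
    rw [h2]
    exact e.symm_apply_apply _
  have hint : ∀ b, g₀ b ∈ (algebraMap R K).range := by
    intro b
    obtain ⟨P, hP, hPb⟩ := hf b
    have : IsIntegral R (g₀ b) := by
      refine ⟨P.map g, hP.map _, ?_⟩
      rw [Polynomial.eval₂_map, ← hh, ← hg₀, ← Polynomial.hom_eval₂, hPb, map_zero]
    exact IsIntegrallyClosed.isIntegral_iff.1 this
  obtain ⟨g', hg'⟩ := exists_lift_of_range_le (algebraMap R K)
    (IsFractionRing.injective R K) g₀ hint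
  refine ⟨g', RingHom.ext fun a => IsFractionRing.injective R K ?_⟩
  have := RingHom.congr_fun hg' (f a)
  change algebraMap R K (g' (f a)) = g₀ (f a) at this
  rw [RingHom.comp_apply, this]
  exact RingHom.congr_fun hg₀ a

/-- integral with `Nmap` bijective: `Nmap f` restricts to a bijection `M A → M B`. -/
theorem bijOn_M_of_Nmap_bijective (f : A →+* B) (hf : f.IsIntegral)
    (hN : Function.Bijective (η.Nmap f)) : Set.BijOn (η.Nmap f) (η.M A) (η.M B) := by
  refine ⟨fun x hx => Nmap_mem_M η f hx, hN.1.injOn, fun y hy => ?_⟩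
  obtain ⟨x, rfl⟩ := hN.2 y
  refine ⟨x, ?_, rfl⟩
  intro R _ _ _ hR g
  obtain ⟨g', rfl⟩ := exists_factor_of_Nmap_bijective η f hf hN R hR g
  rw [Nmap_comp]
  exact hy R hR g'

end NBij

end Groth.Agent.Lib.Helper12.Eta
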