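import Groth.Agent.Lib.Helper12.Eta6

/-!
# The pointwise construction `EtaPt`: functoriality of `M`, products, relative rings
-/

set_option autoImplicit false
set_option linter.unusedSectionVars false

universe u

open EtaPt

namespace Groth.Agent.Lib.Helper12.Eta

variable (η : FieldEndo.{u})

section Mmap

variable {A B C : Type u} [CommRing A] [CommRing B] [CommRing C]

/-- `M` on morphisms. -/
noncomputable def Mmap (f : A →+* B) : η.M A →+* η.M B :=
  (η.Nmap f).restrict (η.M A) (η.M B) (fun _ hx => Nmap_mem_M η f hx)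

@[simp] lemma Mmap_coe (f : A →+* B) (x : η.M A) : (Mmap η f x : η.N B) = η.Nmap f x := rfl

lemma Mmap_q (f : A →+* B) (a : A) : Mmap η f (η.q A a) = η.q B (f a) :=
  Subtype.ext (η.Nmap_t_apply f a)

lemma Mmap_comp_q (f : A →+* B) : (Mmap η f).comp (η.q A) = (η.q B).comp f :=
  RingHom.ext (Mmap_q η f)

@[simp] lemma q_coe (a : A) : (η.q A a : η.N A) = η.t A a := rfl

lemma Mmap_bijective_of_Nmap_bijective (f : A →+* B) (hf : f.IsIntegral)
    (hN : Function.Bijective (η.Nmap f)) : Function.Bijective (Mmap η f) := by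
  have h := bijOn_M_of_Nmap_bijective η f hf hN
  refine ⟨fun x y hxy => Subtype.ext (hN.1 (congrArg Subtype.val hxy)), fun y => ?_⟩
  obtain ⟨x, hx, hxy⟩ := h.2.2 y.2
  exact ⟨⟨x, hx⟩, Subtype.ext hxy⟩

/-- joint injectivity of `Nmap` for a jointly surjective family. -/
lemma eq_zero_of_forall_Nmap_eq_zero {ι : Type*} (B : ι → Type u) [∀ i, CommRing (B i)]
    (f : ∀ i, A →+* B i)
    (hs : ∀ p : PrimeSpectrum A, ∃ i, ∃ q : PrimeSpectrum (B i), PrimeSpectrum.comap (f i) q = p)
    (x : η.N A) (hx : ∀ i, η.Nmap (f i) x = 0) : x = 0 := by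
  funext p
  obtain ⟨i, q, rfl⟩ := hs p
  have := congrFun (hx i) q
  change η.map _ (x (PrimeSpectrum.comap (f i) q)) = 0 at this
  exact (map_eq_zero _).1 this

lemma Nmap_surjective_of_comap_injective (f : A →+* B)
    (hf : Function.Injective (PrimeSpectrum.comap f))
    (hres : ∀ q : PrimeSpectrum B, Function.Bijective
      (η.map (Ideal.ResidueField.map (PrimeSpectrum.comap f q).asIdeal q.asIdeal f rfl))) :
    Function.Surjective (η.Nmap f) := by
  intro y
  have key : ∀ p : PrimeSpectrum A, ∃ v : η.obj p.asIdeal.ResidueField,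
      ∀ q : PrimeSpectrum B, ∀ hq : PrimeSpectrum.comap f q = p,
        η.map (Ideal.ResidueField.map p.asIdeal q.asIdeal f
          (congrArg PrimeSpectrum.asIdeal hq).symm) v = y q := by
    intro p
    by_cases hp : ∃ q₀, PrimeSpectrum.comap f q₀ = p
    · obtain ⟨q₀, rfl⟩ := hp
      obtain ⟨v, hv⟩ := (hres q₀).2 (y q₀)
      refine ⟨v, fun q hq => ?_⟩
      have : q = q₀ := hf hq
      subst this
      exact hv
    · exact ⟨0, fun q hq => (hp ⟨q, hq⟩).elim⟩
  choose v hv using key
  exact ⟨v, funext fun q => hv _ q rfl⟩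

lemma Nmap_surjective_of_surjectiveOnStalks (f : A →+* B) (hf : f.SurjectiveOnStalks)
    (hinj : Function.Injective (PrimeSpectrum.comap f)) : Function.Surjective (η.Nmap f) :=
  Nmap_surjective_of_comap_injective η f hinj fun q =>
    map_bijective_of_bijective η _ (hf.residueFieldMap_bijective _ _ rfl)

lemma Nmap_surjective_of_surjective (f : A →+* B) (hf : Function.Surjective f) :
    Function.Surjective (η.Nmap f) :=
  Nmap_surjective_of_surjectiveOnStalks η f (RingHom.surjectiveOnStalks_of_surjective hf)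
    (PrimeSpectrum.comap_injective_of_surjective f hf)

end Mmap

section Prod

variable (A B : Type u) [CommRing A] [CommRing B]

lemma exists_comap_fst_or_snd (p : PrimeSpectrum (A × B)) :
    (∃ q, PrimeSpectrum.comap (RingHom.fst A B) q = p) ∨
      (∃ q, PrimeSpectrum.comap (RingHom.snd A B) q = p) := by
  obtain ⟨x | y, rfl⟩ := (PrimeSpectrum.primeSpectrumProd A B).symm.surjective p
  · exact Or.inl ⟨x, (PrimeSpectrum.primeSpectrumProd_symm_inl x).symm⟩
  · exact Or.inr ⟨y, (PrimeSpectrum.primeSpectrumProd_symm_inr y).symm⟩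

/-- a ring map from a product to a domain factors through a projection. -/
lemma exists_factor_fst_or_snd {R : Type*} [CommRing R] [IsDomain R] (g : A × B →+* R) :
    (∃ gA : A →+* R, g = gA.comp (RingHom.fst A B)) ∨
      (∃ gB : B →+* R, g = gB.comp (RingHom.snd A B)) := by
  have hidem : g (1, 0) * g (1, 0) = g (1, 0) := by rw [← map_mul]; simp
  have h01 : g (1, 0) + g (0, 1) = 1 := by
    rw [← map_add]
    have : ((1, 0) + (0, 1) : A × B) = 1 := by ext <;> simp
    rw [this, map_one]
  have hcases : g (1, 0) = 1 ∨ g (1, 0) = 0 := by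
    have : g (1, 0) * (g (1, 0) - 1) = 0 := by rw [mul_sub, hidem, mul_one, sub_self]
    rcases mul_eq_zero.1 this with h | h
    · exact Or.inr h
    · exact Or.inl (sub_eq_zero.1 h)
  rcases hcases with h | h
  · left
    have h0 : g (0, 1) = 0 := by rw [h] at h01; simpa using h01
    refine ⟨{ toFun := fun a => g (a, 0), map_one' := h, map_zero' := by
                change g 0 = 0; exact map_zero g,
              map_mul' := fun a a' => by rw [← map_mul]; simp,
              map_add' := fun a a' => by rw [← map_add]; simp }, RingHom.ext fun ⟨a, b⟩ => ?_⟩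
    change g (a, b) = g (a, 0)
    have : (a, b) = (a, 0) + (0, 1) * (0, b) := by simp
    rw [this, map_add, map_mul, h0, zero_mul, add_zero]
  · right
    have h0 : g (0, 1) = 1 := by rw [h] at h01; simpa using h01
    refine ⟨{ toFun := fun b => g (0, b), map_one' := h0, map_zero' := by
                change g 0 = 0; exact map_zero g,
              map_mul' := fun a a' => by rw [← map_mul]; simp,
              map_add' := fun a a' => by rw [← map_add]; simp }, RingHom.ext fun ⟨a, b⟩ => ?_⟩
    change g (a, b) = g (0, b)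
    have : (a, b) = (0, b) + (1, 0) * (a, 0) := by simp
    rw [this, map_add, map_mul, h, zero_mul, add_zero]

theorem bijOn_M_prod :
    Set.BijOn (fun x : η.N (A × B) => (η.Nmap (RingHom.fst A B) x, η.Nmap (RingHom.snd A B) x))
      (η.M (A × B)) ((η.M A : Set (η.N A)) ×ˢ (η.M B : Set (η.N B))) := by
  have hfam : ∀ x : η.N (A × B),
      η.Nmap (RingHom.fst A B) x = 0 → η.Nmap (RingHom.snd A B) x = 0 → x = 0 := by
    intro x h1 h2
    funext p
    rcases exists_comap_fst_or_snd A B p with ⟨q, rfl⟩ | ⟨q, rfl⟩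
    · have := congrFun h1 q
      change η.map _ (x (PrimeSpectrum.comap (RingHom.fst A B) q)) = 0 at this
      exact (map_eq_zero _).1 this
    · have := congrFun h2 q
      change η.map _ (x (PrimeSpectrum.comap (RingHom.snd A B) q)) = 0 at this
      exact (map_eq_zero _).1 this
  have hmem : ∀ x : η.N (A × B), η.Nmap (RingHom.fst A B) x ∈ η.M A →
      η.Nmap (RingHom.snd A B) x ∈ η.M B → x ∈ η.M (A × B) := by
    intro x h1 h2 R _ _ _ hR g
    rcases exists_factor_fst_or_snd A B g with ⟨gA, rfl⟩ | ⟨gB, rfl⟩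
    · rw [Nmap_comp]; exact h1 R hR gA
    · rw [Nmap_comp]; exact h2 R hR gB
  refine ⟨fun x hx => ⟨Nmap_mem_M η _ hx, Nmap_mem_M η _ hx⟩, ?_, ?_⟩
  · intro x _ y _ hxy
    have h1 : η.Nmap (RingHom.fst A B) x = η.Nmap (RingHom.fst A B) y := congrArg Prod.fst hxy
    have h2 : η.Nmap (RingHom.snd A B) x = η.Nmap (RingHom.snd A B) y := congrArg Prod.snd hxy
    have := hfam (x - y) (by rw [map_sub, h1, sub_self]) (by rw [map_sub, h2, sub_self])
    exact sub_eq_zero.1 this
  · rintro ⟨y, z⟩ ⟨hy, hz⟩
    obtain ⟨x', hx'⟩ := Nmap_surjective_of_surjective η (RingHom.fst A B)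
      (fun a => ⟨(a, 0), rfl⟩) y
    obtain ⟨x'', hx''⟩ := Nmap_surjective_of_surjective η (RingHom.snd A B)
      (fun b => ⟨(0, b), rfl⟩) z
    have e1 : η.Nmap (RingHom.fst A B) (η.t (A × B) (1, 0) * x' + η.t (A × B) (0, 1) * x'') = y := by
      rw [map_add, map_mul, map_mul, η.Nmap_t_apply, η.Nmap_t_apply, hx']
      change η.t A 1 * y + η.t A 0 * _ = y
      rw [map_one, map_zero, one_mul, zero_mul, add_zero]
    have e2 : η.Nmap (RingHom.snd A B) (η.t (A × B) (1, 0) * x' + η.t (A × B) (0, 1) * x'') = z := by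
      rw [map_add, map_mul, map_mul, η.Nmap_t_apply, η.Nmap_t_apply, hx'']
      change η.t B 0 * _ + η.t B 1 * z = z
      rw [map_one, map_zero, one_mul, zero_mul, zero_add]
    refine ⟨_, hmem _ (e1 ▸ hy) (e2 ▸ hz), ?_⟩
    exact Prod.ext e1 e2

end Prod

end Groth.Agent.Lib.Helper12.Eta
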