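import Groth.Agent.Lib.Helper12.Eta7

/-!
# The pointwise construction `EtaPt`: localization of `N`
-/

set_option autoImplicit false
set_option linter.unusedSectionVars false

universe u

open EtaPt

namespace Groth.Agent.Lib.Helper12.Eta

variable (η : FieldEndo.{u})

section Loc

variable {A : Type u} [CommRing A]

lemma Nmap_localization_surjective (M : Submonoid A) (S : Type u) [CommRing S] [Algebra A S]
    [IsLocalization M S] : Function.Surjective (η.Nmap (algebraMap A S)) :=
  Nmap_surjective_of_surjectiveOnStalks η _ (RingHom.surjectiveOnStalks_of_isLocalization M S)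
    (PrimeSpectrum.localization_comap_injective S M)

/-- a family in `N A` vanishing on `D(f)` is killed by `t f`. -/
lemma t_mul_eq_zero_of_Nmap_away_eq_zero (f : A) (S : Type u) [CommRing S] [Algebra A S]
    [IsLocalization.Away f S] (x : η.N A) (hx : η.Nmap (algebraMap A S) x = 0) :
    η.t A f * x = 0 := by
  funext p
  change η.eta _ (algebraMap A _ f) * x p = 0
  by_cases hf : f ∈ p.asIdeal
  · rw [Ideal.algebraMap_residueField_eq_zero.2 hf, map_zero, zero_mul]
  · have hp : p ∈ Set.range (PrimeSpectrum.comap (algebraMap A S)) := by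
      rw [PrimeSpectrum.localization_away_comap_range S f]
      exact hf
    obtain ⟨q, rfl⟩ := hp
    have := congrFun hx q
    change η.map _ (x (PrimeSpectrum.comap (algebraMap A S) q)) = 0 at this
    rw [(map_eq_zero _).1 this, mul_zero]

end Loc

end Groth.Agent.Lib.Helper12.Eta

namespace Groth.Agent.Lib.Helper12.Eta

variable (η : FieldEndo.{u})

section Rel

variable {A B : Type u} [CommRing A] [CommRing B]

lemma qRel_bijective_iff (f : A →+* B) :
    Function.Bijective (η.qRel f) ↔ Function.Injective f ∧ ∀ b ∈ η.rel f, ∃ a, f a = b := by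
  constructor
  · rintro ⟨h1, h2⟩
    refine ⟨fun a a' h => h1 (Subtype.ext h), fun b hb => ?_⟩
    obtain ⟨a, ha⟩ := h2 ⟨b, hb⟩
    exact ⟨a, congrArg Subtype.val ha⟩
  · rintro ⟨h1, h2⟩
    refine ⟨fun a a' h => h1 (congrArg Subtype.val h), fun b => ?_⟩
    obtain ⟨a, ha⟩ := h2 b.1 b.2
    exact ⟨a, Subtype.ext ha⟩

lemma mem_rel_iff (f : A →+* B) (b : B) :
    b ∈ η.rel f ↔ ∃ x ∈ η.M A, η.Nmap f x = η.t B b := Iff.rfl

/-- functoriality of `rel` along a commutative square. -/
lemma map_mem_rel_of_comm {A' B' : Type u} [CommRing A'] [CommRing B'] (f : A →+* B)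
    (f' : A' →+* B') (u : A →+* A') (v : B →+* B') (hc : v.comp f = f'.comp u) {b : B}
    (hb : b ∈ η.rel f) : v b ∈ η.rel f' := by
  obtain ⟨x, hx, hxb⟩ := hb
  refine ⟨η.Nmap u x, Nmap_mem_M η u hx, ?_⟩
  rw [← Nmap_comp, ← hc, Nmap_comp, hxb, η.Nmap_t_apply]

end Rel

section FFlat

open TensorProduct

/-- faithfully flat descent of membership in the image. -/
lemma exists_algebraMap_eq_of_tmul_eq (A A' B : Type*) [CommRing A] [CommRing A'] [CommRing B]
    [Algebra A A'] [Algebra A B] [Module.FaithfullyFlat A A'] (a' : A') (b : B)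
    (h : a' ⊗ₜ[A] (1 : B) = (1 : A') ⊗ₜ[A] b) : ∃ a, algebraMap A B a = b := by
  let Nsub : Submodule A B := LinearMap.range (Algebra.linearMap A B)
  let π : B →ₗ[A] B ⧸ Nsub := Nsub.mkQ
  have h1 : π 1 = 0 := by
    rw [Submodule.mkQ_apply, Submodule.Quotient.mk_eq_zero]
    exact ⟨1, by simp⟩
  have h2 := congrArg (LinearMap.lTensor A' π) h
  rw [LinearMap.lTensor_tmul, LinearMap.lTensor_tmul, h1, tmul_zero] at h2
  have h3 : π b = 0 := by
    apply Module.FaithfullyFlat.tensorProduct_mk_injective (A := A) (B := A') (B ⧸ Nsub)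
    rw [map_zero]
    exact h2.symm
  rw [Submodule.mkQ_apply, Submodule.Quotient.mk_eq_zero] at h3
  obtain ⟨a, ha⟩ := h3
  exact ⟨a, ha⟩

end FFlat

end Groth.Agent.Lib.Helper12.Eta
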