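import Groth.Agent.Lib.Helper12.Eta8

/-!
# The pointwise construction `EtaPt`: faithfully flat maps and total fraction rings
-/

set_option autoImplicit false
set_option linter.unusedSectionVars false

universe u

open EtaPt

namespace Groth.Agent.Lib.Helper12.Eta

section FracFlat

variable (A A' : Type*) [CommRing A] [CommRing A'] [Algebra A A']

lemma nonZeroDivisors_le_comap_of_flat [Module.Flat A A'] :
    nonZeroDivisors A ≤ (nonZeroDivisors A').comap (algebraMap A A') := by
  intro s hs
  have hreg : IsSMulRegular A' s := Module.Flat.isSMulRegular_of_nonZeroDivisors hs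
  rw [Submonoid.mem_comap, mem_nonZeroDivisors_iff_right]
  intro x hx
  apply hreg
  change s • x = s • (0 : A')
  rw [smul_zero, Algebra.smul_def, mul_comm]
  exact hx

/-- the induced map on total rings of fractions of a flat ring map. -/
noncomputable def fracMap [Module.Flat A A'] : FractionRing A →+* FractionRing A' :=
  IsLocalization.map (M := nonZeroDivisors A) (T := nonZeroDivisors A') (FractionRing A')
    (algebraMap A A') (nonZeroDivisors_le_comap_of_flat A A')

lemma fracMap_comp [Module.Flat A A'] :
    (fracMap A A').comp (algebraMap A (FractionRing A)) =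
      (algebraMap A' (FractionRing A')).comp (algebraMap A A') :=
  IsLocalization.map_comp _

lemma fracMap_algebraMap [Module.Flat A A'] (a : A) :
    fracMap A A' (algebraMap A (FractionRing A) a) =
      algebraMap A' (FractionRing A') (algebraMap A A' a) :=
  IsLocalization.map_eq _ a

lemma isIntegral_fracMap [Module.Flat A A'] {y : FractionRing A} (hy : IsIntegral A y) :
    IsIntegral A' (fracMap A A' y) := by
  obtain ⟨P, hP, hPy⟩ := hy
  refine ⟨P.map (algebraMap A A'), hP.map _, ?_⟩
  rw [Polynomial.eval₂_map, ← fracMap_comp, ← Polynomial.hom_eval₂, hPy, map_zero]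

/-- faithfully flat descent: a fraction which becomes integral (an element of `A'`) after base
change was already in `A`. -/
lemma exists_algebraMap_eq_of_fracMap_eq [Module.FaithfullyFlat A A'] (y : FractionRing A)
    (a' : A') (h : fracMap A A' y = algebraMap A' (FractionRing A') a') :
    ∃ c, algebraMap A (FractionRing A) c = y := by
  obtain ⟨a, s, rfl⟩ := IsLocalization.exists_mk'_eq (nonZeroDivisors A) y
  have h1 : fracMap A A' (IsLocalization.mk' (FractionRing A) a s) *
      fracMap A A' (algebraMap A _ (s : A)) = fracMap A A' (algebraMap A _ a) := by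
    rw [← map_mul, IsLocalization.mk'_spec]
  rw [h, fracMap_algebraMap, fracMap_algebraMap, ← map_mul] at h1
  have h2 : a' * algebraMap A A' s = algebraMap A A' a :=
    IsLocalization.injective (FractionRing A') (le_refl _) h1
  have h3 : a ∈ ((Ideal.span {(s : A)}).map (algebraMap A A')).comap (algebraMap A A') := by
    rw [Ideal.mem_comap, ← h2]
    exact Ideal.mul_mem_left _ _ (Ideal.mem_map_of_mem _ (Ideal.mem_span_singleton_self _))
  rw [Ideal.comap_map_eq_self_of_faithfullyFlat] at h3
  obtain ⟨c, hc⟩ := Ideal.mem_span_singleton'.1 h3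
  refine ⟨c, ?_⟩
  rw [eq_comm, IsLocalization.mk'_eq_iff_eq_mul, ← map_mul, hc]

end FracFlat

end Groth.Agent.Lib.Helper12.Eta
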