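import Groth.Agent.Lib.Helper29.FBCFlat
import Groth.Agent.Lib.Helper29.Cocycle
import Groth.Agent.Lib.Helper29.EndInv2
import Groth.Agent.Lib.Helper12.RP1
import Groth.Prelude.Def_KLin

/-! # Formal functions, part 1: sections of `g_* g^* L` for a flat base change `g`

For a pullback square `X' = X ×_R R'` with `R'` flat over `R`, all opens of `X` compact and `X`
quasi-separated, an `R`-linear form `ℓ : R' → R` induces a morphism `g_* g^* L ⟶ L`.
-/

set_option autoImplicit false
universe u
open CategoryTheory CategoryTheory.Limits AlgebraicGeometry TopologicalSpace Opposite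
open scoped TensorProduct

namespace Groth.Agent.Lib.Helper12.H12FF
open Groth.Agent.Lib.Helper29.QCoh Groth.Agent.Lib.Helper29.FBCFlat

section Gen
variable {R R' : Type u} [CommRing R] [CommRing R'] [Algebra R R']
  {X X' : Scheme.{u}} (f : X ⟶ Spec (CommRingCat.of R)) (g : X' ⟶ X)
  (q : X' ⟶ Spec (CommRingCat.of R'))

/-- restriction of `toGlobal` is `aX` -/
theorem res_toGlobal (U : X'.Opens) (r' : R') :
    X'.presheaf.map (homOfLE (le_top : U ≤ ⊤)).op (Coh.toGlobal q r') = aX q U r' := rfl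

/-- `η ≫ g_*(r' ·)` -/
noncomputable def mHom (L : X.Modules) (r' : R') :
    L ⟶ (Scheme.Modules.pushforward g).obj ((Scheme.Modules.pullback g).obj L) :=
  (Scheme.Modules.pullbackPushforwardAdjunction g).unit.app L ≫
    (Scheme.Modules.pushforward g).map
      (Formal.smulModΓ ((Scheme.Modules.pullback g).obj L) (Coh.toGlobal q r'))

theorem mHom_app (L : X.Modules) (r' : R') (V : X.Opens) (n : Γ(L, V)) :
    (mHom g q L r').app V n = aX q (g ⁻¹ᵁ V) r' • pullSect g L V n := rfl

end Gen

section Coeff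
variable {R R' : Type u} [CommRing R] [CommRing R'] [Algebra R R'] [Module.Flat R R']
  {X X' : Scheme.{u}} (f : X ⟶ Spec (CommRingCat.of R)) (g : X' ⟶ X)
  (q : X' ⟶ Spec (CommRingCat.of R'))
  (hpb : IsPullback g q f (Spec.map (CommRingCat.ofHom (algebraMap R R'))))
  [QuasiSeparatedSpace X] (hc : ∀ S : X.Opens, IsCompact (S : Set X))
  (L : X.Modules) [L.IsQuasicoherent] (ℓ : R' →ₗ[R] R)

/-- the tensor description of sections of `g^* L` over `g⁻¹ S` -/
noncomputable def cTEquiv (S : X.Opens) :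
    letI := modR f L S
    R' ⊗[R] Γ(L, S) ≃+ Γ((Scheme.Modules.pullback g).obj L, g ⁻¹ᵁ S) :=
  letI := modR f L S
  AddEquiv.ofBijective (cT f g q hpb.w L S) (cT_bijective f g q hpb L S (hc S))

/-- the coefficient map on sections -/
noncomputable def coeffApp (S : X.Opens) :
    Γ((Scheme.Modules.pullback g).obj L, g ⁻¹ᵁ S) →+ Γ(L, S) :=
  letI := modR f L S
  (((TensorProduct.lid R Γ(L, S)).toLinearMap.comp (ℓ.rTensor Γ(L, S))).toAddMonoidHom).comp
    (cTEquiv f g q hpb hc L S).symm.toAddMonoidHom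

theorem coeffApp_cT (S : X.Opens) :
    letI := modR f L S
    ∀ y : R' ⊗[R] Γ(L, S), coeffApp f g q hpb hc L ℓ S (cT f g q hpb.w L S y) =
      (TensorProduct.lid R Γ(L, S)) ((ℓ.rTensor Γ(L, S)) y) := by
  letI := modR f L S
  intro y
  change (TensorProduct.lid R Γ(L, S)) ((ℓ.rTensor Γ(L, S))
    ((cTEquiv f g q hpb hc L S).symm (cTEquiv f g q hpb hc L S y))) = _
  rw [AddEquiv.symm_apply_apply]

theorem coeffApp_smul_pullSect (S : X.Opens) (r' : R') (n : Γ(L, S)) :
    coeffApp f g q hpb hc L ℓ S (aX q (g ⁻¹ᵁ S) r' • pullSect g L S n) = aX f S (ℓ r') • n := by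
  letI := modR f L S
  have h := coeffApp_cT f g q hpb hc L ℓ S (r' ⊗ₜ[R] n)
  rw [cT_tmul] at h
  rw [h, LinearMap.rTensor_tmul, TensorProduct.lid_tmul]
  rfl

include hc in
theorem exists_cT_eq (S : X.Opens)
    (x : Γ((Scheme.Modules.pullback g).obj L, g ⁻¹ᵁ S)) :
    letI := modR f L S
    ∃ y : R' ⊗[R] Γ(L, S), cT f g q hpb.w L S y = x := by
  letI := modR f L S
  exact (cT_bijective f g q hpb L S (hc S)).2 x

theorem coeffApp_res {S S' : X.Opens} (h : S' ≤ S)
    (x : Γ((Scheme.Modules.pullback g).obj L, g ⁻¹ᵁ S)) :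
    coeffApp f g q hpb hc L ℓ S' (res _ (g.preimage_mono h) x) =
      res L h (coeffApp f g q hpb hc L ℓ S x) := by
  letI := modR f L S
  letI := modR f L S'
  obtain ⟨y, rfl⟩ := exists_cT_eq f g q hpb hc L S x
  rw [res_cT, coeffApp_cT, coeffApp_cT]
  induction y using TensorProduct.induction_on with
  | zero => simp
  | add a b ha hb => simp only [map_add, ha, hb]
  | tmul r' n =>
    rw [LinearMap.lTensor_tmul, LinearMap.rTensor_tmul, LinearMap.rTensor_tmul,
      TensorProduct.lid_tmul, TensorProduct.lid_tmul, resR_apply]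
    change aX f S' (ℓ r') • res L h n = res L h (aX f S (ℓ r') • n)
    rw [res_smul, map_aX]

theorem coeffApp_smul (S : X.Opens) (b : Γ(X, S))
    (x : Γ((Scheme.Modules.pullback g).obj L, g ⁻¹ᵁ S)) :
    coeffApp f g q hpb hc L ℓ S (g.app S b • x) = b • coeffApp f g q hpb hc L ℓ S x := by
  letI := modR f L S
  obtain ⟨y, rfl⟩ := exists_cT_eq f g q hpb hc L S x
  induction y using TensorProduct.induction_on with
  | zero => simp
  | add a c ha hc' => rw [map_add, smul_add, map_add, ha, hc', map_add, smul_add]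
  | tmul r' n =>
    rw [cT_tmul, smul_comm, ← pullSect_smul, coeffApp_smul_pullSect, coeffApp_smul_pullSect,
      smul_comm]

/-- the morphism `g_* g^* L ⟶ L` induced by an `R`-linear form on `R'` -/
noncomputable def coeffHom :
    (Scheme.Modules.pushforward g).obj ((Scheme.Modules.pullback g).obj L) ⟶ L :=
  homOfApp (M := (Scheme.Modules.pushforward g).obj ((Scheme.Modules.pullback g).obj L)) (N := L)
    (fun S => coeffApp f g q hpb hc L ℓ S) (fun S b x => coeffApp_smul f g q hpb hc L ℓ S b x)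
    (fun h x => coeffApp_res f g q hpb hc L ℓ h x)

theorem mHom_coeffHom (r' : R') :
    mHom g q L r' ≫ coeffHom f g q hpb hc L ℓ = Formal.smulModΓ L (Coh.toGlobal f (ℓ r')) := by
  apply Scheme.Modules.hom_ext
  intro V
  ext n
  change coeffApp f g q hpb hc L ℓ V ((mHom g q L r').app V n) = _
  rw [mHom_app, coeffApp_smul_pullSect, KLin.smulModΓ_app_apply, res_toGlobal]

end Coeff

end Groth.Agent.Lib.Helper12.H12FF
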