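import Groth.Agent.Lib.Helper12.FF9

/-! # Formal functions, part 11: uniform Artin-Rees type statements for `H^p(X, I^n F)` -/

set_option autoImplicit false
universe u
open CategoryTheory CategoryTheory.Limits AlgebraicGeometry TopologicalSpace Opposite Abelian

namespace Groth.Agent.Lib.Helper12.H12FF
open Groth.Agent.Lib.Lead.LinLES

section Gen
variable (A : Type u) [CommRing A] [IsNoetherianRing A] (I : Ideal A)
  (X : Scheme.{u}) [X.Over (Spec (CommRingCat.of A))] [IsProper (X ↘ Spec (CommRingCat.of A))]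
  (M : X.Modules) (hM : Coh.IsCoh M) (q : ℕ)

/-- the transition maps land in `I^(l-k) Q_k` once `Q` is generated in degrees `≤ d` -/
theorem leK_mem_pow_smul {n : ℕ} (a : Fin n → A) (ha' : ∀ i, a i ∈ I)
    (Q : ∀ k, Submodule A (Coh.HH X (Kk I k M) q)) (d : ℕ)
    (hd : ∀ k, d ≤ k → Q (k + 1) = ⨆ i, (Q k).map (Canon.HHlin A (mulK I M (a i) (ha' i) k) q)) :
    ∀ k : ℕ, d ≤ k → ∀ l : ℕ, ∀ h : k ≤ l, ∀ y ∈ Q l,
      Canon.HHlin A (leK I M h) q y ∈ I ^ (l - k) • Q k := by
  intro k hk l h
  induction l, h using Nat.le_induction with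
  | base =>
    intro y hy
    rw [leK_refl, HHlin_id, Nat.sub_self, pow_zero, Ideal.one_eq_top, Submodule.top_smul]
    exact hy
  | succ l h ih =>
    intro y hy
    rw [hd l (hk.trans h)] at hy
    refine Submodule.iSup_induction _ (motive := fun y =>
      Canon.HHlin A (leK I M (Nat.le_succ_of_le h)) q y ∈ I ^ (l + 1 - k) • Q k) hy ?_ ?_ ?_
    · rintro i _ ⟨y', hy', rfl⟩
      rw [HHlin_mulK_leK A I X M (a i) (ha' i) h]
      have e : l + 1 - k = (l - k) + 1 := by omega
      rw [e, pow_succ', Submodule.mul_smul]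
      exact Submodule.smul_mem_smul (ha' i) (ih y' hy')
    · rw [map_zero]
      exact zero_mem _
    · intro y₁ y₂ h₁ h₂
      rw [map_add]
      exact add_mem h₁ h₂

/-- injectivity of `H^0` of a monomorphism -/
theorem HHlin_zero_injective {F G : X.Modules} (φ : F ⟶ G) [Mono φ] :
    Function.Injective (Canon.HHlin A φ 0) := by
  rw [injective_iff_map_eq_zero]
  intro x hx
  obtain ⟨ψ, rfl⟩ := (Ext.mk₀_bijective _ _).2 x
  rw [HHlin_apply, Ext.mk₀_comp_mk₀, Ext.mk₀_eq_zero_iff] at hx
  haveI : Mono (abMap φ) :=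
    inferInstanceAs (Mono ((Groth.Agent.Lib.Helper29.QCoh.toSheafAb X).map φ))
  rw [Ext.mk₀_eq_zero_iff]
  exact (cancel_mono (abMap φ)).mp (by rw [hx, zero_comp])

/-- `ker (H^q(I^k M) → H^q(M))` -/
noncomputable def QK (k : ℕ) : Submodule A (Coh.HH X (Kk I k M) q) :=
  LinearMap.ker (Canon.HHlin A (inclK I k M) q)

include hM in
/-- uniform vanishing of the transition maps on `ker (H^q(I^l M) → H^q(M))`, in every degree -/
theorem exists_leK_QK_eq_zero :
    ∃ d : ℕ, ∀ k : ℕ, d ≤ k → ∀ l : ℕ, ∀ h : k ≤ l, k + d ≤ l →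
      ∀ y ∈ QK A I X M q l, Canon.HHlin A (leK I M h) q y = 0 := by
  cases q with
  | zero =>
    refine ⟨0, fun k _ l h _ y hy => ?_⟩
    have h0 : y = 0 := HHlin_zero_injective A X (inclK I l M) (by
      rw [map_zero]
      exact hy)
    rw [h0, map_zero]
  | succ p => exact exists_leK_Qk_eq_zero A I X M hM p

include hM in
/-- **Uniform Artin-Rees for kernels** (the form of S0837). -/
theorem exists_ker_inclK_eq :
    ∃ c : ℕ, ∀ (n : ℕ) (_ : c ≤ n) (y : Coh.HH X (Kk I n M) q),
      Canon.HHlin A (inclK I n M) q y = 0 ↔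
        Canon.HHlin A (leK I M (Nat.sub_le n c)) q y = 0 := by
  obtain ⟨d, hd⟩ := exists_leK_QK_eq_zero A I X M hM q
  refine ⟨2 * d, fun n hn y => ⟨fun hy => ?_, fun hy => ?_⟩⟩
  · have h1 : n - 2 * d ≤ max (n - 2 * d) d := le_max_left _ _
    have h2 : max (n - 2 * d) d ≤ n := by
      rcases le_total (n - 2 * d) d with h' | h'
      · rw [max_eq_right h']; omega
      · rw [max_eq_left h']; omega
    rw [← leK_comp I M h1 h2, HHlin_comp,
      hd (max (n - 2 * d) d) (le_max_right _ _) n h2 ?_ y hy, map_zero]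
    rcases le_total (n - 2 * d) d with h' | h'
    · rw [max_eq_right h']; omega
    · rw [max_eq_left h']; omega
  · rw [← leK_inclK I M (Nat.sub_le n (2 * d)), HHlin_comp, hy, map_zero]

include hM in
/-- **Uniform Artin-Rees for images** (the form of S0853). -/
theorem exists_range_leK_le :
    ∃ c : ℕ, ∀ (n m : ℕ), c ≤ n + m → ∀ y : Coh.HH X (Kk I (n + m) M) q,
      Canon.HHlin A (leK I M (Nat.le_add_right n m)) q y ∈
        I ^ (m - (c - n)) • (⊤ : Submodule A (Coh.HH X (Kk I n M) q)) := by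
  obtain ⟨r, a, ha⟩ := Submodule.fg_iff_exists_fin_generating_family.mp
    (IsNoetherian.noetherian I)
  have hI : I = Ideal.span (Set.range a) := ha.symm
  have ha' : ∀ i, a i ∈ I := fun i => by rw [hI]; exact Ideal.subset_span ⟨i, rfl⟩
  obtain ⟨d, hd⟩ := key_stabilize A I X M hM q a hI ha' (fun _ => ⊤) (fun _ _ => le_top)
  have hB := leK_mem_pow_smul A I X M q a ha' (fun _ => ⊤) d hd
  refine ⟨d, fun n m hnm y => ?_⟩
  rcases le_total d n with hdn | hdn
  · have e : m - (d - n) = n + m - n := by omega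
    rw [e]
    exact hB n hdn (n + m) (Nat.le_add_right n m) y trivial
  · have h1 := hB d le_rfl (n + m) hnm y trivial
    rw [← leK_comp I M hdn hnm, HHlin_comp]
    have e : m - (d - n) = n + m - d := by omega
    rw [e]
    refine Submodule.smul_induction_on h1 ?_ ?_
    · intro s hs z _
      rw [map_smul]
      exact Submodule.smul_mem_smul hs trivial
    · intro z₁ z₂ h₁ h₂
      rw [map_add]
      exact add_mem h₁ h₂

end Gen

end Groth.Agent.Lib.Helper12.H12FF
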