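import Groth.Agent.Lib.Helper12.FF1
import Groth.Agent.Lib.Helper12.FF2
import Groth.Agent.Lib.Helper29.ProjF1
import Groth.Agent.Lib.Helper17.QCohSubMax
import Groth.Agent.Lib.Helper29.QCohCrit
import Groth.Agent.Lib.Helper12.ModCons1

/-! # Formal functions, part 3: the Rees sheaf on `X' = X ×_A P`

`A → P → Pt` rings, `X' = X ×_A P`, `X₁ = X' ×_P Pt`.  The image `FI` of
`g^* F → φ_* (φ ≫ g)^* F` is a coherent module on `X'`; we construct the maps between
`I^k F` and `g_* FI`.
-/

set_option autoImplicit false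
universe u
open CategoryTheory CategoryTheory.Limits AlgebraicGeometry TopologicalSpace Opposite
open scoped TensorProduct

namespace Groth.Agent.Lib.Helper12.H12FF
open Groth.Agent.Lib.Helper29.QCoh Groth.Agent.Lib.Helper29.FBCFlat

section MoreGen
variable {R R' : Type u} [CommRing R] [CommRing R'] [Algebra R R']
  {X X' : Scheme.{u}} (f : X ⟶ Spec (CommRingCat.of R)) (g : X' ⟶ X)
  (q : X' ⟶ Spec (CommRingCat.of R'))

theorem mHom_comp_smul (L : X.Modules) (r s : R') :
    mHom g q L r ≫ (Scheme.Modules.pushforward g).map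
      (Formal.smulModΓ ((Scheme.Modules.pullback g).obj L) (Coh.toGlobal q s)) =
      mHom g q L (r * s) := by
  unfold mHom
  rw [Category.assoc, ← Functor.map_comp, ← KLin.smulModΓ_mul, ← map_mul]

theorem smul_comp_mHom (hw : g ≫ f = q ≫ Spec.map (CommRingCat.ofHom (algebraMap R R')))
    (L : X.Modules) (a : R) (r : R') :
    Formal.smulModΓ L (Coh.toGlobal f a) ≫ mHom g q L r = mHom g q L (algebraMap R R' a * r) := by
  apply Scheme.Modules.hom_ext
  intro V
  ext n
  change (mHom g q L r).app V ((Formal.smulModΓ L (Coh.toGlobal f a)).app V n) = _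
  rw [mHom_app, mHom_app, KLin.smulModΓ_app_apply, res_toGlobal, pullSect_smul,
    app_aX f g q hw, map_mul, mul_smul, smul_comm]

/-- `g_* g^* L` is generated by the images of the `mHom`. -/
theorem hom_eq_zero_of_mHom
    (hpb : IsPullback g q f (Spec.map (CommRingCat.ofHom (algebraMap R R'))))
    (L : X.Modules) [L.IsQuasicoherent] {Z : X.Modules}
    (lam : (Scheme.Modules.pushforward g).obj ((Scheme.Modules.pullback g).obj L) ⟶ Z)
    (h : ∀ r' : R', mHom g q L r' ≫ lam = 0) : lam = 0 := by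
  apply Groth.Agent.Lib.Helper29.EndInv.hom_ext_affine
  intro V hV x
  let lamV : Γ((Scheme.Modules.pullback g).obj L, g ⁻¹ᵁ V) →+ Γ(Z, V) :=
    (lam.app V).hom
  change lamV x = 0
  letI := modR f L V
  obtain ⟨y, rfl⟩ := (cT_bijective_of_affine f g q hpb L hV).2 x
  induction y using TensorProduct.induction_on with
  | zero => rw [map_zero, map_zero]
  | add a b ha hb => rw [map_add, map_add, ha, hb, add_zero]
  | tmul r' n =>
    rw [cT_tmul, ← mHom_app]
    have := congrArg (fun ψ => Scheme.Modules.Hom.app ψ V n) (h r')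
    exact this

end MoreGen

section Setup
variable {A P Pt : Type u} [CommRing A] [CommRing P] [CommRing Pt] [Algebra A P] [Algebra P Pt]
  [Algebra A Pt] [IsScalarTower A P Pt]
  {X X' X₁ : Scheme.{u}} (f : X ⟶ Spec (CommRingCat.of A)) (g : X' ⟶ X)
  (q : X' ⟶ Spec (CommRingCat.of P)) (φ : X₁ ⟶ X') (q₁ : X₁ ⟶ Spec (CommRingCat.of Pt))
  (hg : IsPullback g q f (Spec.map (CommRingCat.ofHom (algebraMap A P))))
  (hφ : IsPullback φ q₁ q (Spec.map (CommRingCat.ofHom (algebraMap P Pt))))
  (F : X.Modules)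

include hg hφ in
theorem isPullback_comp :
    IsPullback (φ ≫ g) q₁ f (Spec.map (CommRingCat.ofHom (algebraMap A Pt))) := by
  have h := hφ.paste_horiz hg
  have e : Spec.map (CommRingCat.ofHom (algebraMap P Pt)) ≫
      Spec.map (CommRingCat.ofHom (algebraMap A P)) =
      Spec.map (CommRingCat.ofHom (algebraMap A Pt)) := by
    rw [← Spec.map_comp, ← CommRingCat.ofHom_comp, ← IsScalarTower.algebraMap_eq]
  rwa [e] at h

/-- `(φ ≫ g)^* F` on `X₁` -/
noncomputable abbrev N1 : X₁.Modules := (Scheme.Modules.pullback (φ ≫ g)).obj F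

/-- `φ_* (φ ≫ g)^* F` on `X'` -/
noncomputable abbrev NN : X'.Modules := (Scheme.Modules.pushforward φ).obj (N1 g φ F)

/-- `(φ ≫ g)_* (φ ≫ g)^* F` on `X` -/
noncomputable abbrev EE : X.Modules := (Scheme.Modules.pushforward (φ ≫ g)).obj (N1 g φ F)

/-- the comparison `g^* F ⟶ φ_* (φ ≫ g)^* F` -/
noncomputable def psi : (Scheme.Modules.pullback g).obj F ⟶ NN g φ F :=
  ((Scheme.Modules.pullbackPushforwardAdjunction g).homEquiv F (NN g φ F)).symm
    ((Scheme.Modules.pullbackPushforwardAdjunction (φ ≫ g)).unit.app F ≫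
      (Scheme.Modules.pushforwardComp φ g).inv.app (N1 g φ F))

theorem unit_psi :
    (Scheme.Modules.pullbackPushforwardAdjunction g).unit.app F ≫
      (Scheme.Modules.pushforward g).map (psi g φ F) =
    (Scheme.Modules.pullbackPushforwardAdjunction (φ ≫ g)).unit.app F ≫
      (Scheme.Modules.pushforwardComp φ g).inv.app (N1 g φ F) := by
  have h := ((Scheme.Modules.pullbackPushforwardAdjunction g).homEquiv F (NN g φ F)).apply_symm_apply
    ((Scheme.Modules.pullbackPushforwardAdjunction (φ ≫ g)).unit.app F ≫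
      (Scheme.Modules.pushforwardComp φ g).inv.app (N1 g φ F))
  rw [Adjunction.homEquiv_unit] at h
  exact h

theorem psi_pullSect (V : X.Opens) (n : Γ(F, V)) :
    (psi g φ F).app (g ⁻¹ᵁ V) (pullSect g F V n) = pullSect (φ ≫ g) F V n := by
  have h := congrArg (fun ψ => Scheme.Modules.Hom.app ψ V n) (unit_psi g φ F)
  exact h

/-- the Rees module on `X'` -/
noncomputable def FI : X'.Modules := Limits.image (psi g φ F)

/-- `g^* F ↠ FI` -/
noncomputable def eI : (Scheme.Modules.pullback g).obj F ⟶ FI g φ F := factorThruImage (psi g φ F)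

/-- `FI ↪ φ_* (φ ≫ g)^* F` -/
noncomputable def jI : FI g φ F ⟶ NN g φ F := image.ι (psi g φ F)

instance : Epi (eI g φ F) := inferInstanceAs (Epi (factorThruImage (psi g φ F)))
instance : Mono (jI g φ F) := inferInstanceAs (Mono (image.ι (psi g φ F)))

theorem eI_jI : eI g φ F ≫ jI g φ F = psi g φ F := image.fac _

/-- `g_* FI ↪ (φ ≫ g)_* (φ ≫ g)^* F` -/
noncomputable def JJ : (Scheme.Modules.pushforward g).obj (FI g φ F) ⟶ EE g φ F :=
  (Scheme.Modules.pushforward g).map (jI g φ F) ≫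
    (Scheme.Modules.pushforwardComp φ g).hom.app (N1 g φ F)

instance : Mono (JJ g φ F) := by
  unfold JJ
  haveI : Mono ((Scheme.Modules.pushforward g).map (jI g φ F)) := inferInstance
  exact mono_comp _ _

theorem JJ_app (V : X.Opens) (x : Γ((Scheme.Modules.pushforward g).obj (FI g φ F), V)) :
    (JJ g φ F).app V x = (jI g φ F).app (g ⁻¹ᵁ V) x := rfl

include hφ in
/-- (K1) -/
theorem mHom_eI_JJ (p : P) :
    mHom g q F p ≫ (Scheme.Modules.pushforward g).map (eI g φ F) ≫ JJ g φ F =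
      mHom (φ ≫ g) q₁ F (algebraMap P Pt p) := by
  apply Scheme.Modules.hom_ext
  intro V
  ext n
  change (jI g φ F).app (g ⁻¹ᵁ V) ((eI g φ F).app (g ⁻¹ᵁ V) ((mHom g q F p).app V n)) = _
  rw [← app_comp, eI_jI, mHom_app, mHom_app, Scheme.Modules.Hom.app_smul, psi_pullSect,
    pushforward_smul, app_aX q φ q₁ hφ.w]
  rfl

include hφ in
/-- (K2) -/
theorem smul_JJ (p : P) :
    (Scheme.Modules.pushforward g).map (Formal.smulModΓ (FI g φ F) (Coh.toGlobal q p)) ≫
      JJ g φ F =
    JJ g φ F ≫ (Scheme.Modules.pushforward (φ ≫ g)).map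
      (Formal.smulModΓ (N1 g φ F) (Coh.toGlobal q₁ (algebraMap P Pt p))) := by
  apply Scheme.Modules.hom_ext
  intro V
  ext x
  change (jI g φ F).app (g ⁻¹ᵁ V)
      ((Formal.smulModΓ (FI g φ F) (Coh.toGlobal q p)).app (g ⁻¹ᵁ V) x) =
    (Formal.smulModΓ (N1 g φ F) (Coh.toGlobal q₁ (algebraMap P Pt p))).app ((φ ≫ g) ⁻¹ᵁ V)
      ((jI g φ F).app (g ⁻¹ᵁ V) x)
  rw [KLin.smulModΓ_app_apply, KLin.smulModΓ_app_apply, res_toGlobal, res_toGlobal,
    Scheme.Modules.Hom.app_smul, pushforward_smul, app_aX q φ q₁ hφ.w]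
  rfl

end Setup

end Groth.Agent.Lib.Helper12.H12FF
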