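import Groth.Agent.Lib.Helper12.FF3

/-! # Formal functions, part 4: the maps `I^k F ⇄ g_* FI` -/

set_option autoImplicit false
universe u
open CategoryTheory CategoryTheory.Limits AlgebraicGeometry TopologicalSpace Opposite
open scoped TensorProduct

namespace Groth.Agent.Lib.Helper12.H12FF
open Groth.Agent.Lib.Helper29.QCoh Groth.Agent.Lib.Helper29.FBCFlat

section Maps
variable {A P Pt : Type u} [CommRing A] [CommRing P] [CommRing Pt] [Algebra A P] [Algebra P Pt]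
  [Algebra A Pt] [IsScalarTower A P Pt] [Module.Flat A Pt]
  {X X' X₁ : Scheme.{u}} [X.Over (Spec (CommRingCat.of A))] (g : X' ⟶ X)
  (q : X' ⟶ Spec (CommRingCat.of P)) (φ : X₁ ⟶ X') (q₁ : X₁ ⟶ Spec (CommRingCat.of Pt))
  (hg : IsPullback g q (X ↘ Spec (CommRingCat.of A))
    (Spec.map (CommRingCat.ofHom (algebraMap A P))))
  (hφ : IsPullback φ q₁ q (Spec.map (CommRingCat.ofHom (algebraMap P Pt))))
  [QuasiSeparatedSpace X] (hc : ∀ S : X.Opens, IsCompact (S : Set X))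
  (F : X.Modules) [F.IsQuasicoherent]
  (I : Ideal A) (τ : ℕ → Pt) (ℓ : ℕ → (Pt →ₗ[A] A))
  (hℓτ : ∀ j k, ℓ j (τ k) = if j = k then 1 else 0)
  (H1 : ∀ k (p : P), ℓ k (algebraMap P Pt p) ∈ I ^ k)
  (H2 : ∀ k, ∀ a ∈ I ^ k, ∃ p : P, algebraMap P Pt p = algebraMap A Pt a * τ k)

/-- `t^k : F ⟶ h_* h^* F` -/
noncomputable def mH (k : ℕ) : F ⟶ EE g φ F := mHom (φ ≫ g) q₁ F (τ k)

/-- the `k`-th coefficient `h_* h^* F ⟶ F` -/
noncomputable def cH (k : ℕ) : EE g φ F ⟶ F :=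
  coeffHom (X ↘ Spec (CommRingCat.of A)) (φ ≫ g) q₁ (isPullback_comp _ g q φ q₁ hg hφ) hc F (ℓ k)

include hℓτ in
theorem mH_cH_self (k : ℕ) : mH g φ q₁ F τ k ≫ cH g q φ q₁ hg hφ hc F ℓ k = 𝟙 F := by
  unfold mH cH
  rw [mHom_coeffHom, hℓτ, if_pos rfl, map_one, KLin.smulModΓ_one]

include hℓτ in
theorem mH_cH_ne (j k : ℕ) (h : j ≠ k) : mH g φ q₁ F τ k ≫ cH g q φ q₁ hg hφ hc F ℓ j = 0 := by
  unfold mH cH
  rw [mHom_coeffHom, hℓτ, if_neg h, map_zero, KLin.smulModΓ_zero]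

include H1 in
theorem JJ_cH_modPowπ [IsAffineHom g] (k : ℕ) :
    (JJ g φ F ≫ cH g q φ q₁ hg hφ hc F ℓ k) ≫ Formal.modPowπ I k F = 0 := by
  haveI : ((Scheme.Modules.pullback g).obj F).IsQuasicoherent := inferInstance
  haveI : IsAffineHom φ :=
    MorphismProperty.of_isPullback (P := @IsAffineHom) hφ.flip inferInstance
  haveI : (N1 g φ F).IsQuasicoherent := inferInstance
  haveI : (NN g φ F).IsQuasicoherent := isQuasicoherent_pushforward_of_isAffineHom φ _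
  haveI : (FI g φ F).IsQuasicoherent :=
    Groth.Agent.Lib.Helper17.QCohSubMax.isQuasicoherent_image (psi g φ F)
  haveI : Epi ((Scheme.Modules.pushforward g).map (eI g φ F)) :=
    ProjF.epi_pushforward_of_isAffineHom g (eI g φ F)
  rw [← cancel_epi ((Scheme.Modules.pushforward g).map (eI g φ F)), comp_zero]
  apply hom_eq_zero_of_mHom (X ↘ Spec (CommRingCat.of A)) g q hg F
  intro p
  have h1 := mHom_eI_JJ g q φ q₁ hφ F p
  rw [← Category.assoc, ← Category.assoc, ← Category.assoc]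
  rw [Category.assoc (mHom g q F p), h1]
  unfold cH
  rw [mHom_coeffHom]
  exact smulMod_modPowπ I k F _ (H1 k p)

/-- the projection `g_* FI ⟶ I^k F` -/
noncomputable def piSh [IsAffineHom g] (k : ℕ) :
    (Scheme.Modules.pushforward g).obj (FI g φ F) ⟶ Kk I k F :=
  toK I k (JJ g φ F ≫ cH g q φ q₁ hg hφ hc F ℓ k) (JJ_cH_modPowπ g q φ q₁ hg hφ hc F I ℓ H1 k)

theorem piSh_inclK [IsAffineHom g] (k : ℕ) :
    piSh g q φ q₁ hg hφ hc F I ℓ H1 k ≫ inclK I k F = JJ g φ F ≫ cH g q φ q₁ hg hφ hc F ℓ k :=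
  toK_inclK _ _ _ _

/-- a polynomial lifting `a t^k` -/
noncomputable def pOf (k : ℕ) (a : ↥(I ^ k)) : P := (H2 k a.1 a.2).choose

theorem pOf_spec (k : ℕ) (a : ↥(I ^ k)) :
    algebraMap P Pt (pOf I τ H2 k a) = algebraMap A Pt a.1 * τ k := (H2 k a.1 a.2).choose_spec

/-- the top map of the lifting square -/
noncomputable def vSh (k : ℕ) :
    (∐ fun _ : ↥(I ^ k) => F) ⟶ (Scheme.Modules.pushforward g).obj (FI g φ F) :=
  Sigma.desc fun a => mHom g q F (pOf I τ H2 k a) ≫ (Scheme.Modules.pushforward g).map (eI g φ F)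

include hg hφ in
theorem vSh_JJ (k : ℕ) :
    vSh g q φ F I τ H2 k ≫ JJ g φ F = liftK I k F ≫ (inclK I k F ≫ mH g φ q₁ F τ k) := by
  apply Sigma.hom_ext
  intro a
  unfold vSh
  rw [← Category.assoc, colimit.ι_desc]
  change (mHom g q F (pOf I τ H2 k a) ≫ (Scheme.Modules.pushforward g).map (eI g φ F)) ≫
    JJ g φ F = _
  have h2 : Sigma.ι (fun _ : ↥(I ^ k) => F) a ≫ liftK I k F ≫ inclK I k F ≫ mH g φ q₁ F τ k =
      Formal.smulMod A F a.1 ≫ mH g φ q₁ F τ k := by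
    rw [← Category.assoc (liftK I k F), liftK_inclK, ← Category.assoc, ι_smulFamily]
  rw [Category.assoc, mHom_eI_JJ g q φ q₁ hφ F, pOf_spec, h2]
  unfold mH
  exact (smul_comp_mHom (X ↘ Spec (CommRingCat.of A)) (φ ≫ g) q₁
    (isPullback_comp _ g q φ q₁ hg hφ).w F a.1 (τ k)).symm

/-- the inclusion `I^k F ⟶ g_* FI` -/
noncomputable def iotaSh (k : ℕ) : Kk I k F ⟶ (Scheme.Modules.pushforward g).obj (FI g φ F) :=
  haveI := strongEpi_of_epi (liftK I k F)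
  (CommSq.mk (vSh_JJ g q φ q₁ hg hφ F I τ H2 k)).lift

theorem iotaSh_JJ (k : ℕ) :
    iotaSh g q φ q₁ hg hφ F I τ H2 k ≫ JJ g φ F = inclK I k F ≫ mH g φ q₁ F τ k := by
  haveI := strongEpi_of_epi (liftK I k F)
  exact (CommSq.mk (vSh_JJ g q φ q₁ hg hφ F I τ H2 k)).fac_right

include hℓτ in
theorem iotaSh_piSh_self [IsAffineHom g] (k : ℕ) :
    iotaSh g q φ q₁ hg hφ F I τ H2 k ≫ piSh g q φ q₁ hg hφ hc F I ℓ H1 k = 𝟙 _ := by
  rw [← cancel_mono (inclK I k F), Category.assoc, piSh_inclK, ← Category.assoc, iotaSh_JJ,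
    Category.assoc, mH_cH_self g q φ q₁ hg hφ hc F τ ℓ hℓτ, Category.comp_id, Category.id_comp]

include hℓτ in
theorem iotaSh_piSh_ne [IsAffineHom g] (j k : ℕ) (h : j ≠ k) :
    iotaSh g q φ q₁ hg hφ F I τ H2 k ≫ piSh g q φ q₁ hg hφ hc F I ℓ H1 j = 0 := by
  rw [← cancel_mono (inclK I j F), Category.assoc, piSh_inclK, ← Category.assoc, iotaSh_JJ,
    Category.assoc, mH_cH_ne g q φ q₁ hg hφ hc F τ ℓ hℓτ j k h, comp_zero, zero_comp]

/-- (b): the action of `x ∈ P` with `x t^k = a t^(k+1)` -/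
theorem iotaSh_smul (x : P) (a : A) (ha : a ∈ I)
    (hxa : ∀ k, τ k * algebraMap P Pt x = algebraMap A Pt a * τ (k + 1)) (k : ℕ) :
    iotaSh g q φ q₁ hg hφ F I τ H2 k ≫
      (Scheme.Modules.pushforward g).map (Formal.smulModΓ (FI g φ F) (Coh.toGlobal q x)) =
    mulK I F a ha k ≫ iotaSh g q φ q₁ hg hφ F I τ H2 (k + 1) := by
  rw [← cancel_mono (JJ g φ F)]
  have hL : (iotaSh g q φ q₁ hg hφ F I τ H2 k ≫
      (Scheme.Modules.pushforward g).map (Formal.smulModΓ (FI g φ F) (Coh.toGlobal q x))) ≫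
      JJ g φ F = inclK I k F ≫ mHom (φ ≫ g) q₁ F (τ k * algebraMap P Pt x) := by
    rw [Category.assoc, smul_JJ g q φ q₁ hφ F x, ← Category.assoc, iotaSh_JJ, Category.assoc]
    unfold mH
    rw [mHom_comp_smul]
  have hR : (mulK I F a ha k ≫ iotaSh g q φ q₁ hg hφ F I τ H2 (k + 1)) ≫ JJ g φ F =
      inclK I k F ≫ mHom (φ ≫ g) q₁ F (algebraMap A Pt a * τ (k + 1)) := by
    rw [Category.assoc, iotaSh_JJ, ← Category.assoc, mulK_inclK, Category.assoc]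
    unfold mH
    congr 1
    exact smul_comp_mHom (X ↘ Spec (CommRingCat.of A)) (φ ≫ g) q₁
      (isPullback_comp _ g q φ q₁ hg hφ).w F a (τ (k + 1))
  rw [hL, hR, hxa k]

end Maps

end Groth.Agent.Lib.Helper12.H12FF
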