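import Mathlib

/-! # Formal functions, part 5: the algebra map `A[T_i] → A[t]`, `T_i ↦ a_i t` -/

set_option autoImplicit false
universe u

namespace Groth.Agent.Lib.Helper12.H12FF

section Alg
variable {A : Type u} [CommRing A] {σ : Type} (a : σ → A)

/-- `A[T_i] → A[t]`, `T_i ↦ a_i t` -/
noncomputable def rho : MvPolynomial σ A →ₐ[A] Polynomial A :=
  MvPolynomial.aeval (fun i => Polynomial.C (a i) * Polynomial.X)

theorem rho_X (i : σ) : rho a (MvPolynomial.X i) = Polynomial.C (a i) * Polynomial.X := by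
  unfold rho
  rw [MvPolynomial.aeval_X]

theorem rho_C (c : A) : rho a (MvPolynomial.C c) = Polynomial.C c := by
  unfold rho
  rw [MvPolynomial.aeval_C]
  rfl

theorem coeff_rho_mem (I : Ideal A) (ha : ∀ i, a i ∈ I) (p : MvPolynomial σ A) :
    ∀ k : ℕ, (rho a p).coeff k ∈ I ^ k := by
  induction p using MvPolynomial.induction_on with
  | C c =>
    intro k
    rw [rho_C, Polynomial.coeff_C]
    split_ifs with h
    · subst h
      rw [pow_zero, Ideal.one_eq_top]
      trivial
    · exact zero_mem _
  | add p q hp hq =>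
    intro k
    rw [map_add, Polynomial.coeff_add]
    exact add_mem (hp k) (hq k)
  | mul_X p i hp =>
    intro k
    rw [map_mul, rho_X, ← mul_assoc]
    cases k with
    | zero =>
      rw [Polynomial.coeff_mul_X_zero]
      exact zero_mem _
    | succ k =>
      rw [Polynomial.coeff_mul_X, Polynomial.coeff_mul_C, pow_succ]
      exact Ideal.mul_mem_mul (hp k) (ha i)

theorem exists_rho_eq (I : Ideal A) (hI : I = Ideal.span (Set.range a)) :
    ∀ (k : ℕ) (b : A), b ∈ I ^ k → ∃ p : MvPolynomial σ A, rho a p = Polynomial.C b * Polynomial.X ^ k := by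
  intro k
  induction k with
  | zero =>
    intro b _
    exact ⟨MvPolynomial.C b, by rw [rho_C, pow_zero, mul_one]⟩
  | succ k ih =>
    intro b hb
    rw [pow_succ] at hb
    refine Submodule.mul_induction_on hb ?_ ?_
    · intro m hm n hn
      obtain ⟨pm, hpm⟩ := ih m hm
      rw [hI] at hn
      refine Submodule.span_induction (p := fun n _ => ∃ p : MvPolynomial σ A,
        rho a p = Polynomial.C (m * n) * Polynomial.X ^ (k + 1)) ?_ ?_ ?_ ?_ hn
      · rintro _ ⟨i, rfl⟩
        refine ⟨pm * MvPolynomial.X i, ?_⟩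
        rw [map_mul, hpm, rho_X, map_mul, pow_succ]
        ring
      · exact ⟨0, by rw [map_zero, mul_zero, map_zero, zero_mul]⟩
      · rintro x y _ _ ⟨px, hx⟩ ⟨py, hy⟩
        exact ⟨px + py, by rw [map_add, hx, hy, mul_add, map_add, add_mul]⟩
      · rintro c x _ ⟨px, hx⟩
        refine ⟨MvPolynomial.C c * px, ?_⟩
        rw [map_mul, rho_C, hx, smul_eq_mul, ← mul_assoc, ← map_mul]
        congr 2
        ring
    · rintro x y ⟨px, hx⟩ ⟨py, hy⟩
      exact ⟨px + py, by rw [map_add, hx, hy, map_add, add_mul]⟩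

end Alg

end Groth.Agent.Lib.Helper12.H12FF
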