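import Mathlib

/-! # Formal functions, part 8: stabilisation in a graded module over a polynomial ring -/

set_option autoImplicit false
universe u

namespace Groth.Agent.Lib.Helper12.H12FF

section Graded
variable {A : Type u} [CommRing A] {σ : Type}
  {H : Type u} [AddCommGroup H] [Module (MvPolynomial σ A) H]
  (N : ℕ → Type u) [∀ k, AddCommGroup (N k)] [∀ k, Module A (N k)]
  (τ : ∀ k, σ → N k →ₗ[A] N (k + 1))
  (ι : ∀ k, N k →+ H) (π : ∀ k, H →+ N k)
  (Q : ∀ k, Submodule A (N k))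

/-- the graded submodule generated by `Q` in degrees `≤ d` -/
noncomputable def genU (d : ℕ) : ∀ j, Submodule A (N j)
  | 0 => Q 0
  | (j + 1) => if j + 1 ≤ d then Q (j + 1) else ⨆ i, (genU d j).map (τ j i)

variable {N τ Q}

theorem genU_of_le (d : ℕ) : ∀ j, j ≤ d → genU N τ Q d j = Q j
  | 0, _ => rfl
  | (j + 1), h => by
    change (if j + 1 ≤ d then Q (j + 1) else ⨆ i, (genU N τ Q d j).map (τ j i)) = Q (j + 1)
    rw [if_pos h]

theorem genU_succ_of_le (d j : ℕ) (h : d ≤ j) :
    genU N τ Q d (j + 1) = ⨆ i, (genU N τ Q d j).map (τ j i) := by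
  change (if j + 1 ≤ d then Q (j + 1) else ⨆ i, (genU N τ Q d j).map (τ j i)) = _
  rw [if_neg (by omega)]

theorem genU_le (hQ : ∀ k i, (Q k).map (τ k i) ≤ Q (k + 1)) (d : ℕ) :
    ∀ j, genU N τ Q d j ≤ Q j
  | 0 => le_rfl
  | (j + 1) => by
    by_cases h : j + 1 ≤ d
    · rw [genU_of_le d (j + 1) h]
    · rw [genU_succ_of_le d j (by omega)]
      refine iSup_le fun i => ?_
      exact (Submodule.map_mono (genU_le hQ d j)).trans (hQ j i)

theorem genU_stable (hQ : ∀ k i, (Q k).map (τ k i) ≤ Q (k + 1)) (d j : ℕ) (i : σ) :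
    (genU N τ Q d j).map (τ j i) ≤ genU N τ Q d (j + 1) := by
  by_cases h : j + 1 ≤ d
  · rw [genU_of_le d (j + 1) h]
    exact (Submodule.map_mono (genU_le hQ d j)).trans (hQ j i)
  · rw [genU_succ_of_le d j (by omega)]
    exact le_iSup (fun i => (genU N τ Q d j).map (τ j i)) i

variable {ι π}

/-- the graded pieces of `p • ι_j y` stay in `genU` -/
theorem pi_smul_iota_mem
    (hπι : ∀ k y, π k (ι k y) = y) (hπι' : ∀ j k, j ≠ k → ∀ y, π j (ι k y) = 0)
    (hX : ∀ k i y, (MvPolynomial.X i : MvPolynomial σ A) • ι k y = ι (k + 1) (τ k i y))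
    (hC : ∀ k (c : A) y, (MvPolynomial.C c : MvPolynomial σ A) • ι k y = ι k (c • y))
    (hQ : ∀ k i, (Q k).map (τ k i) ≤ Q (k + 1)) (d : ℕ) (p : MvPolynomial σ A) :
    ∀ (j : ℕ) (y : N j), y ∈ genU N τ Q d j → ∀ n, π n (p • ι j y) ∈ genU N τ Q d n := by
  induction p using MvPolynomial.induction_on with
  | C c =>
    intro j y hy n
    rw [hC]
    by_cases h : n = j
    · subst h
      rw [hπι]
      exact Submodule.smul_mem _ c hy
    · rw [hπι' n j h]
      exact zero_mem _
  | add p q hp hq =>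
    intro j y hy n
    rw [add_smul, map_add]
    exact add_mem (hp j y hy n) (hq j y hy n)
  | mul_X p i hp =>
    intro j y hy n
    rw [mul_smul, hX]
    exact hp (j + 1) (τ j i y) (genU_stable hQ d j i (Submodule.mem_map_of_mem hy)) n

end Graded

/-- **Stabilisation.** -/
theorem graded_stabilize {A : Type u} [CommRing A] [IsNoetherianRing A] {σ : Type} [Finite σ]
    {H : Type u} [AddCommGroup H] [Module (MvPolynomial σ A) H] [Module.Finite (MvPolynomial σ A) H]
    (N : ℕ → Type u) [∀ k, AddCommGroup (N k)] [∀ k, Module A (N k)]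
    (τ : ∀ k, σ → N k →ₗ[A] N (k + 1))
    (ι : ∀ k, N k →+ H) (π : ∀ k, H →+ N k)
    (hπι : ∀ k y, π k (ι k y) = y) (hπι' : ∀ j k, j ≠ k → ∀ y, π j (ι k y) = 0)
    (hX : ∀ k i y, (MvPolynomial.X i : MvPolynomial σ A) • ι k y = ι (k + 1) (τ k i y))
    (hC : ∀ k (c : A) y, (MvPolynomial.C c : MvPolynomial σ A) • ι k y = ι k (c • y))
    (Q : ∀ k, Submodule A (N k)) (hQ : ∀ k i, (Q k).map (τ k i) ≤ Q (k + 1)) :
    ∃ d, ∀ k, d ≤ k → Q (k + 1) = ⨆ i, (Q k).map (τ k i) := by
  classical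
  haveI := Fintype.ofFinite σ
  haveI : IsNoetherian (MvPolynomial σ A) H := isNoetherian_of_isNoetherianRing_of_finite _ _
  -- the chain
  let S : ℕ → Set H := fun m => {z | ∃ j, j ≤ m ∧ ∃ q ∈ Q j, ι j q = z}
  let f : ℕ →o Submodule (MvPolynomial σ A) H :=
    { toFun := fun m => Submodule.span (MvPolynomial σ A) (S m)
      monotone' := by
        intro m m' hmm'
        apply Submodule.span_mono
        rintro z ⟨j, hj, q, hq, rfl⟩
        exact ⟨j, hj.trans hmm', q, hq, rfl⟩ }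
  obtain ⟨d, hd⟩ := monotone_stabilizes_iff_noetherian.mpr
    (inferInstance : IsNoetherian (MvPolynomial σ A) H) f
  refine ⟨d, fun k hk => le_antisymm ?_ (iSup_le fun i => hQ k i)⟩
  intro y hy
  have h1 : ι (k + 1) y ∈ f (k + 1) :=
    Submodule.subset_span ⟨k + 1, le_rfl, y, hy, rfl⟩
  rw [← hd (k + 1) (by omega)] at h1
  have key : ∀ z, z ∈ Submodule.span (MvPolynomial σ A) (S d) →
      ∀ n, π n z ∈ genU N τ Q d n := by
    intro z hz
    induction hz using Submodule.closure_induction with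
    | zero => intro n; rw [map_zero]; exact zero_mem _
    | add a b _ _ ha hb => intro n; rw [map_add]; exact add_mem (ha n) (hb n)
    | smul_mem p x hx =>
      obtain ⟨j, hj, q, hq, rfl⟩ := hx
      intro n
      exact pi_smul_iota_mem hπι hπι' hX hC hQ d p j q (by rw [genU_of_le d j hj]; exact hq) n
  have h2 := key _ h1 (k + 1)
  rw [hπι, genU_succ_of_le d k hk] at h2
  exact (iSup_mono fun i => Submodule.map_mono (genU_le hQ d k)) h2

end Groth.Agent.Lib.Helper12.H12FF
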