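import Groth.Agent.Lib.Helper12.FF4
import Groth.Agent.Lib.Helper12.FF5
import Groth.Agent.Lib.Helper12.FF8
import Groth.Agent.Lib.Helper12.Fin12
import Groth.Agent.Lib.Lead.LinLES.Biprod

/-! # Formal functions, part 6: stabilisation of `T`-stable submodules of `H^p(X, I^k F)` -/

set_option autoImplicit false
universe u
open CategoryTheory CategoryTheory.Limits AlgebraicGeometry TopologicalSpace Opposite
open scoped TensorProduct

namespace Groth.Agent.Lib.Helper12.H12FF
open Groth.Agent.Lib.Helper29.QCoh Groth.Agent.Lib.Helper29.FBCFlat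
open Groth.Agent.Lib.Helper12.H12Fin Groth.Agent.Lib.Lead.LinLES

theorem toGlobal_specMap {R R' : Type u} [CommRing R] [CommRing R'] [Algebra R R']
    {Y : Scheme.{u}} (q : Y ⟶ Spec (CommRingCat.of R')) (r : R) :
    Coh.toGlobal (q ≫ Spec.map (CommRingCat.ofHom (algebraMap R R'))) r =
      Coh.toGlobal q (algebraMap R R' r) := by
  unfold Coh.toGlobal
  have h := Scheme.ΓSpecIso_inv_naturality (CommRingCat.ofHom (algebraMap R R'))
  have h2 := congrArg (fun φ => φ.hom r) h
  simp only [CommRingCat.hom_comp, RingHom.coe_comp, Function.comp_apply,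
    CommRingCat.hom_ofHom] at h2
  simp only [Scheme.Hom.comp_appTop, CommRingCat.hom_comp]
  change (q.appTop).hom ((Spec.map (CommRingCat.ofHom (algebraMap R R'))).appTop.hom
    ((Scheme.ΓSpecIso (CommRingCat.of R)).inv.hom r)) =
    (q.appTop).hom ((Scheme.ΓSpecIso (CommRingCat.of R')).inv.hom (algebraMap R R' r))
  rw [h2]

theorem HHlin_zero (A : Type u) [CommRing A] {X : Scheme.{u}} [X.Over (Spec (CommRingCat.of A))]
    {M N : X.Modules} (q : ℕ) (x : Coh.HH X M q) : Canon.HHlin A (0 : M ⟶ N) q x = 0 := by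
  change Sheaf.H.map ((toSheafAb X).map (0 : M ⟶ N)) q x = 0
  rw [CategoryTheory.Functor.map_zero]
  change ((Sheaf.functorH _ q).map (0 : Coh.toAb M ⟶ Coh.toAb N)).hom x = 0
  rw [CategoryTheory.Functor.map_zero]
  rfl

section Key
variable (A : Type u) [CommRing A] [IsNoetherianRing A] (I : Ideal A)
  (X : Scheme.{u}) [X.Over (Spec (CommRingCat.of A))] [IsProper (X ↘ Spec (CommRingCat.of A))]
  (F : X.Modules) (hF : Coh.IsCoh F) (p : ℕ) {σ : Type} [Finite σ] (a : σ → A)
  (hI : I = Ideal.span (Set.range a)) (ha : ∀ i, a i ∈ I)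

include hF hI in
theorem key_stabilize
    (Q : ∀ k, Submodule A (Coh.HH X (Kk I k F) p))
    (hQ : ∀ k i, (Q k).map (Canon.HHlin A (mulK I F (a i) (ha i) k) p) ≤ Q (k + 1)) :
    ∃ d, ∀ k, d ≤ k →
      Q (k + 1) = ⨆ i, (Q k).map (Canon.HHlin A (mulK I F (a i) (ha i) k) p) := by
  classical
  -- rings
  let P := MvPolynomial σ A
  let Pt := Polynomial A
  letI algP : Algebra P Pt := (rho a).toRingHom.toAlgebra
  haveI : IsScalarTower A P Pt := IsScalarTower.of_algebraMap_eq (fun c => ((rho a).commutes c).symm)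
  have halg : ∀ x : P, algebraMap P Pt x = rho a x := fun _ => rfl
  -- schemes
  let f := X ↘ Spec (CommRingCat.of A)
  let X' := pullback f (Spec.map (CommRingCat.ofHom (algebraMap A P)))
  let g : X' ⟶ X := pullback.fst _ _
  let q : X' ⟶ Spec (CommRingCat.of P) := pullback.snd _ _
  have hg : IsPullback g q f (Spec.map (CommRingCat.ofHom (algebraMap A P))) :=
    IsPullback.of_hasPullback _ _
  let X₁ := pullback q (Spec.map (CommRingCat.ofHom (algebraMap P Pt)))
  let φ : X₁ ⟶ X' := pullback.fst _ _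
  let q₁ : X₁ ⟶ Spec (CommRingCat.of Pt) := pullback.snd _ _
  have hφ : IsPullback φ q₁ q (Spec.map (CommRingCat.ofHom (algebraMap P Pt))) :=
    IsPullback.of_hasPullback _ _
  -- topology of X
  haveI : X.IsSeparated := isSeparated_of_isProper_over (Z := X) A
  haveI : IsLocallyNoetherian X := LocallyOfFiniteType.isLocallyNoetherian f
  haveI : CompactSpace X := by
    have : QuasiCompact f := inferInstance
    exact (quasiCompact_iff_compactSpace f).mp this
  haveI : IsNoetherian X := {}
  haveI : NoetherianSpace X := inferInstance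
  have hc : ∀ S : X.Opens, IsCompact (S : Set X) := fun S => NoetherianSpace.isCompact _
  haveI : QuasiSeparatedSpace X := inferInstance
  haveI : IsAffineHom g := MorphismProperty.of_isPullback (P := @IsAffineHom) hg.flip inferInstance
  haveI : IsAffineHom φ := MorphismProperty.of_isPullback (P := @IsAffineHom) hφ.flip inferInstance
  haveI hFq : F.IsQuasicoherent := hF.1
  haveI hFf : F.IsFiniteType := hF.2
  -- the data
  let τ : ℕ → Pt := fun k => Polynomial.X ^ k
  let ℓ : ℕ → (Pt →ₗ[A] A) := fun k => Polynomial.lcoeff A k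
  have hℓτ : ∀ j k, ℓ j (τ k) = if j = k then 1 else 0 := fun j k => by
    change (Polynomial.X ^ k : Polynomial A).coeff j = _
    rw [Polynomial.coeff_X_pow]
  have H1 : ∀ k (x : P), ℓ k (algebraMap P Pt x) ∈ I ^ k := fun k x =>
    coeff_rho_mem a I ha x k
  have H2 : ∀ k, ∀ b ∈ I ^ k, ∃ x : P, algebraMap P Pt x = algebraMap A Pt b * τ k :=
    fun k b hb => exists_rho_eq a I hI k b hb
  have hxa : ∀ i k, τ k * algebraMap P Pt (MvPolynomial.X i) = algebraMap A Pt (a i) * τ (k + 1) := by
    intro i k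
    rw [halg, rho_X]
    change Polynomial.X ^ k * (Polynomial.C (a i) * Polynomial.X) =
      Polynomial.C (a i) * Polynomial.X ^ (k + 1)
    ring
  -- the Rees module
  let G := FI g φ F
  haveI : ((Scheme.Modules.pullback g).obj F).IsQuasicoherent := inferInstance
  haveI : ((Scheme.Modules.pullback g).obj F).IsFiniteType := inferInstance
  haveI : (N1 g φ F).IsQuasicoherent := inferInstance
  haveI : (NN g φ F).IsQuasicoherent := isQuasicoherent_pushforward_of_isAffineHom φ _
  haveI hGq : G.IsQuasicoherent :=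
    Groth.Agent.Lib.Helper17.QCohSubMax.isQuasicoherent_image (psi g φ F)
  haveI hGf : G.IsFiniteType := isFiniteType_of_epi (eI g φ F)
  have hG : Coh.IsCoh G := ⟨hGq, hGf⟩
  -- finiteness over P
  letI : X'.Over (Spec (CommRingCat.of P)) := ⟨q⟩
  haveI : IsProper (X' ↘ Spec (CommRingCat.of P)) := by
    change IsProper q
    exact MorphismProperty.of_isPullback (P := @IsProper) hg inferInstance
  haveI hfin : Module.Finite P (Coh.HH X' G p) := module_finite_HH_of_isProper P X' G hG p
  -- Leray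
  obtain ⟨s, hs, hcov⟩ := (isCompact_iff_finite_and_eq_biUnion_affineOpens (X := X)
    (U := ⊤)).mp isCompact_univ
  haveI : Finite ↥s := hs.to_subtype
  let V : ↥s → X.Opens := fun i => (i.1 : X.Opens)
  have hV : iSup V = ⊤ := by
    rw [hcov, iSup_subtype]
  have haff : ∀ t : Finset ↥s, t.Nonempty → IsAffineOpen (⨅ i ∈ t, V i) := by
    intro t ht
    have := IsAffineOpen.biInf (X := X) (↑t : Set ↥s) t.finite_toSet ht (U := V)
      (fun i _ => i.1.2)
    simpa using this
  have hX' : Groth.Agent.Lib.Helper22.Cech.LerayGood (X := X'.carrier) (fun i => g ⁻¹ᵁ V i)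
      (Coh.toAb G) := by
    refine lerayGood_of_isAffineOpen G _ fun t ht => ?_
    rw [preimage_biInf]
    exact (haff t ht).preimage g
  haveI : ((Scheme.Modules.pushforward g).obj G).IsQuasicoherent :=
    isQuasicoherent_pushforward_of_isAffineHom g G
  have hY : Groth.Agent.Lib.Helper22.Cech.LerayGood (X := X.carrier) V
      (Coh.toAb ((Coh.push g).obj G)) :=
    lerayGood_of_isAffineOpen ((Scheme.Modules.pushforward g).obj G) V haff
  obtain ⟨e₀, he₀⟩ := exists_H_addEquiv_push_natural g.base V hV (Coh.toAb G) hX' hY p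
  let e : Coh.HH X' G p ≃+ Coh.HH X ((Coh.push g).obj G) p := e₀
  have he : ∀ (r : Coh.Γtop X') (x : Coh.HH X' G p),
      e (Sheaf.H.map (Coh.smulAb G r) p x) =
        Canon.HHlin A ((Scheme.Modules.pushforward g).map (Formal.smulModΓ G r)) p (e x) :=
    fun r x => he₀ (Coh.smulAb G r) x
  -- the maps
  let iS : ∀ k, Kk I k F ⟶ (Scheme.Modules.pushforward g).obj G :=
    fun k => iotaSh g q φ q₁ hg hφ F I τ H2 k
  let pS : ∀ k, (Scheme.Modules.pushforward g).obj G ⟶ Kk I k F :=
    fun k => piSh g q φ q₁ hg hφ hc F I ℓ H1 k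
  let ι : ∀ k, Coh.HH X (Kk I k F) p →+ Coh.HH X' G p := fun k =>
    e.symm.toAddMonoidHom.comp (Canon.HHlin A (iS k) p).toAddMonoidHom
  let π : ∀ k, Coh.HH X' G p →+ Coh.HH X (Kk I k F) p := fun k =>
    (Canon.HHlin A (pS k) p).toAddMonoidHom.comp e.toAddMonoidHom
  have hι : ∀ k y, e (ι k y) = Canon.HHlin A (iS k) p y := fun k y => e.apply_symm_apply _
  refine graded_stabilize (A := A) (σ := σ) (H := Coh.HH X' G p)
    (fun k => Coh.HH X (Kk I k F) p) (fun k i => Canon.HHlin A (mulK I F (a i) (ha i) k) p)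
    ι π ?_ ?_ ?_ ?_ Q hQ
  · intro k y
    change Canon.HHlin A (pS k) p (e (ι k y)) = y
    rw [hι, ← HHlin_comp, iotaSh_piSh_self g q φ q₁ hg hφ hc F I τ ℓ hℓτ H1 H2, HHlin_id]
  · intro j k hjk y
    change Canon.HHlin A (pS j) p (e (ι k y)) = 0
    rw [hι, ← HHlin_comp, iotaSh_piSh_ne g q φ q₁ hg hφ hc F I τ ℓ hℓτ H1 H2 j k hjk, HHlin_zero]
  · intro k i y
    apply e.injective
    rw [hι]
    change e (Sheaf.H.map (Coh.smulAb G (Coh.toGlobal q (MvPolynomial.X i))) p (ι k y)) = _
    rw [he, hι, ← HHlin_comp, ← HHlin_comp,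
      iotaSh_smul g q φ q₁ hg hφ F I τ H2 (MvPolynomial.X i) (a i) (ha i) (hxa i) k]
  · intro k c y
    apply e.injective
    rw [hι]
    change e (Sheaf.H.map (Coh.smulAb G (Coh.toGlobal q (MvPolynomial.C c))) p (ι k y)) = _
    have h1 : Coh.toGlobal q (MvPolynomial.C c) = g.appTop.hom (Coh.toGlobal f c) := by
      have h2 := toGlobal_specMap (R := A) (R' := P) q c
      rw [← hg.w] at h2
      exact h2.symm
    rw [he, hι, ← HHlin_comp, h1, Groth.Agent.Lib.Helper12.H12RP.pushforward_map_smulModΓ,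
      KLin.comp_smulModΓ, HHlin_comp]
    rfl

end Key

end Groth.Agent.Lib.Helper12.H12FF
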