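import Groth.Agent.Lib.Helper12.FF6
import Groth.Agent.Lib.Helper12.FF7

/-! # Formal functions, part 9: the kernel filtration is `I`-good; uniform Mittag-Leffler -/

set_option autoImplicit false
universe u
open CategoryTheory CategoryTheory.Limits AlgebraicGeometry TopologicalSpace Opposite

namespace Groth.Agent.Lib.Helper12.H12FF
open Groth.Agent.Lib.Lead.LinLES

section Main
variable (A : Type u) [CommRing A] [IsNoetherianRing A] (I : Ideal A)
  (X : Scheme.{u}) [X.Over (Spec (CommRingCat.of A))] [IsProper (X ↘ Spec (CommRingCat.of A))]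
  (M : X.Modules) (hM : Coh.IsCoh M) (p : ℕ)

/-- the kernel of `H^p(M) → H^p(M/I^(k+1)M)`, as the image of `H^p(I^(k+1)M)` -/
noncomputable def Rk (k : ℕ) : Submodule A (Coh.HH X M p) :=
  LinearMap.range (Canon.HHlin A (inclK I (k + 1) M) p)

theorem mem_Rk_iff (k : ℕ) (x : Coh.HH X M p) :
    x ∈ Rk A I X M p k ↔ Formal.toHHmodPow I M p k x = 0 := by
  have h := exact₂ A (sesK I (k + 1) M) (sesK_shortExact I (k + 1) M) p x
  exact h.symm

theorem ker_toHHmodPow (k : ℕ) :
    ((Formal.toHHmodPow I M p k).ker : Set (Coh.HH X M p)) = (Rk A I X M p k : Set (Coh.HH X M p)) := by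
  ext x
  exact (mem_Rk_iff A I X M p k x).symm

theorem HHlin_mulK_inclK (a : A) (ha : a ∈ I) (k : ℕ) (q : ℕ) (y : Coh.HH X (Kk I k M) q) :
    Canon.HHlin A (inclK I (k + 1) M) q (Canon.HHlin A (mulK I M a ha k) q y) =
      a • Canon.HHlin A (inclK I k M) q y := by
  rw [← HHlin_comp, mulK_inclK, HHlin_comp, HHlin_smulMod]

theorem smul_Rk_le (k : ℕ) : I • Rk A I X M p k ≤ Rk A I X M p (k + 1) := by
  rw [Submodule.smul_le]
  rintro r hr x ⟨y, rfl⟩
  exact ⟨Canon.HHlin A (mulK I M r hr (k + 1)) p y, HHlin_mulK_inclK A I X M r hr (k + 1) p y⟩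

include hM in
/-- the filtration `R_k` is `I`-good -/
theorem exists_Rk_succ_eq :
    ∃ k₀ : ℕ, ∀ k : ℕ, k₀ ≤ k → Rk A I X M p (k + 1) = I • Rk A I X M p k := by
  obtain ⟨n, a, ha⟩ := Submodule.fg_iff_exists_fin_generating_family.mp
    (IsNoetherian.noetherian I)
  have hI : I = Ideal.span (Set.range a) := ha.symm
  have ha' : ∀ i, a i ∈ I := fun i => by rw [hI]; exact Ideal.subset_span ⟨i, rfl⟩
  obtain ⟨d, hd⟩ := key_stabilize A I X M hM p a hI ha' (fun _ => ⊤) (fun _ _ => le_top)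
  refine ⟨d, fun k hk => le_antisymm ?_ (smul_Rk_le A I X M p k)⟩
  rintro x ⟨y, rfl⟩
  have hy : y ∈ ⨆ i, (⊤ : Submodule A (Coh.HH X (Kk I (k + 1) M) p)).map
      (Canon.HHlin A (mulK I M (a i) (ha' i) (k + 1)) p) := by
    rw [← hd (k + 1) (by omega)]
    trivial
  refine Submodule.iSup_induction _ (motive := fun y =>
    Canon.HHlin A (inclK I (k + 1 + 1) M) p y ∈ I • Rk A I X M p k) hy ?_ ?_ ?_
  · rintro i _ ⟨y', -, rfl⟩
    rw [HHlin_mulK_inclK]
    exact Submodule.smul_mem_smul (ha' i) ⟨y', rfl⟩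
  · rw [map_zero]
    exact zero_mem _
  · intro y₁ y₂ h₁ h₂
    rw [map_add]
    exact add_mem h₁ h₂

include hM in
theorem exists_Rk_le_pow :
    ∃ c : ℕ, ∀ m : ℕ, Rk A I X M p (c + m) ≤ I ^ m • (⊤ : Submodule A (Coh.HH X M p)) := by
  obtain ⟨k₀, hk₀⟩ := exists_Rk_succ_eq A I X M hM p
  refine ⟨k₀, fun m => ?_⟩
  induction m with
  | zero =>
    rw [pow_zero, Ideal.one_eq_top, Submodule.top_smul]
    exact le_top
  | succ m ih =>
    rw [← add_assoc, hk₀ (k₀ + m) (by omega), pow_succ', Submodule.mul_smul]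
    exact Submodule.smul_mono le_rfl ih

end Main

section ML
variable (A : Type u) [CommRing A] [IsNoetherianRing A] (I : Ideal A)
  (X : Scheme.{u}) [X.Over (Spec (CommRingCat.of A))] [IsProper (X ↘ Spec (CommRingCat.of A))]
  (M : X.Modules) (hM : Coh.IsCoh M) (p : ℕ)

/-- `ker (H^(p+1)(I^k M) → H^(p+1)(M))` -/
noncomputable def Qk (k : ℕ) : Submodule A (Coh.HH X (Kk I k M) (p + 1)) :=
  LinearMap.ker (Canon.HHlin A (inclK I k M) (p + 1))

/-- the connecting map `H^p(M/I^k M) → H^(p+1)(I^k M)` -/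
noncomputable def dK (k : ℕ) : Coh.HH X (Formal.modPow I k M) p →ₗ[A] Coh.HH X (Kk I k M) (p + 1) :=
  δlin A (sesK I k M) (sesK_shortExact I k M) p

theorem mem_Qk_iff (k : ℕ) (y : Coh.HH X (Kk I k M) (p + 1)) :
    y ∈ Qk A I X M p k ↔ ∃ z, dK A I X M p k z = y := by
  have h := exact₁ A (sesK I k M) (sesK_shortExact I k M) p y
  exact h

theorem dK_eq_zero_iff (k : ℕ) (z : Coh.HH X (Formal.modPow I k M) p) :
    dK A I X M p k z = 0 ↔ ∃ x, Canon.HHlin A (Formal.modPowπ I k M) p x = z := by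
  have h := exact₃ A (sesK I k M) (sesK_shortExact I k M) p z
  exact h

theorem Qk_stable (a : A) (ha : a ∈ I) (k : ℕ) :
    (Qk A I X M p k).map (Canon.HHlin A (mulK I M a ha k) (p + 1)) ≤ Qk A I X M p (k + 1) := by
  rintro _ ⟨y, hy, rfl⟩
  change Canon.HHlin A (inclK I (k + 1) M) (p + 1) _ = 0
  rw [HHlin_mulK_inclK]
  have hy' : Canon.HHlin A (inclK I k M) (p + 1) y = 0 := hy
  rw [hy', smul_zero]

theorem smul_Qk_eq_zero (k : ℕ) (r : A) (hr : r ∈ I ^ k) (y : Coh.HH X (Kk I k M) (p + 1))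
    (hy : y ∈ Qk A I X M p k) : r • y = 0 := by
  obtain ⟨z, rfl⟩ := (mem_Qk_iff A I X M p k y).mp hy
  rw [← map_smul, ← HHlin_smulMod, smulMod_modPow_eq_zero I k M r hr, HHlin_zero', map_zero]

theorem HHlin_mulK_leK (a : A) (ha : a ∈ I) {k l : ℕ} (h : k ≤ l) (q : ℕ)
    (y : Coh.HH X (Kk I l M) q) :
    Canon.HHlin A (leK I M (Nat.le_succ_of_le h)) q (Canon.HHlin A (mulK I M a ha l) q y) =
      a • Canon.HHlin A (leK I M h) q y := by
  rw [← HHlin_comp]
  have e : mulK I M a ha l ≫ leK I M (Nat.le_succ_of_le h) =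
      Formal.smulMod A (Kk I l M) a ≫ leK I M h := by
    rw [← leK_comp I M h (Nat.le_succ l), ← Category.assoc, mulK_leK]
  rw [e, HHlin_comp, HHlin_smulMod, map_smul]

include hM in
/-- uniform vanishing of the transition maps on `Q` -/
theorem exists_leK_Qk_eq_zero :
    ∃ d : ℕ, ∀ k : ℕ, d ≤ k → ∀ l : ℕ, ∀ h : k ≤ l, k + d ≤ l →
      ∀ y ∈ Qk A I X M p l, Canon.HHlin A (leK I M h) (p + 1) y = 0 := by
  obtain ⟨n, a, ha⟩ := Submodule.fg_iff_exists_fin_generating_family.mp
    (IsNoetherian.noetherian I)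
  have hI : I = Ideal.span (Set.range a) := ha.symm
  have ha' : ∀ i, a i ∈ I := fun i => by rw [hI]; exact Ideal.subset_span ⟨i, rfl⟩
  obtain ⟨d, hd⟩ := key_stabilize A I X M hM (p + 1) a hI ha' (Qk A I X M p)
    (fun k i => Qk_stable A I X M p (a i) (ha' i) k)
  -- uniform annihilation
  have hann : ∀ k : ℕ, ∀ r ∈ I ^ d, ∀ y ∈ Qk A I X M p k, r • y = 0 := by
    intro k
    by_cases hk : k ≤ d
    · intro r hr y hy
      exact smul_Qk_eq_zero A I X M p k r (Ideal.pow_le_pow_right hk hr) y hy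
    · have hk' : d ≤ k := by omega
      induction k, hk' using Nat.le_induction with
      | base => exact absurd le_rfl hk
      | succ k hk' ih =>
        intro r hr y hy
        have ihk : ∀ r ∈ I ^ d, ∀ y ∈ Qk A I X M p k, r • y = 0 := by
          by_cases hkd : k ≤ d
          · intro r hr y hy
            exact smul_Qk_eq_zero A I X M p k r (Ideal.pow_le_pow_right hkd hr) y hy
          · exact ih hkd
        rw [hd k hk'] at hy
        refine Submodule.iSup_induction _ (motive := fun y => r • y = 0) hy ?_ ?_ ?_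
        · rintro i _ ⟨y', hy', rfl⟩
          rw [← map_smul, ihk r hr y' hy', map_zero]
        · exact smul_zero _
        · intro y₁ y₂ h₁ h₂
          rw [smul_add, h₁, h₂, add_zero]
  -- the transition maps land in `I^(l-k) Q_k`
  have hB : ∀ k : ℕ, d ≤ k → ∀ l : ℕ, ∀ h : k ≤ l, ∀ y ∈ Qk A I X M p l,
      Canon.HHlin A (leK I M h) (p + 1) y ∈ I ^ (l - k) • Qk A I X M p k := by
    intro k hk l h
    induction l, h using Nat.le_induction with
    | base =>
      intro y hy
      rw [leK_refl, HHlin_id, Nat.sub_self, pow_zero, Ideal.one_eq_top, Submodule.top_smul]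
      exact hy
    | succ l h ih =>
      intro y hy
      rw [hd l (hk.trans h)] at hy
      refine Submodule.iSup_induction _ (motive := fun y =>
        Canon.HHlin A (leK I M (Nat.le_succ_of_le h)) (p + 1) y ∈
          I ^ (l + 1 - k) • Qk A I X M p k) hy ?_ ?_ ?_
      · rintro i _ ⟨y', hy', rfl⟩
        rw [HHlin_mulK_leK A I X M (a i) (ha' i) h]
        have e : l + 1 - k = (l - k) + 1 := by omega
        rw [e, pow_succ', Submodule.mul_smul]
        exact Submodule.smul_mem_smul (ha' i) (ih y' hy')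
      · rw [map_zero]
        exact zero_mem _
      · intro y₁ y₂ h₁ h₂
        rw [map_add]
        exact add_mem h₁ h₂
  refine ⟨d, fun k hk l h hl y hy => ?_⟩
  have h1 := hB k hk l h y hy
  have h2 : I ^ (l - k) • Qk A I X M p k ≤ ⊥ := by
    rw [Submodule.smul_le]
    intro r hr q hq
    rw [Submodule.mem_bot]
    exact hann k r (Ideal.pow_le_pow_right (by omega) hr) q hq
  exact (Submodule.mem_bot A).mp (h2 h1)

include hM in
/-- **Uniform Mittag-Leffler.** -/
theorem exists_uniform_ML :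
    ∃ c : ℕ, ∀ (n k : ℕ) (h : n ≤ k), n + c ≤ k →
      ∀ x : Coh.HH X (Formal.modPow I (k + 1) M) p,
        ∃ w : Coh.HH X M p, Canon.HHlin A (Formal.modPowπ I (n + 1) M) p w =
          Canon.HHlin A (modPowLe I M (Nat.succ_le_succ h)) p x := by
  obtain ⟨d, hd⟩ := exists_leK_Qk_eq_zero A I X M hM p
  refine ⟨2 * d, fun n k h hnk x => ?_⟩
  rw [← dK_eq_zero_iff]
  have hnat := δlin_naturality A (sesK_shortExact I (k + 1) M) (sesK_shortExact I (n + 1) M)
    (sesKLe I M (Nat.succ_le_succ h)) p x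
  change dK A I X M p (n + 1) (Canon.HHlin A (modPowLe I M (Nat.succ_le_succ h)) p x) =
    Canon.HHlin A (leK I M (Nat.succ_le_succ h)) (p + 1) (dK A I X M p (k + 1) x) at hnat
  rw [hnat]
  have hy : dK A I X M p (k + 1) x ∈ Qk A I X M p (k + 1) :=
    (mem_Qk_iff A I X M p (k + 1) _).mpr ⟨x, rfl⟩
  -- factor through level `k₁ = max (n+1) d`
  have h1 : n + 1 ≤ max (n + 1) d := le_max_left _ _
  have h2 : max (n + 1) d ≤ k + 1 := by
    rcases le_total (n + 1) d with h' | h'
    · rw [max_eq_right h']; omega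
    · rw [max_eq_left h']; omega
  rw [← leK_comp I M h1 h2, HHlin_comp,
    hd (max (n + 1) d) (le_max_right _ _) (k + 1) h2 ?_ _ hy, map_zero]
  rcases le_total (n + 1) d with h' | h'
  · rw [max_eq_right h']; omega
  · rw [max_eq_left h']; omega

include hM in
/-- the form of uniform Mittag-Leffler in terms of `Formal.completion` -/
theorem exists_range_completion_map_eq :
    ∃ c : ℕ, ∀ (n k : ℕ) (h : n ≤ k), n + c ≤ k →
      Set.range (Sheaf.H.map ((SheafOfModules.toSheaf X.ringCatSheaf).map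
        ((Formal.completion I M).map (homOfLE h).op)) p) =
        Set.range (Formal.toHHmodPow I M p n) := by
  obtain ⟨c, hc⟩ := exists_uniform_ML A I X M hM p
  refine ⟨c, fun n k h hnk => ?_⟩
  rw [completion_map_eq I M h]
  change Set.range (Canon.HHlin A (modPowLe I M (Nat.succ_le_succ h)) p) =
    Set.range (Canon.HHlin A (Formal.modPowπ I (n + 1) M) p)
  apply Set.Subset.antisymm
  · rintro _ ⟨x, rfl⟩
    obtain ⟨w, hw⟩ := hc n k h hnk x
    exact ⟨w, hw⟩
  · rintro _ ⟨w, rfl⟩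
    refine ⟨Canon.HHlin A (Formal.modPowπ I (k + 1) M) p w, ?_⟩
    rw [← HHlin_comp, modPowπ_le]

end ML

end Groth.Agent.Lib.Helper12.H12FF
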