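import Mathlib

set_option autoImplicit false
universe u

namespace H12FFinite

open PowerSeries

/-- `B` as an `A`-algebra through a ring hom -/
def Via {A B : Type*} [CommRing A] [CommRing B] (_f : A →+* B) := B

section Via
variable {A B : Type*} [CommRing A] [CommRing B] (f : A →+* B)

instance : CommRing (Via f) := inferInstanceAs (CommRing B)
instance : Algebra A (Via f) := f.toAlgebra

lemma finite_iff : f.Finite ↔ Module.Finite A (Via f) := Iff.rfl

/-- identity map -/
def toVia : B → Via f := id
/-- identity map -/
def ofVia : Via f → B := id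

lemma via_smul (a : A) (x : Via f) : a • x = toVia f (f a * ofVia f x) := rfl

end Via

variable (p : ℕ) [hp : Fact p.Prime]

instance charP_powerSeries (k : Type u) [CommRing k] [CharP k p] : CharP (PowerSeries k) p :=
  charP_of_injective_algebraMap (R := k) (A := PowerSeries k) PowerSeries.C_injective p

lemma coeff_pow_char (k : Type u) [CommRing k] [CharP k p] (g : PowerSeries k) (n : ℕ) :
    coeff n (g ^ p) = if p ∣ n then (coeff (n / p) g) ^ p else 0 := by
  have h := MvPowerSeries.map_frobenius_expand (σ := Unit) (R := k) p hp.out.ne_zero (f := g)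
  have h2 : g ^ p = PowerSeries.map (frobenius k p) (PowerSeries.expand p hp.out.ne_zero g) :=
    h.symm
  rw [h2, PowerSeries.coeff_map, PowerSeries.coeff_expand]
  split_ifs
  · rw [frobenius_def]
  · rw [map_zero]

/-- decomposition of a power series over a perfect field -/
lemma powerSeries_decomp (k : Type u) [Field k] [CharP k p] [PerfectRing k p] (f : PowerSeries k) :
    ∃ g : ℕ → PowerSeries k, f = ∑ i ∈ Finset.range p, (g i) ^ p * (X : PowerSeries k) ^ i := by
  classical
  let φ := (frobeniusEquiv k p).symm
  have hφ : ∀ a : k, (φ a) ^ p = a := fun a => frobeniusEquiv_symm_pow_p k p a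
  refine ⟨fun i => PowerSeries.mk (fun m => φ (coeff (p * m + i) f)), ?_⟩
  ext n
  rw [map_sum]
  have hpos : 0 < p := hp.out.pos
  rw [Finset.sum_eq_single (n % p)]
  · rw [coeff_mul_X_pow', if_pos (Nat.mod_le n p), coeff_pow_char,
      if_pos (Nat.dvd_sub_mod n), coeff_mk, hφ]
    congr 1
    have h1 : p * ((n - n % p) / p) = n - n % p := Nat.mul_div_cancel' (Nat.dvd_sub_mod n)
    have h2 := Nat.mod_le n p
    rw [h1, Nat.sub_add_cancel h2]
  · intro i hi hne
    rw [coeff_mul_X_pow']
    split_ifs with hle
    · rw [coeff_pow_char, if_neg]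
      intro hdvd
      apply hne
      rw [Finset.mem_range] at hi
      have : n % p = i % p := by
        obtain ⟨c, hc⟩ := hdvd
        have : n = i + p * c := by omega
        rw [this, Nat.add_mul_mod_self_left]
      rw [this, Nat.mod_eq_of_lt hi]
    · rfl
  · intro h
    exact absurd (Finset.mem_range.mpr (Nat.mod_lt n hpos)) h

theorem finite_frobenius_powerSeries (k : Type u) [Field k] [CharP k p] [PerfectRing k p] :
    (frobenius (PowerSeries k) p).Finite := by
  classical
  rw [finite_iff]
  refine ⟨⟨(Finset.range p).image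
    (fun i => toVia (frobenius (PowerSeries k) p) ((X : PowerSeries k) ^ i)), ?_⟩⟩
  rw [eq_top_iff]
  rintro f -
  obtain ⟨g, hg⟩ := powerSeries_decomp p k f
  have hf : f = ∑ i ∈ Finset.range p,
      g i • toVia (frobenius (PowerSeries k) p) ((X : PowerSeries k) ^ i) := by
    simp only [via_smul, frobenius_def]
    exact hg
  rw [hf]
  apply Submodule.sum_mem
  intro i hi
  apply Submodule.smul_mem
  apply Submodule.subset_span
  exact Finset.mem_coe.mpr (Finset.mem_image.mpr ⟨i, hi, rfl⟩)

end H12FFinite
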