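import Mathlib
import Groth.Agent.Lib.Helper12.FFinite1

set_option autoImplicit false
universe u

namespace H12FFinite

variable (p : ℕ) [hp : Fact p.Prime]

/-- a Frobenius-finite ring has finitely many generators over `p`-th powers -/
lemma exists_finset_of_finite (A : Type u) [CommRing A] [CharP A p]
    (hF : (frobenius A p).Finite) :
    ∃ T : Finset A, ∀ a : A, ∃ c : A → A, a = ∑ t ∈ T, (c t) ^ p * t := by
  rw [finite_iff] at hF
  obtain ⟨⟨T, hT⟩⟩ := hF
  refine ⟨T, fun a => ?_⟩
  have ha : toVia (frobenius A p) a ∈ Submodule.span A (T : Set (Via (frobenius A p))) := by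
    rw [hT]; trivial
  obtain ⟨c, -, hc⟩ := Submodule.mem_span_finset.mp ha
  refine ⟨c, ?_⟩
  simp only [via_smul, frobenius_def] at hc
  exact hc.symm

open MvPolynomial in
theorem finite_frobenius_mvPolynomial (A : Type u) [CommRing A] [CharP A p]
    (hF : (frobenius A p).Finite) (n : ℕ) :
    (frobenius (MvPolynomial (Fin n) A) p).Finite := by
  classical
  obtain ⟨T, hT⟩ := exists_finset_of_finite p A hF
  let fe : (Fin n → Fin p) → (Fin n →₀ ℕ) := fun e =>
    Finsupp.equivFunOnFinite.symm (fun i => (e i : ℕ))
  let F := frobenius (MvPolynomial (Fin n) A) p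
  let gen : A × (Fin n → Fin p) → Via F := fun te =>
    toVia F (C te.1 * monomial (fe te.2) 1)
  rw [finite_iff]
  refine ⟨⟨(T ×ˢ Finset.univ).image gen, ?_⟩⟩
  rw [eq_top_iff]
  rintro f -
  set S := Submodule.span (MvPolynomial (Fin n) A) (((T ×ˢ Finset.univ).image gen : Finset (Via F)) : Set (Via F))
    with hS
  have hgen : ∀ t ∈ T, ∀ e, gen (t, e) ∈ S := by
    intro t ht e
    apply Submodule.subset_span
    exact Finset.mem_coe.mpr (Finset.mem_image.mpr ⟨(t, e), by simp [ht], rfl⟩)
  have hmon : ∀ (E : Fin n →₀ ℕ) (a : A), toVia F (monomial E a) ∈ S := by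
    intro E a
    obtain ⟨c, hc⟩ := hT a
    have hpos : 0 < p := hp.out.pos
    let Q : Fin n →₀ ℕ := Finsupp.equivFunOnFinite.symm (fun i => E i / p)
    let e : Fin n → Fin p := fun i => ⟨E i % p, Nat.mod_lt _ hpos⟩
    have hE : p • Q + fe e = E := by
      ext i
      show p * (E i / p) + E i % p = E i
      exact Nat.div_add_mod (E i) p
    have key : toVia F (monomial E a) = ∑ t ∈ T, (C (c t) * monomial Q 1) • gen (t, e) := by
      have : ∀ t, (C (c t) * monomial Q (1 : A)) • gen (t, e) = toVia F (monomial E ((c t) ^ p * t)) := by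
        intro t
        simp only [gen, via_smul, F, frobenius_def]
        congr 1
        show (C (c t) * monomial Q (1 : A)) ^ p * (C t * monomial (fe e) 1) = _
        rw [mul_pow, monomial_pow, one_pow, ← C_pow, C_mul_monomial, C_mul_monomial,
          monomial_mul, hE]
        congr 1
        ring
      simp only [this]
      show monomial E a = ∑ t ∈ T, monomial E ((c t) ^ p * t)
      rw [← map_sum, ← hc]
    rw [key]
    exact Submodule.sum_mem _ (fun t ht => Submodule.smul_mem _ _ (hgen t ht e))
  have hf : f = ∑ E ∈ (show MvPolynomial (Fin n) A from f).support,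
      toVia F (monomial E ((show MvPolynomial (Fin n) A from f).coeff E)) :=
    (MvPolynomial.support_sum_monomial_coeff (show MvPolynomial (Fin n) A from f)).symm
  rw [hf]
  exact Submodule.sum_mem _ (fun E _ => hmon E _)

end H12FFinite
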