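import Mathlib
import Groth.Agent.Lib.Helper12.FFinite2
import Groth.Agent.S19092

set_option autoImplicit false
universe u

namespace H12FFinite

theorem main (p : ℕ) [Fact p.Prime]
    (k : Type u) [Field k] [Finite k] [CharP k p]
    (A : Type u) [CommRing A] [Algebra (PowerSeries k) A] [Algebra.FiniteType (PowerSeries k) A]
    (P : Ideal A) [P.IsPrime] [CharP (Localization.AtPrime P) p] :
    (frobenius (Localization.AtPrime P) p).Finite := by
  haveI : PerfectRing k p := PerfectRing.ofFiniteOfIsReduced p k
  have hK := finite_frobenius_powerSeries p k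
  obtain ⟨n, φ, hφ⟩ := (Algebra.FiniteType.iff_quotient_mvPolynomial'' (R := PowerSeries k)
    (S := A)).mp inferInstance
  have hP := finite_frobenius_mvPolynomial p (PowerSeries k) hK n
  haveI : Nontrivial A := ⟨⟨0, 1, fun h => (Ideal.IsPrime.ne_top ‹P.IsPrime›)
    ((Ideal.eq_top_iff_one P).mpr (h ▸ P.zero_mem))⟩⟩
  haveI : CharP A p := by
    rw [CharP.charP_iff_prime_eq_zero (Fact.out : p.Prime)]
    have : ((p : PowerSeries k) : PowerSeries k) = 0 := CharP.cast_eq_zero _ p
    rw [← map_natCast (algebraMap (PowerSeries k) A), this, map_zero]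
  have hA : (frobenius A p).Finite := by
    let ψ : MvPolynomial (Fin n) (PowerSeries k) →+* A := φ.toRingHom
    apply RingHom.Finite.of_comp_finite (f := ψ)
    have hcomm : (frobenius A p).comp ψ =
        ψ.comp (frobenius (MvPolynomial (Fin n) (PowerSeries k)) p) := by
      apply RingHom.ext
      intro x
      simp [frobenius_def]
    rw [hcomm]
    exact RingHom.Finite.comp (RingHom.Finite.of_surjective ψ hφ) hP
  exact (Groth.Agent.S19092.result p A hA).2 P.primeCompl (Localization.AtPrime P)

end H12FFinite
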