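import Mathlib
import Groth.Prelude.Def_EtGlue

/-!
# Formal glueing for a flat ring map `R → S` with `R/I ≅ S/IS`, part 1: `I`-power torsion modules
-/

universe u

open TensorProduct Function

namespace Groth.Agent.Lib.Helper12.FG

variable {R S : Type u} [CommRing R] [CommRing S] [Algebra R S] {I : Ideal R}

section Surj

variable (hs : Surjective
  (Ideal.quotientMap (Ideal.map (algebraMap R S) I) (algebraMap R S) Ideal.le_comap_map))

include hs

/-- `S = R + I S`. -/
theorem exists_sub_mem_smul_top (s : S) :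
    ∃ r : R, s - algebraMap R S r ∈ (I • ⊤ : Submodule R S) := by
  obtain ⟨q, hq⟩ := hs (Ideal.Quotient.mk _ s)
  obtain ⟨r, rfl⟩ := Ideal.Quotient.mk_surjective q
  refine ⟨r, ?_⟩
  rw [Ideal.quotientMap_mk, eq_comm, Ideal.Quotient.eq] at hq
  rw [Ideal.smul_top_eq_map]
  exact hq

/-- `S = R + I^n S`. -/
theorem exists_sub_mem_pow_smul_top (n : ℕ) (s : S) :
    ∃ r : R, s - algebraMap R S r ∈ (I ^ n • ⊤ : Submodule R S) := by
  induction n generalizing s with
  | zero =>
    refine ⟨0, ?_⟩
    rw [pow_zero, Ideal.one_eq_top, Submodule.top_smul]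
    trivial
  | succ n ih =>
    obtain ⟨r₀, hr₀⟩ := exists_sub_mem_smul_top hs s
    have key : ∀ x ∈ (I • ⊤ : Submodule R S),
        ∃ r : R, x - algebraMap R S r ∈ (I ^ (n + 1) • ⊤ : Submodule R S) := by
      intro x hx
      induction hx using Submodule.smul_induction_on' with
      | smul a ha s' _ =>
        obtain ⟨r', hr'⟩ := ih s'
        refine ⟨a * r', ?_⟩
        have e : a • s' - algebraMap R S (a * r') = a • (s' - algebraMap R S r') := by
          rw [smul_sub, Algebra.smul_def a (algebraMap R S r'), map_mul]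
        rw [e, pow_succ', mul_smul]
        exact Submodule.smul_mem_smul ha hr'
      | add x _ y _ hx hy =>
        obtain ⟨r₁, h₁⟩ := hx
        obtain ⟨r₂, h₂⟩ := hy
        refine ⟨r₁ + r₂, ?_⟩
        have e : x + y - algebraMap R S (r₁ + r₂) =
            (x - algebraMap R S r₁) + (y - algebraMap R S r₂) := by
          rw [map_add]; ring
        rw [e]
        exact add_mem h₁ h₂
    obtain ⟨r₁, hr₁⟩ := key _ hr₀
    refine ⟨r₀ + r₁, ?_⟩
    have e : s - algebraMap R S (r₀ + r₁) = s - algebraMap R S r₀ - algebraMap R S r₁ := by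
      rw [map_add]; ring
    rw [e]
    exact hr₁

omit hs in
/-- Elements of `I^n S` tensor to zero against elements killed by `I^n`. -/
theorem tmul_eq_zero_of_mem_pow_smul_top {T : Type*} [AddCommGroup T] [Module R T] (n : ℕ)
    (t : T) (ht : ∀ a ∈ I ^ n, a • t = 0) (ν : S) (hν : ν ∈ (I ^ n • ⊤ : Submodule R S)) :
    ν ⊗ₜ[R] t = 0 := by
  induction hν using Submodule.smul_induction_on' with
  | smul a ha s' _ => rw [TensorProduct.smul_tmul, ht a ha, TensorProduct.tmul_zero]
  | add x _ y _ hx hy => rw [TensorProduct.add_tmul, hx, hy, add_zero]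

/-- For an `I`-power torsion module `T`, the map `T → S ⊗ T` is surjective. -/
theorem exists_one_tmul_eq {T : Type*} [AddCommGroup T] [Module R T]
    (hT : ∀ t : T, ∃ n : ℕ, ∀ a ∈ I ^ n, a • t = 0) (w : S ⊗[R] T) :
    ∃ t : T, (1 : S) ⊗ₜ[R] t = w := by
  induction w using TensorProduct.induction_on with
  | zero => exact ⟨0, TensorProduct.tmul_zero _ _⟩
  | add x y hx hy =>
    obtain ⟨t₁, h₁⟩ := hx
    obtain ⟨t₂, h₂⟩ := hy
    exact ⟨t₁ + t₂, by rw [TensorProduct.tmul_add, h₁, h₂]⟩
  | tmul s t =>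
    obtain ⟨n, hn⟩ := hT t
    obtain ⟨r, hr⟩ := exists_sub_mem_pow_smul_top hs n s
    refine ⟨r • t, ?_⟩
    have e : s = (s - algebraMap R S r) + r • (1 : S) := by
      rw [Algebra.smul_def, mul_one]; ring
    conv_rhs => rw [e]
    rw [TensorProduct.add_tmul, tmul_eq_zero_of_mem_pow_smul_top n t hn _ hr, zero_add,
      TensorProduct.smul_tmul]

end Surj

section Inj

variable [Module.Flat R S] (hi : Injective
  (Ideal.quotientMap (Ideal.map (algebraMap R S) I) (algebraMap R S) Ideal.le_comap_map))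
  (hs : Surjective
  (Ideal.quotientMap (Ideal.map (algebraMap R S) I) (algebraMap R S) Ideal.le_comap_map))

include hi hs

/-- An element killed by a power of `I` whose image in `S ⊗ T` vanishes is zero. -/
theorem eq_zero_of_one_tmul_eq_zero {T : Type*} [AddCommGroup T] [Module R T] (t : T) (n : ℕ)
    (ht : ∀ a ∈ I ^ n, a • t = 0) (h0 : (1 : S) ⊗ₜ[R] t = 0) : t = 0 := by
  let g : R →ₗ[R] T := LinearMap.toSpanSingleton R T t
  let J : Ideal R := LinearMap.ker g
  have hJ : ∀ a : R, a ∈ J ↔ a • t = 0 := fun a => by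
    change g a = 0 ↔ _
    rw [LinearMap.toSpanSingleton_apply]
  let gbar : (R ⧸ J) →ₗ[R] T := Submodule.liftQ J g le_rfl
  have hgbar : Injective gbar := by
    rw [← LinearMap.ker_eq_bot]
    exact Submodule.ker_liftQ_eq_bot _ _ _ le_rfl
  have hinj : Injective (LinearMap.lTensor S gbar) :=
    Module.Flat.lTensor_preserves_injective_linearMap gbar hgbar
  have h1 : (1 : S) ⊗ₜ[R] (Ideal.Quotient.mk J 1) = 0 := by
    apply hinj
    rw [map_zero, LinearMap.lTensor_tmul]
    have : gbar (Ideal.Quotient.mk J 1) = t := by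
      change g 1 = t
      rw [LinearMap.toSpanSingleton_apply, one_smul]
    rw [this, h0]
  have h2 : (1 : S) ∈ (J • ⊤ : Submodule R S) := by
    have := congrArg (TensorProduct.tensorQuotEquivQuotSMul S J) h1
    rw [TensorProduct.tensorQuotEquivQuotSMul_tmul_mk, map_zero, one_smul,
      Submodule.Quotient.mk_eq_zero] at this
    exact this
  have key : ∀ x ∈ (J • ⊤ : Submodule R S),
      ∃ j ∈ J, x - algebraMap R S j ∈ (I • ⊤ : Submodule R S) := by
    intro x hx
    induction hx using Submodule.smul_induction_on' with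
    | smul c hc s' _ =>
      obtain ⟨r', hr'⟩ := exists_sub_mem_smul_top hs s'
      refine ⟨c * r', Ideal.mul_mem_right _ _ hc, ?_⟩
      have e : c • s' - algebraMap R S (c * r') = c • (s' - algebraMap R S r') := by
        rw [smul_sub, Algebra.smul_def c (algebraMap R S r'), map_mul]
      rw [e]
      exact Submodule.smul_mem _ _ hr'
    | add x _ y _ hx hy =>
      obtain ⟨j₁, hj₁, h₁⟩ := hx
      obtain ⟨j₂, hj₂, h₂⟩ := hy
      refine ⟨j₁ + j₂, add_mem hj₁ hj₂, ?_⟩
      have e : x + y - algebraMap R S (j₁ + j₂) =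
          (x - algebraMap R S j₁) + (y - algebraMap R S j₂) := by
        rw [map_add]; ring
      rw [e]
      exact add_mem h₁ h₂
  obtain ⟨j, hj, hj'⟩ := key 1 h2
  rw [Ideal.smul_top_eq_map] at hj'
  have hj'' : algebraMap R S (1 - j) ∈ Ideal.map (algebraMap R S) I := by
    rw [map_sub, map_one]
    exact hj'
  have h3 : (1 - j) ∈ I := by
    have : Ideal.quotientMap (Ideal.map (algebraMap R S) I) (algebraMap R S) Ideal.le_comap_map
        (Ideal.Quotient.mk I (1 - j)) = 0 := by
      rw [Ideal.quotientMap_mk, Ideal.Quotient.eq_zero_iff_mem]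
      exact hj''
    have := hi (this.trans (map_zero _).symm)
    rwa [Ideal.Quotient.eq_zero_iff_mem] at this
  have h4 : J ⊔ I = ⊤ := by
    rw [Ideal.eq_top_iff_one]
    have : (1 : R) = j + (1 - j) := by ring
    rw [this]
    exact Submodule.add_mem_sup hj h3
  have h5 : J ⊔ I ^ n = ⊤ := Ideal.sup_pow_eq_top h4
  have h6 : I ^ n ≤ J := fun a ha => (hJ a).mpr (ht a ha)
  have h7 : J = ⊤ := by
    rw [← h5, eq_comm, sup_eq_left]
    exact h6
  have h8 : (1 : R) ∈ J := by rw [h7]; trivial
  have := (hJ 1).mp h8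
  rwa [one_smul] at this

end Inj

end Groth.Agent.Lib.Helper12.FG
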