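import Groth.Agent.Lib.Helper12.FG1
import Groth.Agent.Lib.Helper12.BL4

/-!
# Formal glueing for a flat ring map `R → S` with `R/I ≅ S/IS`, part 2: the glueing complex
-/

universe u

open TensorProduct Function

namespace Groth.Agent.Lib.Helper12.FG

variable {R S : Type u} [CommRing R] [CommRing S] [Algebra R S] {I : Ideal R}

section Torsion

variable {t : ℕ} (f : Fin t → R) (hI : Ideal.span (Set.range f) = I)

include hI

/-- An element killed by a power of each generator of `I` is killed by a power of `I`. -/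
theorem exists_pow_smul_eq_zero {T : Type*} [AddCommGroup T] [Module R T] (m : T)
    (h : ∀ i, ∃ k : ℕ, f i ^ k • m = 0) : ∃ n : ℕ, ∀ a ∈ I ^ n, a • m = 0 := by
  subst hI
  let J : Ideal R := LinearMap.ker (LinearMap.toSpanSingleton R T m)
  have hJ : ∀ a : R, a ∈ J ↔ a • m = 0 := fun a => by
    change LinearMap.toSpanSingleton R T m a = 0 ↔ _
    rw [LinearMap.toSpanSingleton_apply]
  have hle : Ideal.span (Set.range f) ≤ J.radical := by
    rw [Ideal.span_le]
    rintro _ ⟨i, rfl⟩
    obtain ⟨k, hk⟩ := h i
    exact ⟨k, (hJ _).mpr hk⟩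
  obtain ⟨n, hn⟩ := Ideal.exists_pow_le_of_le_radical_of_fg hle
    (Submodule.fg_span (Set.finite_range f))
  exact ⟨n, fun a ha => (hJ a).mp (hn ha)⟩

end Torsion

section Loc

variable (S) in
/-- Multiplication by an element of `p` is injective on `S ⊗ M_p`. -/
theorem eq_zero_of_smul_tensor_localized {M : Type*} [AddCommGroup M] [Module R M]
    (p : Submonoid R) (c : p) (z : S ⊗[R] LocalizedModule p M) (h : (c : R) • z = 0) : z = 0 := by
  have key : ∀ z : S ⊗[R] LocalizedModule p M,
      (c : R) • LinearMap.lTensor S (LocalizedModule.divBy c) z = z := by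
    intro z
    induction z using TensorProduct.induction_on with
    | zero => simp
    | add x y hx hy => rw [map_add, smul_add, hx, hy]
    | tmul s y =>
      rw [LinearMap.lTensor_tmul, ← TensorProduct.tmul_smul]
      congr 1
      exact LocalizedModule.mul_by_divBy c y
  rw [← key z, ← map_smul, h, map_zero]

/-- Reformulation of the compatibility condition inside `S ⊗ M_g`. -/
theorem lTensor_mkLinearMap_eq {M : Type u} [AddCommGroup M] [Module R M] (g : R)
    (x : S ⊗[R] M) (m₀ : M) (s : Submonoid.powers g)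
    (h : EtGlue.locOfTensor R S g M x = EtGlue.tensorOfLoc R S g M (LocalizedModule.mk m₀ s)) :
    LinearMap.lTensor S (LocalizedModule.mkLinearMap (Submonoid.powers g) M) x =
      (1 : S) ⊗ₜ[R] LocalizedModule.mk m₀ s := by
  rw [BL.tensorOfLoc_mk] at h
  change LocalizedModule.mk x 1 = _ at h
  rw [LocalizedModule.mk_eq] at h
  obtain ⟨u, hu⟩ := h
  simp only [Submonoid.smul_def, one_smul] at hu
  -- hu : ↑u • ↑s • x = ↑u • 1 ⊗ₜ[R] m₀
  rw [← sub_eq_zero]
  apply eq_zero_of_smul_tensor_localized S (Submonoid.powers g) (u * s)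
  rw [smul_sub, Submonoid.coe_mul, mul_smul, ← map_smul, ← map_smul, hu, map_smul,
    LinearMap.lTensor_tmul, mul_smul, ← TensorProduct.tmul_smul (r := (s : R)), sub_eq_zero]
  congr 2
  rw [LocalizedModule.mkLinearMap_apply, LocalizedModule.smul'_mk,
    ← Submonoid.smul_def, LocalizedModule.mk_cancel]

end Loc

end Groth.Agent.Lib.Helper12.FG
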