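import Groth.Agent.Lib.Helper12.FG2

/-!
# Formal glueing for a flat ring map `R → S` with `R/I ≅ S/IS`, part 3: exactness of the glueing
complex
-/

universe u

open TensorProduct Function

namespace Groth.Agent.Lib.Helper12.FG

variable {R S : Type u} [CommRing R] [CommRing S] [Algebra R S] {I : Ideal R}

section Pi

variable (S) in
/-- Elements of `S ⊗ ∏ M_i` (finite product) are determined by their components. -/
theorem tensor_pi_ext {ι : Type*} [Fintype ι] [DecidableEq ι] {Mi : ι → Type*}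
    [∀ i, AddCommGroup (Mi i)] [∀ i, Module R (Mi i)] (a b : S ⊗[R] ((i : ι) → Mi i))
    (h : ∀ i, LinearMap.lTensor S (LinearMap.proj i) a = LinearMap.lTensor S (LinearMap.proj i) b) :
    a = b := by
  have key : ∀ (c : S ⊗[R] ((i : ι) → Mi i)) (i : ι),
      TensorProduct.piRight R R S Mi c i = LinearMap.lTensor S (LinearMap.proj i) c := by
    intro c i
    induction c using TensorProduct.induction_on with
    | zero => simp
    | add x y hx hy => rw [map_add, map_add, Pi.add_apply, hx, hy]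
    | tmul s y => simp
  apply (TensorProduct.piRight R R S Mi).injective
  funext i
  rw [key, key, h i]

end Pi

section Main

variable [Module.Flat R S] {t : ℕ} (f : Fin t → R) (hI : Ideal.span (Set.range f) = I)
  (hq : Bijective
    (Ideal.quotientMap (Ideal.map (algebraMap R S) I) (algebraMap R S) Ideal.le_comap_map))
  (M : Type u) [AddCommGroup M] [Module R M]

/-- The diagonal map `M → ∏ M_{f_i}`. -/
noncomputable def diag : M →ₗ[R] ((i : Fin t) → LocalizedModule (Submonoid.powers (f i)) M) :=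
  LinearMap.pi (fun i => LocalizedModule.mkLinearMap (Submonoid.powers (f i)) M)

@[simp]
lemma diag_apply (m : M) (i : Fin t) :
    diag f M m i = LocalizedModule.mkLinearMap (Submonoid.powers (f i)) M m := rfl

include hI hq

/-- Left exactness of the glueing complex. -/
theorem eq_zero_of_tmul_eq_zero_of_localized (m : M) (h0 : (1 : S) ⊗ₜ[R] m = 0)
    (h : ∀ i, LocalizedModule.mkLinearMap (Submonoid.powers (f i)) M m = 0) : m = 0 := by
  obtain ⟨n, hn⟩ := exists_pow_smul_eq_zero f hI m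
    (fun i => (BL.mkLinearMap_eq_zero_iff m).mp (h i))
  exact eq_zero_of_one_tmul_eq_zero hq.1 hq.2 m n hn h0

/-- Exactness of the glueing complex in the middle. -/
theorem exists_glue (x : S ⊗[R] M) (N : ℕ) (m : Fin t → M)
    (h1 : ∀ i : Fin t, EtGlue.locOfTensor R S (f i) M x =
      EtGlue.tensorOfLoc R S (f i) M (LocalizedModule.mk (m i)
        ⟨f i ^ N, Submonoid.pow_mem _ (Submonoid.mem_powers (f i)) N⟩))
    (h2 : ∀ i j : Fin t, ∃ e : ℕ, (f i * f j) ^ e • (f j ^ N • m i - f i ^ N • m j) = 0) :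
    ∃ μ : M, (1 : S) ⊗ₜ[R] μ = x ∧
      ∀ i : Fin t, LocalizedModule.mkLinearMap (Submonoid.powers (f i)) M μ =
        LocalizedModule.mk (m i) ⟨f i ^ N, Submonoid.pow_mem _ (Submonoid.mem_powers (f i)) N⟩ := by
  classical
  let y : (i : Fin t) → LocalizedModule (Submonoid.powers (f i)) M := fun i =>
    LocalizedModule.mk (m i) ⟨f i ^ N, Submonoid.pow_mem _ (Submonoid.mem_powers (f i)) N⟩
  let δ := diag f M
  -- Step a: `y` is torsion modulo the image of `δ`
  have ha : ∀ j : Fin t, ∃ k : ℕ, f j ^ k • y ∈ LinearMap.range δ := by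
    intro j
    choose e he using fun i => h2 i j
    let E := Finset.univ.sup e
    refine ⟨N + E, ⟨f j ^ E • m j, ?_⟩⟩
    funext i
    change LocalizedModule.mkLinearMap (Submonoid.powers (f i)) M (f j ^ E • m j) =
      f j ^ (N + E) • LocalizedModule.mk (m i)
        ⟨f i ^ N, Submonoid.pow_mem _ (Submonoid.mem_powers (f i)) N⟩
    rw [LocalizedModule.mkLinearMap_apply, LocalizedModule.smul'_mk, LocalizedModule.mk_eq]
    refine ⟨⟨f i ^ e i, Submonoid.pow_mem _ (Submonoid.mem_powers (f i)) _⟩, ?_⟩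
    simp only [Submonoid.smul_def, one_smul]
    have hE : e i ≤ E := Finset.le_sup (Finset.mem_univ i)
    obtain ⟨d, hd⟩ := Nat.exists_eq_add_of_le hE
    have key : (f i ^ e i * f j ^ E) • (f j ^ N • m i - f i ^ N • m j) = 0 := by
      have e1 : f i ^ e i * f j ^ E = f j ^ d * (f i * f j) ^ e i := by
        rw [hd, pow_add, mul_pow]; ring
      rw [e1, mul_smul, he i, smul_zero]
    rw [smul_sub, sub_eq_zero] at key
    rw [← mul_smul, ← mul_smul, ← mul_smul]
    rw [← mul_smul, ← mul_smul] at key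
    have e2 : f i ^ e i * f i ^ N * f j ^ E = f i ^ e i * f j ^ E * f i ^ N := by ring
    have e3 : f i ^ e i * f j ^ (N + E) = f i ^ e i * f j ^ E * f j ^ N := by
      rw [pow_add]; ring
    rw [e2, e3, key]
  -- Step b
  have hb : LinearMap.lTensor S δ x = (1 : S) ⊗ₜ[R] y := by
    apply tensor_pi_ext S
    intro i
    rw [← LinearMap.comp_apply, ← LinearMap.lTensor_comp, LinearMap.lTensor_tmul]
    exact lTensor_mkLinearMap_eq (f i) x (m i) _ (h1 i)
  -- Step c
  let π := (LinearMap.range δ).mkQ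
  have hπδ : π ∘ₗ δ = 0 := LinearMap.range_mkQ_comp δ
  have hc0 : (1 : S) ⊗ₜ[R] (π y) = 0 := by
    have : (1 : S) ⊗ₜ[R] (π y) = LinearMap.lTensor S π ((1 : S) ⊗ₜ[R] y) := by
      rw [LinearMap.lTensor_tmul]
    rw [this, ← hb, ← LinearMap.comp_apply, ← LinearMap.lTensor_comp, hπδ,
      LinearMap.lTensor_zero, LinearMap.zero_apply]
  have hct : ∀ j : Fin t, ∃ k : ℕ, f j ^ k • π y = 0 := by
    intro j
    obtain ⟨k, hk⟩ := ha j
    refine ⟨k, ?_⟩
    rw [← map_smul]
    exact (Submodule.Quotient.mk_eq_zero _).mpr hk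
  obtain ⟨n, hn⟩ := exists_pow_smul_eq_zero f hI (π y) hct
  have hπy : π y = 0 := eq_zero_of_one_tmul_eq_zero hq.1 hq.2 (π y) n hn hc0
  obtain ⟨μ₀, hμ₀⟩ : y ∈ LinearMap.range δ := (Submodule.Quotient.mk_eq_zero _).mp hπy
  -- Step d
  have hz : LinearMap.lTensor S δ (x - (1 : S) ⊗ₜ[R] μ₀) = 0 := by
    rw [map_sub, hb, LinearMap.lTensor_tmul, hμ₀, sub_self]
  have hex := Module.Flat.lTensor_exact S (LinearMap.exact_subtype_ker_map δ)
  obtain ⟨w, hw⟩ := (hex _).mp hz
  have hK : ∀ k : LinearMap.ker δ, ∃ n : ℕ, ∀ a ∈ I ^ n, a • k = 0 := by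
    intro k
    apply exists_pow_smul_eq_zero f hI k
    intro i
    have hk : δ (k : M) = 0 := k.2
    have hki : LocalizedModule.mkLinearMap (Submonoid.powers (f i)) M (k : M) = 0 :=
      congrFun hk i
    obtain ⟨e, he⟩ := (BL.mkLinearMap_eq_zero_iff (k : M)).mp hki
    exact ⟨e, Subtype.ext he⟩
  obtain ⟨k, hk⟩ := exists_one_tmul_eq hq.2 hK w
  refine ⟨μ₀ + k, ?_, fun i => ?_⟩
  · have : (1 : S) ⊗ₜ[R] (k : M) = x - (1 : S) ⊗ₜ[R] μ₀ := by
      rw [← hw, ← hk, LinearMap.lTensor_tmul]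
      rfl
    rw [TensorProduct.tmul_add, this]
    abel
  · have hk0 : δ (k : M) = 0 := k.2
    have h3 : δ (μ₀ + k) i = y i := by
      rw [map_add, hk0, add_zero, hμ₀]
    exact h3

end Main

end Groth.Agent.Lib.Helper12.FG
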