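import Groth.Agent.Lib.Helper12.FG3

/-!
# Formal glueing for a flat ring map `R → S` with `R/I ≅ S/IS`, part 4: descending a module with
a map to `S ⊗ N` whose kernel and cokernel are `I`-power torsion
-/

universe u

open TensorProduct Function

namespace Groth.Agent.Lib.Helper12.FG

variable {R S : Type u} [CommRing R] [CommRing S] [Algebra R S] {I : Ideal R}

section Aux

/-- Elements of the kernel of `S ⊗ ψ` come from `S ⊗ ker ψ` when `S` is flat. -/
theorem exists_of_lTensor_eq_zero [Module.Flat R S] {A B : Type*} [AddCommGroup A] [AddCommGroup B]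
    [Module R A] [Module R B] (ψ : A →ₗ[R] B) (w : S ⊗[R] A) (h : LinearMap.lTensor S ψ w = 0) :
    ∃ w₁ : S ⊗[R] (LinearMap.ker ψ), LinearMap.lTensor S (LinearMap.ker ψ).subtype w₁ = w :=
  (Module.Flat.lTensor_exact S (LinearMap.exact_subtype_ker_map ψ) _).mp h

/-- Elements of the kernel of `S ⊗ π`, `π` the quotient map by the range of `ψ`, come from
`S ⊗ A`. -/
theorem exists_of_lTensor_mkQ_eq_zero {A B : Type*} [AddCommGroup A] [AddCommGroup B]
    [Module R A] [Module R B] (ψ : A →ₗ[R] B) (z : S ⊗[R] B)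
    (h : LinearMap.lTensor S (LinearMap.range ψ).mkQ z = 0) :
    ∃ w : S ⊗[R] A, LinearMap.lTensor S ψ w = z :=
  (lTensor_exact S (LinearMap.exact_map_mkQ_range ψ) (Submodule.mkQ_surjective _) _).mp h

end Aux

section Descent

variable {N : Type u} [AddCommGroup N] [Module R N] {M' : Type u} [AddCommGroup M'] [Module S M']
  [Module R M'] [IsScalarTower R S M'] (φ : M' →ₗ[S] S ⊗[R] N)

/-- The fibre product `M' ×_{S ⊗ N} N`. -/
def fib : Submodule R (M' × N) :=
  LinearMap.eqLocus ((φ.restrictScalars R) ∘ₗ LinearMap.fst R M' N)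
    ((TensorProduct.mk R S N 1) ∘ₗ LinearMap.snd R M' N)

lemma mem_fib (x : M' × N) : x ∈ fib φ ↔ φ x.1 = (1 : S) ⊗ₜ[R] x.2 := Iff.rfl

/-- second projection -/
def fibSnd : fib φ →ₗ[R] N := LinearMap.snd R M' N ∘ₗ (fib φ).subtype

/-- first projection -/
def fibFst : fib φ →ₗ[R] M' := LinearMap.fst R M' N ∘ₗ (fib φ).subtype

/-- the comparison map `S ⊗ (M' ×_{S ⊗ N} N) → M'` -/
noncomputable def fibLift : S ⊗[R] fib φ →ₗ[S] M' := (fibFst φ).liftBaseChange S

lemma fibLift_tmul (s : S) (x : fib φ) : fibLift φ (s ⊗ₜ[R] x) = s • (x : M' × N).1 := by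
  simp [fibLift, fibFst]

lemma comp_fibLift : φ ∘ₗ fibLift φ = (fibSnd φ).baseChange S := by
  refine LinearMap.ext fun w => ?_
  induction w using TensorProduct.induction_on with
  | zero => simp
  | add x y hx hy => rw [map_add, map_add, hx, hy]
  | tmul s x =>
    rw [LinearMap.comp_apply, fibLift_tmul, map_smul, LinearMap.baseChange_tmul]
    have h : φ (x : M' × N).1 = (1 : S) ⊗ₜ[R] (x : M' × N).2 := x.2
    rw [h, TensorProduct.smul_tmul', smul_eq_mul, mul_one]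
    rfl

lemma phi_fibLift (w : S ⊗[R] fib φ) : φ (fibLift φ w) = LinearMap.lTensor S (fibSnd φ) w := by
  have := congrArg (fun g => g w) (comp_fibLift φ)
  simpa [LinearMap.baseChange_eq_ltensor] using this

variable (hs : Surjective
  (Ideal.quotientMap (Ideal.map (algebraMap R S) I) (algebraMap R S) Ideal.le_comap_map))
  (hker : ∀ x : M', φ x = 0 → ∃ n : ℕ, ∀ a ∈ I ^ n, algebraMap R S a • x = 0)
  (hcoker : ∀ y : S ⊗[R] N, ∃ n : ℕ, ∀ a ∈ I ^ n, algebraMap R S a • y ∈ LinearMap.range φ)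

include hs hcoker in
theorem fibLift_surjective : Surjective (fibLift φ) := by
  intro m'
  let ψ := fibSnd φ
  let π := (LinearMap.range ψ).mkQ
  have hC : ∀ c : N ⧸ LinearMap.range ψ, ∃ n : ℕ, ∀ a ∈ I ^ n, a • c = 0 := by
    intro c
    obtain ⟨n, rfl⟩ := Submodule.Quotient.mk_surjective _ c
    obtain ⟨k, hk⟩ := hcoker ((1 : S) ⊗ₜ[R] n)
    refine ⟨k, fun a ha => ?_⟩
    obtain ⟨m'', hm''⟩ := hk a ha
    rw [← Submodule.Quotient.mk_smul, Submodule.Quotient.mk_eq_zero]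
    refine ⟨⟨(m'', a • n), ?_⟩, rfl⟩
    rw [mem_fib]
    change φ m'' = (1 : S) ⊗ₜ[R] (a • n)
    rw [hm'', algebraMap_smul, TensorProduct.tmul_smul]
  obtain ⟨c, hc⟩ := exists_one_tmul_eq (T := N ⧸ LinearMap.range ψ) hs hC (LinearMap.lTensor S π (φ m'))
  obtain ⟨n, rfl⟩ := Submodule.Quotient.mk_surjective _ c
  have h0 : LinearMap.lTensor S π (φ m' - (1 : S) ⊗ₜ[R] n) = 0 := by
    rw [map_sub, ← hc, LinearMap.lTensor_tmul]
    exact sub_self _
  obtain ⟨w, hw⟩ := exists_of_lTensor_mkQ_eq_zero ψ _ h0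
  have hx : ((m' - fibLift φ w, n) : M' × N) ∈ fib φ := by
    rw [mem_fib]
    change φ (m' - fibLift φ w) = (1 : S) ⊗ₜ[R] n
    rw [map_sub, phi_fibLift, hw]
    abel
  refine ⟨w + (1 : S) ⊗ₜ[R] ⟨_, hx⟩, ?_⟩
  rw [map_add, fibLift_tmul, one_smul]
  change fibLift φ w + (m' - fibLift φ w) = m'
  abel

include hs hker in
theorem fibLift_injective [Module.Flat R S] : Injective (fibLift φ) := by
  rw [injective_iff_map_eq_zero]
  intro w hw
  let ψ := fibSnd φ
  have h0 : LinearMap.lTensor S ψ w = 0 := by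
    rw [← phi_fibLift, hw, map_zero]
  obtain ⟨w₁, hw₁⟩ := exists_of_lTensor_eq_zero ψ w h0
  have hK : ∀ k : LinearMap.ker ψ, ∃ n : ℕ, ∀ a ∈ I ^ n, a • k = 0 := by
    rintro ⟨⟨⟨m', n⟩, hx⟩, hk⟩
    have hn : n = 0 := hk
    subst hn
    have hφ : φ m' = 0 := by
      have := (mem_fib φ _).mp hx
      rw [this]
      exact TensorProduct.tmul_zero _ _
    obtain ⟨k, hk'⟩ := hker m' hφ
    refine ⟨k, fun a ha => ?_⟩
    apply Subtype.ext
    apply Subtype.ext
    change (a • m', a • (0 : N)) = (0, 0)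
    rw [smul_zero, ← algebraMap_smul S a m', hk' a ha]
  obtain ⟨⟨⟨⟨m', n⟩, hx⟩, hk⟩, hk₁⟩ := exists_one_tmul_eq (T := LinearMap.ker ψ) hs hK w₁
  have hn : n = 0 := hk
  subst hn
  rw [← hw₁, ← hk₁, LinearMap.lTensor_tmul]
  rw [← hw₁, ← hk₁, LinearMap.lTensor_tmul] at hw
  change fibLift φ ((1 : S) ⊗ₜ[R] (⟨(m', 0), hx⟩ : fib φ)) = 0 at hw
  rw [fibLift_tmul, one_smul] at hw
  change m' = 0 at hw
  subst hw
  change (1 : S) ⊗ₜ[R] (⟨(0, 0), hx⟩ : fib φ) = 0
  have : (⟨(0, 0), hx⟩ : fib φ) = 0 := rfl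
  rw [this, TensorProduct.tmul_zero]

include hs hker hcoker in
/-- Descent of `M'` to an `R`-module. -/
theorem exists_descent [Module.Flat R S] :
    ∃ (M : Type u) (_ : AddCommGroup M) (_ : Module R M) (ψ : M →ₗ[R] N)
      (e : S ⊗[R] M ≃ₗ[S] M'), φ ∘ₗ e.toLinearMap = ψ.baseChange S := by
  refine ⟨fib φ, inferInstance, inferInstance, fibSnd φ,
    LinearEquiv.ofBijective (fibLift φ)
      ⟨fibLift_injective φ hs hker, fibLift_surjective φ hs hcoker⟩, ?_⟩
  exact comp_fibLift φ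

end Descent

end Groth.Agent.Lib.Helper12.FG
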