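import Groth.Agent.Lib.Helper12.FG1

/-!
# Formal glueing for a flat ring map, part 5: `M → S ⊗ M` bijective on `I`-power torsion modules
iff `R/I ≅ S/IS`
-/

universe u

open TensorProduct Function

namespace Groth.Agent.Lib.Helper12.FG

variable {R S : Type u} [CommRing R] [CommRing S] [Algebra R S] (I : Ideal R)

/-- If `R/I → S ⊗ R/I` is bijective then `R/I → S/IS` is bijective. -/
theorem quotientMap_bijective_of_mk_bijective
    (h : Bijective (TensorProduct.mk R S (R ⧸ I) 1)) :
    Bijective (Ideal.quotientMap (I.map (algebraMap R S)) (algebraMap R S) Ideal.le_comap_map) := by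
  constructor
  · rw [injective_iff_map_eq_zero]
    intro x hx
    obtain ⟨r, rfl⟩ := Ideal.Quotient.mk_surjective x
    rw [Ideal.quotientMap_mk, Ideal.Quotient.eq_zero_iff_mem] at hx
    apply h.1
    rw [map_zero, TensorProduct.mk_apply]
    apply (TensorProduct.tensorQuotEquivQuotSMul S I).injective
    rw [TensorProduct.tensorQuotEquivQuotSMul_tmul_mk, map_zero, Submodule.Quotient.mk_eq_zero,
      Ideal.smul_top_eq_map, Algebra.smul_def, mul_one]
    exact hx
  · intro y
    obtain ⟨s, rfl⟩ := Ideal.Quotient.mk_surjective y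
    obtain ⟨q, hq⟩ := h.2 (s ⊗ₜ[R] (1 : R ⧸ I))
    obtain ⟨r, rfl⟩ := Ideal.Quotient.mk_surjective q
    refine ⟨Ideal.Quotient.mk I r, ?_⟩
    rw [Ideal.quotientMap_mk, Ideal.Quotient.eq]
    rw [TensorProduct.mk_apply] at hq
    have := congrArg (TensorProduct.tensorQuotEquivQuotSMul S I) hq
    rw [← map_one (Ideal.Quotient.mk I), TensorProduct.tensorQuotEquivQuotSMul_tmul_mk,
      TensorProduct.tensorQuotEquivQuotSMul_tmul_mk, one_smul, Submodule.Quotient.eq,
      Ideal.smul_top_eq_map, Algebra.smul_def, mul_one] at this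
    exact this

/-- `R/I` is killed by `I`. -/
theorem quotient_torsion (m : R ⧸ I) : ∃ n : ℕ, ∀ a ∈ I ^ n, a • m = 0 := by
  refine ⟨1, fun a ha => ?_⟩
  rw [pow_one] at ha
  obtain ⟨r, rfl⟩ := Ideal.Quotient.mk_surjective m
  rw [← Ideal.Quotient.mk_eq_mk, ← Submodule.Quotient.mk_smul, Ideal.Quotient.mk_eq_mk,
    Ideal.Quotient.eq_zero_iff_mem]
  exact Ideal.mul_mem_right _ _ ha

variable {I} in
/-- If `R → S` is flat and `R/I ≅ S/IS` then `M → S ⊗ M` is bijective for `I`-power torsion `M`. -/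
theorem mk_bijective_of_torsion [Module.Flat R S]
    (hq : Bijective
      (Ideal.quotientMap (Ideal.map (algebraMap R S) I) (algebraMap R S) Ideal.le_comap_map))
    {M : Type*} [AddCommGroup M] [Module R M]
    (hM : ∀ m : M, ∃ n : ℕ, ∀ a ∈ I ^ n, a • m = 0) :
    Bijective (TensorProduct.mk R S M 1) := by
  constructor
  · rw [injective_iff_map_eq_zero]
    intro m hm
    obtain ⟨n, hn⟩ := hM m
    exact eq_zero_of_one_tmul_eq_zero hq.1 hq.2 m n hn hm
  · intro w
    exact exists_one_tmul_eq hq.2 hM w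

end Groth.Agent.Lib.Helper12.FG
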