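import Mathlib
import Groth.Prelude.Def_FSch2
import Groth.Prelude.Def_MoreMor
import Groth.Agent.Lib.Helper26.ThickeningFT

set_option autoImplicit false
universe u
open CategoryTheory CategoryTheory.Limits AlgebraicGeometry

namespace H12FSchSm

theorem isThickening_toX (𝔛 : FSch.Sys.{u}) (h : 𝔛.IsFormal) (n : ℕ) :
    MoreMor.IsThickening (𝔛.toX n) := by
  induction n with
  | zero =>
    refine ⟨?_, ?_⟩
    · change IsClosedImmersion (𝟙 _)
      infer_instance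
    · change Surjective (𝟙 _)
      infer_instance
  | succ n ih =>
    obtain ⟨h1, h2⟩ := ih
    obtain ⟨h3, h4⟩ := h n
    have h5 : Surjective (𝔛.ι n) := ⟨h4⟩
    refine ⟨?_, ?_⟩
    · change IsClosedImmersion (𝔛.toX n ≫ 𝔛.ι n)
      infer_instance
    · change Surjective (𝔛.toX n ≫ 𝔛.ι n)
      infer_instance

theorem isNilpotent_ker {X₀ X : Scheme.{u}} [IsLocallyNoetherian X] (i : X₀ ⟶ X)
    (hi : MoreMor.IsThickening i) (U : X.affineOpens) : IsNilpotent (i.ker.ideal U) := by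
  have : IsNoetherianRing Γ(X, U.1) := IsLocallyNoetherian.component_noetherian U
  have hfg : (i.ker.ideal U).FG := IsNoetherian.noetherian _
  rw [Ideal.FG.isNilpotent_iff_le_nilradical hfg]
  intro a ha
  have := hi.1
  rw [Scheme.Hom.ker_apply] at ha
  rw [mem_nilradical, Scheme.isNilpotent_iff_basicOpen_eq_bot_of_isCompact U.2.isCompact]
  have h0 : (i.app U.1).hom a = 0 := ha
  have h1 : i ⁻¹ᵁ (X.basicOpen a) = ⊥ := by
    rw [Scheme.preimage_basicOpen, h0, Scheme.basicOpen_zero]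
  have := hi.2
  ext x
  simp only [TopologicalSpace.Opens.coe_bot, Set.mem_empty_iff_false, iff_false]
  intro hx
  obtain ⟨x0, rfl⟩ := i.surjective x
  have : x0 ∈ i ⁻¹ᵁ (X.basicOpen a) := hx
  rw [h1] at this
  exact this

theorem fg_ker {X₀ X : Scheme.{u}} [IsLocallyNoetherian X] (i : X₀ ⟶ X)
    (U : X.affineOpens) : (i.ker.ideal U).FG := by
  have : IsNoetherianRing Γ(X, U.1) := IsLocallyNoetherian.component_noetherian U
  exact IsNoetherian.noetherian _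

theorem isPullback_toX {𝔛 𝔜 : FSch.Sys.{u}} (f : 𝔛 ⟶ 𝔜) (hf : FSch.IsAdicHom f) (n : ℕ) :
    IsPullback (𝔛.toX n) ((f : FSch.Hom 𝔛 𝔜).app 0) ((f : FSch.Hom 𝔛 𝔜).app n) (𝔜.toX n) := by
  induction n with
  | zero =>
    change IsPullback (𝟙 _) ((f : FSch.Hom 𝔛 𝔜).app 0) ((f : FSch.Hom 𝔛 𝔜).app 0) (𝟙 _)
    exact IsPullback.of_horiz_isIso ⟨by simp⟩
  | succ n ih =>
    change IsPullback (𝔛.toX n ≫ 𝔛.ι n) _ _ (𝔜.toX n ≫ 𝔜.ι n)
    exact ih.paste_horiz (hf n)

theorem isIso_residueFieldMap {X Y : Scheme.{u}} (j : X ⟶ Y) [IsClosedImmersion j] (x : X) :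
    IsIso (j.residueFieldMap x) := by
  rw [ConcreteCategory.isIso_iff_bijective]
  refine ⟨(j.residueFieldMap x).hom.injective, ?_⟩
  have h1 : Function.Surjective (j.stalkMap x).hom := j.stalkMap_surjective x
  intro b
  obtain ⟨b', rfl⟩ := IsLocalRing.residue_surjective b
  obtain ⟨a, rfl⟩ := h1 b'
  exact ⟨IsLocalRing.residue _ a, rfl⟩

theorem smooth_of_isPullback_isIso {P Q A B : Scheme.{u}} {fst : P ⟶ Q} {snd : P ⟶ A}
    {f : Q ⟶ B} {g : A ⟶ B} (h : IsPullback fst snd f g) (_ : IsIso g) (_ : Smooth snd) : Smooth f := by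
  have h2 : IsIso fst := h.isIso_fst_of_isIso
  have h4 : f = inv fst ≫ snd ≫ g := by
    rw [IsIso.eq_inv_comp]
    exact h.w
  rw [h4]
  infer_instance

theorem smooth_fiber {X₀ X Y₀ Y : Scheme.{u}} {i : X₀ ⟶ X} {f₀ : X₀ ⟶ Y₀} {f : X ⟶ Y}
    {j : Y₀ ⟶ Y} (h : IsPullback i f₀ f j) [IsClosedImmersion j] [Smooth f₀] (y₀ : Y₀) :
    Smooth (f.fiberToSpecResidueField (j y₀)) := by
  have hp := isPullback_fiberToSpecResidueField_of_isPullback h y₀
  have : IsIso (j.residueFieldMap y₀) := isIso_residueFieldMap j y₀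
  have : IsIso (Spec.map (j.residueFieldMap y₀)) := inferInstance
  have h3' : Smooth (pullback.snd f₀ (Y₀.fromSpecResidueField y₀)) := inferInstance
  have h3 : Smooth (f₀.fiberToSpecResidueField y₀) := h3'
  exact smooth_of_isPullback_isIso hp this h3

theorem smooth_of_thickening {X₀ X Y₀ Y : Scheme.{u}} [IsLocallyNoetherian Y]
    [IsLocallyNoetherian X] {i : X₀ ⟶ X} {f₀ : X₀ ⟶ Y₀} {f : X ⟶ Y}
    {j : Y₀ ⟶ Y} (h : IsPullback i f₀ f j) (hi : MoreMor.IsThickening i)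
    (hj : MoreMor.IsThickening j)
    (hinil : ∀ U : X.affineOpens, IsNilpotent (i.ker.ideal U))
    (hfg : ∀ U : X.affineOpens, (i.ker.ideal U).FG) [Flat f] [Smooth f₀] : Smooth f := by
  have := hj.1
  have := hj.2
  have hlfp : LocallyOfFinitePresentation f :=
    (Groth.Agent.Lib.Helper26.ThickeningFT.locallyOfFinitePresentation_iff_of_thickening
      f f₀ i j hi hj hinil hfg h.w.symm).2 inferInstance
  refine Smooth.of_smooth_fiberToSpecResidueField (f := f) fun y => ?_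
  obtain ⟨y₀, rfl⟩ := j.surjective y
  exact smooth_fiber h y₀


theorem main (𝔛 𝔜 : FSch.Sys.{u})
    (h𝔛 : 𝔛.IsLocNoethFormal) (h𝔜 : 𝔜.IsLocNoethFormal) (f : 𝔛 ⟶ 𝔜) (hf : FSch.IsAdicHom f)
    (hflat : ∀ n : ℕ, Flat ((f : FSch.Hom 𝔛 𝔜).app n)) :
    (∀ n : ℕ, AlgebraicGeometry.Smooth ((f : FSch.Hom 𝔛 𝔜).app n)) ↔
      AlgebraicGeometry.Smooth ((f : FSch.Hom 𝔛 𝔜).app 0) := by
  refine ⟨fun h => h 0, fun h0 n => ?_⟩
  have := h𝔛.2.2 n
  have := h𝔜.2.2 n
  have := hflat n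
  have hi := isThickening_toX 𝔛 h𝔛.1 n
  have hj := isThickening_toX 𝔜 h𝔜.1 n
  exact smooth_of_thickening (isPullback_toX f hf n) hi hj
    (fun U => isNilpotent_ker _ hi U) (fun U => fg_ker _ U)

end H12FSchSm
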