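import Mathlib

set_option autoImplicit false
universe u

open AlgebraicGeometry CategoryTheory

namespace Groth.Agent.Lib.Helper12.H12FTZ

theorem int_isJacobsonRing : IsJacobsonRing ℤ := by
  rw [isJacobsonRing_iff_prime_eq]
  intro P hP
  by_cases hbot : P = ⊥
  · subst hbot
    rw [eq_bot_iff]
    intro x hx
    rw [Ideal.mem_jacobson_bot] at hx
    have h1 := hx x
    rw [Int.isUnit_iff] at h1
    have hx0 : x = 0 := by
      rcases h1 with h | h
      · have : x * x = 0 := by linarith
        exact mul_self_eq_zero.mp this
      · nlinarith [mul_self_nonneg x]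
    simp [hx0]
  · have : P.IsMaximal := hP.isMaximal hbot
    exact Ideal.jacobson_eq_self_of_isMaximal

/-- A field of finite type over `ℤ` is finite. -/
theorem finite_of_isField_finiteType_int (K : Type*) [CommRing K] (hK : IsField K)
    [Algebra.FiniteType ℤ K] : Finite K := by
  letI : Field K := hK.toField
  haveI := int_isJacobsonRing
  haveI : Module.Finite ℤ K := finite_of_finite_type_of_isJacobsonRing ℤ K
  haveI : Algebra.IsIntegral ℤ K := inferInstance
  obtain ⟨p, hp⟩ := CharP.exists K
  rcases Nat.eq_zero_or_pos p with h0 | hpos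
  · subst h0
    exfalso
    haveI : CharZero K := CharP.charP_to_charZero K
    have hinj : Function.Injective (algebraMap ℤ K) := by
      intro a b hab
      simpa using hab
    exact Int.not_isField (isField_of_isIntegral_of_isField hinj (Field.toIsField K))
  · haveI : NeZero p := ⟨hpos.ne'⟩
    letI : Algebra (ZMod p) K := ZMod.algebra K p
    haveI : Module.Finite (ZMod p) K := Module.Finite.of_restrictScalars_finite ℤ (ZMod p) K
    exact Module.finite_of_finite (ZMod p)

/-- ring homs out of a finitely generated ring into a finite ring are finite in number. -/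
theorem finite_ringHom_of_closure_eq_top {S F : Type*} [CommRing S] [CommRing F] [Finite F]
    (t : Set S) (ht : t.Finite) (hcl : Subring.closure t = ⊤) : Finite (S →+* F) := by
  haveI : Finite t := ht
  refine Finite.of_injective (fun φ : S →+* F => fun x : t => φ x) ?_
  intro φ ψ h
  apply RingHom.eq_of_eqOn_set_dense hcl
  intro x hx
  exact congrFun h ⟨x, hx⟩

theorem exists_closure_eq_top_of_finiteType_int (S : Type*) [CommRing S]
    [h : Algebra.FiniteType ℤ S] : ∃ t : Set S, t.Finite ∧ Subring.closure t = ⊤ := by
  obtain ⟨t, ht⟩ := h.out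
  refine ⟨t, t.finite_toSet, ?_⟩
  rw [Algebra.adjoin_int] at ht
  rw [eq_top_iff]
  intro x _
  have hx : x ∈ subalgebraOfSubring (Subring.closure (t : Set S)) := by rw [ht]; trivial
  exact mem_subalgebraOfSubring.mp hx

end Groth.Agent.Lib.Helper12.H12FTZ
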