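import Mathlib
import Groth.Agent.Lib.Helper12.FTZ

set_option autoImplicit false
universe u

open AlgebraicGeometry CategoryTheory

namespace Groth.Agent.Lib.Helper12.H12FTZ

theorem finiteType_int_of_ringHom {S : Type*} [CommRing S] (g : ℤ →+* S) (hg : g.FiniteType) :
    Algebra.FiniteType ℤ S := by
  have h : g.toAlgebra = (inferInstance : Algebra ℤ S) := Subsingleton.elim _ _
  unfold RingHom.FiniteType at hg
  rw [h] at hg
  exact hg

theorem finiteType_int_congr {S : Type*} [CommRing S] (a : Algebra ℤ S)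
    (h : @Algebra.FiniteType ℤ S _ _ a) : @Algebra.FiniteType ℤ S _ _ (Ring.toIntAlgebra S) := by
  have : a = Ring.toIntAlgebra S := Subsingleton.elim _ _
  subst this
  exact h

theorem finiteType_int_sections (Y : Scheme.{u})
    [LocallyOfFiniteType (Limits.IsTerminal.from specULiftZIsTerminal Y)]
    {U : Y.Opens} (hU : IsAffineOpen U) : Algebra.FiniteType ℤ Γ(Y, U) := by
  set f := Limits.IsTerminal.from specULiftZIsTerminal Y with hf
  have h1 : (f.appLE ⊤ U le_top).hom.FiniteType :=
    f.finiteType_appLE (isAffineOpen_top _) hU le_top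
  let e : ℤ →+* Γ(Spec (CommRingCat.of (ULift.{u} ℤ)), ⊤) :=
    ((Scheme.ΓSpecIso (CommRingCat.of (ULift.{u} ℤ))).inv.hom).comp
      (ULift.ringEquiv.symm : ℤ ≃+* ULift.{u} ℤ).toRingHom
  have he : Function.Surjective e := by
    intro x
    obtain ⟨y, rfl⟩ : ∃ y, (Scheme.ΓSpecIso (CommRingCat.of (ULift.{u} ℤ))).inv.hom y = x :=
      ⟨(Scheme.ΓSpecIso (CommRingCat.of (ULift.{u} ℤ))).hom.hom x, by
        rw [← CommRingCat.comp_apply, Iso.hom_inv_id]; rfl⟩
    refine ⟨ULift.ringEquiv y, ?_⟩
    change (Scheme.ΓSpecIso (CommRingCat.of (ULift.{u} ℤ))).inv.hom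
      (ULift.ringEquiv.symm (ULift.ringEquiv y)) = _
    rw [RingEquiv.symm_apply_apply]
  exact finiteType_int_of_ringHom _ (h1.comp (RingHom.FiniteType.of_surjective e he))

/-- finiteness of residue fields transfers between `Y` and the affine chart. -/
theorem finite_residueField_iff {Y : Scheme.{u}} {U : Y.Opens} (hU : IsAffineOpen U)
    (q : Spec Γ(Y, U)) :
    Finite ↑(Y.residueField (hU.fromSpec q)) ↔
      Finite (q.asIdeal.ResidueField) := by
  have e1 : Y.residueField (hU.fromSpec q) ≅ (Spec Γ(Y, U)).residueField q :=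
    asIso (hU.fromSpec.residueFieldMap q)
  have e2 : (Spec Γ(Y, U)).residueField q ≅ .of q.asIdeal.ResidueField :=
    Scheme.Spec.residueFieldIso Γ(Y, U) q
  let e := (e1 ≪≫ e2).commRingCatIsoToRingEquiv
  exact ⟨fun h => Finite.of_equiv _ e.toEquiv, fun h => Finite.of_equiv _ e.symm.toEquiv⟩

theorem finite_residueField_iff_isMaximal {R : Type*} [CommRing R] [Algebra.FiniteType ℤ R]
    (q : Ideal R) [q.IsPrime] : Finite q.ResidueField ↔ q.IsMaximal := by
  constructor
  · intro h
    haveI : Finite (R ⧸ q) :=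
      Finite.of_injective _ (Ideal.injective_algebraMap_quotient_residueField q)
    exact Ideal.Quotient.maximal_of_isField _ (Finite.isField_of_domain (R ⧸ q))
  · intro h
    have hft := finiteType_int_congr _
      (Algebra.FiniteType.of_surjective (Ideal.Quotient.mkₐ ℤ q) Ideal.Quotient.mk_surjective)
    haveI : Finite (R ⧸ q) := @finite_of_isField_finiteType_int (R ⧸ q) _
      ((Ideal.Quotient.maximal_ideal_iff_isField_quotient q).mp h) hft
    exact Finite.of_surjective _ (Ideal.bijective_algebraMap_quotient_residueField q).2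

end Groth.Agent.Lib.Helper12.H12FTZ
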