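import Mathlib
import Groth.Agent.Lib.Helper12.FTZS

set_option autoImplicit false
universe u

open AlgebraicGeometry CategoryTheory

namespace Groth.Agent.Lib.Helper12.H12FTZ

theorem exists_fromSpec_eq {Y : Scheme.{u}} {U : Y.Opens} (hU : IsAffineOpen U) {y : Y}
    (hy : y ∈ U) : ∃ q : Spec Γ(Y, U), hU.fromSpec q = y := by
  have : y ∈ Set.range hU.fromSpec := by rw [hU.range_fromSpec]; exact hy
  exact this

theorem isClosed_singleton_iff (Y : Scheme.{u})
    [LocallyOfFiniteType (Limits.IsTerminal.from specULiftZIsTerminal Y)] (y : Y) :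
    IsClosed ({y} : Set Y) ↔ Finite ↑(Y.residueField y) := by
  constructor
  · intro hcl
    obtain ⟨_, ⟨U, hU0, rfl⟩, hyU, -⟩ :=
      Y.isBasis_affineOpens.exists_subset_of_mem_open (Set.mem_univ y) isOpen_univ
    have hU : IsAffineOpen U := hU0
    obtain ⟨q, rfl⟩ := exists_fromSpec_eq hU hyU
    haveI := finiteType_int_sections Y hU
    rw [finite_residueField_iff hU q, finite_residueField_iff_isMaximal]
    have h1 : IsClosed ({q} : Set (Spec Γ(Y, U))) := by
      have : ({q} : Set (Spec Γ(Y, U))) = hU.fromSpec ⁻¹' {hU.fromSpec q} := by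
        ext x
        simp only [Set.mem_singleton_iff, Set.mem_preimage]
        exact (hU.fromSpec.isOpenEmbedding.injective.eq_iff).symm
      rw [this]
      exact hcl.preimage hU.fromSpec.continuous
    exact (PrimeSpectrum.isClosed_singleton_iff_isMaximal q).mp h1
  · intro hfin
    rw [← closure_subset_iff_isClosed]
    intro z hz
    obtain ⟨_, ⟨U, hU0, rfl⟩, hzU, -⟩ :=
      Y.isBasis_affineOpens.exists_subset_of_mem_open (Set.mem_univ z) isOpen_univ
    have hU : IsAffineOpen U := hU0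
    have hyU : y ∈ U := by
      obtain ⟨w, hwU, hw⟩ := mem_closure_iff.mp hz U U.isOpen hzU
      rw [Set.mem_singleton_iff] at hw
      subst hw
      exact hwU
    obtain ⟨q, rfl⟩ := exists_fromSpec_eq hU hyU
    obtain ⟨q', rfl⟩ := exists_fromSpec_eq hU hzU
    haveI := finiteType_int_sections Y hU
    rw [finite_residueField_iff hU q, finite_residueField_iff_isMaximal] at hfin
    have hqcl : IsClosed ({q} : Set (Spec Γ(Y, U))) :=
      (PrimeSpectrum.isClosed_singleton_iff_isMaximal q).mpr hfin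
    have h2 : q' ∈ closure ({q} : Set (Spec Γ(Y, U))) := by
      rw [hU.fromSpec.isOpenEmbedding.isInducing.closure_eq_preimage_closure_image,
        Set.image_singleton]
      exact hz
    rw [hqcl.closure_eq, Set.mem_singleton_iff] at h2
    subst h2
    rfl

theorem finite_piece {Y : Scheme.{u}}
    [LocallyOfFiniteType (Limits.IsTerminal.from specULiftZIsTerminal Y)]
    {U : Y.Opens} (hU : IsAffineOpen U) (F : Type*) [Field F] [Finite F] :
    {z : Y | z ∈ U ∧ Nonempty (↑(Y.residueField z) →+* F)}.Finite := by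
  haveI := finiteType_int_sections Y hU
  obtain ⟨s, hs, hcl⟩ := exists_closure_eq_top_of_finiteType_int Γ(Y, U)
  haveI : Finite (Γ(Y, U) →+* F) := finite_ringHom_of_closure_eq_top s hs hcl
  let G : (Γ(Y, U) →+* F) → Y := fun φ => hU.fromSpec ⟨RingHom.ker φ, RingHom.ker_isPrime φ⟩
  refine (Set.finite_range G).subset ?_
  rintro z ⟨hzU, ⟨ψ⟩⟩
  refine ⟨ψ.comp (Y.evaluation U z hzU).hom, ?_⟩
  obtain ⟨q, rfl⟩ := exists_fromSpec_eq hU hzU
  change hU.fromSpec _ = hU.fromSpec q
  congr 1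
  apply PrimeSpectrum.ext
  ext a
  change a ∈ RingHom.ker _ ↔ a ∈ q.asIdeal
  rw [RingHom.mem_ker, RingHom.comp_apply, map_eq_zero_iff ψ ψ.injective]
  change (Y.evaluation U (hU.fromSpec q) hzU) a = 0 ↔ _
  rw [Scheme.evaluation_eq_zero_iff_notMem_basicOpen]
  have h3 : hU.fromSpec q ∈ Y.basicOpen a ↔ q ∈ PrimeSpectrum.basicOpen a := by
    rw [← hU.fromSpec_preimage_basicOpen]
    rfl
  rw [h3]
  change ¬ (a ∉ q.asIdeal) ↔ _
  rw [not_not]

theorem finite_setOf_ringHom (Y : Scheme.{u}) [CompactSpace Y]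
    [LocallyOfFiniteType (Limits.IsTerminal.from specULiftZIsTerminal Y)]
    (F : Type*) [Field F] [Finite F] :
    {y : Y | Nonempty (↑(Y.residueField y) →+* F)}.Finite := by
  have H : ∀ y : Y, ∃ U : Y.Opens, IsAffineOpen U ∧ y ∈ U := by
    intro y
    obtain ⟨_, ⟨U, hU0, rfl⟩, hyU, -⟩ :=
      Y.isBasis_affineOpens.exists_subset_of_mem_open (Set.mem_univ y) isOpen_univ
    exact ⟨U, hU0, hyU⟩
  choose U hU hy using H
  obtain ⟨t, ht⟩ := isCompact_univ.elim_finite_subcover (fun y => ((U y : Y.Opens) : Set Y))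
    (fun y => (U y).isOpen) (fun y _ => Set.mem_iUnion.mpr ⟨y, hy y⟩)
  refine (Set.Finite.biUnion t.finite_toSet (fun y _ => finite_piece (hU y) F)).subset ?_
  intro z hz
  obtain ⟨y, hyt, hzy⟩ := Set.mem_iUnion₂.mp (ht (Set.mem_univ z))
  exact Set.mem_iUnion₂.mpr ⟨y, hyt, hzy, hz⟩

end Groth.Agent.Lib.Helper12.H12FTZ
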