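import Mathlib
import Groth.Agent.Lib.Helper12.ConsP3
import Groth.Agent.S9191
import Groth.Agent.S9192
import Groth.Agent.S9188
set_option autoImplicit false
set_option linter.style.haveILetI false
set_option linter.unusedSectionVars false
universe u

open CategoryTheory CategoryTheory.Limits AlgebraicGeometry TopologicalSpace Topology

namespace Groth.Agent.Lib.Helper12.H12FgModel

open Groth.Agent.Lib.Helper12.H12ConsP Groth.Agent.Lib.Helper12.IndFG
open Groth.Agent.Lib.Helper1.RSLimit Groth.Agent.Lib.Helper1.ObjDesc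

attribute [local instance] ULift.algebra'

theorem exists_int_subalgebra (A : Type u) [CommRing A] (B : Subalgebra (ULift.{u} ℤ) A)
    (hB : B.FG) :
    ∃ (A₀ : Subalgebra ℤ A) (_ : A₀.FG) (ε : ↥A₀ ≃+* ↥B), ∀ x : A₀, ((ε x : B) : A) = (x : A) := by
  refine ⟨subalgebraOfSubring B.toSubring, ?_, ?_⟩
  · obtain ⟨s, hs⟩ := hB
    refine ⟨s, ?_⟩
    rw [Algebra.adjoin_int]
    congr 1
    rw [← hs, Algebra.adjoin_eq_ring_closure]
    refine le_antisymm (Subring.closure_mono Set.subset_union_right) ?_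
    rw [Subring.closure_le]
    refine Set.union_subset ?_ Subring.subset_closure
    rintro _ ⟨n, rfl⟩
    rw [ULift.algebraMap_apply', eq_intCast]
    exact intCast_mem _ _
  · refine ⟨{ toFun := fun x => ⟨x.1, x.2⟩
              invFun := fun x => ⟨x.1, x.2⟩
              left_inv := fun x => rfl
              right_inv := fun x => rfl
              map_mul' := fun x y => rfl
              map_add' := fun x y => rfl }, fun x => rfl⟩

set_option maxHeartbeats 1600000 in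
theorem exists_model (Q : MorphismProperty Scheme.{u}) [Q.RespectsIso]
    (A : Type u) [CommRing A] {X : Scheme.{u}} (f : X ⟶ Spec (CommRingCat.of A))
    [LocallyOfFinitePresentation f] [QuasiCompact f] [QuasiSeparated f]
    (hQ : ∀ (i₀ : (FGSub (ULift.{u} ℤ) A)ᵒᵖ) {X₀ : Scheme.{u}} (f₀ : X₀ ⟶ (fgD A).obj i₀)
      [CompactSpace X₀] [QuasiSeparatedSpace X₀] [LocallyOfFinitePresentation f₀] (qX : X ⟶ X₀)
      (_ : IsPullback qX f f₀ ((fgC A).π.app i₀)),
      ∃ (i : (FGSub (ULift.{u} ℤ) A)ᵒᵖ) (φ : i ⟶ i₀) (Xi Yi : Scheme.{u}) (fi : Xi ⟶ Yi)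
        (gi : Yi ⟶ (fgD A).obj i) (pY : Yi ⟶ (fgD A).obj i₀) (pX : Xi ⟶ X₀),
        IsPullback pY gi (𝟙 _) ((fgD A).map φ) ∧ IsPullback pX fi f₀ pY ∧ Q fi) :
    ∃ A₀ : Subalgebra ℤ A, A₀.FG ∧
      ∃ (X₀ : Scheme.{u}) (f₀ : X₀ ⟶ Spec (CommRingCat.of ↥A₀)) (g : X ⟶ X₀),
        Q f₀ ∧ LocallyOfFinitePresentation f₀ ∧ QuasiCompact f₀ ∧
          IsPullback g f f₀ (Spec.map (CommRingCat.ofHom (algebraMap (↥A₀) A))) := by
  let D := fgD A
  let c := fgC A
  have hc : IsLimit c := fgIsLimit A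
  let z : X ⟶ c.pt := f
  haveI : LocallyOfFinitePresentation z := ‹LocallyOfFinitePresentation f›
  haveI : QuasiCompact z := ‹QuasiCompact f›
  haveI : QuasiSeparated z := ‹QuasiSeparated f›
  obtain ⟨i₁, V, v, e, a1, b1, c1, sq⟩ := desc_of_finitePresentation hc z
  haveI := a1
  haveI := b1
  haveI := c1
  haveI : CompactSpace ↥V := QuasiCompact.compactSpace_of_compactSpace v
  haveI : QuasiSeparatedSpace ↥V := quasiSeparatedSpace_of_quasiSeparated v
  obtain ⟨j, φ, Xj, Yj, fj, gj, pY, pX, h1, h2, h3⟩ := hQ i₁ v e sq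
  haveI : IsIso gj := h1.isIso_snd_of_isIso
  have hw : Q (fj ≫ gj) := (Q.cancel_right_of_respectsIso fj gj).mpr h3
  have hXj : IsPullback pX (fj ≫ gj) v (D.map φ) := by
    have := h2.paste_vert h1
    rwa [Category.comp_id] at this
  have hcomm : e ≫ v = (f ≫ c.π.app j) ≫ D.map φ := by
    have h4 : c.π.app j ≫ D.map φ = c.π.app i₁ := c.w φ
    rw [Category.assoc]
    exact sq.w.trans (congrArg (f ≫ ·) h4.symm)
  have hbig : IsPullback (hXj.lift e (f ≫ c.π.app j) hcomm ≫ pX) f v (c.π.app j ≫ D.map φ) := by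
    have h4 : c.π.app j ≫ D.map φ = c.π.app i₁ := c.w φ
    rw [hXj.lift_fst]
    exact h4 ▸ sq
  have hX' : IsPullback (hXj.lift e (f ≫ c.π.app j) hcomm) f (fj ≫ gj) (c.π.app j) :=
    IsPullback.of_right hbig (hXj.lift_snd _ _ _) hXj
  obtain ⟨A₀, hA₀, ε, hε⟩ := exists_int_subalgebra A j.unop.1 j.unop.2
  let β : (fgD A).obj j ⟶ Spec (CommRingCat.of ↥A₀) := Spec.map (CommRingCat.ofHom ε.toRingHom)
  haveI : IsIso β := by
    haveI : IsIso (CommRingCat.ofHom ε.toRingHom) := by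
      rw [ConcreteCategory.isIso_iff_bijective]
      exact ε.bijective
    exact inferInstanceAs (IsIso (Spec.map (CommRingCat.ofHom ε.toRingHom)))
  refine ⟨A₀, hA₀, Xj, (fj ≫ gj) ≫ β, hXj.lift e (f ≫ c.π.app j) hcomm, ?_, ?_, ?_, ?_⟩
  · exact (Q.cancel_right_of_respectsIso (fj ≫ gj) β).mpr hw
  · haveI : LocallyOfFinitePresentation (fj ≫ gj) :=
      MorphismProperty.of_isPullback hXj inferInstance
    infer_instance
  · haveI : QuasiCompact (fj ≫ gj) := MorphismProperty.of_isPullback hXj inferInstance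
    infer_instance
  · refine hX'.of_iso (Iso.refl _) (Iso.refl _) (Iso.refl _) (asIso β) ?_ ?_ ?_ ?_
    · simp
    · simp
    · simp
    · rw [Iso.refl_hom, Category.id_comp, asIso_hom]
      change Spec.map (CommRingCat.ofHom (j.unop.1.val.toRingHom)) ≫
        Spec.map (CommRingCat.ofHom ε.toRingHom) = _
      rw [← Spec.map_comp]
      congr 1
      ext x
      exact hε x

theorem isPullback_id_cone (A : Type u) [CommRing A] (i₀ : (FGSub (ULift.{u} ℤ) A)ᵒᵖ) :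
    IsPullback ((fgC A).π.app i₀) (𝟙 (fgC A).pt) (𝟙 ((fgD A).obj i₀)) ((fgC A).π.app i₀) :=
  haveI : IsIso (𝟙 (fgC A).pt) := IsIso.id _
  haveI : IsIso (𝟙 ((fgD A).obj i₀)) := IsIso.id _
  IsPullback.of_vert_isIso ⟨by simp⟩

theorem exists_smooth_model (A : Type u) [CommRing A] {X : Scheme.{u}}
    (f : X ⟶ Spec (CommRingCat.of A)) [Smooth f] [QuasiCompact f] [QuasiSeparated f] :
    ∃ A₀ : Subalgebra ℤ A, A₀.FG ∧
      ∃ (X₀ : Scheme.{u}) (f₀ : X₀ ⟶ Spec (CommRingCat.of ↥A₀)) (g : X ⟶ X₀),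
        Smooth f₀ ∧ QuasiCompact f₀ ∧
          IsPullback g f f₀ (Spec.map (CommRingCat.ofHom (algebraMap (↥A₀) A))) := by
  haveI : LocallyOfFinitePresentation f := inferInstance
  obtain ⟨A₀, hA₀, X₀, f₀, g, h1, h2, h3, h4⟩ := exists_model @Smooth A f
    (fun i₀ X₀ f₀ _ _ _ qX hX =>
      haveI : Smooth (show X ⟶ (fgC A).pt from f) := ‹Smooth f›
      Groth.Agent.S9191.result (fgD A) (fgC A) (fgIsLimit A) i₀ f₀ (𝟙 _) f (𝟙 _)
        ((fgC A).π.app i₀) qX (isPullback_id_cone A i₀) hX)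
  exact ⟨A₀, hA₀, X₀, f₀, g, h1, h3, h4⟩

theorem exists_etale_model (A : Type u) [CommRing A] {X : Scheme.{u}}
    (f : X ⟶ Spec (CommRingCat.of A)) [Etale f] [QuasiCompact f] [QuasiSeparated f] :
    ∃ A₀ : Subalgebra ℤ A, A₀.FG ∧
      ∃ (X₀ : Scheme.{u}) (f₀ : X₀ ⟶ Spec (CommRingCat.of ↥A₀)) (g : X ⟶ X₀),
        Etale f₀ ∧ QuasiCompact f₀ ∧
          IsPullback g f f₀ (Spec.map (CommRingCat.ofHom (algebraMap (↥A₀) A))) := by
  haveI : LocallyOfFinitePresentation f := inferInstance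
  obtain ⟨A₀, hA₀, X₀, f₀, g, h1, h2, h3, h4⟩ := exists_model @Etale A f
    (fun i₀ X₀ f₀ _ _ _ qX hX =>
      haveI : Etale (show X ⟶ (fgC A).pt from f) := ‹Etale f›
      Groth.Agent.S9192.result (fgD A) (fgC A) (fgIsLimit A) i₀ f₀ (𝟙 _) f (𝟙 _)
        ((fgC A).π.app i₀) qX (isPullback_id_cone A i₀) hX)
  exact ⟨A₀, hA₀, X₀, f₀, g, h1, h3, h4⟩

theorem exists_unramified_model (A : Type u) [CommRing A] {X : Scheme.{u}}
    (f : X ⟶ Spec (CommRingCat.of A)) [FormallyUnramified f] [LocallyOfFinitePresentation f]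
    [QuasiCompact f] [QuasiSeparated f] :
    ∃ A₀ : Subalgebra ℤ A, A₀.FG ∧
      ∃ (X₀ : Scheme.{u}) (f₀ : X₀ ⟶ Spec (CommRingCat.of ↥A₀)) (g : X ⟶ X₀),
        FormallyUnramified f₀ ∧ LocallyOfFinitePresentation f₀ ∧ QuasiCompact f₀ ∧
          IsPullback g f f₀ (Spec.map (CommRingCat.ofHom (algebraMap (↥A₀) A))) := by
  exact exists_model @FormallyUnramified A f
    (fun i₀ X₀ f₀ _ _ _ qX hX =>
      haveI : FormallyUnramified (show X ⟶ (fgC A).pt from f) := ‹FormallyUnramified f›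
      Groth.Agent.S9188.result (fgD A) (fgC A) (fgIsLimit A) i₀ f₀ (𝟙 _) f (𝟙 _)
        ((fgC A).π.app i₀) qX (isPullback_id_cone A i₀) hX)

end Groth.Agent.Lib.Helper12.H12FgModel
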