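import Mathlib
import Groth.Prelude.Def_FlatCA
import Groth.Agent.Lib.Helper26.FiberAss

set_option autoImplicit false
universe u
open TensorProduct
open Groth.Agent.Lib.Helper26.FiberAss

namespace H12FibAss

section A
variable {R : Type u} [CommRing R] (M : Type u) [AddCommGroup M] [Module R M]
  (N : Type u) [AddCommGroup N] [Module R N] [Module.Flat R N]

/-- for flat `N` and `p = Ann m`: `n ⊗ m = 0 ↔ n ∈ pN`. -/
theorem tmul_eq_zero_iff (p : Ideal R) (m : M) (hm : p = (Submodule.span R {m}).annihilator)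
    (n : N) : n ⊗ₜ[R] m = 0 ↔ n ∈ p • (⊤ : Submodule R N) := by
  have hker : LinearMap.ker (LinearMap.toSpanSingleton R M m) = p := by
    ext r
    rw [LinearMap.mem_ker, LinearMap.toSpanSingleton_apply, hm,
      Submodule.mem_annihilator_span_singleton]
  let f : (R ⧸ p) →ₗ[R] M := Submodule.liftQ p (LinearMap.toSpanSingleton R M m) hker.ge
  have hf : Function.Injective f := by
    rw [← LinearMap.ker_eq_bot]
    exact Submodule.ker_liftQ_eq_bot _ _ _ hker.le
  have hinj := Module.Flat.lTensor_preserves_injective_linearMap (M := N) f hf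
  have e1 : f.lTensor N (n ⊗ₜ[R] (1 : R ⧸ p)) = n ⊗ₜ[R] m := by
    rw [LinearMap.lTensor_tmul]
    congr 1
    change f (Submodule.Quotient.mk (1 : R)) = m
    rw [Submodule.liftQ_apply, LinearMap.toSpanSingleton_apply, one_smul]
  rw [← e1, ← map_zero (f.lTensor N), hinj.eq_iff,
    ← (TensorProduct.tensorQuotEquivQuotSMul N p).map_eq_zero_iff,
    ← map_one (Ideal.Quotient.mk p), TensorProduct.tensorQuotEquivQuotSMul_tmul_mk, one_smul,
    Submodule.Quotient.mk_eq_zero]

end A

end H12FibAss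

namespace H12FibAss

attribute [local instance] Algebra.TensorProduct.rightAlgebra

theorem main {R S : Type u} [CommRing R] [CommRing S] [Algebra R S] (M : Type u) [AddCommGroup M] [Module R M] (N : Type u) [AddCommGroup N] [Module S N] [Module R N] [IsScalarTower R S N] [Module.Flat R N]
    (p : Ideal R) [p.IsPrime] (hp : p ∈ FlatCA.ass R M) (Q : Ideal (p.Fiber S)) (hQ : Q ∈ FlatCA.ass (p.Fiber S) (FlatCA.fiberMod p S N)) :
    Q.comap (Algebra.TensorProduct.includeRight (R := R) (A := p.ResidueField) (B := S)).toRingHom ∈ FlatCA.ass S (N ⊗[R] M) := by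
  have h1 : Q.comap (Algebra.TensorProduct.includeRight (R := R) (A := p.ResidueField)
      (B := S)).toRingHom ∈ FlatCA.ass S (FlatCA.fiberMod p S N) := by
    rw [mem_ass_iff] at hQ ⊢
    obtain ⟨hQp, m, hm⟩ := hQ
    refine ⟨inferInstance, m, fun s => ?_⟩
    rw [Ideal.mem_comap, hm]
    exact (includeRight_smul p N s m) ▸ Iff.rfl
  rw [← ass_quotient_eq_ass_fiberMod_of_flat] at h1
  obtain ⟨_, m, hm⟩ := hp
  rw [mem_ass_iff] at h1 ⊢
  obtain ⟨hq, x, hx⟩ := h1
  obtain ⟨x, rfl⟩ := Submodule.Quotient.mk_surjective _ x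
  refine ⟨hq, x ⊗ₜ[R] m, fun s => ?_⟩
  rw [hx, quotient_smul_eq_zero_iff, mem_map_smul_top_iff, TensorProduct.smul_tmul',
    tmul_eq_zero_iff M N p m hm]

end H12FibAss
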