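import Mathlib

set_option autoImplicit false
universe u

open AlgebraicGeometry CategoryTheory Limits

namespace Groth.Agent.Lib.Helper12.H12UnivInj

/-- every point is a specialization of the generic point of an irreducible component. -/
theorem exists_generic_specializes {α : Type*} [TopologicalSpace α] [QuasiSober α] (z : α) :
    ∃ ζ : α, closure ({ζ} : Set α) ∈ irreducibleComponents α ∧ ζ ⤳ z := by
  obtain ⟨ζ, hζ⟩ := QuasiSober.sober (isIrreducible_irreducibleComponent (x := z))
    isClosed_irreducibleComponent
  refine ⟨ζ, ?_, ?_⟩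
  · rw [hζ.def]
    exact irreducibleComponent_mem_irreducibleComponents z
  · exact hζ.specializes mem_irreducibleComponent

/-- generic points of irreducible components map to such under continuous generalizing maps. -/
theorem closure_image_mem_irreducibleComponents {α β : Type*} [TopologicalSpace α]
    [TopologicalSpace β] [T0Space α] [QuasiSober β] {g : α → β}
    (hgen : GeneralizingMap g) {ζ : α}
    (hζ : closure ({ζ} : Set α) ∈ irreducibleComponents α) :
    closure ({g ζ} : Set β) ∈ irreducibleComponents β := by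
  obtain ⟨η, hη, hsp⟩ := exists_generic_specializes (g ζ)
  obtain ⟨ζ', hζ', hgζ'⟩ := hgen hsp
  have h1 : closure ({ζ} : Set α) ⊆ closure ({ζ'} : Set α) :=
    (specializes_iff_closure_subset.mp hζ')
  have h2 : closure ({ζ'} : Set α) ⊆ closure ({ζ} : Set α) :=
    hζ.2 isIrreducible_singleton.closure h1
  have h3 : ζ' = ζ :=
    IsGenericPoint.eq (S := closure ({ζ} : Set α)) (h1.antisymm h2).symm rfl
  rw [← h3, hgζ']
  exact hη

section

variable {X Y S : Scheme.{u}} {f : X ⟶ S} {g : Y ⟶ S}

open Scheme.Pullback in
theorem eq_of_fst_eq_of_snd_eq (z₁ z₂ : ↑(pullback f g))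
    (h1 : pullback.fst f g z₁ = pullback.fst f g z₂)
    (h2 : pullback.snd f g z₁ = pullback.snd f g z₂)
    [Subsingleton (Spec (Triplet.ofPoint z₂).tensor)] : z₁ = z₂ := by
  apply (carrierEquiv (f := f) (g := g)).injective
  change (⟨Triplet.ofPoint z₁, SpecOfPoint z₁⟩ : Σ T : Triplet f g, Spec T.tensor) =
    ⟨Triplet.ofPoint z₂, SpecOfPoint z₂⟩
  rw [carrierEquiv_eq_iff]
  refine ⟨Triplet.ext h1 h2, Subsingleton.elim _ _⟩

open Scheme.Pullback in
theorem subsingleton_spec_tensor (T : Triplet f g)
    (h : Function.Surjective ((S.residueFieldCongr T.hx).inv ≫ f.residueFieldMap T.x).hom) :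
    Subsingleton (Spec T.tensor) := by
  have hbij : Function.Bijective ((S.residueFieldCongr T.hx).inv ≫ f.residueFieldMap T.x).hom :=
    ⟨RingHom.injective _, h⟩
  haveI : IsIso ((S.residueFieldCongr T.hx).inv ≫ f.residueFieldMap T.x) :=
    (ConcreteCategory.isIso_iff_bijective _).mpr hbij
  haveI : IsIso T.tensorInr :=
    pushout_inr_iso_of_left_iso ((S.residueFieldCongr T.hx).inv ≫ f.residueFieldMap T.x)
      ((S.residueFieldCongr T.hy).inv ≫ g.residueFieldMap T.y)
  haveI : IsIso (Spec.map T.tensorInr) := inferInstance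
  exact (Spec.map T.tensorInr).homeomorph.injective.subsingleton

end

end Groth.Agent.Lib.Helper12.H12UnivInj
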