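import Mathlib
import Groth.Agent.Lib.Helper21.FibDim7
import Groth.Agent.Lib.Helper18.FibSemi
import Groth.Agent.Lib.Helper12.NearGeneric
import Groth.Agent.Lib.Helper12.UnivInj
import Groth.Agent.Lib.Helper6.QuasiFiniteFiber

/-!
# Points maximal in their fibre, and nowhere density of traces on fibres near the generic point
-/

set_option autoImplicit false
universe u

namespace Groth.Agent.Lib.Helper12.H12FibMax

open AlgebraicGeometry CategoryTheory Limits TopologicalSpace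
open Groth.Agent.Lib.Helper21.FibDim Groth.Agent.Lib.Helper12.H12NearGeneric

variable {X Y : Scheme.{u}}

/-- residue transcendence degree of a point over its image. -/
noncomputable def tr (g : X ⟶ Y) (x : X) : Cardinal.{u} :=
  @Algebra.trdeg (Y.residueField (g x)) (X.residueField x) _ _ (g.residueFieldMap x).hom.toAlgebra

/-- `x` has no proper generisation in its fibre. -/
def IsMaxInFibre (g : X ⟶ Y) (x : X) : Prop := ∀ x' : X, x' ⤳ x → g x' = g x → x' = x

section basic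

variable (g : X ⟶ Y) [LocallyOfFiniteType g]

theorem exists_dim_eq (x : X) :
    ∃ n : ℕ, FlatMor.fibreDimAt g x = n ∧ (∃ y : X, y ⤳ x ∧ g y = g x ∧ tr g y = n) ∧
      ∀ y : X, y ⤳ x → g y = g x → tr g y ≤ n :=
  exists_fibreDimAt_eq_trdeg g x

theorem tr_lt {x x' : X} (hsp : x ⤳ x') (hne : x ≠ x') (hfx : g x = g x') : tr g x' < tr g x :=
  trdeg_lt_of_specializes_of_ne g hsp hne hfx

theorem isMaxInFibre_of_eq {x : X} {n : ℕ} (hd : FlatMor.fibreDimAt g x = n) (ht : tr g x = n) :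
    IsMaxInFibre g x := by
  intro x' hx' hgx'
  by_contra hne
  have h1 := tr_lt g hx' hne hgx'
  obtain ⟨m, hm, -, hmax⟩ := exists_dim_eq g x
  have hmn : m = n := by
    rw [hd] at hm
    exact_mod_cast hm.symm
  have h2 := hmax x' hx' hgx'
  rw [ht, hmn] at *
  exact absurd h1 (not_lt.mpr h2)

theorem IsMaxInFibre.exists_eq {x : X} (h : IsMaxInFibre g x) :
    ∃ n : ℕ, FlatMor.fibreDimAt g x = n ∧ tr g x = n :=
  fibreDimAt_eq_trdeg_of_maximal g x h

/-- every point has a generisation in its fibre which is maximal there and has the same local fibre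
dimension. -/
theorem exists_isMaxInFibre_specializes (x : X) :
    ∃ y : X, y ⤳ x ∧ g y = g x ∧ IsMaxInFibre g y ∧
      FlatMor.fibreDimAt g y = FlatMor.fibreDimAt g x := by
  obtain ⟨n, hn, ⟨y, hyx, hgy, hty⟩, hmax⟩ := exists_dim_eq g x
  have hymax : IsMaxInFibre g y := by
    intro y' hy' hgy'
    by_contra hne
    have h1 := tr_lt g hy' hne hgy'
    have h2 := hmax y' (hy'.trans hyx) (hgy'.trans hgy)
    rw [hty] at h1
    exact absurd h1 (not_lt.mpr h2)
  obtain ⟨m, hm1, hm2⟩ := hymax.exists_eq g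
  have hmn : m = n := by
    rw [hty] at hm2
    exact_mod_cast hm2.symm
  refine ⟨y, hyx, hgy, hymax, ?_⟩
  rw [hm1, hn, hmn]

/-- the local fibre dimension does not increase under generisation within a fibre. -/
theorem fibreDimAt_le_of_specializes {x x' : X} (h : x' ⤳ x) :
    FlatMor.fibreDimAt g x' ≤ FlatMor.fibreDimAt g x := by
  obtain ⟨m, hm, -, -⟩ := exists_dim_eq g x
  have hopen := isOpen_setOf_fibreDimAt_le g m
  have hx : x ∈ {x : X | FlatMor.fibreDimAt g x ≤ m} := hm.le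
  have := h.mem_open hopen hx
  rw [hm]
  exact this

end basic

section closedImm

variable {W : Scheme.{u}} (ι : W ⟶ X) [IsClosedImmersion ι] (f : X ⟶ Y)

theorem tr_comp_eq (z : W) : tr (ι ≫ f) z = tr f (ι z) := by
  unfold tr
  symm
  refine Groth.Agent.Lib.Helper6.EtaleSq.trdeg_eq_of_square (f.residueFieldMap (ι z)).hom
    (ι.residueFieldMap z).hom ((ι ≫ f).residueFieldMap z).hom (RingHom.id _) ?_ ?_ ?_
  · have e1 : (ι ≫ f).residueFieldMap z = f.residueFieldMap (ι z) ≫ ι.residueFieldMap z :=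
      Scheme.residueFieldMap_comp ι f z
    refine RingHom.ext fun a => ?_
    exact (congrArg (fun h => h.hom a) e1).symm
  · exact isAlgebraic_of_surjective _ (residueFieldMap_surjective ι z)
  · exact isAlgebraic_of_surjective (RingHom.id _) Function.surjective_id

variable [LocallyOfFiniteType f]

theorem fibreDimAt_comp_le (z : W) :
    FlatMor.fibreDimAt (ι ≫ f) z ≤ FlatMor.fibreDimAt f (ι z) := by
  obtain ⟨n, hn, ⟨z₁, hz₁, hgz₁, htz₁⟩, -⟩ := exists_dim_eq (ι ≫ f) z
  obtain ⟨m, hm, -, hmax⟩ := exists_dim_eq f (ι z)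
  have h1 : tr f (ι z₁) ≤ m := hmax (ι z₁) (hz₁.map ι.continuous) hgz₁
  rw [← tr_comp_eq, htz₁] at h1
  rw [hn, hm]
  exact_mod_cast h1

theorem fibreDimAt_comp_eq_of_isMaxInFibre (z : W) (h : IsMaxInFibre f (ι z)) :
    FlatMor.fibreDimAt (ι ≫ f) z = FlatMor.fibreDimAt f (ι z) := by
  apply le_antisymm (fibreDimAt_comp_le ι f z)
  obtain ⟨n, hn1, hn2⟩ := h.exists_eq f
  obtain ⟨m, hm, -, hmax⟩ := exists_dim_eq (ι ≫ f) z
  have h1 : tr (ι ≫ f) z ≤ m := hmax z specializes_rfl rfl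
  rw [tr_comp_eq, hn2] at h1
  rw [hn1, hm]
  exact_mod_cast h1

theorem exists_isMaxInFibre_of_fibreDimAt_comp_eq (z : W)
    (h : FlatMor.fibreDimAt (ι ≫ f) z = FlatMor.fibreDimAt f (ι z)) :
    ∃ z' : W, z' ⤳ z ∧ f (ι z') = f (ι z) ∧ IsMaxInFibre f (ι z') := by
  obtain ⟨z', hz'z, hgz', hz'max, hdz'⟩ := exists_isMaxInFibre_specializes (ι ≫ f) z
  refine ⟨z', hz'z, hgz', ?_⟩
  obtain ⟨n, hn1, hn2⟩ := hz'max.exists_eq (ι ≫ f)
  rw [tr_comp_eq] at hn2
  refine isMaxInFibre_of_eq f ?_ hn2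
  apply le_antisymm
  · -- d_X(ι z') ≤ d_X(ι z) = d_Z(z) = d_Z(z') = n
    obtain ⟨a, ha, -, hamax⟩ := exists_dim_eq f (ι z)
    obtain ⟨b, hb, ⟨y, hy1, hy2, hy3⟩, -⟩ := exists_dim_eq f (ι z')
    have h1 : tr f y ≤ a := hamax y (hy1.trans (hz'z.map ι.continuous)) (hy2.trans hgz')
    rw [hy3] at h1
    have hba : b ≤ a := by exact_mod_cast h1
    rw [hb]
    have : (a : WithBot ℕ∞) = n := by rw [← ha, ← h, ← hdz', hn1]
    have han : a = n := by exact_mod_cast this
    exact_mod_cast han ▸ hba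
  · rw [← hn1]
    exact fibreDimAt_comp_le ι f z'

end closedImm

section top

variable {F : Type*} [TopologicalSpace F]

theorem isNowhereDense_of_forall_not_generic [QuasiSober F] {C : Set F} (hC : IsClosed C)
    (h : ∀ ζ ∈ C, closure ({ζ} : Set F) ∉ irreducibleComponents F) : IsNowhereDense C := by
  rw [IsNowhereDense, hC.closure_eq, Set.eq_empty_iff_forall_notMem]
  intro t ht
  obtain ⟨ζ, hζ, hζt⟩ := Groth.Agent.Lib.Helper12.H12UnivInj.exists_generic_specializes t
  have hζC : ζ ∈ interior C := hζt.mem_open isOpen_interior ht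
  exact h ζ (interior_subset hζC) hζ

theorem not_isNowhereDense_of_generic_mem [NoetherianSpace F] {C : Set F} (hC : IsClosed C)
    {ζ : F} (hζC : ζ ∈ C) (hζ : closure ({ζ} : Set F) ∈ irreducibleComponents F) :
    ¬ IsNowhereDense C := by
  intro hnd
  rw [IsNowhereDense, hC.closure_eq] at hnd
  have hfin : (irreducibleComponents F).Finite := NoetherianSpace.finite_irreducibleComponents
  let S : Set (Set F) := irreducibleComponents F \ {closure {ζ}}
  have hSfin : S.Finite := hfin.subset Set.sdiff_subset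
  have hclosed : IsClosed (⋃ T ∈ S, T) :=
    hSfin.isClosed_biUnion (fun T hT => isClosed_of_mem_irreducibleComponents T hT.1)
  let U : Set F := (⋃ T ∈ S, T)ᶜ
  have hUopen : IsOpen U := hclosed.isOpen_compl
  have hζU : ζ ∈ U := by
    intro hmem
    simp only [Set.mem_iUnion] at hmem
    obtain ⟨T, hTS, hζT⟩ := hmem
    have hsub : closure {ζ} ⊆ T :=
      (isClosed_of_mem_irreducibleComponents T hTS.1).closure_subset_iff.mpr
        (Set.singleton_subset_iff.mpr hζT)
    have := hζ.2 hTS.1.1 hsub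
    have heq : T = closure {ζ} := le_antisymm this hsub
    exact hTS.2 heq
  have hUC : U ⊆ C := by
    intro t ht
    have hcl : closure ({ζ} : Set F) ⊆ C := hC.closure_subset_iff.mpr (Set.singleton_subset_iff.mpr hζC)
    apply hcl
    by_contra htn
    apply ht
    have h1 : irreducibleComponent t ∈ S := by
      refine ⟨irreducibleComponent_mem_irreducibleComponents t, ?_⟩
      intro heq
      apply htn
      rw [← Set.mem_singleton_iff.mp heq]
      exact mem_irreducibleComponent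
    exact Set.mem_biUnion h1 mem_irreducibleComponent
  have : ζ ∈ interior C := interior_maximal hUC hUopen hζU
  rw [hnd] at this
  exact this

end top

section bridge

variable (f : X ⟶ Y)

theorem apply_fiberι (y : Y) (t : f.fiber y) : f (f.fiberι y t) = y :=
  Groth.Agent.Lib.Helper12.H12NearGeneric.apply_fiberι' f y t

theorem isMaxInFibre_fiberι_of_generic (y : Y) (ζ : f.fiber y)
    (hζ : closure ({ζ} : Set (f.fiber y)) ∈ irreducibleComponents (f.fiber y)) :
    IsMaxInFibre f (f.fiberι y ζ) := by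
  intro x' hx' hfx'
  have hfx'y : f x' = y := hfx'.trans (apply_fiberι f y ζ)
  let ζ' : f.fiber y := (f.fiberHomeo y).symm ⟨x', hfx'y⟩
  have hζ' : f.fiberι y ζ' = x' := Scheme.Hom.fiberι_fiberHomeo_symm f y ⟨x', hfx'y⟩
  have hsp : ζ' ⤳ ζ := by
    rw [← (f.fiberι y).isEmbedding.isInducing.specializes_iff, hζ']
    exact hx'
  have := eq_of_specializes_of_closure_mem ζ hζ ζ' hsp
  rw [← hζ', this]

theorem closure_mem_irreducibleComponents_of_isMaxInFibre (y : Y) (ζ : f.fiber y)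
    (h : IsMaxInFibre f (f.fiberι y ζ)) :
    closure ({ζ} : Set (f.fiber y)) ∈ irreducibleComponents (f.fiber y) := by
  obtain ⟨ζ₀, hζ₀, hsp⟩ := Groth.Agent.Lib.Helper12.H12UnivInj.exists_generic_specializes ζ
  have h1 : f.fiberι y ζ₀ = f.fiberι y ζ :=
    h _ (hsp.map (f.fiberι y).continuous) ((apply_fiberι f y ζ₀).trans (apply_fiberι f y ζ).symm)
  have h2 : ζ₀ = ζ := (f.fiberι y).isEmbedding.injective h1
  rw [← h2]
  exact hζ₀

theorem isNowhereDense_preimage_fiberι {Z : Set X} (hZ : IsClosed Z) (y : Y)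
    (h : ∀ x ∈ Z, f x = y → ¬ IsMaxInFibre f x) :
    IsNowhereDense ((f.fiberι y) ⁻¹' Z) := by
  apply isNowhereDense_of_forall_not_generic (hZ.preimage (f.fiberι y).continuous)
  intro ζ hζZ hζ
  exact h _ hζZ (apply_fiberι f y ζ) (isMaxInFibre_fiberι_of_generic f y ζ hζ)

theorem not_isMaxInFibre_of_isNowhereDense [LocallyOfFiniteType f] [QuasiCompact f]
    {Z : Set X} (hZ : IsClosed Z) (y : Y)
    (h : IsNowhereDense ((f.fiberι y) ⁻¹' Z)) (x : X) (hxZ : x ∈ Z) (hfx : f x = y) :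
    ¬ IsMaxInFibre f x := by
  intro hmax
  let ζ : f.fiber y := (f.fiberHomeo y).symm ⟨x, hfx⟩
  have hζ : f.fiberι y ζ = x := Scheme.Hom.fiberι_fiberHomeo_symm f y ⟨x, hfx⟩
  refine not_isNowhereDense_of_generic_mem (hZ.preimage (f.fiberι y).continuous)
    (ζ := ζ) ?_ ?_ h
  · change f.fiberι y ζ ∈ Z
    rw [hζ]; exact hxZ
  · apply closure_mem_irreducibleComponents_of_isMaxInFibre
    rw [hζ]; exact hmax

end bridge

section core

variable (f : X ⟶ Y) [IrreducibleSpace Y] [LocallyOfFiniteType f] [QuasiCompact f]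

theorem exists_open_disjoint_of_locallyClosed (C O : Set X) (hC : IsClosed C) (hO : IsOpen O)
    (hη : ∀ x ∈ C ∩ O, f x ≠ genericPoint Y) :
    ∃ V : Y.Opens, genericPoint Y ∈ V ∧ ∀ x ∈ C ∩ O, f x ∉ V := by
  set I := Scheme.IdealSheafData.vanishingIdeal ⟨C, hC⟩ with hI
  have hrange : Set.range I.subschemeι = C := by
    rw [Scheme.IdealSheafData.range_subschemeι, Scheme.IdealSheafData.coe_support_vanishingIdeal]
    rfl
  obtain ⟨V, hVne, hV⟩ := exists_open_generalizing (I.subschemeι ≫ f)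
  refine ⟨V, ?_, ?_⟩
  · obtain ⟨y, hy⟩ := hVne
    exact (genericPoint_specializes y).mem_open V.isOpen hy
  · rintro x ⟨hxC, hxO⟩ hfx
    rw [← hrange] at hxC
    obtain ⟨z, rfl⟩ := hxC
    have h1 : (I.subschemeι ≫ f) z ∈ V := hfx
    obtain ⟨z', hz'z, hz'⟩ := hV z h1 (genericPoint Y) (genericPoint_specializes _)
    refine hη (I.subschemeι z') ⟨?_, ?_⟩ hz'
    · rw [← hrange]
      exact ⟨z', rfl⟩
    · exact (hz'z.map I.subschemeι.continuous).mem_open hO hxO

/-- the local fibre dimensions are bounded on the generic fibre. -/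
theorem exists_fibreDimAt_le_of_generic :
    ∃ N : ℕ, ∀ x : X, f x = genericPoint Y → FlatMor.fibreDimAt f x ≤ N := by
  set η := genericPoint Y
  have hch : ∀ t : f.fiber η, ∃ n : ℕ, FlatMor.fibreDimAt f (f.fiberι η t) = n := fun t => by
    obtain ⟨n, hn, -⟩ := exists_dim_eq f (f.fiberι η t)
    exact ⟨n, hn⟩
  choose n hn using hch
  let U : f.fiber η → Set (f.fiber η) := fun t =>
    (f.fiberι η) ⁻¹' {x : X | FlatMor.fibreDimAt f x ≤ n t}
  have hUopen : ∀ t, IsOpen (U t) := fun t =>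
    (isOpen_setOf_fibreDimAt_le f (n t)).preimage (f.fiberι η).continuous
  have hUmem : ∀ t, t ∈ U t := fun t => (hn t).le
  obtain ⟨s, hs⟩ := CompactSpace.elim_nhds_subcover U (fun t => (hUopen t).mem_nhds (hUmem t))
  refine ⟨s.sup n, fun x hx => ?_⟩
  let t : f.fiber η := (f.fiberHomeo η).symm ⟨x, hx⟩
  have ht : f.fiberι η t = x := Scheme.Hom.fiberι_fiberHomeo_symm f η ⟨x, hx⟩
  have hmem : t ∈ ⋃ i ∈ s, U i := by rw [hs]; trivial
  simp only [Set.mem_iUnion] at hmem
  obtain ⟨i, his, hti⟩ := hmem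
  have h1 : FlatMor.fibreDimAt f x ≤ n i := by rw [← ht]; exact hti
  refine h1.trans ?_
  exact_mod_cast Finset.le_sup his

/-- **Core**: if no point of the closed set `Z` over the generic point is maximal in its fibre, the
same holds over a neighbourhood of the generic point. -/
theorem exists_open_forall_not_isMaxInFibre (Z : Set X) (hZ : IsClosed Z)
    (h : ∀ x ∈ Z, f x = genericPoint Y → ¬ IsMaxInFibre f x) :
    ∃ V : Y.Opens, genericPoint Y ∈ V ∧ ∀ x ∈ Z, f x ∈ V → ¬ IsMaxInFibre f x := by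
  set I := Scheme.IdealSheafData.vanishingIdeal ⟨Z, hZ⟩ with hI
  have hrange : Set.range I.subschemeι = Z := by
    rw [Scheme.IdealSheafData.range_subschemeι, Scheme.IdealSheafData.coe_support_vanishingIdeal]
    rfl
  set ι := I.subschemeι with hι
  -- bound on the generic fibre and its spreading
  obtain ⟨N, hN⟩ := exists_fibreDimAt_le_of_generic f
  obtain ⟨V₂, hV₂ne, hV₂⟩ := exists_open_disjoint_of_closed f
    {x : X | ((N + 1 : ℕ) : WithBot ℕ∞) ≤ FlatMor.fibreDimAt f x}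
    (Groth.Agent.Lib.Helper18.FibSemi.isClosed_setOf_le_fibreDimAt f (N + 1)) (by
      intro x hx hfx
      have h1 := hN x hfx
      have h2 : ((N + 1 : ℕ) : WithBot ℕ∞) ≤ (N : WithBot ℕ∞) := le_trans hx h1
      have h3 : N + 1 ≤ N := by exact_mod_cast h2
      omega)
  have hηV₂ : genericPoint Y ∈ V₂ := by
    obtain ⟨y, hy⟩ := hV₂ne
    exact (genericPoint_specializes y).mem_open V₂.isOpen hy
  -- the locally closed pieces
  let C : ℕ → Set X := fun k => ι '' {z | (k : WithBot ℕ∞) ≤ FlatMor.fibreDimAt (ι ≫ f) z}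
  let O : ℕ → Set X := fun k => {x : X | FlatMor.fibreDimAt f x ≤ k}
  have hCclosed : ∀ k, IsClosed (C k) := fun k =>
    ι.isClosedEmbedding.isClosedMap _
      (Groth.Agent.Lib.Helper18.FibSemi.isClosed_setOf_le_fibreDimAt (ι ≫ f) k)
  have hOopen : ∀ k, IsOpen (O k) := fun k => isOpen_setOf_fibreDimAt_le f k
  have hCO : ∀ k, ∀ x ∈ C k ∩ O k, f x ≠ genericPoint Y := by
    rintro k _ ⟨⟨z, hz, rfl⟩, hxO⟩ hfx
    have h1 : FlatMor.fibreDimAt (ι ≫ f) z = FlatMor.fibreDimAt f (ι z) :=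
      le_antisymm (fibreDimAt_comp_le ι f z) (le_trans hxO hz)
    obtain ⟨z', -, hfz', hmax⟩ := exists_isMaxInFibre_of_fibreDimAt_comp_eq ι f z h1
    refine h (ι z') ?_ (hfz'.trans hfx) hmax
    rw [← hrange]
    exact ⟨z', rfl⟩
  have hVk : ∀ k, ∃ V : Y.Opens, genericPoint Y ∈ V ∧ ∀ x ∈ C k ∩ O k, f x ∉ V := fun k =>
    exists_open_disjoint_of_locallyClosed f (C k) (O k) (hCclosed k) (hOopen k) (hCO k)
  choose Vk hVkη hVk' using hVk
  have hfin : ∀ M : ℕ, ∃ V : Y.Opens, genericPoint Y ∈ V ∧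
      ∀ k ≤ M, ∀ x ∈ C k ∩ O k, f x ∉ V := by
    intro M
    induction M with
    | zero =>
      refine ⟨Vk 0, hVkη 0, ?_⟩
      intro k hk x hx
      obtain rfl : k = 0 := Nat.le_zero.mp hk
      exact hVk' 0 x hx
    | succ M ih =>
      obtain ⟨V, hηV, hV⟩ := ih
      refine ⟨V ⊓ Vk (M + 1), ⟨hηV, hVkη (M + 1)⟩, ?_⟩
      intro k hk x hx hfx
      rcases Nat.lt_or_ge k (M + 1) with hlt | hge
      · exact hV k (Nat.lt_succ_iff.mp hlt) x hx hfx.1
      · obtain rfl : k = M + 1 := le_antisymm hk hge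
        exact hVk' (M + 1) x hx hfx.2
  obtain ⟨V₃, hηV₃, hV₃⟩ := hfin N
  refine ⟨V₂ ⊓ V₃, ⟨hηV₂, hηV₃⟩, ?_⟩
  intro x hxZ hfxV hmax
  rw [← hrange] at hxZ
  obtain ⟨z, rfl⟩ := hxZ
  obtain ⟨k, hk, -, -⟩ := exists_dim_eq f (ι z)
  have heq := fibreDimAt_comp_eq_of_isMaxInFibre ι f z hmax
  have hkN : k ≤ N := by
    by_contra hcon
    rw [not_le] at hcon
    have h1 : ((N + 1 : ℕ) : WithBot ℕ∞) ≤ FlatMor.fibreDimAt f (ι z) := by
      rw [hk]
      exact_mod_cast Nat.succ_le_of_lt hcon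
    exact hV₂ (ι z) h1 hfxV.1
  refine hV₃ k hkN (ι z) ⟨⟨z, ?_, rfl⟩, ?_⟩ hfxV.2
  · change (k : WithBot ℕ∞) ≤ FlatMor.fibreDimAt (ι ≫ f) z
    rw [heq, hk]
  · change FlatMor.fibreDimAt f (ι z) ≤ k
    rw [hk]


/-- the trace of a closed set on the fibres stays nowhere dense near the generic point. -/
theorem main_nowhereDense (Z : Set X) (hZ : IsClosed Z)
    (h : IsNowhereDense ((f.fiberι (genericPoint Y)) ⁻¹' Z)) :
    ∃ V : Y.Opens, (V : Set Y).Nonempty ∧ ∀ y ∈ V, IsNowhereDense ((f.fiberι y) ⁻¹' Z) := by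
  obtain ⟨V, hηV, hV⟩ := exists_open_forall_not_isMaxInFibre f Z hZ
    (fun x hxZ hfx => not_isMaxInFibre_of_isNowhereDense f hZ _ h x hxZ hfx)
  exact ⟨V, ⟨_, hηV⟩, fun y hy => isNowhereDense_preimage_fiberι f hZ y
    (fun x hxZ hfx => hV x hxZ (hfx ▸ hy))⟩

end core

end Groth.Agent.Lib.Helper12.H12FibMax
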