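import Mathlib
import Groth.Agent.Lib.Helper12.FibMax
import Groth.Agent.Lib.Helper12.ConstrTop

set_option autoImplicit false
universe u

namespace Groth.Agent.Lib.Helper12.H12FibCl

open AlgebraicGeometry CategoryTheory Limits TopologicalSpace Topology
open Groth.Agent.Lib.Helper12.H12FibMax

/-- **Lemma A**: in a Noetherian quasi-sober T0 space, a maximal point does not lie in the closure
of the complement of a dense constructible set. -/
theorem notMem_closure_compl_of_maximal {T : Type*} [TopologicalSpace T] [NoetherianSpace T]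
    [QuasiSober T] [T0Space T] {E : Set T} (hE : IsConstructible E) (hd : Dense E) (w : T)
    (hw : ∀ t : T, t ⤳ w → t = w) : w ∉ closure Eᶜ := by
  have hfin : (irreducibleComponents T).Finite := NoetherianSpace.finite_irreducibleComponents
  set C : Set T := closure {w} with hC
  have hCirr : IsIrreducible C := isIrreducible_singleton.closure
  have hCmem : C ∈ irreducibleComponents T := by
    refine ⟨hCirr, fun Z hZ hle => ?_⟩
    obtain ⟨z, hz⟩ := QuasiSober.sober hZ.closure isClosed_closure
    have hwZ : w ∈ closure Z := subset_closure (hle (subset_closure rfl))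
    have hzw : z ⤳ w := by
      rw [specializes_iff_mem_closure, hz.def]; exact hwZ
    have := hw z hzw
    subst this
    intro x hx
    have : x ∈ closure Z := subset_closure hx
    rw [← hz.def] at this
    exact this
  set O : Set T := (⋃₀ (irreducibleComponents T \ {C}))ᶜ with hO
  have hOopen : IsOpen O := by
    rw [hO, Set.sUnion_eq_biUnion, isOpen_compl_iff]
    exact hfin.sdiff.isClosed_biUnion fun W hW => isClosed_of_mem_irreducibleComponents W hW.1
  have hOC : O ⊆ C := by
    rw [hO, Set.compl_subset_iff_union, ← Set.sUnion_singleton C, ← Set.sUnion_union,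
      Set.sUnion_singleton, Set.sdiff_union_of_subset, sUnion_irreducibleComponents]
    rwa [Set.singleton_subset_iff]
  have hwO : w ∈ O := by
    rw [hO, Set.mem_compl_iff, Set.mem_sUnion]
    rintro ⟨C₂, ⟨hC₂, hne⟩, hwC₂⟩
    apply hne
    obtain ⟨z, hz⟩ := QuasiSober.sober hC₂.1 (isClosed_of_mem_irreducibleComponents C₂ hC₂)
    have hzw : z ⤳ w := by
      rw [specializes_iff_mem_closure, hz.def]; exact hwC₂
    have := hw z hzw
    subst this
    exact hz.def.symm
  obtain ⟨U, hU, hne, h | h⟩ := Groth.Agent.Lib.Helper12.constructible_dichotomy hE hCirr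
  · -- a neighbourhood of `w` inside `E`
    have hwU : w ∈ U := by
      obtain ⟨y, hyU, hyC⟩ := hne
      have : w ⤳ y := specializes_iff_mem_closure.mpr hyC
      exact this.mem_open hU hyU
    intro hcl
    obtain ⟨z, ⟨hzU, hzO⟩, hzE⟩ := mem_closure_iff.mp hcl (U ∩ O) (hU.inter hOopen) ⟨hwU, hwO⟩
    exact hzE (h ⟨hzU, hOC hzO⟩)
  · exfalso
    have hwU : w ∈ U := by
      obtain ⟨y, hyU, hyC⟩ := hne
      have : w ⤳ y := specializes_iff_mem_closure.mpr hyC
      exact this.mem_open hU hyU
    obtain ⟨z, ⟨hzU, hzO⟩, hzE⟩ := mem_closure_iff.mp (hd w) (U ∩ O) (hU.inter hOopen) ⟨hwU, hwO⟩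
    exact h ⟨hzU, hOC hzO⟩ hzE

/-- **Generic closure lemma**: over a nonempty open of an irreducible Noetherian base, taking
closures of a constructible set commutes with passing to fibres. -/
theorem exists_open_closure_inter_fibre {X Y : Scheme.{u}} (f : X ⟶ Y) [IrreducibleSpace Y]
    [IsNoetherian Y] [LocallyOfFiniteType f] [QuasiCompact f] (Z : Set X)
    (hZ : IsConstructible Z) :
    ∃ V : Y.Opens, genericPoint Y ∈ V ∧
      ∀ y ∈ V, closure Z ∩ f ⁻¹' {y} ⊆ closure (Z ∩ f ⁻¹' {y}) := by
  set I := Scheme.IdealSheafData.vanishingIdeal ⟨closure Z, isClosed_closure⟩ with hI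
  have hrange : Set.range I.subschemeι = closure Z := by
    rw [Scheme.IdealSheafData.range_subschemeι, Scheme.IdealSheafData.coe_support_vanishingIdeal]
    rfl
  set ι := I.subschemeι with hι
  haveI : IsLocallyNoetherian I.subscheme := LocallyOfFiniteType.isLocallyNoetherian (ι ≫ f)
  haveI : CompactSpace I.subscheme := QuasiCompact.compactSpace_of_compactSpace (ι ≫ f)
  haveI : IsNoetherian I.subscheme := {}
  set E : Set I.subscheme := ι ⁻¹' Z with hEdef
  have hEc : IsConstructible E := ι.isConstructible_preimage hZ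
  have hEd : Dense E := by
    intro w
    have h1 : ι w ∈ closure Z := hrange ▸ ⟨w, rfl⟩
    rw [ι.isEmbedding.isInducing.closure_eq_preimage_closure_image]
    have h2 : ι '' E = Z := by
      rw [hEdef, Set.image_preimage_eq_inter_range, hrange]
      exact Set.inter_eq_left.mpr subset_closure
    rw [h2]
    exact h1
  obtain ⟨V, hηV, hV⟩ := exists_open_forall_not_isMaxInFibre (ι ≫ f) (closure Eᶜ) isClosed_closure
    (by
      intro w hwF hfw hmax
      refine notMem_closure_compl_of_maximal hEc hEd w ?_ hwF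
      intro t ht
      apply hmax t ht
      have h1 : (ι ≫ f) t ⤳ (ι ≫ f) w := ht.map (ι ≫ f).continuous
      rw [hfw] at h1 ⊢
      exact (h1.antisymm (genericPoint_specializes _)).eq)
  refine ⟨V, hηV, ?_⟩
  rintro y hy x ⟨hxW, hfx⟩
  rw [← hrange] at hxW
  obtain ⟨w, rfl⟩ := hxW
  obtain ⟨ω, hωw, hfω, hωmax, -⟩ := exists_isMaxInFibre_specializes (ι ≫ f) w
  have hfw : (ι ≫ f) w = y := hfx
  have h1 : ω ∉ closure Eᶜ := fun h => hV ω h (by rw [hfω, hfw]; exact hy) hωmax
  have h2 : ι ω ∈ Z := by
    by_contra hcon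
    exact h1 (subset_closure hcon)
  have h3 : ι ω ⤳ ι w := hωw.map ι.continuous
  have h4 : ι ω ∈ Z ∩ f ⁻¹' {y} := ⟨h2, by
    change (ι ≫ f) ω = y
    rw [hfω, hfw]⟩
  exact h3.mem_closed isClosed_closure (subset_closure h4)

end Groth.Agent.Lib.Helper12.H12FibCl
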