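import Mathlib
import Groth.Agent.S2505

set_option autoImplicit false
universe u

namespace Groth.Agent.Lib.Helper12.H12FibCl

open AlgebraicGeometry CategoryTheory Limits TopologicalSpace Topology

/-- The map between topological fibres induced by a base change is continuous, open and
surjective. -/
theorem exists_fibreMap {X X₀ S S₀ : Scheme.{u}} {g' : X ⟶ X₀} {f : X ⟶ S} {f₀ : X₀ ⟶ S₀}
    {g : S ⟶ S₀} (h : IsPullback g' f f₀ g) (s : S) :
    ∃ π : ↥(f ⁻¹' {s}) → ↥(f₀ ⁻¹' {g s}), Continuous π ∧ IsOpenMap π ∧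
      Function.Surjective π ∧ ∀ x, (π x).1 = g' x.1 := by
  have hmem : ∀ x : ↥(f ⁻¹' {s}), g' x.1 ∈ f₀ ⁻¹' {g s} := by
    intro x
    have h1 : f x.1 = s := x.2
    change f₀ (g' x.1) = g s
    rw [← Scheme.Hom.comp_apply, h.w, Scheme.Hom.comp_apply, h1]
  let π : ↥(f ⁻¹' {s}) → ↥(f₀ ⁻¹' {g s}) := fun x => ⟨g' x.1, hmem x⟩
  have hcont : Continuous π :=
    (g'.continuous.comp continuous_subtype_val).subtype_mk _
  have hpb := isPullback_fiberToSpecResidueField_of_isPullback h s
  set φ := pullback.map f (S.fromSpecResidueField s) f₀ (S₀.fromSpecResidueField (g s)) g'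
    (Spec.map (g.residueFieldMap s)) g h.w.symm (by simp) with hφ
  haveI : UniversallyOpen (Spec.map (g.residueFieldMap s)) := Groth.Agent.S2505.result _
  haveI : Surjective (Spec.map (g.residueFieldMap s)) := ⟨fun y => by
    obtain ⟨x⟩ : Nonempty (Spec (S.residueField s)) := inferInstance
    exact ⟨x, Subsingleton.elim _ _⟩⟩
  haveI : UniversallyOpen φ := MorphismProperty.of_isPullback hpb.flip inferInstance
  haveI : Surjective φ := MorphismProperty.of_isPullback hpb.flip inferInstance
  have hcomm : ∀ z : f.fiber s, π (f.fiberHomeo s z) = f₀.fiberHomeo (g s) (φ z) := by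
    intro z
    apply Subtype.ext
    change g' (f.fiberι s z) = f₀.fiberι (g s) (φ z)
    have h1 : f.fiberι s ≫ g' = φ ≫ f₀.fiberι (g s) := by
      simp only [Scheme.Hom.fiberι, hφ]
      exact (pullback.lift_fst _ _ _).symm
    rw [← Scheme.Hom.comp_apply, h1]
    rfl
  have hπ : π = (f₀.fiberHomeo (g s)) ∘ φ ∘ (f.fiberHomeo s).symm := by
    funext x
    obtain ⟨z, rfl⟩ := (f.fiberHomeo s).surjective x
    simp only [Function.comp_apply, Homeomorph.symm_apply_apply]
    exact hcomm z
  refine ⟨π, hcont, ?_, ?_, fun x => rfl⟩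
  · rw [hπ]
    exact (f₀.fiberHomeo (g s)).isOpenMap.comp (φ.isOpenMap.comp (f.fiberHomeo s).symm.isOpenMap)
  · rw [hπ]
    exact (f₀.fiberHomeo (g s)).surjective.comp (φ.surjective.comp (f.fiberHomeo s).symm.surjective)

end Groth.Agent.Lib.Helper12.H12FibCl
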