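import Mathlib
import Groth.Agent.Lib.Helper12.FibCl2
import Groth.Agent.Lib.Helper12.ConstrTop
import Groth.Agent.Lib.Helper16.ReducedSub

set_option autoImplicit false
universe u

namespace Groth.Agent.Lib.Helper12.H12FibCl

open AlgebraicGeometry CategoryTheory Limits TopologicalSpace Topology

/-- A property of a pair of subsets of a topological space. -/
abbrev TopPairProp := ∀ (T : Type u) [TopologicalSpace T], Set T → Set T → Prop

/-- The set of points of the base over which the traces of `Z`, `Z'` on the fibre satisfy `Φ`. -/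
def fibSet (Φ : TopPairProp.{u}) {X S : Scheme.{u}} (f : X ⟶ S) (Z Z' : Set X) : Set S :=
  {s | Φ ↥(f ⁻¹' {s}) (Subtype.val ⁻¹' Z) (Subtype.val ⁻¹' Z')}

/-- Invariance of `Φ` under jointly surjective families of continuous open maps. -/
def IsFamInv (Φ : TopPairProp.{u}) : Prop :=
  ∀ {ι : Type u} {T : Type u} {Tj : ι → Type u} [TopologicalSpace T]
    [∀ j, TopologicalSpace (Tj j)] (π : ∀ j, Tj j → T), (∀ j, Continuous (π j)) →
    (∀ j, IsOpenMap (π j)) → (∀ t, ∃ j x, π j x = t) → ∀ A A' : Set T,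
    (Φ T A A' ↔ ∀ j, Φ (Tj j) (π j ⁻¹' A) (π j ⁻¹' A'))

/-- Generic constancy of `Φ` on fibres over integral Noetherian bases. -/
def IsGenConst (Φ : TopPairProp.{u}) : Prop :=
  ∀ {X S : Scheme.{u}} (f : X ⟶ S) [IsIntegral S] [IsNoetherian S] [LocallyOfFiniteType f]
    [QuasiCompact f] (Z Z' : Set X), IsConstructible Z → IsConstructible Z' →
    ∃ V : S.Opens, genericPoint S ∈ V ∧ ∃ C : Set S, IsConstructible C ∧
      ∀ y ∈ V, (y ∈ fibSet Φ f Z Z' ↔ y ∈ C)

theorem IsFamInv.single {Φ : TopPairProp.{u}} (hΦ : IsFamInv Φ) {T T₀ : Type u}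
    [TopologicalSpace T] [TopologicalSpace T₀] (π : T → T₀) (h1 : Continuous π)
    (h2 : IsOpenMap π) (h3 : Function.Surjective π) (A A' : Set T₀) :
    Φ T₀ A A' ↔ Φ T (π ⁻¹' A) (π ⁻¹' A') := by
  have := hΦ (ι := PUnit.{u+1}) (T := T₀) (Tj := fun _ => T) (fun _ => π) (fun _ => h1)
    (fun _ => h2) (fun t => by obtain ⟨x, hx⟩ := h3 t; exact ⟨PUnit.unit, x, hx⟩) A A'
  rw [this]
  exact ⟨fun h => h PUnit.unit, fun h _ => h⟩

theorem fibSet_baseChange {Φ : TopPairProp.{u}} (hΦ : IsFamInv Φ) {X X₀ S S₀ : Scheme.{u}}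
    {g' : X ⟶ X₀} {f : X ⟶ S} {f₀ : X₀ ⟶ S₀} {g : S ⟶ S₀} (h : IsPullback g' f f₀ g)
    (Z₀ Z₀' : Set X₀) :
    fibSet Φ f (g' ⁻¹' Z₀) (g' ⁻¹' Z₀') = g ⁻¹' fibSet Φ f₀ Z₀ Z₀' := by
  ext s
  obtain ⟨π, h1, h2, h3, h4⟩ := exists_fibreMap h s
  change Φ _ _ _ ↔ Φ _ _ _
  rw [hΦ.single π h1 h2 h3]
  have e1 : ∀ W : Set X₀, (Subtype.val ⁻¹' (g' ⁻¹' W) : Set ↥(f ⁻¹' {s})) =
      π ⁻¹' (Subtype.val ⁻¹' W) := by
    intro W
    ext x
    simp only [Set.mem_preimage]
    rw [h4 x]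
  rw [e1, e1]

/-- **Noetherian case**: over a Noetherian base the set `fibSet` is constructible. -/
theorem isConstructible_fibSet_of_isNoetherian {Φ : TopPairProp.{u}} (hΦ : IsFamInv Φ)
    (hgen : IsGenConst Φ) {X S : Scheme.{u}} (f : X ⟶ S) [IsNoetherian S]
    [LocallyOfFiniteType f] [QuasiCompact f] (Z Z' : Set X) (hZ : IsConstructible Z)
    (hZ' : IsConstructible Z') : IsConstructible (fibSet Φ f Z Z') := by
  have key := (Groth.Agent.Lib.Helper12.constructible_function_of_locally_constant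
    (fun s : S => s ∈ fibSet Φ f Z Z') ?_).1 True
  · convert key using 1
    ext w
    simp
  intro T hT hTirr
  set I := Scheme.IdealSheafData.vanishingIdeal ⟨T, hT⟩ with hI
  have hrange : Set.range I.subschemeι = T := by
    rw [Scheme.IdealSheafData.range_subschemeι, Scheme.IdealSheafData.coe_support_vanishingIdeal]
    rfl
  set ι := I.subschemeι with hι
  haveI : IrreducibleSpace I.subscheme := by
    haveI : IrreducibleSpace (Set.range ι) := by
      rw [hrange]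
      exact Subtype.irreducibleSpace hTirr
    exact (ι.isEmbedding.toHomeomorph.irreducibleSpace_iff).mpr inferInstance
  haveI : IsReduced I.subscheme :=
    Groth.Agent.Lib.Helper16.isReduced_subscheme_vanishingIdeal ⟨T, hT⟩
  haveI : IsIntegral I.subscheme := isIntegral_of_irreducibleSpace_of_isReduced _
  haveI : IsLocallyNoetherian I.subscheme := LocallyOfFiniteType.isLocallyNoetherian ι
  haveI : CompactSpace I.subscheme := QuasiCompact.compactSpace_of_compactSpace ι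
  haveI : IsNoetherian I.subscheme := {}
  let g' := pullback.fst f ι
  let fT := pullback.snd f ι
  have hpb : IsPullback g' fT f ι := IsPullback.of_hasPullback f ι
  have hE : fibSet Φ fT (g' ⁻¹' Z) (g' ⁻¹' Z') = ι ⁻¹' fibSet Φ f Z Z' :=
    fibSet_baseChange hΦ hpb Z Z'
  obtain ⟨V, hηV, C, hC, hVC⟩ := hgen fT (g' ⁻¹' Z) (g' ⁻¹' Z')
    (g'.isConstructible_preimage hZ) (g'.isConstructible_preimage hZ')
  obtain ⟨U, hU, hUne, hUC⟩ := Groth.Agent.Lib.Helper12.constructible_dichotomy hC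
    (Y := (Set.univ : Set I.subscheme)) ⟨Set.univ_nonempty, (PreirreducibleSpace.isPreirreducible_univ)⟩
  rw [Set.inter_univ] at hUne hUC
  have hηU : genericPoint I.subscheme ∈ U := by
    obtain ⟨y, hy⟩ := hUne
    exact (genericPoint_specializes y).mem_open hU hy
  have hconst : ∀ a ∈ (V : Set I.subscheme) ∩ U, ∀ b ∈ (V : Set I.subscheme) ∩ U,
      (a ∈ fibSet Φ fT (g' ⁻¹' Z) (g' ⁻¹' Z') ↔ b ∈ fibSet Φ fT (g' ⁻¹' Z) (g' ⁻¹' Z')) := by
    rintro a ⟨haV, haU⟩ b ⟨hbV, hbU⟩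
    rw [hVC a haV, hVC b hbV]
    rcases hUC with h | h
    · exact ⟨fun _ => h hbU, fun _ => h haU⟩
    · exact ⟨fun h' => absurd h' (h haU), fun h' => absurd h' (h hbU)⟩
  obtain ⟨O, hO, hOV'⟩ := ι.isEmbedding.isInducing.isOpen_iff.mp (V.2.inter hU)
  refine ⟨O, hO, ?_, ?_⟩
  · refine ⟨ι (genericPoint I.subscheme), ?_, ?_⟩
    · have : genericPoint I.subscheme ∈ ι ⁻¹' O := by rw [hOV']; exact ⟨hηV, hηU⟩
      exact this
    · rw [← hrange]; exact ⟨_, rfl⟩
  · rintro a ⟨haU, haZ⟩ b ⟨hbU, hbZ⟩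
    rw [← hrange] at haZ hbZ
    obtain ⟨a', rfl⟩ := haZ
    obtain ⟨b', rfl⟩ := hbZ
    have ha' : a' ∈ (V : Set I.subscheme) ∩ U := by
      have : a' ∈ ι ⁻¹' O := haU
      rw [hOV'] at this; exact this
    have hb' : b' ∈ (V : Set I.subscheme) ∩ U := by
      have : b' ∈ ι ⁻¹' O := hbU
      rw [hOV'] at this; exact this
    have := hconst a' ha' b' hb'
    rw [hE] at this
    exact propext this

end Groth.Agent.Lib.Helper12.H12FibCl
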