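import Mathlib
import Groth.Agent.Lib.Helper14.FPFib1

set_option autoImplicit false
universe u

namespace Groth.Agent.Lib.Helper12.H12FibCl

open AlgebraicGeometry CategoryTheory Limits TopologicalSpace Topology PrimeSpectrum

/-- Ring-level model: a finitely presented algebra together with finitely many of its elements
descends to a finitely generated `ℤ`-subalgebra of the base. -/
theorem exists_model_ring (R B : Type u) [CommRing R] [CommRing B] [Algebra R B]
    [Algebra.FinitePresentation R B] (T : Set B) (hT : T.Finite) :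
    ∃ (Λ : Subalgebra ℤ R) (B₀ : Type u) (_ : CommRing B₀) (_ : Algebra Λ B₀) (β : B₀ →+* B),
      Λ.FG ∧ Algebra.FiniteType Λ B₀ ∧
      IsPushout (CommRingCat.ofHom (algebraMap Λ R)) (CommRingCat.ofHom (algebraMap Λ B₀))
        (CommRingCat.ofHom (algebraMap R B)) (CommRingCat.ofHom β) ∧ T ⊆ Set.range β := by
  classical
  let P := Algebra.Presentation.ofFinitePresentation R B
  have hsurj : Function.Surjective (MvPolynomial.aeval (R := R) P.val) :=
    P.toGenerators.aeval_val_surjective
  choose p hp using hsurj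
  let K : Set R := P.coeffs ∪ ⋃ t ∈ T, ((p t).coeffs : Set R)
  have hK : K.Finite := P.finite_coeffs.union (hT.biUnion fun t _ => Finset.finite_toSet _)
  let Λ : Subalgebra ℤ R := Algebra.adjoin ℤ K
  have hΛ : Λ.FG := Subalgebra.fg_def.2 ⟨K, hK, rfl⟩
  haveI : P.HasCoeffs Λ := ⟨fun x hx => ⟨⟨x, Algebra.subset_adjoin (Or.inl hx)⟩, rfl⟩⟩
  obtain ⟨β, hβ, hpo⟩ := Groth.Agent.Lib.Helper14.AS.isPushout_model P Λ
  refine ⟨Λ, P.ModelOfHasCoeffs Λ, inferInstance, inferInstance, β, hΛ, inferInstance, hpo, ?_⟩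
  intro t ht
  have h1 : p t ∈ Set.range (MvPolynomial.map (algebraMap Λ R) :
      MvPolynomial _ Λ → MvPolynomial _ R) := by
    rw [MvPolynomial.mem_range_map_iff_coeffs_subset]
    intro x hx
    refine ⟨⟨x, Algebra.subset_adjoin (Or.inr ?_)⟩, rfl⟩
    exact Set.mem_biUnion ht hx
  obtain ⟨q, hq⟩ := h1
  refine ⟨Ideal.Quotient.mk _ q, ?_⟩
  rw [hβ, ← hp t, ← hq, MvPolynomial.aeval_map_algebraMap]

variable {B₀ B : Type u} [CommRing B₀] [CommRing B]

/-- Constructible set data all of whose coefficients lift along `β` is pulled back. -/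
theorem exists_constructibleSetData_map (β : B₀ →+* B) (C : ConstructibleSetData B)
    (hC : ∀ c ∈ C, c.f ∈ Set.range β ∧ ∀ i, c.g i ∈ Set.range β) :
    ∃ C₀ : ConstructibleSetData B₀, C₀.map β = C := by
  classical
  have hlift : ∀ c : {c // c ∈ C}, ∃ c₀ : BasicConstructibleSetData B₀, c₀.map β = c.1 := by
    rintro ⟨c, hc⟩
    obtain ⟨⟨f₀, hf₀⟩, hg⟩ := hC c hc
    choose g₀ hg₀ using hg
    refine ⟨⟨f₀, c.n, g₀⟩, ?_⟩
    cases c with
    | mk f n g =>
      simp only [BasicConstructibleSetData.map]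
      congr 1
      · funext i
        exact hg₀ i
  choose l hl using hlift
  refine ⟨Finset.univ.image l, ?_⟩
  simp only [ConstructibleSetData.map, Finset.image_image]
  ext c
  simp only [Finset.mem_image, Finset.mem_univ, true_and, Function.comp_apply]
  constructor
  · rintro ⟨a, rfl⟩
    rw [hl]
    exact a.2
  · intro hc
    exact ⟨⟨c, hc⟩, hl _⟩

/-- The set of coefficients of constructible set data. -/
def coeffSet (C : ConstructibleSetData B) : Set B :=
  ⋃ c ∈ C, ({c.f} ∪ Set.range c.g)

theorem coeffSet_finite (C : ConstructibleSetData B) : (coeffSet C).Finite := by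
  refine Set.Finite.biUnion C.finite_toSet fun c _ => ?_
  exact (Set.finite_singleton _).union (Set.finite_range _)

theorem exists_constructibleSetData_of_coeffSet_subset (β : B₀ →+* B)
    (C : ConstructibleSetData B) (hC : coeffSet C ⊆ Set.range β) :
    ∃ C₀ : ConstructibleSetData B₀, C₀.map β = C := by
  refine exists_constructibleSetData_map β C fun c hc => ⟨?_, fun i => ?_⟩
  · exact hC (Set.mem_biUnion hc (Or.inl rfl))
  · exact hC (Set.mem_biUnion hc (Or.inr ⟨i, rfl⟩))

end Groth.Agent.Lib.Helper12.H12FibCl
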