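import Mathlib
import Groth.Agent.Lib.Helper12.FibCl3
import Groth.Agent.Lib.Helper12.FibCl4

set_option autoImplicit false
universe u

namespace Groth.Agent.Lib.Helper12.H12FibCl

open AlgebraicGeometry CategoryTheory Limits TopologicalSpace Topology PrimeSpectrum

/-- Scheme-level model: a finitely presented morphism of affine schemes together with two
constructible subsets of the source descends to a base of finite type over `ℤ`. -/
theorem exists_model {X S : Scheme.{u}} (f : X ⟶ S) [IsAffine X] [IsAffine S]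
    [LocallyOfFinitePresentation f] (Z Z' : Set X) (hZ : IsConstructible Z)
    (hZ' : IsConstructible Z') :
    ∃ (X₀ S₀ : Scheme.{u}) (f₀ : X₀ ⟶ S₀) (g : S ⟶ S₀) (g' : X ⟶ X₀) (Z₀ Z₀' : Set X₀),
      IsAffine X₀ ∧ IsAffine S₀ ∧ IsPullback g' f f₀ g ∧ Algebra.FiniteType ℤ Γ(S₀, ⊤) ∧
      LocallyOfFiniteType f₀ ∧ IsConstructible Z₀ ∧ IsConstructible Z₀' ∧
      Z = g' ⁻¹' Z₀ ∧ Z' = g' ⁻¹' Z₀' := by
  have hfp : (f.appTop).hom.FinitePresentation :=
    (HasRingHomProperty.iff_of_isAffine (P := @LocallyOfFinitePresentation)).1 inferInstance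
  algebraize [(f.appTop).hom]
  obtain ⟨C, hC⟩ := exists_constructibleSetData_iff.mpr
    (X.isoSpec.inv.isConstructible_preimage hZ)
  obtain ⟨C', hC'⟩ := exists_constructibleSetData_iff.mpr
    (X.isoSpec.inv.isConstructible_preimage hZ')
  obtain ⟨A₀, B₀, _, _, β₀, hA₀, hB₀, hpo, hT⟩ := exists_model_ring Γ(S, ⊤) Γ(X, ⊤)
    (coeffSet C ∪ coeffSet C') ((coeffSet_finite C).union (coeffSet_finite C'))
  obtain ⟨C₀, hC₀⟩ := exists_constructibleSetData_of_coeffSet_subset β₀ C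
    (Set.subset_union_left.trans hT)
  obtain ⟨C₀', hC₀'⟩ := exists_constructibleSetData_of_coeffSet_subset β₀ C'
    (Set.subset_union_right.trans hT)
  let α : CommRingCat.of A₀ ⟶ Γ(S, ⊤) := CommRingCat.ofHom (algebraMap A₀ Γ(S, ⊤))
  let φ₀ : CommRingCat.of A₀ ⟶ CommRingCat.of B₀ := CommRingCat.ofHom (algebraMap A₀ B₀)
  let β : CommRingCat.of B₀ ⟶ Γ(X, ⊤) := CommRingCat.ofHom β₀
  have hpo' : IsPushout α φ₀ f.appTop β := hpo
  have hpb := (isPullback_SpecMap_of_isPushout _ _ _ _ hpo').flip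
  have hpre : ∀ (W : Set X) (D : ConstructibleSetData Γ(X, ⊤)) (D₀ : ConstructibleSetData B₀),
      D.toSet = X.isoSpec.inv ⁻¹' W → D₀.map β₀ = D →
      W = (X.isoSpec.hom ≫ Spec.map β) ⁻¹' D₀.toSet := by
    intro W D D₀ hD hD₀
    ext x
    have h1 : (X.isoSpec.hom ≫ Spec.map β) x ∈ D₀.toSet ↔ X.isoSpec.hom x ∈ (D₀.map β₀).toSet := by
      rw [ConstructibleSetData.toSet_map]
      rfl
    refine Iff.trans ?_ h1.symm
    rw [hD₀, hD]
    change x ∈ W ↔ X.isoSpec.inv (X.isoSpec.hom x) ∈ W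
    rw [← Scheme.Hom.comp_apply, Iso.hom_inv_id]
    rfl
  refine ⟨Spec (CommRingCat.of B₀), Spec (CommRingCat.of A₀), Spec.map φ₀,
    S.isoSpec.hom ≫ Spec.map α, X.isoSpec.hom ≫ Spec.map β, C₀.toSet, C₀'.toSet,
    inferInstance, inferInstance, ?_, ?_, ?_, C₀.isConstructible_toSet,
    C₀'.isConstructible_toSet, hpre Z C C₀ hC hC₀, hpre Z' C' C₀' hC' hC₀'⟩
  · refine hpb.of_iso X.isoSpec.symm (Iso.refl _) S.isoSpec.symm (Iso.refl _) ?_ ?_ ?_ ?_
    · simp
    · simp only [Iso.symm_hom]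
      rw [Iso.eq_inv_comp, ← Category.assoc, Iso.comp_inv_eq]
      exact Scheme.isoSpec_hom_naturality f
    · simp
    · simp
  · have h1 : Algebra.FiniteType ℤ A₀ := (Subalgebra.fg_iff_finiteType A₀).mp hA₀
    exact Algebra.FiniteType.equiv h1
      (Scheme.ΓSpecIso (CommRingCat.of A₀)).symm.commRingCatIsoToRingEquiv.toIntAlgEquiv
  · rw [HasRingHomProperty.Spec_iff (P := @LocallyOfFiniteType)]
    exact (RingHom.finiteType_algebraMap (A := A₀) (B := B₀)).2 hB₀

/-- **Affine case**: for a finitely presented morphism of affine schemes, `fibSet` of two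
constructible sets is constructible. -/
theorem isConstructible_fibSet_of_isAffine {Φ : TopPairProp.{u}} (hΦ : IsFamInv Φ)
    (hgen : IsGenConst Φ) {X S : Scheme.{u}} (f : X ⟶ S) [IsAffine X] [IsAffine S]
    [LocallyOfFinitePresentation f] (Z Z' : Set X) (hZ : IsConstructible Z)
    (hZ' : IsConstructible Z') : IsConstructible (fibSet Φ f Z Z') := by
  obtain ⟨X₀, S₀, f₀, g, g', Z₀, Z₀', hX₀, hS₀, hpb, hft, hlft, hZ₀, hZ₀', rfl, rfl⟩ :=
    exists_model f Z Z' hZ hZ'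
  rw [fibSet_baseChange hΦ hpb]
  haveI : IsNoetherianRing Γ(S₀, ⊤) := Algebra.FiniteType.isNoetherianRing ℤ _
  haveI : IsLocallyNoetherian S₀ := isLocallyNoetherian_of_isOpenImmersion S₀.isoSpec.hom
  haveI : IsNoetherian S₀ := {}
  haveI : QuasiCompact f₀ := inferInstance
  exact g.isConstructible_preimage
    (isConstructible_fibSet_of_isNoetherian hΦ hgen f₀ Z₀ Z₀' hZ₀ hZ₀')

end Groth.Agent.Lib.Helper12.H12FibCl
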