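import Mathlib
import Groth.Agent.Lib.Helper12.FibCl5

set_option autoImplicit false
universe u

namespace Groth.Agent.Lib.Helper12.H12FibCl

open AlgebraicGeometry CategoryTheory Limits TopologicalSpace Topology PrimeSpectrum

/-- **Affine base**: `fibSet` of two locally constructible sets is constructible. -/
theorem isConstructible_fibSet_of_isAffine_base {Φ : TopPairProp.{u}} (hΦ : IsFamInv Φ)
    (hgen : IsGenConst Φ) {X S : Scheme.{u}} (f : X ⟶ S) [IsAffine S]
    [LocallyOfFinitePresentation f] [QuasiCompact f] (Z Z' : Set X)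
    (hZ : IsLocallyConstructible Z) (hZ' : IsLocallyConstructible Z') :
    IsConstructible (fibSet Φ f Z Z') := by
  haveI : CompactSpace X := HasAffineProperty.iff_of_isAffine.mp ‹QuasiCompact f›
  let 𝒰 := X.affineCover.finiteSubcover
  have hfin : Finite 𝒰.I₀ := inferInstance
  have key : fibSet Φ f Z Z' =
      ⋂ i, fibSet Φ (𝒰.f i ≫ f) ((𝒰.f i) ⁻¹' Z) ((𝒰.f i) ⁻¹' Z') := by
    ext s
    rw [Set.mem_iInter]
    have hmem : ∀ i (x : ↥((𝒰.f i ≫ f) ⁻¹' {s})), (𝒰.f i) x.1 ∈ f ⁻¹' {s} := by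
      intro i x
      have h1 : (𝒰.f i ≫ f) x.1 = s := x.2
      rw [Scheme.Hom.comp_apply] at h1
      exact h1
    refine hΦ (ι := 𝒰.I₀) (T := ↥(f ⁻¹' {s})) (Tj := fun i => ↥((𝒰.f i ≫ f) ⁻¹' {s}))
      (fun i x => ⟨(𝒰.f i) x.1, hmem i x⟩) ?_ ?_ ?_ _ _
    · intro i
      exact ((𝒰.f i).continuous.comp continuous_subtype_val).subtype_mk _
    · intro i W hW
      obtain ⟨W', hW', rfl⟩ := isOpen_induced_iff.mp hW
      have : (fun x : ↥((𝒰.f i ≫ f) ⁻¹' {s}) => (⟨(𝒰.f i) x.1, hmem i x⟩ : ↥(f ⁻¹' {s}))) ''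
          (Subtype.val ⁻¹' W') = Subtype.val ⁻¹' ((𝒰.f i) '' W') := by
        ext y
        constructor
        · rintro ⟨x, hx, rfl⟩
          exact ⟨x.1, hx, rfl⟩
        · rintro ⟨x, hx, hxy⟩
          have hxs : x ∈ (𝒰.f i ≫ f) ⁻¹' {s} := by
            change (𝒰.f i ≫ f) x = s
            rw [Scheme.Hom.comp_apply, hxy]
            exact y.2
          exact ⟨⟨x, hxs⟩, hx, Subtype.ext hxy⟩
      rw [this]
      exact ((𝒰.f i).isOpenEmbedding.isOpenMap _ hW').preimage continuous_subtype_val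
    · intro t
      obtain ⟨i, x, hx⟩ := 𝒰.exists_eq t.1
      have hxs : x ∈ (𝒰.f i ≫ f) ⁻¹' {s} := by
        change (𝒰.f i ≫ f) x = s
        rw [Scheme.Hom.comp_apply, hx]
        exact t.2
      exact ⟨i, ⟨x, hxs⟩, Subtype.ext hx⟩
  rw [key]
  refine IsConstructible.iInter fun i => ?_
  haveI : IsAffine (𝒰.X i) := inferInstance
  exact isConstructible_fibSet_of_isAffine hΦ hgen (𝒰.f i ≫ f) _ _
    (hZ.preimage_of_isOpenEmbedding (𝒰.f i).isOpenEmbedding).isConstructible
    (hZ'.preimage_of_isOpenEmbedding (𝒰.f i).isOpenEmbedding).isConstructible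

/-- **Framework theorem**: for a quasi-compact morphism locally of finite presentation, `fibSet`
of two locally constructible sets is locally constructible. -/
theorem isLocallyConstructible_fibSet {Φ : TopPairProp.{u}} (hΦ : IsFamInv Φ)
    (hgen : IsGenConst Φ) {X S : Scheme.{u}} (f : X ⟶ S)
    [LocallyOfFinitePresentation f] [QuasiCompact f] (Z Z' : Set X)
    (hZ : IsLocallyConstructible Z) (hZ' : IsLocallyConstructible Z') :
    IsLocallyConstructible (fibSet Φ f Z Z') := by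
  intro s
  obtain ⟨_, ⟨U, hU, rfl⟩, hsU, -⟩ :=
    S.isBasis_affineOpens.exists_subset_of_mem_open (Set.mem_univ s) isOpen_univ
  refine ⟨U, U.2.mem_nhds hsU, U.2, ?_⟩
  have hpb := (isPullback_morphismRestrict f U).flip
  have h1 := fibSet_baseChange hΦ hpb Z Z'
  haveI : IsAffine U := hU
  haveI : LocallyOfFinitePresentation (f ∣_ U) :=
    MorphismProperty.of_isPullback hpb inferInstance
  haveI : QuasiCompact (f ∣_ U) := MorphismProperty.of_isPullback hpb inferInstance
  have h2 := isConstructible_fibSet_of_isAffine_base hΦ hgen (f ∣_ U) _ _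
    (hZ.preimage_of_isOpenEmbedding (f ⁻¹ᵁ U).ι.isOpenEmbedding)
    (hZ'.preimage_of_isOpenEmbedding (f ⁻¹ᵁ U).ι.isOpenEmbedding)
  rw [h1] at h2
  exact h2

end Groth.Agent.Lib.Helper12.H12FibCl
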