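import Mathlib
import Groth.Agent.Lib.Helper12.FibCl1
import Groth.Agent.Lib.Helper12.FibCl6

set_option autoImplicit false
universe u

namespace Groth.Agent.Lib.Helper12.H12FibCl

open AlgebraicGeometry CategoryTheory Limits TopologicalSpace Topology

section Top

variable {ι : Type*} {T : Type*} {Tj : ι → Type*} [TopologicalSpace T]
  [∀ j, TopologicalSpace (Tj j)] (π : ∀ j, Tj j → T)

theorem isOpen_iff_forall_preimage (h1 : ∀ j, Continuous (π j)) (h2 : ∀ j, IsOpenMap (π j))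
    (h3 : ∀ t, ∃ j x, π j x = t) (B : Set T) : IsOpen B ↔ ∀ j, IsOpen (π j ⁻¹' B) := by
  refine ⟨fun h j => h.preimage (h1 j), fun h => ?_⟩
  have : B = ⋃ j, π j '' (π j ⁻¹' B) := by
    ext t
    simp only [Set.mem_iUnion, Set.mem_image, Set.mem_preimage]
    constructor
    · intro ht
      obtain ⟨j, x, rfl⟩ := h3 t
      exact ⟨j, x, ht, rfl⟩
    · rintro ⟨j, x, hx, rfl⟩
      exact hx
  rw [this]
  exact isOpen_iUnion fun j => h2 j _ (h j)

theorem isClosed_iff_forall_preimage (h1 : ∀ j, Continuous (π j)) (h2 : ∀ j, IsOpenMap (π j))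
    (h3 : ∀ t, ∃ j x, π j x = t) (B : Set T) : IsClosed B ↔ ∀ j, IsClosed (π j ⁻¹' B) := by
  simp only [← isOpen_compl_iff]
  rw [isOpen_iff_forall_preimage π h1 h2 h3]
  rfl

end Top

/-- density of `A` in `A'`. -/
def Φd : TopPairProp.{u} := fun _ _ A A' => A' ⊆ closure A
/-- closedness of `A`. -/
def Φc : TopPairProp.{u} := fun _ _ A _ => IsClosed A
/-- local closedness of `A`. -/
def Φl : TopPairProp.{u} := fun _ _ A _ => IsLocallyClosed A

theorem isFamInv_Φd : IsFamInv Φd.{u} := by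
  intro ι T Tj _ _ π h1 h2 h3 A A'
  change A' ⊆ closure A ↔ ∀ j, π j ⁻¹' A' ⊆ closure (π j ⁻¹' A)
  constructor
  · intro h j
    rw [← (h2 j).preimage_closure_eq_closure_preimage (h1 j)]
    exact Set.preimage_mono h
  · intro h t ht
    obtain ⟨j, x, rfl⟩ := h3 t
    have := h j ht
    rw [← (h2 j).preimage_closure_eq_closure_preimage (h1 j)] at this
    exact this

theorem isFamInv_Φc : IsFamInv Φc.{u} := by
  intro ι T Tj _ _ π h1 h2 h3 A A'
  exact isClosed_iff_forall_preimage π h1 h2 h3 A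

theorem isFamInv_Φl : IsFamInv Φl.{u} := by
  intro ι T Tj _ _ π h1 h2 h3 A A'
  change IsLocallyClosed A ↔ ∀ j, IsLocallyClosed (π j ⁻¹' A)
  simp only [isLocallyClosed_iff_isOpen_coborder]
  rw [isOpen_iff_forall_preimage π h1 h2 h3]
  refine forall_congr' fun j => ?_
  rw [coborder_preimage (h2 j) (h1 j)]

variable {X S : Scheme.{u}} (f : X ⟶ S)

theorem mem_fibSet_Φd_iff (Z Z' : Set X) (s : S) :
    s ∈ fibSet Φd f Z Z' ↔ Z' ∩ f ⁻¹' {s} ⊆ closure (Z ∩ f ⁻¹' {s}) := by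
  change (Subtype.val ⁻¹' Z' : Set ↥(f ⁻¹' {s})) ⊆ closure (Subtype.val ⁻¹' Z) ↔ _
  constructor
  · rintro h x ⟨hxZ', hxs⟩
    have := h (a := ⟨x, hxs⟩) hxZ'
    rw [closure_subtype, Subtype.image_preimage_coe, Set.inter_comm] at this
    exact this
  · rintro h ⟨x, hxs⟩ hxZ'
    rw [closure_subtype, Subtype.image_preimage_coe, Set.inter_comm]
    exact h ⟨hxZ', hxs⟩

theorem mem_fibSet_Φc_iff (Z Z' : Set X) (s : S) :
    s ∈ fibSet Φc f Z Z' ↔ closure (Z ∩ f ⁻¹' {s}) ∩ f ⁻¹' {s} ⊆ Z := by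
  change IsClosed (Subtype.val ⁻¹' Z : Set ↥(f ⁻¹' {s})) ↔ _
  rw [isClosed_preimage_val, Set.inter_comm, Set.inter_comm Z]

section Gen

variable [IsIntegral S] [IsNoetherian S] [LocallyOfFiniteType f] [QuasiCompact f]

theorem isGenConst_Φd_aux (Z Z' : Set X) (hZ : IsConstructible Z) (hZ' : IsConstructible Z') :
    ∃ V : S.Opens, genericPoint S ∈ V ∧ ∃ C : Set S, IsConstructible C ∧
      ∀ y ∈ V, (y ∈ fibSet Φd f Z Z' ↔ y ∈ C) := by
  haveI : IsLocallyNoetherian X := LocallyOfFiniteType.isLocallyNoetherian f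
  haveI : CompactSpace X := QuasiCompact.compactSpace_of_compactSpace f
  haveI : IsNoetherian X := {}
  haveI : LocallyOfFinitePresentation f := inferInstance
  obtain ⟨V, hηV, hV⟩ := exists_open_closure_inter_fibre f Z hZ
  refine ⟨V, hηV, (f '' (Z' \ closure Z))ᶜ, ?_, ?_⟩
  · exact (f.isConstructible_image
      (hZ'.sdiff (Groth.Agent.Lib.Helper12.isConstructible_of_isClosed isClosed_closure))).compl
  · intro y hy
    rw [mem_fibSet_Φd_iff]
    constructor
    · rintro h ⟨x, ⟨hxZ', hxZ⟩, rfl⟩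
      exact hxZ (closure_mono Set.inter_subset_left (h ⟨hxZ', rfl⟩))
    · rintro h x ⟨hxZ', hxy⟩
      apply hV y hy
      refine ⟨?_, hxy⟩
      by_contra hcon
      exact h ⟨x, ⟨hxZ', hcon⟩, hxy⟩

theorem isGenConst_Φc_aux (Z Z' : Set X) (hZ : IsConstructible Z) :
    ∃ V : S.Opens, genericPoint S ∈ V ∧ ∃ C : Set S, IsConstructible C ∧
      ∀ y ∈ V, (y ∈ fibSet Φc f Z Z' ↔ y ∈ C) := by
  haveI : IsLocallyNoetherian X := LocallyOfFiniteType.isLocallyNoetherian f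
  haveI : CompactSpace X := QuasiCompact.compactSpace_of_compactSpace f
  haveI : IsNoetherian X := {}
  haveI : LocallyOfFinitePresentation f := inferInstance
  obtain ⟨V, hηV, hV⟩ := exists_open_closure_inter_fibre f Z hZ
  refine ⟨V, hηV, (f '' (closure Z \ Z))ᶜ, ?_, ?_⟩
  · exact (f.isConstructible_image
      ((Groth.Agent.Lib.Helper12.isConstructible_of_isClosed isClosed_closure).sdiff hZ)).compl
  · intro y hy
    rw [mem_fibSet_Φc_iff]
    constructor
    · rintro h ⟨x, ⟨hxcl, hxZ⟩, rfl⟩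
      exact hxZ (h ⟨hV _ hy ⟨hxcl, rfl⟩, rfl⟩)
    · rintro h x ⟨hxcl, hxy⟩
      by_contra hcon
      exact h ⟨x, ⟨closure_mono Set.inter_subset_left hxcl, hcon⟩, hxy⟩

theorem isGenConst_Φl_aux (Z Z' : Set X) (hZ : IsConstructible Z) :
    ∃ V : S.Opens, genericPoint S ∈ V ∧ ∃ C : Set S, IsConstructible C ∧
      ∀ y ∈ V, (y ∈ fibSet Φl f Z Z' ↔ y ∈ C) := by
  haveI : IsLocallyNoetherian X := LocallyOfFiniteType.isLocallyNoetherian f
  haveI : CompactSpace X := QuasiCompact.compactSpace_of_compactSpace f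
  haveI : IsNoetherian X := {}
  obtain ⟨V, hηV, hV⟩ := exists_open_closure_inter_fibre f Z hZ
  obtain ⟨V₂, hηV₂, C, hC, hV₂⟩ := isGenConst_Φc_aux f (closure Z \ Z) Z'
    ((Groth.Agent.Lib.Helper12.isConstructible_of_isClosed isClosed_closure).sdiff hZ)
  refine ⟨V ⊓ V₂, ⟨hηV, hηV₂⟩, C, hC, ?_⟩
  rintro y ⟨hy, hy₂⟩
  rw [← hV₂ y hy₂]
  change IsLocallyClosed (Subtype.val ⁻¹' Z : Set ↥(f ⁻¹' {y})) ↔
    IsClosed (Subtype.val ⁻¹' (closure Z \ Z) : Set ↥(f ⁻¹' {y}))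
  rw [isLocallyClosed_iff_isOpen_coborder, coborder, isOpen_compl_iff]
  have e : closure (Subtype.val ⁻¹' Z : Set ↥(f ⁻¹' {y})) = Subtype.val ⁻¹' (closure Z) := by
    ext x
    rw [closure_subtype, Subtype.image_preimage_coe, Set.mem_preimage]
    constructor
    · intro h
      exact closure_mono Set.inter_subset_right h
    · intro h
      rw [Set.inter_comm]
      exact hV y hy ⟨h, x.2⟩
  rw [e, Set.preimage_sdiff]

end Gen

theorem isGenConst_Φd : IsGenConst Φd.{u} := by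
  intro X S f _ _ _ _ Z Z' hZ hZ'
  exact isGenConst_Φd_aux f Z Z' hZ hZ'

theorem isGenConst_Φc : IsGenConst Φc.{u} := by
  intro X S f _ _ _ _ Z Z' hZ hZ'
  exact isGenConst_Φc_aux f Z Z' hZ

theorem isGenConst_Φl : IsGenConst Φl.{u} := by
  intro X S f _ _ _ _ Z Z' hZ hZ'
  exact isGenConst_Φl_aux f Z Z' hZ

end Groth.Agent.Lib.Helper12.H12FibCl
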