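import Mathlib
import Groth.Agent.S3427
import Groth.Agent.Lib.Helper14.LfpOfComp

set_option autoImplicit false
universe u

namespace Groth.Agent.Lib.Helper12.H12FibCl

open AlgebraicGeometry CategoryTheory Limits TopologicalSpace Topology

theorem denseRange_iff_of_fac {X Y S Xs Ys : Scheme.{u}} (f : X ⟶ Y) (g : Y ⟶ S) (s : S)
    (fs : Xs ⟶ Ys) (ιX : Xs ⟶ X) (ιY : Ys ⟶ Y) (hιY : IsEmbedding ιY)
    (hfac : fs ≫ ιY = ιX ≫ f) (hX : Set.range ιX = (f ≫ g) ⁻¹' {s})
    (hY : Set.range ιY = g ⁻¹' {s}) :
    DenseRange fs ↔ Set.univ ∩ g ⁻¹' {s} ⊆ closure (Set.range f ∩ g ⁻¹' {s}) := by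
  have himg : ιY '' Set.range fs = Set.range f ∩ g ⁻¹' {s} := by
    rw [← Set.range_comp]
    have h1 : ιY ∘ fs = f ∘ ιX := by
      funext x
      change ιY (fs x) = f (ιX x)
      rw [← Scheme.Hom.comp_apply, hfac, Scheme.Hom.comp_apply]
    rw [h1, Set.range_comp, hX]
    ext y
    constructor
    · rintro ⟨x, hx, rfl⟩
      refine ⟨⟨x, rfl⟩, ?_⟩
      have : (f ≫ g) x = s := hx
      rwa [Scheme.Hom.comp_apply] at this
    · rintro ⟨⟨x, rfl⟩, hx⟩
      refine ⟨x, ?_, rfl⟩
      change (f ≫ g) x = s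
      rw [Scheme.Hom.comp_apply]
      exact hx
  rw [DenseRange, Dense]
  constructor
  · rintro h y ⟨-, hy⟩
    have hy' : y ∈ Set.range ιY := by rw [hY]; exact hy
    obtain ⟨z, rfl⟩ := hy'
    have := h z
    rw [hιY.isInducing.closure_eq_preimage_closure_image, himg] at this
    exact this
  · intro h z
    rw [hιY.isInducing.closure_eq_preimage_closure_image, himg]
    refine h ⟨trivial, ?_⟩
    have : ιY z ∈ Set.range ιY := ⟨z, rfl⟩
    rw [hY] at this
    exact this

theorem isDominant_fibreMap_iff {X Y S : Scheme.{u}} (f : X ⟶ Y) (g : Y ⟶ S) (s : S) :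
    IsDominant (pullback.lift (pullback.fst (f ≫ g) (S.fromSpecResidueField s) ≫ f)
        (pullback.snd (f ≫ g) (S.fromSpecResidueField s))
        ((Category.assoc _ _ _).trans pullback.condition) :
      pullback (f ≫ g) (S.fromSpecResidueField s) ⟶ pullback g (S.fromSpecResidueField s)) ↔
    Set.univ ∩ g.base ⁻¹' {s} ⊆ closure (Set.range f.base ∩ g.base ⁻¹' {s}) := by
  rw [isDominant_iff]
  exact denseRange_iff_of_fac f g s _ (pullback.fst (f ≫ g) (S.fromSpecResidueField s))
    (pullback.fst g (S.fromSpecResidueField s)) (g.fiberι s).isEmbedding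
    (pullback.lift_fst _ _ _) ((f ≫ g).range_fiberι s) (g.range_fiberι s)

theorem isLocallyConstructible_dominant {X Y S : Scheme.{u}} (f : X ⟶ Y) (g : Y ⟶ S)
    [LocallyOfFinitePresentation g] [QuasiCompact g] [QuasiSeparated g]
    [LocallyOfFinitePresentation (f ≫ g)] [QuasiCompact (f ≫ g)] [QuasiSeparated (f ≫ g)] :
    IsLocallyConstructible {s : S |
      IsDominant (pullback.lift (pullback.fst (f ≫ g) (S.fromSpecResidueField s) ≫ f)
        (pullback.snd (f ≫ g) (S.fromSpecResidueField s))
          ((Category.assoc _ _ _).trans pullback.condition) :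
        pullback (f ≫ g) (S.fromSpecResidueField s) ⟶ pullback g (S.fromSpecResidueField s))} := by
  haveI : LocallyOfFinitePresentation f :=
    Groth.Agent.Lib.Helper14.AS.locallyOfFinitePresentation_of_comp f g inferInstance inferInstance
  haveI : QuasiCompact f := QuasiCompact.of_comp f g
  have hZ : IsLocallyConstructible (Set.range f.base) := by
    rw [← Set.image_univ]
    exact f.isLocallyConstructible_image IsLocallyConstructible.univ
  have h := Groth.Agent.S3427.result g (Set.range f.base) Set.univ hZ IsLocallyConstructible.univ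
    (Set.subset_univ _)
  convert h using 1
  ext s
  exact isDominant_fibreMap_iff f g s

end Groth.Agent.Lib.Helper12.H12FibCl
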