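import Mathlib
import Groth.Prelude.Def_Flat
import Groth.Agent.Lib.Helper21.EquiSub1
import Groth.Agent.Lib.Helper12.FibDimConstr
import Groth.Agent.Lib.Helper5.ConstructibleTop

set_option autoImplicit false
universe u

namespace Groth.Agent.Lib.Helper12.H12FibDimAlg

open AlgebraicGeometry CategoryTheory Limits TopologicalSpace Topology TensorProduct

variable (R S : Type u) [CommRing R] [CommRing S] [Algebra R S]

/-- the morphism of spectra. -/
noncomputable abbrev specMap : Spec (.of S) ⟶ Spec (.of R) :=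
  Spec.map (CommRingCat.ofHom (algebraMap R S))

/-- the algebraic local fibre dimension condition agrees with the scheme-theoretic one. -/
theorem localDim_fiber_le_iff (n : WithBot ℕ∞) (q : PrimeSpectrum S) :
    (∀ Q : PrimeSpectrum ((q.asIdeal.under R).Fiber S),
        Q.asIdeal.comap (Algebra.TensorProduct.includeRight.toRingHom) = q.asIdeal →
          FlatMor.localDim (PrimeSpectrum ((q.asIdeal.under R).Fiber S)) Q ≤ n) ↔
      FlatMor.fibreDimAt (specMap R S) q ≤ n := by
  let f := specMap R S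
  let p : PrimeSpectrum R := PrimeSpectrum.comap (algebraMap R S) q
  have hfq : f q = p := rfl
  let h₁ : f.fiber (f q) ≃ₜ f ⁻¹' {f q} := f.fiberHomeo (f q)
  let h₂ : PrimeSpectrum.comap (algebraMap R S) ⁻¹' {p} ≃ₜ PrimeSpectrum (p.asIdeal.Fiber S) :=
    PrimeSpectrum.preimageHomeomorphFiber R S p
  let h : f.fiber (f q) ≃ₜ PrimeSpectrum (p.asIdeal.Fiber S) := h₁.trans h₂
  let Q₀ : PrimeSpectrum (p.asIdeal.Fiber S) := h₂ ⟨q, rfl⟩
  have hQ₀ : h (f.asFiber q) = Q₀ := by
    show h₂ (h₁ (h₁.symm ⟨q, rfl⟩)) = Q₀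
    rw [Homeomorph.apply_symm_apply]
    rfl
  have hdim : FlatMor.fibreDimAt f q = FlatMor.localDim (PrimeSpectrum (p.asIdeal.Fiber S)) Q₀ := by
    unfold FlatMor.fibreDimAt
    rw [Groth.Agent.Lib.Helper21.EquiSub.localDim_homeomorph h (f.asFiber q), hQ₀]
  have huniq : ∀ Q : PrimeSpectrum (p.asIdeal.Fiber S),
      Q.asIdeal.comap (Algebra.TensorProduct.includeRight.toRingHom) = q.asIdeal → Q = Q₀ := by
    intro Q hQ
    have h3 : h₂.symm Q = ⟨q, rfl⟩ := by
      apply Subtype.ext
      apply PrimeSpectrum.ext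
      exact hQ
    rw [← h₂.apply_symm_apply Q, h3]
  have hQ₀' : Q₀.asIdeal.comap (Algebra.TensorProduct.includeRight.toRingHom) = q.asIdeal := by
    have h3 : h₂.symm Q₀ = ⟨q, rfl⟩ := h₂.symm_apply_apply _
    have h4 := congrArg (fun z => z.1.asIdeal) h3
    exact h4
  constructor
  · intro H
    rw [hdim]
    exact H Q₀ hQ₀'
  · intro H Q hQ
    have := huniq Q hQ
    rw [this]
    show FlatMor.localDim (PrimeSpectrum (p.asIdeal.Fiber S)) Q₀ ≤ n
    rw [← hdim]
    exact H

theorem fibreDimAt_not_le_iff {X Y : Scheme.{u}} (f : X ⟶ Y) [LocallyOfFiniteType f] (x : X) (n : ℕ) :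
    ¬ FlatMor.fibreDimAt f x ≤ n ↔ ((n + 1 : ℕ) : WithBot ℕ∞) ≤ FlatMor.fibreDimAt f x := by
  obtain ⟨k, hk, -, -⟩ := Groth.Agent.Lib.Helper21.FibDim.exists_fibreDimAt_eq_trdeg f x
  rw [hk]
  constructor
  · intro h
    have h1 : ¬ k ≤ n := fun hkn => h (by exact_mod_cast hkn)
    have h2 : n + 1 ≤ k := by omega
    exact_mod_cast h2
  · intro h hle
    have h1 : n + 1 ≤ k := by exact_mod_cast h
    have h2 : k ≤ n := by exact_mod_cast hle
    omega

/-- **S9176**. -/
theorem main [Algebra.FinitePresentation R S] (n : ℕ) :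
    IsOpen {q : PrimeSpectrum S | ∀ Q : PrimeSpectrum ((q.asIdeal.under R).Fiber S),
        Q.asIdeal.comap (Algebra.TensorProduct.includeRight.toRingHom) = q.asIdeal →
          FlatMor.localDim (PrimeSpectrum ((q.asIdeal.under R).Fiber S)) Q ≤ (n : WithBot ℕ∞)} ∧
      IsCompact {q : PrimeSpectrum S | ∀ Q : PrimeSpectrum ((q.asIdeal.under R).Fiber S),
        Q.asIdeal.comap (Algebra.TensorProduct.includeRight.toRingHom) = q.asIdeal →
          FlatMor.localDim (PrimeSpectrum ((q.asIdeal.under R).Fiber S)) Q ≤ (n : WithBot ℕ∞)} := by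
  haveI : LocallyOfFinitePresentation (specMap R S) := by
    rw [HasRingHomProperty.Spec_iff (P := @LocallyOfFinitePresentation)]
    exact (RingHom.finitePresentation_algebraMap).mpr inferInstance
  have hset : {q : PrimeSpectrum S | ∀ Q : PrimeSpectrum ((q.asIdeal.under R).Fiber S),
        Q.asIdeal.comap (Algebra.TensorProduct.includeRight.toRingHom) = q.asIdeal →
          FlatMor.localDim (PrimeSpectrum ((q.asIdeal.under R).Fiber S)) Q ≤ (n : WithBot ℕ∞)} =
      {q : Spec (.of S) | FlatMor.fibreDimAt (specMap R S) q ≤ (n : WithBot ℕ∞)} := by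
    ext q
    exact localDim_fiber_le_iff R S n q
  rw [hset]
  have hopen : IsOpen {q : Spec (.of S) | FlatMor.fibreDimAt (specMap R S) q ≤ (n : WithBot ℕ∞)} :=
    Groth.Agent.Lib.Helper21.FibDim.isOpen_setOf_fibreDimAt_le (specMap R S) n
  refine ⟨hopen, ?_⟩
  have hlc := Groth.Agent.Lib.Helper12.H12FibDimConstr.isLocallyConstructible_setOf_le_fibreDimAt
    (specMap R S) (n + 1)
  have hc : IsConstructible {q : Spec (.of S) |
      ((n + 1 : ℕ) : WithBot ℕ∞) ≤ FlatMor.fibreDimAt (specMap R S) q} :=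
    hlc.isConstructible
  have hc' : IsConstructible
      {q : Spec (.of S) | FlatMor.fibreDimAt (specMap R S) q ≤ (n : WithBot ℕ∞)} := by
    have := hc.compl
    convert this using 1
    ext q
    simp only [Set.mem_ofPred_eq, Set.mem_compl_iff]
    rw [← fibreDimAt_not_le_iff, not_not]
  exact Groth.Agent.Lib.Helper5.IsConstructible_isCompact hc'

end Groth.Agent.Lib.Helper12.H12FibDimAlg
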