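import Mathlib

set_option autoImplicit false
universe u
open TensorProduct

namespace H12FibLen

variable (A B : Type u) [CommRing A] [IsLocalRing A] [CommRing B] [Algebra A B]

/-- `length_A(B/mB) = rank_A B` for `B` finite free. -/
theorem length_quot [Module.Free A B] [Module.Finite A B] :
    Module.length A (B ⧸ Ideal.map (algebraMap A B) (IsLocalRing.maximalIdeal A)) =
      (Module.finrank A B : ℕ∞) := by
  obtain ⟨m, hm⟩ : ∃ m, m = IsLocalRing.maximalIdeal A := ⟨_, rfl⟩
  rw [← hm]
  haveI : m.IsMaximal := hm ▸ inferInstance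
  let e1 : (B ⧸ (m.map (algebraMap A B)).restrictScalars A) ≃ₗ[A] B ⧸ m.map (algebraMap A B) :=
    Submodule.Quotient.restrictScalarsEquiv A _
  let e2 : (B ⧸ (m • ⊤ : Submodule A B)) ≃ₗ[A]
      (B ⧸ (m.map (algebraMap A B)).restrictScalars A) :=
    Submodule.quotEquivOfEq _ _ (Ideal.smul_top_eq_map m)
  let e3 : ((A ⧸ m) ⊗[A] B) ≃ₗ[A] B ⧸ (m • ⊤ : Submodule A B) :=
    TensorProduct.quotTensorEquivQuotSMul B m
  rw [← e1.length_eq, ← e2.length_eq, ← e3.length_eq]
  rw [Module.length_eq_of_surjective (S := A) (R := A ⧸ m) Ideal.Quotient.mk_surjective]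
  letI := Ideal.Quotient.field m
  rw [Module.length_eq_finrank, Module.finrank_baseChange]

end H12FibLen
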