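import Mathlib

set_option autoImplicit false
universe u
open TensorProduct

namespace H12FibLen

variable (A B : Type u) [CommRing A] [IsLocalRing A] [CommRing B] [Algebra A B]

section
variable (n : Ideal B) [n.IsMaximal]
  (h : Ideal.map (algebraMap A B) (IsLocalRing.maximalIdeal A) ≤ n)


include h in
theorem isLocalHom : IsLocalHom (algebraMap A (Localization.AtPrime n)) := by
  constructor
  intro a ha
  by_contra hna
  have h1 : a ∈ IsLocalRing.maximalIdeal A := (IsLocalRing.mem_maximalIdeal a).2 hna
  have h2 : algebraMap A B a ∈ n := h (Ideal.mem_map_of_mem _ h1)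
  rw [IsScalarTower.algebraMap_apply A B (Localization.AtPrime n),
    IsLocalization.AtPrime.isUnit_to_map_iff (Localization.AtPrime n) n] at ha
  exact ha h2


include h in
theorem length_residue
    (hres : Function.Surjective (Ideal.quotientMap n (algebraMap A B) (Ideal.map_le_iff_le_comap.mp h))) :
    haveI := isLocalHom A B n h
    Module.length (IsLocalRing.ResidueField A) (IsLocalRing.ResidueField (Localization.AtPrime n)) = 1 := by
  haveI := isLocalHom A B n h
  have hsurj : Function.Surjective (algebraMap (IsLocalRing.ResidueField A)
      (IsLocalRing.ResidueField (Localization.AtPrime n))) := by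
    intro y
    obtain ⟨b, rfl⟩ := (Ideal.bijective_algebraMap_quotient_residueField n).2 y
    obtain ⟨a, rfl⟩ := hres b
    obtain ⟨a, rfl⟩ := Ideal.Quotient.mk_surjective a
    refine ⟨IsLocalRing.residue A a, ?_⟩
    rw [Ideal.quotientMap_mk]
    rfl
  let e : IsLocalRing.ResidueField A ≃ₗ[IsLocalRing.ResidueField A]
      IsLocalRing.ResidueField (Localization.AtPrime n) :=
    LinearEquiv.ofBijective (Algebra.linearMap _ _)
      ⟨(algebraMap (IsLocalRing.ResidueField A)
        (IsLocalRing.ResidueField (Localization.AtPrime n))).injective, hsurj⟩
  rw [← e.length_eq, Module.length_eq_finrank, Module.finrank_self]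
  rfl

include h in
theorem length_loc
    (hres : Function.Surjective (Ideal.quotientMap n (algebraMap A B) (Ideal.map_le_iff_le_comap.mp h)))
    (M : Type u) [AddCommGroup M] [Module A M] [Module (Localization.AtPrime n) M]
    [IsScalarTower A (Localization.AtPrime n) M] :
    Module.length (Localization.AtPrime n) M = Module.length A M := by
  haveI := isLocalHom A B n h
  rw [IsLocalRing.length_restrictScalars A (Localization.AtPrime n) M, length_residue A B n h hres,
    mul_one]

end

end H12FibLen
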