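import Mathlib

set_option autoImplicit false
universe u
open TensorProduct

namespace H12FibLen

section
variable {B : Type u} [CommRing B] (I : Ideal B)

/-- maximal ideals of `B` containing `I` vs maximal ideals of `B ⧸ I`. -/
noncomputable def maxEquiv :
    {n : MaximalSpectrum B // I ≤ n.asIdeal} ≃ MaximalSpectrum (B ⧸ I) where
  toFun n := ⟨n.1.asIdeal.map (Ideal.Quotient.mk I), by
    rcases Ideal.map_eq_top_or_isMaximal_of_surjective (Ideal.Quotient.mk I)
      Ideal.Quotient.mk_surjective n.1.isMaximal with h | h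
    · exfalso
      have h1 := congrArg (Ideal.comap (Ideal.Quotient.mk I)) h
      rw [Ideal.comap_map_of_surjective _ Ideal.Quotient.mk_surjective, Ideal.comap_top,
        ← RingHom.ker_eq_comap_bot, Ideal.mk_ker, sup_eq_left.2 n.2] at h1
      exact n.1.isMaximal.ne_top h1
    · exact h⟩
  invFun J := ⟨⟨J.asIdeal.comap (Ideal.Quotient.mk I),
    Ideal.comap_isMaximal_of_surjective _ Ideal.Quotient.mk_surjective⟩, by
      intro x hx
      rw [Ideal.mem_comap, Ideal.Quotient.eq_zero_iff_mem.2 hx]
      exact zero_mem _⟩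
  left_inv n := by
    apply Subtype.ext
    apply MaximalSpectrum.ext
    change (n.1.asIdeal.map (Ideal.Quotient.mk I)).comap (Ideal.Quotient.mk I) = n.1.asIdeal
    rw [Ideal.comap_map_of_surjective _ Ideal.Quotient.mk_surjective,
      ← RingHom.ker_eq_comap_bot, Ideal.mk_ker, sup_eq_left.2 n.2]
  right_inv J := by
    apply MaximalSpectrum.ext
    change (J.asIdeal.comap (Ideal.Quotient.mk I)).map (Ideal.Quotient.mk I) = J.asIdeal
    rw [Ideal.map_comap_of_surjective _ Ideal.Quotient.mk_surjective]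

theorem maxEquiv_asIdeal (n : {n : MaximalSpectrum B // I ≤ n.asIdeal}) :
    (maxEquiv I n).asIdeal = n.1.asIdeal.map (Ideal.Quotient.mk I) := rfl

theorem submonoid_eq (n : Ideal B) [n.IsPrime] (hn : I ≤ n) [(n.map (Ideal.Quotient.mk I)).IsPrime] :
    Algebra.algebraMapSubmonoid (B ⧸ I) n.primeCompl = (n.map (Ideal.Quotient.mk I)).primeCompl := by
  ext x
  constructor
  · rintro ⟨b, hb, rfl⟩
    intro hx
    apply hb
    have : b ∈ (n.map (Ideal.Quotient.mk I)).comap (Ideal.Quotient.mk I) := hx
    rwa [Ideal.comap_map_of_surjective _ Ideal.Quotient.mk_surjective,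
      ← RingHom.ker_eq_comap_bot, Ideal.mk_ker, sup_eq_left.2 hn] at this
  · intro hx
    obtain ⟨b, rfl⟩ := Ideal.Quotient.mk_surjective x
    refine ⟨b, fun hb => hx (Ideal.mem_map_of_mem _ hb), rfl⟩

end

end H12FibLen
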