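import Mathlib
import Groth.Agent.Lib.Helper12.FibLen1
import Groth.Agent.Lib.Helper12.FibLen2
import Groth.Agent.Lib.Helper12.FibLen3

set_option autoImplicit false
universe u
open TensorProduct

namespace H12FibLen

section
variable (A : Type u) [CommRing A] {B : Type u} [CommRing B] [Algebra A B] (I : Ideal B)

/-- the localization of the `B`-module `B ⧸ I` at `n` is the local ring of `B ⧸ I` at `n/I`. -/
noncomputable def locEquiv (n : Ideal B) [n.IsPrime] (hn : I ≤ n)
    [(n.map (Ideal.Quotient.mk I)).IsPrime] :
    LocalizedModule n.primeCompl (B ⧸ I) ≃ₗ[A]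
      Localization.AtPrime (n.map (Ideal.Quotient.mk I)) := by
  haveI : IsLocalization (Algebra.algebraMapSubmonoid (B ⧸ I) n.primeCompl)
      (Localization.AtPrime (n.map (Ideal.Quotient.mk I))) := by
    rw [submonoid_eq I n hn]
    infer_instance
  haveI : IsLocalizedModule n.primeCompl (IsScalarTower.toAlgHom B (B ⧸ I)
      (Localization.AtPrime (n.map (Ideal.Quotient.mk I)))).toLinearMap :=
    isLocalizedModule_iff_isLocalization.mpr inferInstance
  exact (IsLocalizedModule.linearEquiv n.primeCompl
    (LocalizedModule.mkLinearMap n.primeCompl (B ⧸ I))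
    (IsScalarTower.toAlgHom B (B ⧸ I)
      (Localization.AtPrime (n.map (Ideal.Quotient.mk I)))).toLinearMap).restrictScalars A

end

end H12FibLen

namespace H12FibLen

theorem main (A B : Type u) [CommRing A] [IsLocalRing A] [CommRing B] [Algebra A B]
    [Module.Free A B] [Module.Finite A B] (d : ℕ) (hd : Module.finrank A B = d)
    (hres : ∀ (n : Ideal B) [n.IsMaximal] (h : Ideal.map (algebraMap A B) (IsLocalRing.maximalIdeal A) ≤ n),
      Function.Bijective (Ideal.quotientMap n (algebraMap A B) (Ideal.map_le_iff_le_comap.mp h))) :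
    finsum (fun n : {n : MaximalSpectrum B // Ideal.map (algebraMap A B) (IsLocalRing.maximalIdeal A) ≤ n.asIdeal} =>
      Module.length (Localization.AtPrime n.1.asIdeal)
        (LocalizedModule n.1.asIdeal.primeCompl (B ⧸ Ideal.map (algebraMap A B) (IsLocalRing.maximalIdeal A)))) = (d : ℕ∞) := by
  have hlen : Module.length A (B ⧸ Ideal.map (algebraMap A B) (IsLocalRing.maximalIdeal A)) = d := by
    rw [length_quot, hd]
  haveI : IsArtinianRing (B ⧸ Ideal.map (algebraMap A B) (IsLocalRing.maximalIdeal A)) := by
    have h1 : IsFiniteLength A (B ⧸ Ideal.map (algebraMap A B) (IsLocalRing.maximalIdeal A)) :=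
      Module.length_ne_top_iff.1 (by rw [hlen]; exact ENat.natCast_ne_top d)
    rw [isFiniteLength_iff_isNoetherian_isArtinian] at h1
    exact isArtinian_of_tower A h1.2
  haveI : Fintype (MaximalSpectrum (B ⧸ Ideal.map (algebraMap A B) (IsLocalRing.maximalIdeal A))) :=
    Fintype.ofFinite _
  have hterm : ∀ n : {n : MaximalSpectrum B //
      Ideal.map (algebraMap A B) (IsLocalRing.maximalIdeal A) ≤ n.asIdeal},
      Module.length (Localization.AtPrime n.1.asIdeal) (LocalizedModule n.1.asIdeal.primeCompl
        (B ⧸ Ideal.map (algebraMap A B) (IsLocalRing.maximalIdeal A))) =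
      Module.length A (Localization.AtPrime (maxEquiv _ n).asIdeal) := by
    intro n
    haveI := n.1.isMaximal
    haveI : (n.1.asIdeal.map (Ideal.Quotient.mk
        (Ideal.map (algebraMap A B) (IsLocalRing.maximalIdeal A)))).IsPrime :=
      (maxEquiv _ n).isMaximal.isPrime
    rw [length_loc A B n.1.asIdeal n.2 (hres n.1.asIdeal n.2).2]
    exact (locEquiv A _ n.1.asIdeal n.2).length_eq
  rw [finsum_congr hterm]
  rw [finsum_comp_equiv (maxEquiv (Ideal.map (algebraMap A B) (IsLocalRing.maximalIdeal A)))
    (f := fun J => Module.length A (Localization.AtPrime J.asIdeal))]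
  rw [finsum_eq_sum_of_fintype, ← Module.length_pi_of_fintype, ← hlen]
  exact (((MaximalSpectrum.toPiLocalizationEquiv
    (B ⧸ Ideal.map (algebraMap A B) (IsLocalRing.maximalIdeal A))).toLinearEquiv).restrictScalars
      A).length_eq.symm

end H12FibLen
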