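import Mathlib
import Groth.Agent.Lib.Helper12.FibMax

set_option autoImplicit false
universe u

namespace Groth.Agent.Lib.Helper12.H12FibMax

open AlgebraicGeometry CategoryTheory Limits TopologicalSpace
open Groth.Agent.Lib.Helper21.FibDim Groth.Agent.Lib.Helper12.H12NearGeneric

variable {X Y : Scheme.{u}} (f : X ⟶ Y)

/-- the fibre-maximal points over `y`, indexed by the irreducible components of the fibre. -/
theorem exists_maximal_points (y : Y) :
    ∃ ξ : ↥(irreducibleComponents (f.fiber y)) → X, Function.Injective ξ ∧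
      (∀ T, f (ξ T) = y ∧ IsMaxInFibre f (ξ T)) ∧ ∀ x : X, f x = y → ∃ T, ξ T ⤳ x := by
  have hgen : ∀ T : ↥(irreducibleComponents (f.fiber y)), ∃ ζ : f.fiber y, IsGenericPoint ζ T.1 :=
    fun T => QuasiSober.sober T.2.1 (isClosed_of_mem_irreducibleComponents _ T.2)
  choose ζ hζ using hgen
  refine ⟨fun T => f.fiberι y (ζ T), ?_, ?_, ?_⟩
  · intro T T' hTT'
    have h1 : ζ T = ζ T' := (f.fiberι y).isEmbedding.injective hTT'
    apply Subtype.ext
    rw [← (hζ T).def, ← (hζ T').def, h1]
  · intro T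
    refine ⟨apply_fiberι f y _, isMaxInFibre_fiberι_of_generic f y (ζ T) ?_⟩
    rw [(hζ T).def]
    exact T.2
  · intro x hx
    let t : f.fiber y := (f.fiberHomeo y).symm ⟨x, hx⟩
    have ht : f.fiberι y t = x := Scheme.Hom.fiberι_fiberHomeo_symm f y ⟨x, hx⟩
    let T₀ : ↥(irreducibleComponents (f.fiber y)) :=
      ⟨irreducibleComponent t, irreducibleComponent_mem_irreducibleComponents t⟩
    refine ⟨T₀, ?_⟩
    rw [← ht]
    exact ((hζ T₀).specializes mem_irreducibleComponent).map (f.fiberι y).continuous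

/-- fibre-maximal points give distinct irreducible components of the fibre. -/
theorem card_le_of_injective_maximal {J : Type*} (y : Y) (t : J → X) (ht : Function.Injective t)
    (hty : ∀ j, f (t j) = y) (htmax : ∀ j, IsMaxInFibre f (t j)) :
    ENat.card J ≤ (irreducibleComponents (f.fiber y)).encard := by
  let ζ : J → f.fiber y := fun j => (f.fiberHomeo y).symm ⟨t j, hty j⟩
  have hζ : ∀ j, f.fiberι y (ζ j) = t j := fun j =>
    Scheme.Hom.fiberι_fiberHomeo_symm f y ⟨t j, hty j⟩
  let Φ : J → ↥(irreducibleComponents (f.fiber y)) := fun j =>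
    ⟨closure {ζ j}, closure_mem_irreducibleComponents_of_isMaxInFibre f y (ζ j) (by
      rw [hζ j]; exact htmax j)⟩
  have hΦ : Function.Injective Φ := by
    intro j j' hjj'
    have h1 : closure ({ζ j} : Set (f.fiber y)) = closure {ζ j'} := congrArg Subtype.val hjj'
    have h2 : ζ j = ζ j' := (inseparable_iff_closure_eq.mpr h1).eq
    apply ht
    rw [← hζ j, ← hζ j', h2]
  exact ENat.card_le_card_of_injective hΦ

theorem main_irreducibleComponents [IrreducibleSpace Y] [LocallyOfFiniteType f] [QuasiCompact f]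
    (n : ℕ) (h : (irreducibleComponents ↑(f.fiber (genericPoint ↑Y))).encard = n) :
    ∃ V : Y.Opens, (V : Set ↑Y).Nonempty ∧
      ∀ y ∈ V, (n : ℕ∞) ≤ (irreducibleComponents ↑(f.fiber y)).encard := by
  classical
  set η := genericPoint Y with hη
  have hfin : (irreducibleComponents ↑(f.fiber η)).Finite := Set.finite_of_encard_eq_coe h
  haveI : Finite ↥(irreducibleComponents ↑(f.fiber η)) := hfin.to_subtype
  obtain ⟨ξ, hξinj, hξ, hξcov⟩ := exists_maximal_points f η
  let J := ↥(irreducibleComponents ↑(f.fiber η))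
  let Xc : J → Set X := fun T => closure {ξ T}
  have hXc : ∀ T, IsClosed (Xc T) := fun T => isClosed_closure
  let Zc : J → Set X := fun T => Xc T ∩ ⋃ T' ∈ {T' : J | T' ≠ T}, Xc T'
  have hZc : ∀ T, IsClosed (Zc T) := fun T =>
    (hXc T).inter ((Set.toFinite _).isClosed_biUnion (fun T' _ => hXc T'))
  -- `ξ T ∉ Xc T'` for `T' ≠ T`
  have hξnot : ∀ T T' : J, T' ≠ T → ξ T ∉ Xc T' := by
    intro T T' hne hmem
    have hsp : ξ T' ⤳ ξ T := specializes_iff_mem_closure.mpr hmem
    have := (hξ T).2 (ξ T') hsp ((hξ T').1.trans (hξ T).1.symm)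
    exact hne (hξinj this)
  -- data for each component
  have key : ∀ T : J, ∃ V : Y.Opens, η ∈ V ∧ (V : Set Y) ⊆ f '' Xc T ∧
      ∀ x ∈ Xc T, f x ∈ V → (∀ x' ∈ Xc T, x' ⤳ x → f x' = f x → x' = x) → x ∉ Zc T := by
    intro T
    set I := Scheme.IdealSheafData.vanishingIdeal ⟨Xc T, hXc T⟩ with hI
    have hrange : Set.range I.subschemeι = Xc T := by
      rw [Scheme.IdealSheafData.range_subschemeι,
        Scheme.IdealSheafData.coe_support_vanishingIdeal]
      rfl
    set ι := I.subschemeι with hι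
    obtain ⟨V, hηV, hV⟩ := exists_open_forall_not_isMaxInFibre (ι ≫ f) (ι ⁻¹' Zc T)
      ((hZc T).preimage ι.continuous) (by
        intro z hz hfz hmax
        have hξT : ξ T ∈ Set.range ι := by rw [hrange]; exact subset_closure rfl
        obtain ⟨w, hw⟩ := hξT
        have h1 : ι z ∈ Xc T := by rw [← hrange]; exact ⟨z, rfl⟩
        have h2 : ξ T ⤳ ι z := specializes_iff_mem_closure.mpr h1
        have h3 : w ⤳ z := by
          rw [← ι.isClosedEmbedding.isInducing.specializes_iff, hw]
          exact h2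
        have h4 : w = z := hmax w h3 (by
          change f (ι w) = f (ι z)
          rw [hw, (hξ T).1]
          exact hfz.symm)
        have h5 : ξ T ∈ Zc T := by rw [← hw, h4]; exact hz
        obtain ⟨-, h6⟩ := h5
        simp only [Set.mem_iUnion] at h6
        obtain ⟨T', hT', hmem⟩ := h6
        exact hξnot T T' hT' hmem)
    obtain ⟨V', hηV', hV'⟩ := exists_open_subset_image_of_closed f (Xc T) (hXc T)
      ⟨ξ T, subset_closure rfl, (hξ T).1⟩
    refine ⟨V ⊓ V', ⟨hηV, hηV'⟩, fun y hy => hV' hy.2, ?_⟩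
    intro x hxT hfx hmax hxZ
    rw [← hrange] at hxT
    obtain ⟨z, rfl⟩ := hxT
    refine hV z hxZ hfx.1 ?_
    intro z' hz' hfz'
    have := hmax (ι z') (by rw [← hrange]; exact ⟨z', rfl⟩) (hz'.map ι.continuous) hfz'
    exact ι.isClosedEmbedding.injective this
  choose VT hηVT hVTimg hVT using key
  obtain ⟨V₁, hV₁ne, hV₁⟩ := exists_open_generalizing f
  have hηV₁ : η ∈ V₁ := by
    obtain ⟨y, hy⟩ := hV₁ne
    exact (genericPoint_specializes y).mem_open V₁.isOpen hy
  let V : Y.Opens := ⟨(V₁ : Set Y) ∩ ⋂ T, (VT T : Set Y),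
    V₁.isOpen.inter (isOpen_iInter_of_finite (fun T => (VT T).isOpen))⟩
  refine ⟨V, ⟨η, hηV₁, Set.mem_iInter.mpr hηVT⟩, ?_⟩
  intro y hy
  have hyV₁ : y ∈ V₁ := hy.1
  have hyVT : ∀ T, y ∈ VT T := fun T => Set.mem_iInter.mp hy.2 T
  -- choose points
  have hpt : ∀ T : J, ∃ t : X, t ∈ Xc T ∧ f t = y ∧
      (∀ x' ∈ Xc T, x' ⤳ t → f x' = f t → x' = t) := by
    intro T
    obtain ⟨x, hxT, hfx⟩ := hVTimg T (hyVT T)
    set I := Scheme.IdealSheafData.vanishingIdeal ⟨Xc T, hXc T⟩ with hI
    have hrange : Set.range I.subschemeι = Xc T := by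
      rw [Scheme.IdealSheafData.range_subschemeι,
        Scheme.IdealSheafData.coe_support_vanishingIdeal]
      rfl
    set ι := I.subschemeι with hι
    rw [← hrange] at hxT
    obtain ⟨z, rfl⟩ := hxT
    obtain ⟨z', hz'z, hfz', hz'max, -⟩ := exists_isMaxInFibre_specializes (ι ≫ f) z
    refine ⟨ι z', by rw [← hrange]; exact ⟨z', rfl⟩, hfz'.trans hfx, ?_⟩
    intro x' hx'T hx' hfx'
    rw [← hrange] at hx'T
    obtain ⟨w, rfl⟩ := hx'T
    have h3 : w ⤳ z' := by
      rw [← ι.isClosedEmbedding.isInducing.specializes_iff]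
      exact hx'
    rw [hz'max w h3 hfx']
  choose t htT hty htmax using hpt
  have htnot : ∀ T T' : J, T' ≠ T → t T ∉ Xc T' := by
    intro T T' hne hmem
    have := hVT T (t T) (htT T) (by rw [hty T]; exact hyVT T) (htmax T)
    apply this
    refine ⟨htT T, ?_⟩
    simp only [Set.mem_iUnion]
    exact ⟨T', hne, hmem⟩
  have htinj : Function.Injective t := by
    intro T T' hTT'
    by_contra hne
    exact htnot T T' (fun h => hne h.symm) (hTT' ▸ htT T')
  have htmax' : ∀ T, IsMaxInFibre f (t T) := by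
    intro T x' hx' hfx'
    have hx'V₁ : f x' ∈ V₁ := by rw [hfx', hty T]; exact hyV₁
    obtain ⟨x'', hx''x', hfx''⟩ := hV₁ x' hx'V₁ η (genericPoint_specializes _)
    obtain ⟨T', hT'⟩ := hξcov x'' hfx''
    have hx'T' : x' ∈ Xc T' := specializes_iff_mem_closure.mp (hT'.trans hx''x')
    have htT' : t T ∈ Xc T' := (hx'.mem_closed (hXc T') hx'T')
    have hTT' : T' = T := by
      by_contra hne
      exact htnot T T' hne htT'
    subst hTT'
    exact htmax T' x' hx'T' hx' hfx'
  have hcard := card_le_of_injective_maximal f y t htinj hty htmax'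
  have hJ : ENat.card J = n := by
    rw [← h]
    rfl
  rw [← hJ]
  exact hcard

end Groth.Agent.Lib.Helper12.H12FibMax
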