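import Mathlib
import Groth.Agent.Lib.Helper25.GFMod

set_option autoImplicit false
universe u

namespace Groth.Agent.Lib.Helper12.H12FibRed

open Groth.Agent.Lib.Helper25.GFMod

lemma map_mem_smul_top {R M N : Type*} [CommRing R] [AddCommGroup M] [Module R M]
    [AddCommGroup N] [Module R N] (q : Ideal R) (f : M →ₗ[R] N) {x : M}
    (hx : x ∈ q • (⊤ : Submodule R M)) : f x ∈ q • (⊤ : Submodule R N) := by
  have : f x ∈ (q • (⊤ : Submodule R M)).map f := Submodule.mem_map_of_mem hx
  rw [Submodule.map_smul''] at this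
  exact Submodule.smul_mono le_rfl le_top this

/-- domain case -/
theorem exists_forall_smul_notMem_map {R S : Type u} [CommRing R] [IsDomain R] [CommRing S]
    [Algebra R S] [Algebra.FiniteType R S] (b : S) (hb : ∀ r : R, r ≠ 0 → r • b ≠ 0) :
    ∃ g : R, g ≠ 0 ∧ ∀ q : Ideal R, q.IsPrime → g ∉ q → ∀ r : R, r ∉ q →
      r • b ∉ q.map (algebraMap R S) := by
  classical
  set I : Ideal S := Ideal.span {b} with hI
  haveI : Module.Finite S I := Module.Finite.iff_fg.mpr (Submodule.fg_span_singleton b)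
  obtain ⟨g1, -, hg1, hGF1⟩ := exists_GF R S I 1 one_ne_zero
  obtain ⟨g, hdvd, hg, hGF2⟩ := exists_GF R S (S ⧸ I) g1 hg1
  have F_M := (hGF1 g hdvd).1
  have F_N := (hGF2 g dvd_rfl).1
  set Rg := Localization.Away g with hRg
  set P := Submonoid.powers g with hP
  let i : I →ₗ[R] S := I.subtype.restrictScalars R
  let p : S →ₗ[R] (S ⧸ I) := I.mkQ.restrictScalars R
  have hi : Function.Injective i := Subtype.val_injective
  have hp : Function.Surjective p := Submodule.mkQ_surjective I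
  have hex : Function.Exact i p := by
    intro x
    constructor
    · intro hx
      have : x ∈ I := (Submodule.Quotient.mk_eq_zero I).mp hx
      exact ⟨⟨x, this⟩, rfl⟩
    · rintro ⟨y, rfl⟩
      exact (Submodule.Quotient.mk_eq_zero I).mpr y.2
  let ι := LocalizedModule.map P i
  let π := LocalizedModule.map P p
  have hι : Function.Injective ι := LocalizedModule.map_injective _ _ hi
  have hπ : Function.Surjective π := LocalizedModule.map_surjective _ _ hp
  have hexl : Function.Exact ι π := LocalizedModule.map_exact _ _ _ hex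
  haveI : Module.Projective Rg (LocalizedModule P (S ⧸ I)) := Module.Projective.of_free
  obtain ⟨σ, hσ⟩ := Module.projective_lifting_property π LinearMap.id hπ
  have hσ' : ∀ z, π (σ z) = z := fun z => LinearMap.congr_fun hσ z
  -- the retraction
  let ρ : LocalizedModule P S →ₗ[Rg] LocalizedModule P S := LinearMap.id - σ.comp π
  have hρι : ∀ m, ρ (ι m) = ι m := by
    intro m
    have : π (ι m) = 0 := hexl.apply_apply_eq_zero m
    simp [ρ, this]
  have hρrange : ∀ y, ∃ m, ι m = ρ y := by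
    intro y
    have : π (ρ y) = 0 := by
      simp [ρ, hσ']
    exact (hexl (ρ y)).mp this
  -- the element
  have hbI : b ∈ I := Ideal.mem_span_singleton_self b
  set μ : LocalizedModule P I := LocalizedModule.mk ⟨b, hbI⟩ 1 with hμ
  set β : LocalizedModule P S := LocalizedModule.mk b 1 with hβ
  have hιμ : ι μ = β := by
    simp [ι, hμ, hβ, LocalizedModule.map_mk, i]
  have hμ0 : μ ≠ 0 := by
    intro h0
    rw [hμ, ← LocalizedModule.zero_mk (1 : P), LocalizedModule.mk_eq] at h0
    obtain ⟨c, hc⟩ := h0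
    rw [one_smul, one_smul, smul_zero] at hc
    obtain ⟨c, k, rfl⟩ := c
    have h1 : (g ^ k) • b = 0 := by
      have := congrArg Subtype.val hc
      simpa [Submonoid.smul_def] using this
    exact hb _ (pow_ne_zero k hg) h1
  let B := Module.Free.chooseBasis Rg (LocalizedModule P I)
  obtain ⟨j0, hj0⟩ : ∃ j, B.repr μ j ≠ 0 := by
    by_contra hcon
    push Not at hcon
    apply hμ0
    apply B.repr.injective
    ext j
    simpa using hcon j
  obtain ⟨n, d, hn⟩ := IsLocalization.exists_mk'_eq P (B.repr μ j0)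
  have hn0 : n ≠ 0 := by
    intro h0
    apply hj0
    rw [← hn, h0, IsLocalization.mk'_zero]
  refine ⟨g * n, mul_ne_zero hg hn0, ?_⟩
  intro q hq hgq r hr hmem
  have hgq' : g ∉ q := fun h => hgq (q.mul_mem_right n h)
  have hnq : n ∉ q := fun h => hgq (q.mul_mem_left g h)
  obtain ⟨-, τ, hτ⟩ := ((hexl.split_tfae').out 0 1 rfl rfl).mp ⟨hι, σ, hσ⟩
  have hτ' : ∀ m, τ (ι m) = m := fun m => LinearMap.congr_fun hτ m
  -- Step A
  have hA0 : r • b ∈ q • (⊤ : Submodule R S) := by
    rw [Ideal.smul_top_eq_map]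
    exact hmem
  have hA : r • β ∈ q • (⊤ : Submodule R (LocalizedModule P S)) := by
    have := map_mem_smul_top q (LocalizedModule.mkLinearMap P S) hA0
    simpa [hβ, LocalizedModule.mkLinearMap_apply, LocalizedModule.smul'_mk] using this
  -- Step B
  have hB : r • μ ∈ q • (⊤ : Submodule R (LocalizedModule P I)) := by
    have := map_mem_smul_top q (τ.restrictScalars R) hA
    simpa [← hιμ, hτ'] using this
  -- Step C
  have hC : r • (B.repr μ j0) ∈ q • (⊤ : Submodule R Rg) := by
    have := map_mem_smul_top q ((B.coord j0).restrictScalars R) hB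
    simpa using this
  rw [Ideal.smul_top_eq_map] at hC
  have hC' : algebraMap R Rg r * (B.repr μ j0) ∈ q.map (algebraMap R Rg) := by
    rw [← Algebra.smul_def]
    exact hC
  -- Step D
  have hdisj : Disjoint (P : Set R) (q : Set R) := by
    rw [Set.disjoint_left]
    rintro x ⟨k, rfl⟩ hx
    exact hgq' (hq.mem_of_pow_mem k hx)
  haveI hqg : (q.map (algebraMap R Rg)).IsPrime :=
    IsLocalization.isPrime_of_isPrime_disjoint P Rg q hq hdisj
  have hcomap : (q.map (algebraMap R Rg)).comap (algebraMap R Rg) = q :=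
    IsLocalization.under_map_of_isPrime_disjoint P Rg hq hdisj
  rcases hqg.mem_or_mem hC' with h1 | h1
  · apply hr
    rw [← hcomap]
    exact h1
  · rw [← hn, IsLocalization.mk'_mem_iff] at h1
    apply hnq
    rw [← hcomap]
    exact h1

open TensorProduct

lemma one_tmul_eq_zero_of_mem {R S : Type*} [CommRing R] [CommRing S] [Algebra R S]
    (p : Ideal R) [p.IsPrime] {x : S} (hx : x ∈ p.map (algebraMap R S)) :
    ((1 : p.ResidueField) ⊗ₜ[R] x : p.Fiber S) = 0 := by
  have hx' : x ∈ p • (⊤ : Submodule R S) := by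
    rw [Ideal.smul_top_eq_map]; exact hx
  refine Submodule.smul_induction_on hx' ?_ ?_
  · intro a ha s _
    rw [← TensorProduct.smul_tmul, Algebra.smul_def, mul_one,
      Ideal.algebraMap_residueField_eq_zero.mpr ha, TensorProduct.zero_tmul]
  · intro x y hx hy
    rw [TensorProduct.tmul_add, hx, hy, add_zero]

lemma one_tmul_eq_zero_iff {R S : Type*} [CommRing R] [CommRing S] [Algebra R S]
    (p : Ideal R) [p.IsPrime] (s : S) :
    ((1 : p.ResidueField) ⊗ₜ[R] s : p.Fiber S) = 0 ↔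
      ∃ r : R, r ∉ p ∧ r • s ∈ p.map (algebraMap R S) := by
  constructor
  · intro h
    letI : Algebra S (p.Fiber S) := Algebra.TensorProduct.rightAlgebra
    let e := Ideal.Fiber.algEquivAux₁ (S := S) p
    have h1 : e (algebraMap S (p.Fiber S) s) = 0 := by
      have : algebraMap S (p.Fiber S) s = (1 : p.ResidueField) ⊗ₜ[R] s := rfl
      rw [this, h, map_zero]
    rw [e.commutes] at h1
    rw [IsScalarTower.algebraMap_apply S (Localization (Algebra.algebraMapSubmonoid S p.primeCompl)),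
      Ideal.Quotient.algebraMap_eq, Ideal.Quotient.eq_zero_iff_mem,
      IsLocalization.mem_map_algebraMap_iff (Algebra.algebraMapSubmonoid S p.primeCompl)] at h1
    obtain ⟨⟨⟨a, ha⟩, ⟨m, r2, hr2, rfl⟩⟩, h2⟩ := h1
    simp only at h2
    rw [← map_mul, IsLocalization.eq_iff_exists (Algebra.algebraMapSubmonoid S p.primeCompl)] at h2
    obtain ⟨⟨c, r1, hr1, rfl⟩, h3⟩ := h2
    simp only at h3
    refine ⟨r1 * r2, p.primeCompl.mul_mem hr1 hr2, ?_⟩
    have : (r1 * r2) • s = algebraMap R S r1 * a := by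
      rw [← h3, Algebra.smul_def, map_mul]; ring
    rw [this]
    exact Ideal.mul_mem_left _ _ ha
  · rintro ⟨r, hr, hrs⟩
    have h1 := one_tmul_eq_zero_of_mem p hrs
    set u : p.ResidueField := algebraMap R p.ResidueField r with hu
    have hu0 : u ≠ 0 := by
      rw [hu, Ne, Ideal.algebraMap_residueField_eq_zero]; exact hr
    have h2 : (u ⊗ₜ[R] s : p.Fiber S) = 0 := by
      rw [← h1, hu, Algebra.algebraMap_eq_smul_one, TensorProduct.smul_tmul]
    have h3 : ((1 : p.ResidueField) ⊗ₜ[R] s : p.Fiber S) = u⁻¹ • (u ⊗ₜ[R] s : p.Fiber S) := by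
      rw [TensorProduct.smul_tmul', smul_eq_mul, inv_mul_cancel₀ hu0]
    rw [h3, h2, smul_zero]

/-- Case of a base ring with a smallest prime. -/
theorem exists_forall_smul_notMem_map' {R S : Type u} [CommRing R] [CommRing S]
    [Algebra R S] [Algebra.FiniteType R S] (p : Ideal R) [hpp : p.IsPrime]
    (hp : ∀ q : Ideal R, q.IsPrime → p ≤ q) (b : S)
    (hb : ∀ r : R, r ∉ p → r • b ∉ p.map (algebraMap R S)) :
    ∃ g : R, g ∉ p ∧ ∀ q : Ideal R, q.IsPrime → g ∉ q → ∀ r : R, r ∉ q →
      r • b ∉ q.map (algebraMap R S) := by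
  set pS := p.map (algebraMap R S) with hpS
  haveI : Algebra.FiniteType (R ⧸ p) (S ⧸ pS) := by
    haveI : Algebra.FiniteType S (S ⧸ pS) :=
      Algebra.FiniteType.of_surjective (Algebra.ofId S (S ⧸ pS)) Ideal.Quotient.mk_surjective
    haveI : Algebra.FiniteType R (S ⧸ pS) := Algebra.FiniteType.trans ‹_› ‹_›
    exact Algebra.FiniteType.of_restrictScalars_finiteType R (R ⧸ p) (S ⧸ pS)
  have hb' : ∀ r' : R ⧸ p, r' ≠ 0 → r' • (Ideal.Quotient.mk pS b) ≠ 0 := by
    intro r' hr'
    obtain ⟨r, rfl⟩ := Ideal.Quotient.mk_surjective r'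
    have hr : r ∉ p := fun h => hr' (Ideal.Quotient.eq_zero_iff_mem.mpr h)
    rw [Ideal.Quotient.mk_smul_mk_quotient_map_quotient, Ne, Ideal.Quotient.eq_zero_iff_mem,
      ← Algebra.smul_def]
    exact hb r hr
  obtain ⟨g', hg', H⟩ := exists_forall_smul_notMem_map (R := R ⧸ p) (S := S ⧸ pS)
    (Ideal.Quotient.mk pS b) hb'
  obtain ⟨g, rfl⟩ := Ideal.Quotient.mk_surjective g'
  refine ⟨g, fun h => hg' (Ideal.Quotient.eq_zero_iff_mem.mpr h), ?_⟩
  intro q hq hgq r hr hmem
  have hpq : p ≤ q := hp q hq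
  set q' : Ideal (R ⧸ p) := q.map (Ideal.Quotient.mk p) with hq'
  have hker : RingHom.ker (Ideal.Quotient.mk p) ≤ q := by
    rw [Ideal.mk_ker]; exact hpq
  have hq'prime : q'.IsPrime :=
    Ideal.map_isPrime_of_surjective Ideal.Quotient.mk_surjective hker
  have hcomap : q'.comap (Ideal.Quotient.mk p) = q :=
    Ideal.comap_map_of_surjective' _ Ideal.Quotient.mk_surjective _ |>.trans (by
      rw [Ideal.mk_ker]; exact sup_eq_left.mpr hpq)
  have hmemq' : ∀ x : R, Ideal.Quotient.mk p x ∈ q' ↔ x ∈ q := by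
    intro x
    rw [← hcomap, Ideal.mem_comap]
  apply H q' hq'prime (fun h => hgq ((hmemq' g).mp h)) (Ideal.Quotient.mk p r)
    (fun h => hr ((hmemq' r).mp h))
  have h1 : Ideal.Quotient.mk pS (r • b) ∈ (q.map (algebraMap R S)).map (Ideal.Quotient.mk pS) :=
    Ideal.mem_map_of_mem _ hmem
  have h2 : (q.map (algebraMap R S)).map (Ideal.Quotient.mk pS) =
      q'.map (algebraMap (R ⧸ p) (S ⧸ pS)) := by
    rw [hq', Ideal.map_map, Ideal.map_map]
    congr 1
  rw [h2] at h1
  rw [Ideal.Quotient.mk_smul_mk_quotient_map_quotient, ← Algebra.smul_def]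
  exact h1

/-- Non-reducedness of the fibre over the smallest prime spreads out. -/
theorem exists_forall_not_isReduced_fiber {R S : Type u} [CommRing R] [CommRing S]
    [Algebra R S] [Algebra.FiniteType R S] (p : Ideal R) [hpp : p.IsPrime]
    (hp : ∀ q : Ideal R, q.IsPrime → p ≤ q) (hred : ¬ IsReduced (p.Fiber S)) :
    ∃ g : R, g ∉ p ∧ ∀ (q : Ideal R) [q.IsPrime], g ∉ q → ¬ IsReduced (q.Fiber S) := by
  classical
  obtain ⟨x, hxnil, hx0⟩ : ∃ x : p.Fiber S, IsNilpotent x ∧ x ≠ 0 := by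
    by_contra hcon
    push Not at hcon
    exact hred ⟨fun x hx => hcon x hx⟩
  obtain ⟨n, hn⟩ := hxnil
  obtain ⟨r1, hr1, b, hb⟩ := Ideal.Fiber.exists_smul_eq_one_tmul p x
  have hb0 : ((1 : p.ResidueField) ⊗ₜ[R] b : p.Fiber S) ≠ 0 := by
    intro h0
    rw [h0] at hb
    apply hx0
    set u : p.ResidueField := algebraMap R p.ResidueField r1 with hu
    have hu0 : u ≠ 0 := by
      rw [hu, Ne, Ideal.algebraMap_residueField_eq_zero]; exact hr1
    have : u • x = 0 := by
      rw [hu, algebraMap_smul]; exact hb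
    have h3 : x = u⁻¹ • (u • x) := by
      rw [smul_smul, inv_mul_cancel₀ hu0, one_smul]
    rw [h3, this, smul_zero]
  have hbn : ((1 : p.ResidueField) ⊗ₜ[R] (b ^ n) : p.Fiber S) = 0 := by
    have : ((1 : p.ResidueField) ⊗ₜ[R] (b ^ n) : p.Fiber S) =
        ((1 : p.ResidueField) ⊗ₜ[R] b : p.Fiber S) ^ n := by
      rw [Algebra.TensorProduct.tmul_pow, one_pow]
    rw [this, ← hb, smul_pow, hn, smul_zero]
  obtain ⟨r0, hr0, hr0b⟩ := (one_tmul_eq_zero_iff p (b ^ n)).mp hbn
  have hb1 : ∀ r : R, r ∉ p → r • b ∉ p.map (algebraMap R S) := by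
    intro r hr hmem
    exact hb0 ((one_tmul_eq_zero_iff p b).mpr ⟨r, hr, hmem⟩)
  obtain ⟨g, hg, H⟩ := exists_forall_smul_notMem_map' p hp b hb1
  refine ⟨g * r0, fun h => (hpp.mem_or_mem h).elim hg hr0, ?_⟩
  intro q hq hgq hredq
  have hgq' : g ∉ q := fun h => hgq (q.mul_mem_right r0 h)
  have hr0q : r0 ∉ q := fun h => hgq (q.mul_mem_left g h)
  have h1 : ((1 : q.ResidueField) ⊗ₜ[R] (b ^ n) : q.Fiber S) = 0 := by
    rw [one_tmul_eq_zero_iff]
    exact ⟨r0, hr0q, Ideal.map_mono (hp q hq) hr0b⟩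
  have h2 : ((1 : q.ResidueField) ⊗ₜ[R] b : q.Fiber S) ≠ 0 := by
    intro h0
    obtain ⟨r, hr, hmem⟩ := (one_tmul_eq_zero_iff q b).mp h0
    exact H q hq hgq' r hr hmem
  apply h2
  have hnil : IsNilpotent ((1 : q.ResidueField) ⊗ₜ[R] b : q.Fiber S) := by
    refine ⟨n, ?_⟩
    rw [Algebra.TensorProduct.tmul_pow, one_pow]
    exact h1
  exact hnil.eq_zero

end Groth.Agent.Lib.Helper12.H12FibRed
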