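import Mathlib
import Groth.Agent.Lib.Helper12.FibRed

set_option autoImplicit false
universe u

open AlgebraicGeometry CategoryTheory Limits TensorProduct

namespace Groth.Agent.Lib.Helper12.H12FibRedS

open Groth.Agent.Lib.Helper12.H12FibRed

theorem isReduced_fiber_Spec_iff {R S : Type u} [CommRing R] [CommRing S] [Algebra R S]
    (p : PrimeSpectrum R) :
    IsReduced ((Spec.map (CommRingCat.ofHom <| algebraMap R S)).fiber p) ↔
      _root_.IsReduced (p.asIdeal.Fiber S) := by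
  have e : (Spec.map (CommRingCat.ofHom <| algebraMap R S)).fiber p ≅
      Spec (CommRingCat.of (p.asIdeal.Fiber S)) :=
    Arrow.leftFunc.mapIso (Spec.fiberToSpecResidueFieldIso R S p)
  constructor
  · intro h
    have : IsReduced (Spec (CommRingCat.of (p.asIdeal.Fiber S))) :=
      isReduced_of_isOpenImmersion e.inv
    exact (affine_isReduced_iff (CommRingCat.of (p.asIdeal.Fiber S))).mp this
  · intro h
    have : IsReduced (Spec (CommRingCat.of (p.asIdeal.Fiber S))) := inferInstance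
    exact isReduced_of_isOpenImmersion e.hom

/-- the affine piece of a fibre, as an open immersion. -/
noncomputable def pieceMap {X Y : Scheme.{u}} (g : X ⟶ Y) {V : Y.Opens} (hV : IsAffineOpen V)
    {U : X.Opens} (hU : IsAffineOpen U) (hUV : U ≤ g ⁻¹ᵁ V) (p : Spec Γ(Y, V)) :
    pullback (Spec.map (g.appLE V U hUV)) ((Spec Γ(Y, V)).fromSpecResidueField p) ⟶
      pullback g (Y.fromSpecResidueField (hV.fromSpec p)) :=
  pullback.map (Spec.map (g.appLE V U hUV)) ((Spec Γ(Y, V)).fromSpecResidueField p)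
    g (Y.fromSpecResidueField (hV.fromSpec p)) hU.fromSpec
    (Spec.map (hV.fromSpec.residueFieldMap p)) hV.fromSpec
    (IsAffineOpen.SpecMap_appLE_fromSpec g hV hU hUV)
    (Scheme.Hom.SpecMap_residueFieldMap_fromSpecResidueField _ _).symm

instance {X Y : Scheme.{u}} (g : X ⟶ Y) {V : Y.Opens} (hV : IsAffineOpen V)
    {U : X.Opens} (hU : IsAffineOpen U) (hUV : U ≤ g ⁻¹ᵁ V) (p : Spec Γ(Y, V)) :
    IsOpenImmersion (pieceMap g hV hU hUV p) := by
  unfold pieceMap
  infer_instance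

theorem not_isReduced_fiber_of_piece {X Y : Scheme.{u}} (g : X ⟶ Y) {V : Y.Opens}
    (hV : IsAffineOpen V) {U : X.Opens} (hU : IsAffineOpen U) (hUV : U ≤ g ⁻¹ᵁ V)
    (p : Spec Γ(Y, V))
    (h : ¬ IsReduced (pullback (Spec.map (g.appLE V U hUV))
      ((Spec Γ(Y, V)).fromSpecResidueField p))) :
    ¬ IsReduced (g.fiber (hV.fromSpec p)) := by
  intro hred
  apply h
  change IsReduced (pullback g (Y.fromSpecResidueField (hV.fromSpec p))) at hred
  exact isReduced_of_isOpenImmersion (pieceMap g hV hU hUV p)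

theorem isReduced_fiber_of_pieces {X Y : Scheme.{u}} (g : X ⟶ Y) (η : Y)
    (H : ∀ (V : Y.Opens) (hV : IsAffineOpen V) (U : X.Opens) (_ : IsAffineOpen U)
      (hUV : U ≤ g ⁻¹ᵁ V) (p : Spec Γ(Y, V)), hV.fromSpec p = η →
      IsReduced (pullback (Spec.map (g.appLE V U hUV))
        ((Spec Γ(Y, V)).fromSpecResidueField p))) :
    IsReduced (g.fiber η) := by
  change IsReduced (pullback g (Y.fromSpecResidueField η))
  suffices H : ∀ t : ↥(pullback g (Y.fromSpecResidueField η)),
      ∃ (Z : Scheme.{u}) (j : Z ⟶ pullback g (Y.fromSpecResidueField η)),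
      IsOpenImmersion j ∧ IsReduced Z ∧ t ∈ Set.range j by
    choose Z j hj hZ ht using H
    let 𝒰 : (pullback g (Y.fromSpecResidueField η)).OpenCover :=
      Scheme.Cover.mkOfCovers _ Z j (fun t => ⟨t, ht t⟩) hj
    have : ∀ i, IsReduced (𝒰.X i) := hZ
    exact IsReduced.of_openCover _ 𝒰
  intro t
  have hgx : g (pullback.fst g (Y.fromSpecResidueField η) t) = η := by
    have : pullback.fst g (Y.fromSpecResidueField η) t ∈ Set.range (g.fiberι η) := ⟨t, rfl⟩
    rw [g.range_fiberι] at this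
    exact this
  obtain ⟨_, ⟨V, hV0, rfl⟩, hηV, -⟩ :=
    Y.isBasis_affineOpens.exists_subset_of_mem_open (Set.mem_univ η) isOpen_univ
  obtain ⟨_, ⟨U, hU0, rfl⟩, hxU, hUV⟩ :=
    X.isBasis_affineOpens.exists_subset_of_mem_open
      (show pullback.fst g (Y.fromSpecResidueField η) t ∈ (g ⁻¹ᵁ V : Set X) by
        rw [Scheme.Hom.coe_preimage, Set.mem_preimage, hgx]; exact hηV)
      (g ⁻¹ᵁ V).isOpen
  have hUV' : U ≤ g ⁻¹ᵁ V := hUV
  have hV : IsAffineOpen V := hV0
  have hU : IsAffineOpen U := hU0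
  obtain ⟨p, hp⟩ : ∃ p : Spec Γ(Y, V), hV.fromSpec p = η := by
    have : η ∈ Set.range hV.fromSpec := by rw [hV.range_fromSpec]; exact hηV
    exact this
  have hred := H V hV U hU hUV' p hp
  subst hp
  refine ⟨_, pieceMap g hV hU hUV' p, inferInstance, hred, ?_⟩
  unfold pieceMap
  rw [Scheme.Pullback.range_map]
  refine ⟨?_, ?_⟩
  · rw [Set.mem_preimage, hU.range_fromSpec]
    exact hxU
  · rw [Set.mem_preimage]
    have : Function.Surjective (Spec.map (hV.fromSpec.residueFieldMap p)) := by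
      exact (Scheme.Hom.homeomorph (Spec.map (hV.fromSpec.residueFieldMap p))).surjective
    exact this _

theorem isReduced_piece_iff {R S : CommRingCat.{u}} (φ : R ⟶ S) (p : PrimeSpectrum R) :
    IsReduced (pullback (Spec.map φ) ((Spec R).fromSpecResidueField p)) ↔
      (letI := φ.hom.toAlgebra; _root_.IsReduced (p.asIdeal.Fiber S)) := by
  letI := φ.hom.toAlgebra
  exact isReduced_fiber_Spec_iff (R := R) (S := S) p

theorem main {X Y : Scheme.{u}} (f : X ⟶ Y) [IrreducibleSpace ↑Y] [LocallyOfFiniteType f]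
    (h : ¬ IsReduced (f.fiber (genericPoint ↑Y))) :
    ∃ V : Y.Opens, (V : Set ↑Y).Nonempty ∧ ∀ y ∈ V, ¬ IsReduced (f.fiber y) := by
  obtain ⟨V, hV, U, hU, hUV, p, hp, hnr⟩ : ∃ (V : Y.Opens) (hV : IsAffineOpen V) (U : X.Opens)
      (_ : IsAffineOpen U) (hUV : U ≤ f ⁻¹ᵁ V) (p : Spec Γ(Y, V)),
      hV.fromSpec p = genericPoint ↑Y ∧
      ¬ IsReduced (pullback (Spec.map (f.appLE V U hUV))
        ((Spec Γ(Y, V)).fromSpecResidueField p)) := by
    by_contra hcon
    apply h
    apply isReduced_fiber_of_pieces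
    intro V hV U hU hUV p hp
    by_contra hnr
    exact hcon ⟨V, hV, U, hU, hUV, p, hp, hnr⟩
  rw [isReduced_piece_iff] at hnr
  letI := (f.appLE V U hUV).hom.toAlgebra
  have hft : (f.appLE V U hUV).hom.FiniteType := f.finiteType_appLE hV hU hUV
  haveI : Algebra.FiniteType Γ(Y, V) Γ(X, U) := hft
  let P : PrimeSpectrum Γ(Y, V) := p
  have hle : ∀ q : Ideal Γ(Y, V), q.IsPrime → P.asIdeal ≤ q := by
    intro q hq
    let Q : PrimeSpectrum Γ(Y, V) := ⟨q, hq⟩
    have h1 : hV.fromSpec p ⤳ hV.fromSpec Q := by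
      rw [hp]; exact genericPoint_specializes _
    have h2 : P ⤳ Q := hV.fromSpec.isOpenEmbedding.isInducing.specializes_iff.mp h1
    exact (PrimeSpectrum.le_iff_specializes P Q).mpr h2
  obtain ⟨g, hg, H⟩ := exists_forall_not_isReduced_fiber (R := Γ(Y, V)) (S := Γ(X, U))
    P.asIdeal hle hnr
  refine ⟨Y.basicOpen g, ⟨genericPoint Y, ?_⟩, ?_⟩
  · rw [← hp]
    change p ∈ hV.fromSpec ⁻¹ᵁ Y.basicOpen g
    rw [hV.fromSpec_preimage_basicOpen]
    exact hg
  · intro y hy
    have hyV : y ∈ V := Y.basicOpen_le g hy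
    obtain ⟨q, rfl⟩ : ∃ q : Spec Γ(Y, V), hV.fromSpec q = y := by
      have : y ∈ Set.range hV.fromSpec := by rw [hV.range_fromSpec]; exact hyV
      exact this
    have hq : q ∈ hV.fromSpec ⁻¹ᵁ Y.basicOpen g := hy
    rw [hV.fromSpec_preimage_basicOpen] at hq
    apply not_isReduced_fiber_of_piece f hV hU hUV q
    rw [isReduced_piece_iff]
    let Q : PrimeSpectrum Γ(Y, V) := q
    exact H Q.asIdeal hq

end Groth.Agent.Lib.Helper12.H12FibRedS
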