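import Mathlib
import Groth.Agent.S5094

set_option autoImplicit false
universe u

namespace H12S4808

open CategoryTheory CategoryTheory.Limits AlgebraicGeometry

theorem main {Y' Y : Scheme.{u}} [IsIntegral Y'] [IsIntegral Y]
    (hN : ∀ y : Y, IsIntegrallyClosed (Y.presheaf.stalk y)) (u : Y' ⟶ Y) [IsFinite u]
    (hgen : u (genericPoint Y') = genericPoint Y)
    (hbir : IsIso (u.stalkMap (genericPoint Y'))) : IsIso u := by
  -- surjectivity
  have hsurj : Function.Surjective u := by
    have hcl : IsClosed (Set.range u) := u.isClosedMap.isClosed_range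
    have hmem : genericPoint Y ∈ Set.range u := ⟨_, hgen⟩
    have : closure {genericPoint Y} ⊆ Set.range u :=
      hcl.closure_subset_iff.mpr (Set.singleton_subset_iff.mpr hmem)
    rw [(genericPoint_spec Y).def] at this
    intro y
    exact this (Set.mem_univ y)
  have hloc : ∀ y : Y, ∃ U : Y.Opens, y ∈ U ∧ IsIso (u ∣_ U) := by
    intro y
    obtain ⟨x', hx'⟩ := hsurj y
    have hx'mem : x' ∈ Set.range (u.fiberι y) := by
      rw [u.range_fiberι]
      exact hx'
    obtain ⟨x, -⟩ := hx'mem
    exact Groth.Agent.S5094.result u hgen hbir y (hN y) x (isOpen_discrete _)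
  choose U hyU hU using hloc
  have hsup : iSup U = ⊤ := by
    rw [eq_top_iff]
    intro y _
    exact TopologicalSpace.Opens.mem_iSup.mpr ⟨y, hyU y⟩
  exact (IsZariskiLocalAtTarget.iff_of_iSup_eq_top (P := MorphismProperty.isomorphisms Scheme.{u})
    U hsup).mpr hU

end H12S4808
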