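import Mathlib
import Groth.Agent.Lib.Helper12.ConsP2
import Groth.Agent.Lib.Helper1.ObjDescMain

set_option autoImplicit false
universe u

namespace Groth.Agent.Lib.Helper12.H12GeomP

open AlgebraicGeometry CategoryTheory Limits TopologicalSpace Topology
open Groth.Agent.Lib.Helper12.H12ConsP Groth.Agent.Lib.Helper1.ObjDesc

/-- The relation "geometrically there is a morphism `X_{k'} ⟶ Y_{k'}` with property `Q`". -/
def GeomP (Q : MorphismProperty Scheme.{u}) :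
    ∀ ⦃X Y T : Scheme.{u}⦄, (X ⟶ T) → (Y ⟶ T) → Prop :=
  fun X Y T gX gY => ∃ (T' X' Y' : Scheme.{u}) (h : T' ⟶ T) (gX' : X' ⟶ T') (gY' : Y' ⟶ T')
    (eX : X' ⟶ X) (eY : Y' ⟶ Y), IsIntegral T' ∧ Subsingleton ↥T' ∧
      IsPullback eX gX' gX h ∧ IsPullback eY gY' gY h ∧
        ∃ g : X' ⟶ Y', g ≫ gY' = gX' ∧ Q g

variable (Q : MorphismProperty Scheme.{u})

theorem isFieldStablePair_geomP [Q.IsStableUnderBaseChange] :
    ConsPropPair.IsFieldStablePair (GeomP Q) := by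
  intro X X' Y Y' T T' gX gY gX' gY' eX eY h _ _ _ _ _ _ _ _ hX hY
  constructor
  · rintro ⟨T₁, X₁, Y₁, h₁, gX₁, gY₁, eX₁, eY₁, hT₁, hT₁', hX₁, hY₁, g₁, hg₁, hQ₁⟩
    obtain ⟨t₁⟩ : Nonempty ↥T₁ := inferInstance
    obtain ⟨t'⟩ : Nonempty ↥T' := inferInstance
    obtain ⟨z, hz1, hz2⟩ := Scheme.Pullback.exists_preimage_pullback (f := h₁) (g := h) t₁ t'
      (Subsingleton.elim _ _)
    let W := pullback h₁ h
    let T₂ := Spec (W.residueField z)
    obtain ⟨a, b, hab⟩ : ∃ (a : T₂ ⟶ T₁) (b : T₂ ⟶ T'), a ≫ h₁ = b ≫ h :=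
      ⟨W.fromSpecResidueField z ≫ pullback.fst h₁ h, W.fromSpecResidueField z ≫ pullback.snd h₁ h,
        by simp [pullback.condition]⟩
    have hXb : IsPullback (pullback.fst gX' b) (pullback.snd gX' b) gX' b :=
      IsPullback.of_hasPullback _ _
    have hYb : IsPullback (pullback.fst gY' b) (pullback.snd gY' b) gY' b :=
      IsPullback.of_hasPullback _ _
    let cX : pullback gX' b ⟶ X₁ := hX₁.lift (pullback.fst gX' b ≫ eX) (pullback.snd gX' b ≫ a)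
      (by rw [Category.assoc, hX.w, ← Category.assoc, hXb.w, Category.assoc, Category.assoc, hab])
    let cY : pullback gY' b ⟶ Y₁ := hY₁.lift (pullback.fst gY' b ≫ eY) (pullback.snd gY' b ≫ a)
      (by rw [Category.assoc, hY.w, ← Category.assoc, hYb.w, Category.assoc, Category.assoc, hab])
    have hcX : IsPullback cX (pullback.snd gX' b) gX₁ a := by
      refine IsPullback.of_right ?_ (hX₁.lift_snd _ _ _) hX₁
      rw [hX₁.lift_fst, hab]
      exact hXb.paste_horiz hX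
    have hcY : IsPullback cY (pullback.snd gY' b) gY₁ a := by
      refine IsPullback.of_right ?_ (hY₁.lift_snd _ _ _) hY₁
      rw [hY₁.lift_fst, hab]
      exact hYb.paste_horiz hY
    let g₂ : pullback gX' b ⟶ pullback gY' b := hcY.lift (cX ≫ g₁) (pullback.snd gX' b)
      (by rw [Category.assoc, hg₁, hcX.w])
    have hg₂ : IsPullback cX g₂ g₁ cY := by
      refine IsPullback.of_bot ?_ (hcY.lift_fst _ _ _).symm hcY
      rw [hcY.lift_snd, hg₁]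
      exact hcX
    exact ⟨T₂, pullback gX' b, pullback gY' b, b, pullback.snd _ _, pullback.snd _ _,
      pullback.fst _ _, pullback.fst _ _, inferInstance, inferInstance, hXb, hYb, g₂,
      hcY.lift_snd _ _ _, MorphismProperty.of_isPullback hg₂ hQ₁⟩
  · rintro ⟨T₁, X₁, Y₁, h₁, gX₁, gY₁, eX₁, eY₁, hT₁, hT₁', hX₁, hY₁, g₁, hg₁, hQ₁⟩
    exact ⟨T₁, X₁, Y₁, h₁ ≫ h, gX₁, gY₁, eX₁ ≫ eX, eY₁ ≫ eY, hT₁, hT₁', hX₁.paste_horiz hX,
      hY₁.paste_horiz hY, g₁, hg₁, hQ₁⟩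

/-- fibres of a stage with property `Q` give points of the locus. -/
theorem mem_locusPair_geomP_of_stage [Q.IsStableUnderBaseChange] {X Y S W Xj Yj : Scheme.{u}}
    (u : X ⟶ S) (v : Y ⟶ S) (σ : W ⟶ S) (gj : Xj ⟶ Yj) (vj : Yj ⟶ W) (aX : Xj ⟶ X)
    (aY : Yj ⟶ Y) (hX : IsPullback aX (gj ≫ vj) u σ) (hY : IsPullback aY vj v σ) (hQj : Q gj)
    (t : W) : σ t ∈ ConsPropPair.locusPair (GeomP Q) u v := by
  have h1 := isPullback_fiberToSpecResidueField_of_isPullback hX t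
  have h2 := isPullback_fiberToSpecResidueField_of_isPullback hY t
  exact ⟨_, _, _, _, _, _, _, _, inferInstance, inferInstance, h1, h2, MoreMor.fiberMap gj vj t,
    fiberMap_fiberToSpecResidueField gj vj t,
    MorphismProperty.of_isPullback (isPullback_fiberMap gj vj t) hQj⟩


/-- `Q` descends along cofiltered limits with affine transition maps (EGA IV 8.10.5 form). -/
def DescendsInLimits (Q : MorphismProperty Scheme.{u}) : Prop :=
  ∀ {I : Type u} [SmallCategory I] [IsCofiltered I] (D : I ⥤ Scheme.{u}) (c : Cone D)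
    (_ : IsLimit c) [∀ (i j : I) (f : i ⟶ j), IsAffineHom (D.map f)] (i₀ : I)
    [CompactSpace (D.obj i₀)] [QuasiSeparatedSpace (D.obj i₀)] {X₀ Y₀ : Scheme.{u}}
    (f₀ : X₀ ⟶ Y₀) (g₀ : Y₀ ⟶ D.obj i₀)
    [LocallyOfFinitePresentation g₀] [QuasiCompact g₀] [QuasiSeparated g₀]
    [LocallyOfFinitePresentation (f₀ ≫ g₀)] [QuasiCompact (f₀ ≫ g₀)] [QuasiSeparated (f₀ ≫ g₀)]
    {X Y : Scheme.{u}} (f : X ⟶ Y) (g : Y ⟶ c.pt) (qY : Y ⟶ Y₀) (qX : X ⟶ X₀)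
    (_ : IsPullback qY g g₀ (c.π.app i₀)) (_ : IsPullback qX f f₀ qY), Q f →
    ∃ (i : I) (φ : i ⟶ i₀) (Xi Yi : Scheme.{u}) (fi : Xi ⟶ Yi) (gi : Yi ⟶ D.obj i)
      (pY : Yi ⟶ Y₀) (pX : Xi ⟶ X₀), IsPullback pY gi g₀ (D.map φ) ∧ IsPullback pX fi f₀ pY ∧
        Q fi


section

variable {I : Type u} [SmallCategory I] [IsCofiltered I] {D : I ⥤ Scheme.{u}} {c : Cone D}
  (hc : IsLimit c) [∀ (i j : I) (f : i ⟶ j), IsAffineHom (D.map f)]
  [∀ i, CompactSpace (D.obj i)] [∀ i, QuasiSeparatedSpace (D.obj i)]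

include hc in
theorem exists_stage_hom (hQ : DescendsInLimits Q) (i₀ : I) {X₀ Y₀ : Scheme.{u}}
    (u₀ : X₀ ⟶ D.obj i₀) (v₀ : Y₀ ⟶ D.obj i₀)
    [LocallyOfFinitePresentation u₀] [QuasiCompact u₀] [QuasiSeparated u₀]
    [LocallyOfFinitePresentation v₀] [QuasiCompact v₀] [QuasiSeparated v₀]
    {X' Y' : Scheme.{u}} (z : X' ⟶ c.pt) (z' : Y' ⟶ c.pt) (qX : X' ⟶ X₀) (qY : Y' ⟶ Y₀)
    (hX : IsPullback qX z u₀ (c.π.app i₀)) (hY : IsPullback qY z' v₀ (c.π.app i₀))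
    (g : X' ⟶ Y') (hg : g ≫ z' = z) (hQg : Q g) :
    ∃ (j : I) (φ : j ⟶ i₀) (Xj Yj : Scheme.{u}) (gj : Xj ⟶ Yj) (vj : Yj ⟶ D.obj j)
      (pX : Xj ⟶ X₀) (pY : Yj ⟶ Y₀), IsPullback pX (gj ≫ vj) u₀ (D.map φ) ∧
        IsPullback pY vj v₀ (D.map φ) ∧ Q gj := by
  have : ∀ {i j : I} (f : i ⟶ j), IsAffineHom (D.map f) := fun f => inferInstance
  let M : Model D c z i₀ := ⟨X₀, u₀, qX, hX⟩
  let M' : Model D c z' i₀ := ⟨Y₀, v₀, qY, hY⟩
  have hM : M.IsFP := ⟨inferInstanceAs (LocallyOfFinitePresentation u₀),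
    inferInstanceAs (QuasiCompact u₀), inferInstanceAs (QuasiSeparated u₀)⟩
  have hM' : M'.IsFP := ⟨inferInstanceAs (LocallyOfFinitePresentation v₀),
    inferInstanceAs (QuasiCompact v₀), inferInstanceAs (QuasiSeparated v₀)⟩
  obtain ⟨k, ψ, r⟩ := Model.exists_hom hc M M' hM.2.1 hM.2.2 hM'.1 g hg
  obtain ⟨n1, n2, n3⟩ := Model.reindex_isFP hM' k
  obtain ⟨m1, m2, m3⟩ := Model.reindex_isFP hM k
  have i1 : LocallyOfFinitePresentation (ψ ≫ (M'.reindex k).v) := by rw [r.over]; exact m1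
  have i2 : QuasiCompact (ψ ≫ (M'.reindex k).v) := by rw [r.over]; exact m2
  have i3 : QuasiSeparated (ψ ≫ (M'.reindex k).v) := by rw [r.over]; exact m3
  obtain ⟨i, φ, Xi, Yi, fi, gi, pY, pX, h1, h2, h3⟩ :=
    hQ D c hc k.left ψ (M'.reindex k).v g z' (M'.reindex k).g (M.reindex k).g
      (M'.reindex k).sq (r.isPullback hg) hQg
  refine ⟨i, φ ≫ k.hom, Xi, Yi, fi, gi, pX ≫ M.proj k, pY ≫ M'.proj k, ?_, ?_, h3⟩
  · rw [D.map_comp]
    have := h2.paste_vert h1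
    rw [r.over] at this
    exact this.paste_horiz (M.isPullback_proj k)
  · rw [D.map_comp]
    exact h1.paste_horiz (M'.isPullback_proj k)

include hc in
theorem exists_stage_forall_mem_locusPair [Q.IsStableUnderBaseChange] (hQ : DescendsInLimits Q)
    {X Y S : Scheme.{u}} (u : X ⟶ S) (v : Y ⟶ S)
    [LocallyOfFinitePresentation u] [QuasiCompact u] [QuasiSeparated u]
    [LocallyOfFinitePresentation v] [QuasiCompact v] [QuasiSeparated v]
    (σ : ∀ i, D.obj i ⟶ S) (hσ : ∀ {i j : I} (φ : i ⟶ j), D.map φ ≫ σ j = σ i) (i₀ : I)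
    {X' Y' : Scheme.{u}} (z : X' ⟶ c.pt) (z' : Y' ⟶ c.pt) (eX : X' ⟶ X) (eY : Y' ⟶ Y)
    (hX : IsPullback eX z u (c.π.app i₀ ≫ σ i₀)) (hY : IsPullback eY z' v (c.π.app i₀ ≫ σ i₀))
    (g : X' ⟶ Y') (hg : g ≫ z' = z) (hQg : Q g) :
    ∃ j : I, ∀ t : ↥(D.obj j), σ j t ∈ ConsPropPair.locusPair (GeomP Q) u v := by
  have hX₀ : IsPullback (pullback.fst u (σ i₀)) (pullback.snd u (σ i₀)) u (σ i₀) :=
    IsPullback.of_hasPullback _ _
  have hY₀ : IsPullback (pullback.fst v (σ i₀)) (pullback.snd v (σ i₀)) v (σ i₀) :=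
    IsPullback.of_hasPullback _ _
  let qX : X' ⟶ pullback u (σ i₀) := pullback.lift eX (z ≫ c.π.app i₀)
    (by rw [hX.w, Category.assoc])
  let qY : Y' ⟶ pullback v (σ i₀) := pullback.lift eY (z' ≫ c.π.app i₀)
    (by rw [hY.w, Category.assoc])
  have hqX : IsPullback qX z (pullback.snd u (σ i₀)) (c.π.app i₀) := by
    refine IsPullback.of_right ?_ (pullback.lift_snd _ _ _) hX₀
    rw [pullback.lift_fst]
    exact hX
  have hqY : IsPullback qY z' (pullback.snd v (σ i₀)) (c.π.app i₀) := by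
    refine IsPullback.of_right ?_ (pullback.lift_snd _ _ _) hY₀
    rw [pullback.lift_fst]
    exact hY
  obtain ⟨j, φ, Xj, Yj, gj, vj, pX, pY, h1, h2, h3⟩ := exists_stage_hom Q hc hQ i₀
    (pullback.snd u (σ i₀)) (pullback.snd v (σ i₀)) z z' qX qY hqX hqY g hg hQg
  refine ⟨j, fun t => ?_⟩
  have k1 := h1.paste_horiz hX₀
  have k2 := h2.paste_horiz hY₀
  rw [hσ φ] at k1 k2
  exact mem_locusPair_geomP_of_stage Q u v (σ j) gj vj _ _ k1 k2 h3 t

end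

end Groth.Agent.Lib.Helper12.H12GeomP
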