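import Mathlib
import Groth.Agent.Lib.Helper12.GeomP1
import Groth.Agent.Lib.Helper12.ConsP7
import Groth.Agent.Lib.Helper1.RSLimit

set_option autoImplicit false
universe u

namespace Groth.Agent.Lib.Helper12.H12GeomP

open AlgebraicGeometry CategoryTheory Limits TopologicalSpace Topology
open Groth.Agent.Lib.Helper12.H12ConsP Groth.Agent.Lib.Helper1.ObjDesc
open Groth.Agent.Lib.Helper12.IndFG Groth.Agent.Lib.Helper1.RSLimit

section

variable (R K : Type u) [CommRing R] [CommRing K] [Algebra R K]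

/-- the cofiltered system of spectra of finitely generated subalgebras. -/
noncomputable abbrev fgD' : (FGSub R K)ᵒᵖ ⥤ Scheme.{u} :=
  (fgDiag R K).op ⋙ Scheme.Spec

noncomputable abbrev fgC' : Cone (fgD' R K) :=
  Scheme.Spec.mapCone (fgCocone R K).op

noncomputable def fgIsLimit' : IsLimit (fgC' R K) :=
  isLimitOfPreserves Scheme.Spec (nonempty_isColimit_fgCocone R K).some.op

instance fgD'_isAffineHom (i j : (FGSub R K)ᵒᵖ) (t : i ⟶ j) :
    IsAffineHom ((fgD' R K).map t) := by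
  dsimp [fgD']; infer_instance

instance fgD'_isAffine (i : (FGSub R K)ᵒᵖ) : IsAffine ((fgD' R K).obj i) := by
  dsimp [fgD']; infer_instance

/-- the structure maps to `Spec R`. -/
noncomputable abbrev fgσ (i : (FGSub R K)ᵒᵖ) : (fgD' R K).obj i ⟶ Spec (CommRingCat.of R) :=
  Spec.map (CommRingCat.ofHom (algebraMap R i.unop.1))

theorem fgσ_map {i j : (FGSub R K)ᵒᵖ} (t : i ⟶ j) : (fgD' R K).map t ≫ fgσ R K j = fgσ R K i := by
  dsimp [fgD', fgσ]
  rw [← Spec.map_comp]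
  rfl

/-- the cone projections, with explicit source. -/
noncomputable abbrev fgπ (i : (FGSub R K)ᵒᵖ) : Spec (CommRingCat.of K) ⟶ (fgD' R K).obj i :=
  (fgC' R K).π.app i

theorem fgπ_fgσ (i : (FGSub R K)ᵒᵖ) :
    fgπ R K i ≫ fgσ R K i = Spec.map (CommRingCat.ofHom (algebraMap R K)) := by
  change Spec.map (CommRingCat.ofHom (i.unop.1.val.toRingHom)) ≫
    Spec.map (CommRingCat.ofHom (algebraMap R i.unop.1)) = _
  rw [← Spec.map_comp]
  rfl

instance fgσ_locallyOfFiniteType (i : (FGSub R K)ᵒᵖ) : LocallyOfFiniteType (fgσ R K i) := by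
  have hft : Algebra.FiniteType R i.unop.1 := (Subalgebra.fg_iff_finiteType _).mp i.unop.2
  rw [HasRingHomProperty.Spec_iff (P := @LocallyOfFiniteType)]
  exact (RingHom.finiteType_algebraMap (A := R) (B := i.unop.1)).mpr hft

end

section Main

variable (Q : MorphismProperty Scheme.{u})

set_option maxHeartbeats 1600000 in
theorem interior_locusPair_geomP_nonempty [Q.IsStableUnderBaseChange] (hQ : DescendsInLimits Q)
    {X Y S : Scheme.{u}} [IsIntegral S] [IsNoetherian S] (u : X ⟶ S) (v : Y ⟶ S)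
    [LocallyOfFiniteType u] [QuasiCompact u] [LocallyOfFiniteType v] [QuasiCompact v]
    {T' X' Y' : Scheme.{u}} [IsIntegral T'] [Subsingleton ↥T'] (τ : T' ⟶ S)
    (hτ : ∀ t, τ t = genericPoint S) (gX' : X' ⟶ T') (gY' : Y' ⟶ T') (eX : X' ⟶ X)
    (eY : Y' ⟶ Y) (hX : IsPullback eX gX' u τ) (hY : IsPullback eY gY' v τ) (g : X' ⟶ Y')
    (hg : g ≫ gY' = gX') (hQg : Q g) :
    (interior (ConsPropPair.locusPair (GeomP Q) u v)).Nonempty := by
  obtain ⟨U, hU, hηU⟩ : ∃ U : S.Opens, IsAffineOpen U ∧ genericPoint S ∈ U := by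
    obtain ⟨_, ⟨U, hU, rfl⟩, hηU, -⟩ := S.isBasis_affineOpens.exists_subset_of_mem_open
      (Set.mem_univ (genericPoint S)) isOpen_univ
    exact ⟨U, hU, hηU⟩
  haveI : IsAffine (U : Scheme.{u}) := hU
  have hτU : Set.range τ ⊆ Set.range U.ι := by
    rintro _ ⟨t, rfl⟩
    rw [hτ t, Scheme.Opens.range_ι]
    exact hηU
  let τ₀ : T' ⟶ U := IsOpenImmersion.lift U.ι τ hτU
  have hτ₀ : τ₀ ≫ U.ι = τ := IsOpenImmersion.lift_fac _ _ _
  letI : Algebra Γ(↑U, ⊤) Γ(T', ⊤) := τ₀.appTop.hom.toAlgebra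
  let ρ : Spec (CommRingCat.of Γ(↑U, ⊤)) ⟶ S := (U : Scheme).isoSpec.inv ≫ U.ι
  let σ : ∀ i, (fgD' Γ(↑U, ⊤) Γ(T', ⊤)).obj i ⟶ S := fun i => fgσ Γ(↑U, ⊤) Γ(T', ⊤) i ≫ ρ
  have hσ : ∀ {i j : (FGSub Γ(↑U, ⊤) Γ(T', ⊤))ᵒᵖ} (φ : i ⟶ j),
      (fgD' Γ(↑U, ⊤) Γ(T', ⊤)).map φ ≫ σ j = σ i := fun φ => by
    dsimp only [σ]
    rw [← Category.assoc, fgσ_map]
  let i₀ : (FGSub Γ(↑U, ⊤) Γ(T', ⊤))ᵒᵖ := Opposite.op ⟨⊥, Subalgebra.fg_bot⟩
  have hπσ : ∀ i, fgπ Γ(↑U, ⊤) Γ(T', ⊤) i ≫ σ i = Spec.map τ₀.appTop ≫ ρ := fun i => by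
    dsimp only [σ]
    rw [← Category.assoc, fgπ_fgσ]
    rfl
  have key : T'.isoSpec.hom ≫ fgπ Γ(↑U, ⊤) Γ(T', ⊤) i₀ ≫ σ i₀ = τ := by
    rw [hπσ]
    dsimp only [ρ]
    rw [← Category.assoc, Scheme.isoSpec_hom_naturality, Category.assoc, Iso.hom_inv_id_assoc, hτ₀]
  haveI : IsLocallyNoetherian X := LocallyOfFiniteType.isLocallyNoetherian u
  haveI : IsLocallyNoetherian Y := LocallyOfFiniteType.isLocallyNoetherian v
  haveI : LocallyOfFinitePresentation u := inferInstance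
  haveI : LocallyOfFinitePresentation v := inferInstance
  haveI : QuasiSeparated u := inferInstance
  haveI : QuasiSeparated v := inferInstance
  have hX' : IsPullback eX (gX' ≫ T'.isoSpec.hom) u
      ((fgC' Γ(↑U, ⊤) Γ(T', ⊤)).π.app i₀ ≫ σ i₀) := by
    refine hX.of_iso (Iso.refl _) (Iso.refl _) T'.isoSpec (Iso.refl _) ?_ ?_ ?_ ?_
    · simp
    · simp
    · simp
    · rw [Iso.refl_hom, Category.comp_id]; exact key.symm
  have hY' : IsPullback eY (gY' ≫ T'.isoSpec.hom) v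
      ((fgC' Γ(↑U, ⊤) Γ(T', ⊤)).π.app i₀ ≫ σ i₀) := by
    refine hY.of_iso (Iso.refl _) (Iso.refl _) T'.isoSpec (Iso.refl _) ?_ ?_ ?_ ?_
    · simp
    · simp
    · simp
    · rw [Iso.refl_hom, Category.comp_id]; exact key.symm
  obtain ⟨j, hj⟩ := exists_stage_forall_mem_locusPair Q (fgIsLimit' Γ(↑U, ⊤) Γ(T', ⊤)) hQ u v σ hσ
    i₀ (gX' ≫ T'.isoSpec.hom) (gY' ≫ T'.isoSpec.hom) eX eY hX' hY' g
    (by rw [← Category.assoc, hg]) hQg
  haveI : LocallyOfFiniteType (σ j) := by dsimp only [σ, ρ]; infer_instance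
  haveI : LocallyOfFinitePresentation (σ j) := inferInstance
  haveI : QuasiCompact (σ j) := inferInstance
  have hE : IsConstructible (Set.range (σ j)) := by
    rw [← Set.image_univ]
    exact (σ j).isConstructible_image IsConstructible.univ
  have hηE : genericPoint S ∈ Set.range (σ j) := by
    obtain ⟨t₀⟩ : Nonempty ↥T' := inferInstance
    refine ⟨fgπ Γ(↑U, ⊤) Γ(T', ⊤) j (T'.isoSpec.hom t₀), ?_⟩
    rw [← hτ t₀, ← key, hπσ i₀, ← hπσ j]
    rfl
  have hsub : Set.range (σ j) ⊆ ConsPropPair.locusPair (GeomP Q) u v := by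
    rintro _ ⟨t, rfl⟩
    exact hj t
  rcases dichotomy_of_isConstructible hE with h | h
  · exact h.mono (interior_mono hsub)
  · exfalso
    have := ((genericPoint_spec S).mem_open_set_iff isOpen_interior).mpr
      (by rw [Set.univ_inter]; exact h)
    exact interior_subset this hηE

/-- **Geometric existence of a morphism with property `Q` is an ind-constructible property of
pairs**, for `Q` stable under base change and descending along limits. -/
theorem isIndConsPair_geomP [Q.IsStableUnderBaseChange] (hQ : DescendsInLimits Q) :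
    ConsPropPair.IsIndConsPair (GeomP Q) := by
  refine ⟨isFieldStablePair_geomP Q, ?_⟩
  intro X Y S u v _ _ _ _ _ _ hη
  obtain ⟨T', X', Y', h, gX', gY', eX, eY, hT', hT'', hX, hY, g, hg, hQg⟩ := hη
  exact interior_locusPair_geomP_nonempty Q hQ u v
    (h ≫ S.fromSpecResidueField (genericPoint S)) (fun t => by simp) gX' gY'
    (eX ≫ u.fiberι _) (eY ≫ v.fiberι _)
    (hX.paste_horiz (IsPullback.of_hasPullback _ _))
    (hY.paste_horiz (IsPullback.of_hasPullback _ _)) g hg hQg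

end Main

end Groth.Agent.Lib.Helper12.H12GeomP
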