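import Mathlib
import Groth.Agent.Lib.Helper12.GeomP2
import Groth.Agent.Lib.Helper13.IsoDescent
import Groth.Agent.Lib.Helper25.QAff
import Groth.Agent.S2579
import Groth.Agent.S2580
import Groth.Agent.S2581
import Groth.Agent.S2582
import Groth.Agent.S2583
import Groth.Agent.S2589
import Groth.Agent.S2590
import Groth.Agent.S2592
import Groth.Agent.S9187
import Groth.Agent.S9189
import Groth.Agent.S9190

set_option autoImplicit false
universe u

namespace Groth.Agent.Lib.Helper12.H12GeomP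

open AlgebraicGeometry CategoryTheory Limits TopologicalSpace Topology

theorem descends_isIso : DescendsInLimits (MorphismProperty.isomorphisms Scheme.{u}) := by
  intro I _ _ D c hc _ i₀ _ _ X₀ Y₀ f₀ g₀ _ _ _ _ _ _ X Y f g qY qX hY hX hf
  have : ∀ {i j : I} (f : i ⟶ j), IsAffineHom (D.map f) := fun f => inferInstance
  haveI : IsIso f := hf
  obtain ⟨j, hj⟩ := Groth.Agent.Lib.Helper13.LimitDescent.exists_isIso_stage hc hY hX
  exact Groth.Agent.Lib.Helper13.LimitDescent.conclusion D i₀ f₀ g₀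
    (fun f => IsIso f) j hj

theorem descends_mono : DescendsInLimits (MorphismProperty.monomorphisms Scheme.{u}) := by
  intro I _ _ D c hc _ i₀ _ _ X₀ Y₀ f₀ g₀ _ _ _ _ _ _ X Y f g qY qX hY hX hf
  haveI : Mono f := hf
  exact Groth.Agent.S2579.result D c hc i₀ f₀ g₀ f g qY qX hY hX

theorem descends_isOpenImmersion : DescendsInLimits @IsOpenImmersion.{u} := by
  intro I _ _ D c hc _ i₀ _ _ X₀ Y₀ f₀ g₀ _ _ _ _ _ _ X Y f g qY qX hY hX hf
  haveI : IsOpenImmersion f := hf
  exact Groth.Agent.S2580.result D c hc i₀ f₀ g₀ f g qY qX hY hX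

theorem descends_surjective : DescendsInLimits @Surjective.{u} := by
  intro I _ _ D c hc _ i₀ _ _ X₀ Y₀ f₀ g₀ _ _ _ _ _ _ X Y f g qY qX hY hX hf
  haveI : Surjective f := hf
  exact Groth.Agent.S2581.result D c hc i₀ f₀ g₀ f g qY qX hY hX

theorem descends_isAffineHom : DescendsInLimits @IsAffineHom.{u} := by
  intro I _ _ D c hc _ i₀ _ _ X₀ Y₀ f₀ g₀ _ _ _ _ _ _ X Y f g qY qX hY hX hf
  haveI : IsAffineHom f := hf
  exact Groth.Agent.S2582.result D c hc i₀ f₀ g₀ f g qY qX hY hX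

theorem descends_isImmersion : DescendsInLimits @IsImmersion.{u} := by
  intro I _ _ D c hc _ i₀ _ _ X₀ Y₀ f₀ g₀ _ _ _ _ _ _ X Y f g qY qX hY hX hf
  haveI : IsImmersion f := hf
  exact Groth.Agent.S2589.result D c hc i₀ f₀ g₀ f g qY qX hY hX

theorem descends_universallyInjective : DescendsInLimits @UniversallyInjective.{u} := by
  intro I _ _ D c hc _ i₀ _ _ X₀ Y₀ f₀ g₀ _ _ _ _ _ _ X Y f g qY qX hY hX hf
  haveI : UniversallyInjective f := hf
  exact Groth.Agent.S2590.result D c hc i₀ f₀ g₀ f g qY qX hY hX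

theorem descends_isClosedImmersion : DescendsInLimits @IsClosedImmersion.{u} := by
  intro I _ _ D c hc _ i₀ _ _ X₀ Y₀ f₀ g₀ _ _ _ _ _ _ X Y f g qY qX hY hX hf
  haveI : IsClosedImmersion f := hf
  haveI : CompactSpace Y₀ := QuasiCompact.compactSpace_of_compactSpace g₀
  haveI : QuasiSeparatedSpace Y₀ := quasiSeparatedSpace_of_quasiSeparated g₀
  haveI : CompactSpace X₀ := QuasiCompact.compactSpace_of_compactSpace (f₀ ≫ g₀)
  haveI : QuasiSeparatedSpace X₀ := quasiSeparatedSpace_of_quasiSeparated (f₀ ≫ g₀)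
  haveI : LocallyOfFiniteType f₀ := locallyOfFiniteType_of_comp f₀ g₀
  exact Groth.Agent.S9189.result D c hc i₀ f₀ g₀ f g qY qX hY hX

theorem descends_isSeparated : DescendsInLimits @IsSeparated.{u} := by
  intro I _ _ D c hc _ i₀ _ _ X₀ Y₀ f₀ g₀ _ _ _ _ _ _ X Y f g qY qX hY hX hf
  haveI : IsSeparated f := hf
  haveI : CompactSpace Y₀ := QuasiCompact.compactSpace_of_compactSpace g₀
  haveI : QuasiSeparatedSpace Y₀ := quasiSeparatedSpace_of_quasiSeparated g₀
  haveI : CompactSpace X₀ := QuasiCompact.compactSpace_of_compactSpace (f₀ ≫ g₀)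
  haveI : QuasiSeparatedSpace X₀ := quasiSeparatedSpace_of_quasiSeparated (f₀ ≫ g₀)
  exact Groth.Agent.S9190.result D c hc i₀ f₀ g₀ f g qY qX hY hX

theorem descends_isFinite : DescendsInLimits @IsFinite.{u} := by
  intro I _ _ D c hc _ i₀ _ _ X₀ Y₀ f₀ g₀ _ _ _ _ _ _ X Y f g qY qX hY hX hf
  haveI : IsFinite f := hf
  haveI : CompactSpace Y₀ := QuasiCompact.compactSpace_of_compactSpace g₀
  haveI : QuasiSeparatedSpace Y₀ := quasiSeparatedSpace_of_quasiSeparated g₀
  haveI : CompactSpace X₀ := QuasiCompact.compactSpace_of_compactSpace (f₀ ≫ g₀)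
  haveI : QuasiSeparatedSpace X₀ := quasiSeparatedSpace_of_quasiSeparated (f₀ ≫ g₀)
  haveI : LocallyOfFiniteType f₀ := locallyOfFiniteType_of_comp f₀ g₀
  exact Groth.Agent.S9187.result D c hc i₀ f₀ g₀ f g qY qX hY hX

/-- quasi-finite: locally of finite type, quasi-compact, locally quasi-finite. -/
def QF : MorphismProperty Scheme.{u} :=
  fun _ _ g => LocallyOfFiniteType g ∧ QuasiCompact g ∧ LocallyQuasiFinite g

instance : (QF.{u}).IsStableUnderBaseChange where
  of_isPullback sq h :=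
    ⟨MorphismProperty.of_isPullback sq h.1, MorphismProperty.of_isPullback sq h.2.1,
      MorphismProperty.of_isPullback sq h.2.2⟩

theorem descends_QF : DescendsInLimits QF.{u} := by
  intro I _ _ D c hc _ i₀ _ _ X₀ Y₀ f₀ g₀ _ _ _ _ _ _ X Y f g qY qX hY hX hf
  haveI : LocallyQuasiFinite f := hf.2.2
  haveI : LocallyOfFiniteType f₀ := locallyOfFiniteType_of_comp f₀ g₀
  haveI : QuasiCompact f₀ := QuasiCompact.of_comp f₀ g₀
  obtain ⟨i, φ, Xi, Yi, fi, gi, pY, pX, h1, h2, h3⟩ :=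
    Groth.Agent.S2583.result D c hc i₀ f₀ g₀ f g qY qX hY hX
  exact ⟨i, φ, Xi, Yi, fi, gi, pY, pX, h1, h2, MorphismProperty.of_isPullback h2 inferInstance,
    MorphismProperty.of_isPullback h2 inferInstance, h3⟩

/-- quasi-affine morphisms. -/
def QA : MorphismProperty Scheme.{u} := fun _ _ g => MoreMor.IsQuasiAffineHom g

instance : (QA.{u}).IsStableUnderBaseChange where
  of_isPullback sq h := Groth.Agent.Lib.Helper25.QAff.isQuasiAffine_of_isPullback sq h

theorem descends_QA : DescendsInLimits QA.{u} := by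
  intro I _ _ D c hc _ i₀ _ _ X₀ Y₀ f₀ g₀ _ _ _ _ _ _ X Y f g qY qX hY hX hf
  exact Groth.Agent.S2592.result D c hc i₀ f₀ g₀ f g qY qX hY hX hf

end Groth.Agent.Lib.Helper12.H12GeomP
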