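import Mathlib
import Groth.Agent.Lib.Helper12.GeomP3
import Groth.Agent.Lib.Helper12.ConsP5
import Groth.Agent.S0082

set_option autoImplicit false
universe u

namespace Groth.Agent.Lib.Helper12.H12GeomP

open AlgebraicGeometry CategoryTheory Limits TopologicalSpace Topology
open Groth.Agent.Lib.Helper12.H12ConsP Groth.Agent.Lib.Helper1.ObjDesc
open Groth.Agent.Lib.Helper12.IndFG Groth.Agent.Lib.Helper1.RSLimit

set_option maxHeartbeats 1600000 in
/-- A subset `L` of an integral Noetherian scheme `S` has nonempty interior as soon as, for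
every cofiltered system of affine `S`-schemes of finite type with affine transition maps whose
limit is a one-point scheme `T'` lying over the generic point, `L` contains the image of some
stage. -/
theorem interior_nonempty_of_system {S : Scheme.{u}} [IsIntegral S] [IsNoetherian S] (L : Set S)
    {T' : Scheme.{u}} [IsIntegral T'] [Subsingleton ↥T'] (τ : T' ⟶ S)
    (hτ : ∀ t, τ t = genericPoint S)
    (H : ∀ {I : Type u} [SmallCategory I] [IsCofiltered I] (D : I ⥤ Scheme.{u}) (c : Cone D)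
      (_ : IsLimit c) [∀ (i j : I) (f : i ⟶ j), IsAffineHom (D.map f)] [∀ i, IsAffine (D.obj i)]
      (σ : ∀ i, D.obj i ⟶ S) (_ : ∀ {i j : I} (φ : i ⟶ j), D.map φ ≫ σ j = σ i) (i₀ : I)
      (e : T' ⟶ c.pt) (_ : e ≫ c.π.app i₀ ≫ σ i₀ = τ) (_ : IsIso e),
      ∃ j : I, ∀ t : ↥(D.obj j), σ j t ∈ L) :
    (interior L).Nonempty := by
  obtain ⟨U, hU, hηU⟩ : ∃ U : S.Opens, IsAffineOpen U ∧ genericPoint S ∈ U := by
    obtain ⟨_, ⟨U, hU, rfl⟩, hηU, -⟩ := S.isBasis_affineOpens.exists_subset_of_mem_open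
      (Set.mem_univ (genericPoint S)) isOpen_univ
    exact ⟨U, hU, hηU⟩
  haveI : IsAffine (U : Scheme.{u}) := hU
  have hτU : Set.range τ ⊆ Set.range U.ι := by
    rintro _ ⟨t, rfl⟩
    rw [hτ t, Scheme.Opens.range_ι]
    exact hηU
  let τ₀ : T' ⟶ U := IsOpenImmersion.lift U.ι τ hτU
  have hτ₀ : τ₀ ≫ U.ι = τ := IsOpenImmersion.lift_fac _ _ _
  letI : Algebra Γ(↑U, ⊤) Γ(T', ⊤) := τ₀.appTop.hom.toAlgebra
  let ρ : Spec (CommRingCat.of Γ(↑U, ⊤)) ⟶ S := (U : Scheme).isoSpec.inv ≫ U.ι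
  let σ : ∀ i, (fgD' Γ(↑U, ⊤) Γ(T', ⊤)).obj i ⟶ S := fun i => fgσ Γ(↑U, ⊤) Γ(T', ⊤) i ≫ ρ
  have hσ : ∀ {i j : (FGSub Γ(↑U, ⊤) Γ(T', ⊤))ᵒᵖ} (φ : i ⟶ j),
      (fgD' Γ(↑U, ⊤) Γ(T', ⊤)).map φ ≫ σ j = σ i := fun φ => by
    dsimp only [σ]
    rw [← Category.assoc, fgσ_map]
  let i₀ : (FGSub Γ(↑U, ⊤) Γ(T', ⊤))ᵒᵖ := Opposite.op ⟨⊥, Subalgebra.fg_bot⟩
  have hπσ : ∀ i, fgπ Γ(↑U, ⊤) Γ(T', ⊤) i ≫ σ i = Spec.map τ₀.appTop ≫ ρ := fun i => by
    dsimp only [σ]
    rw [← Category.assoc, fgπ_fgσ]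
    rfl
  have key : T'.isoSpec.hom ≫ fgπ Γ(↑U, ⊤) Γ(T', ⊤) i₀ ≫ σ i₀ = τ := by
    rw [hπσ]
    dsimp only [ρ]
    rw [← Category.assoc, Scheme.isoSpec_hom_naturality, Category.assoc, Iso.hom_inv_id_assoc, hτ₀]
  obtain ⟨j, hj⟩ := H (fgD' Γ(↑U, ⊤) Γ(T', ⊤)) (fgC' Γ(↑U, ⊤) Γ(T', ⊤))
    (fgIsLimit' Γ(↑U, ⊤) Γ(T', ⊤)) σ hσ i₀ T'.isoSpec.hom key inferInstance
  haveI : LocallyOfFiniteType (σ j) := by dsimp only [σ, ρ]; infer_instance
  haveI : LocallyOfFinitePresentation (σ j) := inferInstance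
  haveI : QuasiCompact (σ j) := inferInstance
  have hE : IsConstructible (Set.range (σ j)) := by
    rw [← Set.image_univ]
    exact (σ j).isConstructible_image IsConstructible.univ
  have hηE : genericPoint S ∈ Set.range (σ j) := by
    obtain ⟨t₀⟩ : Nonempty ↥T' := inferInstance
    refine ⟨fgπ Γ(↑U, ⊤) Γ(T', ⊤) j (T'.isoSpec.hom t₀), ?_⟩
    rw [← hτ t₀, ← key, hπσ i₀, ← hπσ j]
    rfl
  have hsub : Set.range (σ j) ⊆ L := by
    rintro _ ⟨t, rfl⟩
    exact hj t
  rcases dichotomy_of_isConstructible hE with h | h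
  · exact h.mono (interior_mono hsub)
  · exfalso
    have := ((genericPoint_spec S).mem_open_set_iff isOpen_interior).mpr
      (by rw [Set.univ_inter]; exact h)
    exact interior_subset this hηE

set_option maxHeartbeats 1600000 in
/-- A property of morphisms that is stable under base change, descends along fpqc coverings and
descends along limits gives an ind-constructible relation `P(f, X, Y, k) := Q f`. -/
theorem isIndConsMor_of_descends (Q : MorphismProperty Scheme.{u}) [Q.IsStableUnderBaseChange]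
    [Q.DescendsAlong (@Surjective ⊓ @Flat ⊓ @QuasiCompact)] (hQ : DescendsInLimits Q) :
    ConsProp.IsIndConsMor (fun X Y T f g => Q f) := by
  have hP : ConsProp.IsFieldStableMor (fun X Y T f g => Q f) := isFieldStableMor_of_descends Q
  refine ⟨hP, ?_⟩
  intro X Y S f g _ _ _ _ _ _ hη
  haveI : IsLocallyNoetherian Y := LocallyOfFiniteType.isLocallyNoetherian g
  haveI : IsLocallyNoetherian X := LocallyOfFiniteType.isLocallyNoetherian (f ≫ g)
  haveI : LocallyOfFinitePresentation g := inferInstance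
  haveI : LocallyOfFinitePresentation (f ≫ g) := inferInstance
  haveI : QuasiSeparated g := inferInstance
  haveI : QuasiSeparated (f ≫ g) := inferInstance
  refine interior_nonempty_of_system _ (S.fromSpecResidueField (genericPoint S))
    (fun t => by simp) ?_
  intro I _ _ D c hc _ _ σ hσ i₀ e he _
  have hY₀ : IsPullback (pullback.fst g (σ i₀)) (pullback.snd g (σ i₀)) g (σ i₀) :=
    IsPullback.of_hasPullback _ _
  have hX₀ : IsPullback (pullback.fst f (pullback.fst g (σ i₀)))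
      (pullback.snd f (pullback.fst g (σ i₀))) f (pullback.fst g (σ i₀)) :=
    IsPullback.of_hasPullback _ _
  have hXY₀ := hX₀.paste_vert hY₀
  haveI : LocallyOfFinitePresentation (pullback.snd f (pullback.fst g (σ i₀)) ≫
      pullback.snd g (σ i₀)) := MorphismProperty.of_isPullback hXY₀ inferInstance
  haveI : QuasiCompact (pullback.snd f (pullback.fst g (σ i₀)) ≫
      pullback.snd g (σ i₀)) := MorphismProperty.of_isPullback hXY₀ inferInstance
  haveI : QuasiSeparated (pullback.snd f (pullback.fst g (σ i₀)) ≫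
      pullback.snd g (σ i₀)) := MorphismProperty.of_isPullback hXY₀ inferInstance
  let η := genericPoint S
  let gc : g.fiber η ⟶ c.pt := g.fiberToSpecResidueField η ≫ e
  have hbigY : IsPullback (g.fiberι η) gc g (c.π.app i₀ ≫ σ i₀) := by
    refine (IsPullback.of_hasPullback g (S.fromSpecResidueField η)).of_iso (Iso.refl _)
      (Iso.refl _) (asIso e) (Iso.refl _) ?_ ?_ ?_ ?_
    · exact (Category.comp_id _).trans (Category.id_comp _).symm
    · exact (Category.id_comp _).symm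
    · simp
    · rw [Iso.refl_hom, Category.comp_id]; exact he.symm
  let qY : g.fiber η ⟶ pullback g (σ i₀) := pullback.lift (g.fiberι η) (gc ≫ c.π.app i₀)
    (by rw [hbigY.w]; simp only [gc, Category.assoc])
  have hqY : IsPullback qY gc (pullback.snd g (σ i₀)) (c.π.app i₀) := by
    refine IsPullback.of_right ?_ (pullback.lift_snd _ _ _) hY₀
    rw [pullback.lift_fst]
    exact hbigY
  let qX : (f ≫ g).fiber η ⟶ pullback f (pullback.fst g (σ i₀)) :=
    pullback.lift ((f ≫ g).fiberι η) (MoreMor.fiberMap f g η ≫ qY)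
      (by rw [Category.assoc, pullback.lift_fst, fiberMap_fiberι])
  have hqX : IsPullback qX (MoreMor.fiberMap f g η) (pullback.snd f (pullback.fst g (σ i₀))) qY := by
    refine IsPullback.of_right ?_ (pullback.lift_snd _ _ _) hX₀
    rw [pullback.lift_fst, pullback.lift_fst]
    exact isPullback_fiberMap f g η
  haveI : CompactSpace ↥(D.obj i₀) := inferInstance
  haveI : QuasiSeparatedSpace ↥(D.obj i₀) := inferInstance
  obtain ⟨i, φ, Xi, Yi, fi, gi, pY, pX, h1, h2, h3⟩ := hQ D c hc i₀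
    (pullback.snd f (pullback.fst g (σ i₀))) (pullback.snd g (σ i₀))
    (MoreMor.fiberMap f g η) gc qY qX hqY hqX hη
  refine ⟨i, fun t => ?_⟩
  have k1 := h1.paste_horiz hY₀
  have k2 := h2.paste_horiz hX₀
  rw [hσ φ] at k1
  have := locusMor_baseChange hP k1 k2
  have ht : t ∈ ConsProp.locusMor (fun X Y T f g => Q f) fi gi :=
    MorphismProperty.of_isPullback (isPullback_fiberMap fi gi t) h3
  rw [this] at ht
  exact ht

end Groth.Agent.Lib.Helper12.H12GeomP
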