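import Mathlib
import Groth.Agent.Lib.Helper12.GeomP4
import Groth.Agent.Lib.Helper12.ConstrTop

set_option autoImplicit false
universe u

namespace Groth.Agent.Lib.Helper12.H12GeomP

open AlgebraicGeometry CategoryTheory Limits TopologicalSpace Topology
open Groth.Agent.Lib.Helper12.H12ConsP Groth.Agent.Lib.Helper1.ObjDesc
open Groth.Agent.Lib.Helper12.IndFG Groth.Agent.Lib.Helper1.RSLimit

section

variable (R K : Type u) [CommRing R] [Field K] [Algebra R K]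

instance fgD'_isIntegral (i : (FGSub R K)ᵒᵖ) : IsIntegral ((fgD' R K).obj i) := by
  change IsIntegral (Spec (CommRingCat.of i.unop.1))
  infer_instance

theorem fgD'_isNoetherian [IsNoetherianRing R] (i : (FGSub R K)ᵒᵖ) :
    IsNoetherian ((fgD' R K).obj i) := by
  have hft : Algebra.FiniteType R i.unop.1 := (Subalgebra.fg_iff_finiteType _).mp i.unop.2
  haveI : IsNoetherianRing i.unop.1 := Algebra.FiniteType.isNoetherianRing R _
  change IsNoetherian (Spec (CommRingCat.of i.unop.1))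
  infer_instance

end

set_option maxHeartbeats 1600000 in
/-- Two-set version with integral Noetherian stages and nonempty opens at a stage. -/
theorem interior_nonempty_of_system' {S : Scheme.{u}} [IsIntegral S] [IsNoetherian S]
    (L₁ L₂ : Set S) {T' : Scheme.{u}} [IsIntegral T'] [Subsingleton ↥T'] (τ : T' ⟶ S)
    (hτ : ∀ t, τ t = genericPoint S)
    (H : ∀ {I : Type u} [SmallCategory I] [IsCofiltered I] (D : I ⥤ Scheme.{u}) (c : Cone D)
      (_ : IsLimit c) [∀ (i j : I) (f : i ⟶ j), IsAffineHom (D.map f)] [∀ i, IsAffine (D.obj i)]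
      [∀ i, IsIntegral (D.obj i)] (_ : ∀ i, IsNoetherian (D.obj i))
      (σ : ∀ i, D.obj i ⟶ S) (_ : ∀ {i j : I} (φ : i ⟶ j), D.map φ ≫ σ j = σ i) (i₀ : I)
      (e : T' ⟶ c.pt) (_ : e ≫ c.π.app i₀ ≫ σ i₀ = τ) (_ : IsIso e),
      ∃ (j : I) (V : (D.obj j).Opens), (V : Set ↥(D.obj j)).Nonempty ∧
        ((∀ t ∈ V, σ j t ∈ L₁) ∨ (∀ t ∈ V, σ j t ∈ L₂))) :
    (interior L₁).Nonempty ∨ (interior L₂).Nonempty := by
  obtain ⟨U, hU, hηU⟩ : ∃ U : S.Opens, IsAffineOpen U ∧ genericPoint S ∈ U := by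
    obtain ⟨_, ⟨U, hU, rfl⟩, hηU, -⟩ := S.isBasis_affineOpens.exists_subset_of_mem_open
      (Set.mem_univ (genericPoint S)) isOpen_univ
    exact ⟨U, hU, hηU⟩
  haveI : IsAffine (U : Scheme.{u}) := hU
  have hτU : Set.range τ ⊆ Set.range U.ι := by
    rintro _ ⟨t, rfl⟩
    rw [hτ t, Scheme.Opens.range_ι]
    exact hηU
  let τ₀ : T' ⟶ U := IsOpenImmersion.lift U.ι τ hτU
  have hτ₀ : τ₀ ≫ U.ι = τ := IsOpenImmersion.lift_fac _ _ _
  letI : Field Γ(T', ⊤) := (isField_of_isIntegral_of_subsingleton T').toField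
  letI : Algebra Γ(↑U, ⊤) Γ(T', ⊤) := τ₀.appTop.hom.toAlgebra
  haveI : IsNoetherianRing Γ(↑U, ⊤) :=
    IsLocallyNoetherian.component_noetherian (X := (U : Scheme.{u})) ⟨⊤, isAffineOpen_top _⟩
  let ρ : Spec (CommRingCat.of Γ(↑U, ⊤)) ⟶ S := (U : Scheme).isoSpec.inv ≫ U.ι
  let σ : ∀ i, (fgD' Γ(↑U, ⊤) Γ(T', ⊤)).obj i ⟶ S := fun i => fgσ Γ(↑U, ⊤) Γ(T', ⊤) i ≫ ρ
  have hσ : ∀ {i j : (FGSub Γ(↑U, ⊤) Γ(T', ⊤))ᵒᵖ} (φ : i ⟶ j),
      (fgD' Γ(↑U, ⊤) Γ(T', ⊤)).map φ ≫ σ j = σ i := fun φ => by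
    dsimp only [σ]
    rw [← Category.assoc, fgσ_map]
  let i₀ : (FGSub Γ(↑U, ⊤) Γ(T', ⊤))ᵒᵖ := Opposite.op ⟨⊥, Subalgebra.fg_bot⟩
  have hπσ : ∀ i, fgπ Γ(↑U, ⊤) Γ(T', ⊤) i ≫ σ i = Spec.map τ₀.appTop ≫ ρ := fun i => by
    dsimp only [σ]
    rw [← Category.assoc, fgπ_fgσ]
    rfl
  have key : T'.isoSpec.hom ≫ fgπ Γ(↑U, ⊤) Γ(T', ⊤) i₀ ≫ σ i₀ = τ := by
    rw [hπσ]
    dsimp only [ρ]
    rw [← Category.assoc, Scheme.isoSpec_hom_naturality, Category.assoc, Iso.hom_inv_id_assoc, hτ₀]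
  obtain ⟨j, V, hVne, hV⟩ := H (fgD' Γ(↑U, ⊤) Γ(T', ⊤)) (fgC' Γ(↑U, ⊤) Γ(T', ⊤))
    (fgIsLimit' Γ(↑U, ⊤) Γ(T', ⊤)) (fgD'_isNoetherian Γ(↑U, ⊤) Γ(T', ⊤)) σ hσ i₀ T'.isoSpec.hom
    key inferInstance
  haveI := fgD'_isNoetherian Γ(↑U, ⊤) Γ(T', ⊤) j
  haveI : LocallyOfFiniteType (σ j) := by dsimp only [σ, ρ]; infer_instance
  haveI : LocallyOfFinitePresentation (σ j) := inferInstance
  haveI : QuasiCompact (σ j) := inferInstance
  have hE : IsConstructible ((σ j) '' (V : Set ↥((fgD' Γ(↑U, ⊤) Γ(T', ⊤)).obj j))) :=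
    (σ j).isConstructible_image (Groth.Agent.Lib.Helper12.isConstructible_of_isOpen V.2)
  have hηE : genericPoint S ∈ (σ j) '' (V : Set ↥((fgD' Γ(↑U, ⊤) Γ(T', ⊤)).obj j)) := by
    obtain ⟨t₀⟩ : Nonempty ↥T' := inferInstance
    set ξ := genericPoint ↥((fgD' Γ(↑U, ⊤) Γ(T', ⊤)).obj j) with hξ
    have hξV : ξ ∈ (V : Set _) :=
      ((genericPoint_spec _).mem_open_set_iff V.2).mpr (by rw [Set.univ_inter]; exact hVne)
    refine ⟨ξ, hξV, ?_⟩
    have h1 : σ j (fgπ Γ(↑U, ⊤) Γ(T', ⊤) j (T'.isoSpec.hom t₀)) = genericPoint S := by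
      rw [← hτ t₀, ← key, hπσ i₀, ← hπσ j]
      rfl
    have h2 : σ j ξ ⤳ genericPoint S := by
      rw [← h1]
      exact ((genericPoint_spec _).specializes (Set.mem_univ _)).map (σ j).continuous
    exact (h2.antisymm ((genericPoint_spec S).specializes (Set.mem_univ _))).eq
  have hcase : ∀ L : Set S, (∀ t ∈ V, σ j t ∈ L) → (interior L).Nonempty := by
    intro L hL
    have hsub : (σ j) '' (V : Set ↥((fgD' Γ(↑U, ⊤) Γ(T', ⊤)).obj j)) ⊆ L := by
      rintro _ ⟨t, ht, rfl⟩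
      exact hL t ht
    rcases dichotomy_of_isConstructible hE with h | h
    · exact h.mono (interior_mono hsub)
    · exfalso
      have := ((genericPoint_spec S).mem_open_set_iff isOpen_interior).mpr
        (by rw [Set.univ_inter]; exact h)
      exact interior_subset this hηE
  rcases hV with h | h
  · exact Or.inl (hcase _ h)
  · exact Or.inr (hcase _ h)

/-- conjunction of two morphism properties. -/
def AndP (Q₁ Q₂ : MorphismProperty Scheme.{u}) : MorphismProperty Scheme.{u} :=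
  fun _ _ f => Q₁ f ∧ Q₂ f

instance (Q₁ Q₂ : MorphismProperty Scheme.{u}) [Q₁.IsStableUnderBaseChange]
    [Q₂.IsStableUnderBaseChange] : (AndP Q₁ Q₂).IsStableUnderBaseChange where
  of_isPullback sq h :=
    ⟨MorphismProperty.of_isPullback sq h.1, MorphismProperty.of_isPullback sq h.2⟩

set_option maxHeartbeats 1600000 in
theorem descendsInLimits_and {Q₁ Q₂ : MorphismProperty Scheme.{u}} [Q₁.IsStableUnderBaseChange]
    (h₁ : DescendsInLimits Q₁) (h₂ : DescendsInLimits Q₂) : DescendsInLimits (AndP Q₁ Q₂) := by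
  intro I _ _ D c hc _ i₀ _ _ X₀ Y₀ f₀ g₀ _ _ _ _ _ _ X Y f g qY qX hY hX hf
  obtain ⟨i₁, φ₁, X₁, Y₁, f₁, g₁, pY₁, pX₁, s1, s2, hQ₁⟩ :=
    h₁ D c hc i₀ f₀ g₀ f g qY qX hY hX hf.1
  haveI : CompactSpace ↥(D.obj i₁) := QuasiCompact.compactSpace_of_compactSpace (D.map φ₁)
  haveI : QuasiSeparatedSpace ↥(D.obj i₁) := quasiSeparatedSpace_of_quasiSeparated (D.map φ₁)
  haveI : LocallyOfFinitePresentation g₁ := MorphismProperty.of_isPullback s1 inferInstance
  haveI : QuasiCompact g₁ := MorphismProperty.of_isPullback s1 inferInstance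
  haveI : QuasiSeparated g₁ := MorphismProperty.of_isPullback s1 inferInstance
  have s12 := s2.paste_vert s1
  haveI : LocallyOfFinitePresentation (f₁ ≫ g₁) := MorphismProperty.of_isPullback s12 inferInstance
  haveI : QuasiCompact (f₁ ≫ g₁) := MorphismProperty.of_isPullback s12 inferInstance
  haveI : QuasiSeparated (f₁ ≫ g₁) := MorphismProperty.of_isPullback s12 inferInstance
  let qY₁ : Y ⟶ Y₁ := s1.lift qY (g ≫ c.π.app i₁) (by rw [hY.w, Category.assoc, c.w])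
  have hqY₁ : IsPullback qY₁ g g₁ (c.π.app i₁) := by
    refine IsPullback.of_right ?_ (s1.lift_snd _ _ _) s1
    rw [s1.lift_fst, c.w]
    exact hY
  let qX₁ : X ⟶ X₁ := s2.lift qX (f ≫ qY₁) (by rw [hX.w, Category.assoc, s1.lift_fst])
  have hqX₁ : IsPullback qX₁ f f₁ qY₁ := by
    refine IsPullback.of_right ?_ (s2.lift_snd _ _ _) s2
    rw [s2.lift_fst, s1.lift_fst]
    exact hX
  obtain ⟨i₂, φ₂, X₂, Y₂, f₂, g₂, pY₂, pX₂, k1, k2, hQ₂⟩ :=
    h₂ D c hc i₁ f₁ g₁ f g qY₁ qX₁ hqY₁ hqX₁ hf.2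
  refine ⟨i₂, φ₂ ≫ φ₁, X₂, Y₂, f₂, g₂, pY₂ ≫ pY₁, pX₂ ≫ pX₁, ?_, k2.paste_horiz s2,
    MorphismProperty.of_isPullback k2 hQ₁, hQ₂⟩
  rw [D.map_comp]
  exact k1.paste_horiz s1

section

variable {I : Type u} [SmallCategory I] [IsCofiltered I] {D : I ⥤ Scheme.{u}} {c : Cone D}
  (hc : IsLimit c) [∀ (i j : I) (f : i ⟶ j), IsAffineHom (D.map f)] [∀ i, IsAffine (D.obj i)]

include hc in
set_option maxHeartbeats 1600000 in
/-- descending a property of the generic fibre morphism to a stage of a system over `S`. -/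
theorem exists_stage_of_generic {Q : MorphismProperty Scheme.{u}} (hQ : DescendsInLimits Q)
    {X Y S : Scheme.{u}} [IsIntegral S] (f : X ⟶ Y) (g : Y ⟶ S)
    [LocallyOfFinitePresentation g] [QuasiCompact g] [QuasiSeparated g]
    [LocallyOfFinitePresentation (f ≫ g)] [QuasiCompact (f ≫ g)] [QuasiSeparated (f ≫ g)]
    (σ : ∀ i, D.obj i ⟶ S) (hσ : ∀ {i j : I} (φ : i ⟶ j), D.map φ ≫ σ j = σ i) (i₀ : I)
    (e : Spec (S.residueField (genericPoint S)) ⟶ c.pt)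
    (he : e ≫ c.π.app i₀ ≫ σ i₀ = S.fromSpecResidueField (genericPoint S)) [IsIso e]
    (hη : Q (MoreMor.fiberMap f g (genericPoint S))) :
    ∃ (i : I) (Xi Yi : Scheme.{u}) (fi : Xi ⟶ Yi) (gi : Yi ⟶ D.obj i) (eY : Yi ⟶ Y)
      (eX : Xi ⟶ X), IsPullback eY gi g (σ i) ∧ IsPullback eX fi f eY ∧ Q fi := by
  have hY₀ : IsPullback (pullback.fst g (σ i₀)) (pullback.snd g (σ i₀)) g (σ i₀) :=
    IsPullback.of_hasPullback _ _
  have hX₀ : IsPullback (pullback.fst f (pullback.fst g (σ i₀)))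
      (pullback.snd f (pullback.fst g (σ i₀))) f (pullback.fst g (σ i₀)) :=
    IsPullback.of_hasPullback _ _
  have hXY₀ := hX₀.paste_vert hY₀
  haveI : LocallyOfFinitePresentation (pullback.snd f (pullback.fst g (σ i₀)) ≫
      pullback.snd g (σ i₀)) := MorphismProperty.of_isPullback hXY₀ inferInstance
  haveI : QuasiCompact (pullback.snd f (pullback.fst g (σ i₀)) ≫
      pullback.snd g (σ i₀)) := MorphismProperty.of_isPullback hXY₀ inferInstance
  haveI : QuasiSeparated (pullback.snd f (pullback.fst g (σ i₀)) ≫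
      pullback.snd g (σ i₀)) := MorphismProperty.of_isPullback hXY₀ inferInstance
  let η := genericPoint S
  let gc : g.fiber η ⟶ c.pt := g.fiberToSpecResidueField η ≫ e
  have hbigY : IsPullback (g.fiberι η) gc g (c.π.app i₀ ≫ σ i₀) := by
    refine (IsPullback.of_hasPullback g (S.fromSpecResidueField η)).of_iso (Iso.refl _)
      (Iso.refl _) (asIso e) (Iso.refl _) ?_ ?_ ?_ ?_
    · exact (Category.comp_id _).trans (Category.id_comp _).symm
    · exact (Category.id_comp _).symm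
    · simp
    · rw [Iso.refl_hom, Category.comp_id]; exact he.symm
  let qY : g.fiber η ⟶ pullback g (σ i₀) := pullback.lift (g.fiberι η) (gc ≫ c.π.app i₀)
    (by rw [hbigY.w]; simp only [gc, Category.assoc])
  have hqY : IsPullback qY gc (pullback.snd g (σ i₀)) (c.π.app i₀) := by
    refine IsPullback.of_right ?_ (pullback.lift_snd _ _ _) hY₀
    rw [pullback.lift_fst]
    exact hbigY
  let qX : (f ≫ g).fiber η ⟶ pullback f (pullback.fst g (σ i₀)) :=
    pullback.lift ((f ≫ g).fiberι η) (MoreMor.fiberMap f g η ≫ qY)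
      (by rw [Category.assoc, pullback.lift_fst, fiberMap_fiberι])
  have hqX : IsPullback qX (MoreMor.fiberMap f g η) (pullback.snd f (pullback.fst g (σ i₀))) qY := by
    refine IsPullback.of_right ?_ (pullback.lift_snd _ _ _) hX₀
    rw [pullback.lift_fst, pullback.lift_fst]
    exact isPullback_fiberMap f g η
  haveI : CompactSpace ↥(D.obj i₀) := inferInstance
  haveI : QuasiSeparatedSpace ↥(D.obj i₀) := inferInstance
  obtain ⟨i, φ, Xi, Yi, fi, gi, pY, pX, h1, h2, h3⟩ := hQ D c hc i₀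
    (pullback.snd f (pullback.fst g (σ i₀))) (pullback.snd g (σ i₀))
    (MoreMor.fiberMap f g η) gc qY qX hqY hqX hη
  have k1 := h1.paste_horiz hY₀
  have k2 := h2.paste_horiz hX₀
  rw [hσ φ] at k1
  exact ⟨i, Xi, Yi, fi, gi, _, _, k1, k2, h3⟩

end

end Groth.Agent.Lib.Helper12.H12GeomP
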