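import Mathlib

set_option autoImplicit false
universe v u

namespace Groth.Agent.Lib.Helper12.H12SepFib

open CategoryTheory Limits

section Cat

variable {C : Type u} [Category.{v} C] [HasPullbacks C]
variable {X Y X' Y' : C} {j' : X' ⟶ X} {f' : X' ⟶ Y'} {f : X ⟶ Y} {j : Y' ⟶ Y}

set_option backward.isDefEq.respectTransparency false in
/-- The diagonal of a base change is the base change of the diagonal. -/
theorem isPullback_diagonal (hpb : IsPullback j' f' f j) :
    IsPullback (pullback.diagonal f') j'
      (pullback.map f' f' f f j' j' j hpb.w.symm hpb.w.symm) (pullback.diagonal f) := by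
  refine ⟨⟨by ext <;> simp⟩, ⟨PullbackCone.IsLimit.mk _ (fun s => s.fst ≫ pullback.fst f' f')
    ?_ ?_ ?_⟩⟩
  · intro s
    have h1 : s.fst ≫ pullback.fst f' f' = s.fst ≫ pullback.snd f' f' := by
      apply hpb.hom_ext
      · have e1 := s.condition =≫ pullback.fst f f
        have e2 := s.condition =≫ pullback.snd f f
        simp only [Category.assoc, pullback.lift_fst, pullback.lift_snd, pullback.diagonal_fst,
          pullback.diagonal_snd, Category.comp_id] at e1 e2
        rw [Category.assoc, Category.assoc, e1, e2]
      · rw [Category.assoc, Category.assoc, pullback.condition]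
    apply pullback.hom_ext
    · simp
    · simp [h1]
  · intro s
    have e1 := s.condition =≫ pullback.fst f f
    simp only [Category.assoc, pullback.lift_fst, pullback.diagonal_fst, Category.comp_id] at e1
    rw [Category.assoc, e1]
  · intro s m hm1 hm2
    rw [← hm1]
    simp

set_option backward.isDefEq.respectTransparency false in
/-- The map between diagonal objects induced by a base change is itself a base change. -/
theorem isPullback_map_diagonalObj (hpb : IsPullback j' f' f j) :
    IsPullback (pullback.map f' f' f f j' j' j hpb.w.symm hpb.w.symm)
      (pullback.fst f' f' ≫ f') (pullback.fst f f ≫ f) j := by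
  refine ⟨⟨by simp [hpb.w]⟩, ⟨PullbackCone.IsLimit.mk _
    (fun s => pullback.lift (hpb.lift (s.fst ≫ pullback.fst f f) s.snd
        (by rw [Category.assoc]; exact s.condition))
      (hpb.lift (s.fst ≫ pullback.snd f f) s.snd
        (by rw [Category.assoc, ← pullback.condition]; exact s.condition))
      (by simp)) ?_ ?_ ?_⟩⟩
  · intro s
    apply pullback.hom_ext <;> simp
  · intro s
    simp
  · intro s m hm1 hm2
    apply pullback.hom_ext
    · apply hpb.hom_ext
      · simp [← hm1]
      · simp [← hm2]
    · apply hpb.hom_ext
      · simp [← hm1]
      · simp [← hm2, pullback.condition]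

end Cat

end Groth.Agent.Lib.Helper12.H12SepFib
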