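import Mathlib
import Groth.Agent.Lib.Helper12.SepFib1
import Groth.Agent.S3428
import Groth.Agent.Lib.Helper14.LfpOfComp

set_option autoImplicit false
universe u

namespace Groth.Agent.Lib.Helper12.H12SepFib

open AlgebraicGeometry CategoryTheory Limits TopologicalSpace Topology

variable {X Y S : Scheme.{u}} (f : X ⟶ Y) (g : Y ⟶ S)

/-- the structure morphism of `X ×_Y X` over `S`. -/
noncomputable abbrev hW : pullback f f ⟶ S := (pullback.fst f f ≫ f) ≫ g

theorem isSeparated_fibreMap_iff (s : S) :
    IsSeparated (pullback.lift (pullback.fst (f ≫ g) (S.fromSpecResidueField s) ≫ f)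
        (pullback.snd (f ≫ g) (S.fromSpecResidueField s))
        ((Category.assoc _ _ _).trans pullback.condition) :
      pullback (f ≫ g) (S.fromSpecResidueField s) ⟶ pullback g (S.fromSpecResidueField s)) ↔
    IsClosed (Subtype.val ⁻¹' Set.range (pullback.diagonal f).base :
      Set ↥((hW f g).base ⁻¹' {s})) := by
  set σ := S.fromSpecResidueField s with hσ
  set fs := (pullback.lift (pullback.fst (f ≫ g) σ ≫ f) (pullback.snd (f ≫ g) σ)
        ((Category.assoc _ _ _).trans pullback.condition) :
      pullback (f ≫ g) σ ⟶ pullback g σ) with hfs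
  -- the fibre square
  have hpb : IsPullback (pullback.fst (f ≫ g) σ) fs f (pullback.fst g σ) := by
    refine (IsPullback.of_right ?_ (pullback.lift_fst _ _ _)
      (IsPullback.of_hasPullback g σ).flip).flip
    rw [pullback.lift_snd]
    exact (IsPullback.of_hasPullback (f ≫ g) σ).flip
  have hA := isPullback_diagonal hpb
  have hB := isPullback_map_diagonalObj hpb
  set m := pullback.map fs fs f f (pullback.fst (f ≫ g) σ) (pullback.fst (f ≫ g) σ)
    (pullback.fst g σ) hpb.w.symm hpb.w.symm with hm
  have hC : IsPullback m ((pullback.fst fs fs ≫ fs) ≫ pullback.snd g σ) (hW f g) σ :=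
    hB.paste_vert (IsPullback.of_hasPullback g σ)
  haveI : IsPreimmersion m := MorphismProperty.of_isPullback hC.flip inferInstance
  have hrange : Set.range m = (hW f g) ⁻¹' {s} := by
    have := Scheme.image_preimage_eq_of_isPullback hC.flip Set.univ
    rw [Set.preimage_univ, Set.image_univ, Set.image_univ] at this
    rw [this, hσ, Scheme.range_fromSpecResidueField]
  have hdiag : Set.range (pullback.diagonal fs) = m ⁻¹' Set.range (pullback.diagonal f) := by
    have := Scheme.image_preimage_eq_of_isPullback hA.flip Set.univ
    rw [Set.preimage_univ, Set.image_univ, Set.image_univ] at this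
    exact this
  let e : ↥(pullback fs fs) ≃ₜ ↥((hW f g) ⁻¹' {s}) :=
    (m.isEmbedding.toHomeomorph).trans (Homeomorph.setCongr hrange)
  have he : ∀ w, (e w).1 = m w := fun w => rfl
  have hcl : IsClosed (Set.range (pullback.diagonal fs)) ↔
      IsClosed (Subtype.val ⁻¹' Set.range (pullback.diagonal f) :
        Set ↥((hW f g) ⁻¹' {s})) := by
    rw [hdiag, ← e.isClosed_preimage]
    rfl
  refine Iff.trans ?_ hcl
  constructor
  · intro h
    exact (pullback.diagonal fs).isClosedEmbedding.isClosed_range
  · intro h
    exact ⟨IsClosedImmersion.of_isPreimmersion _ h⟩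

theorem isLocallyConstructible_separated
    [LocallyOfFinitePresentation g] [QuasiCompact g] [QuasiSeparated g]
    [LocallyOfFinitePresentation (f ≫ g)] [QuasiCompact (f ≫ g)] [QuasiSeparated (f ≫ g)] :
    IsLocallyConstructible {s : S |
      IsSeparated (pullback.lift (pullback.fst (f ≫ g) (S.fromSpecResidueField s) ≫ f)
        (pullback.snd (f ≫ g) (S.fromSpecResidueField s))
          ((Category.assoc _ _ _).trans pullback.condition) :
        pullback (f ≫ g) (S.fromSpecResidueField s) ⟶ pullback g (S.fromSpecResidueField s))} := by
  haveI : LocallyOfFinitePresentation f :=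
    Groth.Agent.Lib.Helper14.AS.locallyOfFinitePresentation_of_comp f g inferInstance inferInstance
  haveI : QuasiCompact f := QuasiCompact.of_comp f g
  haveI : QuasiSeparated f := QuasiSeparated.of_comp f g
  haveI : LocallyOfFinitePresentation (pullback.diagonal f) := by
    refine Groth.Agent.Lib.Helper14.AS.locallyOfFinitePresentation_of_comp (pullback.diagonal f)
      (pullback.fst f f) ?_ inferInstance
    rw [pullback.diagonal_fst]
    infer_instance
  have hR : IsLocallyConstructible (Set.range (pullback.diagonal f).base) := by
    rw [← Set.image_univ]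
    exact (pullback.diagonal f).isLocallyConstructible_image IsLocallyConstructible.univ
  haveI : LocallyOfFinitePresentation (hW f g) := by
    unfold hW
    rw [Category.assoc]
    infer_instance
  haveI : QuasiCompact (hW f g) := by
    unfold hW
    rw [Category.assoc]
    infer_instance
  haveI : QuasiSeparated (hW f g) := by
    unfold hW
    rw [Category.assoc]
    infer_instance
  have h := (Groth.Agent.S3428.result (hW f g) _ hR).1
  convert h using 1
  ext s
  exact isSeparated_fibreMap_iff f g s

end Groth.Agent.Lib.Helper12.H12SepFib
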