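import Mathlib
import Groth.Agent.Lib.Helper25.SmoothLocalDim
import Groth.Agent.Lib.Helper25.FibreRankUSC
import Groth.Agent.Lib.Helper12.ConstrTop

set_option autoImplicit false
universe u

namespace Groth.Agent.Lib.Helper12.H12SmFibAlg

open TensorProduct KaehlerDifferential

/-- The fibre rank of a module at a prime can be computed over any field containing the residue
field. -/
theorem finrank_tensor_field {B : Type*} [CommRing B] (M : Type*) [AddCommGroup M] [Module B M]
    (L : Type*) [Field L] [Algebra B L] (q : Ideal B) [q.IsPrime]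
    (hq : RingHom.ker (algebraMap B L) = q) :
    Module.finrank L (L ⊗[B] M) = Module.finrank q.ResidueField (q.ResidueField ⊗[B] M) := by
  have hf₁ : q ≤ RingHom.ker (algebraMap B L) := hq.ge
  have hf₂ : q.primeCompl ≤ (IsUnit.submonoid L).comap (algebraMap B L) := by
    intro x hx
    change IsUnit (algebraMap B L x)
    rw [isUnit_iff_ne_zero]
    intro h0
    apply hx
    rw [← hq]
    exact h0
  let φ : q.ResidueField →+* L := Ideal.ResidueField.lift q (algebraMap B L) hf₁ hf₂
  letI : Algebra q.ResidueField L := φ.toAlgebra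
  haveI : IsScalarTower B q.ResidueField L := IsScalarTower.of_algebraMap_eq' (by
    ext x
    simp [RingHom.algebraMap_toAlgebra, φ])
  let e : L ⊗[q.ResidueField] (q.ResidueField ⊗[B] M) ≃ₗ[L] L ⊗[B] M :=
    AlgebraTensorModule.cancelBaseChange B q.ResidueField L L M
  rw [← e.finrank_eq, Module.finrank_baseChange]

section Pushout

variable {A₀ A B₀ B : Type*} [CommRing A₀] [CommRing A] [CommRing B₀] [CommRing B]
  [Algebra A₀ A] [Algebra A₀ B₀] [Algebra A B] [Algebra B₀ B] [Algebra A₀ B]
  [IsScalarTower A₀ A B] [IsScalarTower A₀ B₀ B] [Algebra.IsPushout A₀ A B₀ B]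

/-- The fibre rank of the relative differentials is compatible with base change. -/
theorem finrank_kaehler_eq_of_isPushout (q : Ideal B) [q.IsPrime] (q₀ : Ideal B₀) [q₀.IsPrime]
    (hq : q.comap (algebraMap B₀ B) = q₀) :
    Module.finrank q.ResidueField (q.ResidueField ⊗[B] Ω[B⁄A]) =
      Module.finrank q₀.ResidueField (q₀.ResidueField ⊗[B₀] Ω[B₀⁄A₀]) := by
  let e₁ : B ⊗[B₀] Ω[B₀⁄A₀] ≃ₗ[B] Ω[B⁄A] := tensorKaehlerEquiv A₀ A B₀ B
  let e₂ : q.ResidueField ⊗[B] Ω[B⁄A] ≃ₗ[q.ResidueField] q.ResidueField ⊗[B] (B ⊗[B₀] Ω[B₀⁄A₀]) :=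
    AlgebraTensorModule.congr (LinearEquiv.refl q.ResidueField q.ResidueField) e₁.symm
  let e₃ : q.ResidueField ⊗[B] (B ⊗[B₀] Ω[B₀⁄A₀]) ≃ₗ[q.ResidueField]
      q.ResidueField ⊗[B₀] Ω[B₀⁄A₀] :=
    AlgebraTensorModule.cancelBaseChange B₀ B q.ResidueField q.ResidueField Ω[B₀⁄A₀]
  have hker : RingHom.ker (algebraMap B₀ q.ResidueField) = q₀ := by
    rw [IsScalarTower.algebraMap_eq B₀ B q.ResidueField, ← RingHom.comap_ker,
      Ideal.ker_algebraMap_residueField, hq]
  have h := finrank_tensor_field Ω[B₀⁄A₀] q.ResidueField q₀ hker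
  rw [← h, ← e₃.finrank_eq, ← e₂.finrank_eq]

end Pushout

section Jacobian

variable {A B k F : Type u} [CommRing A] [CommRing B] [Field k] [CommRing F]
  [Algebra A B] [Algebra A k] [Algebra B F] [Algebra k F] [Algebra A F]
  [IsScalarTower A B F] [IsScalarTower A k F] [Algebra.IsPushout A B k F]
  [Algebra.FiniteType k F]

/-- **Jacobian criterion on a fibre, in terms of the relative differentials.** -/
theorem isSmoothAt_iff_of_isPushout (Q : Ideal F) [Q.IsPrime] (q : Ideal B) [q.IsPrime]
    (hQq : Q.comap (algebraMap B F) = q) :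
    Algebra.IsSmoothAt k Q ↔
      ((Module.finrank q.ResidueField (q.ResidueField ⊗[B] Ω[B⁄A]) : ℕ) : WithBot ℕ∞) ≤
        FlatMor.localDim (PrimeSpectrum F) ⟨Q, inferInstance⟩ := by
  rw [Groth.Agent.Lib.Helper25.SmoothLocalDim.isSmoothAt_iff_finrank_le_localDim k F Q]
  have : Algebra.IsPushout A k B F := Algebra.IsPushout.symm inferInstance
  rw [finrank_kaehler_eq_of_isPushout (A₀ := A) (A := k) (B₀ := B) (B := F) Q q hQq]

end Jacobian

section Constr

open PrimeSpectrum Topology

theorem isOpen_setOf_finrank_le {B : Type*} [CommRing B] (M : Type*) [AddCommGroup M]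
    [Module B M] [Module.Finite B M] (n : ℕ) :
    IsOpen {q : PrimeSpectrum B |
      Module.finrank q.asIdeal.ResidueField (q.asIdeal.ResidueField ⊗[B] M) ≤ n} := by
  rw [isOpen_iff_forall_mem_open]
  intro q hq
  obtain ⟨W, hWo, hqW, hW⟩ :=
    Groth.Agent.Lib.Helper25.FibreRankUSC.exists_isOpen_forall_finrank_le (A := B) M q
  exact ⟨W, fun x hx => (hW x hx).trans hq, hWo, hqW⟩

/-- the model of a presentation over its ring of coefficients. -/
abbrev Model {A B : Type u} [CommRing A] [CommRing B]
    [Algebra A B] {ι σ : Type} (P : Algebra.Presentation A B ι σ) : Type u :=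
  Algebra.Presentation.ModelOfHasCoeffs (P := P) P.Core

attribute [local instance] Algebra.TensorProduct.rightAlgebra in
theorem isConstructible_setOf_finrank_kaehler_le_aux {A B : Type u} [CommRing A] [CommRing B]
    [Algebra A B] {ι σ : Type} [Finite ι] [Finite σ] (P : Algebra.Presentation A B ι σ) (n : ℕ) :
    IsConstructible {q : PrimeSpectrum B |
      Module.finrank q.asIdeal.ResidueField (q.asIdeal.ResidueField ⊗[B] Ω[B⁄A]) ≤ n} := by
  let E : A ⊗[P.Core] Model P ≃ₐ[A] B := P.tensorModelOfHasCoeffsEquiv P.Core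
  letI : Algebra (Model P) B :=
    (E.toRingHom.comp (algebraMap (Model P)
      (A ⊗[P.Core] Model P))).toAlgebra
  have hinc : ∀ y : Model P, algebraMap (Model P) B y = E ((1 : A) ⊗ₜ[P.Core] y) := fun y => rfl
  have htower : ∀ a : P.Core, algebraMap P.Core B a =
      algebraMap (Model P) B (algebraMap P.Core (Model P) a) := by
    intro a
    rw [hinc]
    have h0 : (1 : A) ⊗ₜ[P.Core] (algebraMap P.Core (Model P) a) =
        (algebraMap P.Core A a) ⊗ₜ[P.Core] (1 : Model P) := by
      rw [Algebra.algebraMap_eq_smul_one a, Algebra.algebraMap_eq_smul_one a,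
        TensorProduct.smul_tmul]
    rw [h0]
    have h1 : (algebraMap P.Core A a) ⊗ₜ[P.Core] (1 : Model P) =
        (algebraMap P.Core A a) • ((1 : A) ⊗ₜ[P.Core] (1 : Model P)) := by
      rw [TensorProduct.smul_tmul', smul_eq_mul, mul_one]
    rw [h1, map_smul, ← Algebra.TensorProduct.one_def, map_one, ← Algebra.algebraMap_eq_smul_one,
      ← IsScalarTower.algebraMap_apply]
  haveI : IsScalarTower P.Core (Model P) B := IsScalarTower.of_algebraMap_eq htower
  haveI : Algebra.IsPushout P.Core A (Model P) B :=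
    Algebra.IsPushout.of_equiv (R := P.Core) (R' := A) (S := Model P)
      (S' := A ⊗[P.Core] Model P) E rfl
  have hNoeth : IsNoetherianRing (Model P) := by
    have : IsNoetherianRing P.Core := Algebra.FiniteType.isNoetherianRing ℤ P.Core
    exact Algebra.FiniteType.isNoetherianRing P.Core (Model P)
  have hopen := isOpen_setOf_finrank_le (B := Model P)
    Ω[Model P⁄P.Core] n
  have hcons : IsConstructible {q : PrimeSpectrum (Model P) |
      Module.finrank q.asIdeal.ResidueField (q.asIdeal.ResidueField ⊗[Model P]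
        Ω[Model P⁄P.Core]) ≤ n} := by
    have h1 := Groth.Agent.Lib.Helper12.isConstructible_of_isClosed hopen.isClosed_compl
    simpa using h1.compl
  obtain ⟨C, hC⟩ := exists_constructibleSetData_iff.mpr hcons
  have hset : {q : PrimeSpectrum B |
      Module.finrank q.asIdeal.ResidueField (q.asIdeal.ResidueField ⊗[B] Ω[B⁄A]) ≤ n} =
      (C.map (algebraMap (Model P) B)).toSet := by
    rw [ConstructibleSetData.toSet_map, hC]
    ext q
    simp only [Set.mem_ofPred_eq, Set.mem_preimage]
    rw [finrank_kaehler_eq_of_isPushout (A₀ := P.Core) (A := A) (B₀ := Model P)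
      (B := B) q.asIdeal (comap (algebraMap (Model P) B) q).asIdeal rfl]
  rw [hset]
  exact ConstructibleSetData.isConstructible_toSet _

/-- For a finitely presented algebra, the loci where the fibre rank of the differentials is
bounded are constructible. -/
theorem isConstructible_setOf_finrank_kaehler_le (A B : Type u) [CommRing A] [CommRing B]
    [Algebra A B] [Algebra.FinitePresentation A B] (n : ℕ) :
    IsConstructible {q : PrimeSpectrum B |
      Module.finrank q.asIdeal.ResidueField (q.asIdeal.ResidueField ⊗[B] Ω[B⁄A]) ≤ n} :=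
  isConstructible_setOf_finrank_kaehler_le_aux (Algebra.Presentation.ofFinitePresentation A B) n

end Constr

end Groth.Agent.Lib.Helper12.H12SmFibAlg
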