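import Mathlib
import Groth.Agent.Lib.Helper12.SmFibAlg
import Groth.Agent.Lib.Helper12.FibDimConstr
import Groth.Agent.Lib.Helper13.SchemeLocal
import Groth.Agent.Lib.Helper25.PullbackStalk2
import Groth.Agent.Lib.Helper6.Fib2
import Groth.Agent.Lib.Helper12.LqfConstr

set_option autoImplicit false
universe u

namespace Groth.Agent.Lib.Helper12.H12UnrFib

open AlgebraicGeometry CategoryTheory Limits TopologicalSpace Topology Set.Notation TensorProduct
  KaehlerDifferential

variable {X Y S : Scheme.{u}}

/-- Local constructibility can be checked on affine charts. -/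
theorem isLocallyConstructible_of_fromSpec (s : Set X)
    (H : ∀ x : X, ∃ (V : X.Opens) (hV : IsAffineOpen V), x ∈ V ∧
      IsLocallyConstructible (hV.fromSpec ⁻¹' s)) : IsLocallyConstructible s := by
  have key : ∀ x : X, ∃ V : X.Opens, x ∈ V ∧ IsLocallyConstructible ((V : Set X) ↓∩ s) := by
    intro x
    obtain ⟨V, hV, hxV, h⟩ := H x
    refine ⟨V, hxV, ?_⟩
    have h' := Groth.Agent.Lib.Helper14.AS.isLocallyConstructible_preimage hV.isoSpec.hom h
    have hset : ((V : Set X) ↓∩ s) = hV.isoSpec.hom ⁻¹' (hV.fromSpec ⁻¹' s) := by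
      ext v
      have hv : hV.fromSpec (hV.isoSpec.hom v) = v.1 := by
        rw [← Scheme.Hom.comp_apply, IsAffineOpen.isoSpec_hom_fromSpec]
        rfl
      change v.1 ∈ s ↔ hV.fromSpec (hV.isoSpec.hom v) ∈ s
      rw [hv]
    rw [hset]
    exact h'
  choose V hV hVA using key
  refine IsLocallyConstructible.of_isOpenCover (U := V) ?_ hVA
  rw [TopologicalSpace.IsOpenCover, eq_top_iff]
  intro x _
  exact TopologicalSpace.Opens.mem_iSup.mpr ⟨x, hV x⟩

/-- the unramified locus of a morphism. -/
def R (f : X ⟶ Y) : Set X := {x : X | (f.stalkMap x).hom.FormallyUnramified}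

set_option backward.isDefEq.respectTransparency.types false in
theorem isLocallyConstructible_R (f : X ⟶ Y) [LocallyOfFinitePresentation f] :
    IsLocallyConstructible (R f) := by
  refine isLocallyConstructible_of_fromSpec _ fun x => ?_
  obtain ⟨U, hU, hxU⟩ : ∃ U : Y.Opens, IsAffineOpen U ∧ f x ∈ U := by
    obtain ⟨_, ⟨U, hU, rfl⟩, hx, -⟩ :=
      Y.isBasis_affineOpens.exists_subset_of_mem_open (Set.mem_univ (f x)) isOpen_univ
    exact ⟨U, hU, hx⟩
  obtain ⟨V, hV, hxV, hVU⟩ : ∃ V : X.Opens, IsAffineOpen V ∧ x ∈ V ∧ V ≤ f ⁻¹ᵁ U := by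
    obtain ⟨_, ⟨V, hV, rfl⟩, hx, hsub⟩ :=
      X.isBasis_affineOpens.exists_subset_of_mem_open
        (show x ∈ ((f ⁻¹ᵁ U : X.Opens) : Set ↥X) from hxU) (f ⁻¹ᵁ U).2
    exact ⟨V, hV, hx, hsub⟩
  refine ⟨V, hV, hxV, ?_⟩
  letI := (f.appLE U V hVU).hom.toAlgebra
  have hfp : Algebra.FinitePresentation Γ(Y, U) Γ(X, V) := f.finitePresentation_appLE hU hV hVU
  have hfin : Module.Finite Γ(X, V) Ω[Γ(X, V)⁄Γ(Y, U)] := inferInstance
  have hmem : ∀ q : Spec Γ(X, V), hV.fromSpec q ∈ V := by
    intro q
    have : hV.fromSpec q ∈ Set.range hV.fromSpec := ⟨q, rfl⟩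
    rw [hV.range_fromSpec] at this
    exact this
  have hprime : ∀ q : Spec Γ(X, V), hV.primeIdealOf ⟨hV.fromSpec q, hmem q⟩ = q := by
    intro q
    apply hV.fromSpec.isOpenEmbedding.injective
    exact hV.fromSpec_primeIdealOf ⟨hV.fromSpec q, hmem q⟩
  have hset : hV.fromSpec ⁻¹' R f = {q : PrimeSpectrum Γ(X, V) |
      Module.finrank q.asIdeal.ResidueField
        (q.asIdeal.ResidueField ⊗[Γ(X, V)] Ω[Γ(X, V)⁄Γ(Y, U)]) ≤ 0} := by
    ext q
    rw [Set.mem_preimage]
    change (f.stalkMap (hV.fromSpec q)).hom.FormallyUnramified ↔ _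
    rw [Groth.Agent.Lib.Helper13.formallyUnramified_stalkMap_iff U hU V hV hVU (hmem q), hprime q,
      Algebra.unramifiedLocus_eq_compl_support, Set.mem_compl_iff,
      Module.mem_support_iff_nontrivial_residueField_tensorProduct, not_nontrivial_iff_subsingleton]
    change _ ↔ Module.finrank (q : PrimeSpectrum Γ(X, V)).asIdeal.ResidueField
      ((q : PrimeSpectrum Γ(X, V)).asIdeal.ResidueField ⊗[Γ(X, V)] Ω[Γ(X, V)⁄Γ(Y, U)]) ≤ 0
    rw [Nat.le_zero, Module.finrank_zero_iff]
  rw [hset]
  exact (H12SmFibAlg.isConstructible_setOf_finrank_kaehler_le Γ(Y, U) Γ(X, V) 0).isLocallyConstructible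

theorem formallyUnramified_iff_forall_mem_R (f : X ⟶ Y) [LocallyOfFiniteType f] :
    FormallyUnramified f ↔ ∀ x, x ∈ R f := by
  constructor
  · intro h x
    exact FormallyUnramified.stalkMap f x
  · intro H
    exact HasRingHomProperty.of_stalkMap RingHom.FormallyUnramified.ofLocalizationPrime H

theorem mono_iff (f : X ⟶ Y) [LocallyOfFiniteType f] :
    Mono f ↔ UniversallyInjective f ∧ FormallyUnramified f := by
  constructor
  · intro h
    have h1 : IsIso (pullback.diagonal f) := (pullback.isIso_diagonal_iff f).2 h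
    refine ⟨?_, inferInstance⟩
    rw [UniversallyInjective.iff_diagonal]
    infer_instance
  · rintro ⟨h1, h2⟩
    have h3 : Surjective (pullback.diagonal f) := (UniversallyInjective.iff_diagonal f).mp h1
    have h4 : IsOpenImmersion (pullback.diagonal f) := inferInstance
    have h5 : IsIso (pullback.diagonal f) :=
      (isIso_iff_isOpenImmersion_and_surjective _).2 ⟨h4, h3⟩
    exact (pullback.isIso_diagonal_iff f).1 h5

open Groth.Agent.Lib.Helper6.Fib in
theorem isLocallyConstructible_fibMap_formallyUnramified (f : X ⟶ Y) (g : Y ⟶ S)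
    [LocallyOfFinitePresentation g]
    [LocallyOfFinitePresentation (f ≫ g)] [QuasiCompact (f ≫ g)] :
    IsLocallyConstructible {s : S |
      FormallyUnramified (fibMap f g (S.fromSpecResidueField s))} := by
  have hf : LocallyOfFinitePresentation f :=
    Groth.Agent.Lib.Helper12.H12LqfConstr.locallyOfFinitePresentation_of_comp f g
  have hset : {s : S | FormallyUnramified (fibMap f g (S.fromSpecResidueField s))} =
      ((f ≫ g) '' (R f)ᶜ)ᶜ := by
    ext s
    have hpb := fibMap_isPullback f g (S.fromSpecResidueField s)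
    have hlft : LocallyOfFiniteType (fibMap f g (S.fromSpecResidueField s)) :=
      MorphismProperty.of_isPullback hpb (inferInstance : LocallyOfFiniteType f)
    simp only [Set.mem_ofPred_eq, Set.mem_compl_iff, Set.mem_image, not_exists, not_and]
    rw [formallyUnramified_iff_forall_mem_R]
    constructor
    · intro h0 x hx hxs
      have hxr : x ∈ Set.range (pullback.fst (f ≫ g) (S.fromSpecResidueField s)) := by
        rw [Groth.Agent.Lib.Helper12.H12LqfConstr.range_fst]; exact hxs
      obtain ⟨x', rfl⟩ := hxr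
      exact hx ((Groth.Agent.Lib.Helper25.PullbackStalk2.formallyUnramified_stalkMap_iff_of_isPullback
        hpb x').mp (h0 x'))
    · intro h1 x'
      have hx's : (f ≫ g) (pullback.fst (f ≫ g) (S.fromSpecResidueField s) x') = s := by
        have : pullback.fst (f ≫ g) (S.fromSpecResidueField s) x' ∈
            Set.range (pullback.fst (f ≫ g) (S.fromSpecResidueField s)) := ⟨x', rfl⟩
        rw [Groth.Agent.Lib.Helper12.H12LqfConstr.range_fst] at this
        exact this
      apply (Groth.Agent.Lib.Helper25.PullbackStalk2.formallyUnramified_stalkMap_iff_of_isPullback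
        hpb x').mpr
      by_contra hcon
      exact h1 _ hcon hx's
  rw [hset]
  exact H12FibDimConstr.isLocallyConstructible_compl
    (Scheme.Hom.isLocallyConstructible_image (f ≫ g)
      (H12FibDimConstr.isLocallyConstructible_compl (isLocallyConstructible_R f)))

open Groth.Agent.Lib.Helper6.Fib in
theorem isLocallyConstructible_fibMap_mono (f : X ⟶ Y) (g : Y ⟶ S)
    [LocallyOfFinitePresentation g] [QuasiCompact g] [QuasiSeparated g]
    [LocallyOfFinitePresentation (f ≫ g)] [QuasiCompact (f ≫ g)] [QuasiSeparated (f ≫ g)] :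
    IsLocallyConstructible {s : S | Mono (fibMap f g (S.fromSpecResidueField s))} := by
  have hf : LocallyOfFinitePresentation f :=
    Groth.Agent.Lib.Helper12.H12LqfConstr.locallyOfFinitePresentation_of_comp f g
  have hset : {s : S | Mono (fibMap f g (S.fromSpecResidueField s))} =
      {s : S | UniversallyInjective (fibMap f g (S.fromSpecResidueField s))} ∩
      {s : S | FormallyUnramified (fibMap f g (S.fromSpecResidueField s))} := by
    ext s
    have hpb := fibMap_isPullback f g (S.fromSpecResidueField s)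
    have hlft : LocallyOfFiniteType (fibMap f g (S.fromSpecResidueField s)) :=
      MorphismProperty.of_isPullback hpb (inferInstance : LocallyOfFiniteType f)
    exact mono_iff _
  rw [hset]
  exact (isLocallyConstructible_fibMap_universallyInjective f g).inter
    (isLocallyConstructible_fibMap_formallyUnramified f g)

end Groth.Agent.Lib.Helper12.H12UnrFib
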