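import Mathlib
import Groth.Agent.Lib.Helper12.GeomP5
import Groth.Agent.Lib.Helper25.ProperDescent
import Groth.Agent.S0385
import Groth.Agent.S3428
import Groth.Agent.S3424
import Groth.Agent.S3445
import Groth.Agent.S3426

set_option autoImplicit false
universe u

namespace Groth.Agent.Lib.Helper12.H12FinLoc

open AlgebraicGeometry CategoryTheory Limits TopologicalSpace Topology MorphismProperty
open Groth.Agent.Lib.Helper12.H12ConsP Groth.Agent.Lib.Helper12.H12GeomP

/-- field stability of finiteness of morphisms. -/
theorem isFieldStableMor_isFinite :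
    ConsProp.IsFieldStableMor (fun X Y T f g => AlgebraicGeometry.IsFinite f) := by
  intro X X' Y Y' T T' f g f' g' eX eY h _ _ _ _ _ _ _ _ hY hX
  haveI := isLocallyNoetherian_of_onePoint T
  haveI : IsLocallyNoetherian Y := LocallyOfFiniteType.isLocallyNoetherian g
  haveI : LocallyOfFiniteType f := locallyOfFiniteType_of_comp f g
  haveI : QuasiCompact f := QuasiCompact.of_comp f g
  have hfpqc := fpqc_of_isPullback_onePoint hY
  haveI : Surjective eY := hfpqc.1.1
  haveI : Surjective eX := MorphismProperty.of_isPullback hX.flip inferInstance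
  constructor
  · intro h3
    exact MorphismProperty.of_isPullback hX h3
  · intro h3
    haveI : IsFinite f' := h3
    have hp : IsProper f :=
      MorphismProperty.of_isPullback_of_descendsAlong (P := @IsProper) hX.flip hfpqc
        (inferInstance : IsProper f')
    have hq : LocallyQuasiFinite f := by
      rw [← Scheme.Hom.quasiFiniteLocus_eq_top_iff]
      ext x
      simp only [Opens.coe_top, Set.mem_univ, iff_true]
      obtain ⟨x', rfl⟩ := eX.surjective x
      exact Groth.Agent.Lib.Helper13.quasiFiniteAt_of_isPullback hX x' (f'.quasiFiniteAt x')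
    exact IsFinite.of_isProper_of_locallyQuasiFinite f

/-- an open immersion followed by a finite morphism is finite iff the open immersion has closed
range. -/
theorem isFinite_comp_iff_isClosed_range {X T Y : Scheme.{u}} (ι : X ⟶ T) (π : T ⟶ Y)
    [IsOpenImmersion ι] [IsFinite π] : IsFinite (ι ≫ π) ↔ IsClosed (Set.range ι) := by
  constructor
  · intro h
    haveI : UniversallyClosed (ι ≫ π) := inferInstance
    haveI : UniversallyClosed ι := UniversallyClosed.of_comp_of_isSeparated ι π
    exact ι.isClosedMap.isClosed_range
  · intro h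
    haveI : IsClosedImmersion ι := IsClosedImmersion.of_isPreimmersion ι h
    infer_instance

theorem range_snd_of_isPullback {P X Y Z : Scheme.{u}} {fst : P ⟶ X} {snd : P ⟶ Y} {f : X ⟶ Z}
    {g : Y ⟶ Z} (h : IsPullback fst snd f g) : Set.range snd = g ⁻¹' Set.range f := by
  have e : snd = h.isoPullback.hom ≫ pullback.snd f g := (h.isoPullback_hom_snd).symm
  have hs : Set.range h.isoPullback.hom = Set.univ :=
    Set.range_eq_univ.mpr h.isoPullback.hom.homeomorph.surjective
  rw [e, Scheme.Hom.comp_base, TopCat.coe_comp, Set.range_comp, hs, Set.image_univ,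
    Scheme.Pullback.range_snd]

theorem isClosed_preimage_fiberι_iff {T W : Scheme.{u}} (h : T ⟶ W) (t : W) (Z : Set T) :
    IsClosed ((h.fiberι t) ⁻¹' Z) ↔ IsClosed (Subtype.val ⁻¹' Z : Set ↥(h ⁻¹' {t})) := by
  have : (h.fiberι t) ⁻¹' Z = (h.fiberHomeo t) ⁻¹' (Subtype.val ⁻¹' Z) := rfl
  rw [this, Homeomorph.isClosed_preimage]

set_option maxHeartbeats 1600000 in
/-- the finite locus of a separated quasi-finite morphism of schemes of finite type over a
Noetherian base is constructible. -/
theorem isConstructible_finiteLocus_of_sep_qf {X Y W : Scheme.{u}} [IsNoetherian W] (f : X ⟶ Y)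
    (g : Y ⟶ W) [LocallyOfFiniteType g] [QuasiCompact g] [LocallyOfFiniteType (f ≫ g)]
    [QuasiCompact (f ≫ g)] [IsSeparated f] [LocallyQuasiFinite f] :
    IsConstructible {t : W | IsFinite (MoreMor.fiberMap f g t)} := by
  haveI : IsLocallyNoetherian Y := LocallyOfFiniteType.isLocallyNoetherian g
  haveI : CompactSpace Y := QuasiCompact.compactSpace_of_compactSpace g
  haveI : LocallyOfFiniteType f := locallyOfFiniteType_of_comp f g
  haveI : QuasiCompact f := QuasiCompact.of_comp f g
  obtain ⟨T, ι, π, hι, hιqc, hπ, rfl⟩ := Groth.Agent.S0385.result f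
  haveI : LocallyOfFiniteType (π ≫ g) := inferInstance
  haveI : QuasiCompact (π ≫ g) := inferInstance
  haveI : IsLocallyNoetherian T := LocallyOfFiniteType.isLocallyNoetherian (π ≫ g)
  haveI : CompactSpace T := QuasiCompact.compactSpace_of_compactSpace (π ≫ g)
  haveI : IsNoetherian T := { }
  haveI : LocallyOfFinitePresentation (π ≫ g) := inferInstance
  haveI : QuasiSeparated (π ≫ g) := inferInstance
  have hZ : IsLocallyConstructible (Set.range ι) :=
    (Groth.Agent.Lib.Helper12.isConstructible_of_isOpen ι.isOpenEmbedding.isOpen_range).isLocallyConstructible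
  have key := (Groth.Agent.S3428.result (π ≫ g) (Set.range ι) hZ).1.isConstructible
  convert key using 1
  ext t
  have sq1 := isPullback_fiberMap ι (π ≫ g) t
  have sq2 := isPullback_fiberMap π g t
  have sq12 := sq1.paste_vert sq2
  have sq0 := isPullback_fiberMap (ι ≫ π) g t
  haveI : IsOpenImmersion (MoreMor.fiberMap ι (π ≫ g) t) :=
    MorphismProperty.of_isPullback sq1 inferInstance
  haveI : IsFinite (MoreMor.fiberMap π g t) := MorphismProperty.of_isPullback sq2 inferInstance
  have e1 : IsFinite (MoreMor.fiberMap (ι ≫ π) g t) ↔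
      IsFinite (MoreMor.fiberMap ι (π ≫ g) t ≫ MoreMor.fiberMap π g t) := by
    rw [← sq12.isoIsPullback_hom_snd _ _ sq0]
    exact (MorphismProperty.cancel_left_of_respectsIso (P := @IsFinite) _ _).symm
  change IsFinite (MoreMor.fiberMap (ι ≫ π) g t) ↔ _
  rw [e1, isFinite_comp_iff_isClosed_range, range_snd_of_isPullback sq1,
    isClosed_preimage_fiberι_iff]
  rfl

set_option maxHeartbeats 1600000 in
/-- **Finiteness of a morphism is a constructible property of morphisms.** -/
theorem isConsMor_isFinite :
    ConsProp.IsConsMor (fun X Y T f g => AlgebraicGeometry.IsFinite f) := by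
  refine ⟨isFieldStableMor_isFinite, ?_⟩
  intro X Y S f g _ _ _ _ _ _
  haveI : IsLocallyNoetherian Y := LocallyOfFiniteType.isLocallyNoetherian g
  haveI : IsLocallyNoetherian X := LocallyOfFiniteType.isLocallyNoetherian (f ≫ g)
  haveI : LocallyOfFiniteType f := locallyOfFiniteType_of_comp f g
  haveI : QuasiCompact f := QuasiCompact.of_comp f g
  haveI : LocallyOfFinitePresentation g := inferInstance
  haveI : LocallyOfFinitePresentation (f ≫ g) := inferInstance
  haveI : QuasiSeparated g := inferInstance
  haveI : QuasiSeparated (f ≫ g) := inferInstance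
  set E := ConsProp.locusMor (fun X Y T f g => AlgebraicGeometry.IsFinite f) f g with hE
  by_cases hη : LocallyQuasiFinite (MoreMor.fiberMap f g (genericPoint S)) ∧
      IsSeparated (MoreMor.fiberMap f g (genericPoint S))
  · refine interior_nonempty_of_system' E Eᶜ (S.fromSpecResidueField (genericPoint S))
      (fun t => by simp) ?_
    intro I _ _ D c hc _ _ _ hN σ hσ i₀ e he _
    have hpb := isPullback_fiberMap f g (genericPoint S)
    obtain ⟨i, Xi, Yi, fi, gi, eY, eX, k1, k2, hsep, -, -, hqf⟩ := exists_stage_of_generic hc
      (descendsInLimits_and descends_isSeparated descends_QF) f g σ hσ i₀ e he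
      ⟨hη.2, MorphismProperty.of_isPullback hpb inferInstance,
        MorphismProperty.of_isPullback hpb inferInstance, hη.1⟩
    haveI := hN i
    haveI : IsSeparated fi := hsep
    haveI : LocallyQuasiFinite fi := hqf
    haveI : LocallyOfFiniteType gi := MorphismProperty.of_isPullback k1 inferInstance
    haveI : QuasiCompact gi := MorphismProperty.of_isPullback k1 inferInstance
    have k12 := k2.paste_vert k1
    haveI : LocallyOfFiniteType (fi ≫ gi) := MorphismProperty.of_isPullback k12 inferInstance
    haveI : QuasiCompact (fi ≫ gi) := MorphismProperty.of_isPullback k12 inferInstance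
    have hcons := isConstructible_finiteLocus_of_sep_qf fi gi
    have hbc : ConsProp.locusMor (fun X Y T f g => AlgebraicGeometry.IsFinite f) fi gi =
        (σ i) ⁻¹' E := locusMor_baseChange isFieldStableMor_isFinite k1 k2
    rcases dichotomy_of_isConstructible hcons with h | h
    · refine ⟨i, ⟨interior _, isOpen_interior⟩, h, Or.inl fun t ht => ?_⟩
      have h1 : t ∈ ConsProp.locusMor (fun X Y T f g => AlgebraicGeometry.IsFinite f) fi gi :=
        interior_subset ht
      rw [hbc] at h1
      exact h1
    · refine ⟨i, ⟨interior _, isOpen_interior⟩, h, Or.inr fun t ht => ?_⟩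
      have h1 : t ∉ ConsProp.locusMor (fun X Y T f g => AlgebraicGeometry.IsFinite f) fi gi :=
        interior_subset ht
      rw [hbc] at h1
      exact h1
  · right
    have h1 := (Groth.Agent.S3445.result f g).isConstructible
    have h2 := (Groth.Agent.S3424.result f g).isConstructible
    have h12 : IsConstructible ({s : S | LocallyQuasiFinite (MoreMor.fiberMap f g s)} ∩
        {s : S | IsSeparated (MoreMor.fiberMap f g s)}) := h1.inter h2
    have hsub : E ⊆ {s : S | LocallyQuasiFinite (MoreMor.fiberMap f g s)} ∩
        {s : S | IsSeparated (MoreMor.fiberMap f g s)} := by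
      intro s hs
      haveI : IsFinite (MoreMor.fiberMap f g s) := hs
      exact ⟨(inferInstance : LocallyQuasiFinite (MoreMor.fiberMap f g s)),
        (inferInstance : IsSeparated (MoreMor.fiberMap f g s))⟩
    rcases dichotomy_of_isConstructible h12 with h | h
    · exfalso
      have := ((genericPoint_spec S).mem_open_set_iff isOpen_interior).mpr
        (by rw [Set.univ_inter]; exact h)
      have h3 := interior_subset this
      exact hη ⟨h3.1, h3.2⟩
    · exact h.mono (interior_mono (Set.compl_subset_compl.mpr hsub))

/-- **S2585** -/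
theorem isLocallyConstructible_finiteLocus {X Y S : Scheme.{u}} (f : X ⟶ Y) (g : Y ⟶ S)
    [LocallyOfFinitePresentation g] [QuasiCompact g] [QuasiSeparated g]
    [LocallyOfFinitePresentation (f ≫ g)] [QuasiCompact (f ≫ g)] [QuasiSeparated (f ≫ g)] :
    IsLocallyConstructible {s : S | IsFinite (MoreMor.fiberMap f g s)} :=
  isLocallyConstructible_locusMor isConsMor_isFinite f g

/-- **S2576** -/
theorem isLocallyConstructible_closedImmersionLocus {X Y S : Scheme.{u}} (f : X ⟶ Y)
    (g : Y ⟶ S) [LocallyOfFinitePresentation g] [QuasiCompact g] [QuasiSeparated g]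
    [LocallyOfFinitePresentation (f ≫ g)] [QuasiCompact (f ≫ g)] [QuasiSeparated (f ≫ g)] :
    IsLocallyConstructible {s : S | IsClosedImmersion (MoreMor.fiberMap f g s)} := by
  have h1 := isLocallyConstructible_finiteLocus f g
  have h2 := Groth.Agent.S3426.result f g
  have : {s : S | IsClosedImmersion (MoreMor.fiberMap f g s)} =
      {s : S | IsFinite (MoreMor.fiberMap f g s)} ∩ {s : S | Mono (MoreMor.fiberMap f g s)} := by
    ext s
    exact IsClosedImmersion.iff_isFinite_and_mono _
  rw [this]
  exact h1.inter h2

end Groth.Agent.Lib.Helper12.H12FinLoc
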