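import Mathlib

set_option autoImplicit false
universe u v

namespace H12Fit

variable {k : Type u} [Field k] {σ : k →+* k} {V : Type v} [AddCommGroup V] [Module k V]
  (T : V →ₛₗ[σ] V)

lemma iterate_add (n : ℕ) (x y : V) : (⇑T)^[n] (x + y) = (⇑T)^[n] x + (⇑T)^[n] y := by
  induction n generalizing x y with
  | zero => rfl
  | succ n ih => rw [Function.iterate_succ_apply, Function.iterate_succ_apply,
      Function.iterate_succ_apply, map_add, ih]

lemma iterate_zero (n : ℕ) : (⇑T)^[n] (0 : V) = 0 := by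
  induction n with
  | zero => rfl
  | succ n ih => rw [Function.iterate_succ_apply, map_zero, ih]

lemma iterate_smul (n : ℕ) (c : k) (x : V) : (⇑T)^[n] (c • x) = (⇑σ)^[n] c • (⇑T)^[n] x := by
  induction n generalizing c x with
  | zero => rfl
  | succ n ih => rw [Function.iterate_succ_apply, Function.iterate_succ_apply,
      Function.iterate_succ_apply, map_smulₛₗ, ih]

/-- kernel of the `n`-th iterate. -/
def K (n : ℕ) : Submodule k V where
  carrier := {v | (⇑T)^[n] v = 0}
  add_mem' {a b} ha hb := by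
    change (⇑T)^[n] (a + b) = 0
    rw [iterate_add, ha, hb, add_zero]
  zero_mem' := iterate_zero T n
  smul_mem' c x hx := by
    change (⇑T)^[n] (c • x) = 0
    rw [iterate_smul, hx, smul_zero]

lemma mem_K (n : ℕ) (v : V) : v ∈ K T n ↔ (⇑T)^[n] v = 0 := Iff.rfl

lemma K_mono : Monotone (K T) := by
  intro a b hab v hv
  rw [mem_K] at hv ⊢
  obtain ⟨c, rfl⟩ := Nat.exists_eq_add_of_le hab
  rw [add_comm, Function.iterate_add_apply, hv, iterate_zero]

variable (hσ : Function.Surjective σ)
include hσ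

lemma iterate_surj (n : ℕ) : Function.Surjective (⇑σ)^[n] := Function.Surjective.iterate hσ n

/-- image of the `n`-th iterate. -/
def I (n : ℕ) : Submodule k V where
  carrier := Set.range (⇑T)^[n]
  add_mem' {a b} ha hb := by
    obtain ⟨x, rfl⟩ := ha
    obtain ⟨y, rfl⟩ := hb
    exact ⟨x + y, iterate_add T n x y⟩
  zero_mem' := ⟨0, iterate_zero T n⟩
  smul_mem' c x hx := by
    obtain ⟨y, rfl⟩ := hx
    obtain ⟨c', rfl⟩ := iterate_surj hσ n c
    exact ⟨c' • y, iterate_smul T n c' y⟩

lemma mem_I (n : ℕ) (v : V) : v ∈ I T hσ n ↔ ∃ w, (⇑T)^[n] w = v := Iff.rfl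

lemma span_range (n : ℕ) : Submodule.span k (Set.range (⇑T)^[n]) = I T hσ n := by
  apply le_antisymm
  · rw [Submodule.span_le]; exact fun x hx => hx
  · exact fun x hx => Submodule.subset_span hx

lemma I_anti : Antitone (I T hσ) := by
  intro a b hab v hv
  obtain ⟨c, rfl⟩ := Nat.exists_eq_add_of_le hab
  obtain ⟨w, rfl⟩ := hv
  exact ⟨(⇑T)^[c] w, by rw [← Function.iterate_add_apply]⟩

end H12Fit
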