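import Mathlib
import Groth.Agent.Lib.Helper12.Fit1

set_option autoImplicit false
universe u v

namespace H12Fit

variable {k : Type u} [Field k] {σ : k →+* k} {V : Type v} [AddCommGroup V] [Module k V]
  (T : V →ₛₗ[σ] V)

lemma iterate_sub (n : ℕ) (x y : V) : (⇑T)^[n] (x - y) = (⇑T)^[n] x - (⇑T)^[n] y := by
  induction n generalizing x y with
  | zero => rfl
  | succ n ih => rw [Function.iterate_succ_apply, Function.iterate_succ_apply,
      Function.iterate_succ_apply, map_sub, ih]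

theorem main (hσ : Function.Surjective σ) [FiniteDimensional k V] :
    (∃ W : Submodule k V, (W : Set V) = {v : V | ∃ n : ℕ, (⇑T)^[n] v = 0} ∧
      (∃ N : ℕ, ∀ v ∈ W, (⇑T)^[N] v = 0) ∧
      IsCompl W (⨅ n : ℕ, Submodule.span k (Set.range ((⇑T)^[n])))) ∧
    Set.BijOn (⇑T) (⋂ n : ℕ, (Submodule.span k (Set.range ((⇑T)^[n])) : Set V))
      (⋂ n : ℕ, (Submodule.span k (Set.range ((⇑T)^[n])) : Set V)) := by
  obtain ⟨N₁, hN₁⟩ := monotone_stabilizes_iff_noetherian.mpr
    (inferInstance : IsNoetherian k V) ⟨K T, K_mono T⟩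
  obtain ⟨N₂, hN₂⟩ := monotone_stabilizes_iff_artinian.mpr
    (inferInstance : IsArtinian k V)
    ⟨fun n => OrderDual.toDual (I T hσ n), fun a b hab => I_anti T hσ hab⟩
  set N := max N₁ N₂ with hNdef
  have hK : ∀ m, N ≤ m → K T N = K T m := fun m hm => by
    have h1 : K T N₁ = K T N := hN₁ N (le_max_left _ _)
    have h2 : K T N₁ = K T m := hN₁ m ((le_max_left _ _).trans hm)
    rw [← h1, h2]
  have hI : ∀ m, N ≤ m → I T hσ N = I T hσ m := fun m hm => by
    have h1 : I T hσ N₂ = I T hσ N := hN₂ N (le_max_right _ _)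
    have h2 : I T hσ N₂ = I T hσ m := hN₂ m ((le_max_right _ _).trans hm)
    rw [← h1, h2]
  have hinf : (⨅ n : ℕ, Submodule.span k (Set.range ((⇑T)^[n]))) = I T hσ N := by
    simp_rw [span_range T hσ]
    apply le_antisymm (iInf_le _ N)
    refine le_iInf fun n => ?_
    rcases le_total n N with h | h
    · exact I_anti T hσ h
    · exact (hI n h).le
  have hdisj : K T N ⊓ I T hσ N = ⊥ := by
    rw [eq_bot_iff]
    rintro v ⟨hv1, hv2⟩
    obtain ⟨w, rfl⟩ := hv2
    have hv1' : (⇑T)^[N] ((⇑T)^[N] w) = 0 := hv1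
    rw [← Function.iterate_add_apply] at hv1'
    have hw : w ∈ K T (N + N) := hv1'
    rw [← hK (N + N) (by omega)] at hw
    rw [Submodule.mem_bot]
    exact hw
  have hsup : K T N ⊔ I T hσ N = ⊤ := by
    rw [eq_top_iff]
    rintro v -
    have h1 : (⇑T)^[N] v ∈ I T hσ N := ⟨v, rfl⟩
    rw [hI (N + N) (by omega)] at h1
    obtain ⟨w, hw⟩ := h1
    rw [Function.iterate_add_apply] at hw
    have h2 : v - (⇑T)^[N] w ∈ K T N := by
      rw [mem_K, iterate_sub, hw, sub_self]
    have h3 : (⇑T)^[N] w ∈ I T hσ N := ⟨w, rfl⟩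
    have : v = (v - (⇑T)^[N] w) + (⇑T)^[N] w := by abel
    rw [this]
    exact Submodule.add_mem_sup h2 h3
  refine ⟨⟨K T N, ?_, ⟨N, fun v hv => hv⟩, ?_⟩, ?_⟩
  · ext v
    constructor
    · intro hv; exact ⟨N, hv⟩
    · rintro ⟨n, hn⟩
      have : v ∈ K T (max n N) := K_mono T (le_max_left n N) hn
      rwa [← hK _ (le_max_right n N)] at this
  · rw [hinf]
    exact ⟨disjoint_iff.mpr hdisj, codisjoint_iff.mpr hsup⟩
  · have hset : (⋂ n : ℕ, (Submodule.span k (Set.range ((⇑T)^[n])) : Set V)) =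
        (I T hσ N : Set V) := by
      rw [← Submodule.coe_iInf, hinf]
    rw [hset]
    refine ⟨?_, ?_, ?_⟩
    · rintro v ⟨w, rfl⟩
      change T ((⇑T)^[N] w) ∈ I T hσ N
      rw [hI (N + 1) (by omega)]
      exact ⟨w, Function.iterate_succ_apply' _ _ _⟩
    · intro v hv v' hv' hvv
      have h1 : v - v' ∈ K T 1 := by
        rw [mem_K, Function.iterate_one, map_sub, hvv, sub_self]
      have h2 : v - v' ∈ K T N := by
        have := K_mono T (le_max_left 1 N) h1
        rwa [← hK _ (le_max_right 1 N)] at this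
      have h3 : v - v' ∈ I T hσ N := Submodule.sub_mem _ hv hv'
      have : v - v' ∈ K T N ⊓ I T hσ N := ⟨h2, h3⟩
      rw [hdisj, Submodule.mem_bot, sub_eq_zero] at this
      exact this
    · intro v hv
      have hv' : v ∈ I T hσ (N + 1) := by rw [← hI (N + 1) (by omega)]; exact hv
      obtain ⟨w, rfl⟩ := hv'
      exact ⟨(⇑T)^[N] w, ⟨w, rfl⟩, (Function.iterate_succ_apply' _ _ _).symm⟩

end H12Fit
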