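import Mathlib
import Groth.Agent.Lib.Helper14.FPFib4
import Groth.Agent.Lib.Helper6.Fib2

set_option autoImplicit false
set_option linter.style.haveILetI false
set_option linter.unusedSectionVars false
universe u

namespace Groth.Agent.Lib.Helper12.H12FlatFib

open AlgebraicGeometry CategoryTheory Limits Topology
open Groth.Agent.Lib.Helper6.Fib
open Groth.Agent.Lib.Helper14.AS

variable {U V W : Scheme.{u}}

/-- The fibre map `U_w ⟶ V_w` through `u` is flat at (the point over) `u`. -/
def FibFlatAt (p : U ⟶ V) (q : V ⟶ W) (u : U) : Prop :=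
  ∀ (w : W) (t : ↥(pullback (p ≫ q) (W.fromSpecResidueField w))),
    pullback.fst (p ≫ q) (W.fromSpecResidueField w) t = u →
    ((fibMap p q (W.fromSpecResidueField w)).stalkMap t).hom.Flat

theorem apply_fst (h : U ⟶ W) (w : W) (t : ↥(pullback h (W.fromSpecResidueField w))) :
    h (pullback.fst h (W.fromSpecResidueField w) t) = w := by
  have := congrArg (fun k : pullback h (W.fromSpecResidueField w) ⟶ W => k t) pullback.condition
  simp only [Scheme.Hom.comp_apply, Scheme.fromSpecResidueField_apply] at this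
  exact this

theorem fst_injective (h : U ⟶ W) (w : W) :
    Function.Injective (pullback.fst h (W.fromSpecResidueField w)) :=
  (h.fiberι w).isEmbedding.injective

theorem exists_fst_eq (h : U ⟶ W) (u : U) :
    ∃ t : ↥(pullback h (W.fromSpecResidueField (h u))),
      pullback.fst h (W.fromSpecResidueField (h u)) t = u := by
  obtain ⟨y⟩ : Nonempty ↥(Spec (W.residueField (h u))) := inferInstance
  obtain ⟨t, ht1, -⟩ := Scheme.Pullback.exists_preimage_pullback (f := h)
    (g := W.fromSpecResidueField (h u)) u y (Scheme.fromSpecResidueField_apply _ y).symm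
  exact ⟨t, ht1⟩

section BC
variable {U' V' W' : Scheme.{u}} (p : U ⟶ V) (q : V ⟶ W)
    (p' : U' ⟶ V') (q' : V' ⟶ W') (gU : U' ⟶ U) (gV : V' ⟶ V) (gW : W' ⟶ W)

/-- the fibre map of a base change is a (flat) base change of the fibre map. -/
theorem exists_fibre_square (hV : IsPullback gV q' q gW) (hU : IsPullback gU p' p gV) (w' : W') :
    ∃ (aU : pullback (p' ≫ q') (W'.fromSpecResidueField w') ⟶
        pullback (p ≫ q) (W.fromSpecResidueField (gW w')))
      (aV : pullback q' (W'.fromSpecResidueField w') ⟶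
        pullback q (W.fromSpecResidueField (gW w'))),
      IsPullback aU (fibMap p' q' (W'.fromSpecResidueField w'))
        (fibMap p q (W.fromSpecResidueField (gW w'))) aV ∧ Flat aV ∧
      aU ≫ pullback.fst _ _ = pullback.fst _ _ ≫ gU := by
  have hbig : IsPullback gU (p' ≫ q') (p ≫ q) gW := hU.paste_vert hV
  have sqU' := IsPullback.of_hasPullback (p' ≫ q') (W'.fromSpecResidueField w')
  have sqV' := IsPullback.of_hasPullback q' (W'.fromSpecResidueField w')
  have sqU := IsPullback.of_hasPullback (p ≫ q) (W.fromSpecResidueField (gW w'))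
  have sqV := IsPullback.of_hasPullback q (W.fromSpecResidueField (gW w'))
  obtain ⟨aU, ha1, ha2⟩ : ∃ aU : pullback (p' ≫ q') (W'.fromSpecResidueField w') ⟶
      pullback (p ≫ q) (W.fromSpecResidueField (gW w')),
      aU ≫ pullback.fst _ _ = pullback.fst _ _ ≫ gU ∧
      aU ≫ pullback.snd _ _ = pullback.snd _ _ ≫ Spec.map (gW.residueFieldMap w') :=
    ⟨pullback.lift (pullback.fst _ _ ≫ gU) (pullback.snd _ _ ≫ Spec.map (gW.residueFieldMap w'))
      (by rw [Category.assoc, hbig.w, ← Category.assoc, pullback.condition, Category.assoc,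
            Category.assoc, Scheme.Hom.SpecMap_residueFieldMap_fromSpecResidueField]),
      pullback.lift_fst _ _ _, pullback.lift_snd _ _ _⟩
  obtain ⟨aV, hb1, hb2⟩ : ∃ aV : pullback q' (W'.fromSpecResidueField w') ⟶
      pullback q (W.fromSpecResidueField (gW w')),
      aV ≫ pullback.fst _ _ = pullback.fst _ _ ≫ gV ∧
      aV ≫ pullback.snd _ _ = pullback.snd _ _ ≫ Spec.map (gW.residueFieldMap w') :=
    ⟨pullback.lift (pullback.fst _ _ ≫ gV) (pullback.snd _ _ ≫ Spec.map (gW.residueFieldMap w'))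
      (by rw [Category.assoc, hV.w, ← Category.assoc, pullback.condition, Category.assoc,
            Category.assoc, Scheme.Hom.SpecMap_residueFieldMap_fromSpecResidueField]),
      pullback.lift_fst _ _ _, pullback.lift_snd _ _ _⟩
  obtain ⟨hsq, haV⟩ := isPullback_fibreMap_of_isPullback p' q' p q gU gV gW w' _ _ _ _ _ _ _ _
    sqU' sqV' sqU sqV hbig hV hU.w (fibMap p' q' _) (pullback.lift_fst _ _ _)
    (pullback.lift_snd _ _ _) (fibMap p q _) (pullback.lift_fst _ _ _) (pullback.lift_snd _ _ _)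
    aU ha1 ha2 aV hb1 hb2
  exact ⟨aU, aV, hsq, haV, ha1⟩

theorem fibFlatAt_baseChange (hV : IsPullback gV q' q gW) (hU : IsPullback gU p' p gV) (u' : U') :
    FibFlatAt p' q' u' ↔ FibFlatAt p q (gU u') := by
  have hbig : IsPullback gU (p' ≫ q') (p ≫ q) gW := hU.paste_vert hV
  constructor
  · intro H w t ht
    obtain ⟨w', hw'⟩ : ∃ w' : W', w' = (p' ≫ q') u' := ⟨_, rfl⟩
    have hw : w = gW w' := by
      rw [← apply_fst (p ≫ q) w t, ht, hw', ← Scheme.Hom.comp_apply, ← Scheme.Hom.comp_apply,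
        hbig.w]
    subst hw
    obtain ⟨aU, aV, hsq, haV, ha1⟩ := exists_fibre_square p q p' q' gU gV gW hV hU w'
    obtain ⟨t', ht'⟩ : ∃ t' : ↥(pullback (p' ≫ q') (W'.fromSpecResidueField w')),
        pullback.fst (p' ≫ q') (W'.fromSpecResidueField w') t' = u' := by
      subst hw'
      exact exists_fst_eq (p' ≫ q') u'
    have hat : aU t' = t := by
      apply fst_injective (p ≫ q) (gW w')
      rw [ht, ← Scheme.Hom.comp_apply, ha1, Scheme.Hom.comp_apply, ht']
    rw [← hat]
    exact flat_stalkMap_of_baseChange_of_flat hsq t' (Flat.stalkMap aV _) (H w' t' ht')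
  · intro H w' t' ht'
    obtain ⟨aU, aV, hsq, haV, ha1⟩ := exists_fibre_square p q p' q' gU gV gW hV hU w'
    refine flat_stalkMap_baseChange hsq t' (H (gW w') (aU t') ?_)
    rw [← Scheme.Hom.comp_apply, ha1, Scheme.Hom.comp_apply, ht']

end BC

section E

/-- the locus in the base where the fibre map is flat. -/
def E (p : U ⟶ V) (q : V ⟶ W) : Set W :=
  {w : W | Flat (fibMap p q (W.fromSpecResidueField w))}

theorem mem_E_iff (p : U ⟶ V) (q : V ⟶ W) (w : W) :
    w ∈ E p q ↔ ∀ u : U, (p ≫ q) u = w → FibFlatAt p q u := by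
  constructor
  · intro hw u hu w' t ht
    have hw' : w' = w := by rw [← hu, ← ht, apply_fst]
    subst hw'
    haveI : Flat (fibMap p q (W.fromSpecResidueField w')) := hw
    exact Flat.stalkMap _ t
  · intro H
    refine Flat.of_stalkMap _ fun t => ?_
    exact H _ (apply_fst _ w t) w t rfl

theorem E_baseChange {U' V' W' : Scheme.{u}} (p : U ⟶ V) (q : V ⟶ W)
    (p' : U' ⟶ V') (q' : V' ⟶ W') (gU : U' ⟶ U) (gV : V' ⟶ V) (gW : W' ⟶ W)
    (hV : IsPullback gV q' q gW) (hU : IsPullback gU p' p gV) :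
    E p' q' = gW ⁻¹' E p q := by
  have hbig : IsPullback gU (p' ≫ q') (p ≫ q) gW := hU.paste_vert hV
  ext w'
  rw [Set.mem_preimage, mem_E_iff, mem_E_iff]
  constructor
  · intro H u hu
    obtain ⟨u', hu'1, hu'2⟩ := exists_pt_of_isPullback hbig u w' hu
    rw [← hu'1]
    exact (fibFlatAt_baseChange p q p' q' gU gV gW hV hU u').mp (H u' hu'2)
  · intro H u' hu'
    refine (fibFlatAt_baseChange p q p' q' gU gV gW hV hU u').mpr (H (gU u') ?_)
    rw [← hu', ← Scheme.Hom.comp_apply, ← Scheme.Hom.comp_apply, hbig.w]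

end E

section Loc

/-- the fibre of a composite `a ≫ h` is the base change of the fibre of `h` along `a`. -/
theorem isPullback_lift_of_comp {X' X T : Scheme.{u}} (a : X' ⟶ X) (h : X ⟶ W) (ξ : T ⟶ W)
    (h' : X' ⟶ W) (e : h' = a ≫ h) :
    ∃ at' : pullback h' ξ ⟶ pullback h ξ, IsPullback at' (pullback.fst h' ξ) (pullback.fst h ξ) a ∧
      at' ≫ pullback.snd h ξ = pullback.snd h' ξ := by
  subst e
  have hc : (pullback.fst (a ≫ h) ξ ≫ a) ≫ h = pullback.snd (a ≫ h) ξ ≫ ξ := by
    rw [Category.assoc]; exact pullback.condition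
  refine ⟨pullback.lift (pullback.fst (a ≫ h) ξ ≫ a) (pullback.snd (a ≫ h) ξ) hc, ?_,
    pullback.lift_snd _ _ _⟩
  have hbig : IsPullback (pullback.lift (pullback.fst (a ≫ h) ξ ≫ a) (pullback.snd (a ≫ h) ξ) hc ≫
      pullback.snd h ξ) (pullback.fst (a ≫ h) ξ) ξ (a ≫ h) := by
    rw [pullback.lift_snd]
    exact (IsPullback.of_hasPullback (a ≫ h) ξ).flip
  exact IsPullback.of_right hbig (pullback.lift_fst _ _ _) (IsPullback.of_hasPullback h ξ).flip

variable {U' V' : Scheme.{u}} (p : U ⟶ V) (q : V ⟶ W) (p' : U' ⟶ V') (a : U' ⟶ U) (b : V' ⟶ V)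
  [IsOpenImmersion a] [IsOpenImmersion b]

theorem fibFlatAt_openImm (comm : p' ≫ b = a ≫ p) (u' : U') :
    FibFlatAt p' (b ≫ q) u' ↔ FibFlatAt p q (a u') := by
  have e1 : p' ≫ b ≫ q = a ≫ p ≫ q := by rw [← Category.assoc, comm, Category.assoc]
  have key : ∀ w : W, ∃ (at' : pullback (p' ≫ b ≫ q) (W.fromSpecResidueField w) ⟶
      pullback (p ≫ q) (W.fromSpecResidueField w)),
      IsPullback at' (pullback.fst _ _) (pullback.fst _ _) a ∧
      ∀ t', ((fibMap p' (b ≫ q) (W.fromSpecResidueField w)).stalkMap t').hom.Flat ↔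
        ((fibMap p q (W.fromSpecResidueField w)).stalkMap (at' t')).hom.Flat := by
    intro w
    obtain ⟨at', hat, hat2⟩ := isPullback_lift_of_comp a (p ≫ q) (W.fromSpecResidueField w)
      (p' ≫ b ≫ q) e1
    obtain ⟨bt, hbt, hbt2⟩ := isPullback_lift_of_comp b q (W.fromSpecResidueField w) (b ≫ q) rfl
    haveI : IsOpenImmersion at' := MorphismProperty.of_isPullback (P := @IsOpenImmersion) hat.flip
      inferInstance
    haveI : IsOpenImmersion bt := MorphismProperty.of_isPullback (P := @IsOpenImmersion) hbt.flip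
      inferInstance
    have hcomm : fibMap p' (b ≫ q) (W.fromSpecResidueField w) ≫ bt =
        at' ≫ fibMap p q (W.fromSpecResidueField w) := by
      have h1 : fibMap p' (b ≫ q) (W.fromSpecResidueField w) ≫ pullback.fst (b ≫ q) _ =
          pullback.fst _ _ ≫ p' := pullback.lift_fst _ _ _
      have h2 : fibMap p q (W.fromSpecResidueField w) ≫ pullback.fst q _ =
          pullback.fst _ _ ≫ p := pullback.lift_fst _ _ _
      have h3 : fibMap p' (b ≫ q) (W.fromSpecResidueField w) ≫ pullback.snd (b ≫ q) _ =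
          pullback.snd _ _ := pullback.lift_snd _ _ _
      have h4 : fibMap p q (W.fromSpecResidueField w) ≫ pullback.snd q _ =
          pullback.snd _ _ := pullback.lift_snd _ _ _
      apply pullback.hom_ext
      · rw [Category.assoc, hbt.w, reassoc_of% h1, comm, Category.assoc, h2, reassoc_of% hat.w]
      · rw [Category.assoc, hbt2, h3, Category.assoc, h4, hat2]
    exact ⟨at', hat, fun t' => flat_stalkMap_openImm_iff _ _ at' bt hcomm t'⟩
  constructor
  · intro H w t ht
    obtain ⟨at', hat, hiff⟩ := key w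
    obtain ⟨t', ht'1, ht'2⟩ := exists_pt_of_isPullback hat t u' ht
    rw [← ht'1]
    exact (hiff t').mp (H w t' ht'2)
  · intro H w t' ht'
    obtain ⟨at', hat, hiff⟩ := key w
    refine (hiff t').mpr (H w (at' t') ?_)
    rw [← Scheme.Hom.comp_apply, hat.w, Scheme.Hom.comp_apply, ht']

end Loc

end Groth.Agent.Lib.Helper12.H12FlatFib
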