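import Mathlib
import Groth.Agent.Lib.Helper12.FlatFib1
import Groth.Agent.Lib.Helper18.FlG
import Groth.Agent.Lib.Helper25.GFScheme
import Groth.Agent.Lib.Helper12.NearGeneric
import Groth.Agent.Lib.Helper12.ConstrTop
import Groth.Agent.Lib.Helper16.ReducedSub
import Groth.Agent.Lib.Helper14.LfpOfComp

set_option autoImplicit false
set_option linter.style.haveILetI false
set_option linter.unusedSectionVars false
universe u

namespace Groth.Agent.Lib.Helper12.H12FlatFib

open AlgebraicGeometry CategoryTheory Limits Topology TopologicalSpace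
open Groth.Agent.Lib.Helper6.Fib
open Groth.Agent.Lib.Helper14.AS

variable {U V W : Scheme.{u}} (p : U ⟶ V) (q : V ⟶ W)

/-- (P1) flatness of `p` at `u` gives flatness of the fibre map. -/
theorem fibFlatAt_of_flat (u : U) (h : (p.stalkMap u).hom.Flat) : FibFlatAt p q u := by
  intro w t ht
  refine flat_stalkMap_baseChange (fibMap_isPullback p q (W.fromSpecResidueField w)) t ?_
  exact flat_stalkMap_pt p ht.symm h

/-- (P2) fibre criterion. -/
theorem flat_of_fibFlatAt [LocallyOfFinitePresentation (p ≫ q)] [LocallyOfFiniteType q] (u : U)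
    (h : FibFlatAt p q u) (hfl : ((p ≫ q).stalkMap u).hom.Flat) : (p.stalkMap u).hom.Flat := by
  obtain ⟨t, ht⟩ := exists_fst_eq (p ≫ q) u
  have key := flat_of_fibre_flat_fp p q ((p ≫ q) u) _ _ _ _
    (IsPullback.of_hasPullback (p ≫ q) (W.fromSpecResidueField ((p ≫ q) u)))
    (IsPullback.of_hasPullback q (W.fromSpecResidueField ((p ≫ q) u)))
    (fibMap p q _) (pullback.lift_fst _ _ _) (pullback.lift_snd _ _ _) t
    (flat_stalkMap_pt (p ≫ q) ht.symm hfl) (h _ t ht)
  exact flat_stalkMap_pt p ht key.2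

/-- (P3) over the generic point of an integral scheme everything is flat. -/
theorem flat_stalkMap_of_genericPoint [IsIntegral W] (h : U ⟶ W) (u : U)
    (hu : h u = genericPoint W) : (h.stalkMap u).hom.Flat := by
  have key : ∀ w : W, w = genericPoint W → IsField (W.presheaf.stalk w) := by
    rintro w rfl
    exact Field.toIsField W.functionField
  have hF := key _ hu
  letI := hF.toField
  letI := (h.stalkMap u).hom.toAlgebra
  change Module.Flat _ _
  infer_instance

/-- (P4) -/
theorem flat_stalkMap_of_flat_morphismRestrict (h : U ⟶ W) (W₁ : W.Opens) [Flat (h ∣_ W₁)] (u : U)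
    (hu : h u ∈ W₁) : (h.stalkMap u).hom.Flat := by
  have := (flat_stalkMap_openImm_iff h (h ∣_ W₁) (h ⁻¹ᵁ W₁).ι W₁.ι
    (morphismRestrict_ι h W₁) ⟨u, hu⟩).mp (Flat.stalkMap _ _)
  exact this

/-- over an integral base the fibre-flat locus is constant on a nonempty open. -/
theorem exists_open_const [IsIntegral W] [LocallyOfFinitePresentation (p ≫ q)]
    [LocallyOfFinitePresentation q] [QuasiCompact (p ≫ q)] :
    ∃ W' : W.Opens, (W' : Set W).Nonempty ∧
      ((∀ w ∈ W', w ∈ E p q) ∨ (∀ w ∈ W', w ∉ E p q)) := by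
  haveI : LocallyOfFinitePresentation p :=
    Groth.Agent.Lib.Helper14.AS.locallyOfFinitePresentation_of_comp p q inferInstance inferInstance
  have hopen : IsOpen {u : U | (p.stalkMap u).hom.Flat} :=
    Groth.Agent.Lib.Helper18.Fl.isOpen_flatLocus_scheme p
  set F : Set U := {u : U | (p.stalkMap u).hom.Flat} with hF
  have hclosed : IsClosed Fᶜ := hopen.isClosed_compl
  by_cases hη : genericPoint W ∈ E p q
  · -- the generic fibre map is flat
    have h1 : ∀ u ∈ Fᶜ, (p ≫ q) u ≠ genericPoint W := by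
      intro u hu hu'
      apply hu
      exact flat_of_fibFlatAt p q u ((mem_E_iff p q _).mp hη u hu')
        (flat_stalkMap_of_genericPoint (p ≫ q) u hu')
    obtain ⟨W', hne, hW'⟩ :=
      Groth.Agent.Lib.Helper12.H12NearGeneric.exists_open_disjoint_of_closed (p ≫ q) Fᶜ hclosed h1
    refine ⟨W', hne, Or.inl ?_⟩
    intro w hw
    rw [mem_E_iff]
    intro u hu
    apply fibFlatAt_of_flat
    by_contra hcon
    exact hW' u hcon (hu ▸ hw)
  · -- the generic fibre map is not flat
    rw [mem_E_iff] at hη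
    push Not at hη
    obtain ⟨u₀, hu₀, hu₀'⟩ := hη
    have hu₀F : u₀ ∈ Fᶜ := fun h => hu₀' (fibFlatAt_of_flat p q u₀ h)
    obtain ⟨W₁, hW₁d, hW₁fl, -⟩ := Groth.Agent.Lib.Helper25.GFScheme.generic_flatness (p ≫ q)
    obtain ⟨W₂, hηW₂, hW₂⟩ :=
      Groth.Agent.Lib.Helper12.H12NearGeneric.exists_open_subset_image_of_closed (p ≫ q) Fᶜ
        hclosed ⟨u₀, hu₀F, hu₀⟩
    have hηW₁ : genericPoint W ∈ W₁ := by
      obtain ⟨z, hz⟩ := hW₁d.nonempty
      exact (genericPoint_specializes z).mem_open W₁.isOpen hz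
    refine ⟨W₁ ⊓ W₂, ⟨genericPoint W, hηW₁, hηW₂⟩, Or.inr ?_⟩
    rintro w ⟨hw1, hw2⟩ hwE
    obtain ⟨u, huF, hu⟩ := hW₂ hw2
    apply huF
    refine flat_of_fibFlatAt p q u ((mem_E_iff p q _).mp hwE u hu) ?_
    exact flat_stalkMap_of_flat_morphismRestrict (p ≫ q) W₁ u (hu ▸ hw1)

/-- **Noetherian case**: the fibre-flat locus is constructible. -/
theorem isConstructible_E [NoetherianSpace W] [LocallyOfFinitePresentation (p ≫ q)]
    [LocallyOfFinitePresentation q] [QuasiCompact (p ≫ q)] : IsConstructible (E p q) := by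
  have key := (Groth.Agent.Lib.Helper12.constructible_function_of_locally_constant
    (fun w : W => w ∈ E p q) ?_).1 True
  · convert key using 1
    ext w
    simp
  intro Z hZ hZirr
  set I := Scheme.IdealSheafData.vanishingIdeal ⟨Z, hZ⟩ with hI
  have hrange : Set.range I.subschemeι = Z := by
    rw [Scheme.IdealSheafData.range_subschemeι, Scheme.IdealSheafData.coe_support_vanishingIdeal]
    rfl
  set ι := I.subschemeι with hι
  haveI : IrreducibleSpace I.subscheme := by
    haveI : IrreducibleSpace (Set.range ι) := by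
      rw [hrange]
      exact Subtype.irreducibleSpace hZirr
    exact (ι.isEmbedding.toHomeomorph.irreducibleSpace_iff).mpr inferInstance
  haveI : IsReduced I.subscheme :=
    Groth.Agent.Lib.Helper16.isReduced_subscheme_vanishingIdeal ⟨Z, hZ⟩
  haveI : IsIntegral I.subscheme := isIntegral_of_irreducibleSpace_of_isReduced _
  let gV := pullback.fst q ι
  let qZ := pullback.snd q ι
  let gU := pullback.fst p gV
  let pZ := pullback.snd p gV
  have hV : IsPullback gV qZ q ι := IsPullback.of_hasPullback q ι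
  have hU : IsPullback gU pZ p gV := IsPullback.of_hasPullback p gV
  have hbig : IsPullback gU (pZ ≫ qZ) (p ≫ q) ι := hU.paste_vert hV
  haveI : LocallyOfFinitePresentation (pZ ≫ qZ) :=
    MorphismProperty.of_isPullback (P := @LocallyOfFinitePresentation) hbig inferInstance
  haveI : QuasiCompact (pZ ≫ qZ) :=
    MorphismProperty.of_isPullback (P := @QuasiCompact) hbig inferInstance
  haveI : LocallyOfFinitePresentation qZ := by unfold qZ; infer_instance
  have hE : E pZ qZ = ι ⁻¹' E p q := E_baseChange p q pZ qZ gU gV ι hV hU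
  obtain ⟨V', hV'ne, hV'⟩ := exists_open_const pZ qZ
  have hconst : ∀ a ∈ V', ∀ b ∈ V', (a ∈ E pZ qZ ↔ b ∈ E pZ qZ) := by
    intro a ha b hb
    rcases hV' with h | h
    · exact ⟨fun _ => h b hb, fun _ => h a ha⟩
    · exact ⟨fun h' => absurd h' (h a ha), fun h' => absurd h' (h b hb)⟩
  obtain ⟨O, hO, hOV'⟩ := ι.isEmbedding.isInducing.isOpen_iff.mp V'.2
  refine ⟨O, hO, ?_, ?_⟩
  · obtain ⟨z, hz⟩ := hV'ne
    refine ⟨ι z, ?_, ?_⟩
    · have : z ∈ ι ⁻¹' O := by rw [hOV']; exact hz
      exact this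
    · rw [← hrange]; exact ⟨z, rfl⟩
  · rintro a ⟨haU, haZ⟩ b ⟨hbU, hbZ⟩
    rw [← hrange] at haZ hbZ
    obtain ⟨a', rfl⟩ := haZ
    obtain ⟨b', rfl⟩ := hbZ
    have ha' : a' ∈ V' := by
      have : a' ∈ ι ⁻¹' O := haU
      rw [hOV'] at this; exact this
    have hb' : b' ∈ V' := by
      have : b' ∈ ι ⁻¹' O := hbU
      rw [hOV'] at this; exact this
    have := hconst a' ha' b' hb'
    rw [hE] at this
    exact propext this

end Groth.Agent.Lib.Helper12.H12FlatFib
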