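import Mathlib
import Groth.Agent.Lib.Helper12.FlatFib2
import Groth.Agent.Lib.Helper14.LocConstr

set_option autoImplicit false
set_option linter.style.haveILetI false
set_option linter.unusedSectionVars false
universe u

namespace Groth.Agent.Lib.Helper12.H12FlatFib

open TensorProduct Function MvPolynomial CategoryTheory
open Groth.Agent.Lib.Helper14.AS Groth.Agent.Lib.Helper18.Fl

section ring
variable {R₀ A₀ B₀ : Type u} [CommRing R₀] [CommRing A₀] [CommRing B₀] [Algebra R₀ A₀] [Algebra A₀ B₀]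
    [Algebra R₀ B₀] [IsScalarTower R₀ A₀ B₀]

set_option synthInstance.maxHeartbeats 400000 in
set_option maxHeartbeats 1000000 in
/-- Noetherian model of a tower of finitely presented algebras. -/
theorem exists_noeth_tower_model
    [Algebra.FinitePresentation R₀ A₀] [Algebra.FinitePresentation R₀ B₀] :
    ∃ (Λ A₁ B₁ : Type u) (_ : CommRing Λ) (_ : CommRing A₁) (_ : CommRing B₁)
      (ρ : Λ →+* R₀) (α : A₁ →+* A₀) (β : B₁ →+* B₀) (f₁ : Λ →+* A₁) (g₁ : A₁ →+* B₁),
      IsNoetherianRing Λ ∧ f₁.FiniteType ∧ g₁.FiniteType ∧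
      IsPushout (CommRingCat.ofHom ρ) (CommRingCat.ofHom f₁)
        (CommRingCat.ofHom (algebraMap R₀ A₀)) (CommRingCat.ofHom α) ∧
      IsPushout (CommRingCat.ofHom ρ) (CommRingCat.ofHom (g₁.comp f₁))
        (CommRingCat.ofHom (algebraMap R₀ B₀)) (CommRingCat.ofHom β) ∧
      β.comp g₁ = (algebraMap A₀ B₀).comp α := by
  classical
  haveI : Algebra.FinitePresentation A₀ B₀ :=
    Algebra.FinitePresentation.of_restrict_scalars_finitePresentation R₀ A₀ B₀
  let PA := Algebra.Presentation.ofFinitePresentation R₀ A₀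
  let PB := Algebra.Presentation.ofFinitePresentation A₀ B₀
  let Q := PB.comp PA
  have hT : (Q.coeffs ∪ PA.coeffs).Finite := Q.finite_coeffs.union PA.finite_coeffs
  let S₁ : Subalgebra ℤ R₀ := Algebra.adjoin ℤ (Q.coeffs ∪ PA.coeffs)
  have hFG : S₁.FG := ⟨hT.toFinset, by simp [S₁]⟩
  have hTS : Q.coeffs ∪ PA.coeffs ⊆ S₁ := Algebra.subset_adjoin
  haveI : Q.HasCoeffs S₁ := ⟨fun x hx => ⟨⟨x, hTS (Or.inl hx)⟩, rfl⟩⟩
  haveI : PA.HasCoeffs S₁ := ⟨fun x hx => ⟨⟨x, hTS (Or.inr hx)⟩, rfl⟩⟩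
  obtain ⟨α, hα, poA⟩ := isPushout_model PA S₁
  obtain ⟨β, hβ, poB⟩ := isPushout_model Q S₁
  obtain ⟨g₁, hg₁, hcomm, hft⟩ := exists_model_map PA PB S₁ α hα β hβ
  refine ⟨S₁, PA.ModelOfHasCoeffs S₁, Q.ModelOfHasCoeffs S₁, inferInstance, inferInstance,
    inferInstance, algebraMap S₁ R₀, α, β, algebraMap S₁ _, g₁, isNoetherianRing_of_fg S₁ hFG,
    ?_, hft, poA, ?_, hcomm⟩
  · rw [RingHom.finiteType_algebraMap]; infer_instance
  · rw [hg₁]; exact poB

end ring

open AlgebraicGeometry Limits Topology TopologicalSpace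

/-- **affine finitely presented case**. -/
theorem isLocallyConstructible_E_Spec {R₀ A₀ B₀ : CommRingCat.{u}} (f : R₀ ⟶ A₀) (g : A₀ ⟶ B₀)
    (hf : f.hom.FinitePresentation) (hfg : (f ≫ g).hom.FinitePresentation) :
    IsLocallyConstructible (E (Spec.map g) (Spec.map f)) := by
  letI := f.hom.toAlgebra
  letI := g.hom.toAlgebra
  letI := (f ≫ g).hom.toAlgebra
  haveI : IsScalarTower R₀ A₀ B₀ := IsScalarTower.of_algebraMap_eq fun a => rfl
  haveI : Algebra.FinitePresentation R₀ A₀ := hf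
  haveI : Algebra.FinitePresentation R₀ B₀ := hfg
  obtain ⟨Λ, A₁, B₁, _, _, _, ρ, α, β, f₁, g₁, hN, hf₁, hg₁, poA, poB, hcomm⟩ :=
    exists_noeth_tower_model (R₀ := R₀) (A₀ := A₀) (B₀ := B₀)
  have hV : IsPullback (Spec.map (CommRingCat.ofHom α)) (Spec.map f)
      (Spec.map (CommRingCat.ofHom f₁)) (Spec.map (CommRingCat.ofHom ρ)) :=
    (isPullback_SpecMap_of_isPushout _ _ _ _ poA).flip
  have hbig : IsPullback (Spec.map (CommRingCat.ofHom β)) (Spec.map g ≫ Spec.map f)
      (Spec.map (CommRingCat.ofHom g₁) ≫ Spec.map (CommRingCat.ofHom f₁))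
      (Spec.map (CommRingCat.ofHom ρ)) := by
    have := (isPullback_SpecMap_of_isPushout _ _ _ _ poB).flip
    rw [← Spec.map_comp, ← Spec.map_comp]
    exact this
  have hU : IsPullback (Spec.map (CommRingCat.ofHom β)) (Spec.map g)
      (Spec.map (CommRingCat.ofHom g₁)) (Spec.map (CommRingCat.ofHom α)) := by
    refine IsPullback.of_bot hbig ?_ hV
    rw [← Spec.map_comp, ← Spec.map_comp]
    congr 1
    ext x
    exact (RingHom.congr_fun hcomm x)
  rw [E_baseChange _ _ _ _ _ _ _ hV hU]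
  haveI : NoetherianSpace ↥(Spec (CommRingCat.of Λ)) :=
    inferInstanceAs (NoetherianSpace (PrimeSpectrum Λ))
  have hf₁' : f₁.FinitePresentation := RingHom.FinitePresentation.of_finiteType.mp hf₁
  have hfg₁' : (g₁.comp f₁).FinitePresentation :=
    RingHom.FinitePresentation.of_finiteType.mp (hg₁.comp hf₁)
  haveI : LocallyOfFinitePresentation (Spec.map (CommRingCat.ofHom f₁)) :=
    (HasRingHomProperty.Spec_iff (P := @LocallyOfFinitePresentation)).mpr hf₁'
  haveI : LocallyOfFinitePresentation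
      (Spec.map (CommRingCat.ofHom g₁) ≫ Spec.map (CommRingCat.ofHom f₁)) := by
    rw [← Spec.map_comp]
    exact (HasRingHomProperty.Spec_iff (P := @LocallyOfFinitePresentation)).mpr hfg₁'
  have hc := isConstructible_E (Spec.map (CommRingCat.ofHom g₁)) (Spec.map (CommRingCat.ofHom f₁))
  exact isLocallyConstructible_preimage _ hc.isLocallyConstructible

end Groth.Agent.Lib.Helper12.H12FlatFib
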