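import Mathlib
import Groth.Agent.Lib.Helper12.FlatFib3

set_option autoImplicit false
set_option linter.style.haveILetI false
set_option linter.unusedSectionVars false
universe u

namespace Groth.Agent.Lib.Helper12.H12FlatFib

open AlgebraicGeometry CategoryTheory Limits Topology TopologicalSpace
open Groth.Agent.Lib.Helper6.Fib
open Groth.Agent.Lib.Helper14.AS

variable {U V W : Scheme.{u}} (p : U ⟶ V) (q : V ⟶ W)

theorem E_eq_iInter_charts {ι : Type*} (Uc : ι → U.Opens) (Vc : ι → V.Opens)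
    (hle : ∀ i, Uc i ≤ p ⁻¹ᵁ Vc i) (hcov : ∀ u : U, ∃ i, u ∈ Uc i) :
    E p q = ⋂ i, E (p.resLE (Vc i) (Uc i) (hle i)) ((Vc i).ι ≫ q) := by
  have e : ∀ i, p.resLE (Vc i) (Uc i) (hle i) ≫ (Vc i).ι ≫ q = (Uc i).ι ≫ p ≫ q := by
    intro i
    rw [← Category.assoc, Scheme.Hom.resLE_comp_ι, Category.assoc]
  ext w
  simp only [Set.mem_iInter, mem_E_iff]
  constructor
  · intro H i u' hu'
    refine (fibFlatAt_openImm p q (p.resLE (Vc i) (Uc i) (hle i)) (Uc i).ι (Vc i).ι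
      (Scheme.Hom.resLE_comp_ι _ _) u').mpr (H _ ?_)
    rw [← hu', e i]
    rfl
  · intro H u hu
    obtain ⟨i, hi⟩ := hcov u
    have := (fibFlatAt_openImm p q (p.resLE (Vc i) (Uc i) (hle i)) (Uc i).ι (Vc i).ι
      (Scheme.Hom.resLE_comp_ι _ _) ⟨u, hi⟩).mp (H i ⟨u, hi⟩ ?_)
    · exact this
    · rw [e i, ← hu]
      rfl

/-- all three schemes affine. -/
theorem isLocallyConstructible_E_of_isAffine [IsAffine U] [IsAffine V] [IsAffine W]
    [LocallyOfFinitePresentation (p ≫ q)] [LocallyOfFinitePresentation q] :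
    IsLocallyConstructible (E p q) := by
  have hV : IsPullback V.isoSpec.hom q (Spec.map q.appTop) W.isoSpec.hom :=
    IsPullback.of_horiz_isIso ⟨Scheme.isoSpec_hom_naturality q⟩
  have hU : IsPullback U.isoSpec.hom p (Spec.map p.appTop) V.isoSpec.hom :=
    IsPullback.of_horiz_isIso ⟨Scheme.isoSpec_hom_naturality p⟩
  rw [E_baseChange _ _ _ _ _ _ _ hV hU]
  refine isLocallyConstructible_preimage _ (isLocallyConstructible_E_Spec _ _ ?_ ?_)
  · exact (HasRingHomProperty.iff_of_isAffine (P := @LocallyOfFinitePresentation) (f := q)).mp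
      inferInstance
  · have := (HasRingHomProperty.iff_of_isAffine (P := @LocallyOfFinitePresentation)
      (f := p ≫ q)).mp inferInstance
    rwa [Scheme.Hom.comp_appTop] at this

/-- affine base. -/
theorem isLocallyConstructible_E_of_isAffine_base [IsAffine W]
    [LocallyOfFinitePresentation (p ≫ q)] [LocallyOfFinitePresentation q]
    [QuasiCompact (p ≫ q)] : IsLocallyConstructible (E p q) := by
  haveI : CompactSpace U := HasAffineProperty.iff_of_isAffine.mp ‹QuasiCompact (p ≫ q)›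
  have h1 : ∀ u : U, ∃ (Vu : V.Opens) (Uu : U.Opens), IsAffineOpen Vu ∧ IsAffineOpen Uu ∧
      u ∈ Uu ∧ Uu ≤ p ⁻¹ᵁ Vu := by
    intro u
    obtain ⟨_, ⟨Vu, hVu : IsAffineOpen Vu, rfl⟩, hx, -⟩ :=
      V.isBasis_affineOpens.exists_subset_of_mem_open (Set.mem_univ (p u)) isOpen_univ
    obtain ⟨_, ⟨Uu, hUu : IsAffineOpen Uu, rfl⟩, hxU, hsub⟩ :=
      U.isBasis_affineOpens.exists_subset_of_mem_open (show u ∈ (p ⁻¹ᵁ Vu : Set U) from hx)
        (p ⁻¹ᵁ Vu).isOpen
    exact ⟨Vu, Uu, hVu, hUu, hxU, hsub⟩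
  choose Vc Uc hVc hUc hmem hle using h1
  obtain ⟨t, ht⟩ := isCompact_univ.elim_finite_subcover (fun u => (Uc u : Set U))
    (fun u => (Uc u).isOpen) (fun u _ => Set.mem_iUnion.mpr ⟨u, hmem u⟩)
  have hcov : ∀ u : U, ∃ i : t, u ∈ Uc i.1 := by
    intro u
    have := ht (Set.mem_univ u)
    simp only [Set.mem_iUnion] at this
    obtain ⟨i, hi, hu⟩ := this
    exact ⟨⟨i, hi⟩, hu⟩
  rw [E_eq_iInter_charts p q (fun i : t => Uc i.1) (fun i : t => Vc i.1) (fun i => hle i.1) hcov]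
  apply IsLocallyConstructible.iInter
  intro i
  haveI : IsAffine ((Uc i.1 : U.Opens) : Scheme.{u}) := hUc i.1
  haveI : IsAffine ((Vc i.1 : V.Opens) : Scheme.{u}) := hVc i.1
  haveI : LocallyOfFinitePresentation
      (p.resLE (Vc i.1) (Uc i.1) (hle i.1) ≫ (Vc i.1).ι ≫ q) := by
    rw [← Category.assoc, Scheme.Hom.resLE_comp_ι, Category.assoc]
    infer_instance
  exact isLocallyConstructible_E_of_isAffine _ _

/-- **the locus of points of the base over which the fibre map is flat is locally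
constructible**. -/
theorem isLocallyConstructible_E [LocallyOfFinitePresentation (p ≫ q)]
    [LocallyOfFinitePresentation q] [QuasiCompact (p ≫ q)] : IsLocallyConstructible (E p q) := by
  refine IsLocallyConstructible.of_isOpenCover (U := fun i => (W.affineCover.f i).opensRange)
    W.affineCover.isOpenCover_opensRange ?_
  intro i
  set W₀ := (W.affineCover.f i).opensRange with hW₀
  haveI : IsAffine (W₀ : Scheme.{u}) := isAffineOpen_opensRange (W.affineCover.f i)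
  have hV : IsPullback (q ⁻¹ᵁ W₀).ι (q ∣_ W₀) q W₀.ι := (isPullback_morphismRestrict q W₀).flip
  have hU : IsPullback (p ⁻¹ᵁ (q ⁻¹ᵁ W₀)).ι (p ∣_ (q ⁻¹ᵁ W₀)) p (q ⁻¹ᵁ W₀).ι :=
    (isPullback_morphismRestrict p (q ⁻¹ᵁ W₀)).flip
  have hbig := hU.paste_vert hV
  haveI : LocallyOfFinitePresentation (p ∣_ (q ⁻¹ᵁ W₀) ≫ q ∣_ W₀) :=
    MorphismProperty.of_isPullback (P := @LocallyOfFinitePresentation) hbig inferInstance
  haveI : QuasiCompact (p ∣_ (q ⁻¹ᵁ W₀) ≫ q ∣_ W₀) :=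
    MorphismProperty.of_isPullback (P := @QuasiCompact) hbig inferInstance
  have h1 : E (p ∣_ (q ⁻¹ᵁ W₀)) (q ∣_ W₀) = W₀.ι ⁻¹' E p q := E_baseChange _ _ _ _ _ _ _ hV hU
  have h2 := isLocallyConstructible_E_of_isAffine_base (p ∣_ (q ⁻¹ᵁ W₀)) (q ∣_ W₀)
  rw [h1] at h2
  exact h2

end Groth.Agent.Lib.Helper12.H12FlatFib
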