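import Mathlib
import Groth.Agent.Lib.Helper12.FlatFib4
import Groth.Agent.Lib.Helper12.UnrFib

set_option autoImplicit false
set_option linter.style.haveILetI false
set_option linter.unusedSectionVars false
universe u

namespace Groth.Agent.Lib.Helper12.H12FlatFib

open AlgebraicGeometry CategoryTheory Limits Topology TopologicalSpace
open Groth.Agent.Lib.Helper6.Fib
open Groth.Agent.Lib.Helper14.AS

variable {X Y S : Scheme.{u}} (f : X ⟶ Y) (g : Y ⟶ S)

theorem isLocallyConstructible_fibMap_flat [LocallyOfFinitePresentation g]
    [LocallyOfFinitePresentation (f ≫ g)] [QuasiCompact (f ≫ g)] :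
    IsLocallyConstructible {s : S | Flat (fibMap f g (S.fromSpecResidueField s))} :=
  isLocallyConstructible_E f g

theorem lfp_fibMap [LocallyOfFinitePresentation g] [LocallyOfFinitePresentation (f ≫ g)] (s : S) :
    LocallyOfFinitePresentation (fibMap f g (S.fromSpecResidueField s)) := by
  have hf : LocallyOfFinitePresentation f :=
    Groth.Agent.Lib.Helper12.H12LqfConstr.locallyOfFinitePresentation_of_comp f g
  exact MorphismProperty.of_isPullback (fibMap_isPullback f g (S.fromSpecResidueField s)) hf

theorem isLocallyConstructible_fibMap_etale [LocallyOfFinitePresentation g]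
    [LocallyOfFinitePresentation (f ≫ g)] [QuasiCompact (f ≫ g)] :
    IsLocallyConstructible {s : S | Etale (fibMap f g (S.fromSpecResidueField s))} := by
  have hset : {s : S | Etale (fibMap f g (S.fromSpecResidueField s))} =
      {s : S | Flat (fibMap f g (S.fromSpecResidueField s))} ∩
      {s : S | FormallyUnramified (fibMap f g (S.fromSpecResidueField s))} := by
    ext s
    have := lfp_fibMap f g s
    simp only [Set.mem_ofPred_eq, Set.mem_inter_iff]
    rw [Etale.iff_flat_and_formallyUnramified]
    tauto
  rw [hset]
  exact (isLocallyConstructible_fibMap_flat f g).inter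
    (Groth.Agent.Lib.Helper12.H12UnrFib.isLocallyConstructible_fibMap_formallyUnramified f g)

theorem isLocallyConstructible_fibMap_isOpenImmersion
    [LocallyOfFinitePresentation g] [QuasiCompact g] [QuasiSeparated g]
    [LocallyOfFinitePresentation (f ≫ g)] [QuasiCompact (f ≫ g)] [QuasiSeparated (f ≫ g)] :
    IsLocallyConstructible {s : S | IsOpenImmersion (fibMap f g (S.fromSpecResidueField s))} := by
  have hset : {s : S | IsOpenImmersion (fibMap f g (S.fromSpecResidueField s))} =
      {s : S | Flat (fibMap f g (S.fromSpecResidueField s))} ∩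
      {s : S | Mono (fibMap f g (S.fromSpecResidueField s))} := by
    ext s
    have := lfp_fibMap f g s
    simp only [Set.mem_ofPred_eq, Set.mem_inter_iff]
    constructor
    · intro h
      exact ⟨inferInstance, inferInstance⟩
    · rintro ⟨h1, h2⟩
      exact IsOpenImmersion.of_flat_of_mono _
  rw [hset]
  exact (isLocallyConstructible_fibMap_flat f g).inter
    (Groth.Agent.Lib.Helper12.H12UnrFib.isLocallyConstructible_fibMap_mono f g)

theorem isLocallyConstructible_fibMap_isIso
    [LocallyOfFinitePresentation g] [QuasiCompact g] [QuasiSeparated g]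
    [LocallyOfFinitePresentation (f ≫ g)] [QuasiCompact (f ≫ g)] [QuasiSeparated (f ≫ g)] :
    IsLocallyConstructible {s : S | IsIso (fibMap f g (S.fromSpecResidueField s))} := by
  have hset : {s : S | IsIso (fibMap f g (S.fromSpecResidueField s))} =
      {s : S | IsOpenImmersion (fibMap f g (S.fromSpecResidueField s))} ∩
      {s : S | Function.Surjective (fibMap f g (S.fromSpecResidueField s)).base} := by
    ext s
    simp only [Set.mem_ofPred_eq, Set.mem_inter_iff]
    rw [isIso_iff_isOpenImmersion_and_surjective]
    constructor
    · rintro ⟨h1, h2⟩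
      exact ⟨h1, h2.surj⟩
    · rintro ⟨h1, h2⟩
      exact ⟨h1, ⟨h2⟩⟩
  rw [hset]
  exact (isLocallyConstructible_fibMap_isOpenImmersion f g).inter
    (isLocallyConstructible_fibMap_surjective f g)

/-- comparison with the other form of the fibre map. -/
theorem snd_fiberι_iff (P : MorphismProperty Scheme.{u}) [P.RespectsIso] (s : S) :
    P (pullback.snd f (g.fiberι s)) ↔ P (fibMap f g (S.fromSpecResidueField s)) := by
  have hpb := fibMap_isPullback f g (S.fromSpecResidueField s)
  have h1 : hpb.isoPullback.hom ≫ pullback.snd f (g.fiberι s) =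
      fibMap f g (S.fromSpecResidueField s) := hpb.isoPullback_hom_snd
  rw [← h1]
  exact (P.cancel_left_of_respectsIso _ _).symm

end Groth.Agent.Lib.Helper12.H12FlatFib
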