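import Mathlib
import Groth.Agent.Lib.Helper1.ObjDescMain
import Groth.Agent.Lib.Helper13.ClosedImmersionDescent

set_option autoImplicit false
universe u

namespace Groth.Agent.Lib.Helper12.H12IdealDesc

open AlgebraicGeometry CategoryTheory CategoryTheory.Limits

/-- The closed subscheme cut out by a locally finitely generated ideal sheaf is locally of finite
presentation over the ambient scheme. -/
theorem locallyOfFinitePresentation_subschemeι {X : Scheme.{u}} (J : X.IdealSheafData)
    (hJ : ∀ U : X.affineOpens, (J.ideal U).FG) : LocallyOfFinitePresentation J.subschemeι := by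
  rw [HasRingHomProperty.iff_exists_appLE (P := @LocallyOfFinitePresentation)
    (RingHom.finitePresentation_stableUnderComposition.stableUnderCompositionWithLocalizationAway
      RingHom.finitePresentation_holdsForLocalizationAway).1]
  intro z
  obtain ⟨U, hU, hzU, -⟩ := exists_isAffineOpen_mem_and_subset (x := J.subschemeι z)
    (U := (⊤ : X.Opens)) trivial
  refine ⟨⟨U, hU⟩, ⟨J.subschemeι ⁻¹ᵁ U, hU.preimage _⟩, hzU, le_rfl, ?_⟩
  rw [← Scheme.Hom.app_eq_appLE]
  refine RingHom.FinitePresentation.of_surjective _ (J.subschemeι_app_surjective ⟨U, hU⟩) ?_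
  rw [J.ker_subschemeι_app]
  exact hJ ⟨U, hU⟩

/-- A closed immersion locally of finite presentation has locally finitely generated kernel. -/
theorem ideal_ker_fg {Z X : Scheme.{u}} (j : Z ⟶ X) [IsClosedImmersion j]
    [LocallyOfFinitePresentation j] (U : X.affineOpens) : (j.ker.ideal U).FG := by
  rw [Scheme.Hom.ker_apply]
  have h1 : Function.Surjective (j.app U.1).hom := j.app_surjective U.1 U.2
  haveI : IsAffineHom j := inferInstance
  have hV : IsAffineOpen (j ⁻¹ᵁ U.1) := U.2.preimage j
  have h2 : (j.app U.1).hom.FinitePresentation := by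
    have := j.finitePresentation_appLE U.2 hV le_rfl
    rwa [← Scheme.Hom.app_eq_appLE] at this
  letI := (j.app U.1).hom.toAlgebra
  have h3 : Algebra.FinitePresentation Γ(X, U.1) Γ(Z, j ⁻¹ᵁ U.1) := h2
  exact Algebra.FinitePresentation.ker_fG_of_surjective (Algebra.ofId Γ(X, U.1) Γ(Z, j ⁻¹ᵁ U.1)) h1

section Lim
variable {I : Type u} [SmallCategory I] [IsCofiltered I] (D : I ⥤ Scheme.{u}) (c : Cone D)
  (hc : IsLimit c) [∀ {i j : I} (f : i ⟶ j), IsAffineHom (D.map f)]
  [∀ i, CompactSpace (D.obj i)] [∀ i, QuasiSeparatedSpace (D.obj i)]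

include hc in
/-- A locally finitely generated ideal sheaf on a cofiltered limit of qcqs schemes with affine
transition maps is the pullback of a locally finitely generated ideal sheaf on a stage. -/
theorem exists_ideal_descent (J : c.pt.IdealSheafData)
    (hJ : ∀ U : c.pt.affineOpens, (J.ideal U).FG) :
    ∃ (i : I) (Ji : (D.obj i).IdealSheafData), (∀ U : (D.obj i).affineOpens, (Ji.ideal U).FG) ∧
      Ji.comap (c.π.app i) = J := by
  haveI := locallyOfFinitePresentation_subschemeι J hJ
  obtain ⟨i, V, v, g, hv1, hv2, hv3, sq⟩ :=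
    Groth.Agent.Lib.Helper1.ObjDesc.desc_of_finitePresentation hc J.subschemeι
  haveI : CompactSpace V := QuasiCompact.compactSpace_of_compactSpace v
  haveI : QuasiSeparatedSpace V := quasiSeparatedSpace_of_quasiSeparated v
  have hY : IsPullback (c.π.app i) (𝟙 c.pt) (𝟙 (D.obj i)) (c.π.app i) :=
    IsPullback.of_vert_isIso_mono (snd := 𝟙 c.pt) (f := 𝟙 (D.obj i)) ⟨by simp⟩
  obtain ⟨i', φ, Xi, Yi, fi, gi, pY, pX, h1, h2, h3⟩ :=
    Groth.Agent.Lib.Helper13.LimitDescent.exists_isClosedImmersion_descend hc hY sq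
  haveI : IsIso gi := h1.isIso_snd_of_isIso
  have hP : IsPullback pX (fi ≫ gi) (v ≫ 𝟙 _) (D.map φ) := h2.paste_vert h1
  rw [Category.comp_id] at hP
  haveI : LocallyOfFinitePresentation (fi ≫ gi) := MorphismProperty.of_isPullback hP hv1
  have hw : g ≫ v = (J.subschemeι ≫ c.π.app i') ≫ D.map φ := by
    rw [Category.assoc, c.w, sq.w]
  let t : J.subscheme ⟶ Xi := hP.lift g (J.subschemeι ≫ c.π.app i') hw
  have ht1 : t ≫ pX = g := hP.lift_fst _ _ _
  have ht2 : t ≫ (fi ≫ gi) = J.subschemeι ≫ c.π.app i' := hP.lift_snd _ _ _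
  have hbig : IsPullback (t ≫ pX) J.subschemeι v (c.π.app i' ≫ D.map φ) := by
    rw [ht1, c.w]; exact sq
  have hleft : IsPullback t J.subschemeι (fi ≫ gi) (c.π.app i') :=
    IsPullback.of_right hbig ht2 hP
  refine ⟨i', (fi ≫ gi).ker, fun U => ideal_ker_fg (fi ≫ gi) U, ?_⟩
  rw [← Scheme.IdealSheafData.ker_fst_of_isClosedImmersion,
    ← Scheme.Hom.ker_comp_of_isIso hleft.flip.isoPullback.hom, hleft.flip.isoPullback_hom_fst,
    Scheme.IdealSheafData.ker_subschemeι]

end Lim

end Groth.Agent.Lib.Helper12.H12IdealDesc
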