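import Mathlib
import Groth.Agent.S8872
import Groth.Agent.S8873
import Groth.Agent.S8875
import Groth.Agent.S8877
import Groth.Agent.S10847
import Groth.Agent.Lib.Helper12.IdealDesc
import Groth.Agent.Lib.Helper12.FlatFib5
import Groth.Agent.Lib.Helper29.QCohLocFree
import Groth.Agent.Lib.Helper29.QCohPullback
set_option autoImplicit false
set_option linter.style.haveILetI false
set_option linter.unusedSectionVars false
universe u

open CategoryTheory CategoryTheory.Limits AlgebraicGeometry TopologicalSpace Topology

namespace Groth.Agent.Lib.Helper12.H12FittFib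

open Groth.Agent.Lib.Helper29.QCoh Groth.Agent.Lib.Helper6.Fib

variable {X S : Scheme.{u}}

theorem isLocallyConstructible_compl {T : Type*} [TopologicalSpace T] {s : Set T}
    (hs : IsLocallyConstructible s) : IsLocallyConstructible sᶜ := by
  intro x
  obtain ⟨U, hUx, hU, hUs⟩ := hs x
  exact ⟨U, hUx, hU, by rw [Set.preimage_compl]; exact hUs.compl⟩

/-- Fitting criterion for the inverse image to be locally free of rank `r`. -/
theorem isFinLocFreeOfRank_pullback_iff {T : Scheme.{u}} (F : X.Modules) [F.IsQuasicoherent]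
    [F.IsFiniteType] (h : T ⟶ X) (r : ℕ) :
    FlatMod.IsFinLocFreeOfRank r ((Scheme.Modules.pullback h).obj F) ↔
      (Fitt.sheafIdeal F r).comap h = ⊤ ∧ (r = 0 ∨ (Fitt.sheafIdeal F (r - 1)).comap h = ⊥) := by
  rw [Groth.Agent.S8875.result T ((Scheme.Modules.pullback h).obj F)
    (isQuasicoherent_pullback h F) (isFiniteType_pullback h F) r]
  have hcomap : ∀ k, Fitt.sheafIdeal ((Scheme.Modules.pullback h).obj F) k =
      (Fitt.sheafIdeal F k).comap h := fun k =>
    (Groth.Agent.S8872.result h F ‹_› ‹_› k).symm
  constructor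
  · rintro ⟨h1, h2⟩
    refine ⟨by rw [← hcomap]; exact h2 r le_rfl, ?_⟩
    by_cases hr : r = 0
    · exact Or.inl hr
    · right
      rw [← hcomap]
      exact h1 (r - 1) (by omega)
  · rintro ⟨h1, h2⟩
    constructor
    · intro k hk
      rcases h2 with h2 | h2
      · omega
      · rw [hcomap, ← le_bot_iff, ← h2]
        exact Scheme.IdealSheafData.comap_mono h
          (Groth.Agent.S10847.sheafIdeal_mono F (by omega))
    · intro k hk
      rw [hcomap, ← top_le_iff, ← h1]
      exact Scheme.IdealSheafData.comap_mono h (Groth.Agent.S10847.sheafIdeal_mono F hk)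

/-- `I.comap (f.fiberι s) = ⊤` iff `s` is not in the image of the support. -/
theorem comap_fiberι_eq_top_iff (f : X ⟶ S) (I : X.IdealSheafData) (s : S) :
    I.comap (f.fiberι s) = ⊤ ↔ s ∉ Set.range (I.subschemeι ≫ f) := by
  rw [← Groth.Agent.S10847.range_subset_compl_support_iff]
  constructor
  · rintro h ⟨z, hz⟩
    have h1 : I.subschemeι z ∈ f ⁻¹' {s} := by
      simpa using hz
    rw [← f.range_fiberι s] at h1
    obtain ⟨x, hx⟩ := h1
    apply h x
    rw [hx]
    have : I.subschemeι z ∈ Set.range I.subschemeι := ⟨z, rfl⟩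
    rwa [I.range_subschemeι] at this
  · intro h x hx
    apply h
    have hx' : f.fiberι s x ∈ Set.range I.subschemeι := by
      rw [I.range_subschemeι]
      exact hx
    obtain ⟨z, hz⟩ := hx'
    refine ⟨z, ?_⟩
    have h1 : f.fiberι s x ∈ f ⁻¹' {s} := by
      rw [← f.range_fiberι s]
      exact ⟨x, rfl⟩
    rw [Scheme.Hom.comp_apply, hz]
    exact h1

/-- `I.comap (f.fiberι s) = ⊥` iff the fibre of the closed immersion is an isomorphism. -/
theorem comap_fiberι_eq_bot_iff (f : X ⟶ S) (I : X.IdealSheafData) (s : S) :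
    I.comap (f.fiberι s) = ⊥ ↔
      IsIso (fibMap I.subschemeι f (S.fromSpecResidueField s)) := by
  have h0 := Groth.Agent.Lib.Helper12.H12FlatFib.snd_fiberι_iff I.subschemeι f
    (MorphismProperty.isomorphisms Scheme.{u}) s
  simp only [MorphismProperty.isomorphisms.iff] at h0
  rw [← h0]
  change (pullback.fst (f.fiberι s) I.subschemeι).ker = ⊥ ↔
    IsIso (pullback.snd I.subschemeι (f.fiberι s))
  rw [← IsClosedImmersion.isIso_iff_ker_eq_bot]
  have h1 : (pullbackSymmetry (f.fiberι s) I.subschemeι).hom ≫
      pullback.snd I.subschemeι (f.fiberι s) = pullback.fst (f.fiberι s) I.subschemeι :=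
    pullbackSymmetry_hom_comp_snd _ _
  rw [← h1]
  constructor
  · intro h
    exact (isIso_comp_left_iff _ _).mp h
  · intro h
    infer_instance

theorem lfp_subschemeι_sheafIdeal (F : X.Modules) [F.IsFinitePresentation] (k : ℕ) :
    LocallyOfFinitePresentation (Fitt.sheafIdeal F k).subschemeι :=
  Groth.Agent.Lib.Helper12.H12IdealDesc.locallyOfFinitePresentation_subschemeι _
    (Groth.Agent.S8873.result X F ‹_› k)

theorem isLocallyConstructible_comap_eq_top (f : X ⟶ S) [LocallyOfFinitePresentation f]
    [QuasiCompact f] (I : X.IdealSheafData) [LocallyOfFinitePresentation I.subschemeι] :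
    IsLocallyConstructible {s : S | I.comap (f.fiberι s) = ⊤} := by
  have : {s : S | I.comap (f.fiberι s) = ⊤} = (Set.range (I.subschemeι ≫ f))ᶜ := by
    ext s
    exact comap_fiberι_eq_top_iff f I s
  rw [this]
  apply isLocallyConstructible_compl
  rw [← Set.image_univ]
  exact Scheme.Hom.isLocallyConstructible_image _ IsLocallyConstructible.univ

theorem isLocallyConstructible_comap_eq_bot (f : X ⟶ S) [LocallyOfFinitePresentation f]
    [QuasiCompact f] [QuasiSeparated f] (I : X.IdealSheafData)
    [LocallyOfFinitePresentation I.subschemeι] :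
    IsLocallyConstructible {s : S | I.comap (f.fiberι s) = ⊥} := by
  simp_rw [comap_fiberι_eq_bot_iff]
  exact Groth.Agent.Lib.Helper12.H12FlatFib.isLocallyConstructible_fibMap_isIso I.subschemeι f

theorem isLocallyConstructible_isFinLocFreeOfRank (f : X ⟶ S) [LocallyOfFinitePresentation f]
    [QuasiCompact f] [QuasiSeparated f] (F : X.Modules) [F.IsQuasicoherent]
    [F.IsFinitePresentation] (n : ℕ) :
    IsLocallyConstructible
      {s : S | FlatMod.IsFinLocFreeOfRank n ((Scheme.Modules.pullback (f.fiberι s)).obj F)} := by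
  haveI : F.IsFiniteType := inferInstance
  have hlfp := lfp_subschemeι_sheafIdeal F
  simp_rw [isFinLocFreeOfRank_pullback_iff]
  refine IsLocallyConstructible.inter (isLocallyConstructible_comap_eq_top f _) ?_
  by_cases hn : n = 0
  · simp only [hn, true_or]
    exact IsLocallyConstructible.univ
  · simp only [hn, false_or]
    exact isLocallyConstructible_comap_eq_bot f _

end Groth.Agent.Lib.Helper12.H12FittFib
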