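import Mathlib
import Groth.Agent.Lib.Helper12.FittFib1
set_option autoImplicit false
set_option linter.style.haveILetI false
set_option linter.unusedSectionVars false
universe u

open CategoryTheory CategoryTheory.Limits AlgebraicGeometry TopologicalSpace Topology

namespace Groth.Agent.Lib.Helper12.H12FittFib

open Groth.Agent.Lib.Helper29.QCoh Groth.Agent.Lib.Helper6.Fib

variable {X S Y : Scheme.{u}}

theorem isFreeAlong_pullback_iff {Z T : Scheme.{u}} (h : T ⟶ X) (j : Z ⟶ T) (M : X.Modules)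
    (n : ℕ) : IsFreeAlong ((Scheme.Modules.pullback h).obj M) j n ↔ IsFreeAlong M (j ≫ h) n := by
  constructor
  · rintro ⟨e⟩
    exact ⟨(Scheme.Modules.pullbackComp j h).symm.app M ≪≫ e⟩
  · rintro ⟨e⟩
    exact ⟨(Scheme.Modules.pullbackComp j h).app M ≪≫ e⟩

theorem isFinLocFree_of_isOpenImmersion (G : Y.Modules) [G.IsQuasicoherent] [G.IsFiniteType]
    (H : ∀ n, IsOpenImmersion (Fitt.sheafIdeal G n).subschemeι) : FlatMod.IsFinLocFree G := by
  classical
  refine isFinLocFree_of_isFreeAlong G fun y => ?_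
  have hex : ∃ r, y ∉ (Fitt.sheafIdeal G r).support := Groth.Agent.S8877.result Y G ‹_› ‹_› y
  let n := Nat.find hex
  have hn : y ∉ (Fitt.sheafIdeal G n).support := Nat.find_spec hex
  let W₁ : Y.Opens := ⟨((Fitt.sheafIdeal G n).support : Set Y)ᶜ,
    (Fitt.sheafIdeal G n).support.isClosed.isOpen_compl⟩
  haveI := H (n - 1)
  let W₀ : Y.Opens := if n = 0 then ⊤ else (Fitt.sheafIdeal G (n - 1)).subschemeι.opensRange
  let W := W₀ ⊓ W₁
  have hyW₀ : y ∈ W₀ := by
    by_cases h0 : n = 0
    · simp only [W₀, h0, if_true]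
      trivial
    · simp only [W₀, h0, if_false]
      have h1 : ¬ (y ∉ (Fitt.sheafIdeal G (n - 1)).support) := Nat.find_min hex (by omega)
      rw [not_not] at h1
      change y ∈ Set.range (Fitt.sheafIdeal G (n - 1)).subschemeι
      rw [Scheme.IdealSheafData.range_subschemeι]
      exact h1
  have hyW : y ∈ W := ⟨hyW₀, hn⟩
  have h1 : (Fitt.sheafIdeal G n).comap W.ι = ⊤ := by
    rw [← Groth.Agent.S10847.range_subset_compl_support_iff]
    intro x
    exact x.2.2
  have h2 : n = 0 ∨ (Fitt.sheafIdeal G (n - 1)).comap W.ι = ⊥ := by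
    by_cases h0 : n = 0
    · exact Or.inl h0
    · right
      change (pullback.fst W.ι (Fitt.sheafIdeal G (n - 1)).subschemeι).ker = ⊥
      haveI : IsIso (pullback.fst W.ι (Fitt.sheafIdeal G (n - 1)).subschemeι) := by
        rw [isIso_iff_isOpenImmersion_and_surjective]
        refine ⟨inferInstance, ⟨fun x => ?_⟩⟩
        have hx : W.ι x ∈ Set.range (Fitt.sheafIdeal G (n - 1)).subschemeι := by
          have := x.2.1
          simp only [W₀, h0, if_false] at this
          exact this
        have h3 : x ∈ Set.range (pullback.fst W.ι (Fitt.sheafIdeal G (n - 1)).subschemeι) := by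
          rw [Scheme.Pullback.range_fst]
          exact hx
        exact h3
      exact Scheme.Hom.ker_eq_bot_of_isIso _
  have h3 := (isFinLocFreeOfRank_pullback_iff G W.ι n).mpr ⟨h1, h2⟩
  rw [isFinLocFreeOfRank_iff_isFreeAlong] at h3
  obtain ⟨U', hyU', hfree⟩ := h3 ⟨y, hyW⟩
  refine ⟨U', U'.ι ≫ W.ι, inferInstance, n, ?_, (isFreeAlong_pullback_iff _ _ _ _).mp hfree⟩
  exact ⟨⟨⟨y, hyW⟩, hyU'⟩, rfl⟩

theorem isFinLocFreeOfRank_of_iso_freeMod {T : Scheme.{u}} (M : T.Modules) (r : ℕ)
    (e : M ≅ FlatMod.freeMod T r) : FlatMod.IsFinLocFreeOfRank r M := by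
  refine isFinLocFreeOfRank_of_isFreeAlong r M fun x => ⟨T, 𝟙 T, inferInstance, ⟨x, rfl⟩, ?_⟩
  exact ⟨(Scheme.Modules.pullbackId T).app M ≪≫ e⟩

theorem isOpenImmersion_of_isFinLocFree (G : Y.Modules) [G.IsQuasicoherent] [G.IsFiniteType]
    (hG : FlatMod.IsFinLocFree G) (n : ℕ) :
    IsOpenImmersion (Fitt.sheafIdeal G n).subschemeι := by
  rw [isFinLocFree_iff_isFreeAlong] at hG
  apply IsZariskiLocalAtTarget.of_forall_exists_morphismRestrict (P := @IsOpenImmersion)
  intro y
  obtain ⟨U, r, hyU, ⟨e⟩⟩ := hG y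
  refine ⟨U, hyU, ?_⟩
  have hpb := isPullback_morphismRestrict (Fitt.sheafIdeal G n).subschemeι U
  have hker : ((Fitt.sheafIdeal G n).subschemeι ∣_ U).ker = (Fitt.sheafIdeal G n).comap U.ι := by
    have h1 : ((Fitt.sheafIdeal G n).subschemeι ∣_ U) =
        hpb.isoPullback.hom ≫ pullback.fst U.ι (Fitt.sheafIdeal G n).subschemeι :=
      (hpb.isoPullback_hom_fst).symm
    rw [h1, Scheme.Hom.ker_comp_of_isIso]
    rfl
  have hr : FlatMod.IsFinLocFreeOfRank r ((Scheme.Modules.pullback U.ι).obj G) :=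
    isFinLocFreeOfRank_of_iso_freeMod _ r e
  rw [Groth.Agent.S8875.result _ _ (isQuasicoherent_pullback U.ι G)
    (isFiniteType_pullback U.ι G) r] at hr
  rw [Groth.Agent.S8872.result U.ι G ‹_› ‹_› n] at hker
  by_cases hnr : n < r
  · rw [hr.1 n hnr] at hker
    haveI : IsIso ((Fitt.sheafIdeal G n).subschemeι ∣_ U) :=
      IsClosedImmersion.isIso_iff_ker_eq_bot.mpr hker
    infer_instance
  · rw [hr.2 n (by omega)] at hker
    haveI : IsEmpty ↥((Fitt.sheafIdeal G n).subschemeι ⁻¹ᵁ U : Scheme.{u}) := by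
      refine ⟨fun z => ?_⟩
      have h1 := Scheme.Hom.range_subset_ker_support
        ((Fitt.sheafIdeal G n).subschemeι ∣_ U) ⟨z, rfl⟩
      rw [hker] at h1
      exact h1
    infer_instance

theorem isFinLocFree_iff_isOpenImmersion (G : Y.Modules) [G.IsQuasicoherent] [G.IsFiniteType] :
    FlatMod.IsFinLocFree G ↔ ∀ n, IsOpenImmersion (Fitt.sheafIdeal G n).subschemeι :=
  ⟨isOpenImmersion_of_isFinLocFree G, isFinLocFree_of_isOpenImmersion G⟩

theorem isOpenImmersion_comap_fiberι_iff (f : X ⟶ S) (I : X.IdealSheafData) (s : S) :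
    IsOpenImmersion (I.comap (f.fiberι s)).subschemeι ↔
      IsOpenImmersion (fibMap I.subschemeι f (S.fromSpecResidueField s)) := by
  rw [← Groth.Agent.Lib.Helper12.H12FlatFib.snd_fiberι_iff I.subschemeι f @IsOpenImmersion s]
  have h1 : (pullbackSymmetry (f.fiberι s) I.subschemeι).hom ≫
      pullback.snd I.subschemeι (f.fiberι s) = pullback.fst (f.fiberι s) I.subschemeι :=
    pullbackSymmetry_hom_comp_snd _ _
  have h2 : (I.comapIso (f.fiberι s)).hom ≫ pullback.fst (f.fiberι s) I.subschemeι =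
      (I.comap (f.fiberι s)).subschemeι := Scheme.IdealSheafData.comapIso_hom_fst _ _
  rw [← h2, ← h1]
  constructor
  · intro h
    have h3 := (MorphismProperty.cancel_left_of_respectsIso @IsOpenImmersion
      (I.comapIso (f.fiberι s)).hom _).mp h
    exact (MorphismProperty.cancel_left_of_respectsIso @IsOpenImmersion
      (pullbackSymmetry (f.fiberι s) I.subschemeι).hom _).mp h3
  · intro h
    infer_instance

theorem exists_forall_comap_eq_top (f : X ⟶ S) [QuasiCompact f] (F : X.Modules)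
    [F.IsQuasicoherent] [F.IsFiniteType] (U : S.Opens) (hU : IsCompact (U : Set S)) :
    ∃ N : ℕ, ∀ n, N ≤ n → ∀ s ∈ U, (Fitt.sheafIdeal F n).comap (f.fiberι s) = ⊤ := by
  have hK : IsCompact (f ⁻¹' (U : Set S)) := QuasiCompact.isCompact_preimage _ U.2 hU
  obtain ⟨N, hN⟩ := hK.elim_directed_cover
    (fun n : ℕ => (((Fitt.sheafIdeal F n).support : Set X))ᶜ)
    (fun n => (Fitt.sheafIdeal F n).support.isClosed.isOpen_compl)
    (fun x _ => by
      obtain ⟨r, hr⟩ := Groth.Agent.S8877.result X F ‹_› ‹_› x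
      exact Set.mem_iUnion.mpr ⟨r, hr⟩)
    (by
      intro a b
      refine ⟨max a b, ?_, ?_⟩
      · exact Set.compl_subset_compl.mpr (Scheme.IdealSheafData.support_antitone
          (Groth.Agent.S10847.sheafIdeal_mono F (le_max_left a b)))
      · exact Set.compl_subset_compl.mpr (Scheme.IdealSheafData.support_antitone
          (Groth.Agent.S10847.sheafIdeal_mono F (le_max_right a b))))
  refine ⟨N, fun n hn s hs => ?_⟩
  rw [← Groth.Agent.S10847.range_subset_compl_support_iff]
  intro x hx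
  have h1 : f.fiberι s x ∈ f ⁻¹' {s} := by
    rw [← f.range_fiberι s]
    exact ⟨x, rfl⟩
  have h2 : f.fiberι s x ∈ f ⁻¹' (U : Set S) := by
    have : f (f.fiberι s x) = s := h1
    change f (f.fiberι s x) ∈ U
    rw [this]
    exact hs
  exact hN h2 (Scheme.IdealSheafData.support_antitone
    (Groth.Agent.S10847.sheafIdeal_mono F hn) hx)

theorem isOpenImmersion_subschemeι_of_eq_top (I : Y.IdealSheafData) (h : I = ⊤) :
    IsOpenImmersion I.subschemeι := by
  subst h
  haveI : IsEmpty ↥(⊤ : Y.IdealSheafData).subscheme := by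
    refine ⟨fun z => ?_⟩
    have h1 : (⊤ : Y.IdealSheafData).subschemeι z ∈
        Set.range (⊤ : Y.IdealSheafData).subschemeι := ⟨z, rfl⟩
    rw [Scheme.IdealSheafData.range_subschemeι] at h1
    exact h1
  infer_instance

theorem isLocallyConstructible_isFinLocFree (f : X ⟶ S) [LocallyOfFinitePresentation f]
    [QuasiCompact f] [QuasiSeparated f] (F : X.Modules) [F.IsQuasicoherent]
    [F.IsFinitePresentation] :
    IsLocallyConstructible
      {s : S | FlatMod.IsFinLocFree ((Scheme.Modules.pullback (f.fiberι s)).obj F)} := by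
  haveI : F.IsFiniteType := inferInstance
  have hlfp := lfp_subschemeι_sheafIdeal F
  let E : ℕ → Set S := fun n =>
    {s : S | IsOpenImmersion ((Fitt.sheafIdeal F n).comap (f.fiberι s)).subschemeι}
  have hE : ∀ n, IsLocallyConstructible (E n) := by
    intro n
    haveI := hlfp n
    simp only [E, isOpenImmersion_comap_fiberι_iff]
    exact Groth.Agent.Lib.Helper12.H12FlatFib.isLocallyConstructible_fibMap_isOpenImmersion
      (Fitt.sheafIdeal F n).subschemeι f
  have hT : {s : S | FlatMod.IsFinLocFree ((Scheme.Modules.pullback (f.fiberι s)).obj F)} =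
      ⋂ n, E n := by
    ext s
    haveI := isQuasicoherent_pullback (f.fiberι s) F
    haveI := isFiniteType_pullback (f.fiberι s) F
    simp only [Set.mem_ofPred_eq, Set.mem_iInter, E]
    rw [isFinLocFree_iff_isOpenImmersion]
    refine forall_congr' fun n => ?_
    rw [Groth.Agent.S8872.result (f.fiberι s) F ‹_› ‹_› n]
  rw [hT]
  refine IsLocallyConstructible.of_isOpenCover (U := fun U : S.affineOpens => U.1)
    (iSup_affineOpens_eq_top S) fun U => ?_
  obtain ⟨N, hN⟩ := exists_forall_comap_eq_top f F U.1 U.2.isCompact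
  have h1 : ((Subtype.val : (U.1 : Set S) → S) ⁻¹' ⋂ n, E n) =
      ((Subtype.val : (U.1 : Set S) → S) ⁻¹' ⋂ n : Fin N, E n) := by
    ext s
    simp only [Set.mem_preimage, Set.mem_iInter]
    constructor
    · intro h n
      exact h n
    · intro h n
      by_cases hn : n < N
      · exact h ⟨n, hn⟩
      · exact isOpenImmersion_subschemeι_of_eq_top _ (hN n (by omega) s.1 s.2)
  rw [h1]
  exact (IsLocallyConstructible.iInter fun n : Fin N => hE n).preimage_of_isOpenEmbedding
    U.1.2.isOpenEmbedding_subtypeVal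

end Groth.Agent.Lib.Helper12.H12FittFib
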