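import Mathlib
import Groth.Agent.Helper19.FittLib4

set_option autoImplicit false
universe u v w

namespace H12FittSum
open Groth.Agent.Helper19.FittLib

variable {R : Type u} [CommRing R] {M : Type v} [AddCommGroup M] [Module R M]

lemma minor_mem_Mn_fintype {ι κ : Type*} [Fintype ι] [Fintype κ] [DecidableEq κ] (x : ι → M)
    (z : κ → ι → R) (e : κ → ι) (hz : ∀ b, IsRel x (z b)) :
    (Matrix.of fun a b => z b (e a)).det ∈ Mn R x (Fintype.card κ) := by
  let φ := Fintype.equivFin κ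
  have h := minor_mem_Mn x (Fintype.card κ) (fun b => z (φ.symm b)) (fun a => e (φ.symm a))
    (fun b => hz _)
  rw [← Matrix.det_submatrix_equiv_self φ.symm]
  exact h

lemma Mn_reindex_le {ι κ : Type*} [Fintype ι] [Fintype κ] (e : ι ≃ κ) (w : κ → M) (s : ℕ) :
    Mn R (w ∘ e) s ≤ Mn R w s := by
  rw [Mn, Ideal.span_le]
  rintro _ ⟨z, c, hz, rfl⟩
  have h := minor_mem_Mn w s (fun j => z j ∘ e.symm) (fun a => e (c a)) (fun j => by
    have := hz j
    show ∑ i, (z j ∘ e.symm) i • w i = (0 : M)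
    rw [← Equiv.sum_comp e]
    simpa using this)
  simpa using h

lemma Mn_reindex {ι κ : Type*} [Fintype ι] [Fintype κ] (e : ι ≃ κ) (w : κ → M) (s : ℕ) :
    Mn R (w ∘ e) s = Mn R w s := by
  apply le_antisymm (Mn_reindex_le e w s)
  have := Mn_reindex_le (R := R) e.symm (w ∘ e) s
  have e' : (w ∘ e) ∘ e.symm = w := by
    funext k
    simp
  rwa [e'] at this

lemma Mn_eq_bot_of_card_lt {ι : Type*} [Fintype ι] (x : ι → M) {s : ℕ} (h : Fintype.card ι < s) :
    Mn R x s = ⊥ := by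
  rw [eq_bot_iff, Mn, Ideal.span_le]
  rintro _ ⟨z, e, -, rfl⟩
  have : ¬ Function.Injective e := by
    intro he
    have := Fintype.card_le_of_injective e he
    simp at this
    omega
  exact minor_eq_zero_of_not_injective z e this

/-- block determinant membership -/
lemma det_mem_of_blocks {s : ℕ} (N : Matrix (Fin s) (Fin s) R) (P Q : Fin s → Prop)
    [DecidablePred P] [DecidablePred Q] (I : Ideal R)
    (h1 : ∀ a b, Q a → ¬ P b → N a b = 0) (h2 : ∀ a b, ¬ Q a → P b → N a b = 0)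
    (hI : ∀ π : Equiv.Perm (Fin s), (∀ a, P (π a) ↔ Q a) →
      (Matrix.toSquareBlockProp (N.submatrix id π) Q).det *
        (Matrix.toSquareBlockProp (N.submatrix id π) (fun a => ¬ Q a)).det ∈ I) :
    N.det ∈ I := by
  by_cases hσ : ∃ σ : Equiv.Perm (Fin s), ∀ b, Q (σ b) ↔ P b
  · obtain ⟨σ, hσ⟩ := hσ
    have hπ : ∀ a, P (σ⁻¹ a) ↔ Q a := by
      intro a
      rw [← hσ (σ⁻¹ a)]
      simp
    have hdet : (N.submatrix id ⇑σ⁻¹).det = Equiv.Perm.sign σ⁻¹ * N.det := Matrix.det_permute' _ _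
    have hblock := Matrix.twoBlockTriangular_det' (N.submatrix id ⇑σ⁻¹) Q (by
      intro a ha b hb
      simp only [Matrix.submatrix_apply, id_eq]
      exact h1 a _ ha (fun hp => hb ((hπ b).1 hp)))
    have : N.det = ((Equiv.Perm.sign σ⁻¹ : ℤˣ) : R) * (N.submatrix id ⇑σ⁻¹).det := by
      rw [hdet, ← mul_assoc]
      have : (((Equiv.Perm.sign σ⁻¹ : ℤˣ) : ℤ) : R) * (((Equiv.Perm.sign σ⁻¹ : ℤˣ) : ℤ) : R) = 1 := by
        rw [← Int.cast_mul, ← Units.val_mul, Int.units_mul_self]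
        simp
      rw [this, one_mul]
    rw [this, hblock]
    exact I.mul_mem_left _ (hI σ⁻¹ hπ)
  · push Not at hσ
    rw [Matrix.det_apply]
    refine I.sum_mem fun σ _ => ?_
    have : ∏ i, N (σ i) i = 0 := by
      obtain ⟨b, hb⟩ := hσ σ
      apply Finset.prod_eq_zero (Finset.mem_univ b)
      rcases hb with ⟨hq, hp⟩ | ⟨hq, hp⟩
      · exact h1 _ _ hq hp
      · exact h2 _ _ hq hp
    rw [this, smul_zero]
    exact I.zero_mem

end H12FittSum
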