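import Mathlib
import Groth.Agent.Lib.Helper12.FittSum1

set_option autoImplicit false
universe u v w

namespace H12FittSum
open Groth.Agent.Helper19.FittLib

variable {R : Type u} [CommRing R] {M : Type v} [AddCommGroup M] [Module R M]
  {M' : Type w} [AddCommGroup M'] [Module R M']
  {ι ι' : Type*} [Fintype ι] [Fintype ι'] (x : ι → M) (y : ι' → M')

/-- the generating family of the product -/
def gen : ι ⊕ ι' → M × M' := Sum.elim (fun i => (x i, 0)) (fun j => (0, y j))

lemma isRel_gen_iff (z : ι ⊕ ι' → R) :
    IsRel (gen x y) z ↔ IsRel x (z ∘ Sum.inl) ∧ IsRel y (z ∘ Sum.inr) := by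
  simp only [IsRel, gen, Fintype.sum_sum_type, Sum.elim_inl, Sum.elim_inr, Prod.ext_iff,
    Prod.fst_add, Prod.snd_add, Prod.fst_sum, Prod.snd_sum, Prod.smul_fst, Prod.smul_snd,
    smul_zero, Finset.sum_const_zero, add_zero, zero_add, Prod.fst_zero, Prod.snd_zero,
    Function.comp_apply]

lemma span_gen (hx : Submodule.span R (Set.range x) = ⊤) (hy : Submodule.span R (Set.range y) = ⊤) :
    Submodule.span R (Set.range (gen x y)) = ⊤ := by
  rw [eq_top_iff]
  rintro ⟨m, m'⟩ -
  have h1 : (m, (0 : M')) ∈ Submodule.span R (Set.range (gen x y)) := by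
    have hm : m ∈ Submodule.span R (Set.range x) := hx ▸ Submodule.mem_top
    have : Submodule.span R (Set.range x) ≤
        (Submodule.span R (Set.range (gen x y))).comap (LinearMap.inl R M M') := by
      rw [Submodule.span_le]
      rintro _ ⟨i, rfl⟩
      exact Submodule.subset_span ⟨Sum.inl i, rfl⟩
    exact this hm
  have h2 : ((0 : M), m') ∈ Submodule.span R (Set.range (gen x y)) := by
    have hm : m' ∈ Submodule.span R (Set.range y) := hy ▸ Submodule.mem_top
    have : Submodule.span R (Set.range y) ≤
        (Submodule.span R (Set.range (gen x y))).comap (LinearMap.inr R M M') := by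
      rw [Submodule.span_le]
      rintro _ ⟨i, rfl⟩
      exact Submodule.subset_span ⟨Sum.inr i, rfl⟩
    exact this hm
  have := Submodule.add_mem _ h1 h2
  simpa using this

/-- special relation vectors: supported on one side -/
def W : Set (ι ⊕ ι' → R) :=
  {z | IsRel x (z ∘ Sum.inl) ∧ IsRel y (z ∘ Sum.inr) ∧
    ((∀ j, z (Sum.inr j) = 0) ∨ (∀ i, z (Sum.inl i) = 0))}

lemma span_W : Submodule.span R (W (R := R) x y) =
    LinearMap.ker (Fintype.linearCombination R (gen x y)) := by
  apply le_antisymm
  · rw [Submodule.span_le]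
    intro z hz
    show z ∈ LinearMap.ker _
    rw [← isRel_iff_mem_ker, isRel_gen_iff]
    exact ⟨hz.1, hz.2.1⟩
  · intro z hz
    rw [← isRel_iff_mem_ker, isRel_gen_iff] at hz
    have e : z = Sum.elim (z ∘ Sum.inl) (0 : ι' → R) + Sum.elim (0 : ι → R) (z ∘ Sum.inr) := by
      funext o
      cases o <;> simp
    rw [e]
    refine Submodule.add_mem _ (Submodule.subset_span ?_) (Submodule.subset_span ?_)
    · refine ⟨?_, ?_, Or.inl fun j => rfl⟩
      · simpa [Function.comp_def] using hz.1
      · have : (Sum.elim (z ∘ Sum.inl) (0 : ι' → R)) ∘ Sum.inr = 0 := by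
          funext j
          simp
        rw [this]
        exact isRel_zero y
    · refine ⟨?_, ?_, Or.inr fun j => rfl⟩
      · have : (Sum.elim (0 : ι → R) (z ∘ Sum.inr)) ∘ Sum.inl = 0 := by
          funext j
          simp
        rw [this]
        exact isRel_zero x
      · simpa [Function.comp_def] using hz.2

end H12FittSum
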