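import Mathlib
import Groth.Agent.Lib.Helper12.FittSum2

set_option autoImplicit false
universe u v w

namespace H12FittSum
open Groth.Agent.Helper19.FittLib

variable {R : Type u} [CommRing R] {M : Type v} [AddCommGroup M] [Module R M]
  {M' : Type w} [AddCommGroup M'] [Module R M']
  {ι ι' : Type*} [Fintype ι] [Fintype ι'] (x : ι → M) (y : ι' → M')

lemma Mn_mul_le (a b : ℕ) : Mn R x a * Mn R y b ≤ Mn R (gen x y) (a + b) := by
  classical
  rw [Mn, Mn, Ideal.span_mul_span', Ideal.span_le]
  rintro _ ⟨_, ⟨z, e, hz, rfl⟩, _, ⟨z', e', hz', rfl⟩, rfl⟩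
  let Z : Fin a ⊕ Fin b → (ι ⊕ ι' → R) :=
    Sum.elim (fun p => Sum.elim (z p) (0 : ι' → R)) (fun q => Sum.elim (0 : ι → R) (z' q))
  let E : Fin a ⊕ Fin b → ι ⊕ ι' := Sum.map e e'
  have hZ : ∀ p, IsRel (gen x y) (Z p) := by
    intro p
    rw [isRel_gen_iff]
    cases p with
    | inl p =>
      refine ⟨?_, ?_⟩
      · have : (Z (Sum.inl p)) ∘ Sum.inl = z p := by
          funext i
          simp [Z]
        rw [this]
        exact hz p
      · have : (Z (Sum.inl p)) ∘ Sum.inr = 0 := by
          funext i
          simp [Z]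
        rw [this]
        exact isRel_zero y
    | inr q =>
      refine ⟨?_, ?_⟩
      · have : (Z (Sum.inr q)) ∘ Sum.inl = 0 := by
          funext i
          simp [Z]
        rw [this]
        exact isRel_zero x
      · have : (Z (Sum.inr q)) ∘ Sum.inr = z' q := by
          funext i
          simp [Z]
        rw [this]
        exact hz' q
  have key := minor_mem_Mn_fintype (gen x y) Z E hZ
  have hcard : Fintype.card (Fin a ⊕ Fin b) = a + b := by simp
  rw [hcard] at key
  have hmat : (Matrix.of fun p q => Z q (E p)) =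
      Matrix.fromBlocks (Matrix.of fun p q => z q (e p)) 0 0 (Matrix.of fun p q => z' q (e' p)) := by
    ext p q
    cases p <;> cases q <;> simp [Z, E]
  rw [hmat, Matrix.det_fromBlocks_zero₂₁] at key
  exact key

lemma Mn_gen_le (s : ℕ) (I : Ideal R)
    (hI : ∀ c d, c + d = s → Mn R x c * Mn R y d ≤ I) : Mn R (gen x y) s ≤ I := by
  classical
  rw [Mn_eq_span_gens (gen x y) (W x y) (span_W x y) s, Ideal.span_le]
  rintro _ ⟨z, e, hz, rfl⟩
  let P : Fin s → Prop := fun b => ∀ j, z b (Sum.inr j) = 0
  let Q : Fin s → Prop := fun a => (e a).isLeft = true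
  apply det_mem_of_blocks _ P Q I
  · intro a b hq hp
    have h2 : ∀ i, z b (Sum.inl i) = 0 := (hz b).2.2.resolve_left hp
    obtain ⟨i, hi⟩ := Sum.isLeft_iff.1 hq
    simp only [Matrix.of_apply]
    rw [hi]
    exact h2 i
  · intro a b hq hp
    have hq' : (e a).isRight = true := Sum.not_isLeft.1 hq
    obtain ⟨j, hj⟩ := Sum.isRight_iff.1 hq'
    simp only [Matrix.of_apply]
    rw [hj]
    exact hp j
  · intro π hπ
    have hc : Fintype.card {a // Q a} + Fintype.card {a // ¬ Q a} = s := by
      rw [Fintype.card_subtype_compl]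
      have := Fintype.card_subtype_le Q
      simp only [Fintype.card_fin] at this ⊢
      omega
    refine hI _ _ hc (Ideal.mul_mem_mul ?_ ?_)
    · have h := minor_mem_Mn_fintype (κ := {a // Q a}) x (fun b => z (π b) ∘ Sum.inl)
        (fun a => (e a).getLeft a.2) (fun b => (hz (π b)).1)
      convert h using 2
      ext a b
      simp only [Matrix.toSquareBlockProp_def, Matrix.of_apply, Matrix.submatrix_apply, id_eq,
        Function.comp_apply, Sum.inl_getLeft]
    · have h := minor_mem_Mn_fintype (κ := {a // ¬ Q a}) y (fun b => z (π b) ∘ Sum.inr)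
        (fun a => (e a).getRight (Sum.not_isLeft.1 a.2)) (fun b => (hz (π b)).2.1)
      convert h using 2
      ext a b
      simp only [Matrix.toSquareBlockProp_def, Matrix.of_apply, Matrix.submatrix_apply, id_eq,
        Function.comp_apply, Sum.inr_getRight]

end H12FittSum
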