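import Mathlib
import Groth.Agent.Lib.Helper12.FittSum3

set_option autoImplicit false
universe u v w

namespace H12FittSum
open Groth.Agent.Helper19.FittLib

theorem main (R : Type u) [CommRing R] (M : Type v) (M' : Type w) [AddCommGroup M] [Module R M]
    [AddCommGroup M'] [Module R M'] [Module.Finite R M] [Module.Finite R M'] (l : ℕ) :
    Fitt.ideal R (M × M') l =
      ∑ k ∈ Finset.range (l + 1), Fitt.ideal R M k * Fitt.ideal R M' (l - k) := by
  obtain ⟨n, x, hx⟩ := Module.Finite.exists_fin (R := R) (M := M)
  obtain ⟨n', y, hy⟩ := Module.Finite.exists_fin (R := R) (M := M')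
  have hw : Submodule.span R (Set.range (gen x y ∘ (finSumFinEquiv (m := n) (n := n')).symm)) = ⊤ := by
    exact span_comp_equiv _ _ (span_gen x y hx hy)
  rw [ideal_eq_Mn _ hw l, Mn_reindex]
  have hM : ∀ k, Fitt.ideal R M k = Mn R x (n - k) := fun k => ideal_eq_Mn x hx k
  have hM' : ∀ k, Fitt.ideal R M' k = Mn R y (n' - k) := fun k => ideal_eq_Mn y hy k
  simp only [hM, hM']
  rw [Ideal.sum_eq_sup]
  apply le_antisymm
  · apply Mn_gen_le
    intro c d hcd
    by_cases hc : n < c
    · rw [Mn_eq_bot_of_card_lt x (by simpa using hc)]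
      simp
    by_cases hd : n' < d
    · rw [Mn_eq_bot_of_card_lt y (by simpa using hd)]
      simp
    have hk : n - c ∈ Finset.range (l + 1) := by
      rw [Finset.mem_range]
      omega
    refine le_trans (le_of_eq ?_)
      (Finset.le_sup (f := fun k => Mn R x (n - k) * Mn R y (n' - (l - k))) hk)
    have e1 : n - (n - c) = c := by omega
    have e2 : n' - (l - (n - c)) = d := by omega
    simp only [e1, e2]
  · apply Finset.sup_le
    intro k hk
    rw [Finset.mem_range] at hk
    refine (Mn_mul_le x y _ _).trans (Mn_antitone _ ?_)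
    omega

end H12FittSum
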