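import Mathlib.RingTheory.Flat.FaithfullyFlat.Descent
import Mathlib.RingTheory.Flat.Basic
import Mathlib.RingTheory.Ideal.Maximal
import Mathlib.RingTheory.Ideal.Quotient.Operations

set_option autoImplicit false
universe u v

namespace Groth.Agent.Lib.Helper12

open TensorProduct

/-- A module is zero if for each maximal ideal `p` there is a flat algebra `A'` with a prime over `p`
such that `A' ⊗ M = 0`.  (A "flat covering family" detects vanishing.) -/
theorem subsingleton_of_flat_cover {A : Type u} [CommRing A] {M : Type v} [AddCommGroup M]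
    [Module A M]
    (H : ∀ p : Ideal A, p.IsMaximal → ∃ (A' : Type u) (_ : CommRing A') (_ : Algebra A A'),
      Module.Flat A A' ∧ (∃ p' : Ideal A', p'.IsPrime ∧ p'.comap (algebraMap A A') = p) ∧
      Subsingleton (A' ⊗[A] M)) : Subsingleton M := by
  by_contra hM
  rw [not_subsingleton_iff_nontrivial] at hM
  obtain ⟨m, hm⟩ := exists_ne (0 : M)
  set I : Ideal A := LinearMap.ker (LinearMap.toSpanSingleton A M m) with hIdef
  have hI : I ≠ ⊤ := by
    intro h
    have h1 : (1 : A) ∈ I := h ▸ Submodule.mem_top
    rw [hIdef, LinearMap.mem_ker, LinearMap.toSpanSingleton_apply, one_smul] at h1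
    exact hm h1
  obtain ⟨p, hp, hIp⟩ := Ideal.exists_le_maximal I hI
  obtain ⟨A', _, _, hflat, ⟨p', hp', hpp'⟩, hsub⟩ := H p hp
  let ι : (A ⧸ I) →ₗ[A] M := Submodule.liftQ I (LinearMap.toSpanSingleton A M m) le_rfl
  have hι : Function.Injective ι := by
    rw [← LinearMap.ker_eq_bot]
    exact Submodule.ker_liftQ_eq_bot _ _ _ le_rfl
  have hinj := Module.Flat.lTensor_preserves_injective_linearMap (M := A') ι hι
  have hsub' : Subsingleton (A' ⊗[A] (A ⧸ I)) := hinj.subsingleton
  have hker : I ≤ LinearMap.ker (Algebra.linearMap A (A' ⧸ p')) := by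
    intro a ha
    have hap : a ∈ p := hIp ha
    rw [← hpp', Ideal.mem_comap] at hap
    rw [LinearMap.mem_ker, Algebra.linearMap_apply, IsScalarTower.algebraMap_apply A A' (A' ⧸ p'),
      Ideal.Quotient.algebraMap_eq, Ideal.Quotient.eq_zero_iff_mem]
    exact hap
  let ψ : (A ⧸ I) →ₗ[A] (A' ⧸ p') := Submodule.liftQ I (Algebra.linearMap A (A' ⧸ p')) hker
  let β : A' ⊗[A] (A ⧸ I) →ₗ[A] (A' ⧸ p') :=
    TensorProduct.lift (LinearMap.mk₂ A (fun (a' : A') (x : A ⧸ I) => a' • ψ x)
      (fun a b x => add_smul a b _) (fun c a x => by rw [smul_assoc])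
      (fun a x y => by rw [map_add, smul_add])
      (fun c a x => by rw [map_smul, smul_comm]))
  have hβ : β ((1 : A') ⊗ₜ[A] (Submodule.Quotient.mk (1 : A))) = 1 := by
    simp only [β, TensorProduct.lift.tmul, LinearMap.mk₂_apply, one_smul, ψ,
      Submodule.liftQ_apply, Algebra.linearMap_apply, map_one]
  have h0 : (1 : A') ⊗ₜ[A] (Submodule.Quotient.mk (1 : A) : A ⧸ I) = 0 := Subsingleton.elim _ _
  rw [h0, map_zero] at hβ
  have : Nontrivial (A' ⧸ p') := Ideal.Quotient.nontrivial_iff.mpr hp'.ne_top
  exact zero_ne_one hβ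

/-- Bijectivity of `A → B` can be checked after a covering family of flat base changes. -/
theorem bijective_of_flat_cover {A B : Type u} [CommRing A] [CommRing B] [Algebra A B]
    (H : ∀ p : Ideal A, p.IsMaximal → ∃ (A' : Type u) (_ : CommRing A') (_ : Algebra A A'),
      Module.Flat A A' ∧ (∃ p' : Ideal A', p'.IsPrime ∧ p'.comap (algebraMap A A') = p) ∧
      Function.Bijective (algebraMap A' (A' ⊗[A] B))) : Function.Bijective (algebraMap A B) := by
  let φ : A →ₗ[A] B := Algebra.linearMap A B
  have key : ∀ (A' : Type u) [CommRing A'] [Algebra A A'] (x : A' ⊗[A] A),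
      LinearMap.lTensor A' φ x = algebraMap A' (A' ⊗[A] B) (TensorProduct.rid A A' x) := by
    intro A' _ _ x
    induction x with
    | zero => simp
    | add x y hx hy => simp only [map_add, hx, hy]
    | tmul a' a =>
      simp only [LinearMap.lTensor_tmul, φ, Algebra.linearMap_apply, TensorProduct.rid_tmul,
        Algebra.TensorProduct.algebraMap_apply, Algebra.algebraMap_self, RingHom.id_apply]
      rw [Algebra.algebraMap_eq_smul_one, ← TensorProduct.smul_tmul]
  have hbij : ∀ (A' : Type u) [CommRing A'] [Algebra A A'],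
      Function.Bijective (algebraMap A' (A' ⊗[A] B)) →
      Function.Bijective (LinearMap.lTensor A' φ) := by
    intro A' _ _ hb
    have : (LinearMap.lTensor A' φ : A' ⊗[A] A → A' ⊗[A] B) =
        (algebraMap A' (A' ⊗[A] B)) ∘ (TensorProduct.rid A A') := by
      funext x; exact key A' x
    rw [this]
    exact hb.comp (TensorProduct.rid A A').bijective
  constructor
  · -- injective
    have hK : Subsingleton (LinearMap.ker φ) := by
      apply subsingleton_of_flat_cover (A := A)
      intro p hp
      obtain ⟨A', i1, i2, hflat, hp', hb⟩ := H p hp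
      refine ⟨A', i1, i2, hflat, hp', ?_⟩
      have h1 := Module.Flat.lTensor_preserves_injective_linearMap (M := A')
        (LinearMap.ker φ).subtype (Submodule.injective_subtype _)
      have h2 : (LinearMap.lTensor A' φ) ∘ₗ (LinearMap.lTensor A' (LinearMap.ker φ).subtype) = 0 := by
        rw [← LinearMap.lTensor_comp, LinearMap.comp_ker_subtype, LinearMap.lTensor_zero]
      refine ⟨fun x y => ?_⟩
      apply h1
      apply (hbij A' hb).1
      have hx := LinearMap.congr_fun h2 x
      have hy := LinearMap.congr_fun h2 y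
      simp only [LinearMap.comp_apply, LinearMap.zero_apply] at hx hy
      rw [hx, hy]
    have : LinearMap.ker φ = ⊥ := (Submodule.subsingleton_iff_eq_bot).mp hK
    exact LinearMap.ker_eq_bot.mp this
  · -- surjective
    have hC : Subsingleton (B ⧸ LinearMap.range φ) := by
      apply subsingleton_of_flat_cover (A := A)
      intro p hp
      obtain ⟨A', i1, i2, hflat, hp', hb⟩ := H p hp
      refine ⟨A', i1, i2, hflat, hp', ?_⟩
      have h1 : Function.Surjective (LinearMap.lTensor A' (LinearMap.range φ).mkQ) :=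
        LinearMap.lTensor_surjective A' (Submodule.mkQ_surjective _)
      have h2 : (LinearMap.lTensor A' (LinearMap.range φ).mkQ) ∘ₗ (LinearMap.lTensor A' φ) = 0 := by
        rw [← LinearMap.lTensor_comp, LinearMap.range_mkQ_comp, LinearMap.lTensor_zero]
      have hz : ∀ z : A' ⊗[A] (B ⧸ LinearMap.range φ), z = 0 := by
        intro z
        obtain ⟨w, rfl⟩ := h1 z
        obtain ⟨v, rfl⟩ := (hbij A' hb).2 w
        have := LinearMap.congr_fun h2 v
        simpa using this
      exact ⟨fun x y => by rw [hz x, hz y]⟩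
    have : LinearMap.range φ = ⊤ := Submodule.Quotient.subsingleton_iff.mp hC
    exact LinearMap.range_eq_top.mp this

end Groth.Agent.Lib.Helper12
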