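import Mathlib
import Groth.Agent.Lib.Helper12.SmFibAlg
import Groth.Agent.Lib.Helper12.FibDimConstr
import Groth.Agent.Lib.Helper6.EtaleSq
import Groth.Agent.Lib.Helper25.FibreRankUSC

set_option autoImplicit false
universe u

namespace Groth.Agent.Lib.Helper12.H12SmFib

open AlgebraicGeometry CategoryTheory Limits TopologicalSpace Topology Set.Notation TensorProduct
  KaehlerDifferential

variable {X S : Scheme.{u}}

set_option backward.isDefEq.respectTransparency.types false in
/-- **Pointwise Jacobian criterion for the fibres of a morphism.** -/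
theorem asFiber_mem_smoothLocus_iff (f : X ⟶ S) [LocallyOfFinitePresentation f] (x : X)
    [LocallyOfFinitePresentation (f.fiberToSpecResidueField (f x))]
    {U : S.Opens} (hU : IsAffineOpen U) {V : X.Opens} (hV : IsAffineOpen V) (hVU : V ≤ f ⁻¹ᵁ U)
    (hxV : x ∈ V) :
    letI := (f.appLE U V hVU).hom.toAlgebra
    f.asFiber x ∈ (f.fiberToSpecResidueField (f x)).smoothLocus ↔
      ((Module.finrank (hV.primeIdealOf ⟨x, hxV⟩).asIdeal.ResidueField
        ((hV.primeIdealOf ⟨x, hxV⟩).asIdeal.ResidueField ⊗[Γ(X, V)] Ω[Γ(X, V)⁄Γ(S, U)]) : ℕ) :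
          WithBot ℕ∞) ≤ FlatMor.fibreDimAt f x := by
  have H : IsPullback (f.fiberι (f x)) (f.fiberToSpecResidueField (f x)) f
      (S.fromSpecResidueField (f x)) := IsPullback.of_hasPullback f _
  have hx' : f.fiberι (f x) (f.asFiber x) = x := f.fiberι_asFiber x
  have hsU : f x ∈ U := hVU hxV
  set g := S.fromSpecResidueField (f x) with hg
  set fib := f.fiberToSpecResidueField (f x) with hfibdef
  set ι := f.fiberι (f x) with hι
  set z := f.asFiber x with hz
  have hU'U : (⊤ : (Spec (S.residueField (f x))).Opens) ≤ g ⁻¹ᵁ U := by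
    intro t _
    change g t ∈ U
    rw [hg, Scheme.fromSpecResidueField_apply]
    exact hsU
  set V' : (f.fiber (f x)).Opens := ι ⁻¹ᵁ V ⊓ fib ⁻¹ᵁ ⊤ with hV'def
  have hV'V : V' ≤ ι ⁻¹ᵁ V := inf_le_left
  have hV'top : V' ≤ fib ⁻¹ᵁ ⊤ := inf_le_right
  have hzV' : z ∈ V' := by
    refine ⟨?_, trivial⟩
    change ι z ∈ V
    rw [hx']; exact hxV
  have hV' : IsAffineOpen V' := by
    have : IsAffine U := hU
    have : IsAffine (⊤ : (Spec (S.residueField (f x))).Opens) := isAffineOpen_top _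
    have : IsAffine V := hV
    exact .of_isIso (Scheme.Hom.isPullback_resLE H hU'U hVU hV'def).isoPullback.hom
  have hpush : IsPushout (f.appLE U V hVU) (g.appLE U ⊤ hU'U)
      (ι.appLE V V' hV'V) (fib.appLE ⊤ V' hV'top) :=
    (isIso_pushoutSection_iff H hU'U hVU hV'def).mp
      (isIso_pushoutSection_of_isAffineOpen H hU'U hVU hV'def hU (isAffineOpen_top _) hV)
  have hfp' := fib.finitePresentation_appLE (isAffineOpen_top _) hV' hV'top
  let _ : Algebra Γ(S, U) Γ(X, V) := (f.appLE U V hVU).hom.toAlgebra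
  let _ : Algebra Γ(S, U) Γ(Spec (S.residueField (f x)), ⊤) := (g.appLE U ⊤ hU'U).hom.toAlgebra
  let _ : Algebra Γ(X, V) Γ(f.fiber (f x), V') := (ι.appLE V V' hV'V).hom.toAlgebra
  let _ : Algebra Γ(Spec (S.residueField (f x)), ⊤) Γ(f.fiber (f x), V') :=
    (fib.appLE ⊤ V' hV'top).hom.toAlgebra
  let _ : Algebra Γ(S, U) Γ(f.fiber (f x), V') :=
    ((ι.appLE V V' hV'V).hom.comp (f.appLE U V hVU).hom).toAlgebra
  have : IsScalarTower Γ(S, U) Γ(X, V) Γ(f.fiber (f x), V') := .of_algebraMap_eq' rfl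
  have : IsScalarTower Γ(S, U) Γ(Spec (S.residueField (f x)), ⊤) Γ(f.fiber (f x), V') :=
    .of_algebraMap_eq' <| by
      change (ι.appLE V V' hV'V).hom.comp (f.appLE U V hVU).hom =
        (fib.appLE ⊤ V' hV'top).hom.comp (g.appLE U ⊤ hU'U).hom
      rw [← CommRingCat.hom_comp, ← CommRingCat.hom_comp, hpush.w]
  have : Algebra.FiniteType Γ(Spec (S.residueField (f x)), ⊤) Γ(f.fiber (f x), V') :=
    (RingHom.FiniteType.of_finitePresentation hfp' :)
  have : Algebra.IsPushout Γ(S, U) Γ(X, V) Γ(Spec (S.residueField (f x)), ⊤)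
      Γ(f.fiber (f x), V') := CommRingCat.isPushout_iff_isPushout.mp hpush
  have hk : IsField Γ(Spec (S.residueField (f x)), ⊤) :=
    MulEquiv.isField (Field.toIsField (S.residueField (f x)))
      (Scheme.ΓSpecIso (S.residueField (f x))).commRingCatIsoToRingEquiv.toMulEquiv
  letI : Field Γ(Spec (S.residueField (f x)), ⊤) := hk.toField
  -- the primes
  set Qp := hV'.primeIdealOf ⟨z, hzV'⟩ with hQp
  set qp := hV.primeIdealOf ⟨x, hxV⟩ with hqp
  have hcomap : Qp.asIdeal.comap (algebraMap Γ(X, V) Γ(f.fiber (f x), V')) = qp.asIdeal := by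
    have h1 := IsAffineOpen.comap_primeIdealOf_appLE (f := ι) V hV V' hV' hV'V hzV'
    have h2 : hV.primeIdealOf ⟨ι z, hV'V hzV'⟩ = qp := by
      rw [hqp]
      congr 1
      exact Subtype.ext hx'
    rw [h2] at h1
    exact congr($(h1).asIdeal)
  have hmain := H12SmFibAlg.isSmoothAt_iff_of_isPushout (A := Γ(S, U)) (B := Γ(X, V))
    (k := Γ(Spec (S.residueField (f x)), ⊤)) (F := Γ(f.fiber (f x), V')) Qp.asIdeal qp.asIdeal hcomap
  have hdim : FlatMor.localDim (PrimeSpectrum Γ(f.fiber (f x), V')) ⟨Qp.asIdeal, inferInstance⟩ =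
      FlatMor.fibreDimAt f x := by
    have h1 := Groth.Agent.Lib.Helper6.EtaleSq.localDim_eq_of_etale hV'.fromSpec Qp
    rw [hQp, hV'.fromSpec_primeIdealOf ⟨z, hzV'⟩] at h1
    exact h1
  rw [← hdim, ← hmain]
  rw [Scheme.Hom.mem_smoothLocus,
    formallySmooth_stalkMap_iff ⊤ (isAffineOpen_top _) V' hV' hV'top hzV']
  rfl

/-- the locus of points at which the fibre through the point is smooth. -/
def E (f : X ⟶ S) [LocallyOfFinitePresentation f]
    [∀ s : S, LocallyOfFinitePresentation (f.fiberToSpecResidueField s)] : Set X :=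
  {x : X | f.asFiber x ∈ (f.fiberToSpecResidueField (f.base x)).smoothLocus}

theorem finrank_tensor_le_of_span {B : Type*} [CommRing B] {M : Type*} [AddCommGroup M]
    [Module B M] {n : ℕ} (m : Fin n → M) (hm : Submodule.span B (Set.range m) = ⊤)
    (L : Type*) [Field L] [Algebra B L] : Module.finrank L (L ⊗[B] M) ≤ n := by
  have h := Groth.Agent.Lib.Helper25.FibreRankUSC.finrank_le_card_of_subsingleton (A := B) M m L (by
    have h1 : LinearMap.range (Fintype.linearCombination B m) = ⊤ := by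
      rw [Fintype.range_linearCombination, hm]
    rw [h1]
    have : Subsingleton (M ⧸ (⊤ : Submodule B M)) := Submodule.Quotient.subsingleton_iff.mpr rfl
    infer_instance)
  simpa using h

set_option backward.isDefEq.respectTransparency.types false in
theorem isLocallyConstructible_preimage_fromSpec (f : X ⟶ S) [LocallyOfFinitePresentation f]
    [∀ s : S, LocallyOfFinitePresentation (f.fiberToSpecResidueField s)]
    {U : S.Opens} (hU : IsAffineOpen U) {V : X.Opens} (hV : IsAffineOpen V) (hVU : V ≤ f ⁻¹ᵁ U) :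
    IsLocallyConstructible (hV.fromSpec ⁻¹' E f) := by
  letI := (f.appLE U V hVU).hom.toAlgebra
  have hfp : Algebra.FinitePresentation Γ(S, U) Γ(X, V) := f.finitePresentation_appLE hU hV hVU
  have hfin : Module.Finite Γ(X, V) Ω[Γ(X, V)⁄Γ(S, U)] := inferInstance
  obtain ⟨N, m, hm⟩ := Module.Finite.exists_fin (R := Γ(X, V)) (M := Ω[Γ(X, V)⁄Γ(S, U)])
  let r : PrimeSpectrum Γ(X, V) → ℕ := fun q =>
    Module.finrank q.asIdeal.ResidueField (q.asIdeal.ResidueField ⊗[Γ(X, V)] Ω[Γ(X, V)⁄Γ(S, U)])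
  have hrN : ∀ q, r q ≤ N := fun q => finrank_tensor_le_of_span m hm _
  have hmem : ∀ q : Spec Γ(X, V), hV.fromSpec q ∈ V := by
    intro q
    have : hV.fromSpec q ∈ Set.range hV.fromSpec := ⟨q, rfl⟩
    rw [hV.range_fromSpec] at this
    exact this
  have hprime : ∀ q : Spec Γ(X, V), hV.primeIdealOf ⟨hV.fromSpec q, hmem q⟩ = q := by
    intro q
    apply hV.fromSpec.isOpenEmbedding.injective
    exact hV.fromSpec_primeIdealOf ⟨hV.fromSpec q, hmem q⟩
  have hset : hV.fromSpec ⁻¹' E f = ⋃ n ∈ Finset.range (N + 1),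
      ({q : PrimeSpectrum Γ(X, V) | r q ≤ n} ∩
        hV.fromSpec ⁻¹' {x : X | ((n : ℕ) : WithBot ℕ∞) ≤ FlatMor.fibreDimAt f x}) := by
    ext q
    have h1 := asFiber_mem_smoothLocus_iff f (hV.fromSpec q) hU hV hVU (hmem q)
    rw [hprime q] at h1
    rw [Set.mem_preimage]
    change (f.asFiber (hV.fromSpec q) ∈
      (f.fiberToSpecResidueField (f (hV.fromSpec q))).smoothLocus) ↔ _
    rw [h1]
    constructor
    · intro h
      exact Set.mem_biUnion (x := r q)
        (Finset.mem_coe.mpr (Finset.mem_range.mpr (Nat.lt_succ_of_le (hrN q))))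
        ⟨(le_refl (r q) : r q ≤ r q), h⟩
    · intro h
      obtain ⟨n, -, hn1, hn2⟩ := Set.mem_iUnion₂.mp h
      have hn1' : r q ≤ n := hn1
      have hn2' : ((n : ℕ) : WithBot ℕ∞) ≤ FlatMor.fibreDimAt f (hV.fromSpec q) := hn2
      refine le_trans ?_ hn2'
      exact_mod_cast hn1'
  rw [hset]
  refine IsLocallyConstructible.biUnion (Finset.finite_toSet _) fun n _ => ?_
  refine IsLocallyConstructible.inter ?_ ?_
  · exact (H12SmFibAlg.isConstructible_setOf_finrank_kaehler_le Γ(S, U) Γ(X, V) n).isLocallyConstructible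
  · exact Groth.Agent.Lib.Helper14.AS.isLocallyConstructible_preimage hV.fromSpec
      (H12FibDimConstr.isLocallyConstructible_setOf_le_fibreDimAt f n)

/-- **Main**: the fibrewise smooth locus of a morphism locally of finite presentation is locally
constructible. -/
theorem main (f : X ⟶ S) [LocallyOfFinitePresentation f]
    [∀ s : S, LocallyOfFinitePresentation (f.fiberToSpecResidueField s)] :
    IsLocallyConstructible (E f) := by
  have key : ∀ x : X, ∃ V : X.Opens, x ∈ V ∧ IsLocallyConstructible ((V : Set X) ↓∩ E f) := by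
    intro x
    obtain ⟨U, hU, hxU⟩ : ∃ U : S.Opens, IsAffineOpen U ∧ f x ∈ U := by
      obtain ⟨_, ⟨U, hU, rfl⟩, hx, -⟩ :=
        S.isBasis_affineOpens.exists_subset_of_mem_open (Set.mem_univ (f x)) isOpen_univ
      exact ⟨U, hU, hx⟩
    obtain ⟨V, hV, hxV, hVU⟩ : ∃ V : X.Opens, IsAffineOpen V ∧ x ∈ V ∧ V ≤ f ⁻¹ᵁ U := by
      obtain ⟨_, ⟨V, hV, rfl⟩, hx, hsub⟩ :=
        X.isBasis_affineOpens.exists_subset_of_mem_open
          (show x ∈ ((f ⁻¹ᵁ U : X.Opens) : Set ↥X) from hxU) (f ⁻¹ᵁ U).2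
      exact ⟨V, hV, hx, hsub⟩
    refine ⟨V, hxV, ?_⟩
    have h := Groth.Agent.Lib.Helper14.AS.isLocallyConstructible_preimage hV.isoSpec.hom
      (isLocallyConstructible_preimage_fromSpec f hU hV hVU)
    have hset : ((V : Set X) ↓∩ E f) = hV.isoSpec.hom ⁻¹' (hV.fromSpec ⁻¹' E f) := by
      ext v
      have hv : hV.fromSpec (hV.isoSpec.hom v) = v.1 := by
        rw [← Scheme.Hom.comp_apply, IsAffineOpen.isoSpec_hom_fromSpec]
        rfl
      change v.1 ∈ E f ↔ hV.fromSpec (hV.isoSpec.hom v) ∈ E f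
      rw [hv]
    rw [hset]
    exact h
  choose V hV hVA using key
  refine IsLocallyConstructible.of_isOpenCover (U := V) ?_ hVA
  rw [TopologicalSpace.IsOpenCover, eq_top_iff]
  intro x _
  exact TopologicalSpace.Opens.mem_iSup.mpr ⟨x, hV x⟩

end Groth.Agent.Lib.Helper12.H12SmFib
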