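import Mathlib
import Groth.Agent.Lib.Helper12.FlatFib5
import Groth.Agent.Lib.Helper12.SmFib

set_option autoImplicit false
set_option linter.style.haveILetI false
set_option linter.unusedSectionVars false
universe u

namespace Groth.Agent.Lib.Helper12.H12FlatFib

open AlgebraicGeometry CategoryTheory Limits Topology TopologicalSpace
open Groth.Agent.Lib.Helper6.Fib
open Groth.Agent.Lib.Helper14.AS

variable {X Y S : Scheme.{u}} (f : X ⟶ Y) (g : Y ⟶ S)

instance lfp_fiberToSpec [LocallyOfFinitePresentation f] (y : Y) :
    LocallyOfFinitePresentation (f.fiberToSpecResidueField y) := by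
  unfold Scheme.Hom.fiberToSpecResidueField
  exact MorphismProperty.pullback_snd (P := @LocallyOfFinitePresentation) _ _ inferInstance

theorem mem_smoothLocus_of_mem_E [LocallyOfFinitePresentation f] (y : Y) (z : f.fiber y) (x : X)
    (hx : f.fiberι y z = x) (e : f x = y) (h : x ∈ H12SmFib.E f) :
    z ∈ (f.fiberToSpecResidueField y).smoothLocus := by
  subst e
  have : z = f.asFiber x :=
    (f.fiberι _).isEmbedding.injective (by rw [hx, f.fiberι_asFiber])
  rw [this]
  exact h

theorem smooth_fiber_iff [LocallyOfFinitePresentation f] (y : Y) :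
    Smooth (f.fiberToSpecResidueField y) ↔ ∀ x : X, f x = y → x ∈ H12SmFib.E f := by
  rw [← Scheme.Hom.smoothLocus_eq_top_iff]
  constructor
  · intro h x hx
    subst hx
    change f.asFiber x ∈ (f.fiberToSpecResidueField (f x)).smoothLocus
    rw [h]
    trivial
  · intro H
    rw [← top_le_iff]
    rintro z -
    refine mem_smoothLocus_of_mem_E f y z _ rfl ?_ (H _ ?_)
    · have : f.fiberι y z ∈ Set.range (f.fiberι y) := ⟨z, rfl⟩
      rw [f.range_fiberι] at this
      exact this
    · have : f.fiberι y z ∈ Set.range (f.fiberι y) := ⟨z, rfl⟩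
      rw [f.range_fiberι] at this
      exact this

theorem fpqc_SpecMap_field {K L : CommRingCat.{u}} (hK : IsField K) (hL : IsField L) (φ : K ⟶ L) :
    (@Surjective ⊓ @Flat ⊓ @QuasiCompact : MorphismProperty Scheme.{u}) (Spec.map φ) := by
  letI := hK.toField
  letI := hL.toField
  refine ⟨⟨⟨fun a => ?_⟩, ?_⟩, inferInstance⟩
  · obtain ⟨b⟩ : Nonempty (PrimeSpectrum L) := inferInstance
    exact ⟨b, Subsingleton.elim (α := PrimeSpectrum K) _ _⟩
  · rw [Flat.SpecMap_iff]
    letI := φ.hom.toAlgebra
    change Module.Flat K L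
    infer_instance

theorem smooth_fiber_iff_of_isPullback {P X' Y' : Scheme.{u}} {fst : P ⟶ X'} {snd : P ⟶ Y'}
    {f' : X' ⟶ Y} {g' : Y' ⟶ Y} (h : IsPullback fst snd f' g') (y : Y') :
    Smooth (snd.fiberToSpecResidueField y) ↔ Smooth (f'.fiberToSpecResidueField (g' y)) := by
  have hsq := isPullback_fiberToSpecResidueField_of_isPullback h y
  exact MorphismProperty.iff_of_isPullback (P := @Smooth)
    (Q := @Surjective ⊓ @Flat ⊓ @QuasiCompact) hsq.flip
    (fpqc_SpecMap_field (Field.toIsField _) (Field.toIsField _) _)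

theorem smooth_fibMap_iff [LocallyOfFinitePresentation g] [LocallyOfFinitePresentation (f ≫ g)]
    (s : S) :
    haveI : LocallyOfFinitePresentation f :=
      Groth.Agent.Lib.Helper12.H12LqfConstr.locallyOfFinitePresentation_of_comp f g
    Smooth (fibMap f g (S.fromSpecResidueField s)) ↔
      Flat (fibMap f g (S.fromSpecResidueField s)) ∧
        ∀ x : X, (f ≫ g) x = s → x ∈ H12SmFib.E f := by
  haveI hf : LocallyOfFinitePresentation f :=
    Groth.Agent.Lib.Helper12.H12LqfConstr.locallyOfFinitePresentation_of_comp f g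
  have hpb := fibMap_isPullback f g (S.fromSpecResidueField s)
  haveI := lfp_fibMap f g s
  constructor
  · intro hsm
    refine ⟨inferInstance, fun x hx => ?_⟩
    obtain ⟨y, hy⟩ : ∃ y : ↥(pullback g (S.fromSpecResidueField s)),
        pullback.fst g (S.fromSpecResidueField s) y = f x := by
      have hx' : g (f x) = s := hx
      subst hx'
      exact exists_fst_eq g (f x)
    have h1 : Smooth ((fibMap f g (S.fromSpecResidueField s)).fiberToSpecResidueField y) := by
      unfold Scheme.Hom.fiberToSpecResidueField
      exact MorphismProperty.pullback_snd (P := @Smooth) _ _ hsm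
    have h2 := (smooth_fiber_iff_of_isPullback hpb y).mp h1
    exact (smooth_fiber_iff f _).mp h2 x hy.symm
  · rintro ⟨hfl, H⟩
    refine Smooth.of_smooth_fiberToSpecResidueField _ fun y => ?_
    apply (smooth_fiber_iff_of_isPullback hpb y).mpr
    apply (smooth_fiber_iff f _).mpr
    intro x hx
    apply H
    rw [Scheme.Hom.comp_apply, hx]
    exact apply_fst g s y

theorem isLocallyConstructible_fibMap_smooth [LocallyOfFinitePresentation g]
    [LocallyOfFinitePresentation (f ≫ g)] [QuasiCompact (f ≫ g)] :
    IsLocallyConstructible {s : S | Smooth (fibMap f g (S.fromSpecResidueField s))} := by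
  haveI hf : LocallyOfFinitePresentation f :=
    Groth.Agent.Lib.Helper12.H12LqfConstr.locallyOfFinitePresentation_of_comp f g
  have hset : {s : S | Smooth (fibMap f g (S.fromSpecResidueField s))} =
      {s : S | Flat (fibMap f g (S.fromSpecResidueField s))} ∩
        ((f ≫ g) '' (H12SmFib.E f)ᶜ)ᶜ := by
    ext s
    simp only [Set.mem_ofPred_eq, Set.mem_inter_iff, Set.mem_compl_iff, Set.mem_image, not_exists,
      not_and]
    rw [smooth_fibMap_iff f g s]
    constructor
    · rintro ⟨h1, h2⟩
      exact ⟨h1, fun x hx hxs => hx (h2 x hxs)⟩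
    · rintro ⟨h1, h2⟩
      refine ⟨h1, fun x hxs => ?_⟩
      by_contra hcon
      exact h2 x hcon hxs
  rw [hset]
  exact (isLocallyConstructible_fibMap_flat f g).inter
    (H12FibDimConstr.isLocallyConstructible_compl
      (Scheme.Hom.isLocallyConstructible_image (f ≫ g)
        (H12FibDimConstr.isLocallyConstructible_compl (H12SmFib.main f))))

end Groth.Agent.Lib.Helper12.H12FlatFib
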