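import Mathlib
import Groth.Agent.Lib.Helper12.ConsP8
import Groth.Agent.Lib.Lead.ProConsScheme

set_option autoImplicit false
universe u

namespace Groth.Agent.Lib.Helper12.H12ProLim

open AlgebraicGeometry CategoryTheory Limits TopologicalSpace Topology
open Groth.Agent.Lib.Helper12.H12ConsP Groth.Agent.Lib.Lead


/-- union of two ind-constructible subsets of a locally spectral space. -/
theorem isIndConstructible_union {X : Type*} [TopologicalSpace X] (hX : LocallySpectral X)
    {A B : Set X} (hA : ProCons.IsIndConstructible A) (hB : ProCons.IsIndConstructible B) :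
    ProCons.IsIndConstructible (A ∪ B) := by
  apply isIndConstructible_of_forall_exists_spectral
  intro x
  obtain ⟨U, hUo, hxU, hUs⟩ := hX x
  refine ⟨U, hUo, hxU, hUs, ?_⟩
  rw [Set.preimage_union]
  exact @IsOpen.union _ _ _ (constructibleTopology _)
    (isOpen_constructible_of_isIndConstructible hA U hUo)
    (isOpen_constructible_of_isIndConstructible hB U hUo)

variable {I : Type u} [SmallCategory I] [IsCofiltered I]
    (D : I ⥤ Scheme.{u}) (c : Limits.Cone D) (hc : Limits.IsLimit c)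
    [∀ (i j : I) (a : i ⟶ j), IsAffineHom (D.map a)]

include hc in
/-- **EGA IV 8.3.2** -/
theorem iInter_subset_iUnion_iff_stage (i₀ : I) [CompactSpace ↥(D.obj i₀)]
    (E F : ∀ i : I, Set ↥(D.obj i))
    (hE : ∀ i, ProCons.IsProConstructible (E i)) (hF : ∀ i, ProCons.IsIndConstructible (F i))
    (hEm : ∀ (i j : I) (φ : i ⟶ j), E i ⊆ ⇑(D.map φ) ⁻¹' E j)
    (hFm : ∀ (i j : I) (φ : i ⟶ j), ⇑(D.map φ) ⁻¹' F j ⊆ F i) :
    (⋂ i, ⇑(c.π.app i) ⁻¹' E i : Set ↥c.pt) ⊆ (⋃ i, ⇑(c.π.app i) ⁻¹' F i : Set ↥c.pt) ↔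
      ∃ (i : I) (_ : i ⟶ i₀), ∀ (j : I) (_ : j ⟶ i), E j ⊆ F j := by
  classical
  have haff : ∀ {i j : I} (f : i ⟶ j), IsAffineHom (D.map f) := fun f => inferInstance
  constructor
  · intro h
    haveI : IsAffineHom (c.π.app i₀) := isAffineHom_π_app D c hc i₀
    haveI : CompactSpace ↥c.pt := QuasiCompact.compactSpace_of_compactSpace (c.π.app i₀)
    -- cover of the limit by ind-constructible sets
    let G : I ⊕ I → Set ↥c.pt := fun o =>
      Sum.elim (fun i => (⇑(c.π.app i) ⁻¹' E i)ᶜ) (fun i => ⇑(c.π.app i) ⁻¹' F i) o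
    have hG : ∀ o, ProCons.IsIndConstructible (G o) := by
      rintro (i | i)
      · exact isIndConstructible_compl (isProConstructible_preimage (c.π.app i) (hE i))
      · exact isIndConstructible_preimage (c.π.app i) (hF i)
    have hcov : (Set.univ : Set ↥c.pt) ⊆ ⋃ o, G o := by
      intro s _
      by_cases hs : s ∈ (⋂ i, ⇑(c.π.app i) ⁻¹' E i : Set ↥c.pt)
      · obtain ⟨i, hi⟩ := Set.mem_iUnion.mp (h hs)
        exact Set.mem_iUnion.mpr ⟨Sum.inr i, hi⟩
      · simp only [Set.mem_iInter, not_forall] at hs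
        obtain ⟨i, hi⟩ := hs
        exact Set.mem_iUnion.mpr ⟨Sum.inl i, hi⟩
    obtain ⟨J, hJ⟩ := exists_finite_subcover_of_isProConstructible (locallySpectral_scheme c.pt)
      isProConstructible_univ G hG hcov
    -- a common lower bound
    let O : Finset I := insert i₀ (J.image (Sum.elim id id))
    obtain ⟨i₂, hi₂⟩ := IsCofiltered.inf_objs_exists O
    obtain ⟨ψ₀⟩ := hi₂ (Finset.mem_insert_self _ _)
    haveI : CompactSpace ↥(D.obj i₂) := QuasiCompact.compactSpace_of_compactSpace (D.map ψ₀)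
    have key : ∀ s : ↥c.pt, c.π.app i₂ s ∈ (E i₂ ∩ (F i₂)ᶜ)ᶜ := by
      intro s hs
      have := hJ (Set.mem_univ s)
      simp only [Set.mem_iUnion, exists_prop] at this
      obtain ⟨o, hoJ, hso⟩ := this
      rcases o with i | i
      · obtain ⟨ψ⟩ := hi₂ (Finset.mem_insert_of_mem (Finset.mem_image.mpr ⟨_, hoJ, rfl⟩))
        apply hso
        change c.π.app i s ∈ E i
        have h1 := hEm i₂ i ψ hs.1
        rwa [Set.mem_preimage, ← Scheme.Hom.comp_apply, c.w] at h1
      · obtain ⟨ψ⟩ := hi₂ (Finset.mem_insert_of_mem (Finset.mem_image.mpr ⟨_, hoJ, rfl⟩))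
        apply hs.2
        apply hFm i₂ i ψ
        change D.map ψ (c.π.app i₂ s) ∈ F i
        rw [← Scheme.Hom.comp_apply, c.w]
        exact hso
    have hind : ProCons.IsIndConstructible (E i₂ ∩ (F i₂)ᶜ)ᶜ := by
      rw [Set.compl_inter, compl_compl]
      exact isIndConstructible_union (locallySpectral_scheme _)
        (isIndConstructible_compl (hE i₂)) (hF i₂)
    obtain ⟨j, φ, hj⟩ := exists_stage_preimage_univ D c hc i₂ _ hind key
    refine ⟨j, φ ≫ ψ₀, fun k ψ x hx => ?_⟩
    by_contra hxF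
    refine hj (D.map ψ x) ⟨?_, ?_⟩
    · have := hEm k i₂ (ψ ≫ φ) hx
      rwa [Set.mem_preimage, D.map_comp, Scheme.Hom.comp_apply] at this
    · intro h2
      apply hxF
      apply hFm k i₂ (ψ ≫ φ)
      rwa [Set.mem_preimage, D.map_comp, Scheme.Hom.comp_apply]
  · rintro ⟨i, ψ, H⟩ s hs
    simp only [Set.mem_iInter] at hs
    exact Set.mem_iUnion.mpr ⟨i, H i (𝟙 i) (hs i)⟩

end Groth.Agent.Lib.Helper12.H12ProLim
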