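import Mathlib
import Groth.Agent.Lib.Helper12.ProLim1
import Groth.Agent.S14788
import Groth.Agent.Lib.Helper12.FlatLim1

set_option autoImplicit false
universe u v w

open CategoryTheory CategoryTheory.Limits AlgebraicGeometry TopologicalSpace Opposite Topology

namespace Groth.Agent.Lib.Helper12.H12FlatLim

open Groth.Agent.Lib.Helper12.H12ConsP Groth.Agent.Lib.Lead Groth.Agent.Lib.Helper12.H12ProLim

theorem closure_preimage_eq_of_generalizingMap {X Y : Scheme.{u}} (f : X ⟶ Y)
    (hf : GeneralizingMap f) {Z : Set Y} (hZ : ProCons.IsProConstructible Z) :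
    closure (f ⁻¹' Z) = f ⁻¹' closure Z := by
  apply Set.Subset.antisymm
  · exact f.continuous.closure_preimage_subset Z
  · intro x hx
    obtain ⟨y', hy'Z, hspec⟩ :=
      (Groth.Agent.S14788.mem_closure_iff_of_isProConstructible Y hZ (f x)).mp hx
    obtain ⟨x', hx'x, hx'⟩ := hf hspec
    refine hx'x.mem_closed isClosed_closure (subset_closure ?_)
    show f x' ∈ Z
    rw [hx']; exact hy'Z

section Lim
variable {I : Type u} [SmallCategory I] [IsCofiltered I]
    (D : I ⥤ Scheme.{u}) (c : Limits.Cone D) (hc : Limits.IsLimit c)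
    [∀ (i j : I) (a : i ⟶ j), IsAffineHom (D.map a)]

include hc in
theorem preimage_subset_preimage_iff_stage (i₁ : I) [CompactSpace (D.obj i₁)]
    (Z'' C : Set (D.obj i₁)) (hZ'' : ProCons.IsProConstructible Z'')
    (hC : Topology.IsConstructible C) :
    (⇑(c.π.app i₁) ⁻¹' Z'' : Set c.pt) ⊆ (⇑(c.π.app i₁) ⁻¹' C : Set c.pt) ↔
      ∃ (j : I) (φ : j ⟶ i₁), ⇑(D.map φ) ⁻¹' Z'' ⊆ ⇑(D.map φ) ⁻¹' C := by
  constructor
  · intro h
    have hE : ProCons.IsIndConstructible (Z''ᶜ ∪ C) :=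
      isIndConstructible_union (locallySpectral_scheme _) (isIndConstructible_compl hZ'')
        (isIndConstructible_of_isLocallyConstructible hC.isLocallyConstructible)
    obtain ⟨j, φ, hj⟩ := exists_stage_preimage_univ D c hc i₁ (Z''ᶜ ∪ C) hE (fun s => by
      by_cases hs : c.π.app i₁ s ∈ Z''
      · exact Or.inr (h hs)
      · exact Or.inl hs)
    refine ⟨j, φ, fun t ht => ?_⟩
    rcases hj t with h1 | h1
    · exact absurd ht h1
    · exact h1
  · rintro ⟨j, φ, hj⟩ s hs
    have : c.π.app j s ∈ ⇑(D.map φ) ⁻¹' Z'' := by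
      show D.map φ (c.π.app j s) ∈ Z''
      rw [← Scheme.Hom.comp_apply, c.w]; exact hs
    have h2 := hj this
    show c.π.app i₁ s ∈ C
    have h3 : D.map φ (c.π.app j s) ∈ C := h2
    rwa [← Scheme.Hom.comp_apply, c.w] at h3

include hc in
/-- **S4786** -/
theorem preimage_subset_closure_preimage_iff_stage (i₁ : I) [CompactSpace (D.obj i₁)]
    (hfl : ∀ (i j : I) (φ : i ⟶ j), Flat (D.map φ))
    (Z' Z'' : Set (D.obj i₁)) (hZ' : ProCons.IsProConstructible Z')
    (hZ'' : ProCons.IsProConstructible Z'') (hcl : Topology.IsConstructible (closure Z')) :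
    (⇑(c.π.app i₁) ⁻¹' Z'' : Set c.pt) ⊆ closure (⇑(c.π.app i₁) ⁻¹' Z' : Set c.pt) ↔
      ∃ (j : I) (φ : j ⟶ i₁), ⇑(D.map φ) ⁻¹' Z'' ⊆ closure (⇑(D.map φ) ⁻¹' Z') := by
  have hA : ∀ {i j : I} (f : i ⟶ j), IsAffineHom (D.map f) := fun f => inferInstance
  have hπ : Flat (c.π.app i₁) := flat_π_app D c hc (fun φ => hfl _ _ φ) i₁
  rw [closure_preimage_eq_of_generalizingMap (X := c.pt) (c.π.app i₁) (Flat.generalizingMap _) hZ',
    preimage_subset_preimage_iff_stage D c hc i₁ Z'' (closure Z') hZ'' hcl]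
  refine exists_congr fun j => exists_congr fun φ => ?_
  have := hfl _ _ φ
  rw [closure_preimage_eq_of_generalizingMap (D.map φ) (Flat.generalizingMap _) hZ']

end Lim

end Groth.Agent.Lib.Helper12.H12FlatLim
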