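import Mathlib
import Groth.Agent.Lib.Helper12.FlatLim2

set_option autoImplicit false
universe u v w

open CategoryTheory CategoryTheory.Limits AlgebraicGeometry TopologicalSpace Opposite Topology

namespace Groth.Agent.Lib.Helper12.H12FlatLim

open Groth.Agent.Lib.Helper12.H12ConsP Groth.Agent.Lib.Lead Groth.Agent.Lib.Helper12.H12ProLim

section PB
variable {P X Y Z : Scheme.{u}} {a : P ⟶ X} {b : P ⟶ Y} {c : X ⟶ Z} {d : Y ⟶ Z}

theorem range_fst_of_isPullback (h : IsPullback a b c d) :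
    Set.range a = c ⁻¹' Set.range d := by
  rw [← Scheme.Pullback.range_fst, ← h.isoPullback_hom_fst]
  rw [Scheme.Hom.comp_base, TopCat.coe_comp, Set.range_comp]
  have : Function.Surjective h.isoPullback.hom :=
    (h.isoPullback.hom.homeomorph).surjective
  rw [Set.range_eq_univ.mpr this, Set.image_univ]

theorem range_snd_of_isPullback (h : IsPullback a b c d) :
    Set.range b = d ⁻¹' Set.range c :=
  range_fst_of_isPullback h.flip

end PB

theorem isProConstructible_range {X Y : Scheme.{u}} (f : X ⟶ Y) [QuasiCompact f] :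
    ProCons.IsProConstructible (Set.range f) := by
  rw [← Set.image_univ]
  exact isProConstructible_image_of_quasiCompact f
    (isProConstructible_of_isLocallyConstructible
      (Topology.IsConstructible.isLocallyConstructible Topology.IsConstructible.univ))

/-- Dominance of a base change along a flat morphism. -/
theorem isDominant_iff_of_isPullback {X X₀ Y Y₀ : Scheme.{u}} {qX : X ⟶ X₀} {f : X ⟶ Y}
    {f₀ : X₀ ⟶ Y₀} {qY : Y ⟶ Y₀} (hX : IsPullback qX f f₀ qY) [Flat qY] [QuasiCompact f₀] :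
    IsDominant f ↔ ∀ y : Y, qY y ∈ closure (Set.range f₀) := by
  rw [isDominant_iff, DenseRange, dense_iff_closure_eq, range_snd_of_isPullback hX,
    closure_preimage_eq_of_generalizingMap qY (Flat.generalizingMap _) (isProConstructible_range f₀),
    Set.eq_univ_iff_forall]
  rfl

/-- For a pullback square, the image of `qY` avoids `E` iff the image of `p` avoids `g₀ '' E`. -/
theorem forall_mem_iff_of_isPullback {Y Y₀ T S₀ : Scheme.{u}} {qY : Y ⟶ Y₀} {g : Y ⟶ T}
    {g₀ : Y₀ ⟶ S₀} {p : T ⟶ S₀} (hY : IsPullback qY g g₀ p) (C : Set Y₀) :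
    (∀ y : Y, qY y ∈ C) ↔ ∀ t : T, p t ∈ (g₀ '' Cᶜ)ᶜ := by
  constructor
  · intro h t ht
    obtain ⟨y₀, hy₀, hy₀t⟩ := ht
    have : y₀ ∈ Set.range qY := by
      rw [range_fst_of_isPullback hY]
      exact ⟨t, hy₀t.symm⟩
    obtain ⟨y, rfl⟩ := this
    exact hy₀ (h y)
  · intro h y
    by_contra hy
    refine h (g y) ⟨qY y, hy, ?_⟩
    rw [← Scheme.Hom.comp_apply, ← Scheme.Hom.comp_apply, hY.w]

section Lim
variable {I : Type u} [SmallCategory I] [IsCofiltered I]
    (D : I ⥤ Scheme.{u}) (c : Limits.Cone D) (hc : Limits.IsLimit c)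
    [∀ (i j : I) (a : i ⟶ j), IsAffineHom (D.map a)]

include hc in
/-- **S4800** -/
theorem isDominant_iff_stage (i₀ : I) [CompactSpace (D.obj i₀)]
    (hfl : ∀ (i j : I) (φ : i ⟶ j), Flat (D.map φ))
    {X₀ Y₀ : Scheme.{u}} (f₀ : X₀ ⟶ Y₀) (g₀ : Y₀ ⟶ D.obj i₀)
    [QuasiCompact (f₀ ≫ g₀)] [QuasiCompact g₀] [QuasiSeparated g₀]
    (hcl : Topology.IsConstructible (closure (Set.range ⇑f₀)))
    {X Y : Scheme.{u}} (f : X ⟶ Y) (g : Y ⟶ c.pt) (qY : Y ⟶ Y₀) (qX : X ⟶ X₀)
    (hY : IsPullback qY g g₀ (c.π.app i₀)) (hX : IsPullback qX f f₀ qY) :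
    IsDominant f ↔ ∃ (j : I) (φ : j ⟶ i₀) (Xj Yj : Scheme.{u}) (fj : Xj ⟶ Yj) (gj : Yj ⟶ D.obj j)
      (pY : Yj ⟶ Y₀) (pX : Xj ⟶ X₀), IsPullback pY gj g₀ (D.map φ) ∧ IsPullback pX fj f₀ pY ∧
      IsDominant fj := by
  have hA : ∀ {i j : I} (f : i ⟶ j), IsAffineHom (D.map f) := fun f => inferInstance
  haveI : QuasiCompact f₀ := QuasiCompact.of_comp f₀ g₀
  have hπ : Flat (c.π.app i₀) := flat_π_app D c hc (fun φ => hfl _ _ φ) i₀
  haveI : Flat qY := MorphismProperty.of_isPullback hY.flip hπ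
  set C₀ := closure (Set.range ⇑f₀) with hC₀
  have hE : ProCons.IsIndConstructible ((g₀ '' C₀ᶜ)ᶜ) := by
    apply isIndConstructible_compl
    apply isProConstructible_image_of_quasiCompact g₀
    exact isProConstructible_of_isLocallyConstructible hcl.compl.isLocallyConstructible
  rw [isDominant_iff_of_isPullback hX, forall_mem_iff_of_isPullback hY]
  constructor
  · intro h
    obtain ⟨j, φ, hj⟩ := exists_stage_preimage_univ D c hc i₀ _ hE h
    have := hfl _ _ φ
    refine ⟨j, φ, pullback f₀ (pullback.fst g₀ (D.map φ)), pullback g₀ (D.map φ),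
      pullback.snd _ _, pullback.snd _ _, pullback.fst _ _, pullback.fst _ _,
      IsPullback.of_hasPullback _ _, IsPullback.of_hasPullback _ _, ?_⟩
    haveI : Flat (pullback.fst g₀ (D.map φ)) := inferInstance
    rw [isDominant_iff_of_isPullback (IsPullback.of_hasPullback f₀ (pullback.fst g₀ (D.map φ))),
      forall_mem_iff_of_isPullback (IsPullback.of_hasPullback g₀ (D.map φ))]
    exact hj
  · rintro ⟨j, φ, Xj, Yj, fj, gj, pY, pX, hYj, hXj, hdom⟩
    have := hfl _ _ φ
    haveI : Flat pY := MorphismProperty.of_isPullback hYj.flip inferInstance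
    rw [isDominant_iff_of_isPullback hXj, forall_mem_iff_of_isPullback hYj] at hdom
    intro s
    have := hdom (c.π.app j s)
    rwa [← Scheme.Hom.comp_apply, c.w] at this

end Lim

end Groth.Agent.Lib.Helper12.H12FlatLim
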