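import Mathlib
import Groth.Agent.Lib.Helper12.ModLim6

set_option autoImplicit false
universe u v w

open CategoryTheory CategoryTheory.Limits

namespace Groth.Agent.Lib.Helper12.H12FlatLim

section Abstract
variable {C : Type u} [Category.{v} C] [Abelian C]

theorem exact_comp_mono_iff {A B B' B'' : C} (a : A ⟶ B) (b : B ⟶ B') (m : B' ⟶ B'') [Mono m]
    (w : a ≫ b = 0) :
    (ShortComplex.mk a (b ≫ m) (by rw [← Category.assoc, w, zero_comp])).Exact ↔
      (ShortComplex.mk a b w).Exact := by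
  rw [ShortComplex.exact_iff_exact_up_to_refinements, ShortComplex.exact_iff_exact_up_to_refinements]
  constructor
  · intro h T x hx
    exact h x (by dsimp at hx ⊢; rw [← Category.assoc, hx, zero_comp])
  · intro h T x hx
    refine h x ?_
    dsimp at hx ⊢
    rw [← Category.assoc] at hx
    exact (cancel_mono m).mp (hx.trans zero_comp.symm)

/-- Lemma MID. -/
theorem exact_of_exact_of_exact {A B B' K Q : C} (a : A ⟶ B) (b : B ⟶ B') (k : K ⟶ B) (q : B ⟶ Q)
    (wkb : k ≫ b = 0) (hkb : (ShortComplex.mk k b wkb).Exact)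
    (waq : a ≫ q = 0) (haq : (ShortComplex.mk a q waq).Exact)
    (wab : a ≫ b = 0) (wkq : k ≫ q = 0) : (ShortComplex.mk a b wab).Exact := by
  rw [ShortComplex.exact_iff_exact_up_to_refinements] at hkb haq ⊢
  intro T x hx
  dsimp at hx
  obtain ⟨T', π, hπ, y, hy⟩ := hkb x hx
  dsimp at hy
  have h2 : (π ≫ x) ≫ q = 0 := by
    rw [hy, Category.assoc, wkq, comp_zero]
  obtain ⟨T'', π', hπ', z, hz⟩ := haq (π ≫ x) h2
  dsimp at hz
  haveI := hπ
  haveI := hπ'
  exact ⟨T'', π' ≫ π, inferInstance, z, by dsimp; rw [Category.assoc, hz]⟩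

end Abstract

end Groth.Agent.Lib.Helper12.H12FlatLim
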