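import Mathlib
import Groth.Agent.Lib.Helper12.FlatMod1
import Groth.Agent.Lib.Helper12.FlatMod2

set_option autoImplicit false
universe u v w

open CategoryTheory CategoryTheory.Limits AlgebraicGeometry TopologicalSpace Opposite TensorProduct
open Groth.Agent.Lib.Helper29.QCoh

namespace Groth.Agent.Lib.Helper12.H12FlatLim

open Groth.Agent.Lib.Helper12.H12ModLim

section FlatExact
variable {X Y : Scheme.{u}} (f : X ⟶ Y) [Flat f]

/-- Flat pullback preserves kernels of morphisms of quasi-coherent modules (exactness form). -/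
theorem exact_pullback_kernel {M N : Y.Modules} [M.IsQuasicoherent] [N.IsQuasicoherent]
    (a : M ⟶ N) :
    (ShortComplex.mk ((Scheme.Modules.pullback f).map (kernel.ι a))
      ((Scheme.Modules.pullback f).map a)
      (by rw [← Functor.map_comp, kernel.condition, Functor.map_zero])).Exact := by
  have hfac : Abelian.factorThruImage a ≫ Abelian.image.ι a = a := Abelian.image.fac a
  have w1 : kernel.ι a ≫ Abelian.factorThruImage a = 0 := by
    apply (cancel_mono (Abelian.image.ι a)).mp
    rw [Category.assoc, hfac, kernel.condition, zero_comp]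
  have hex1 : (ShortComplex.mk (kernel.ι a) (Abelian.factorThruImage a) w1).Exact := by
    have := (exact_comp_mono_iff (kernel.ι a) (Abelian.factorThruImage a) (Abelian.image.ι a) w1).mp
    apply this
    have h0 := ShortComplex.exact_kernel a
    convert h0 using 2
  have hRE : RightExact (kernel.ι a) (Abelian.factorThruImage a) := ⟨w1, hex1, inferInstance⟩
  obtain ⟨w2, hex2, -⟩ := hRE.map (Scheme.Modules.pullback f)
  haveI : Mono ((Scheme.Modules.pullback f).map (Abelian.image.ι a)) :=
    mono_pullback_map_of_flat f (Abelian.image.ι a)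
  have := (exact_comp_mono_iff _ _ ((Scheme.Modules.pullback f).map (Abelian.image.ι a)) w2).mpr hex2
  convert this using 2
  rw [← Functor.map_comp, hfac]

theorem mono_pullback_map_iff_of_flat {M N : Y.Modules} [M.IsQuasicoherent] [N.IsQuasicoherent]
    (a : M ⟶ N) :
    Mono ((Scheme.Modules.pullback f).map a) ↔
      (Scheme.Modules.pullback f).map (kernel.ι a) = 0 := by
  constructor
  · intro h
    apply (cancel_mono ((Scheme.Modules.pullback f).map a)).mp
    rw [← Functor.map_comp, kernel.condition, Functor.map_zero, zero_comp]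
  · intro h
    exact (ShortComplex.exact_iff_mono _ h).mp (exact_pullback_kernel f a)

end FlatExact

section Lim
variable {I : Type u} [SmallCategory I] [IsCofiltered I]
    (D : I ⥤ Scheme.{u}) (c : Limits.Cone D) (hc : Limits.IsLimit c)
    [∀ (i j : I) (a : i ⟶ j), IsAffineHom (D.map a)]

include hc in
/-- **S4794** -/
theorem mono_pullback_iff_stage (i₀ : I) [CompactSpace (D.obj i₀)]
    (hfl : ∀ (i j : I) (φ : i ⟶ j), Flat (D.map φ))
    {F₀ G₀ : (D.obj i₀).Modules} [F₀.IsQuasicoherent] [G₀.IsQuasicoherent] (f₀ : F₀ ⟶ G₀)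
    [(kernel f₀).IsFiniteType] :
    Mono ((Scheme.Modules.pullback (c.π.app i₀)).map f₀) ↔
      ∃ (j : I) (φ : j ⟶ i₀), Mono ((Scheme.Modules.pullback (D.map φ)).map f₀) := by
  have hA : ∀ {i j : I} (f : i ⟶ j), IsAffineHom (D.map f) := fun f => inferInstance
  haveI hπ : Flat (c.π.app i₀) := flat_π_app D c hc (fun φ => hfl _ _ φ) i₀
  have key := pullback_map_eq_iff_stage D c hc i₀ (kernel.ι f₀) 0
  simp only [Functor.map_zero] at key
  rw [mono_pullback_map_iff_of_flat (X := c.pt) (c.π.app i₀) f₀, key]
  refine exists_congr fun j => exists_congr fun φ => ?_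
  have := hfl _ _ φ
  exact (mono_pullback_map_iff_of_flat (D.map φ) f₀).symm

end Lim

end Groth.Agent.Lib.Helper12.H12FlatLim
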