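import Mathlib
import Groth.Agent.Lib.Helper12.FlatMod3

set_option autoImplicit false
universe u v w

open CategoryTheory CategoryTheory.Limits AlgebraicGeometry TopologicalSpace Opposite TensorProduct
open Groth.Agent.Lib.Helper29.QCoh

namespace Groth.Agent.Lib.Helper12.H12FlatLim

open Groth.Agent.Lib.Helper12.H12ModLim

section Local
variable {X Y : Scheme.{u}} (f : X ⟶ Y)

instance preservesEpimorphisms_pullback : (Scheme.Modules.pullback f).PreservesEpimorphisms :=
  Functor.preservesEpimorphisms_of_adjunction (Scheme.Modules.pullbackPushforwardAdjunction f)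

variable {F G H : Y.Modules} (f₀ : F ⟶ G) (g₀ : G ⟶ H)

/-- Exactness of a pulled back sequence implies vanishing of the two comparison maps. -/
theorem pullback_eq_zero_of_exact
    (w : (Scheme.Modules.pullback f).map f₀ ≫ (Scheme.Modules.pullback f).map g₀ = 0)
    (hex : (ShortComplex.mk _ _ w).Exact) :
    (Scheme.Modules.pullback f).map (Limits.image.ι f₀ ≫ g₀) = 0 ∧
      (Scheme.Modules.pullback f).map (kernel.ι g₀ ≫ cokernel.π f₀) = 0 := by
  constructor
  · apply (cancel_epi ((Scheme.Modules.pullback f).map (factorThruImage f₀))).mp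
    rw [← Functor.map_comp, ← Category.assoc, Limits.image.fac, Functor.map_comp, w, comp_zero]
  · rw [ShortComplex.exact_iff_exact_up_to_refinements] at hex
    have h1 : (Scheme.Modules.pullback f).map (kernel.ι g₀) ≫ (Scheme.Modules.pullback f).map g₀ = 0 := by
      rw [← Functor.map_comp, kernel.condition, Functor.map_zero]
    obtain ⟨T, π, hπ, x, hx⟩ := hex _ h1
    dsimp at hx
    haveI := hπ
    apply (cancel_epi π).mp
    rw [Functor.map_comp, ← Category.assoc, hx, Category.assoc, ← Functor.map_comp,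
      cokernel.condition, Functor.map_zero, comp_zero, comp_zero]

variable [Flat f] [G.IsQuasicoherent] [H.IsQuasicoherent]

theorem exact_of_pullback_eq_zero
    (h1 : (Scheme.Modules.pullback f).map (Limits.image.ι f₀ ≫ g₀) = 0)
    (h2 : (Scheme.Modules.pullback f).map (kernel.ι g₀ ≫ cokernel.π f₀) = 0) :
    ∃ w : (Scheme.Modules.pullback f).map f₀ ≫ (Scheme.Modules.pullback f).map g₀ = 0,
      (ShortComplex.mk _ _ w).Exact := by
  have w : (Scheme.Modules.pullback f).map f₀ ≫ (Scheme.Modules.pullback f).map g₀ = 0 := by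
    rw [← Functor.map_comp, ← Limits.image.fac f₀, Category.assoc, Functor.map_comp, h1, comp_zero]
  refine ⟨w, ?_⟩
  obtain ⟨waq, haq, -⟩ := (rightExact_cokernel f₀).map (Scheme.Modules.pullback f)
  refine exact_of_exact_of_exact _ _ ((Scheme.Modules.pullback f).map (kernel.ι g₀))
    ((Scheme.Modules.pullback f).map (cokernel.π f₀)) _ (exact_pullback_kernel f g₀) waq haq w ?_
  rw [← Functor.map_comp, h2]

theorem exact_pullback_iff :
    (∃ w : (Scheme.Modules.pullback f).map f₀ ≫ (Scheme.Modules.pullback f).map g₀ = 0,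
      (ShortComplex.mk _ _ w).Exact) ↔
    (Scheme.Modules.pullback f).map (Limits.image.ι f₀ ≫ g₀) = 0 ∧
      (Scheme.Modules.pullback f).map (kernel.ι g₀ ≫ cokernel.π f₀) = 0 :=
  ⟨fun ⟨w, hex⟩ => pullback_eq_zero_of_exact f f₀ g₀ w hex,
    fun ⟨h1, h2⟩ => exact_of_pullback_eq_zero f f₀ g₀ h1 h2⟩

end Local

section Lim
variable {I : Type u} [SmallCategory I] [IsCofiltered I]
    (D : I ⥤ Scheme.{u}) (c : Limits.Cone D) (hc : Limits.IsLimit c)
    [∀ (i j : I) (a : i ⟶ j), IsAffineHom (D.map a)]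

theorem pullback_map_eq_zero_of_comp {X Y Z : Scheme.{u}} (f : X ⟶ Y) (g : Y ⟶ Z) (h : X ⟶ Z)
    (w : f ≫ g = h) {M N : Z.Modules} (a : M ⟶ N)
    (h0 : (Scheme.Modules.pullback g).map a = 0) : (Scheme.Modules.pullback h).map a = 0 := by
  apply (pullback_map_comp_eq_zero_iff f g h w a).mp
  rw [h0, Functor.map_zero]

include hc in
/-- **S4840** -/
theorem exact_pullback_iff_stage (i₀ : I) [CompactSpace (D.obj i₀)]
    (hfl : ∀ (i j : I) (φ : i ⟶ j), Flat (D.map φ))
    {F₀ G₀ H₀ : (D.obj i₀).Modules} [F₀.IsQuasicoherent] [G₀.IsQuasicoherent]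
    [H₀.IsQuasicoherent] (f₀ : F₀ ⟶ G₀) (g₀ : G₀ ⟶ H₀)
    [(Limits.image f₀).IsFiniteType] [(kernel g₀).IsFiniteType] :
    (∃ w : (Scheme.Modules.pullback (c.π.app i₀)).map f₀ ≫
        (Scheme.Modules.pullback (c.π.app i₀)).map g₀ = 0, (ShortComplex.mk _ _ w).Exact) ↔
      ∃ (j : I) (φ : j ⟶ i₀) (w : (Scheme.Modules.pullback (D.map φ)).map f₀ ≫
        (Scheme.Modules.pullback (D.map φ)).map g₀ = 0), (ShortComplex.mk _ _ w).Exact := by
  have hA : ∀ {i j : I} (f : i ⟶ j), IsAffineHom (D.map f) := fun f => inferInstance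
  haveI hπ : Flat (c.π.app i₀) := flat_π_app D c hc (fun φ => hfl _ _ φ) i₀
  haveI : (Limits.image f₀).IsQuasicoherent := isQuasicoherent_of_iso (Abelian.imageIsoImage f₀)
  have key1 := pullback_map_eq_iff_stage D c hc i₀ (Limits.image.ι f₀ ≫ g₀) 0
  have key2 := pullback_map_eq_iff_stage D c hc i₀ (kernel.ι g₀ ≫ cokernel.π f₀) 0
  simp only [Functor.map_zero] at key1 key2
  rw [exact_pullback_iff (X := c.pt) (c.π.app i₀) f₀ g₀]
  constructor
  · rintro ⟨h1, h2⟩
    obtain ⟨j₁, φ₁, e1⟩ := key1.mp h1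
    obtain ⟨j₂, φ₂, e2⟩ := key2.mp h2
    let k := IsCofiltered.min (Over.mk φ₁) (Over.mk φ₂)
    let a : k ⟶ Over.mk φ₁ := IsCofiltered.minToLeft _ _
    let b : k ⟶ Over.mk φ₂ := IsCofiltered.minToRight _ _
    have := hfl _ _ k.hom
    refine ⟨k.left, k.hom, ?_⟩
    apply (exact_pullback_iff (D.map k.hom) f₀ g₀).mpr
    constructor
    · refine pullback_map_eq_zero_of_comp (D.map a.left) (D.map φ₁) (D.map k.hom) ?_ _ e1
      rw [← D.map_comp]; congr 1; exact Over.w a
    · refine pullback_map_eq_zero_of_comp (D.map b.left) (D.map φ₂) (D.map k.hom) ?_ _ e2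
      rw [← D.map_comp]; congr 1; exact Over.w b
  · rintro ⟨j, φ, w, hex⟩
    obtain ⟨e1, e2⟩ := pullback_eq_zero_of_exact (D.map φ) f₀ g₀ w hex
    exact ⟨key1.mpr ⟨j, φ, e1⟩, key2.mpr ⟨j, φ, e2⟩⟩

end Lim

end Groth.Agent.Lib.Helper12.H12FlatLim
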