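import Mathlib
import Groth.Agent.S1460

set_option autoImplicit false
universe u

namespace Groth.Agent.Lib.Helper12.H12FlexApprox

open AlgebraicGeometry CategoryTheory Limits TopologicalSpace Topology PrimeSpectrum

section Ring

variable {A₀ A : Type*} [CommRing A₀] [CommRing A] [Algebra A₀ A]

theorem basic_piece (c : BasicConstructibleSetData A₀)
    (hc : (c.map (algebraMap A₀ A)).toSet = ∅) :
    ∃ T : Finset A, ∀ A₁ : Subalgebra A₀ A, (T : Set A) ⊆ A₁ →
      (c.map (algebraMap A₀ A₁)).toSet = ∅ := by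
  classical
  have h1 : algebraMap A₀ A c.f ∈
      (Ideal.span (Set.range (algebraMap A₀ A ∘ c.g))).radical := by
    simp only [BasicConstructibleSetData.toSet, BasicConstructibleSetData.map,
      Set.sdiff_eq_empty] at hc
    rw [← zeroLocus_span, ← zeroLocus_span {_}, zeroLocus_subset_zeroLocus_iff, Ideal.span_le,
      Set.singleton_subset_iff] at hc
    exact hc
  obtain ⟨m, hm⟩ := h1
  rw [Ideal.mem_span_range_iff_exists_fun] at hm
  obtain ⟨a, ha⟩ := hm
  refine ⟨Finset.univ.image a, fun A₁ hT => ?_⟩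
  have ha₁ : ∀ i, a i ∈ A₁ := fun i => hT (by simp)
  have heq : ∑ i, (⟨a i, ha₁ i⟩ : A₁) * algebraMap A₀ A₁ (c.g i) =
      (algebraMap A₀ A₁ c.f) ^ m := by
    apply Subtype.ext
    have h2 : ((algebraMap A₀ A₁ c.f ^ m : A₁) : A) = (algebraMap A₀ A c.f) ^ m := by
      push_cast
      rfl
    rw [h2, ← ha]
    simp only [AddSubmonoidClass.coe_finsetSum, MulMemClass.coe_mul, Function.comp_apply]
    rfl
  simp only [BasicConstructibleSetData.toSet, BasicConstructibleSetData.map, Set.sdiff_eq_empty]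
  rw [← zeroLocus_span, ← zeroLocus_span {_}, zeroLocus_subset_zeroLocus_iff, Ideal.span_le,
    Set.singleton_subset_iff]
  refine ⟨m, ?_⟩
  rw [← heq]
  exact Ideal.sum_mem _ fun i _ => Ideal.mul_mem_left _ _ (Ideal.subset_span ⟨i, rfl⟩)

theorem exists_finset (C : ConstructibleSetData A₀)
    (hC : (C.map (algebraMap A₀ A)).toSet = ∅) :
    ∃ T : Finset A, ∀ A₁ : Subalgebra A₀ A, (T : Set A) ⊆ A₁ →
      (C.map (algebraMap A₀ A₁)).toSet = ∅ := by
  classical
  have hpiece : ∀ c : {c // c ∈ C}, ∃ T : Finset A, ∀ A₁ : Subalgebra A₀ A, (T : Set A) ⊆ A₁ →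
      (c.1.map (algebraMap A₀ A₁)).toSet = ∅ := by
    intro c
    apply basic_piece
    rw [BasicConstructibleSetData.toSet_map]
    rw [ConstructibleSetData.toSet_map] at hC
    rw [Set.eq_empty_iff_forall_notMem] at hC ⊢
    intro x hx
    apply hC x
    simp only [Set.mem_preimage, ConstructibleSetData.toSet, Set.mem_iUnion]
    exact ⟨c.1, c.2, hx⟩
  choose T hT using hpiece
  refine ⟨Finset.univ.biUnion T, fun A₁ hA₁ => ?_⟩
  rw [ConstructibleSetData.toSet_map, Set.eq_empty_iff_forall_notMem]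
  intro x hx
  simp only [Set.mem_preimage, ConstructibleSetData.toSet, Set.mem_iUnion] at hx
  obtain ⟨c, hc, hx⟩ := hx
  have h1 := hT ⟨c, hc⟩ A₁ (fun t ht => hA₁ (by
    simp only [Finset.coe_biUnion, Finset.coe_univ, Set.mem_univ, Set.iUnion_true, Set.mem_iUnion]
    exact ⟨⟨c, hc⟩, ht⟩))
  rw [BasicConstructibleSetData.toSet_map, Set.eq_empty_iff_forall_notMem] at h1
  exact h1 x hx

end Ring

section Sch

/-- **Flexible approximation of the base**: a morphism of affine schemes `g : S ⟶ S₀` with `S₀` of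
finite type over `ℤ` that misses a constructible set `C₀` factors through an affine scheme `S₁` of
finite type over `ℤ` whose map to `S₀` still misses `C₀`. -/
theorem exists_factor {S S₀ : Scheme.{u}} [IsAffine S] [IsAffine S₀] (g : S ⟶ S₀)
    (hft : Algebra.FiniteType ℤ Γ(S₀, ⊤)) (C₀ : Set S₀) (hC₀ : IsConstructible C₀)
    (hg : g ⁻¹' C₀ = ∅) :
    ∃ (S₁ : Scheme.{u}) (g₁ : S ⟶ S₁) (h : S₁ ⟶ S₀), IsAffine S₁ ∧ g₁ ≫ h = g ∧
      Algebra.FiniteType ℤ Γ(S₁, ⊤) ∧ h ⁻¹' C₀ = ∅ := by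
  algebraize [g.appTop.hom]
  have hC₀' : IsConstructible (S₀.isoSpec.inv ⁻¹' C₀) :=
    S₀.isoSpec.inv.isConstructible_preimage hC₀
  obtain ⟨C, hC⟩ := exists_constructibleSetData_iff.mpr hC₀'
  have hempty : (C.map (algebraMap Γ(S₀, ⊤) Γ(S, ⊤))).toSet = ∅ := by
    rw [ConstructibleSetData.toSet_map, hC, Set.eq_empty_iff_forall_notMem]
    intro x hx
    have h1 : S₀.isoSpec.inv ((Spec.map g.appTop) x) ∈ C₀ := hx
    rw [← Scheme.Hom.comp_apply, Scheme.isoSpec_inv_naturality, Scheme.Hom.comp_apply] at h1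
    have : S.isoSpec.inv x ∈ g ⁻¹' C₀ := h1
    rw [hg] at this
    exact this
  obtain ⟨T, hT⟩ := exists_finset C hempty
  let A₁ : Subalgebra Γ(S₀, ⊤) Γ(S, ⊤) := Algebra.adjoin _ (T : Set Γ(S, ⊤))
  have hA₁ := hT A₁ Algebra.subset_adjoin
  have hft₁ : Algebra.FiniteType Γ(S₀, ⊤) A₁ := Algebra.FiniteType.adjoin_of_finite T.finite_toSet
  have hft₂ : Algebra.FiniteType ℤ A₁ := Algebra.FiniteType.trans hft hft₁
  let φ₁ : Γ(S₀, ⊤) ⟶ CommRingCat.of A₁ := CommRingCat.ofHom (algebraMap Γ(S₀, ⊤) A₁)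
  let ι : CommRingCat.of A₁ ⟶ Γ(S, ⊤) := CommRingCat.ofHom A₁.val.toRingHom
  have hφι : φ₁ ≫ ι = g.appTop := by
    ext x
    rfl
  refine ⟨Spec (CommRingCat.of A₁), S.isoSpec.hom ≫ Spec.map ι, Spec.map φ₁ ≫ S₀.isoSpec.inv,
    inferInstance, ?_, ?_, ?_⟩
  · rw [Category.assoc, ← Category.assoc (Spec.map ι), ← Spec.map_comp, hφι,
      Scheme.isoSpec_inv_naturality, Iso.hom_inv_id_assoc]
  · exact Algebra.FiniteType.equiv hft₂
      (Scheme.ΓSpecIso (CommRingCat.of A₁)).symm.commRingCatIsoToRingEquiv.toIntAlgEquiv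
  · rw [Set.eq_empty_iff_forall_notMem]
    intro x hx
    have h1 : (Spec.map φ₁) x ∈ S₀.isoSpec.inv ⁻¹' C₀ := by
      change S₀.isoSpec.inv ((Spec.map φ₁) x) ∈ C₀
      rw [← Scheme.Hom.comp_apply]
      exact hx
    rw [← hC] at h1
    have h2 : x ∈ (C.map (algebraMap Γ(S₀, ⊤) A₁)).toSet := by
      rw [ConstructibleSetData.toSet_map]
      exact h1
    rw [hA₁] at h2
    exact h2

/-- **Flexible Noetherian approximation**: a finitely presented morphism of affine schemes all of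
whose points lie in a locus `E f` which is compatible with base change and constructible over
bases of finite type over `ℤ` is the base change of a morphism with the same property over such
a base. -/
theorem approx {X S : Scheme.{u}} (f : X ⟶ S) [IsAffine X] [IsAffine S]
    [LocallyOfFinitePresentation f]
    (E : ∀ {X S : Scheme.{u}} (_ : X ⟶ S), Set S)
    (hbc : ∀ {X' S' X S : Scheme.{u}} (f' : X' ⟶ S') (f : X ⟶ S) (g' : X' ⟶ X) (g : S' ⟶ S),
      IsPullback g' f' f g → LocallyOfFiniteType f → E f' = g ⁻¹' E f)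
    (hcons : ∀ {X₀ S₀ : Scheme.{u}} (f₀ : X₀ ⟶ S₀), IsAffine X₀ → IsAffine S₀ →
      Algebra.FiniteType ℤ Γ(S₀, ⊤) → LocallyOfFiniteType f₀ → IsConstructible (E f₀))
    (hE : E f = Set.univ) :
    ∃ (X₀ S₀ : Scheme.{u}) (f₀ : X₀ ⟶ S₀) (g : S ⟶ S₀) (g' : X ⟶ X₀), IsAffine X₀ ∧ IsAffine S₀ ∧
      IsPullback g' f f₀ g ∧ Algebra.FiniteType ℤ Γ(S₀, ⊤) ∧ LocallyOfFiniteType f₀ ∧
      E f₀ = Set.univ := by
  obtain ⟨X₀, S₀, f₀, g, g', hX₀, hS₀, hpb, hft, hlft⟩ := Groth.Agent.S1460.result f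
  have hC₀ : IsConstructible (E f₀)ᶜ := (hcons f₀ hX₀ hS₀ hft hlft).compl
  have hg : g ⁻¹' (E f₀)ᶜ = ∅ := by
    rw [Set.preimage_compl, ← hbc f f₀ g' g hpb hlft, hE, Set.compl_univ]
  obtain ⟨S₁, g₁, h, hS₁, hfac, hft₁, hempty⟩ := exists_factor g hft _ hC₀ hg
  let f₁ : pullback f₀ h ⟶ S₁ := pullback.snd f₀ h
  let g₁' : X ⟶ pullback f₀ h := pullback.lift g' (f ≫ g₁) (by
    rw [Category.assoc, hfac, hpb.w])
  have hright : IsPullback (pullback.fst f₀ h) f₁ f₀ h := IsPullback.of_hasPullback f₀ h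
  have hleft : IsPullback g₁' f f₁ g₁ := by
    refine IsPullback.of_right ?_ (pullback.lift_snd _ _ _) hright
    rw [pullback.lift_fst, hfac]
    exact hpb
  have hlft₁ : LocallyOfFiniteType f₁ := MorphismProperty.pullback_snd _ _ hlft
  refine ⟨pullback f₀ h, S₁, f₁, g₁, g₁', inferInstance, hS₁, hleft, hft₁, hlft₁, ?_⟩
  rw [hbc f₁ f₀ (pullback.fst f₀ h) h hright hlft, ← Set.compl_empty, ← hempty,
    Set.preimage_compl, compl_compl]

end Sch

end Groth.Agent.Lib.Helper12.H12FlexApprox
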