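import Mathlib
import Groth.Agent.Lib.Helper12.FibRedS
import Groth.Agent.Lib.Helper12.NearGeneric

/-!
# Geometric non-reducedness of the generic fibre spreads out
-/

set_option autoImplicit false
universe u

namespace Groth.Agent.Lib.Helper12.H12GeomRedGen

open TensorProduct AlgebraicGeometry CategoryTheory Limits Groth.Agent.Lib.Helper12.H12FibRed

/-- An element of a module over a domain `T` that dies in `L ⊗ M`, `L ⊇ T` a field, is torsion. -/
theorem exists_smul_eq_zero_of_one_tmul_eq_zero {T L M : Type*} [CommRing T] [IsDomain T]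
    [Field L] [Algebra T L] (hinj : Function.Injective (algebraMap T L))
    [AddCommGroup M] [Module T M] (c : M) (hc : (1 : L) ⊗ₜ[T] c = 0) :
    ∃ t : T, t ≠ 0 ∧ t • c = 0 := by
  let L₀ := FractionRing T
  letI : Algebra L₀ L := (IsFractionRing.lift hinj).toAlgebra
  haveI : IsScalarTower T L₀ L := IsScalarTower.of_algebraMap_eq (fun x => by
    rw [RingHom.algebraMap_toAlgebra, IsFractionRing.lift_algebraMap])
  obtain ⟨π, hπ⟩ := LinearMap.exists_leftInverse_of_injective (Algebra.linearMap L₀ L)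
    (by
      rw [LinearMap.ker_eq_bot]
      exact (algebraMap L₀ L).injective)
  have hπ1 : π 1 = 1 := by
    have := LinearMap.congr_fun hπ 1
    simpa using this
  have h1 : ((1 : L₀) ⊗ₜ[T] c : L₀ ⊗[T] M) = 0 := by
    have := congrArg ((π.restrictScalars T).rTensor M) hc
    simpa [hπ1] using this
  have h2 := (IsLocalizedModule.eq_zero_iff (nonZeroDivisors T)
    (TensorProduct.mk T L₀ M 1) (m := c)).mp h1
  obtain ⟨⟨t, ht⟩, hts⟩ := h2
  exact ⟨t, nonZeroDivisors.ne_zero ht, hts⟩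

/-- A nilpotent defined over a domain `T` which survives in `L ⊗ S` spreads to the fibres over a
nonempty open of `Spec T`. -/
theorem exists_forall_not_isReduced_fiber_of_field {T S L : Type u} [CommRing T] [IsDomain T]
    [CommRing S] [Algebra T S] [Algebra.FiniteType T S] [Field L] [Algebra T L]
    (hinj : Function.Injective (algebraMap T L)) (b : S)
    (hb0 : ((1 : L) ⊗ₜ[T] b : L ⊗[T] S) ≠ 0)
    (hbn : IsNilpotent ((1 : L) ⊗ₜ[T] b : L ⊗[T] S)) :
    ∃ g : T, g ≠ 0 ∧ ∀ (q : Ideal T) [q.IsPrime], g ∉ q → ¬ IsReduced (q.Fiber S) := by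
  obtain ⟨n, hn⟩ := hbn
  have hb : ∀ t : T, t ≠ 0 → t • b ≠ 0 := by
    intro t ht h0
    apply hb0
    have h1 : ((1 : L) ⊗ₜ[T] (t • b) : L ⊗[T] S) = 0 := by rw [h0, TensorProduct.tmul_zero]
    rw [TensorProduct.tmul_smul, ← algebraMap_smul L t ((1 : L) ⊗ₜ[T] b)] at h1
    have hu : algebraMap T L t ≠ 0 := fun h => ht (hinj (h.trans (map_zero _).symm))
    have h3 : ((1 : L) ⊗ₜ[T] b : L ⊗[T] S) =
        (algebraMap T L t)⁻¹ • ((algebraMap T L t) • ((1 : L) ⊗ₜ[T] b : L ⊗[T] S)) := by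
      rw [smul_smul, inv_mul_cancel₀ hu, one_smul]
    rw [h3, h1, smul_zero]
  have hbn' : ((1 : L) ⊗ₜ[T] (b ^ n) : L ⊗[T] S) = 0 := by
    rw [← hn, Algebra.TensorProduct.tmul_pow, one_pow]
  obtain ⟨t0, ht0, ht0b⟩ := exists_smul_eq_zero_of_one_tmul_eq_zero hinj (b ^ n) hbn'
  obtain ⟨g, hg, H⟩ := exists_forall_smul_notMem_map (R := T) (S := S) b hb
  refine ⟨g * t0, mul_ne_zero hg ht0, ?_⟩
  intro q hq hgq hredq
  have hgq' : g ∉ q := fun h => hgq (q.mul_mem_right t0 h)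
  have ht0q : t0 ∉ q := fun h => hgq (q.mul_mem_left g h)
  have h1 : ((1 : q.ResidueField) ⊗ₜ[T] (b ^ n) : q.Fiber S) = 0 := by
    rw [one_tmul_eq_zero_iff]
    exact ⟨t0, ht0q, by rw [ht0b]; exact Ideal.zero_mem _⟩
  have h2 : ((1 : q.ResidueField) ⊗ₜ[T] b : q.Fiber S) ≠ 0 := by
    intro h0
    obtain ⟨r, hr, hmem⟩ := (one_tmul_eq_zero_iff q b).mp h0
    exact H q hq hgq' r hr hmem
  apply h2
  have hnil : IsNilpotent ((1 : q.ResidueField) ⊗ₜ[T] b : q.Fiber S) := by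
    refine ⟨n, ?_⟩
    rw [Algebra.TensorProduct.tmul_pow, one_pow]
    exact h1
  exact hnil.eq_zero

/-- If `B ⊗[R] L` is not reduced for a field `L`, then there is a finitely generated `R`-subalgebra
`T` of `L` and a nonzero `g ∈ T` such that `B ⊗[R] κ(q)` is not reduced for all primes `q` of `T`
not containing `g`. -/
theorem exists_subalgebra_forall_not_isReduced {R B L : Type u} [CommRing R] [CommRing B]
    [Algebra R B] [Algebra.FiniteType R B] [Field L] [Algebra R L]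
    (h : ¬ IsReduced (B ⊗[R] L)) :
    ∃ (T : Subalgebra R L), T.FG ∧ ∃ g : T, g ≠ 0 ∧
      ∀ (q : Ideal T) [q.IsPrime], g ∉ q → ¬ IsReduced (B ⊗[R] q.ResidueField) := by
  classical
  obtain ⟨z, hznil, hz0⟩ : ∃ z : B ⊗[R] L, IsNilpotent z ∧ z ≠ 0 := by
    by_contra hcon
    push Not at hcon
    exact h ⟨fun x hx => hcon x hx⟩
  obtain ⟨F, hF⟩ := TensorProduct.exists_finset z
  let s : Finset L := F.image Prod.snd
  let T : Subalgebra R L := Algebra.adjoin R (s : Set L)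
  have hmem : ∀ i ∈ F, i.2 ∈ T := fun i hi =>
    Algebra.subset_adjoin (Finset.mem_coe.mpr (Finset.mem_image_of_mem Prod.snd hi))
  let b' : T ⊗[R] B := ∑ i ∈ F.attach, (⟨i.1.2, hmem i.1 i.2⟩ : T) ⊗ₜ[R] i.1.1
  let Ξ : L ⊗[T] (T ⊗[R] B) ≃ₐ[R] B ⊗[R] L :=
    ((Algebra.TensorProduct.cancelBaseChange R T L L B).restrictScalars R).trans
      (Algebra.TensorProduct.comm R L B)
  have hΞ : Ξ ((1 : L) ⊗ₜ[T] b') = z := by
    rw [hF]
    simp only [b', TensorProduct.tmul_sum, map_sum, Ξ]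
    rw [← Finset.sum_attach F (fun i => i.1 ⊗ₜ[R] i.2)]
    refine Finset.sum_congr rfl (fun i _ => ?_)
    simp [Algebra.smul_def]
  have hinj : Function.Injective (algebraMap T L) := Subtype.val_injective
  have hb0 : ((1 : L) ⊗ₜ[T] b' : L ⊗[T] (T ⊗[R] B)) ≠ 0 := by
    intro h0
    apply hz0
    rw [← hΞ, h0, map_zero]
  have hbn : IsNilpotent ((1 : L) ⊗ₜ[T] b' : L ⊗[T] (T ⊗[R] B)) := by
    obtain ⟨n, hn⟩ := hznil
    refine ⟨n, ?_⟩
    apply Ξ.injective
    rw [map_pow, hΞ, hn, map_zero]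
  obtain ⟨g, hg, H⟩ := exists_forall_not_isReduced_fiber_of_field hinj b' hb0 hbn
  refine ⟨T, Subalgebra.fg_adjoin_finset s, g, hg, ?_⟩
  intro q hq hgq hred
  apply H q hgq
  let Ψ : q.ResidueField ⊗[T] (T ⊗[R] B) ≃ₐ[R] B ⊗[R] q.ResidueField :=
    ((Algebra.TensorProduct.cancelBaseChange R T q.ResidueField q.ResidueField B).restrictScalars
      R).trans (Algebra.TensorProduct.comm R q.ResidueField B)
  exact isReduced_of_injective Ψ.toRingHom Ψ.injective

section scheme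

variable {X Y : Scheme.{u}} (f : X ⟶ Y)

theorem exists_of_not_geometricallyReduced_fiber (y : Y)
    (h : ¬ GeometricallyReduced (f.fiberToSpecResidueField y)) :
    ∃ (K : Type u) (_ : Field K) (ψ : Spec (.of K) ⟶ Y), (∀ t, ψ t = y) ∧
      ¬ IsReduced (pullback f ψ) := by
  rw [geometricallyReduced_iff, geometrically_iff_of_isClosedUnderIsomorphisms] at h
  push Not at h
  obtain ⟨K, _, y₁, hy₁⟩ := h
  refine ⟨K, inferInstance, y₁ ≫ Y.fromSpecResidueField y, fun t => by simp, ?_⟩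
  intro hred
  apply hy₁
  exact isReduced_of_isOpenImmersion
    (pullbackLeftPullbackSndIso f (Y.fromSpecResidueField y) y₁).hom

theorem not_geometricallyReduced_fiber_of_exists (y : Y) (K : Type u) [Field K]
    (ψ : Spec (.of K) ⟶ Y) (t : Spec (.of K)) (ht : ψ t = y) (h : ¬ IsReduced (pullback f ψ)) :
    ¬ GeometricallyReduced (f.fiberToSpecResidueField y) := by
  intro hg
  apply h
  obtain ⟨⟨y', φ⟩, rfl⟩ := (Scheme.SpecToEquivOfField K Y).symm.surjective ψ
  have hy' : y' = y := by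
    rw [← ht]
    simp [Scheme.SpecToEquivOfField]
  subst hy'
  have hred : IsReduced (pullback (f.fiberToSpecResidueField y') (Spec.map φ)) :=
    pullback_of_geometrically hg.geometrically_isReduced K (Spec.map φ)
  haveI : IsReduced (pullback (pullback.snd f (Y.fromSpecResidueField y')) (Spec.map φ)) := hred
  exact isReduced_of_isOpenImmersion
    (pullbackLeftPullbackSndIso f (Y.fromSpecResidueField y') (Spec.map φ)).inv

/-- the affine piece of a pullback along a morphism into an affine open, as an open immersion. -/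
noncomputable def pieceMap' {V : Y.Opens} (hV : IsAffineOpen V)
    {U : X.Opens} (hU : IsAffineOpen U) (hUV : U ≤ f ⁻¹ᵁ V) {Z : Scheme.{u}}
    (ψ₀ : Z ⟶ Spec Γ(Y, V)) :
    pullback (Spec.map (f.appLE V U hUV)) ψ₀ ⟶ pullback f (ψ₀ ≫ hV.fromSpec) :=
  pullback.map (Spec.map (f.appLE V U hUV)) ψ₀ f (ψ₀ ≫ hV.fromSpec) hU.fromSpec (𝟙 Z) hV.fromSpec
    (IsAffineOpen.SpecMap_appLE_fromSpec f hV hU hUV) (by simp)

instance {V : Y.Opens} (hV : IsAffineOpen V)
    {U : X.Opens} (hU : IsAffineOpen U) (hUV : U ≤ f ⁻¹ᵁ V) {Z : Scheme.{u}}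
    (ψ₀ : Z ⟶ Spec Γ(Y, V)) : IsOpenImmersion (pieceMap' f hV hU hUV ψ₀) := by
  unfold pieceMap'
  infer_instance

theorem not_isReduced_pullback_of_piece {V : Y.Opens} (hV : IsAffineOpen V)
    {U : X.Opens} (hU : IsAffineOpen U) (hUV : U ≤ f ⁻¹ᵁ V) {Z : Scheme.{u}}
    (ψ₀ : Z ⟶ Spec Γ(Y, V))
    (h : ¬ IsReduced (pullback (Spec.map (f.appLE V U hUV)) ψ₀)) :
    ¬ IsReduced (pullback f (ψ₀ ≫ hV.fromSpec)) := by
  intro hred
  apply h
  exact isReduced_of_isOpenImmersion (pieceMap' f hV hU hUV ψ₀)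

theorem isReduced_pullback_of_pieces {V : Y.Opens} (hV : IsAffineOpen V) {Z : Scheme.{u}}
    (ψ₀ : Z ⟶ Spec Γ(Y, V))
    (H : ∀ (U : X.Opens) (_ : IsAffineOpen U) (hUV : U ≤ f ⁻¹ᵁ V),
      IsReduced (pullback (Spec.map (f.appLE V U hUV)) ψ₀)) :
    IsReduced (pullback f (ψ₀ ≫ hV.fromSpec)) := by
  suffices H : ∀ t : ↥(pullback f (ψ₀ ≫ hV.fromSpec)),
      ∃ (W : Scheme.{u}) (j : W ⟶ pullback f (ψ₀ ≫ hV.fromSpec)),
      IsOpenImmersion j ∧ IsReduced W ∧ t ∈ Set.range j by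
    choose W j hj hW ht using H
    let 𝒰 : (pullback f (ψ₀ ≫ hV.fromSpec)).OpenCover :=
      Scheme.Cover.mkOfCovers _ W j (fun t => ⟨t, ht t⟩) hj
    have : ∀ i, IsReduced (𝒰.X i) := hW
    exact IsReduced.of_openCover _ 𝒰
  intro t
  have hfx : f (pullback.fst f (ψ₀ ≫ hV.fromSpec) t) ∈ V := by
    have h1 : f (pullback.fst f (ψ₀ ≫ hV.fromSpec) t) =
        (ψ₀ ≫ hV.fromSpec) (pullback.snd f (ψ₀ ≫ hV.fromSpec) t) := by
      rw [← Scheme.Hom.comp_apply, ← Scheme.Hom.comp_apply, pullback.condition]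
    rw [h1, Scheme.Hom.comp_apply]
    have : hV.fromSpec (ψ₀ (pullback.snd f (ψ₀ ≫ hV.fromSpec) t)) ∈ Set.range hV.fromSpec :=
      ⟨_, rfl⟩
    rw [hV.range_fromSpec] at this
    exact this
  obtain ⟨_, ⟨U, hU0, rfl⟩, hxU, hUV⟩ :=
    X.isBasis_affineOpens.exists_subset_of_mem_open
      (show pullback.fst f (ψ₀ ≫ hV.fromSpec) t ∈ (f ⁻¹ᵁ V : Set X) from hfx)
      (f ⁻¹ᵁ V).isOpen
  have hUV' : U ≤ f ⁻¹ᵁ V := hUV
  have hU : IsAffineOpen U := hU0
  refine ⟨_, pieceMap' f hV hU hUV' ψ₀, inferInstance, H U hU hUV', ?_⟩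
  unfold pieceMap'
  rw [Scheme.Pullback.range_map]
  refine ⟨?_, ?_⟩
  · rw [Set.mem_preimage, hU.range_fromSpec]
    exact hxU
  · rw [Set.mem_preimage]
    exact ⟨_, rfl⟩

theorem isReduced_pullback_Spec_iff (R S K : Type u) [CommRing R] [CommRing S] [CommRing K]
    [Algebra R S] [Algebra R K] :
    IsReduced (pullback (Spec.map (CommRingCat.ofHom (algebraMap R S)))
      (Spec.map (CommRingCat.ofHom (algebraMap R K)))) ↔ _root_.IsReduced (S ⊗[R] K) := by
  have e : pullback (Spec.map (CommRingCat.ofHom (algebraMap R S)))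
      (Spec.map (CommRingCat.ofHom (algebraMap R K))) ≅ Spec (CommRingCat.of (S ⊗[R] K)) :=
    pullbackSpecIso R S K
  constructor
  · intro h
    have : IsReduced (Spec (CommRingCat.of (S ⊗[R] K))) := isReduced_of_isOpenImmersion e.inv
    exact (affine_isReduced_iff (CommRingCat.of (S ⊗[R] K))).mp this
  · intro h
    have : IsReduced (Spec (CommRingCat.of (S ⊗[R] K))) := inferInstance
    exact isReduced_of_isOpenImmersion e.hom

theorem main [IrreducibleSpace Y] [LocallyOfFiniteType f]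
    (h : ¬ GeometricallyReduced (f.fiberToSpecResidueField (genericPoint Y))) :
    ∃ V : Y.Opens, (V : Set Y).Nonempty ∧
      ∀ y ∈ V, ¬ GeometricallyReduced (f.fiberToSpecResidueField y) := by
  obtain ⟨L, _, ψ, hψ, hnr⟩ := exists_of_not_geometricallyReduced_fiber f _ h
  obtain ⟨_, ⟨V₀, hV₀', rfl⟩, hηV₀, -⟩ := Y.isBasis_affineOpens.exists_subset_of_mem_open
    (Set.mem_univ (genericPoint Y)) isOpen_univ
  have hV₀ : IsAffineOpen V₀ := hV₀'
  have hrange : Set.range ψ ⊆ Set.range hV₀.fromSpec := by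
    rintro _ ⟨t, rfl⟩
    rw [hψ t, hV₀.range_fromSpec]
    exact hηV₀
  let ψ₀ : Spec (.of L) ⟶ Spec Γ(Y, V₀) := IsOpenImmersion.lift hV₀.fromSpec ψ hrange
  have hψ₀ : ψ₀ ≫ hV₀.fromSpec = ψ := IsOpenImmersion.lift_fac _ _ _
  rw [← hψ₀] at hnr
  obtain ⟨U, hU, hUV, hpiece⟩ : ∃ (U : X.Opens) (_ : IsAffineOpen U) (hUV : U ≤ f ⁻¹ᵁ V₀),
      ¬ IsReduced (pullback (Spec.map (f.appLE V₀ U hUV)) ψ₀) := by
    by_contra hcon
    apply hnr
    apply isReduced_pullback_of_pieces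
    intro U hU hUV
    by_contra hn
    exact hcon ⟨U, hU, hUV, hn⟩
  obtain ⟨χ, hχ⟩ := Spec.map_surjective ψ₀
  letI := (f.appLE V₀ U hUV).hom.toAlgebra
  letI := χ.hom.toAlgebra
  haveI : Algebra.FiniteType Γ(Y, V₀) Γ(X, U) := f.finiteType_appLE hV₀ hU hUV
  have hpiece' : ¬ _root_.IsReduced (Γ(X, U) ⊗[Γ(Y, V₀)] L) := by
    rw [← isReduced_pullback_Spec_iff]
    rw [← hχ] at hpiece
    exact hpiece
  obtain ⟨T, hTfg, g, hg, H⟩ := exists_subalgebra_forall_not_isReduced hpiece'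
  -- the scheme `Spec T_g` over `Spec R`
  haveI : Algebra.FiniteType Γ(Y, V₀) T := (Subalgebra.fg_iff_finiteType T).mp hTfg
  haveI : Algebra.FiniteType Γ(Y, V₀) (Localization.Away g) :=
    Algebra.FiniteType.trans (inferInstance : Algebra.FiniteType Γ(Y, V₀) T)
      (IsLocalization.finiteType_of_monoid_fg (Submonoid.powers g) (Localization.Away g))
  let h' : Spec (CommRingCat.of (Localization.Away g)) ⟶ Spec Γ(Y, V₀) :=
    Spec.map (CommRingCat.ofHom (algebraMap Γ(Y, V₀) (Localization.Away g)))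
  haveI : LocallyOfFiniteType h' := by
    rw [HasRingHomProperty.Spec_iff (P := @LocallyOfFiniteType)]
    exact (RingHom.finiteType_algebraMap).mpr inferInstance
  haveI : IrreducibleSpace (Spec Γ(Y, V₀)) := by
    have h1 : IsPreirreducible (Set.univ : Set (Spec Γ(Y, V₀))) := by
      have h2 : IsPreirreducible (Set.univ : Set Y) :=
        (IrreducibleSpace.isIrreducible_univ Y).isPreirreducible
      have := h2.preimage hV₀.fromSpec.isOpenEmbedding
      simpa using this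
    haveI : PreirreducibleSpace (Spec Γ(Y, V₀)) := ⟨h1⟩
    haveI : Nonempty (Spec Γ(Y, V₀)) := ⟨ψ₀ (⊥ : PrimeSpectrum L)⟩
    exact ⟨inferInstance⟩
  have hgen : ∀ t, ψ₀ t = genericPoint (Spec Γ(Y, V₀)) := by
    intro t
    apply hV₀.fromSpec.isOpenEmbedding.injective
    rw [← Scheme.Hom.comp_apply, hψ₀, hψ t, genericPoint_eq_of_isOpenImmersion hV₀.fromSpec]
  have hgu : IsUnit (algebraMap T L g) := by
    rw [isUnit_iff_ne_zero]
    intro h0
    exact hg (Subtype.val_injective h0)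
  let lam : Localization.Away g →+* L := IsLocalization.Away.lift g hgu
  have hlam : lam.comp (algebraMap Γ(Y, V₀) (Localization.Away g)) = χ.hom := by
    ext r
    rw [RingHom.comp_apply, IsScalarTower.algebraMap_apply Γ(Y, V₀) T (Localization.Away g),
      IsLocalization.Away.lift_eq]
    rfl
  have hηrange : genericPoint (Spec Γ(Y, V₀)) ∈ Set.range h' := by
    refine ⟨Spec.map (CommRingCat.ofHom lam) (⊥ : PrimeSpectrum L), ?_⟩
    rw [← Scheme.Hom.comp_apply, ← Spec.map_comp, ← CommRingCat.ofHom_comp, hlam,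
      CommRingCat.ofHom_hom, hχ, hgen]
  obtain ⟨V', hηV', hV'⟩ :=
    Groth.Agent.Lib.Helper12.H12NearGeneric.exists_open_subset_range h' hηrange
  refine ⟨hV₀.fromSpec ''ᵁ V', ⟨hV₀.fromSpec (genericPoint _), ⟨_, hηV', rfl⟩⟩, ?_⟩
  rintro _ ⟨p, hpV', rfl⟩
  obtain ⟨q'', rfl⟩ := hV' hpV'
  let Q : PrimeSpectrum (Localization.Away g) := q''
  let q : Ideal T := Q.asIdeal.comap (algebraMap T (Localization.Away g))
  haveI hq : q.IsPrime := Ideal.comap_isPrime _ _
  have hgq : g ∉ q := by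
    intro hmem
    have h1 : algebraMap T (Localization.Away g) g ∈ Q.asIdeal := hmem
    exact Q.isPrime.ne_top (Ideal.eq_top_of_isUnit_mem _ h1
      (IsLocalization.Away.algebraMap_isUnit g))
  have hq_nr := H q hgq
  rw [← isReduced_pullback_Spec_iff] at hq_nr
  have hnr' := not_isReduced_pullback_of_piece f hV₀ hU hUV
    (Spec.map (CommRingCat.ofHom (algebraMap Γ(Y, V₀) q.ResidueField))) hq_nr
  refine not_geometricallyReduced_fiber_of_exists f _ q.ResidueField _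
    (⊥ : PrimeSpectrum q.ResidueField) ?_ hnr'
  rw [Scheme.Hom.comp_apply]
  congr 1
  apply PrimeSpectrum.ext
  ext x
  change algebraMap Γ(Y, V₀) q.ResidueField x ∈ (⊥ : Ideal q.ResidueField) ↔
    algebraMap Γ(Y, V₀) (Localization.Away g) x ∈ Q.asIdeal
  rw [Ideal.mem_bot, IsScalarTower.algebraMap_apply Γ(Y, V₀) T q.ResidueField,
    Ideal.algebraMap_residueField_eq_zero,
    IsScalarTower.algebraMap_apply Γ(Y, V₀) T (Localization.Away g)]
  rfl

end scheme

end Groth.Agent.Lib.Helper12.H12GeomRedGen
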