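import Mathlib
import Groth.Agent.Lib.Helper25.GFMod
import Groth.Agent.Lib.Helper25.GenFibreRed
import Groth.Agent.Lib27.SepGen
import Groth.Agent.Lib.Helper10.SmoothReduced

set_option autoImplicit false
universe u

namespace Groth.Agent.Lib.Helper12.H12GeomRedSpread

open TensorProduct

/-- In a reduced ring, an element outside all minimal primes is a nonzerodivisor. -/
theorem eq_zero_of_mul_eq_zero_of_forall_notMem_minimalPrimes {C : Type*} [CommRing C]
    [IsReduced C] (c : C) (hc : ∀ q ∈ minimalPrimes C, c ∉ q) (z : C) (hz : c * z = 0) : z = 0 := by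
  have h1 : z ∈ sInf (minimalPrimes C) := by
    rw [Ideal.mem_sInf]
    intro q hq
    have hqp : q.IsPrime := hq.1.1
    have : c * z ∈ q := by rw [hz]; exact q.zero_mem
    exact (hqp.mem_or_mem this).resolve_left (hc q hq)
  have h2 : sInf (minimalPrimes C) = (⊥ : Ideal C).radical := Ideal.sInf_minimalPrimes
  rw [h2] at h1
  have h3 : (⊥ : Ideal C).radical = ⊥ := by
    have := nilradical_eq_zero C
    exact this
  rw [h3] at h1
  exact h1

section SD

variable (A B : Type u) [CommRing A] [IsDomain A] [CommRing B] [Algebra A B]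

/-- elements of `A_g ⊗ B` are fractions with denominator a power of `g`. -/
theorem exists_pow_smul_eq_one_tmul (g : A) (x : Localization.Away g ⊗[A] B) :
    ∃ (n : ℕ) (m : B), (algebraMap A (Localization.Away g) (g ^ n)) • x = (1 : Localization.Away g) ⊗ₜ[A] m := by
  induction x using TensorProduct.induction_on with
  | zero => exact ⟨0, 0, by simp⟩
  | tmul r m =>
    obtain ⟨⟨a, ⟨_, n, rfl⟩⟩, rfl⟩ := IsLocalization.mk'_surjective (Submonoid.powers g) r
    refine ⟨n, a • m, ?_⟩
    rw [TensorProduct.smul_tmul', smul_eq_mul, ← TensorProduct.smul_tmul,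
      Algebra.smul_def a (1 : Localization.Away g), mul_one]
    congr 1
    rw [mul_comm]
    exact IsLocalization.mk'_spec _ _ _
  | add x y hx hy =>
    obtain ⟨n1, m1, h1⟩ := hx
    obtain ⟨n2, m2, h2⟩ := hy
    refine ⟨n1 + n2, g ^ n2 • m1 + g ^ n1 • m2, ?_⟩
    have e1 : (algebraMap A (Localization.Away g) (g ^ (n1 + n2))) • x =
        (algebraMap A (Localization.Away g) (g ^ n2)) • (1 : Localization.Away g) ⊗ₜ[A] m1 := by
      rw [← h1, ← mul_smul, ← map_mul, pow_add, mul_comm]
    have e2 : (algebraMap A (Localization.Away g) (g ^ (n1 + n2))) • y =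
        (algebraMap A (Localization.Away g) (g ^ n1)) • (1 : Localization.Away g) ⊗ₜ[A] m2 := by
      rw [← h2, ← mul_smul, ← map_mul, pow_add]
    rw [smul_add, e1, e2, TensorProduct.tmul_add, algebraMap_smul, algebraMap_smul,
      TensorProduct.tmul_smul, TensorProduct.tmul_smul]

variable [Algebra.FiniteType A B]

/-- **Spreading nonzerodivisors**: if `b` is a nonzerodivisor modulo `A`-torsion (i.e. on the generic
fibre), then it is a nonzerodivisor on all fibres over a nonempty open. -/
theorem exists_forall_nzd (b : B)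
    (hb : ∀ m : B, (∃ a : A, a ≠ 0 ∧ a • (b * m) = 0) → ∃ a : A, a ≠ 0 ∧ a • m = 0) :
    ∃ g : A, g ≠ 0 ∧ ∀ (L : Type u) [Field L] [Algebra A L], algebraMap A L g ≠ 0 →
      ∀ z : L ⊗[A] B, ((1 : L) ⊗ₜ[A] b) * z = 0 → z = 0 := by
  obtain ⟨g₁, -, hg₁, hGF₁⟩ := Groth.Agent.Lib.Helper25.GFMod.exists_GF A B B 1 one_ne_zero
  obtain ⟨g, hdvd, hg, hGF₂⟩ :=
    Groth.Agent.Lib.Helper25.GFMod.exists_GF A B (B ⧸ Ideal.span {b}) g₁ hg₁
  refine ⟨g, hg, ?_⟩
  intro L _ _ hgL z hz
  have hF1 := (hGF₁ g hdvd).1
  have hF2 := (hGF₂ g dvd_rfl).1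
  let R' := Localization.Away g
  let φ : R' →+* L := IsLocalization.Away.lift g (g := algebraMap A L) hgL.isUnit
  letI : Algebra R' L := φ.toAlgebra
  haveI : IsScalarTower A R' L := IsScalarTower.of_algebraMap_eq (fun x => by
    rw [RingHom.algebraMap_toAlgebra]
    exact (IsLocalization.Away.lift_eq g hgL.isUnit x).symm)
  -- freeness of the base changes
  let e1 : R' ⊗[A] B ≃ₗ[R'] LocalizedModule (Submonoid.powers g) B :=
    (IsLocalizedModule.isBaseChange (Submonoid.powers g) R'
      (LocalizedModule.mkLinearMap (Submonoid.powers g) B)).equiv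
  let e2 : R' ⊗[A] (B ⧸ Ideal.span {b}) ≃ₗ[R']
      LocalizedModule (Submonoid.powers g) (B ⧸ Ideal.span {b}) :=
    (IsLocalizedModule.isBaseChange (Submonoid.powers g) R'
      (LocalizedModule.mkLinearMap (Submonoid.powers g) (B ⧸ Ideal.span {b}))).equiv
  haveI : Module.Free R' (R' ⊗[A] B) := Module.Free.of_equiv e1.symm
  haveI : Module.Free R' (R' ⊗[A] (B ⧸ Ideal.span {b})) := Module.Free.of_equiv e2.symm
  -- the exact sequence
  let μ : B →ₗ[A] B := LinearMap.mulLeft A b
  let π : B →ₗ[A] B ⧸ Ideal.span {b} := (Ideal.Quotient.mkₐ A (Ideal.span {b})).toLinearMap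
  have hπ : Function.Surjective π := Ideal.Quotient.mk_surjective
  have hex : Function.Exact μ π := by
    intro y
    change Ideal.Quotient.mk _ y = 0 ↔ _
    rw [Ideal.Quotient.eq_zero_iff_mem, Ideal.mem_span_singleton']
    constructor
    · rintro ⟨a, rfl⟩
      exact ⟨a, mul_comm _ _⟩
    · rintro ⟨a, rfl⟩
      exact ⟨a, mul_comm _ _⟩
  let μ' : R' ⊗[A] B →ₗ[R'] R' ⊗[A] B := μ.baseChange R'
  let π' : R' ⊗[A] B →ₗ[R'] R' ⊗[A] (B ⧸ Ideal.span {b}) := π.baseChange R'
  have hπ' : Function.Surjective π' := by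
    have := LinearMap.lTensor_surjective R' hπ
    exact this
  have hex' : Function.Exact μ' π' := lTensor_exact R' hex hπ
  have hgR' : ∀ a : A, a ≠ 0 → algebraMap A R' a ≠ 0 := by
    intro a ha h0
    apply ha
    have hinj : Function.Injective (algebraMap A R') :=
      IsLocalization.injective R' (powers_le_nonZeroDivisors_of_noZeroDivisors hg)
    exact hinj (h0.trans (map_zero _).symm)
  have hμ' : Function.Injective μ' := by
    rw [injective_iff_map_eq_zero]
    intro x hx
    obtain ⟨n, m, hnm⟩ := exists_pow_smul_eq_one_tmul A B g x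
    have h1 : (1 : R') ⊗ₜ[A] (b * m) = 0 := by
      have h2 := congrArg μ' hnm
      rw [map_smul, hx, smul_zero] at h2
      rw [h2]
      rfl
    obtain ⟨⟨_, k, rfl⟩, hk⟩ := (IsLocalizedModule.eq_zero_iff (Submonoid.powers g)
      (TensorProduct.mk A R' B 1)).mp h1
    obtain ⟨a, ha, ham⟩ := hb m ⟨g ^ k, pow_ne_zero k hg, hk⟩
    have h2 : (algebraMap A R' (a * g ^ n)) • x = 0 := by
      rw [map_mul, mul_smul, hnm, algebraMap_smul, ← TensorProduct.tmul_smul, ham,
        TensorProduct.tmul_zero]
    exact (smul_eq_zero.mp h2).resolve_left (hgR' _ (mul_ne_zero ha (pow_ne_zero n hg)))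
  have hinj := LinearMap.lTensor_injective_of_exact_of_flat π' hπ' μ' hμ' hex' L
  -- transfer to `L ⊗[A] B`
  let e : L ⊗[R'] (R' ⊗[A] B) ≃ₗ[R'] L ⊗[A] B :=
    TensorProduct.AlgebraTensorModule.cancelBaseChange A R' R' L B
  have hsq : ∀ w : L ⊗[R'] (R' ⊗[A] B), e (μ'.lTensor L w) = ((1 : L) ⊗ₜ[A] b) * e w := by
    intro w
    induction w using TensorProduct.induction_on with
    | zero => simp
    | tmul l y =>
      induction y using TensorProduct.induction_on with
      | zero => simp
      | tmul r m =>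
        simp only [LinearMap.lTensor_tmul]
        show e (l ⊗ₜ[R'] (r ⊗ₜ[A] (b * m))) = _
        rw [TensorProduct.AlgebraTensorModule.cancelBaseChange_tmul,
          TensorProduct.AlgebraTensorModule.cancelBaseChange_tmul,
          Algebra.TensorProduct.tmul_mul_tmul, one_mul]
      | add y₁ y₂ h₁ h₂ =>
        rw [TensorProduct.tmul_add, map_add, map_add, h₁, h₂, map_add, mul_add]
    | add w₁ w₂ h₁ h₂ => rw [map_add, map_add, h₁, h₂, map_add, mul_add]
  have h3 : μ'.lTensor L (e.symm z) = 0 := by
    apply e.injective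
    rw [hsq, LinearEquiv.apply_symm_apply, hz, map_zero]
  have h4 := hinj (h3.trans (map_zero _).symm)
  have := congrArg e h4
  rwa [LinearEquiv.apply_symm_apply, map_zero] at this

end SD

section Core

variable (A B : Type u) [CommRing A] [IsDomain A] [CommRing B] [Algebra A B]

set_option maxHeartbeats 1600000 in
/-- the primes of `B` under the minimal primes of the generic fibre are in the smooth locus if the
generic fibre is geometrically reduced. -/
theorem comap_mem_smoothLocus [Algebra.FiniteType A B]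
    (H : ∀ (L : Type u) [Field L] [Algebra A L], Function.Injective (algebraMap A L) →
      IsReduced (B ⊗[A] L))
    (q : Ideal (B ⊗[A] FractionRing A)) (hq : q ∈ minimalPrimes (B ⊗[A] FractionRing A))
    [hqp : q.IsPrime] :
    (⟨q.comap (algebraMap B (B ⊗[A] FractionRing A)), inferInstance⟩ : PrimeSpectrum B) ∈
      Algebra.smoothLocus A B := by
  let K := FractionRing A
  let C := B ⊗[A] K
  haveI hCred : IsReduced C := H K (IsFractionRing.injective A K)
  let M : Submonoid B := Algebra.algebraMapSubmonoid B (nonZeroDivisors A)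
  haveI hloc : IsLocalization M C := inferInstance
  let L := Localization.AtPrime q
  haveI hLred : IsReduced L := isReduced_localizationPreserves q.primeCompl L hCred
  have hLf :=
    (PrimeSpectrum.subsingleton_iff_isField_of_isReduced (R := L)).mp
      (IsLocalization.subsingleton_primeSpectrum_of_mem_minimalPrimes q hq L)
  haveI : IsScalarTower B C L := inferInstance
  letI : Algebra K L := ((algebraMap C L).comp
    (Algebra.TensorProduct.includeRight : K →ₐ[A] C).toRingHom).toAlgebra
  haveI : IsScalarTower A B L := inferInstance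
  haveI : IsScalarTower A K L := IsScalarTower.of_algebraMap_eq (fun a => by
    rw [IsScalarTower.algebraMap_apply A C L]
    change _ = algebraMap C L ((1 : B) ⊗ₜ[A] (algebraMap A K a))
    congr 1
    rw [Algebra.TensorProduct.algebraMap_apply, Algebra.algebraMap_eq_smul_one,
      Algebra.algebraMap_eq_smul_one (A := K), TensorProduct.smul_tmul])
  let Q : Ideal B := q.comap (algebraMap B C)
  haveI : IsLocalization.AtPrime L Q :=
    IsLocalization.isLocalization_isLocalization_atPrime_isLocalization M L q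
  let Lb := AlgebraicClosure K
  have hinjLb : Function.Injective (algebraMap A Lb) := by
    rw [IsScalarTower.algebraMap_eq A K Lb]
    exact (algebraMap K Lb).injective.comp (IsFractionRing.injective A K)
  have hred : IsReduced (Lb ⊗[K] L) :=
    Groth.Agent.Lib.Helper25.GenFibreRed.isReduced_tensor_of_isLocalization A B K L Lb
      (nonZeroDivisors A) Q.primeCompl (H Lb hinjLb)
  letI : Field L := hLf.toField
  haveI : Algebra.IsGeometricallyReduced K L :=
    (Algebra.isGeometricallyReduced_field_iff K L).mpr hred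
  haveI : Algebra.EssFiniteType B L := Algebra.EssFiniteType.of_isLocalization L Q.primeCompl
  haveI : Algebra.EssFiniteType A L := Algebra.EssFiniteType.comp A B L
  haveI : Algebra.EssFiniteType K L := Algebra.EssFiniteType.of_comp A K L
  haveI : Algebra.FormallySmooth K L := Groth.Agent.Lib27.formallySmooth_of_isGeometricallyReduced K L
  haveI : Algebra.FormallySmooth A K := Algebra.FormallySmooth.of_isLocalization (nonZeroDivisors A)
  haveI : Algebra.FormallySmooth A L := Algebra.FormallySmooth.comp A K L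
  let e : L ≃ₐ[B] Localization.AtPrime Q :=
    IsLocalization.algEquiv Q.primeCompl L (Localization.AtPrime Q)
  exact Algebra.FormallySmooth.of_equiv (e.restrictScalars A)

set_option maxHeartbeats 1600000 in
/-- **Core (finitely presented case)**: geometric reducedness of the generic fibre spreads. -/
theorem core_fp [Algebra.FinitePresentation A B]
    (H : ∀ (L : Type u) [Field L] [Algebra A L], Function.Injective (algebraMap A L) →
      IsReduced (B ⊗[A] L)) :
    ∃ g : A, g ≠ 0 ∧ ∀ (L : Type u) [Field L] [Algebra A L], algebraMap A L g ≠ 0 →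
      IsReduced (B ⊗[A] L) := by
  classical
  let K := FractionRing A
  let C := B ⊗[A] K
  haveI hCred : IsReduced C := H K (IsFractionRing.injective A K)
  haveI : IsNoetherianRing C := by
    have h1 : Algebra.FiniteType K (K ⊗[A] B) := inferInstance
    have h2 : IsNoetherianRing (K ⊗[A] B) := Algebra.FiniteType.isNoetherianRing K _
    exact isNoetherianRing_of_ringEquiv _ (Algebra.TensorProduct.comm A K B).toRingEquiv
  have hfin : (minimalPrimes C).Finite := minimalPrimes.finite_of_isNoetherianRing C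
  let M : Submonoid B := Algebra.algebraMapSubmonoid B (nonZeroDivisors A)
  haveI hloc : IsLocalization M C := inferInstance
  -- choice of `b`
  let I : Ideal B := PrimeSpectrum.vanishingIdeal (Algebra.smoothLocus A B)ᶜ
  have hopen : IsOpen (Algebra.smoothLocus A B) := Algebra.isOpen_smoothLocus
  let T : Finset (Ideal C) := hfin.toFinset
  have hT : ∀ q ∈ T, q ∈ minimalPrimes C := fun q hq => hfin.mem_toFinset.mp hq
  have hIq : ∀ q ∈ T, ¬ I ≤ q.comap (algebraMap B C) := by
    intro q hqT hle
    haveI hqp : q.IsPrime := (hT q hqT).1.1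
    have hsm := comap_mem_smoothLocus A B H q (hT q hqT)
    have hmem : (⟨q.comap (algebraMap B C), inferInstance⟩ : PrimeSpectrum B) ∈
        PrimeSpectrum.zeroLocus (I : Set B) := by
      rw [PrimeSpectrum.mem_zeroLocus]
      exact hle
    rw [PrimeSpectrum.zeroLocus_vanishingIdeal_eq_closure, hopen.isClosed_compl.closure_eq] at hmem
    exact hmem hsm
  have hnot : ¬ ((I : Set B) ⊆ ⋃ q ∈ (T : Set (Ideal C)), (q.comap (algebraMap B C) : Set B)) := by
    intro hsub
    have := (Ideal.subset_union_prime (s := T) (f := fun q => q.comap (algebraMap B C)) ⊥ ⊥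
      (fun q hq _ _ => by
        haveI : q.IsPrime := (hT q hq).1.1
        exact Ideal.comap_isPrime _ _)).mp hsub
    obtain ⟨q, hq, hle⟩ := this
    exact hIq q hq hle
  rw [Set.not_subset] at hnot
  obtain ⟨b, hbI, hbT⟩ := hnot
  have hbq : ∀ q ∈ minimalPrimes C, algebraMap B C b ∉ q := by
    intro q hq hmem
    apply hbT
    simp only [Set.mem_iUnion]
    exact ⟨q, hfin.mem_toFinset.mpr hq, hmem⟩
  have hD : (PrimeSpectrum.basicOpen b : Set (PrimeSpectrum B)) ⊆ Algebra.smoothLocus A B := by
    intro p hp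
    by_contra hps
    apply hp
    exact (PrimeSpectrum.mem_vanishingIdeal _ _).mp hbI p hps
  haveI hSm : Algebra.Smooth A (Localization.Away b) :=
    Algebra.basicOpen_subset_smoothLocus_iff_smooth.mp hD
  -- nonzerodivisor modulo torsion
  have hb : ∀ m : B, (∃ a : A, a ≠ 0 ∧ a • (b * m) = 0) → ∃ a : A, a ≠ 0 ∧ a • m = 0 := by
    rintro m ⟨a, ha, ham⟩
    have hunit : IsUnit (algebraMap B C (algebraMap A B a)) :=
      IsLocalization.map_units C (⟨algebraMap A B a, ⟨a, mem_nonZeroDivisors_of_ne_zero ha, rfl⟩⟩ : M)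
    have h1 : algebraMap B C (algebraMap A B a) * (algebraMap B C b * algebraMap B C m) = 0 := by
      rw [← map_mul, ← map_mul, ← Algebra.smul_def, ham, map_zero]
    have h2 : algebraMap B C b * algebraMap B C m = 0 := hunit.mul_right_eq_zero.mp h1
    have h3 := eq_zero_of_mul_eq_zero_of_forall_notMem_minimalPrimes _ hbq _ h2
    obtain ⟨⟨_, a', ha', rfl⟩, hs⟩ := (IsLocalization.map_eq_zero_iff M C m).mp h3
    refine ⟨a', nonZeroDivisors.ne_zero ha', ?_⟩
    rw [Algebra.smul_def]
    exact hs
  obtain ⟨g, hg, hgL⟩ := exists_forall_nzd A B b hb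
  refine ⟨g, hg, ?_⟩
  intro L _ _ hL
  have hnzd : ∀ w : B ⊗[A] L, (b ⊗ₜ[A] (1 : L)) * w = 0 → w = 0 := by
    intro w hw
    have h1 := hgL L hL (Algebra.TensorProduct.comm A B L w) (by
      have := congrArg (Algebra.TensorProduct.comm A B L) hw
      rwa [map_mul, map_zero, Algebra.TensorProduct.comm_tmul] at this)
    exact (Algebra.TensorProduct.comm A B L).injective (h1.trans (map_zero _).symm)
  -- the localized fibre is smooth, hence reduced
  let Bb := Localization.Away b
  haveI : IsReduced (L ⊗[A] Bb) := Groth.Agent.Lib.Helper10.SmoothReduced.isReduced_of_smooth L (L ⊗[A] Bb)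
  haveI : IsReduced (Bb ⊗[A] L) :=
    isReduced_of_injective (Algebra.TensorProduct.comm A Bb L).toRingHom
      (Algebra.TensorProduct.comm A Bb L).injective
  letI : Algebra (B ⊗[A] L) (Bb ⊗[A] L) :=
    (Algebra.TensorProduct.map (IsScalarTower.toAlgHom A B Bb) (AlgHom.id A L)).toRingHom.toAlgebra
  haveI : IsScalarTower B (B ⊗[A] L) (Bb ⊗[A] L) := by
    apply IsScalarTower.of_algebraMap_eq
    intro x
    simp [RingHom.algebraMap_toAlgebra]
  haveI hlocD := IsLocalization.tensorProduct_tensorProduct A L (Submonoid.powers b) Bb (by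
    ext x
    simp [RingHom.algebraMap_toAlgebra])
  have hle : Algebra.algebraMapSubmonoid (B ⊗[A] L) (Submonoid.powers b) ≤
      nonZeroDivisors (B ⊗[A] L) := by
    rintro _ ⟨_, ⟨n, rfl⟩, rfl⟩
    rw [map_pow]
    apply pow_mem
    rw [mem_nonZeroDivisors_iff_right]
    intro w hw
    apply hnzd w
    rw [mul_comm]
    exact hw
  have hinj : Function.Injective (algebraMap (B ⊗[A] L) (Bb ⊗[A] L)) :=
    IsLocalization.injective _ hle
  exact isReduced_of_injective _ hinj

/-- `(R' ⊗[A] B) ⊗[R'] L ≃ B ⊗[A] L`. -/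
noncomputable def tensorTensorEquiv (R' L : Type u) [CommRing R'] [Algebra A R'] [CommRing L]
    [Algebra R' L] [Algebra A L] [IsScalarTower A R' L] :
    (R' ⊗[A] B) ⊗[R'] L ≃+* B ⊗[A] L :=
  ((Algebra.TensorProduct.comm R' (R' ⊗[A] B) L).toRingEquiv.trans
    (Algebra.TensorProduct.cancelBaseChange A R' R' L B).toRingEquiv).trans
      (Algebra.TensorProduct.comm A L B).toRingEquiv

set_option maxHeartbeats 1600000 in
/-- **Core (finite type case)**: geometric reducedness of the generic fibre spreads. -/
theorem core_ft [Algebra.FiniteType A B]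
    (H : ∀ (L : Type u) [Field L] [Algebra A L], Function.Injective (algebraMap A L) →
      IsReduced (B ⊗[A] L)) :
    ∃ g : A, g ≠ 0 ∧ ∀ (L : Type u) [Field L] [Algebra A L], algebraMap A L g ≠ 0 →
      IsReduced (B ⊗[A] L) := by
  obtain ⟨g₀, -, hg₀, hfp⟩ := Groth.Agent.Lib.Helper25.GFMod.exists_algFP A B 1 one_ne_zero
  let R' := Localization.Away g₀
  haveI : IsDomain R' :=
    IsLocalization.isDomain_localization (powers_le_nonZeroDivisors_of_noZeroDivisors hg₀)
  haveI : Algebra.FinitePresentation R' (R' ⊗[A] B) := hfp g₀ dvd_rfl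
  have hinjR' : Function.Injective (algebraMap A R') :=
    IsLocalization.injective R' (powers_le_nonZeroDivisors_of_noZeroDivisors hg₀)
  obtain ⟨g₁, hg₁, hP⟩ := core_fp R' (R' ⊗[A] B) (by
    intro L _ _ hinj
    letI : Algebra A L := ((algebraMap R' L).comp (algebraMap A R')).toAlgebra
    haveI : IsScalarTower A R' L := IsScalarTower.of_algebraMap_eq' rfl
    have h1 : IsReduced (B ⊗[A] L) := H L (hinj.comp hinjR')
    exact isReduced_of_injective (tensorTensorEquiv A B R' L).toRingHom
      (tensorTensorEquiv A B R' L).injective)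
  obtain ⟨⟨a, ⟨_, n, rfl⟩⟩, rfl⟩ := IsLocalization.mk'_surjective (Submonoid.powers g₀) g₁
  have ha : a ≠ 0 := by
    rintro rfl
    exact hg₁ (IsLocalization.mk'_zero _)
  refine ⟨g₀ * a, mul_ne_zero hg₀ ha, ?_⟩
  intro L _ _ hL
  rw [map_mul] at hL
  have hg₀L : algebraMap A L g₀ ≠ 0 := left_ne_zero_of_mul hL
  have haL : algebraMap A L a ≠ 0 := right_ne_zero_of_mul hL
  let φ : R' →+* L := IsLocalization.Away.lift g₀ (g := algebraMap A L) hg₀L.isUnit
  letI : Algebra R' L := φ.toAlgebra
  haveI : IsScalarTower A R' L := IsScalarTower.of_algebraMap_eq (fun x => by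
    rw [RingHom.algebraMap_toAlgebra]
    exact (IsLocalization.Away.lift_eq g₀ hg₀L.isUnit x).symm)
  have hne : algebraMap R' L (IsLocalization.mk' R' a (⟨g₀ ^ n, n, rfl⟩ : Submonoid.powers g₀)) ≠ 0 := by
    intro h0
    apply haL
    have h1 := IsLocalization.mk'_spec R' a (⟨g₀ ^ n, n, rfl⟩ : Submonoid.powers g₀)
    have h2 := congrArg (algebraMap R' L) h1
    rw [map_mul, h0, zero_mul, ← IsScalarTower.algebraMap_apply] at h2
    exact h2.symm
  have h3 : IsReduced ((R' ⊗[A] B) ⊗[R'] L) := hP L hne
  exact isReduced_of_injective (tensorTensorEquiv A B R' L).symm.toRingHom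
    (tensorTensorEquiv A B R' L).symm.injective

end Core

end Groth.Agent.Lib.Helper12.H12GeomRedSpread
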