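import Mathlib
import Groth.Agent.Lib.Helper12.GeomRedSpread
import Groth.Agent.Lib.Helper12.GeomRedGen

set_option autoImplicit false
universe u

namespace Groth.Agent.Lib.Helper12.H12GeomRedNear

open AlgebraicGeometry CategoryTheory Limits TensorProduct
open Groth.Agent.Lib.Helper12.H12GeomRedGen Groth.Agent.Lib.Helper12.H12GeomRedSpread

variable {X Y : Scheme.{u}} (f : X ⟶ Y)

theorem isReduced_pullback_of_geometricallyReduced_fiber (y : Y)
    (hg : GeometricallyReduced (f.fiberToSpecResidueField y))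
    (K : Type u) [Field K] (ψ : Spec (.of K) ⟶ Y) (t : Spec (.of K)) (ht : ψ t = y) :
    IsReduced (pullback f ψ) := by
  by_contra h
  exact not_geometricallyReduced_fiber_of_exists f y K ψ t ht h hg

theorem geometricallyReduced_fiber_of_forall (y : Y)
    (H : ∀ (K : Type u) [Field K] (ψ : Spec (.of K) ⟶ Y), (∀ t, ψ t = y) →
      IsReduced (pullback f ψ)) :
    GeometricallyReduced (f.fiberToSpecResidueField y) := by
  by_contra h
  obtain ⟨K, _, ψ, hψ, hnr⟩ := exists_of_not_geometricallyReduced_fiber f y h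
  exact hnr (H K ψ hψ)

theorem isReduced_pullback_of_cover {V : Y.Opens} (hV : IsAffineOpen V) {Z : Scheme.{u}}
    (ψ₀ : Z ⟶ Spec Γ(Y, V)) (s : Set X.affineOpens) (hs : ∀ U ∈ s, (U : X.Opens) ≤ f ⁻¹ᵁ V)
    (hcov : ∀ x : X, f x ∈ V → ∃ U ∈ s, x ∈ (U : X.Opens))
    (H : ∀ (U : X.affineOpens) (hU : U ∈ s),
      IsReduced (pullback (Spec.map (f.appLE V U (hs U hU))) ψ₀)) :
    IsReduced (pullback f (ψ₀ ≫ hV.fromSpec)) := by
  suffices H : ∀ t : ↥(pullback f (ψ₀ ≫ hV.fromSpec)),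
      ∃ (W : Scheme.{u}) (j : W ⟶ pullback f (ψ₀ ≫ hV.fromSpec)),
      IsOpenImmersion j ∧ IsReduced W ∧ t ∈ Set.range j by
    choose W j hj hW ht using H
    let 𝒰 : (pullback f (ψ₀ ≫ hV.fromSpec)).OpenCover :=
      Scheme.Cover.mkOfCovers _ W j (fun t => ⟨t, ht t⟩) hj
    have : ∀ i, IsReduced (𝒰.X i) := hW
    exact IsReduced.of_openCover _ 𝒰
  intro t
  have hfx : f (pullback.fst f (ψ₀ ≫ hV.fromSpec) t) ∈ V := by
    have h1 : f (pullback.fst f (ψ₀ ≫ hV.fromSpec) t) =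
        (ψ₀ ≫ hV.fromSpec) (pullback.snd f (ψ₀ ≫ hV.fromSpec) t) := by
      rw [← Scheme.Hom.comp_apply, ← Scheme.Hom.comp_apply, pullback.condition]
    rw [h1, Scheme.Hom.comp_apply]
    have : hV.fromSpec (ψ₀ (pullback.snd f (ψ₀ ≫ hV.fromSpec) t)) ∈ Set.range hV.fromSpec :=
      ⟨_, rfl⟩
    rw [hV.range_fromSpec] at this
    exact this
  obtain ⟨U, hUs, hxU⟩ := hcov _ hfx
  refine ⟨_, pieceMap' f hV U.2 (hs U hUs) ψ₀, inferInstance, H U hUs, ?_⟩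
  unfold pieceMap'
  rw [Scheme.Pullback.range_map]
  refine ⟨?_, ?_⟩
  · rw [Set.mem_preimage, U.2.range_fromSpec]
    exact hxU
  · rw [Set.mem_preimage]
    exact ⟨_, rfl⟩

theorem irreducibleSpace_Spec_of_isAffineOpen [IrreducibleSpace Y] {V₀ : Y.Opens}
    (hV₀ : IsAffineOpen V₀) (hη : genericPoint Y ∈ V₀) : IrreducibleSpace (Spec Γ(Y, V₀)) := by
  have h1 : IsPreirreducible (Set.univ : Set (Spec Γ(Y, V₀))) := by
    have h2 : IsPreirreducible (Set.univ : Set Y) :=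
      (IrreducibleSpace.isIrreducible_univ Y).isPreirreducible
    have := h2.preimage hV₀.fromSpec.isOpenEmbedding
    simpa using this
  haveI : PreirreducibleSpace (Spec Γ(Y, V₀)) := ⟨h1⟩
  haveI : Nonempty (Spec Γ(Y, V₀)) := ⟨hV₀.primeIdealOf ⟨genericPoint Y, hη⟩⟩
  exact ⟨inferInstance⟩

set_option maxHeartbeats 1600000 in
theorem exists_forall_isReduced_piece [IrreducibleSpace Y] [LocallyOfFiniteType f] {V₀ : Y.Opens}
    (hV₀ : IsAffineOpen V₀) (hη : genericPoint Y ∈ V₀)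
    (h : GeometricallyReduced (f.fiberToSpecResidueField (genericPoint Y)))
    {U : X.Opens} (hU : IsAffineOpen U) (hUV : U ≤ f ⁻¹ᵁ V₀) :
    ∃ g : Γ(Y, V₀), g ∉ nilradical Γ(Y, V₀) ∧ ∀ (K : Type u) [Field K] (χ : Γ(Y, V₀) →+* K),
      χ g ≠ 0 →
      IsReduced (pullback (Spec.map (f.appLE V₀ U hUV)) (Spec.map (CommRingCat.ofHom χ))) := by
  haveI hirr : IrreducibleSpace (Spec Γ(Y, V₀)) := irreducibleSpace_Spec_of_isAffineOpen hV₀ hη
  have hNprime : (nilradical Γ(Y, V₀)).IsPrime :=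
    PrimeSpectrum.irreducibleSpace_iff_isPrime_nilradical.mp hirr
  letI := (f.appLE V₀ U hUV).hom.toAlgebra
  haveI : Algebra.FiniteType Γ(Y, V₀) Γ(X, U) := f.finiteType_appLE hV₀ hU hUV
  let A' := Γ(Y, V₀) ⧸ nilradical Γ(Y, V₀)
  haveI : IsDomain A' := Ideal.Quotient.isDomain _
  have hmap : CommRingCat.ofHom (algebraMap Γ(Y, V₀) Γ(X, U)) = f.appLE V₀ U hUV := rfl
  have H' : ∀ (L : Type u) [Field L] [Algebra A' L], Function.Injective (algebraMap A' L) →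
      _root_.IsReduced ((A' ⊗[Γ(Y, V₀)] Γ(X, U)) ⊗[A'] L) := by
    intro L _ _ hinj
    letI : Algebra Γ(Y, V₀) L := ((algebraMap A' L).comp (algebraMap Γ(Y, V₀) A')).toAlgebra
    haveI : IsScalarTower Γ(Y, V₀) A' L := IsScalarTower.of_algebraMap_eq' rfl
    suffices h1 : _root_.IsReduced (Γ(X, U) ⊗[Γ(Y, V₀)] L) from
      isReduced_of_injective (tensorTensorEquiv Γ(Y, V₀) Γ(X, U) A' L).toRingHom
        (tensorTensorEquiv Γ(Y, V₀) Γ(X, U) A' L).injective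
    rw [← isReduced_pullback_Spec_iff, hmap]
    let ψ₀ : Spec (.of L) ⟶ Spec Γ(Y, V₀) :=
      Spec.map (CommRingCat.ofHom (algebraMap Γ(Y, V₀) L))
    have hgen : ∀ t, ψ₀ t = genericPoint (Spec Γ(Y, V₀)) := by
      intro t
      have hg1 : IsGenericPoint (ψ₀ t) (⊤ : Set (Spec Γ(Y, V₀))) := by
        let p : PrimeSpectrum Γ(Y, V₀) := ψ₀ t
        show closure ({p} : Set (PrimeSpectrum Γ(Y, V₀))) = Set.univ
        rw [PrimeSpectrum.closure_singleton, PrimeSpectrum.zeroLocus_eq_univ_iff]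
        intro x hx
        let tp : PrimeSpectrum L := t
        have hx' : algebraMap Γ(Y, V₀) L x ∈ tp.asIdeal := hx
        have ht0 : tp.asIdeal = ⊥ := by
          haveI := tp.isPrime
          exact Ideal.eq_bot_of_prime tp.asIdeal
        rw [ht0, Ideal.mem_bot, IsScalarTower.algebraMap_apply Γ(Y, V₀) A' L] at hx'
        have hx2 : algebraMap Γ(Y, V₀) A' x = 0 := hinj (hx'.trans (map_zero _).symm)
        exact Ideal.Quotient.eq_zero_iff_mem.mp hx2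
      exact hg1.eq (genericPoint_spec _)
    have hpt : ∀ t, (ψ₀ ≫ hV₀.fromSpec) t = genericPoint Y := by
      intro t
      rw [Scheme.Hom.comp_apply, hgen, genericPoint_eq_of_isOpenImmersion hV₀.fromSpec]
    haveI hred : IsReduced (pullback f (ψ₀ ≫ hV₀.fromSpec)) :=
      isReduced_pullback_of_geometricallyReduced_fiber f _ h L _ (⊥ : PrimeSpectrum L) (hpt _)
    exact isReduced_of_isOpenImmersion (pieceMap' f hV₀ hU hUV ψ₀)
  obtain ⟨g', hg', hP⟩ := core_ft A' (A' ⊗[Γ(Y, V₀)] Γ(X, U)) H'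
  obtain ⟨g, rfl⟩ := Ideal.Quotient.mk_surjective g'
  refine ⟨g, fun hmem => hg' (Ideal.Quotient.eq_zero_iff_mem.mpr hmem), ?_⟩
  intro K _ χ hχ
  have hχN : ∀ a ∈ nilradical Γ(Y, V₀), χ a = 0 := by
    intro a ha
    have : IsNilpotent (χ a) := (mem_nilradical.mp ha).map χ
    exact this.eq_zero
  let χ' : A' →+* K := Ideal.Quotient.lift (nilradical Γ(Y, V₀)) χ hχN
  letI : Algebra A' K := χ'.toAlgebra
  letI : Algebra Γ(Y, V₀) K := χ.toAlgebra
  haveI : IsScalarTower Γ(Y, V₀) A' K := IsScalarTower.of_algebraMap_eq (fun x => by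
    show χ x = χ' (Ideal.Quotient.mk _ x)
    rw [Ideal.Quotient.lift_mk])
  have hne : algebraMap A' K (Ideal.Quotient.mk _ g) ≠ 0 := by
    show χ' (Ideal.Quotient.mk _ g) ≠ 0
    rw [Ideal.Quotient.lift_mk]
    exact hχ
  have h3 := hP K hne
  have h4 : _root_.IsReduced (Γ(X, U) ⊗[Γ(Y, V₀)] K) :=
    isReduced_of_injective (tensorTensorEquiv Γ(Y, V₀) Γ(X, U) A' K).symm.toRingHom
      (tensorTensorEquiv Γ(Y, V₀) Γ(X, U) A' K).symm.injective
  rw [← isReduced_pullback_Spec_iff, hmap] at h4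
  exact h4

set_option maxHeartbeats 1600000 in
/-- **S0434**: geometric reducedness of the generic fibre spreads to a neighbourhood. -/
theorem main [IrreducibleSpace Y] [LocallyOfFiniteType f] [QuasiCompact f]
    (h : GeometricallyReduced (f.fiberToSpecResidueField (genericPoint Y))) :
    ∃ V : Y.Opens, (V : Set Y).Nonempty ∧ GeometricallyReduced (f ∣_ V) := by
  classical
  obtain ⟨_, ⟨V₀, hV₀', rfl⟩, hηV₀, -⟩ := Y.isBasis_affineOpens.exists_subset_of_mem_open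
    (Set.mem_univ (genericPoint Y)) isOpen_univ
  have hV₀ : IsAffineOpen V₀ := hV₀'
  haveI hirr : IrreducibleSpace (Spec Γ(Y, V₀)) := irreducibleSpace_Spec_of_isAffineOpen hV₀ hηV₀
  have hNprime : (nilradical Γ(Y, V₀)).IsPrime :=
    PrimeSpectrum.irreducibleSpace_iff_isPrime_nilradical.mp hirr
  obtain ⟨s, hsfin, hseq⟩ := isCompact_iff_finite_and_eq_biUnion_affineOpens.mp
    (f.isCompact_preimage hV₀.isCompact : IsCompact ((f ⁻¹ᵁ V₀ : X.Opens) : Set X))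
  have hs : ∀ U ∈ s, (U : X.Opens) ≤ f ⁻¹ᵁ V₀ := by
    intro U hU
    rw [hseq]
    exact le_iSup₂ (f := fun (i : X.affineOpens) (_ : i ∈ s) => (i : X.Opens)) U hU
  have hcov : ∀ x : X, f x ∈ V₀ → ∃ U ∈ s, x ∈ (U : X.Opens) := by
    intro x hx
    have hx' : x ∈ f ⁻¹ᵁ V₀ := hx
    rw [hseq] at hx'
    simp only [TopologicalSpace.Opens.mem_iSup] at hx'
    obtain ⟨U, hU, hxU⟩ := hx'
    exact ⟨U, hU, hxU⟩
  have key : ∀ U : X.affineOpens, ∃ g : Γ(Y, V₀), U ∈ s → (g ∉ nilradical Γ(Y, V₀) ∧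
      ∀ (hU : U ∈ s) (K : Type u) [Field K] (χ : Γ(Y, V₀) →+* K), χ g ≠ 0 →
      IsReduced (pullback (Spec.map (f.appLE V₀ U (hs U hU))) (Spec.map (CommRingCat.ofHom χ)))) := by
    intro U
    by_cases hU : U ∈ s
    · obtain ⟨g, hg, hP⟩ := exists_forall_isReduced_piece f hV₀ hηV₀ h U.2 (hs U hU)
      exact ⟨g, fun _ => ⟨hg, fun _ K _ χ hχ => hP K χ hχ⟩⟩
    · exact ⟨0, fun h => absurd h hU⟩
  choose gU hgU using key
  let g : Γ(Y, V₀) := ∏ U ∈ hsfin.toFinset, gU U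
  have hgN : g ∉ nilradical Γ(Y, V₀) := by
    intro hmem
    obtain ⟨U, hU, hUmem⟩ := (hNprime.prod_mem_iff).mp hmem
    exact (hgU U (hsfin.mem_toFinset.mp hU)).1 hUmem
  let p₀ : PrimeSpectrum Γ(Y, V₀) := ⟨nilradical Γ(Y, V₀), hNprime⟩
  let D : (Spec Γ(Y, V₀)).Opens := PrimeSpectrum.basicOpen g
  refine ⟨hV₀.fromSpec ''ᵁ D, ⟨hV₀.fromSpec p₀, ⟨p₀, hgN, rfl⟩⟩, ?_⟩
  set V : Y.Opens := hV₀.fromSpec ''ᵁ D with hVdef
  rw [geometricallyReduced_iff, geometrically_iff_of_isClosedUnderIsomorphisms]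
  intro K _ ψ'
  -- transfer to `pullback f (ψ' ≫ V.ι)`
  have hpb : IsPullback (pullback.fst (f ∣_ V) ψ' ≫ (f ⁻¹ᵁ V).ι) (pullback.snd (f ∣_ V) ψ') f
      (ψ' ≫ V.ι) :=
    (IsPullback.of_hasPullback (f ∣_ V) ψ').paste_horiz (isPullback_morphismRestrict f V).flip
  suffices hred : IsReduced (pullback f (ψ' ≫ V.ι)) from
    isReduced_of_isOpenImmersion hpb.isoPullback.hom
  have hVmem : ∀ t, (ψ' ≫ V.ι) t ∈ V := by
    intro t
    rw [Scheme.Hom.comp_apply]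
    exact (ψ' t).2
  have hrange : Set.range (ψ' ≫ V.ι) ⊆ Set.range hV₀.fromSpec := by
    rintro _ ⟨t, rfl⟩
    obtain ⟨p, -, hp⟩ := hVmem t
    exact ⟨p, hp⟩
  let ψ₀ : Spec (.of K) ⟶ Spec Γ(Y, V₀) := IsOpenImmersion.lift hV₀.fromSpec (ψ' ≫ V.ι) hrange
  have hψ₀ : ψ₀ ≫ hV₀.fromSpec = ψ' ≫ V.ι := IsOpenImmersion.lift_fac _ _ _
  rw [← hψ₀]
  obtain ⟨χ, hχ⟩ := Spec.map_surjective ψ₀
  have hχg : χ.hom g ≠ 0 := by
    intro h0
    let t : Spec (.of K) := (⊥ : PrimeSpectrum K)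
    obtain ⟨p, hpD, hp⟩ := hVmem t
    have hp' : p = ψ₀ t := by
      apply hV₀.fromSpec.isOpenEmbedding.injective
      have hp2 : hV₀.fromSpec p = (ψ' ≫ V.ι) t := hp
      rw [hp2, ← hψ₀, Scheme.Hom.comp_apply]
    rw [hp', ← hχ] at hpD
    apply hpD
    show g ∈ Ideal.comap χ.hom _
    rw [Ideal.mem_comap, h0]
    exact Ideal.zero_mem _
  apply isReduced_pullback_of_cover f hV₀ ψ₀ s hs hcov
  intro U hU
  have hχU : χ.hom (gU U) ≠ 0 := by
    have h1 : χ.hom g = ∏ U ∈ hsfin.toFinset, χ.hom (gU U) := map_prod χ.hom _ _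
    rw [h1] at hχg
    exact (Finset.prod_ne_zero_iff.mp hχg) U (hsfin.mem_toFinset.mpr hU)
  have h2 := (hgU U hU).2 hU K χ.hom hχU
  rw [CommRingCat.ofHom_hom, hχ] at h2
  exact h2

end Groth.Agent.Lib.Helper12.H12GeomRedNear
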