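import Mathlib
import Groth.Agent.S9735
import Groth.Agent.S1460
import Groth.Agent.Lib.Helper12.GeomRedNear
import Groth.Agent.Lib.Helper12.ConstrTop
import Groth.Agent.Lib.Helper14.LocConstr

set_option autoImplicit false
universe u

namespace Groth.Agent.Lib.Helper12.H12GeomRedConstr

open AlgebraicGeometry CategoryTheory Limits TopologicalSpace Topology Set.Notation
open Groth.Agent.Lib.Helper12.H12GeomRedGen Groth.Agent.Lib.Helper12.H12GeomRedNear

variable {X Y : Scheme.{u}}

/-- the locus of points with geometrically reduced fibre. -/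
def E (f : X ⟶ Y) : Set Y := {y : Y | GeometricallyReduced (f.fiberToSpecResidueField y)}

theorem E_of_isPullback {X' Y' : Scheme.{u}} (f : X ⟶ Y) (g : Y' ⟶ Y) (f' : X' ⟶ Y') (g' : X' ⟶ X)
    (hc : IsPullback g' f' f g) : E f' = g ⁻¹' E f :=
  Groth.Agent.S9735.result f g f' g' hc

/-- **Noetherian case**. -/
theorem isConstructible_E_of_noetherianSpace [NoetherianSpace Y] (f : X ⟶ Y)
    [LocallyOfFiniteType f] [QuasiCompact f] : IsConstructible (E f) := by
  have key := (Groth.Agent.Lib.Helper12.constructible_function_of_locally_constant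
    (fun y : Y => GeometricallyReduced (f.fiberToSpecResidueField y)) ?_).1 True
  · convert key using 1
    ext y
    simp [E]
  intro Z hZ hZirr
  set I := Scheme.IdealSheafData.vanishingIdeal ⟨Z, hZ⟩ with hI
  have hrange : Set.range I.subschemeι = Z := by
    rw [Scheme.IdealSheafData.range_subschemeι, Scheme.IdealSheafData.coe_support_vanishingIdeal]
    rfl
  set ι := I.subschemeι with hι
  haveI : IrreducibleSpace I.subscheme := by
    haveI : IrreducibleSpace (Set.range ι) := by
      rw [hrange]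
      exact Subtype.irreducibleSpace hZirr
    exact (ι.isEmbedding.toHomeomorph.irreducibleSpace_iff).mpr inferInstance
  let fZ := pullback.snd f ι
  have hE : E fZ = ι ⁻¹' E f :=
    E_of_isPullback f ι fZ (pullback.fst f ι) (IsPullback.of_hasPullback f ι)
  -- a nonempty open of the subscheme on which the property is constant
  obtain ⟨V', hV'ne, hV'⟩ : ∃ V' : I.subscheme.Opens, (V' : Set I.subscheme).Nonempty ∧
      ∀ a ∈ V', ∀ b ∈ V', (a ∈ E fZ ↔ b ∈ E fZ) := by
    by_cases hgen : genericPoint I.subscheme ∈ E fZ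
    · obtain ⟨V', hne, hV'⟩ := Groth.Agent.Lib.Helper12.H12GeomRedNear.main fZ hgen
      refine ⟨V', hne, ?_⟩
      have hall : ∀ a ∈ V', a ∈ E fZ := by
        intro a ha
        have h1 : E (fZ ∣_ V') = V'.ι ⁻¹' E fZ :=
          E_of_isPullback fZ V'.ι (fZ ∣_ V') (fZ ⁻¹ᵁ V').ι (isPullback_morphismRestrict fZ V').flip
        have h2 : (⟨a, ha⟩ : V') ∈ E (fZ ∣_ V') := by
          show GeometricallyReduced ((fZ ∣_ V').fiberToSpecResidueField ⟨a, ha⟩)
          infer_instance
        rw [h1] at h2
        exact h2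
      intro a ha b hb
      exact ⟨fun _ => hall b hb, fun _ => hall a ha⟩
    · obtain ⟨V', hne, hV'⟩ := Groth.Agent.Lib.Helper12.H12GeomRedGen.main fZ hgen
      refine ⟨V', hne, ?_⟩
      intro a ha b hb
      exact ⟨fun h => absurd h (hV' a ha), fun h => absurd h (hV' b hb)⟩
  obtain ⟨U, hU, hUV'⟩ := ι.isEmbedding.isInducing.isOpen_iff.mp V'.2
  refine ⟨U, hU, ?_, ?_⟩
  · obtain ⟨z, hz⟩ := hV'ne
    refine ⟨ι z, ?_, ?_⟩
    · have : z ∈ ι ⁻¹' U := by rw [hUV']; exact hz
      exact this
    · rw [← hrange]; exact ⟨z, rfl⟩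
  · rintro a ⟨haU, haZ⟩ b ⟨hbU, hbZ⟩
    rw [← hrange] at haZ hbZ
    obtain ⟨a', rfl⟩ := haZ
    obtain ⟨b', rfl⟩ := hbZ
    have ha' : a' ∈ V' := by
      have : a' ∈ ι ⁻¹' U := haU
      rw [hUV'] at this; exact this
    have hb' : b' ∈ V' := by
      have : b' ∈ ι ⁻¹' U := hbU
      rw [hUV'] at this; exact this
    have := hV' a' ha' b' hb'
    rw [hE] at this
    exact propext this

/-- **Affine finitely presented case**, by Noetherian approximation. -/
theorem isLocallyConstructible_E_of_isAffine (f : X ⟶ Y) [IsAffine X] [IsAffine Y]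
    [LocallyOfFinitePresentation f] : IsLocallyConstructible (E f) := by
  obtain ⟨X₀, S₀, f₀, g, g', hX₀, hS₀, hpb, hft, hf₀⟩ := Groth.Agent.S1460.result f
  have h1 : IsNoetherianRing Γ(S₀, ⊤) := Algebra.FiniteType.isNoetherianRing ℤ Γ(S₀, ⊤)
  haveI hN : NoetherianSpace S₀ := noetherianSpace_of_isAffine
  haveI : QuasiCompact f₀ := inferInstance
  have hc := isConstructible_E_of_noetherianSpace f₀
  rw [E_of_isPullback f₀ g f g' hpb]
  exact Groth.Agent.Lib.Helper14.AS.isLocallyConstructible_preimage g hc.isLocallyConstructible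

/-- geometric reducedness of a fibre can be checked on an open cover of the source. -/
theorem E_eq_iInter_of_cover (f : X ⟶ Y) (s : Set X.affineOpens)
    (hcov : ∀ x : X, ∃ U ∈ s, x ∈ (U : X.Opens)) :
    E f = ⋂ U ∈ s, E ((U : X.Opens).ι ≫ f) := by
  ext y
  simp only [Set.mem_iInter]
  constructor
  · intro hy U hU
    apply geometricallyReduced_fiber_of_forall
    intro K _ ψ hψ
    haveI : IsReduced (pullback f ψ) :=
      isReduced_pullback_of_geometricallyReduced_fiber f y hy K ψ (⊥ : PrimeSpectrum K) (hψ _)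
    let j : pullback ((U : X.Opens).ι ≫ f) ψ ⟶ pullback f ψ :=
      pullback.map _ _ _ _ (U : X.Opens).ι (𝟙 _) (𝟙 _) (by simp) (by simp)
    haveI : IsOpenImmersion j := by unfold j; infer_instance
    exact isReduced_of_isOpenImmersion j
  · intro H
    apply geometricallyReduced_fiber_of_forall
    intro K _ ψ hψ
    suffices H' : ∀ t : ↥(pullback f ψ), ∃ (W : Scheme.{u}) (j : W ⟶ pullback f ψ),
        IsOpenImmersion j ∧ IsReduced W ∧ t ∈ Set.range j by
      choose W j hj hW ht using H'
      let 𝒰 : (pullback f ψ).OpenCover :=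
        Scheme.Cover.mkOfCovers _ W j (fun t => ⟨t, ht t⟩) hj
      have : ∀ i, IsReduced (𝒰.X i) := hW
      exact IsReduced.of_openCover _ 𝒰
    intro t
    obtain ⟨U, hU, hxU⟩ := hcov (pullback.fst f ψ t)
    let j : pullback ((U : X.Opens).ι ≫ f) ψ ⟶ pullback f ψ :=
      pullback.map _ _ _ _ (U : X.Opens).ι (𝟙 _) (𝟙 _) (by simp) (by simp)
    haveI : IsOpenImmersion j := by unfold j; infer_instance
    refine ⟨_, j, inferInstance, ?_, ?_⟩
    · exact isReduced_pullback_of_geometricallyReduced_fiber _ y (H U hU) K ψ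
        (⊥ : PrimeSpectrum K) (hψ _)
    · unfold j
      rw [Scheme.Pullback.range_map]
      refine ⟨?_, ?_⟩
      · rw [Set.mem_preimage, Scheme.Opens.range_ι]
        exact hxU
      · rw [Set.mem_preimage]
        exact ⟨_, rfl⟩

/-- affine target. -/
theorem isLocallyConstructible_E_of_isAffine_target (f : X ⟶ Y) [IsAffine Y] [QuasiCompact f]
    [LocallyOfFinitePresentation f] : IsLocallyConstructible (E f) := by
  haveI : CompactSpace X := HasAffineProperty.iff_of_isAffine.mp ‹QuasiCompact f›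
  obtain ⟨s, hsfin, hseq⟩ := isCompact_iff_finite_and_eq_biUnion_affineOpens.mp
    (show IsCompact ((⊤ : X.Opens) : Set X) from isCompact_univ)
  have hcov : ∀ x : X, ∃ U ∈ s, x ∈ (U : X.Opens) := by
    intro x
    have hx : x ∈ (⊤ : X.Opens) := trivial
    rw [hseq] at hx
    simp only [TopologicalSpace.Opens.mem_iSup] at hx
    obtain ⟨U, hU, hxU⟩ := hx
    exact ⟨U, hU, hxU⟩
  rw [E_eq_iInter_of_cover f s hcov, Set.biInter_eq_iInter]
  haveI : Finite s := hsfin.to_subtype
  apply IsLocallyConstructible.iInter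
  intro U
  haveI : IsAffine ((U.1 : X.Opens) : Scheme.{u}) := U.1.2
  exact isLocallyConstructible_E_of_isAffine _

/-- **S1301**. -/
theorem main (f : X ⟶ Y) [QuasiCompact f] [LocallyOfFinitePresentation f] :
    IsLocallyConstructible (E f) := by
  refine IsLocallyConstructible.of_isOpenCover (U := fun i => (Y.affineCover.f i).opensRange)
    Y.affineCover.isOpenCover_opensRange ?_
  intro i
  set V := (Y.affineCover.f i).opensRange with hV
  haveI : IsAffine (V : Scheme.{u}) := isAffineOpen_opensRange (Y.affineCover.f i)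
  have h1 : E (f ∣_ V) = V.ι ⁻¹' E f :=
    E_of_isPullback f V.ι (f ∣_ V) (f ⁻¹ᵁ V).ι (isPullback_morphismRestrict f V).flip
  have h2 := isLocallyConstructible_E_of_isAffine_target (f ∣_ V)
  rw [h1] at h2
  exact h2

end Groth.Agent.Lib.Helper12.H12GeomRedConstr
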