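import Mathlib
import Groth.Agent.Lib.Helper12.FlexApprox
import Groth.Agent.Lib.Helper12.FibDimConstr
import Groth.Agent.Lib.Helper12.GeomRedConstr
import Groth.Agent.Lib.Helper21.CharCyc1

set_option autoImplicit false
universe u

namespace Groth.Agent.Lib.Helper12.H12FlexApproxApp

open AlgebraicGeometry CategoryTheory Limits TopologicalSpace Topology

theorem isLocallyNoetherian_of_finiteType {S₀ : Scheme.{u}} [IsAffine S₀]
    (hft : Algebra.FiniteType ℤ Γ(S₀, ⊤)) : IsLocallyNoetherian S₀ := by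
  have : IsNoetherianRing Γ(S₀, ⊤) := Algebra.FiniteType.isNoetherianRing ℤ _
  exact isLocallyNoetherian_of_isOpenImmersion S₀.isoSpec.hom

/-- S1464. -/
theorem approx_fibre_dimension {X S : Scheme.{u}} (f : X ⟶ S) [IsAffine X] [IsAffine S]
    [LocallyOfFinitePresentation f] (d : ℕ)
    (hd : ∀ s : S, topologicalKrullDim ↑(f.fiber s) = d) :
    ∃ (X₀ S₀ : Scheme.{u}) (f₀ : X₀ ⟶ S₀) (g : S ⟶ S₀) (g' : X ⟶ X₀), IsAffine X₀ ∧ IsAffine S₀ ∧
      IsPullback g' f f₀ g ∧ Algebra.FiniteType ℤ Γ(S₀, ⊤) ∧ LocallyOfFiniteType f₀ ∧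
      ∀ s₀ : S₀, topologicalKrullDim ↑(f₀.fiber s₀) = d := by
  obtain ⟨X₀, S₀, f₀, g, g', h1, h2, h3, h4, h5, h6⟩ := H12FlexApprox.approx f
    (fun {X S} (f : X ⟶ S) => {s : S | topologicalKrullDim ↑(f.fiber s) = (d : WithBot ℕ∞)})
    (by
      intro X' S' X S f' f g' g hpb hlft
      ext s'
      simp only [Set.mem_ofPred_eq, Set.mem_preimage]
      rw [Groth.Agent.Lib.Helper21.CharCyc.topologicalKrullDim_fiber_eq_of_isPullback hpb s'])
    (by
      intro X₀ S₀ f₀ hX₀ hS₀ hft hlft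
      have := isLocallyNoetherian_of_finiteType hft
      have : LocallyOfFinitePresentation f₀ := inferInstance
      have : QuasiCompact f₀ := inferInstance
      exact (H12FibDimConstr.main f₀ (d : WithBot ℕ∞)).isConstructible)
    (by
      ext s
      simp only [Set.mem_ofPred_eq, Set.mem_univ, iff_true]
      exact hd s)
  refine ⟨X₀, S₀, f₀, g, g', h1, h2, h3, h4, h5, fun s₀ => ?_⟩
  have : s₀ ∈ Set.univ := trivial
  rw [← h6] at this
  exact this

open Groth.Agent.Lib.Helper12.H12GeomRedConstr Groth.Agent.Lib.Helper12.H12GeomRedNear in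
theorem geometricallyReduced_iff_E {X Y : Scheme.{u}} (f : X ⟶ Y) :
    GeometricallyReduced f ↔ E f = Set.univ := by
  constructor
  · intro h
    ext y
    simp only [Set.mem_univ, iff_true]
    change GeometricallyReduced (f.fiberToSpecResidueField y)
    exact MorphismProperty.pullback_snd _ _ h
  · intro h
    rw [geometricallyReduced_iff, geometrically_iff_of_isClosedUnderIsomorphisms]
    intro K _ ψ
    let t : Spec (.of K) := (⊥ : PrimeSpectrum K)
    have hy : ψ t ∈ E f := by rw [h]; trivial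
    exact isReduced_pullback_of_geometricallyReduced_fiber f (ψ t) hy K ψ t rfl

open Groth.Agent.Lib.Helper12.H12GeomRedConstr in
/-- S1461. -/
theorem approx_geometricallyReduced {X S : Scheme.{u}} (f : X ⟶ S) [IsAffine X] [IsAffine S]
    [LocallyOfFinitePresentation f] [GeometricallyReduced f] :
    ∃ (X₀ S₀ : Scheme.{u}) (f₀ : X₀ ⟶ S₀) (g : S ⟶ S₀) (g' : X ⟶ X₀), IsAffine X₀ ∧ IsAffine S₀ ∧
      IsPullback g' f f₀ g ∧ Algebra.FiniteType ℤ Γ(S₀, ⊤) ∧ LocallyOfFiniteType f₀ ∧
      GeometricallyReduced f₀ := by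
  obtain ⟨X₀, S₀, f₀, g, g', h1, h2, h3, h4, h5, h6⟩ := H12FlexApprox.approx f
    (fun {X S} (f : X ⟶ S) => E f)
    (by
      intro X' S' X S f' f g' g hpb hlft
      exact E_of_isPullback f g f' g' hpb)
    (by
      intro X₀ S₀ f₀ hX₀ hS₀ hft hlft
      have : IsNoetherianRing Γ(S₀, ⊤) := Algebra.FiniteType.isNoetherianRing ℤ _
      have : NoetherianSpace S₀ := noetherianSpace_of_isAffine
      have : QuasiCompact f₀ := inferInstance
      exact isConstructible_E_of_noetherianSpace f₀)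
    ((geometricallyReduced_iff_E f).mp inferInstance)
  exact ⟨X₀, S₀, f₀, g, g', h1, h2, h3, h4, h5, (geometricallyReduced_iff_E f₀).mpr h6⟩

end Groth.Agent.Lib.Helper12.H12FlexApproxApp
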