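import Mathlib

set_option autoImplicit false
universe u

namespace Groth.Agent.Lib.Helper12.FrobBasis

open Polynomial

/-- A family `v` in a module with basis `e` (same finite index) whose transition matrix has unit
determinant is itself a basis. -/
theorem exists_basis_of_isUnit_det {R M ι : Type*} [CommRing R] [AddCommGroup M] [Module R M]
    [Fintype ι] [DecidableEq ι] (e : Module.Basis ι R M) (v : ι → M)
    (h : IsUnit (e.toMatrix v).det) : ∃ b : Module.Basis ι R M, ∀ i, b i = v i := by
  have h' : IsUnit (LinearMap.toMatrix e e (e.constr ℕ v)).det := by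
    rwa [← Module.Basis.toMatrix_eq_toMatrix_constr]
  refine ⟨e.map (LinearEquiv.ofIsUnitDet h'), fun i => ?_⟩
  rw [Module.Basis.map_apply]
  change (e.constr ℕ v) (e i) = v i
  rw [Module.Basis.constr_basis]

theorem pow_pow_injective {K : Type*} [Field K] (p : ℕ) [Fact p.Prime] [CharP K p] (s : ℕ) :
    Function.Injective (fun x : K => x ^ p ^ s) := by
  intro x y hxy
  have h : (x - y) ^ p ^ s = 0 := by
    rw [sub_pow_char_pow, sub_eq_zero]
    exact hxy
  exact sub_eq_zero.mp (pow_eq_zero_iff (pow_ne_zero _ (Fact.out : p.Prime).ne_zero) |>.mp h)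


theorem exists_roots_enum {K : Type*} [Field K] [IsAlgClosed K] (f : K[X]) (hsep : f.Separable) :
    ∃ θ : Fin f.natDegree → K, Function.Injective θ ∧ ∀ j, f.IsRoot (θ j) := by
  classical
  have hsplit : f.Splits := IsAlgClosed.splits f
  have hcard : f.roots.card = f.natDegree := splits_iff_card_roots.mp hsplit
  have hnodup : f.roots.Nodup := nodup_roots hsep
  have hcard' : f.roots.toFinset.card = f.natDegree := by
    rw [Multiset.toFinset_card_of_nodup hnodup, hcard]
  let e : Fin f.natDegree ≃ f.roots.toFinset := (Finset.equivFinOfCardEq hcard').symm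
  refine ⟨fun j => (e j : K), ?_, ?_⟩
  · intro a b hab
    exact e.injective (Subtype.ext hab)
  · intro j
    have := (e j).2
    rw [Multiset.mem_toFinset] at this
    exact isRoot_of_mem_roots this

theorem isUnit_det_toMatrix {A : Type u} [CommRing A] [IsLocalRing A] (p : ℕ) [Fact p.Prime]
    [CharP (IsLocalRing.ResidueField A) p] (g : A[X]) (hg : g.Monic) (hsep : g.Separable)
    (s : ℕ) :
    IsUnit ((AdjoinRoot.powerBasisAux' hg).toMatrix
      (fun i : Fin g.natDegree => AdjoinRoot.root g ^ (p ^ s * (i : ℕ)))).det := by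
  classical
  set n := g.natDegree with hn
  let k := IsLocalRing.ResidueField A
  let K := AlgebraicClosure k
  let φ : A →+* K := (algebraMap k K).comp (IsLocalRing.residue A)
  haveI : CharP K p := charP_of_injective_algebraMap (algebraMap k K).injective p
  have hgK_monic : (g.map φ).Monic := hg.map φ
  have hgK_sep : (g.map φ).Separable := hsep.map
  have hdeg : (g.map φ).natDegree = n := hg.natDegree_map φ
  obtain ⟨θ₀, hθ₀inj, hθ₀root⟩ := exists_roots_enum (g.map φ) hgK_sep
  let θ : Fin n → K := fun j => θ₀ (Fin.cast hdeg.symm j)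
  have hθinj : Function.Injective θ := fun a b hab => by
    have := hθ₀inj hab
    exact Fin.cast_injective _ this
  have hθroot : ∀ j, eval₂ φ (θ j) g = 0 := by
    intro j
    have := hθ₀root (Fin.cast hdeg.symm j)
    rw [IsRoot.def, eval_map] at this
    exact this
  let ev : Fin n → (AdjoinRoot g →+* K) := fun j => AdjoinRoot.lift φ (θ j) (hθroot j)
  set e := AdjoinRoot.powerBasisAux' hg with he
  set v : Fin n → AdjoinRoot g := fun i => AdjoinRoot.root g ^ (p ^ s * (i : ℕ)) with hv
  set M := e.toMatrix v with hM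
  have hei : ∀ i : Fin n, e i = AdjoinRoot.root g ^ (i : ℕ) :=
    fun i => (AdjoinRoot.powerBasis' hg).basis_eq_pow i
  have hrel : ∀ (j i : Fin n), (θ j ^ p ^ s) ^ (i : ℕ) = ∑ l : Fin n, θ j ^ (l : ℕ) * φ (M l i) := by
    intro j i
    have h1 : v i = ∑ l, M l i • e l := (e.sum_toMatrix_smul_self v i).symm
    have h2 := congrArg (ev j) h1
    rw [map_sum] at h2
    have h3 : ev j (v i) = (θ j ^ p ^ s) ^ (i : ℕ) := by
      change ev j (AdjoinRoot.root g ^ (p ^ s * (i : ℕ))) = _
      rw [map_pow, AdjoinRoot.lift_root, pow_mul]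
    rw [h3] at h2
    rw [h2]
    refine Finset.sum_congr rfl (fun l _ => ?_)
    rw [Algebra.smul_def, map_mul, AdjoinRoot.algebraMap_eq, AdjoinRoot.lift_of, hei l, map_pow,
      AdjoinRoot.lift_root, mul_comm]
  have hmat : Matrix.vandermonde (fun j => θ j ^ p ^ s) = Matrix.vandermonde θ * M.map φ := by
    ext j i
    rw [Matrix.vandermonde_apply, Matrix.mul_apply, hrel j i]
    refine Finset.sum_congr rfl (fun l _ => ?_)
    rw [Matrix.vandermonde_apply, Matrix.map_apply]
  have hdet1 : (Matrix.vandermonde (fun j => θ j ^ p ^ s)).det ≠ 0 := by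
    rw [Matrix.det_vandermonde_ne_zero_iff]
    exact (pow_pow_injective p s).comp hθinj
  have hdet2 : φ M.det ≠ 0 := by
    intro h0
    apply hdet1
    rw [hmat, Matrix.det_mul]
    have : (M.map φ).det = φ M.det := (RingHom.map_det φ M).symm
    rw [this, h0, mul_zero]
  rw [← IsLocalRing.residue_ne_zero_iff_isUnit]
  intro h0
  apply hdet2
  change algebraMap k K (IsLocalRing.residue A M.det) = 0
  rw [h0, map_zero]

theorem exists_basis_pow {A : Type u} [CommRing A] [IsLocalRing A] (p : ℕ) [Fact p.Prime]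
    [CharP (IsLocalRing.ResidueField A) p] (g : A[X]) (hg : g.Monic) (hsep : g.Separable)
    (s : ℕ) :
    ∃ b : Module.Basis (Fin g.natDegree) A (AdjoinRoot g),
      ∀ i : Fin g.natDegree, b i = AdjoinRoot.root g ^ (p ^ s * (i : ℕ)) :=
  exists_basis_of_isUnit_det (AdjoinRoot.powerBasisAux' hg) _ (isUnit_det_toMatrix p g hg hsep s)

end Groth.Agent.Lib.Helper12.FrobBasis
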