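import Mathlib

set_option autoImplicit false
universe u

namespace Groth.Agent.Lib.Helper12.H12PIRed

open TensorProduct

section core

variable {k k' P B : Type u} [Field k] [Field k'] [Field P] [Algebra k k'] [Algebra k' P]
  [Algebra k P] [IsScalarTower k k' P] [CommRing B] [Algebra k B]

theorem cancel_one_tmul (c : k' ⊗[k] B) :
    (Algebra.TensorProduct.cancelBaseChange k k' P P B) ((1 : P) ⊗ₜ[k'] c) =
    Algebra.TensorProduct.map (IsScalarTower.toAlgHom k k' P) (AlgHom.id k B) c := by
  induction c using TensorProduct.induction_on with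
  | zero => simp
  | tmul l b => simp [Algebra.smul_def]
  | add x y hx hy => simp only [tmul_add, map_add, hx, hy]

theorem map_injective :
    Function.Injective (Algebra.TensorProduct.map (IsScalarTower.toAlgHom k k' P) (AlgHom.id k B)) := by
  intro x y hxy
  rw [← cancel_one_tmul, ← cancel_one_tmul] at hxy
  have h1 := (Algebra.TensorProduct.cancelBaseChange k k' P P B).injective hxy
  exact Algebra.TensorProduct.includeRight_injective (R := k') (A := P) (B := k' ⊗[k] B)
    (algebraMap k' P).injective h1

set_option maxHeartbeats 1600000 in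
theorem smooth_of_range
    (hsm : Algebra.Smooth P ((P ⊗[k] B) ⧸ nilradical (P ⊗[k] B)))
    (s : Finset (P ⊗[k] B)) (hs : Ideal.span (s : Set (P ⊗[k] B)) = nilradical (P ⊗[k] B))
    (hrange : ∀ x ∈ s, x ∈
      (Algebra.TensorProduct.map (IsScalarTower.toAlgHom k k' P) (AlgHom.id k B)).range) :
    Algebra.Smooth k' ((k' ⊗[k] B) ⧸ nilradical (k' ⊗[k] B)) := by
  classical
  set φ := Algebra.TensorProduct.map (IsScalarTower.toAlgHom k k' P) (AlgHom.id k B) with hφ
  let e := Algebra.TensorProduct.cancelBaseChange k k' P P B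
  have hrange' : ∀ x ∈ s, ∃ c, φ c = x := hrange
  choose! ν' hν' using hrange'
  let N' : Ideal (k' ⊗[k] B) := Ideal.span (ν' '' (s : Set (P ⊗[k] B)))
  have h5 : nilradical (P ⊗[k] B) =
      Ideal.map (e : P ⊗[k'] (k' ⊗[k] B) →+* P ⊗[k] B)
        (N'.map (Algebra.TensorProduct.includeRight (R := k') (A := P) (B := k' ⊗[k] B))) := by
    change _ = Ideal.map _ (Ideal.map _ (Ideal.span _))
    rw [Ideal.map_span, Ideal.map_span, ← hs, Set.image_image, Set.image_image]
    congr 1
    have key : ∀ y ∈ s, e (Algebra.TensorProduct.includeRight (R := k') (A := P)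
        (B := k' ⊗[k] B) (ν' y)) = y := by
      intro y hy
      have := cancel_one_tmul (P := P) (ν' y)
      rw [hν' y hy] at this
      exact this
    ext x
    simp only [Set.mem_image, Finset.mem_coe]
    constructor
    · intro hx
      exact ⟨x, hx, key x hx⟩
    · rintro ⟨y, hy, rfl⟩
      have := key y hy
      simp only [RingHom.coe_coe] at this ⊢
      rw [this]
      exact hy
  let E1 := Algebra.TensorProduct.tensorQuotientEquiv (R := k') P (k' ⊗[k] B) P N'
  let E2 := Ideal.quotientEquivAlg _ _ e h5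
  haveI : Algebra.Smooth P (P ⊗[k'] ((k' ⊗[k] B) ⧸ N')) :=
    Algebra.Smooth.of_equiv (E1.trans E2).symm
  haveI hsm' : Algebra.Smooth k' ((k' ⊗[k] B) ⧸ N') :=
    Algebra.Smooth.of_smooth_tensorProduct_of_faithfullyFlat P
  haveI hred0 : IsReduced ((P ⊗[k] B) ⧸ nilradical (P ⊗[k] B)) :=
    (Ideal.isRadical_iff_quotient_reduced _).mp (Ideal.radical_isRadical _)
  haveI hred1 : IsReduced (P ⊗[k'] ((k' ⊗[k] B) ⧸ N')) :=
    isReduced_of_injective (E1.trans E2).toRingEquiv.toRingHom (E1.trans E2).injective
  haveI hred2 : IsReduced ((k' ⊗[k] B) ⧸ N') :=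
    isReduced_of_injective
      (Algebra.TensorProduct.includeRight (R := k') (A := P) (B := (k' ⊗[k] B) ⧸ N'))
      (Algebra.TensorProduct.includeRight_injective (algebraMap k' P).injective)
  have hN' : N' = nilradical (k' ⊗[k] B) := by
    apply le_antisymm
    · rw [Ideal.span_le]
      rintro _ ⟨x, hx, rfl⟩
      rw [SetLike.mem_coe, mem_nilradical]
      have h1 : IsNilpotent (φ (ν' x)) := by
        rw [hν' x hx, ← mem_nilradical, ← hs]
        exact Ideal.subset_span hx
      exact (IsNilpotent.map_iff map_injective).mp h1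
    · intro x hx
      rw [mem_nilradical] at hx
      have h1 : IsNilpotent (Ideal.Quotient.mk N' x) := hx.map _
      have h2 : Ideal.Quotient.mk N' x = 0 := h1.eq_zero
      exact Ideal.Quotient.eq_zero_iff_mem.mp h2
  exact Algebra.Smooth.of_equiv (Ideal.quotientEquivAlgOfEq k' hN')

end core

section finiteLevel

variable {k P B : Type u} [Field k] [Field P] [Algebra k P] [CommRing B] [Algebra k B]

/-- the map `L ⊗ B → P ⊗ B` for an intermediate field `L`. -/
noncomputable abbrev incl (L : IntermediateField k P) : L ⊗[k] B →ₐ[k] P ⊗[k] B :=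
  Algebra.TensorProduct.map L.val (AlgHom.id k B)

theorem range_incl_mono {L L' : IntermediateField k P} (h : L ≤ L') :
    (incl (B := B) L).range ≤ (incl (B := B) L').range := by
  have : incl (B := B) L = (incl (B := B) L').comp
      (Algebra.TensorProduct.map (IntermediateField.inclusion h) (AlgHom.id k B)) := by
    ext <;> simp [incl]
  rw [this]
  exact AlgHom.range_comp_le_range _ _

theorem exists_finite_mem_range [Algebra.IsAlgebraic k P] (x : P ⊗[k] B) :
    ∃ L : IntermediateField k P, FiniteDimensional k L ∧ x ∈ (incl (B := B) L).range := by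
  induction x using TensorProduct.induction_on with
  | zero => exact ⟨⊥, inferInstance, zero_mem _⟩
  | tmul c b =>
    refine ⟨IntermediateField.adjoin k {c}, ?_, ?_⟩
    · exact IntermediateField.adjoin.finiteDimensional (Algebra.IsIntegral.isIntegral c)
    · refine ⟨(⟨c, IntermediateField.mem_adjoin_simple_self k c⟩ : IntermediateField.adjoin k {c})
        ⊗ₜ b, ?_⟩
      simp [incl]
  | add x y hx hy =>
    obtain ⟨L₁, h₁, hx⟩ := hx
    obtain ⟨L₂, h₂, hy⟩ := hy
    refine ⟨L₁ ⊔ L₂, inferInstance, ?_⟩
    exact add_mem (range_incl_mono le_sup_left hx) (range_incl_mono le_sup_right hy)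

theorem exists_finite_forall_mem_range [Algebra.IsAlgebraic k P] (s : Finset (P ⊗[k] B)) :
    ∃ L : IntermediateField k P, FiniteDimensional k L ∧ ∀ x ∈ s, x ∈ (incl (B := B) L).range := by
  classical
  induction s using Finset.induction_on with
  | empty => exact ⟨⊥, inferInstance, by simp⟩
  | insert a s ha ih =>
    obtain ⟨L₁, h₁, hL₁⟩ := ih
    obtain ⟨L₂, h₂, hL₂⟩ := exists_finite_mem_range a
    refine ⟨L₁ ⊔ L₂, inferInstance, ?_⟩
    intro x hx
    rw [Finset.mem_insert] at hx
    rcases hx with rfl | hx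
    · exact range_incl_mono le_sup_right hL₂
    · exact range_incl_mono le_sup_left (hL₁ x hx)


theorem exists_finite_smooth [Algebra.IsAlgebraic k P] [Algebra.FiniteType k B]
    (hsm : Algebra.Smooth P ((P ⊗[k] B) ⧸ nilradical (P ⊗[k] B))) :
    ∃ (k' : Type u) (_ : Field k') (_ : Algebra k k') (_ : Algebra k' P)
      (_ : IsScalarTower k k' P), Module.Finite k k' ∧
      Algebra.Smooth k' ((k' ⊗[k] B) ⧸ nilradical (k' ⊗[k] B)) := by
  haveI : Algebra.FiniteType P (P ⊗[k] B) := inferInstance
  haveI : IsNoetherianRing (P ⊗[k] B) := Algebra.FiniteType.isNoetherianRing P _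
  obtain ⟨s, hs⟩ := (isNoetherianRing_iff_ideal_fg _).mp inferInstance (nilradical (P ⊗[k] B))
  obtain ⟨L, hL, hrange⟩ := exists_finite_forall_mem_range (B := B) s
  exact ⟨L, inferInstance, inferInstance, inferInstance, inferInstance, hL,
    smooth_of_range (k' := L) hsm s hs hrange⟩

end finiteLevel

end Groth.Agent.Lib.Helper12.H12PIRed
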