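import Mathlib
import Groth.Agent.Lib.Helper12.PIRed1

set_option autoImplicit false
universe u

namespace Groth.Agent.Lib.Helper12.H12PIRed

open TensorProduct


/-- localization commutes with passing to the reduction. -/
theorem isLocalization_away_quotient_nilradical {T T' : Type*} [CommRing T] [CommRing T']
    [Algebra T T'] (t : T) [IsLocalization.Away t T']
    [Algebra (T ⧸ nilradical T) (T' ⧸ nilradical T')]
    (hcomp : ∀ a : T, algebraMap (T ⧸ nilradical T) (T' ⧸ nilradical T') (Ideal.Quotient.mk _ a) =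
      Ideal.Quotient.mk _ (algebraMap T T' a)) :
    IsLocalization.Away (Ideal.Quotient.mk (nilradical T) t) (T' ⧸ nilradical T') := by
  rw [IsLocalization.Away, isLocalization_iff]
  refine ⟨?_, ?_, ?_⟩
  · rintro ⟨y, n, hn⟩
    have hy : y = Ideal.Quotient.mk (nilradical T) (t ^ n) := by rw [map_pow]; exact hn.symm
    change IsUnit (algebraMap (T ⧸ nilradical T) (T' ⧸ nilradical T') y)
    rw [hy, hcomp]
    exact (IsLocalization.map_units T' (⟨t ^ n, n, rfl⟩ : Submonoid.powers t)).map _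
  · intro z
    obtain ⟨x, rfl⟩ := Ideal.Quotient.mk_surjective z
    obtain ⟨⟨a, ⟨s, n, hn⟩⟩, ha⟩ := IsLocalization.surj (Submonoid.powers t) x
    refine ⟨⟨Ideal.Quotient.mk _ a, ⟨Ideal.Quotient.mk _ s, n, ?_⟩⟩, ?_⟩
    · change Ideal.Quotient.mk _ t ^ n = _
      rw [← map_pow]; exact congrArg _ hn
    · change Ideal.Quotient.mk _ x * algebraMap _ _ (Ideal.Quotient.mk _ s) =
        algebraMap _ _ (Ideal.Quotient.mk _ a)
      rw [hcomp, hcomp, ← map_mul]
      exact congrArg _ ha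
  · intro x y hxy
    obtain ⟨a, rfl⟩ := Ideal.Quotient.mk_surjective x
    obtain ⟨b, rfl⟩ := Ideal.Quotient.mk_surjective y
    rw [hcomp, hcomp, Ideal.Quotient.eq, ← map_sub, mem_nilradical] at hxy
    obtain ⟨n, hn⟩ := hxy
    rw [← map_pow, ← (algebraMap T T').map_zero] at hn
    obtain ⟨⟨s, m, hm'⟩, hm⟩ := IsLocalization.exists_of_eq (M := Submonoid.powers t) hn
    simp only [mul_zero] at hm
    refine ⟨⟨Ideal.Quotient.mk _ s, m, ?_⟩, ?_⟩
    · change Ideal.Quotient.mk _ t ^ m = _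
      rw [← map_pow]; exact congrArg _ hm'
    · change Ideal.Quotient.mk _ s * Ideal.Quotient.mk _ a =
        Ideal.Quotient.mk _ s * Ideal.Quotient.mk _ b
      rw [← map_mul, ← map_mul, Ideal.Quotient.eq, ← mul_sub, mem_nilradical]
      refine ⟨n + 1, ?_⟩
      rw [mul_pow, pow_succ (a - b), pow_succ s]
      calc s ^ n * s * ((a - b) ^ n * (a - b))
          = s ^ n * (a - b) * (s * (a - b) ^ n) := by ring
        _ = 0 := by rw [hm, mul_zero]



section homeo

variable (k P A : Type u) [Field k] [Field P] [Algebra k P] [CommRing A] [Algebra k A]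

/-- `A → (P ⊗ A)_red`. -/
noncomputable def toRed : A →+* (P ⊗[k] A) ⧸ nilradical (P ⊗[k] A) :=
  (Ideal.Quotient.mk _).comp
    (Algebra.TensorProduct.includeRight (R := k) (A := P) (B := A)).toRingHom

theorem toRed_apply (a : A) : toRed k P A a = Ideal.Quotient.mk _ ((1 : P) ⊗ₜ[k] a) := rfl

theorem isHomeomorph_comap_toRed [IsPurelyInseparable k P] :
    IsHomeomorph (PrimeSpectrum.comap (toRed k P A)) := by
  apply PrimeSpectrum.isHomeomorph_comap
  · intro x
    obtain ⟨y, rfl⟩ := Ideal.Quotient.mk_surjective x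
    obtain ⟨n, hn, a, ha⟩ := IsPurelyInseparable.exists_pow_mem_range_tensorProduct
      (Algebra.TensorProduct.comm k P A y)
    refine ⟨n, hn, a, ?_⟩
    rw [toRed_apply, ← map_pow]
    congr 1
    apply (Algebra.TensorProduct.comm k P A).injective
    rw [map_pow, ← ha]
    simp [Algebra.TensorProduct.algebraMap_apply]
  · intro a ha
    rw [RingHom.mem_ker, toRed_apply, Ideal.Quotient.eq_zero_iff_mem, mem_nilradical] at ha
    obtain ⟨n, hn⟩ := ha
    rw [mem_nilradical]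
    refine ⟨n, ?_⟩
    have h1 : Algebra.TensorProduct.includeRight (R := k) (A := P) (B := A) (a ^ n) = 0 := by
      rw [map_pow]; exact hn
    exact (Algebra.TensorProduct.includeRight_injective (algebraMap k P).injective)
      (h1.trans (map_zero _).symm)

end homeo



theorem isField_localization_atPrime_of_minimal {A : Type*} [CommRing A] [IsReduced A]
    (p : Ideal A) [p.IsPrime]
    (hp : p ∈ minimalPrimes A) : IsField (Localization.AtPrime p) := by
  have h1 := IsLocalization.AtPrime.radical_map_of_mem_minimalPrimes (A := Localization.AtPrime p)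
    p ⊥ hp
  rw [Ideal.map_bot, IsLocalization.AtPrime.map_eq_maximalIdeal] at h1
  have h2 : (⊥ : Ideal (Localization.AtPrime p)).radical = ⊥ :=
    nilradical_eq_bot_iff.mpr inferInstance
  rw [h2] at h1
  exact IsLocalRing.isField_iff_maximalIdeal_eq.mpr h1.symm

theorem minimal_mem_smoothLocus (P R : Type u) [Field P] [PerfectField P] [CommRing R]
    [Algebra P R] [Algebra.FiniteType P R] [IsReduced R] (𝔭 : PrimeSpectrum R)
    (h : 𝔭.asIdeal ∈ minimalPrimes R) : 𝔭 ∈ Algebra.smoothLocus P R := by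
  change Algebra.FormallySmooth P (Localization.AtPrime 𝔭.asIdeal)
  have hF := isField_localization_atPrime_of_minimal 𝔭.asIdeal h
  letI := hF.toField
  haveI : Algebra.EssFiniteType R (Localization.AtPrime 𝔭.asIdeal) :=
    .of_isLocalization _ 𝔭.asIdeal.primeCompl
  haveI : Algebra.EssFiniteType P (Localization.AtPrime 𝔭.asIdeal) := .comp _ R _
  exact Algebra.FormallySmooth.of_perfectField



theorem dense_basicOpen_of_forall_minimalPrimes {A : Type*} [CommRing A] (g : A)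
    (hg : ∀ 𝔭 ∈ minimalPrimes A, g ∉ 𝔭) : Dense (PrimeSpectrum.basicOpen g : Set (PrimeSpectrum A)) := by
  rw [dense_iff_inter_open]
  rintro U hU ⟨x, hx⟩
  obtain ⟨_, ⟨h, rfl⟩, hxh, hhU⟩ :=
    PrimeSpectrum.isTopologicalBasis_basic_opens.exists_subset_of_mem_open hx hU
  obtain ⟨𝔭, h𝔭, h𝔭x⟩ := Ideal.exists_minimalPrimes_le (bot_le (a := x.asIdeal))
  haveI : 𝔭.IsPrime := h𝔭.1.1
  refine ⟨⟨𝔭, inferInstance⟩, hhU ?_, ?_⟩
  · intro hh
    exact hxh (h𝔭x hh)
  · exact hg 𝔭 h𝔭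

theorem exists_basicOpen_dense_disjoint {A : Type*} [CommRing A] [IsNoetherianRing A]
    (C : Set (PrimeSpectrum A)) (hC : IsClosed C)
    (hmin : ∀ 𝔭 : PrimeSpectrum A, 𝔭.asIdeal ∈ minimalPrimes A → 𝔭 ∉ C) :
    ∃ g : A, Dense (PrimeSpectrum.basicOpen g : Set (PrimeSpectrum A)) ∧
      Disjoint (PrimeSpectrum.basicOpen g : Set (PrimeSpectrum A)) C := by
  classical
  set J := PrimeSpectrum.vanishingIdeal C with hJ
  have hzJ : PrimeSpectrum.zeroLocus (J : Set A) = C := by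
    rw [hJ, PrimeSpectrum.zeroLocus_vanishingIdeal_eq_closure, hC.closure_eq]
  have hfin : (minimalPrimes A).Finite := minimalPrimes.finite_of_isNoetherianRing A
  have h1 : ¬ ((J : Set A) ⊆ ⋃ p ∈ (hfin.toFinset : Set (Ideal A)), (p : Set A)) := by
    rw [Ideal.subset_union_prime (R := A) (f := fun p : Ideal A => p) ⊥ ⊥ (fun p hp _ _ =>
      (hfin.mem_toFinset.mp hp).1.1)]
    rintro ⟨p, hp, hJp⟩
    have hp' := hfin.mem_toFinset.mp hp
    haveI : p.IsPrime := hp'.1.1
    refine hmin ⟨p, inferInstance⟩ hp' ?_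
    rw [← hzJ]
    exact hJp
  rw [Set.not_subset] at h1
  obtain ⟨g, hgJ, hg⟩ := h1
  refine ⟨g, dense_basicOpen_of_forall_minimalPrimes g ?_, ?_⟩
  · intro 𝔭 h𝔭 hg𝔭
    apply hg
    simp only [Set.mem_iUnion]
    exact ⟨𝔭, by simpa using h𝔭, hg𝔭⟩
  · rw [Set.disjoint_left]
    intro x hx hxC
    apply hx
    have : x ∈ PrimeSpectrum.zeroLocus (J : Set A) := by rw [hzJ]; exact hxC
    exact this hgJ


section main

variable (k P A : Type u) [Field k] [Field P] [PerfectField P] [Algebra k P]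
  [IsPurelyInseparable k P] [CommRing A] [Algebra k A] [Algebra.FiniteType k A]

set_option maxHeartbeats 1600000 in
theorem exists_dense_basicOpen_smooth :
    ∃ g : A, Dense (PrimeSpectrum.basicOpen g : Set (PrimeSpectrum A)) ∧
      ∀ (B : Type u) [CommRing B] [Algebra A B] [Algebra k B] [IsScalarTower k A B]
        [IsLocalization.Away g B],
        Algebra.Smooth P ((P ⊗[k] B) ⧸ nilradical (P ⊗[k] B)) := by
  set R := (P ⊗[k] A) ⧸ nilradical (P ⊗[k] A) with hR
  haveI : IsReduced R := (Ideal.isRadical_iff_quotient_reduced _).mp (Ideal.radical_isRadical _)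
  haveI : Algebra.FiniteType P R := inferInstance
  haveI : IsNoetherianRing A := Algebra.FiniteType.isNoetherianRing k A
  have hhomeo := isHomeomorph_comap_toRed k P A
  haveI : Algebra.FinitePresentation P R := Algebra.FinitePresentation.of_finiteType.mp inferInstance
  set C : Set (PrimeSpectrum A) :=
    PrimeSpectrum.comap (toRed k P A) '' (Algebra.smoothLocus P R)ᶜ with hC
  have hCclosed : IsClosed C :=
    hhomeo.isClosedMap _ Algebra.isOpen_smoothLocus.isClosed_compl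
  have hmin : ∀ 𝔭 : PrimeSpectrum A, 𝔭.asIdeal ∈ minimalPrimes A → 𝔭 ∉ C := by
    rintro 𝔭 h𝔭 ⟨𝔮, h𝔮, rfl⟩
    apply h𝔮
    apply minimal_mem_smoothLocus
    refine ⟨⟨𝔮.2, bot_le⟩, ?_⟩
    rintro 𝔮' ⟨h𝔮'prime, -⟩ h𝔮'le
    have h1 : (PrimeSpectrum.comap (toRed k P A) ⟨𝔮', h𝔮'prime⟩).asIdeal ≤
        (PrimeSpectrum.comap (toRed k P A) 𝔮).asIdeal := Ideal.comap_mono h𝔮'le
    have h2 := h𝔭.2 ⟨(PrimeSpectrum.comap (toRed k P A) ⟨𝔮', h𝔮'prime⟩).2, bot_le⟩ h1
    have h3 : PrimeSpectrum.comap (toRed k P A) ⟨𝔮', h𝔮'prime⟩ =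
        PrimeSpectrum.comap (toRed k P A) 𝔮 := PrimeSpectrum.ext (le_antisymm h1 h2)
    have h4 := hhomeo.injective h3
    rw [← h4]
  obtain ⟨g, hgd, hgC⟩ := exists_basicOpen_dense_disjoint C hCclosed hmin
  refine ⟨g, hgd, ?_⟩
  intro B _ _ _ _ _
  let χ₀ : (P ⊗[k] A) →ₐ[P] (P ⊗[k] B) :=
    Algebra.TensorProduct.map (AlgHom.id P P) (IsScalarTower.toAlgHom k A B)
  letI algTT' : Algebra (P ⊗[k] A) (P ⊗[k] B) := χ₀.toRingHom.toAlgebra
  haveI : IsScalarTower P (P ⊗[k] A) (P ⊗[k] B) :=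
    IsScalarTower.of_algebraMap_eq (fun p => (χ₀.commutes p).symm)
  have H : (algebraMap (P ⊗[k] A) (P ⊗[k] B)).comp
      (Algebra.TensorProduct.includeRight (R := k) (A := P) (B := A)).toRingHom =
      (Algebra.TensorProduct.includeRight (R := k) (A := P) (B := B)).toRingHom.comp
        (algebraMap A B) := by
    ext a
    simp [RingHom.algebraMap_toAlgebra, χ₀]
  haveI hloc : IsLocalization.Away ((1 : P) ⊗ₜ[k] g) (P ⊗[k] B) := by
    have := IsLocalization.tensorProduct_tensorProduct_right k P (Submonoid.powers g) B H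
    rwa [Submonoid.map_powers] at this
  have hnil : nilradical (P ⊗[k] A) ≤
      (nilradical (P ⊗[k] B)).comap (algebraMap (P ⊗[k] A) (P ⊗[k] B)) := fun x hx =>
    mem_nilradical.mpr ((mem_nilradical.mp hx).map _)
  letI algRR : Algebra ((P ⊗[k] A) ⧸ nilradical (P ⊗[k] A))
      ((P ⊗[k] B) ⧸ nilradical (P ⊗[k] B)) :=
    (Ideal.quotientMap _ (algebraMap (P ⊗[k] A) (P ⊗[k] B)) hnil).toAlgebra
  have hcomp : ∀ a : P ⊗[k] A, algebraMap ((P ⊗[k] A) ⧸ nilradical (P ⊗[k] A))
      ((P ⊗[k] B) ⧸ nilradical (P ⊗[k] B)) (Ideal.Quotient.mk _ a) =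
      Ideal.Quotient.mk _ (algebraMap (P ⊗[k] A) (P ⊗[k] B) a) := fun a =>
    Ideal.quotientMap_mk
  haveI hlocR := isLocalization_away_quotient_nilradical ((1 : P) ⊗ₜ[k] g) hcomp
  haveI : IsScalarTower P ((P ⊗[k] A) ⧸ nilradical (P ⊗[k] A))
      ((P ⊗[k] B) ⧸ nilradical (P ⊗[k] B)) := by
    have hst : ∀ p : P, algebraMap P ((P ⊗[k] B) ⧸ nilradical (P ⊗[k] B)) p =
        algebraMap ((P ⊗[k] A) ⧸ nilradical (P ⊗[k] A)) ((P ⊗[k] B) ⧸ nilradical (P ⊗[k] B))
          (algebraMap P ((P ⊗[k] A) ⧸ nilradical (P ⊗[k] A)) p) := by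
      intro p
      change Ideal.Quotient.mk _ (algebraMap P (P ⊗[k] B) p) =
        algebraMap _ _ (Ideal.Quotient.mk _ (algebraMap P (P ⊗[k] A) p))
      rw [hcomp, ← IsScalarTower.algebraMap_apply]
    exact IsScalarTower.of_algebraMap_eq hst
  have hsl := Algebra.smoothLocus_comap_of_isLocalization (R := P)
    (A := (P ⊗[k] A) ⧸ nilradical (P ⊗[k] A)) (Af := (P ⊗[k] B) ⧸ nilradical (P ⊗[k] B))
    (Ideal.Quotient.mk _ ((1 : P) ⊗ₜ[k] g))
  have huniv : Algebra.smoothLocus P ((P ⊗[k] B) ⧸ nilradical (P ⊗[k] B)) = Set.univ := by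
    rw [← hsl, Set.eq_univ_iff_forall]
    intro 𝔮
    rw [Set.mem_preimage]
    by_contra hcon
    have hx : PrimeSpectrum.comap (toRed k P A) (PrimeSpectrum.comap (algebraMap _ _) 𝔮) ∈
        (PrimeSpectrum.basicOpen g : Set (PrimeSpectrum A)) := by
      intro hg
      have hg' : algebraMap ((P ⊗[k] A) ⧸ nilradical (P ⊗[k] A))
          ((P ⊗[k] B) ⧸ nilradical (P ⊗[k] B)) (Ideal.Quotient.mk _ ((1 : P) ⊗ₜ[k] g)) ∈
          𝔮.asIdeal := hg
      exact 𝔮.2.ne_top (Ideal.eq_top_of_isUnit_mem _ hg'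
        (IsLocalization.map_units _ (⟨_, 1, pow_one _⟩ :
          Submonoid.powers (Ideal.Quotient.mk (nilradical (P ⊗[k] A)) ((1 : P) ⊗ₜ[k] g)))))
    exact Set.disjoint_left.mp hgC hx ⟨_, hcon, rfl⟩
  haveI : Algebra.FiniteType A B := IsLocalization.finiteType_of_monoid_fg (Submonoid.powers g) B
  haveI : Algebra.FiniteType k B := Algebra.FiniteType.trans (inferInstance : Algebra.FiniteType k A)
    inferInstance
  haveI : Algebra.FiniteType P ((P ⊗[k] B) ⧸ nilradical (P ⊗[k] B)) := inferInstance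
  haveI : Algebra.FinitePresentation P ((P ⊗[k] B) ⧸ nilradical (P ⊗[k] B)) :=
    Algebra.FinitePresentation.of_finiteType.mp inferInstance
  exact ⟨Algebra.smoothLocus_eq_univ_iff.mp huniv, inferInstance⟩

end main

end Groth.Agent.Lib.Helper12.H12PIRed
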