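import Mathlib
import Groth.Agent.Lib.Helper12.PIRed2

set_option autoImplicit false
universe u

namespace Groth.Agent.Lib.Helper12.H12PIRed

open TensorProduct

theorem exists_smooth_reduction (k A : Type u) [Field k] [CommRing A] [Algebra k A]
    [Algebra.FiniteType k A] :
    ∃ g : A, Dense (PrimeSpectrum.basicOpen g : Set (PrimeSpectrum A)) ∧
      ∀ (B : Type u) [CommRing B] [Algebra A B] [Algebra k B] [IsScalarTower k A B]
        [IsLocalization.Away g B],
        ∃ (k' : Type u) (_ : Field k') (_ : Algebra k k'), Module.Finite k k' ∧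
          IsPurelyInseparable k k' ∧
          Algebra.Smooth k' ((k' ⊗[k] B) ⧸ nilradical (k' ⊗[k] B)) := by
  let P : Type u := ↥(perfectClosure k (AlgebraicClosure k))
  obtain ⟨g, hgd, hg⟩ := exists_dense_basicOpen_smooth k P A
  refine ⟨g, hgd, ?_⟩
  intro B _ _ _ _ _
  haveI : Algebra.FiniteType A B := IsLocalization.finiteType_of_monoid_fg (Submonoid.powers g) B
  haveI : Algebra.FiniteType k B := Algebra.FiniteType.trans (inferInstance : Algebra.FiniteType k A)
    inferInstance
  obtain ⟨k', _, _, _, _, hfin, hsm⟩ := exists_finite_smooth (k := k) (P := P) (B := B) (hg B)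
  exact ⟨k', inferInstance, inferInstance, hfin, IsPurelyInseparable.tower_bot k k' P, hsm⟩

end Groth.Agent.Lib.Helper12.H12PIRed
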