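import Mathlib
import Groth.Agent.Lib.Helper12.PIRed3

set_option autoImplicit false
universe u

namespace Groth.Agent.Lib.Helper12.H12PIRed

open AlgebraicGeometry CategoryTheory Limits TopologicalSpace TensorProduct

/-- a Noetherian scheme has a dense affine open. -/
theorem exists_dense_isAffineOpen (X : Scheme.{u}) [NoetherianSpace X] :
    ∃ U : X.Opens, IsAffineOpen U ∧ Dense (U : Set X) := by
  have hwf : WellFoundedGT X.Opens := (inferInstance : NoetherianSpace X)
  obtain ⟨U, hU, hmax⟩ := hwf.wf.has_min {U : X.Opens | IsAffineOpen U} ⟨⊥, isAffineOpen_bot X⟩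
  refine ⟨U, hU, ?_⟩
  by_contra hd
  rw [dense_iff_closure_eq, ← ne_eq, Set.ne_univ_iff_exists_notMem] at hd
  obtain ⟨x, hx⟩ := hd
  obtain ⟨_, ⟨W, hW : IsAffineOpen W, rfl⟩, hxW, hWsub⟩ :=
    X.isBasis_affineOpens.exists_subset_of_mem_open (show x ∈ (closure (U : Set X))ᶜ from hx)
      isClosed_closure.isOpen_compl
  have hdisj : Disjoint U W := by
    rw [← TopologicalSpace.Opens.coe_disjoint, Set.disjoint_left]
    intro y hyU hyW
    exact hWsub hyW (subset_closure hyU)
  have haff : IsAffineOpen (U ⊔ W) := hU.sup_of_disjoint hW hdisj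
  refine hmax (U ⊔ W) haff ?_
  refine lt_of_le_of_ne le_sup_left ?_
  intro heq
  have hxU : x ∈ U := by
    rw [heq]
    exact Or.inr hxW
  exact hx (subset_closure hxU)

/-- density of a basic open of a dense affine open. -/
theorem dense_basicOpen {X : Scheme.{u}} {U₀ : X.Opens} (hU₀ : IsAffineOpen U₀)
    (hd₀ : Dense (U₀ : Set X)) (g : Γ(X, U₀))
    (hg : Dense (PrimeSpectrum.basicOpen g : Set (PrimeSpectrum Γ(X, U₀)))) :
    Dense (X.basicOpen g : Set X) := by
  rw [dense_iff_inter_open]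
  intro V hV hVne
  obtain ⟨x, hxV, hxU₀⟩ := hd₀.inter_open_nonempty V hV hVne
  obtain ⟨y, rfl⟩ : x ∈ Set.range hU₀.fromSpec := by rw [hU₀.range_fromSpec]; exact hxU₀
  have hopen : IsOpen (hU₀.fromSpec ⁻¹' V) := hV.preimage hU₀.fromSpec.continuous
  obtain ⟨z, hzV, hzg⟩ := hg.inter_open_nonempty _ hopen ⟨y, hxV⟩
  refine ⟨hU₀.fromSpec z, hzV, ?_⟩
  have : z ∈ hU₀.fromSpec ⁻¹ᵁ X.basicOpen g := by
    rw [hU₀.fromSpec_preimage_basicOpen]; exact hzg
  exact this

set_option maxHeartbeats 1600000 in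
theorem affine_core (k k' : Type u) [Field k] [Field k'] [Algebra k k'] (D : Type u) [CommRing D]
    [Algebra k D] {W : Scheme.{u}} (e : W ≅ Spec (CommRingCat.of D))
    (h : W ⟶ Spec (CommRingCat.of k))
    (hh : h = e.hom ≫ Spec.map (CommRingCat.ofHom (algebraMap k D)))
    (hsm : Algebra.Smooth k' ((k' ⊗[k] D) ⧸ nilradical (k' ⊗[k] D))) :
    ∃ (Z : Scheme.{u}) (_ : IsReduced Z)
      (i : Z ⟶ pullback h (Spec.map (CommRingCat.ofHom (algebraMap k k')))),
      IsClosedImmersion i ∧ Function.Surjective i.base ∧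
      Smooth (i ≫ pullback.snd h (Spec.map (CommRingCat.ofHom (algebraMap k k')))) := by
  subst hh
  have hpo := CommRingCat.isPushout_tensorProduct k k' D
  have hpb0 := (isPullback_SpecMap_of_isPushout _ _ _ _ hpo).flip
  have hpb : IsPullback
      (Spec.map (CommRingCat.ofHom (S := k' ⊗[k] D)
        (Algebra.TensorProduct.includeRight (R := k) (A := k') (B := D)).toRingHom) ≫ e.inv)
      (Spec.map (CommRingCat.ofHom (S := k' ⊗[k] D)
        (Algebra.TensorProduct.includeLeftRingHom (R := k) (A := k') (B := D))))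
      (e.hom ≫ Spec.map (CommRingCat.ofHom (algebraMap k D)))
      (Spec.map (CommRingCat.ofHom (algebraMap k k'))) := by
    refine IsPullback.of_iso hpb0 (Iso.refl _) e.symm (Iso.refl _) (Iso.refl _) ?_ ?_ ?_ ?_ <;>
      simp
  let q : CommRingCat.of (k' ⊗[k] D) ⟶ CommRingCat.of ((k' ⊗[k] D) ⧸ nilradical (k' ⊗[k] D)) :=
    CommRingCat.ofHom (Ideal.Quotient.mk _)
  have hqsurj : Function.Surjective q := Ideal.Quotient.mk_surjective
  refine ⟨Spec (CommRingCat.of ((k' ⊗[k] D) ⧸ nilradical (k' ⊗[k] D))), ?_,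
    Spec.map q ≫ hpb.isoPullback.hom, ?_, ?_, ?_⟩
  · rw [affine_isReduced_iff]
    exact (Ideal.isRadical_iff_quotient_reduced _).mp (Ideal.radical_isRadical _)
  · haveI : IsClosedImmersion (Spec.map q) := IsClosedImmersion.spec_of_surjective q hqsurj
    infer_instance
  · have h1 : Function.Surjective (Spec.map q).base :=
      (PrimeSpectrum.comap_quotientMk_bijective_of_le_nilradical (le_refl _)).2
    have h2 : Function.Surjective hpb.isoPullback.hom.base :=
      (hpb.isoPullback.hom.homeomorph).surjective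
    rw [Scheme.Hom.comp_base]
    exact h2.comp h1
  · rw [Category.assoc, hpb.isoPullback_hom_snd, ← Spec.map_comp]
    rw [HasRingHomProperty.Spec_iff (P := @Smooth)]
    have : (CommRingCat.ofHom (S := k' ⊗[k] D)
        (Algebra.TensorProduct.includeLeftRingHom (R := k) (A := k') (B := D)) ≫ q).hom =
        algebraMap k' ((k' ⊗[k] D) ⧸ nilradical (k' ⊗[k] D)) := by
      ext x
      rfl
    rw [this, RingHom.smooth_algebraMap]
    exact hsm


set_option maxHeartbeats 1600000 in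
theorem main (k : Type u) [Field k] {X : Scheme.{u}}
    (f : X ⟶ Spec (CommRingCat.of k)) [LocallyOfFiniteType f] [QuasiCompact f] :
    ∃ (U : X.Opens) (_ : Dense (U : Set X)) (k' : Type u) (_ : Field k') (_ : Algebra k k')
      (_ : Module.Finite k k') (_ : IsPurelyInseparable k k') (Z : Scheme.{u}) (_ : IsReduced Z)
      (i : Z ⟶ pullback (U.ι ≫ f) (Spec.map (CommRingCat.ofHom (algebraMap k k')))),
      IsClosedImmersion i ∧ Function.Surjective i.base ∧
      Smooth (i ≫ pullback.snd (U.ι ≫ f) (Spec.map (CommRingCat.ofHom (algebraMap k k')))) := by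
  haveI : IsLocallyNoetherian X := LocallyOfFiniteType.isLocallyNoetherian f
  haveI : CompactSpace X := HasAffineProperty.iff_of_isAffine.mp ‹QuasiCompact f›
  haveI : IsNoetherian X := {}
  obtain ⟨U₀, hU₀, hd₀⟩ := exists_dense_isAffineOpen X
  obtain ⟨ψ₀, hψ₀⟩ := Spec.map_surjective (hU₀.fromSpec ≫ f)
  letI algA : Algebra k Γ(X, U₀) := ψ₀.hom.toAlgebra
  haveI : Algebra.FiniteType k Γ(X, U₀) := by
    have h1 : LocallyOfFiniteType (Spec.map ψ₀) := hψ₀ ▸ inferInstance
    exact (HasRingHomProperty.Spec_iff (P := @LocallyOfFiniteType)).mp h1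
  obtain ⟨g, hgd, hg⟩ := exists_smooth_reduction k Γ(X, U₀)
  have hU : IsAffineOpen (X.basicOpen g) := hU₀.basicOpen g
  letI algB : Algebra k Γ(X, X.basicOpen g) :=
    (ψ₀ ≫ X.presheaf.map (homOfLE (X.basicOpen_le g)).op).hom.toAlgebra
  haveI : IsScalarTower k Γ(X, U₀) Γ(X, X.basicOpen g) :=
    IsScalarTower.of_algebraMap_eq (fun _ => rfl)
  haveI := hU₀.isLocalization_basicOpen g
  obtain ⟨k', _, _, hfin, hpi, hsm⟩ := hg Γ(X, X.basicOpen g)
  have hh : (X.basicOpen g).ι ≫ f = hU.isoSpec.hom ≫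
      Spec.map (CommRingCat.ofHom (algebraMap k Γ(X, X.basicOpen g))) := by
    have h1 : CommRingCat.ofHom (algebraMap k Γ(X, X.basicOpen g)) =
        ψ₀ ≫ X.presheaf.map (homOfLE (X.basicOpen_le g)).op := rfl
    rw [h1, Spec.map_comp, hψ₀, ← Category.assoc (Spec.map _), hU₀.map_fromSpec hU,
      ← Category.assoc, hU.isoSpec_hom_fromSpec]
  obtain ⟨Z, hZ, i, h1, h2, h3⟩ := affine_core k k' Γ(X, X.basicOpen g) hU.isoSpec
    ((X.basicOpen g).ι ≫ f) hh hsm
  exact ⟨X.basicOpen g, dense_basicOpen hU₀ hd₀ g hgd, k', inferInstance, inferInstance, hfin, hpi,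
    Z, hZ, i, h1, h2, h3⟩

end Groth.Agent.Lib.Helper12.H12PIRed
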