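import Mathlib
import Groth.Agent.Lib.Helper12.PIRed4
import Groth.Agent.Lib.Helper12.FlatFib1
import Groth.Agent.Lib.Helper16.ReducedSub
import Groth.Agent.Lib.Helper10.SmoothReduced2
import Groth.Agent.S2505

set_option autoImplicit false
universe u
open CategoryTheory AlgebraicGeometry Limits TopologicalSpace

namespace Groth.Agent.Lib.Helper12.H12GRDense

/-- A scheme with finitely many irreducible components has a dense quasi-compact open. -/
theorem exists_dense_isCompact_open (X : Scheme.{u}) (hirr : (irreducibleComponents X).Finite) :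
    ∃ U : X.Opens, IsCompact (U : Set X) ∧ Dense (U : Set X) := by
  classical
  have hne : ∀ C : irreducibleComponents X, ∃ W : X.Opens, IsAffineOpen W ∧ ((C : Set X) ∩ W).Nonempty := by
    intro C
    obtain ⟨x, hx⟩ := C.2.1.nonempty
    obtain ⟨W, hW, hxW, -⟩ := exists_isAffineOpen_mem_and_subset (x := x) (U := ⊤) trivial
    exact ⟨W, hW, x, hx, hxW⟩
  choose W hW hWne using hne
  haveI : Finite (irreducibleComponents X) := hirr.to_subtype
  refine ⟨⨆ C, W C, ?_, ?_⟩
  · rw [Opens.coe_iSup]
    exact isCompact_iUnion fun C => (hW C).isCompact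
  · rw [dense_iff_closure_eq, Set.eq_univ_iff_forall]
    intro x
    have hx : x ∈ ⋃₀ irreducibleComponents X := by rw [sUnion_irreducibleComponents]; trivial
    obtain ⟨C, hC, hxC⟩ := hx
    have h1 := subset_closure_inter_of_isPreirreducible_of_isOpen hC.1.isPreirreducible
      (W ⟨C, hC⟩).isOpen (hWne ⟨C, hC⟩)
    refine closure_mono ?_ (h1 hxC)
    intro y hy
    rw [Opens.coe_iSup]
    exact Set.mem_iUnion.mpr ⟨⟨C, hC⟩, hy.2⟩

/-- Smooth over a field implies geometrically reduced. -/
theorem geometricallyReduced_of_smooth {k : Type u} [Field k] {Q : Scheme.{u}}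
    (q : Q ⟶ Spec (.of k)) [Smooth q] : GeometricallyReduced q := by
  rw [geometricallyReduced_iff, geometrically_iff_of_commRing]
  intro K _ _ Z fst snd h
  haveI : Smooth snd := MorphismProperty.of_isPullback h inferInstance
  exact Groth.Agent.Lib.Helper10.SmoothReduced.isReduced_of_smooth_field snd

/-- A reduced scheme over a field with a dense quasi-compact open which is geometrically reduced is
geometrically reduced. -/
theorem geometricallyReduced_of_dense_open {k : Type u} [Field k] {Y Q : Scheme.{u}}
    (g : Y ⟶ Spec (.of k)) [IsReduced Y] (j : Q ⟶ Y) [IsOpenImmersion j] [QuasiCompact j]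
    (hj : DenseRange j) [GeometricallyReduced (j ≫ g)] : GeometricallyReduced g := by
  rw [geometricallyReduced_iff, geometrically_iff_of_commRing]
  intro K _ _ Z fst snd h
  haveI : Flat (Spec.map (CommRingCat.ofHom (algebraMap k K))) := by
    rw [HasRingHomProperty.Spec_iff (P := @Flat)]
    exact (RingHom.flat_algebraMap_iff).mpr inferInstance
  haveI : Flat fst := MorphismProperty.of_isPullback h.flip inferInstance
  haveI : IsDominant j := ⟨hj⟩
  haveI : IsSchemeTheoreticallyDominant j := .of_isDominant j
  suffices IsReduced (pullback fst j) from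
    IsSchemeTheoreticallyDominant.isReduced (pullback.fst fst j)
  have hp : IsPullback (pullback.snd fst j) (pullback.fst fst j ≫ snd) (j ≫ g)
      (Spec.map (CommRingCat.ofHom (algebraMap k K))) :=
    (IsPullback.of_hasPullback fst j).flip.paste_vert h
  exact GeometricallyReduced.geometrically_isReduced _ _ _ hp

end Groth.Agent.Lib.Helper12.H12GRDense
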