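import Mathlib
import Groth.Agent.Lib.Helper12.GRDense1

set_option autoImplicit false
universe u
open CategoryTheory AlgebraicGeometry Limits TopologicalSpace

namespace Groth.Agent.Lib.Helper12.H12GRDense

theorem core {k k' : Type u} [Field k] [Field k'] {X U Z : Scheme.{u}} (f : X ⟶ Spec (.of k))
    [LocallyOfFiniteType f] (s : Spec (.of k') ⟶ Spec (.of k)) (u : U ⟶ X) [IsOpenImmersion u]
    (hu : DenseRange u) (h' : U ⟶ Spec (.of k)) (e' : h' = u ≫ f) [IsReduced Z]
    (i : Z ⟶ pullback h' s) [IsClosedImmersion i] (hi2 : Function.Surjective i)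
    [Smooth (i ≫ pullback.snd h' s)] :
    GeometricallyReduced ((pullback f s).nilradical.subschemeι ≫ pullback.snd f s) := by
  obtain ⟨a, ha, ha2⟩ := H12FlatFib.isPullback_lift_of_comp u f s h' e'
  haveI : IsOpenImmersion a :=
    MorphismProperty.of_isPullback (P := @IsOpenImmersion) ha.flip inferInstance
  haveI hYred : IsReduced (pullback f s).nilradical.subscheme := by
    rw [← Scheme.IdealSheafData.vanishingIdeal_top]
    exact Groth.Agent.Lib.Helper16.isReduced_subscheme_vanishingIdeal ⊤
  set ιY := (pullback f s).nilradical.subschemeι with hιY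
  have hιYs : Set.range ιY = Set.univ := by
    rw [hιY, Scheme.IdealSheafData.range_subschemeι, Scheme.support_nilradical]; rfl
  haveI : IsReduced (pullback ιY a) := isReduced_of_isOpenImmersion (pullback.fst ιY a)
  have hq₂ : Set.range (pullback.snd ιY a) = Set.univ := by
    rw [Scheme.Pullback.range_snd, hιYs, Set.preimage_univ]
  obtain ⟨e, he⟩ := Groth.Agent.Lib.Helper16.exists_iso_of_closedImmersion_reduced
    (pullback.snd ιY a) i (hq₂.trans hi2.range_eq.symm)
  have heq : pullback.fst ιY a ≫ ιY ≫ pullback.snd f s =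
      e.hom ≫ (i ≫ pullback.snd h' s) := by
    rw [← Category.assoc, pullback.condition, Category.assoc, ha2, ← he, Category.assoc]
  haveI hsm : Smooth (pullback.fst ιY a ≫ ιY ≫ pullback.snd f s) := by
    rw [heq]; infer_instance
  haveI := geometricallyReduced_of_smooth (pullback.fst ιY a ≫ ιY ≫ pullback.snd f s)
  haveI : IsLocallyNoetherian (pullback f s).nilradical.subscheme :=
    LocallyOfFiniteType.isLocallyNoetherian (ιY ≫ pullback.snd f s)
  have hd : DenseRange (pullback.fst ιY a) := by
    haveI : DiscreteTopology (Spec (CommRingCat.of k)) := inferInstance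
    haveI : UniversallyOpen s := Groth.Agent.S2505.result s
    have h1 : Set.range a = (pullback.fst f s) ⁻¹' Set.range u := by
      have := Scheme.image_preimage_eq_of_isPullback ha.flip Set.univ
      simpa using this
    have h2 : Dense (Set.range a) := by
      rw [h1]; exact hu.preimage (pullback.fst f s).isOpenMap
    have h3 : IsOpenMap ιY := by
      have : IsHomeomorph ιY := by
        rw [isHomeomorph_iff_isEmbedding_surjective]
        exact ⟨ιY.isEmbedding, Set.range_eq_univ.mp hιYs⟩
      exact this.isOpenMap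
    rw [DenseRange, Scheme.Pullback.range_fst]
    exact h2.preimage h3
  exact geometricallyReduced_of_dense_open (ιY ≫ pullback.snd f s) (pullback.fst ιY a) hd

theorem main (k : Type u) [Field k] (X : Scheme.{u}) (f : X ⟶ Spec (.of k)) [LocallyOfFiniteType f]
    (hirr : (irreducibleComponents X).Finite) :
    ∃ (k' : Type u) (_ : Field k') (_ : Algebra k k'), FiniteDimensional k k' ∧
      IsPurelyInseparable k k' ∧
      GeometricallyReduced
        ((pullback f (Spec.map (CommRingCat.ofHom (algebraMap k k')))).nilradical.subschemeι ≫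
          pullback.snd f (Spec.map (CommRingCat.ofHom (algebraMap k k')))) := by
  obtain ⟨X₀, hX₀c, hX₀d⟩ := exists_dense_isCompact_open X hirr
  haveI : CompactSpace X₀ := isCompact_iff_compactSpace.mp hX₀c
  haveI : QuasiCompact (X₀.ι ≫ f) := HasAffineProperty.iff_of_isAffine.mpr ‹CompactSpace X₀›
  obtain ⟨U, hUd, k', _, _, hfin, hpi, Z, hZ, i, hi1, hi2, hi3⟩ := H12PIRed.main k (X₀.ι ≫ f)
  refine ⟨k', inferInstance, inferInstance, hfin, hpi, ?_⟩
  have hu : DenseRange (U.ι ≫ X₀.ι) := by
    rw [Scheme.Hom.comp_base, TopCat.coe_comp]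
    refine DenseRange.comp ?_ ?_ X₀.ι.continuous
    · rw [DenseRange, Scheme.Opens.range_ι]; exact hX₀d
    · rw [DenseRange, Scheme.Opens.range_ι]; exact hUd
  exact core f _ (U.ι ≫ X₀.ι) hu (U.ι ≫ X₀.ι ≫ f) (by simp) i hi2

end Groth.Agent.Lib.Helper12.H12GRDense
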