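import Mathlib
import Groth.Agent.Lib.Helper12.GRDense2
import Groth.Agent.Lib.Helper12.FlatFib6

set_option autoImplicit false
universe u
open CategoryTheory AlgebraicGeometry Limits TopologicalSpace

namespace Groth.Agent.Lib.Helper12.H12GRDense

/-- Quasi-compact case: geometrically reduced of finite type over a field has a dense smooth open. -/
theorem exists_dense_smooth_of_qc (k : Type u) [Field k] {X : Scheme.{u}}
    (f : X ⟶ Spec (.of k)) [LocallyOfFiniteType f] [QuasiCompact f] [GeometricallyReduced f] :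
    ∃ U : X.Opens, Dense (U : Set X) ∧ Smooth (U.ι ≫ f) := by
  obtain ⟨U, hUd, k', _, _, hfin, hpi, Z, hZ, i, hi1, hi2, hi3⟩ := H12PIRed.main k f
  refine ⟨U, hUd, ?_⟩
  obtain ⟨a, ha, ha2⟩ := H12FlatFib.isPullback_lift_of_comp U.ι f
    (Spec.map (CommRingCat.ofHom (algebraMap k k'))) (U.ι ≫ f) rfl
  haveI : IsOpenImmersion a :=
    MorphismProperty.of_isPullback (P := @IsOpenImmersion) ha.flip inferInstance
  haveI : IsReduced (pullback f (Spec.map (CommRingCat.ofHom (algebraMap k k')))) :=
    GeometricallyReduced.geometrically_isReduced _ _ _ (.of_hasPullback _ _)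
  haveI : IsReduced (pullback (U.ι ≫ f) (Spec.map (CommRingCat.ofHom (algebraMap k k')))) :=
    isReduced_of_isOpenImmersion a
  obtain ⟨e, he⟩ := Groth.Agent.Lib.Helper16.exists_iso_of_closedImmersion_reduced i
    (𝟙 (pullback (U.ι ≫ f) (Spec.map (CommRingCat.ofHom (algebraMap k k')))))
    (by rw [hi2.range_eq]; simp)
  have hsm : Smooth (pullback.snd (U.ι ≫ f) (Spec.map (CommRingCat.ofHom (algebraMap k k')))) := by
    have h1 : pullback.snd (U.ι ≫ f) (Spec.map (CommRingCat.ofHom (algebraMap k k'))) =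
        e.inv ≫ (i ≫ pullback.snd (U.ι ≫ f) (Spec.map (CommRingCat.ofHom (algebraMap k k')))) := by
      rw [← he, Category.comp_id, Iso.inv_hom_id_assoc]
    rw [h1]; infer_instance
  exact MorphismProperty.of_pullback_snd_of_descendsAlong (P := @Smooth)
    (Q := @Surjective ⊓ @Flat ⊓ @QuasiCompact)
    (H12FlatFib.fpqc_SpecMap_field (Field.toIsField k) (Field.toIsField k') _) hsm

/-- Geometrically reduced locally of finite type over a field: the smooth locus is dense. -/
theorem dense_smoothLocus (k : Type u) [Field k] {X : Scheme.{u}}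
    (f : X ⟶ Spec (.of k)) [LocallyOfFiniteType f] [GeometricallyReduced f] :
    Dense (f.smoothLocus : Set X) := by
  rw [dense_iff_closure_eq, Set.eq_univ_iff_forall]
  intro x
  obtain ⟨_, ⟨W : X.Opens, hW, rfl⟩, hxW, -⟩ :=
    X.isBasis_affineOpens.exists_subset_of_mem_open (Set.mem_univ x) isOpen_univ
  haveI : CompactSpace W := isCompact_iff_compactSpace.mp hW.isCompact
  haveI : QuasiCompact (W.ι ≫ f) := HasAffineProperty.iff_of_isAffine.mpr ‹CompactSpace W›
  haveI : GeometricallyReduced (W.ι ≫ f) := by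
    rw [geometricallyReduced_iff, geometrically_iff_of_commRing]
    intro K _ _ Z fst snd h
    obtain ⟨a, ha, ha2⟩ := H12FlatFib.isPullback_lift_of_comp W.ι f
      (Spec.map (CommRingCat.ofHom (algebraMap k K))) (W.ι ≫ f) rfl
    haveI : IsOpenImmersion a :=
      MorphismProperty.of_isPullback (P := @IsOpenImmersion) ha.flip inferInstance
    haveI : IsReduced (pullback f (Spec.map (CommRingCat.ofHom (algebraMap k K)))) :=
      GeometricallyReduced.geometrically_isReduced _ _ _ (.of_hasPullback _ _)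
    haveI : IsReduced (pullback (W.ι ≫ f) (Spec.map (CommRingCat.ofHom (algebraMap k K)))) :=
      isReduced_of_isOpenImmersion a
    exact isReduced_of_isOpenImmersion h.isoPullback.hom
  obtain ⟨U, hUd, hUs⟩ := exists_dense_smooth_of_qc k (W.ι ≫ f)
  haveI : Smooth ((U.ι ≫ W.ι) ≫ f) := by rw [Category.assoc]; exact hUs
  have h1 : (U.ι ≫ W.ι) ⁻¹ᵁ f.smoothLocus = ⊤ := by
    rw [Scheme.Hom.preimage_smoothLocus_eq]
    exact ((U.ι ≫ W.ι) ≫ f).smoothLocus_eq_top
  have h2 : W.ι '' (U : Set W) ⊆ f.smoothLocus := by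
    rintro _ ⟨y, hy, rfl⟩
    have : (⟨y, hy⟩ : U) ∈ (U.ι ≫ W.ι) ⁻¹ᵁ f.smoothLocus := by rw [h1]; trivial
    exact this
  have h3 : x ∈ closure (W.ι '' (U : Set W)) := by
    have : (⟨x, hxW⟩ : W) ∈ closure (U : Set W) := by rw [hUd.closure_eq]; trivial
    have h4 := image_closure_subset_closure_image W.ι.continuous (s := (U : Set W)) ⟨_, this, rfl⟩
    simpa using h4
  exact closure_mono h2 h3

theorem smooth_smoothLocus {X Y : Scheme.{u}} (f : X ⟶ Y) [LocallyOfFinitePresentation f] :
    Smooth (f.smoothLocus.ι ≫ f) := by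
  rw [← Scheme.Hom.smoothLocus_eq_top_iff, ← Scheme.Hom.preimage_smoothLocus_eq]
  rw [eq_top_iff]
  rintro x -
  exact x.2

theorem geometricallyReduced_iff_exists_dense_smooth (k : Type u) [Field k] {X : Scheme.{u}}
    (f : X ⟶ Spec (.of k)) [LocallyOfFiniteType f] [IsReduced X] :
    GeometricallyReduced f ↔ ∃ U : X.Opens, Dense (U : Set X) ∧ Smooth (U.ι ≫ f) := by
  constructor
  · intro h
    exact ⟨f.smoothLocus, dense_smoothLocus k f, smooth_smoothLocus f⟩
  · rintro ⟨U, hUd, hUs⟩
    haveI : IsLocallyNoetherian X := LocallyOfFiniteType.isLocallyNoetherian f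
    haveI := geometricallyReduced_of_smooth (U.ι ≫ f)
    refine geometricallyReduced_of_dense_open f U.ι ?_
    rw [DenseRange, Scheme.Opens.range_ι]; exact hUd

end Groth.Agent.Lib.Helper12.H12GRDense
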