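import Mathlib

set_option autoImplicit false
universe u
open TensorProduct

namespace Groth.Agent.Lib.Helper12.H12GROpen

/-- A localization of a geometrically reduced algebra is geometrically reduced. -/
theorem isGeometricallyReduced_of_isLocalization (k B B' : Type u) [Field k] [CommRing B]
    [CommRing B'] [Algebra k B] [Algebra k B'] [Algebra B B'] [IsScalarTower k B B']
    (M : Submonoid B) [IsLocalization M B'] [Algebra.IsGeometricallyReduced k B] :
    Algebra.IsGeometricallyReduced k B' := by
  rw [Algebra.isGeometricallyReduced_field_iff]
  have h1 : IsReduced (AlgebraicClosure k ⊗[k] B) :=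
    (Algebra.isGeometricallyReduced_field_iff k B).mp inferInstance
  let M' := M.map (Algebra.TensorProduct.includeRight (R := k) (A := AlgebraicClosure k) (B := B))
  haveI : IsReduced (Localization M') :=
    isReduced_localizationPreserves M' (Localization M') h1
  let e := IsLocalization.tensorProductEquivOfMapIncludeRight k (AlgebraicClosure k) M B'
    (Localization M')
  exact isReduced_of_injective e.toRingHom e.injective

/-- A finite product of geometrically reduced algebras is geometrically reduced. -/
theorem isGeometricallyReduced_pi (k : Type u) [Field k] {ι : Type u} [Finite ι] (F : ι → Type u)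
    [∀ i, CommRing (F i)] [∀ i, Algebra k (F i)] [∀ i, Algebra.IsGeometricallyReduced k (F i)] :
    Algebra.IsGeometricallyReduced k (∀ i, F i) := by
  classical
  haveI := Fintype.ofFinite ι
  rw [Algebra.isGeometricallyReduced_field_iff]
  have h : ∀ i, IsReduced (AlgebraicClosure k ⊗[k] F i) := fun i =>
    (Algebra.isGeometricallyReduced_field_iff k (F i)).mp inferInstance
  let e := Algebra.TensorProduct.piRight k k (AlgebraicClosure k) F
  exact isReduced_of_injective e.toRingHom e.injective

end Groth.Agent.Lib.Helper12.H12GROpen
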