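import Mathlib
import Groth.Agent.Lib.Helper12.GROpen1

set_option autoImplicit false
universe u
open TensorProduct

namespace Groth.Agent.Lib.Helper12.H12GROpen

/-- prime avoidance for a finite set of ideals not contained in a prime: an element in all of them
outside the prime. -/
theorem exists_mem_forall_notMem {A : Type u} [CommRing A] (p : Ideal A) [p.IsPrime]
    (Q : Set (Ideal A)) (hQ : Q.Finite) (h : ∀ q ∈ Q, ¬ q ≤ p) :
    ∃ w : A, w ∉ p ∧ ∀ q ∈ Q, w ∈ q := by
  classical
  have h' : ∀ q ∈ Q, ∃ w ∈ q, w ∉ p := fun q hq => Set.not_subset.mp (h q hq)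
  choose! w hw1 hw2 using h'
  refine ⟨∏ q ∈ hQ.toFinset, w q, ?_, ?_⟩
  · intro hmem
    obtain ⟨q, hq, hq'⟩ := (Ideal.IsPrime.prod_mem_iff).mp hmem
    exact hw2 q (hQ.mem_toFinset.mp hq) hq'
  · intro q hq
    exact Ideal.prod_mem q (hQ.mem_toFinset.mpr hq) (hw1 q hq)

theorem exists_notMem_forall_isGeometricallyReduced (k : Type u) [Field k] (A : Type u)
    [CommRing A] [Algebra k A] [IsNoetherianRing A] (p : Ideal A) [p.IsPrime]
    (S : Type u) [CommRing S] [Algebra A S] [Algebra k S] [IsScalarTower k A S]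
    [IsLocalization.AtPrime S p] [Algebra.IsGeometricallyReduced k S] :
    ∃ s ∉ p, ∀ (p' : Ideal A) [p'.IsPrime], s ∉ p' → ∀ (T : Type u) [CommRing T] [Algebra A T]
      [Algebra k T] [IsScalarTower k A T] [IsLocalization.AtPrime T p'],
      Algebra.IsGeometricallyReduced k T := by
  classical
  haveI hSred : IsReduced S := Algebra.isReduced_of_isGeometricallyReduced k
  -- step 1: kill the nilradical
  obtain ⟨G, hG⟩ := (isNoetherianRing_iff_ideal_fg A).mp inferInstance (nilradical A)
  have hc : ∀ g ∈ G, ∃ c : p.primeCompl, (c : A) * g = 0 := by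
    intro g hg
    have h1 : g ∈ nilradical A := hG ▸ Ideal.subset_span hg
    have h2 : IsNilpotent (algebraMap A S g) := (mem_nilradical.mp h1).map _
    exact (IsLocalization.map_eq_zero_iff p.primeCompl S g).mp h2.eq_zero
  choose! c hc using hc
  set s₁ := ∏ g ∈ G, (c g : A) with hs₁
  have hs₁p : s₁ ∉ p := by
    have : (∏ g ∈ G, c g : p.primeCompl).1 = ∏ g ∈ G, (c g : A) := by simp
    rw [hs₁, ← this]
    exact (∏ g ∈ G, c g : p.primeCompl).2
  have hs₁N : ∀ a ∈ nilradical A, s₁ * a = 0 := by
    intro a ha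
    rw [← hG] at ha
    refine Submodule.span_induction ?_ ?_ ?_ ?_ ha
    · intro g hg
      obtain ⟨r, hr⟩ := Finset.dvd_prod_of_mem (fun g => (c g : A)) hg
      rw [hs₁, hr, mul_comm (c g : A) r, mul_assoc, hc g hg, mul_zero]
    · simp
    · intro x y _ _ hx hy; rw [mul_add, hx, hy, add_zero]
    · intro a x _ hx; rw [smul_eq_mul, mul_left_comm, hx, mul_zero]
  -- step 2: avoid the minimal primes not contained in p
  have hfin : (minimalPrimes A).Finite := minimalPrimes.finite_of_isNoetherianRing A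
  obtain ⟨s₂, hs₂p, hs₂⟩ := exists_mem_forall_notMem p {q ∈ minimalPrimes A | ¬ q ≤ p}
    (hfin.subset (fun q hq => hq.1)) (fun q hq => hq.2)
  refine ⟨s₁ * s₂, fun h => (Ideal.IsPrime.mem_or_mem inferInstance h).elim hs₁p hs₂p, ?_⟩
  intro p' _ hs T _ _ _ _ _
  have hs₁' : s₁ ∉ p' := fun h => hs (Ideal.mul_mem_right _ _ h)
  have hs₂' : s₂ ∉ p' := fun h => hs (Ideal.mul_mem_left _ _ h)
  -- the index type
  let I := {q : Ideal A // q ∈ minimalPrimes A ∧ q ≤ p'}
  haveI : Finite I := (hfin.subset (fun q (hq : q ∈ minimalPrimes A ∧ q ≤ p') => hq.1)).to_subtype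
  haveI hprime : ∀ q : I, q.1.IsPrime := fun q => q.2.1.1.1
  have hqp : ∀ q : I, q.1 ≤ p := by
    intro q
    by_contra hcon
    exact hs₂' (q.2.2 (hs₂ q.1 ⟨q.2.1, hcon⟩))
  let F : I → Type u := fun q => Localization.AtPrime q.1
  -- each factor is geometrically reduced
  haveI hFgr : ∀ q : I, Algebra.IsGeometricallyReduced k (F q) := by
    intro q
    have hle : p.primeCompl ≤ q.1.primeCompl := fun a ha hq => ha (hqp q hq)
    letI : Algebra S (F q) :=
      IsLocalization.localizationAlgebraOfSubmonoidLe S (F q) p.primeCompl q.1.primeCompl hle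
    haveI : IsScalarTower A S (F q) :=
      IsLocalization.localization_isScalarTower_of_submonoid_le S (F q) p.primeCompl
        q.1.primeCompl hle
    haveI : IsLocalization (q.1.primeCompl.map (algebraMap A S)) (F q) :=
      IsLocalization.isLocalization_of_submonoid_le S (F q) p.primeCompl q.1.primeCompl hle
    haveI : IsScalarTower k S (F q) := IsScalarTower.of_algebraMap_eq (fun x => by
      rw [IsScalarTower.algebraMap_apply k A (F q), IsScalarTower.algebraMap_apply A S (F q),
        ← IsScalarTower.algebraMap_apply k A S])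
    exact isGeometricallyReduced_of_isLocalization k S (F q) (q.1.primeCompl.map (algebraMap A S))
  haveI := isGeometricallyReduced_pi k F
  -- the maps
  have hunit : ∀ (q : I) (y : p'.primeCompl), IsUnit (algebraMap A (F q) y) := fun q y =>
    IsLocalization.map_units (F q) (⟨y.1, fun hy => y.2 (q.2.2 hy)⟩ : q.1.primeCompl)
  let φq : ∀ q : I, T →+* F q := fun q => IsLocalization.lift (hunit q)
  let φ : T →ₐ[k] (∀ q, F q) :=
    { RingHom.pi φq with
      commutes' := fun x => by
        funext q
        change φq q (algebraMap k T x) = algebraMap k (F q) x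
        rw [IsScalarTower.algebraMap_apply k A T, IsScalarTower.algebraMap_apply k A (F q)]
        exact IsLocalization.lift_eq _ _ }
  refine Algebra.IsGeometricallyReduced.of_injective φ ?_
  rw [injective_iff_map_eq_zero]
  intro t ht
  obtain ⟨⟨a, u⟩, rfl⟩ := IsLocalization.mk'_surjective p'.primeCompl t
  -- a lies in every minimal prime inside p'
  have ha : ∀ q : I, a ∈ q.1 := by
    intro q
    have h1 : φq q (IsLocalization.mk' T a u) = 0 := congrFun ht q
    have h2 : algebraMap A (F q) a = 0 := by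
      have h3 : φq q (IsLocalization.mk' T a u) * algebraMap A (F q) u = algebraMap A (F q) a := by
        have : φq q (algebraMap A T u) = algebraMap A (F q) u := IsLocalization.lift_eq _ _
        rw [← this, ← map_mul, IsLocalization.mk'_spec]
        exact IsLocalization.lift_eq _ _
      rw [← h3, h1, zero_mul]
    obtain ⟨v, hv⟩ := (IsLocalization.map_eq_zero_iff q.1.primeCompl (F q) a).mp h2
    have h4 : (v : A) * a ∈ q.1 := by rw [hv]; exact q.1.zero_mem
    exact ((hprime q).mem_or_mem h4).resolve_left v.2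
  -- avoid the other minimal primes
  obtain ⟨w, hwp', hw⟩ := exists_mem_forall_notMem p' {q ∈ minimalPrimes A | ¬ q ≤ p'}
    (hfin.subset (fun q hq => hq.1)) (fun q hq => hq.2)
  have hwa : w * a ∈ nilradical A := by
    rw [nilradical_eq_sInf, Submodule.mem_sInf]
    intro J hJ
    haveI : Ideal.IsPrime (J : Ideal A) := hJ
    obtain ⟨q, hqmin, hqJ⟩ := Ideal.exists_minimalPrimes_le (bot_le : (⊥ : Ideal A) ≤ (J : Ideal A))
    apply hqJ
    by_cases hqp' : q ≤ p'
    · exact Ideal.mul_mem_left _ _ (ha ⟨q, hqmin, hqp'⟩)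
    · exact Ideal.mul_mem_right _ _ (hw q ⟨hqmin, hqp'⟩)
  rw [IsLocalization.mk'_eq_zero_iff]
  refine ⟨⟨s₁ * w, fun h => (Ideal.IsPrime.mem_or_mem inferInstance h).elim hs₁' hwp'⟩, ?_⟩
  change s₁ * w * a = 0
  rw [mul_assoc]
  exact hs₁N _ hwa

end Groth.Agent.Lib.Helper12.H12GROpen
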