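import Mathlib
import Groth.Agent.Lib.Helper12.GROpen2
import Groth.Agent.Lib.Helper1.FPS6

set_option autoImplicit false
universe u
open CategoryTheory AlgebraicGeometry Limits TopologicalSpace

attribute [local instance] Curv2.stalkAlgebra

namespace Groth.Agent.Lib.Helper12.H12GROpen

theorem isGeomReducedAt_iff {k : Type u} [Field k] {X : Scheme.{u}}
    (f : X ⟶ Spec (CommRingCat.of k)) (x : X) :
    letI : X.Over (Spec (CommRingCat.of k)) := ⟨f⟩
    FBase.IsGeomReducedAt f x ↔ Algebra.IsGeometricallyReduced k (X.presheaf.stalk x) := by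
  letI : X.Over (Spec (CommRingCat.of k)) := ⟨f⟩
  constructor
  · intro h
    exact Groth.Agent.Lib.Helper1.FPS.isGeometricallyReduced_stalk_of_forall_purelyInseparable k X x
      (fun k' _ _ _ _ x' hx' => h k' x' hx')
  · intro h K _ _ x' hx'
    exact Groth.Agent.Lib.Helper1.FPS.isReduced_stalk_of_isGeometricallyReduced k X x K x'
      (hx' ▸ specializes_rfl)

theorem isOpen_geomReduced {k : Type u} [Field k] {X : Scheme.{u}} [IsLocallyNoetherian X]
    (f : X ⟶ Spec (CommRingCat.of k)) : IsOpen {x : X | FBase.IsGeomReducedAt f x} := by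
  letI : X.Over (Spec (CommRingCat.of k)) := ⟨f⟩
  rw [isOpen_iff_forall_mem_open]
  intro x hx
  obtain ⟨_, ⟨U : X.Opens, hU, rfl⟩, hxU, -⟩ :=
    X.isBasis_affineOpens.exists_subset_of_mem_open (Set.mem_univ x) isOpen_univ
  have hU' : IsAffineOpen U := hU
  haveI : IsNoetherianRing Γ(X, U) := IsLocallyNoetherian.component_noetherian ⟨U, hU⟩
  letI algA : Algebra k Γ(X, U) :=
    ((X.presheaf.map (homOfLE (le_top : U ≤ ⊤)).op).hom.comp (Coh.toGlobal f)).toAlgebra
  have htower : ∀ (y : X) (hy : y ∈ U),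
      letI := X.presheaf.algebra_section_stalk ⟨y, hy⟩
      IsScalarTower k Γ(X, U) (X.presheaf.stalk y) := by
    intro y hy
    letI := X.presheaf.algebra_section_stalk ⟨y, hy⟩
    refine IsScalarTower.of_algebraMap_eq (fun a => ?_)
    change (X.presheaf.germ ⊤ y trivial).hom (Coh.toGlobal f a) =
      (X.presheaf.germ U y hy).hom ((X.presheaf.map (homOfLE (le_top : U ≤ ⊤)).op).hom
        (Coh.toGlobal f a))
    exact (TopCat.Presheaf.germ_res_apply X.presheaf (homOfLE (le_top : U ≤ ⊤)) y hy _).symm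
  letI := X.presheaf.algebra_section_stalk ⟨x, hxU⟩
  haveI := hU'.isLocalization_stalk ⟨x, hxU⟩
  haveI := htower x hxU
  haveI : Algebra.IsGeometricallyReduced k (X.presheaf.stalk x) := (isGeomReducedAt_iff f x).mp hx
  obtain ⟨s, hs, H⟩ := exists_notMem_forall_isGeometricallyReduced k Γ(X, U)
    (hU'.primeIdealOf ⟨x, hxU⟩).asIdeal (X.presheaf.stalk x)
  have hmem : ∀ y (hy : y ∈ U), y ∈ X.basicOpen s ↔ s ∉ (hU'.primeIdealOf ⟨y, hy⟩).asIdeal := by
    intro y hy
    have h1 := hU'.fromSpec_preimage_basicOpen s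
    have h2 : hU'.primeIdealOf ⟨y, hy⟩ ∈ hU'.fromSpec ⁻¹ᵁ X.basicOpen s ↔ y ∈ X.basicOpen s := by
      change hU'.fromSpec (hU'.primeIdealOf ⟨y, hy⟩) ∈ X.basicOpen s ↔ _
      rw [hU'.fromSpec_primeIdealOf]
    rw [← h2, h1]
    rfl
  refine ⟨X.basicOpen s, ?_, (X.basicOpen s).isOpen, (hmem x hxU).mpr hs⟩
  intro y hy
  have hyU : y ∈ U := X.basicOpen_le s hy
  letI := X.presheaf.algebra_section_stalk ⟨y, hyU⟩
  haveI := hU'.isLocalization_stalk ⟨y, hyU⟩
  haveI := htower y hyU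
  exact (isGeomReducedAt_iff f y).mpr
    (H (hU'.primeIdealOf ⟨y, hyU⟩).asIdeal ((hmem y hyU).mp hy) (X.presheaf.stalk y))

end Groth.Agent.Lib.Helper12.H12GROpen
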