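import Mathlib
import Groth.Prelude.Def_FlatMod2
import Groth.Prelude.Def_Coh
import Groth.Agent.Lib.Helper8.FlatAffine
import Groth.Agent.Lib.Helper25.GFMod
import Groth.Agent.Lib.Helper29.QCohFinite

set_option autoImplicit false
universe u
open CategoryTheory CategoryTheory.Limits AlgebraicGeometry Opposite TopologicalSpace

namespace Groth.Agent.Lib.Helper12.H12GenFlatMod

open Groth.Agent.Lib.Helper29.QCoh Groth.Agent.Lib.Helper8.FlatAffine

theorem flat_of_free_localized {R S M N : Type u} [CommRing R] [CommRing S] [Algebra R S]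
    [AddCommGroup M] [Module S M] [Module R M] [IsScalarTower R S M]
    [AddCommGroup N] [Module S N] [Module R N] [IsScalarTower R S N] (g : R)
    (hfree : Module.Free (Localization.Away g) (LocalizedModule (Submonoid.powers g) M))
    (f : M →ₗ[S] N) [IsLocalizedModule (.powers (algebraMap R S g)) f] : Module.Flat R N := by
  haveI := IsLocalizedModule.restrictScalars_powers g f
  have e : LocalizedModule (Submonoid.powers g) M ≃ₗ[R] N :=
    IsLocalizedModule.iso (Submonoid.powers g) (f.restrictScalars R)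
  haveI : Module.Flat R (LocalizedModule (Submonoid.powers g) M) :=
    Module.Flat.trans R (Localization.Away g) _
  exact Module.Flat.of_linearEquiv e.symm

variable {X Y : Scheme.{u}} (u : X ⟶ Y) (F : X.Modules)

theorem exists_basicOpen_flat [IsReduced Y] [LocallyOfFiniteType u]
    [F.IsQuasicoherent] [F.IsFiniteType] {V : Y.Opens} (hV : IsAffineOpen V)
    {W : X.Opens} (hW : IsAffineOpen W) (e : W ≤ u ⁻¹ᵁ V) (h : Γ(Y, V)) (hh : h ≠ 0) :
    ∃ g : Γ(Y, V), h ∣ g ∧ g ≠ 0 ∧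
      ∀ x ∈ W, u x ∈ Y.basicOpen g → FlatMod.IsFlatOverAt u F x := by
  letI alg : Algebra Γ(Y, V) Γ(X, W) := (u.appLE V W e).hom.toAlgebra
  letI mod : Module Γ(Y, V) Γ(F, W) := Module.compHom _ (u.appLE V W e).hom
  haveI : IsScalarTower Γ(Y, V) Γ(X, W) Γ(F, W) :=
    IsScalarTower.of_algebraMap_smul (fun r m => rfl)
  haveI : Algebra.FiniteType Γ(Y, V) Γ(X, W) := u.finiteType_appLE hV hW e
  haveI : Module.Finite Γ(X, W) Γ(F, W) := module_finite_of_isFiniteType F hW
  haveI : _root_.IsReduced Γ(Y, V) := inferInstance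
  obtain ⟨g, hdvd, hg0, hGF⟩ :=
    Groth.Agent.Lib.Helper25.GFMod.exists_GF Γ(Y, V) Γ(X, W) Γ(F, W) h hh
  refine ⟨g, hdvd, hg0, ?_⟩
  intro x hxW hxg
  have hfree := (hGF g dvd_rfl).1
  set s : Γ(X, W) := (u.appLE V W e).hom g with hs
  have hx' : x ∈ X.basicOpen s := by
    rw [hs, Scheme.basicOpen_appLE]
    exact ⟨hxW, hxg⟩
  have e' : X.basicOpen s ≤ u ⁻¹ᵁ V := (X.basicOpen_le s).trans e
  apply isFlatOverAt_of_flat_sections u F (hW.basicOpen s) hV e' x hx'
  letI modS' : Module Γ(X, W) Γ(F, X.basicOpen s) := sectionsModule F (X.basicOpen_le s)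
  letI modR' : Module Γ(Y, V) Γ(F, X.basicOpen s) := Module.compHom _ (u.appLE V (X.basicOpen s) e').hom
  haveI : IsScalarTower Γ(Y, V) Γ(X, W) Γ(F, X.basicOpen s) :=
    IsScalarTower.of_algebraMap_smul (fun r m => by
      change ((X.presheaf.map (homOfLE (X.basicOpen_le s)).op).hom ((u.appLE V W e).hom r)) • m =
        ((u.appLE V (X.basicOpen s) e').hom r) • m
      rw [← u.appLE_map e (homOfLE (X.basicOpen_le s)).op]
      rfl)
  haveI := isLocalizedModule_res_basicOpen F hW s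
  exact flat_of_free_localized g hfree (resₗ F (X.basicOpen_le s))

theorem generic_flatness_module [IsIntegral Y] [LocallyOfFiniteType u] [QuasiCompact u]
    [F.IsQuasicoherent] [F.IsFiniteType] :
    ∃ U : Y.Opens, (U : Set Y).Nonempty ∧
      ∀ x : X, u.base x ∈ U → FlatMod.IsFlatOverAt u F x := by
  obtain ⟨y⟩ : Nonempty Y := inferInstance
  obtain ⟨_, ⟨V, hV : IsAffineOpen V, rfl⟩, hyV, -⟩ :=
    (Y.isBasis_affineOpens).exists_subset_of_mem_open (Set.mem_univ y) isOpen_univ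
  haveI : Nonempty V := ⟨⟨y, hyV⟩⟩
  haveI : IsDomain Γ(Y, V) := inferInstance
  have hcomp : IsCompact (u ⁻¹ᵁ V : Set X) :=
    QuasiCompact.isCompact_preimage (f := u) _ V.isOpen hV.isCompact
  have hcov : ∀ x : (u ⁻¹ᵁ V : Set X), ∃ W : X.Opens, IsAffineOpen W ∧ x.1 ∈ W ∧
      W ≤ u ⁻¹ᵁ V := by
    intro x
    obtain ⟨_, ⟨W, hW, rfl⟩, hxW, hWV⟩ :=
      (X.isBasis_affineOpens).exists_subset_of_mem_open x.2 (u ⁻¹ᵁ V).isOpen
    exact ⟨W, hW, hxW, hWV⟩
  choose W hWaff hxW hWle using hcov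
  obtain ⟨T, hT⟩ := hcomp.elim_finite_subcover (fun x => (W x : Set X))
    (fun x => (W x).isOpen) (fun x hx => Set.mem_iUnion.mpr ⟨⟨x, hx⟩, hxW ⟨x, hx⟩⟩)
  have key : ∀ T' : Finset (u ⁻¹ᵁ V : Set X), ∃ g : Γ(Y, V), g ≠ 0 ∧
      ∀ t ∈ T', ∀ x ∈ W t, u x ∈ Y.basicOpen g → FlatMod.IsFlatOverAt u F x := by
    classical
    intro T'
    induction T' using Finset.induction_on with
    | empty => exact ⟨1, one_ne_zero, fun t ht => absurd ht (Finset.notMem_empty t)⟩
    | insert t T' ht ih =>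
      obtain ⟨g0, hg0, H0⟩ := ih
      obtain ⟨g, hdvd, hg, H⟩ := exists_basicOpen_flat u F hV (hWaff t) (hWle t) g0 hg0
      refine ⟨g, hg, ?_⟩
      intro t' ht' x hx hxg
      rw [Finset.mem_insert] at ht'
      rcases ht' with rfl | ht'
      · exact H x hx hxg
      · apply H0 t' ht' x hx
        obtain ⟨c, rfl⟩ := hdvd
        rw [Scheme.basicOpen_mul] at hxg
        exact hxg.1
  obtain ⟨g, hg, H⟩ := key T
  refine ⟨Y.basicOpen g, ?_, ?_⟩
  · by_contra hne
    rw [Set.not_nonempty_iff_eq_empty] at hne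
    apply hg
    rw [← basicOpen_eq_bot_iff]
    exact Opens.ext hne
  · intro x hx
    have hxV : x ∈ (u ⁻¹ᵁ V : Set X) := Y.basicOpen_le g hx
    have := hT hxV
    simp only [Set.mem_iUnion, exists_prop] at this
    obtain ⟨t, htT, hxt⟩ := this
    exact H t htT x hxt hx

end Groth.Agent.Lib.Helper12.H12GenFlatMod
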