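import Mathlib
import Groth.Prelude.Def_FDesc
import Groth.Agent.Lib.Helper12.GeomConnAlgClosed
import Groth.Agent.Lib.Helper12.GeomConn2
import Groth.Agent.Lib.Lead.GeomFieldExt

set_option autoImplicit false
universe u

namespace H12GeomComp

open CategoryTheory CategoryTheory.Limits AlgebraicGeometry

section Top

variable {E B : Type u} [TopologicalSpace E] [TopologicalSpace B]

/-- a continuous surjection onto a quasi-sober space does not decrease the number of irreducible
components -/
theorem mk_irreducibleComponents_le (p : E → B) (hp : Continuous p) (hs : Function.Surjective p)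
    [QuasiSober B] :
    Cardinal.mk ↥(irreducibleComponents B) ≤ Cardinal.mk ↥(irreducibleComponents E) := by
  classical
  have h1 : ∀ Z : irreducibleComponents B, ∃ Z' : irreducibleComponents E,
      closure (p '' Z'.1) = Z.1 := by
    rintro ⟨Z, hZ⟩
    have hZc : IsClosed Z := isClosed_of_mem_irreducibleComponents Z hZ
    obtain ⟨ξ, hξ⟩ := QuasiSober.sober hZ.1 hZc
    obtain ⟨ξ', hξ'⟩ := hs ξ
    refine ⟨⟨irreducibleComponent ξ', irreducibleComponent_mem_irreducibleComponents ξ'⟩, ?_⟩
    have hirr : IsIrreducible (closure (p '' irreducibleComponent ξ')) :=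
      (isIrreducible_irreducibleComponent.image p hp.continuousOn).closure
    have hsub : Z ⊆ closure (p '' irreducibleComponent ξ') := by
      rw [← hξ.def]
      apply closure_mono
      rw [Set.singleton_subset_iff]
      exact ⟨ξ', mem_irreducibleComponent, hξ'⟩
    show closure (p '' irreducibleComponent ξ') = Z
    exact hZ.eq_of_ge hirr hsub
  choose F hF using h1
  apply Cardinal.mk_le_of_injective (f := F)
  intro Z₁ Z₂ h
  apply Subtype.ext
  rw [← hF Z₁, ← hF Z₂, h]

theorem mk_connectedComponents_le (p : E → B) (hp : Continuous p) (hs : Function.Surjective p) :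
    Cardinal.mk (_root_.ConnectedComponents B) ≤ Cardinal.mk (_root_.ConnectedComponents E) :=
  Cardinal.mk_le_of_surjective (hp.connectedComponentsMap_surjective hs)

/-- topological core: an open and closed surjection onto a connected space whose source contains
a preconnected set containing a full fibre has connected source -/
theorem connectedSpace_of_fibre (p : E → B) (hpo : IsOpenMap p) (hpc : IsClosedMap p)
    (hs : Function.Surjective p) [ConnectedSpace B] (S : Set E) (hS : IsPreconnected S)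
    (y₀ : B) (hy₀ : p ⁻¹' {y₀} ⊆ S) : ConnectedSpace E := by
  obtain ⟨c₀, hc₀⟩ := hs y₀
  haveI : Nonempty E := ⟨c₀⟩
  refine { toNonempty := inferInstance, toPreconnectedSpace := ?_ }
  rw [preconnectedSpace_iff_clopen]
  intro C hC
  by_cases hCe : C = ∅
  · exact Or.inl hCe
  right
  by_contra hCu
  have hCne : C.Nonempty := Set.nonempty_iff_ne_empty.mpr hCe
  have hDne : (Cᶜ).Nonempty := Set.nonempty_compl.mpr hCu
  have hD : IsClopen Cᶜ := hC.compl
  have hπC : p '' C = Set.univ :=
    IsClopen.eq_univ ⟨hpc C hC.1, hpo C hC.2⟩ (hCne.image p)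
  have hπD : p '' Cᶜ = Set.univ :=
    IsClopen.eq_univ ⟨hpc _ hD.1, hpo _ hD.2⟩ (hDne.image p)
  obtain ⟨c, hcC, hc⟩ : y₀ ∈ p '' C := hπC ▸ Set.mem_univ _
  obtain ⟨d, hdD, hd⟩ : y₀ ∈ p '' Cᶜ := hπD ▸ Set.mem_univ _
  have hsub : S ⊆ C := hS.subset_isClopen hC ⟨c, hy₀ hc, hcC⟩
  exact hdD (hsub (hy₀ hd))

/-- set version: the preimage of the connected component of `y₀` is connected -/
theorem isConnected_preimage_connectedComponent (p : E → B) (hp : Continuous p)
    (hpo : IsOpenMap p) (hpc : IsClosedMap p)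
    (hs : Function.Surjective p) (S : Set E) (hS : IsPreconnected S)
    (y₀ : B) (hy₀ : p ⁻¹' {y₀} ⊆ S) : IsConnected (p ⁻¹' connectedComponent y₀) := by
  set C := connectedComponent y₀ with hC
  obtain ⟨c₀, hc₀⟩ := hs y₀
  have hc₀S : c₀ ∈ S := hy₀ hc₀
  have hSC : S ⊆ p ⁻¹' C := by
    have h1 : IsPreconnected (p '' S) := hS.image p hp.continuousOn
    have h2 : y₀ ∈ p '' S := ⟨c₀, hc₀S, hc₀⟩
    have h3 := h1.subset_connectedComponent h2
    intro s hs'
    exact h3 ⟨s, hs', rfl⟩
  haveI : ConnectedSpace ↥C := isConnected_iff_connectedSpace.mp isConnected_connectedComponent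
  have hS' : IsPreconnected ((Subtype.val : ↥(p ⁻¹' C) → E) ⁻¹' S) := by
    rw [← Topology.IsInducing.subtypeVal.isPreconnected_image, Subtype.image_preimage_coe,
      Set.inter_eq_right.mpr hSC]
    exact hS
  have hy₀C : y₀ ∈ C := mem_connectedComponent
  have := connectedSpace_of_fibre (C.restrictPreimage p) (hpo.restrictPreimage C)
    (hpc.restrictPreimage C) (hs.restrictPreimage C) _ hS' ⟨y₀, hy₀C⟩ (by
      rintro ⟨e, he⟩ hfe
      have : p e = y₀ := congrArg Subtype.val hfe
      exact hy₀ this)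
  exact isConnected_iff_connectedSpace.mpr this

end Top

section BC

variable {k : Type u} [Field k] {X : Scheme.{u}} (f : X ⟶ Spec (CommRingCat.of k))

/-- change of fields map between base changes -/
theorem exists_bcChange {K M : Type u} [Field K] [Field M] [Algebra k K] [Algebra k M]
    (φ : K →+* M) (hφ : φ.comp (algebraMap k K) = algebraMap k M) :
    ∃ q : FBase.bc f M ⟶ FBase.bc f K, q ≫ FBase.bcπ f K = FBase.bcπ f M ∧
      IsPullback q (FBase.bcStr f M) (FBase.bcStr f K) (Spec.map (CommRingCat.ofHom φ)) := by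
  have hcomp : Spec.map (CommRingCat.ofHom (algebraMap k M)) =
      Spec.map (CommRingCat.ofHom φ) ≫ Spec.map (CommRingCat.ofHom (algebraMap k K)) := by
    rw [← Spec.map_comp, ← CommRingCat.ofHom_comp, hφ]
  have hbig : IsPullback (FBase.bcπ f M) (FBase.bcStr f M) f
      (Spec.map (CommRingCat.ofHom (algebraMap k M))) := IsPullback.of_hasPullback _ _
  have hright : IsPullback (FBase.bcπ f K) (FBase.bcStr f K) f
      (Spec.map (CommRingCat.ofHom (algebraMap k K))) := IsPullback.of_hasPullback _ _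
  rw [hcomp] at hbig
  let q : FBase.bc f M ⟶ FBase.bc f K :=
    pullback.lift (FBase.bcπ f M) (FBase.bcStr f M ≫ Spec.map (CommRingCat.ofHom φ)) (by
      rw [Category.assoc]
      exact hbig.w)
  have hq1 : q ≫ FBase.bcπ f K = FBase.bcπ f M := pullback.lift_fst _ _ _
  have hq2 : q ≫ FBase.bcStr f K = FBase.bcStr f M ≫ Spec.map (CommRingCat.ofHom φ) :=
    pullback.lift_snd _ _ _
  refine ⟨q, hq1, ?_⟩
  rw [← hq1] at hbig
  exact hbig.of_right hq2 hright

theorem bcChange_props {K M : Type u} [Field K] [Field M]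
    (φ : K →+* M) {P Q : Scheme.{u}} (q : P ⟶ Q) (s' : P ⟶ Spec (CommRingCat.of M))
    (s : Q ⟶ Spec (CommRingCat.of K))
    (hq : IsPullback q s' s (Spec.map (CommRingCat.ofHom φ))) :
    Function.Surjective q ∧ IsOpenMap q := by
  haveI : Surjective (Spec.map (CommRingCat.ofHom φ)) :=
    Groth.Agent.Lib.Lead.surjective_Spec_map_of_field φ
  haveI : UniversallyOpen (Spec.map (CommRingCat.ofHom φ)) := inferInstance
  haveI : Surjective q := MorphismProperty.of_isPullback hq.flip inferInstance
  haveI : UniversallyOpen q := MorphismProperty.of_isPullback hq.flip inferInstance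
  exact ⟨q.surjective, q.isOpenMap⟩

theorem bcChange_geomIrred {K M : Type u} [Field K] [Field M] [IsAlgClosed K]
    (φ : K →+* M) {P Q : Scheme.{u}} (q : P ⟶ Q) (s' : P ⟶ Spec (CommRingCat.of M))
    (s : Q ⟶ Spec (CommRingCat.of K))
    (hq : IsPullback q s' s (Spec.map (CommRingCat.ofHom φ))) :
    GeometricallyIrreducible q := by
  haveI : GeometricallyIrreducible (Spec.map (CommRingCat.ofHom φ)) :=
    Groth.Agent.Lib.Helper5.geometricallyIrreducible_of_isAlgClosed K _
  exact MorphismProperty.of_isPullback hq.flip inferInstance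

theorem card_irreducibleComponents_le {K Ω : Type u} [Field K] [Algebra k K]
    [Field Ω] [Algebra k Ω] [IsAlgClosed Ω] :
    Cardinal.mk ↥(irreducibleComponents ↥(FBase.bc f K)) ≤
      Cardinal.mk ↥(irreducibleComponents ↥(FBase.bc f Ω)) := by
  obtain ⟨M, _, φ, ψ, hcompat⟩ := Groth.Agent.Lib.Lead.exists_common_field_extension k K Ω
  letI : Algebra k M := (φ.comp (algebraMap k K)).toAlgebra
  obtain ⟨qK, hqK1, hqK2⟩ := exists_bcChange f φ rfl
  obtain ⟨qΩ, hqΩ1, hqΩ2⟩ := exists_bcChange f ψ hcompat.symm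
  obtain ⟨hKs, -⟩ := bcChange_props φ qK _ _ hqK2
  obtain ⟨-, hΩo⟩ := bcChange_props ψ qΩ _ _ hqΩ2
  haveI := bcChange_geomIrred ψ qΩ _ _ hqΩ2
  calc Cardinal.mk ↥(irreducibleComponents ↥(FBase.bc f K))
      ≤ Cardinal.mk ↥(irreducibleComponents ↥(FBase.bc f M)) :=
        mk_irreducibleComponents_le qK qK.continuous hKs
    _ = Cardinal.mk ↥(irreducibleComponents ↥(FBase.bc f Ω)) :=
        Cardinal.mk_congr (qΩ.irreducibleComponentsEquiv hΩo)

theorem card_connectedComponents_le {K Ω : Type u} [Field K] [Algebra k K]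
    [Field Ω] [Algebra k Ω] [IsAlgClosed Ω] :
    Cardinal.mk (_root_.ConnectedComponents ↥(FBase.bc f K)) ≤
      Cardinal.mk (_root_.ConnectedComponents ↥(FBase.bc f Ω)) := by
  obtain ⟨M, _, φ, ψ, hcompat⟩ := Groth.Agent.Lib.Lead.exists_common_field_extension k K Ω
  letI : Algebra k M := (φ.comp (algebraMap k K)).toAlgebra
  obtain ⟨qK, hqK1, hqK2⟩ := exists_bcChange f φ rfl
  obtain ⟨qΩ, hqΩ1, hqΩ2⟩ := exists_bcChange f ψ hcompat.symm
  obtain ⟨hKs, -⟩ := bcChange_props φ qK _ _ hqK2
  obtain ⟨-, hΩo⟩ := bcChange_props ψ qΩ _ _ hqΩ2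
  haveI := bcChange_geomIrred ψ qΩ _ _ hqΩ2
  haveI : GeometricallyConnected qΩ :=
    H12S2501.geometricallyConnected_of_geometricallyIrreducible qΩ
  calc Cardinal.mk (_root_.ConnectedComponents ↥(FBase.bc f K))
      ≤ Cardinal.mk (_root_.ConnectedComponents ↥(FBase.bc f M)) :=
        mk_connectedComponents_le qK qK.continuous hKs
    _ = Cardinal.mk (_root_.ConnectedComponents ↥(FBase.bc f Ω)) :=
        Cardinal.mk_congr (qΩ.connectedComponentsHomeomorph hΩo).toEquiv

/-- the key lemma for geometric connectedness of a connected component -/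
theorem isConnected_preimage_connectedComponent_bc (y₀ : X)
    (S : Set ↥(FBase.bc f (AlgebraicClosure k))) (hS : _root_.IsPreconnected S)
    (hy₀ : (FBase.bcπ f (AlgebraicClosure k)) ⁻¹' {y₀} ⊆ S)
    (K : Type u) [Field K] [Algebra k K] :
    _root_.IsConnected ((FBase.bcπ f K) ⁻¹' connectedComponent y₀) := by
  set Ω := AlgebraicClosure k with hΩdef
  -- the projection from the algebraic closure
  have hπ : IsOpenMap (FBase.bcπ f Ω) ∧ IsClosedMap (FBase.bcπ f Ω) ∧
      Function.Surjective (FBase.bcπ f Ω) := by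
    set g := Spec.map (CommRingCat.ofHom (algebraMap k Ω)) with hg
    haveI : IsIntegralHom g := by
      rw [hg, IsIntegralHom.SpecMap_iff]
      exact algebraMap_isIntegral_iff.mpr inferInstance
    haveI : Surjective g := Groth.Agent.Lib.Lead.surjective_Spec_map_of_field _
    show IsOpenMap (pullback.fst f g) ∧ IsClosedMap (pullback.fst f g) ∧
      Function.Surjective (pullback.fst f g)
    exact ⟨(pullback.fst f g).isOpenMap, (pullback.fst f g).isClosedMap,
      (pullback.fst f g).surjective⟩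
  have hΩ : _root_.IsConnected ((FBase.bcπ f Ω) ⁻¹' connectedComponent y₀) :=
    isConnected_preimage_connectedComponent (FBase.bcπ f Ω) (FBase.bcπ f Ω).continuous
      hπ.1 hπ.2.1 hπ.2.2 S hS y₀ hy₀
  obtain ⟨M, _, φ, ψ, hcompat⟩ := Groth.Agent.Lib.Lead.exists_common_field_extension k K Ω
  letI : Algebra k M := (φ.comp (algebraMap k K)).toAlgebra
  obtain ⟨qK, hqK1, hqK2⟩ := exists_bcChange f φ rfl
  obtain ⟨qΩ, hqΩ1, hqΩ2⟩ := exists_bcChange f ψ hcompat.symm
  obtain ⟨hKs, -⟩ := bcChange_props φ qK _ _ hqK2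
  obtain ⟨-, hΩo⟩ := bcChange_props ψ qΩ _ _ hqΩ2
  haveI := bcChange_geomIrred ψ qΩ _ _ hqΩ2
  haveI : GeometricallyConnected qΩ :=
    H12S2501.geometricallyConnected_of_geometricallyIrreducible qΩ
  have hcl : IsClosed ((FBase.bcπ f Ω) ⁻¹' connectedComponent y₀) :=
    isClosed_connectedComponent.preimage (FBase.bcπ f Ω).continuous
  have hM : _root_.IsConnected (qΩ ⁻¹' ((FBase.bcπ f Ω) ⁻¹' connectedComponent y₀)) :=
    qΩ.isConnected_preimage hΩo hΩ hcl
  have himg : (FBase.bcπ f K) ⁻¹' connectedComponent y₀ =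
      qK '' (qΩ ⁻¹' ((FBase.bcπ f Ω) ⁻¹' connectedComponent y₀)) := by
    ext z
    constructor
    · intro hz
      obtain ⟨w, hw⟩ := hKs z
      refine ⟨w, ?_, hw⟩
      show (FBase.bcπ f Ω) (qΩ w) ∈ connectedComponent y₀
      rw [← Scheme.Hom.comp_apply, hqΩ1, ← hqK1, Scheme.Hom.comp_apply, hw]
      exact hz
    · rintro ⟨w, hw, rfl⟩
      show (FBase.bcπ f K) (qK w) ∈ connectedComponent y₀
      rw [← Scheme.Hom.comp_apply, hqK1, ← hqΩ1, Scheme.Hom.comp_apply]
      exact hw
  rw [himg]
  exact hM.image _ qK.continuous.continuousOn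

end BC

end H12GeomComp
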