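import Mathlib
import Groth.Agent.Lib.Helper12.GeomComp

set_option autoImplicit false
universe u

namespace H12GeomComp

open CategoryTheory CategoryTheory.Limits AlgebraicGeometry

theorem isConnected_preimage_connectedComponent_of_source {k K : Type u} [Field k] [Field K]
    [Algebra k K] {X Y : Scheme.{u}} (f : X ⟶ Spec (CommRingCat.of k))
    (g : Y ⟶ Spec (CommRingCat.of k)) (h : Y ⟶ X) (w : h ≫ f = g)
    [GeometricallyConnected g] (y : Y) :
    _root_.IsConnected (⇑(FBase.bcπ f K) ⁻¹' connectedComponent (h y)) := by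
  subst w
  set Ω := AlgebraicClosure k with hΩ
  set gΩ := Spec.map (CommRingCat.ofHom (algebraMap k Ω)) with hg
  set π := pullback.fst f gΩ with hπ
  haveI hYK : ConnectedSpace ↥(pullback (h ≫ f) gΩ) :=
    GeometricallyConnected.geometrically_connectedSpace (f := h ≫ f) gΩ _ _
      (IsPullback.of_hasPullback _ _)
  let b : pullback (h ≫ f) gΩ ⟶ pullback f gΩ :=
    pullback.lift (pullback.fst (h ≫ f) gΩ ≫ h) (pullback.snd (h ≫ f) gΩ) (by
      rw [Category.assoc, pullback.condition])
  have hb1 : b ≫ π = pullback.fst (h ≫ f) gΩ ≫ h := pullback.lift_fst _ _ _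
  have hb2 : b ≫ pullback.snd f gΩ = pullback.snd (h ≫ f) gΩ := pullback.lift_snd _ _ _
  have hsq : IsPullback b (pullback.fst (h ≫ f) gΩ) π h := by
    have hbig : IsPullback (pullback.snd (h ≫ f) gΩ) (pullback.fst (h ≫ f) gΩ) gΩ (h ≫ f) :=
      (IsPullback.of_hasPullback (h ≫ f) gΩ).flip
    have hright : IsPullback (pullback.snd f gΩ) π gΩ f := (IsPullback.of_hasPullback f gΩ).flip
    rw [← hb2] at hbig
    exact IsPullback.of_right hbig hb1 hright
  have hpre : _root_.IsPreconnected (Set.range b) := isPreconnected_range b.continuous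
  refine isConnected_preimage_connectedComponent_bc f (h y) (Set.range b) hpre ?_ K
  intro c hc
  have hc' : π c = h y := hc
  obtain ⟨z, hz1, -⟩ := H12S2502.exists_of_isPullback hsq c y hc'
  exact ⟨z, hz1⟩

end H12GeomComp
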