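import Mathlib

set_option autoImplicit false
universe u

namespace H12S13741

open CategoryTheory CategoryTheory.Limits AlgebraicGeometry

lemma field_lemma {F E Ω : Type u} [Field F] [Field E] [Field Ω] (ι : F →+* E)
    (hN : @Normal F E _ _ ι.toAlgebra) (φ₁ φ₂ : E →+* Ω) (h : φ₁.comp ι = φ₂.comp ι) :
    ∃ σ : E ≃+* E, (σ : E →+* E).comp ι = ι ∧ φ₂.comp (σ : E →+* E) = φ₁ := by
  letI : Algebra F E := ι.toAlgebra
  letI : Algebra E Ω := φ₂.toAlgebra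
  letI : Algebra F Ω := (φ₂.comp ι).toAlgebra
  haveI : IsScalarTower F E Ω := IsScalarTower.of_algebraMap_eq fun x => rfl
  let ψ : E →ₐ[F] Ω := AlgHom.mk φ₁ (fun x => by
    show φ₁ (ι x) = φ₂ (ι x)
    exact congr($h x))
  let σ : E ≃ₐ[F] E := ψ.restrictNormal' E
  refine ⟨σ.toRingEquiv, ?_, ?_⟩
  · ext x
    exact σ.commutes x
  · ext x
    have := AlgHom.restrictNormal_commutes ψ E x
    exact this

variable {X S : Scheme.{u}} (q : X ⟶ S) {G : Type u} [Group G] (ρ : G →* Aut X)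

theorem main (hρ : ∀ g : G, (ρ g).hom ≫ q = q)
    (h1 : ∀ x y : X, q x = q y → ∃ g : G, (ρ g).hom x = y)
    (h2 : ∀ x : X, @Normal (S.residueField (q x)) (X.residueField x) _ _
      (q.residueFieldMap x).hom.toAlgebra)
    (h3 : ∀ (x : X) (σ : X.residueField x ≅ X.residueField x),
      q.residueFieldMap x ≫ σ.hom = q.residueFieldMap x →
        ∃ g : G, X.fromSpecResidueField x ≫ (ρ g).hom = Spec.map σ.hom ≫ X.fromSpecResidueField x)
    (Ω : Type u) [Field Ω] [IsAlgClosed Ω] (τ₁ τ₂ : Spec (CommRingCat.of Ω) ⟶ X)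
    (hτ : τ₁ ≫ q = τ₂ ≫ q) : ∃ g : G, τ₁ ≫ (ρ g).hom = τ₂ := by
  -- the image points
  obtain ⟨⟨x₁, φ₁⟩, hx₁⟩ := (Scheme.SpecToEquivOfField Ω X).symm.surjective τ₁
  obtain ⟨⟨x₂, φ₂⟩, hx₂⟩ := (Scheme.SpecToEquivOfField Ω X).symm.surjective τ₂
  change Spec.map φ₁ ≫ X.fromSpecResidueField x₁ = τ₁ at hx₁
  change Spec.map φ₂ ≫ X.fromSpecResidueField x₂ = τ₂ at hx₂
  have hq : q x₁ = q x₂ := by
    have e1 : (τ₁ ≫ q) (IsLocalRing.closedPoint Ω) = q x₁ := by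
      rw [← hx₁]
      simp [Scheme.fromSpecResidueField_apply]
    have e2 : (τ₂ ≫ q) (IsLocalRing.closedPoint Ω) = q x₂ := by
      rw [← hx₂]
      simp [Scheme.fromSpecResidueField_apply]
    rw [← e1, ← e2, hτ]
  obtain ⟨g₁, hg₁⟩ := h1 x₁ x₂ hq
  -- move τ₁ to x₂
  obtain ⟨⟨x₁', φ₁'⟩, hx₁'⟩ := (Scheme.SpecToEquivOfField Ω X).symm.surjective (τ₁ ≫ (ρ g₁).hom)
  change Spec.map φ₁' ≫ X.fromSpecResidueField x₁' = τ₁ ≫ (ρ g₁).hom at hx₁'
  have hx : x₁' = x₂ := by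
    have e1 : (τ₁ ≫ (ρ g₁).hom) (IsLocalRing.closedPoint Ω) = x₁' := by
      rw [← hx₁']
      simp [Scheme.fromSpecResidueField_apply]
    have e2 : (τ₁ ≫ (ρ g₁).hom) (IsLocalRing.closedPoint Ω) = x₂ := by
      rw [← hx₁, ← hg₁]
      simp [Scheme.fromSpecResidueField_apply]
    rw [← e1, e2]
  subst hx
  -- now both at x₁'
  have hτ' : (τ₁ ≫ (ρ g₁).hom) ≫ q = τ₂ ≫ q := by
    rw [Category.assoc, hρ]
    exact hτ
  rw [← hx₁', ← hx₂, Category.assoc, Category.assoc,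
    ← Scheme.Hom.SpecMap_residueFieldMap_fromSpecResidueField, ← Category.assoc, ← Category.assoc,
    cancel_mono, ← Spec.map_comp, ← Spec.map_comp] at hτ'
  have hι := Spec.map_injective hτ'
  obtain ⟨σ, hσ1, hσ2⟩ := field_lemma (q.residueFieldMap x₁').hom (h2 x₁') φ₁'.hom φ₂.hom
    (by rw [← CommRingCat.hom_comp, ← CommRingCat.hom_comp, hι])
  obtain ⟨g, hg⟩ := h3 x₁' σ.toCommRingCatIso (by
    ext y
    exact congr($hσ1 y))
  have hmul : ∀ a b : G, (ρ (a * b)).hom = (ρ b).hom ≫ (ρ a).hom := by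
    intro a b; rw [map_mul]; rfl
  refine ⟨g⁻¹ * g₁, ?_⟩
  have e1 : τ₂ ≫ (ρ g).hom = τ₁ ≫ (ρ g₁).hom := by
    rw [← hx₂, ← hx₁', Category.assoc, hg, ← Category.assoc, ← Spec.map_comp]
    congr 2
    ext y
    exact congr($hσ2 y)
  rw [hmul, ← Category.assoc, ← e1, Category.assoc, ← hmul, inv_mul_cancel, map_one]
  exact Category.comp_id _

end H12S13741
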