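import Mathlib
import Groth.Agent.Lib.Helper12.FinSigma

set_option autoImplicit false
universe u

namespace H12S13739

open CategoryTheory CategoryTheory.Limits AlgebraicGeometry

theorem main {X S Y : Scheme.{u}} (q : X ⟶ S) [IsFinite q] {G : Type u} [Group G] [Finite G]
    (ρ : G →* Aut X)
    (htrans : ∀ (Ω : Type u) [Field Ω] [IsAlgClosed Ω] (τ₁ τ₂ : Spec (CommRingCat.of Ω) ⟶ X),
      τ₁ ≫ q = τ₂ ≫ q → ∃ g : G, τ₁ ≫ (ρ g).hom = τ₂)
    (r : Y ⟶ X) (υ : (∐ fun _ : G => Y) ⟶ pullback (r ≫ q) q)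
    (hυ₁ : ∀ σ : G, Sigma.ι (fun _ : G => Y) σ ≫ υ ≫ pullback.fst (r ≫ q) q = 𝟙 Y)
    (hυ₂ : ∀ σ : G, Sigma.ι (fun _ : G => Y) σ ≫ υ ≫ pullback.snd (r ≫ q) q = r ≫ (ρ σ).hom) :
    IsFinite υ ∧ Surjective υ := by
  have hυ : υ = Sigma.desc (fun σ : G => Sigma.ι (fun _ : G => Y) σ ≫ υ) := by
    apply Sigma.hom_ext
    intro σ
    rw [Sigma.ι_desc]
  constructor
  · rw [hυ]
    apply H12FinSigma.isFinite_sigmaDesc
    intro σ
    haveI : IsFinite ((Sigma.ι (fun _ : G => Y) σ ≫ υ) ≫ pullback.fst (r ≫ q) q) := by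
      rw [Category.assoc, hυ₁]; infer_instance
    exact IsFinite.of_comp _ (pullback.fst (r ≫ q) q)
  · constructor
    intro z
    let P := pullback (r ≫ q) q
    let Ω := AlgebraicClosure (P.residueField z)
    let pt : Spec (CommRingCat.of Ω) := IsLocalRing.closedPoint Ω
    obtain ⟨ζ, hz⟩ : ∃ ζ : Spec (CommRingCat.of Ω) ⟶ P, ζ pt = z := by
      refine ⟨Spec.map (CommRingCat.ofHom (algebraMap (P.residueField z) Ω)) ≫
        P.fromSpecResidueField z, ?_⟩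
      rw [Scheme.Hom.comp_apply, Scheme.fromSpecResidueField_apply]
    obtain ⟨g, hg⟩ := htrans Ω (ζ ≫ pullback.fst (r ≫ q) q ≫ r) (ζ ≫ pullback.snd (r ≫ q) q) (by
      rw [Category.assoc, Category.assoc, Category.assoc, pullback.condition])
    have hζ : ζ = (ζ ≫ pullback.fst (r ≫ q) q) ≫ Sigma.ι (fun _ : G => Y) g ≫ υ := by
      apply pullback.hom_ext
      · rw [Category.assoc, Category.assoc, Category.assoc, hυ₁, Category.comp_id]
      · rw [Category.assoc, Category.assoc, Category.assoc, hυ₂, ← hg]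
        simp only [Category.assoc]
    refine ⟨Sigma.ι (fun _ : G => Y) g ((ζ ≫ pullback.fst (r ≫ q) q) pt), ?_⟩
    have h3 : ((ζ ≫ pullback.fst (r ≫ q) q) ≫ Sigma.ι (fun _ : G => Y) g ≫ υ) pt = z := by
      rw [← hζ]; exact hz
    simpa only [Scheme.Hom.comp_apply] using h3

end H12S13739
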