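import Mathlib

set_option autoImplicit false
universe u

namespace H12S13738

open CategoryTheory CategoryTheory.Limits AlgebraicGeometry

variable {X S : Scheme.{u}} (q : X ⟶ S) {G : Type u} [Group G] (ρ : G →* Aut X)

/-- geometric transitivity implies transitivity on the points of each fibre -/
theorem point_trans
    (htrans : ∀ (Ω : Type u) [Field Ω] [IsAlgClosed Ω] (τ₁ τ₂ : Spec (CommRingCat.of Ω) ⟶ X),
      τ₁ ≫ q = τ₂ ≫ q → ∃ g : G, τ₁ ≫ (ρ g).hom = τ₂)
    (x y : X) (h : q x = q y) : ∃ g : G, (ρ g).hom x = y := by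
  obtain ⟨z, hz1, hz2⟩ := Scheme.Pullback.exists_preimage_pullback (f := q) (g := q) x y h
  let P := pullback q q
  let Ω := AlgebraicClosure (P.residueField z)
  let pt : Spec (CommRingCat.of Ω) := IsLocalRing.closedPoint Ω
  obtain ⟨ζ, hζ⟩ : ∃ ζ : Spec (CommRingCat.of Ω) ⟶ P, ζ pt = z := by
    refine ⟨Spec.map (CommRingCat.ofHom (algebraMap (P.residueField z) Ω)) ≫
      P.fromSpecResidueField z, ?_⟩
    rw [Scheme.Hom.comp_apply, Scheme.fromSpecResidueField_apply]
  obtain ⟨g, hg⟩ := htrans Ω (ζ ≫ pullback.fst q q) (ζ ≫ pullback.snd q q) (by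
    rw [Category.assoc, Category.assoc, pullback.condition])
  refine ⟨g, ?_⟩
  have h1 : ((ζ ≫ pullback.fst q q) ≫ (ρ g).hom) pt = (ζ ≫ pullback.snd q q) pt := by rw [hg]
  simp only [Scheme.Hom.comp_apply] at h1
  rw [hζ, hz1, hz2] at h1
  exact h1

lemma hom_mul (a b : G) (x : X) : (ρ (a * b)).hom x = (ρ a).hom ((ρ b).hom x) := by
  rw [map_mul]
  show ((ρ b).hom ≫ (ρ a).hom) x = _
  rw [Scheme.Hom.comp_apply]

lemma image_closure (g : G) (A : Set X) :
    (fun x => (ρ g).hom x) '' closure A = closure ((fun x => (ρ g).hom x) '' A) :=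
  (Scheme.homeoOfIso (ρ g)).image_closure A

theorem main [IrreducibleSpace ↥S] [IsFinite q] [Surjective q]
    (hρ : ∀ g : G, (ρ g).hom ≫ q = q)
    (htrans : ∀ (Ω : Type u) [Field Ω] [IsAlgClosed Ω] (τ₁ τ₂ : Spec (CommRingCat.of Ω) ⟶ X),
      τ₁ ≫ q = τ₂ ≫ q → ∃ g : G, τ₁ ≫ (ρ g).hom = τ₂) :
    (∀ T ∈ irreducibleComponents ↥X, Set.image (fun x => q x) T = Set.univ) ∧
      ∀ T₁ ∈ irreducibleComponents ↥X, ∀ T₂ ∈ irreducibleComponents ↥X,
        ∃ g : G, Set.image (fun x => (ρ g).hom x) T₁ = T₂ := by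
  set η := genericPoint ↥S with hη
  have hηgen : closure ({η} : Set S) = Set.univ := by
    have := genericPoint_spec ↥S
    rw [IsGenericPoint] at this
    rw [this]
  obtain ⟨ξ, hξ⟩ := q.surjective η
  have hclosed : IsClosedMap q := q.isClosedMap
  have hqρ : ∀ (g : G) (x : X), q ((ρ g).hom x) = q x := by
    intro g x
    rw [← Scheme.Hom.comp_apply, hρ]
  -- image of a closed set containing a point over η is everything
  have honto : ∀ (C : Set X), IsClosed C → ∀ x ∈ C, q x = η → (fun x => q x) '' C = Set.univ := by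
    intro C hC x hx hxη
    apply Set.eq_univ_of_univ_subset
    rw [← hηgen]
    apply closure_minimal _ (hclosed C hC)
    rw [Set.singleton_subset_iff]
    exact ⟨x, hx, hxη⟩
  have key : ∀ T ∈ irreducibleComponents ↥X, ∃ g : G, T = closure {(ρ g).hom ξ} := by
    intro T hT
    have hTc : IsClosed T := isClosed_of_mem_irreducibleComponents T hT
    have hTi : IsIrreducible T := hT.1
    obtain ⟨t, ht⟩ := QuasiSober.sober hTi hTc
    have hz : q t ∈ (fun x => q x) '' closure {ξ} := by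
      rw [honto (closure {ξ}) isClosed_closure ξ (subset_closure (Set.mem_singleton ξ)) hξ]
      trivial
    obtain ⟨z, hzc, hzt⟩ := hz
    obtain ⟨g, hg⟩ := point_trans q ρ htrans z t hzt
    refine ⟨g, ?_⟩
    have h1 : t ∈ closure {(ρ g).hom ξ} := by
      have := image_closure ρ g {ξ}
      rw [Set.image_singleton] at this
      rw [← this, ← hg]
      exact ⟨z, hzc, rfl⟩
    have h2 : T ⊆ closure {(ρ g).hom ξ} := by
      rw [← ht.def]
      exact closure_minimal (Set.singleton_subset_iff.mpr h1) isClosed_closure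
    exact (hT.eq_of_ge isIrreducible_singleton.closure h2).symm
  refine ⟨fun T hT => ?_, fun T₁ hT₁ T₂ hT₂ => ?_⟩
  · obtain ⟨g, rfl⟩ := key T hT
    exact honto _ isClosed_closure _ (subset_closure (Set.mem_singleton _)) ((hqρ g ξ).trans hξ)
  · obtain ⟨g₁, rfl⟩ := key T₁ hT₁
    obtain ⟨g₂, rfl⟩ := key T₂ hT₂
    refine ⟨g₂ * g₁⁻¹, ?_⟩
    rw [image_closure, Set.image_singleton, ← hom_mul, inv_mul_cancel_right]

end H12S13738
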