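import Mathlib
import Groth.Prelude.Def_GrMod3

set_option autoImplicit false
universe u
open CategoryTheory AlgebraicGeometry TopologicalSpace Opposite

namespace H12GrAlpha

variable {R σ : Type u} [CommRing R] [SetLike σ R] [AddSubgroupClass σ R]
    (𝒜 : ℕ → σ) [GradedRing 𝒜] {M τ : Type u} [AddCommGroup M] [Module R M] [SetLike τ M] [AddSubgroupClass τ M]
    (ℳ : ℕ → τ) [SetLike.GradedSMul 𝒜 ℳ]

theorem alpha_eq_zero_iff (i : ℕ) (m : ℳ i) :
    GrMod.alpha 𝒜 ℳ i m = 0 ↔ ∀ x : ProjectiveSpectrum 𝒜,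
      (LocalizedModule.mk (m : M) 1 : GrMod.LocMod 𝒜 (M := M) x) = 0 := by
  constructor
  · intro h x
    have h2 : (GrMod.globalOf 𝒜 ℳ m : GrMod.sect 𝒜 ℳ (i : ℤ) (op ⊤)) = 0 := h
    have h3 := congrArg (fun s : GrMod.sect 𝒜 ℳ (i : ℤ) (op ⊤) =>
      ((s.1 ⟨x, trivial⟩ : GrMod.tildeAt 𝒜 ℳ i x) : GrMod.LocMod 𝒜 (M := M) x)) h2
    exact h3
  · intro h
    change (GrMod.globalOf 𝒜 ℳ m : GrMod.sect 𝒜 ℳ (i : ℤ) (op ⊤)) = 0
    refine Subtype.ext (funext fun x => Subtype.ext ?_)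
    exact h x.1

end H12GrAlpha

namespace H12GrAlpha

open DirectSum

variable {R σ : Type u} [CommRing R] [SetLike σ R] [AddSubgroupClass σ R]
    (𝒜 : ℕ → σ) [GradedRing 𝒜] {M τ : Type u} [AddCommGroup M] [Module R M] [SetLike τ M] [AddSubgroupClass τ M]
    (ℳ : ℕ → τ) [SetLike.GradedSMul 𝒜 ℳ]

omit [AddSubgroupClass τ M] [SetLike.GradedSMul 𝒜 ℳ] in
theorem mk_eq_zero_iff (x : ProjectiveSpectrum 𝒜) (m : M) :
    (LocalizedModule.mk m 1 : GrMod.LocMod 𝒜 (M := M) x) = 0 ↔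
      ∃ s : R, s ∉ x.asHomogeneousIdeal ∧ s • m = 0 := by
  rw [← LocalizedModule.zero_mk (1 : x.asHomogeneousIdeal.toIdeal.primeCompl), LocalizedModule.mk_eq]
  constructor
  · rintro ⟨u, hu⟩
    refine ⟨u.1, u.2, ?_⟩
    have : u • m = (u : R) • m := rfl
    rw [← this]
    simpa using hu
  · rintro ⟨s, hs, h⟩
    refine ⟨⟨s, hs⟩, ?_⟩
    have : (⟨s, hs⟩ : x.asHomogeneousIdeal.toIdeal.primeCompl) • m = s • m := rfl
    simp only [one_smul, smul_zero]
    rw [this, h]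

section decomp

variable [DirectSum.Decomposition ℳ]

theorem decompose_smul_of_mem (r : R) {e : ℕ} {m : M} (hm : m ∈ ℳ e) (d : ℕ) :
    ((decompose ℳ (r • m)) (d + e) : M) = ((decompose 𝒜 r) d : R) • m := by
  induction r using DirectSum.Decomposition.inductionOn 𝒜 with
  | zero => simp
  | @homogeneous a r =>
    have h1 : (r : R) • m ∈ ℳ (a + e) := SetLike.GradedSMul.smul_mem r.2 hm
    by_cases h : a = d
    · subst h
      rw [decompose_of_mem_same ℳ h1, decompose_of_mem_same 𝒜 r.2]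
    · rw [decompose_of_mem_ne ℳ h1 (by omega), decompose_of_mem_ne 𝒜 r.2 h, zero_smul]
  | add r s hr hs =>
    rw [add_smul, decompose_add, decompose_add, DirectSum.add_apply, DirectSum.add_apply,
      AddMemClass.coe_add, AddMemClass.coe_add, hr, hs, add_smul]

/-- the annihilator of a homogeneous element is homogeneous. -/
theorem ann_homogeneous {e : ℕ} (m : ℳ e) :
    ((Submodule.span R {(m : M)}).annihilator).IsHomogeneous 𝒜 := by
  intro d r hr
  rw [Submodule.mem_annihilator_span_singleton] at hr ⊢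
  rw [← decompose_smul_of_mem 𝒜 ℳ r m.2 d, hr]
  simp

end decomp

theorem main [IsNoetherianRing R] [DirectSum.Decomposition ℳ] (i : ℕ) (m : ℳ i) :
    GrMod.alpha 𝒜 ℳ i m = 0 ↔
      ∃ k : ℕ, ∀ r : R, r ∈ (HomogeneousIdeal.irrelevant 𝒜).toIdeal ^ k → r • (m : M) = 0 := by
  rw [alpha_eq_zero_iff]
  simp only [mk_eq_zero_iff]
  set I := (Submodule.span R {(m : M)}).annihilator with hI
  have hIhom : I.IsHomogeneous 𝒜 := ann_homogeneous 𝒜 ℳ m
  constructor
  · intro h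
    have hle : (HomogeneousIdeal.irrelevant 𝒜).toIdeal ≤ I.radical := by
      rw [hIhom.radical_eq]
      refine le_sInf ?_
      rintro J ⟨hJh, hIJ, hJp⟩
      by_contra hnot
      let x : ProjectiveSpectrum 𝒜 := ⟨⟨J, hJh⟩, hJp, hnot⟩
      obtain ⟨s, hs, hsm⟩ := h x
      apply hs
      apply hIJ
      rw [hI, Submodule.mem_annihilator_span_singleton]
      exact hsm
    obtain ⟨k, hk⟩ := Ideal.exists_pow_le_of_le_radical_of_fg hle
      (IsNoetherian.noetherian _)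
    refine ⟨k, fun r hr => ?_⟩
    have := hk hr
    rwa [hI, Submodule.mem_annihilator_span_singleton] at this
  · rintro ⟨k, hk⟩ x
    have hx := x.not_irrelevant_le
    rw [SetLike.not_le_iff_exists] at hx
    obtain ⟨f, hf, hfx⟩ := hx
    refine ⟨f ^ k, fun h => hfx (x.isPrime.mem_of_pow_mem k h), hk _ (Ideal.pow_mem_pow hf k)⟩

end H12GrAlpha
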