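import Mathlib

open Module

namespace H12GrEnd

universe u v

section Lattice

/-- independent family `B`, `A ≤ B` pointwise with the same supremum, then `A = B`. -/
theorem eq_of_le_of_iSup_eq {α : Type*} [CompleteLattice α] [IsModularLattice α] {ι : Type*}
    (A B : ι → α) (hB : iSupIndep B) (hle : ∀ i, A i ≤ B i) (hsup : ⨆ i, A i = ⨆ i, B i) (j : ι) :
    A j = B j := by
  apply le_antisymm (hle j)
  have h1 : B j ≤ ⨆ i, A i := hsup ▸ le_iSup B j
  have h2 : (⨆ i, A i) ≤ A j ⊔ ⨆ (i) (_ : i ≠ j), B i := by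
    apply iSup_le
    intro i
    by_cases hij : i = j
    · subst hij; exact le_sup_left
    · exact le_sup_of_le_right (le_iSup₂_of_le i hij (hle i))
  have h3 : B j ≤ (A j ⊔ ⨆ (i) (_ : i ≠ j), B i) ⊓ B j := le_inf (h1.trans h2) le_rfl
  rw [sup_inf_assoc_of_le _ (hle j)] at h3
  have h4 : (⨆ (i) (_ : i ≠ j), B i) ⊓ B j = ⊥ := by
    rw [inf_comm]
    exact (hB j).eq_bot
  rw [h4, sup_bot_eq] at h3
  exact h3

end Lattice

/-- a functional which is `1` at `x₀ ∈ 𝒱 i₀` and vanishes on the other pieces -/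
theorem exists_functional {k : Type u} [Field k] {V : Type v} [AddCommGroup V] [Module k V]
    (𝒱 : ℤ → Submodule k V) (h𝒱 : DirectSum.IsInternal 𝒱) (i₀ : ℤ) (x₀ : V) (hx₀ : x₀ ∈ 𝒱 i₀)
    (hne : x₀ ≠ 0) :
    ∃ ℓ : V →ₗ[k] k, ℓ x₀ = 1 ∧ ∀ j, j ≠ i₀ → ∀ v ∈ 𝒱 j, ℓ v = 0 := by
  classical
  let e := LinearEquiv.ofBijective (DirectSum.coeLinearMap 𝒱) h𝒱
  have he : ∀ (j : ℤ) (v : V) (hv : v ∈ 𝒱 j),
      e.symm v = DirectSum.of (fun i => 𝒱 i) j ⟨v, hv⟩ := by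
    intro j v hv
    rw [LinearEquiv.symm_apply_eq]
    exact (DirectSum.coeLinearMap_of 𝒱 j ⟨v, hv⟩).symm
  -- functional on 𝒱 i₀
  let ι₀ : k →ₗ[k] 𝒱 i₀ := LinearMap.toSpanSingleton k (𝒱 i₀) ⟨x₀, hx₀⟩
  have hinj : Function.Injective ι₀ := by
    intro a b hab
    have h1 : a • x₀ = b • x₀ := congrArg Subtype.val hab
    have h2 : (a - b) • x₀ = 0 := by rw [sub_smul, h1, sub_self]
    rcases smul_eq_zero.mp h2 with h | h
    · exact sub_eq_zero.mp h
    · exact absurd h hne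
  obtain ⟨lam, hlam⟩ := LinearMap.exists_leftInverse_of_injective ι₀ (LinearMap.ker_eq_bot.mpr hinj)
  have hlam1 : lam ⟨x₀, hx₀⟩ = 1 := by
    have := LinearMap.congr_fun hlam 1
    simpa [ι₀] using this
  refine ⟨lam ∘ₗ DirectSum.component k ℤ (fun i => 𝒱 i) i₀ ∘ₗ e.symm.toLinearMap, ?_, ?_⟩
  · simp only [LinearMap.coe_comp, LinearEquiv.coe_coe, Function.comp_apply]
    rw [he i₀ x₀ hx₀, ← DirectSum.apply_eq_component, DirectSum.of_eq_same]
    exact hlam1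
  · intro j hj v hv
    simp only [LinearMap.coe_comp, LinearEquiv.coe_coe, Function.comp_apply]
    rw [he j v hv, ← DirectSum.apply_eq_component, DirectSum.of_eq_of_ne _ _ _ (Ne.symm hj), map_zero]

end H12GrEnd
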