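import Mathlib
import Groth.Agent.Lib.Helper12.GrEnd1

open Module

namespace H12GrEnd

universe u v

theorem main (k : Type u) [Field k] (V W : Type v) [AddCommGroup V] [Module k V] [FiniteDimensional k V] [Nontrivial V] [AddCommGroup W] [Module k W] [FiniteDimensional k W] (𝒱 : ℤ → Submodule k V) (h𝒱 : DirectSum.IsInternal 𝒱) (𝒲 : ℤ → Submodule k W) (h𝒲 : DirectSum.IsInternal 𝒲) (φ : Module.End k V ≃ₐ[k] Module.End k W) (hφ : ∀ (d : ℤ) (f : Module.End k V), (∀ (i : ℤ) (x : V), x ∈ 𝒱 i → f x ∈ 𝒱 (i + d)) → ∀ (i : ℤ) (y : W), y ∈ 𝒲 i → φ f y ∈ 𝒲 (i + d)) : ∃ (n : ℤ) (g : V ≃ₗ[k] W), (∀ i : ℤ, Submodule.map (g : V →ₗ[k] W) (𝒱 i) = 𝒲 (i + n)) ∧ (∀ f : Module.End k V, φ f = (g : V →ₗ[k] W) ∘ₗ f ∘ₗ (g.symm : W →ₗ[k] V)) ∧ ∀ (n' : ℤ) (g' : V ≃ₗ[k] W), (∀ i : ℤ, Submodule.map (g' : V →ₗ[k] W) (𝒱 i) = 𝒲 (i + n')) → (∀ f : Module.End k V, φ f =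 (g' : V →ₗ[k] W) ∘ₗ f ∘ₗ (g'.symm : W →ₗ[k] V)) → n' = n ∧ ∃ c : kˣ, ∀ x : V, g' x = c • g x := by
  classical
  obtain ⟨T, hT⟩ := φ.eq_linearEquivConjAlgEquiv
  have hφT : ∀ f : Module.End k V, φ f = (T : V →ₗ[k] W) ∘ₗ f ∘ₗ (T.symm : W →ₗ[k] V) := by
    intro f; rw [hT]; rfl
  -- a nonzero homogeneous element
  obtain ⟨i₀, x₀, hx₀, hx₀ne⟩ : ∃ (i₀ : ℤ) (x₀ : V), x₀ ∈ 𝒱 i₀ ∧ x₀ ≠ 0 := by
    by_contra hcon
    push Not at hcon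
    have hbot : ∀ i, 𝒱 i = ⊥ := fun i => (Submodule.eq_bot_iff _).mpr (fun x hx => hcon i x hx)
    have h1 := h𝒱.submodule_iSup_eq_top
    have h2 : (⨆ i, 𝒱 i) = ⊥ := by
      rw [iSup_eq_bot]; exact hbot
    rw [h2] at h1
    obtain ⟨x, hx⟩ := exists_ne (0 : V)
    have : x ∈ (⊥ : Submodule k V) := by rw [h1]; trivial
    exact hx ((Submodule.mem_bot k).mp this)
  obtain ⟨ℓ, hℓ1, hℓ0⟩ := exists_functional 𝒱 h𝒱 i₀ x₀ hx₀ hx₀ne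
  let F : V → Module.End k V := fun x => ℓ.smulRight x
  have hFapp : ∀ x v, F x v = ℓ v • x := fun x v => rfl
  have hFdeg : ∀ (i : ℤ) (x : V), x ∈ 𝒱 i → ∀ (j : ℤ) (v : V), v ∈ 𝒱 j → F x v ∈ 𝒱 (j + (i - i₀)) := by
    intro i x hx j v hv
    rw [hFapp]
    by_cases hj : j = i₀
    · subst hj
      have : j + (i - j) = i := by ring
      rw [this]
      exact (𝒱 i).smul_mem _ hx
    · rw [hℓ0 j hj v hv, zero_smul]
      exact Submodule.zero_mem _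
  let μ : W →ₗ[k] k := ℓ ∘ₗ (T.symm : W →ₗ[k] V)
  have hFy : ∀ (x : V) (w : W), φ (F x) w = μ w • T x := by
    intro x w
    rw [hφT]
    simp [F, μ]
  have hμy : μ (T x₀) = 1 := by simp [μ, hℓ1]
  obtain ⟨j₀, hyj₀⟩ : ∃ j₀ : ℤ, T x₀ ∈ 𝒲 j₀ := by
    have hex : ∃ (j : ℤ) (w : W), w ∈ 𝒲 j ∧ μ w ≠ 0 := by
      by_contra hcon
      push Not at hcon
      have hle : (⨆ j, 𝒲 j) ≤ LinearMap.ker μ := iSup_le fun j w hw => hcon j w hw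
      rw [h𝒲.submodule_iSup_eq_top] at hle
      have h0 : μ = 0 := LinearMap.ker_eq_top.mp (top_le_iff.mp hle)
      rw [h0] at hμy
      simp at hμy
    obtain ⟨j, w, hw, hμw⟩ := hex
    refine ⟨j, ?_⟩
    have h1 := hφ 0 (F x₀) (fun i x hx => by
      have := hFdeg i₀ x₀ hx₀ i x hx
      simpa using this) j w hw
    rw [hFy, add_zero] at h1
    have := (𝒲 j).smul_mem (μ w)⁻¹ h1
    rwa [smul_smul, inv_mul_cancel₀ hμw, one_smul] at this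
  have hTle : ∀ i : ℤ, Submodule.map (T : V →ₗ[k] W) (𝒱 i) ≤ 𝒲 (i + (j₀ - i₀)) := by
    rintro i _ ⟨x, hx, rfl⟩
    have h1 := hφ (i - i₀) (F x) (fun j v hv => hFdeg i x hx j v hv) j₀ (T x₀) hyj₀
    rw [hFy, hμy, one_smul] at h1
    have : j₀ + (i - i₀) = i + (j₀ - i₀) := by ring
    rw [this] at h1
    exact h1
  have hTeq : ∀ i : ℤ, Submodule.map (T : V →ₗ[k] W) (𝒱 i) = 𝒲 (i + (j₀ - i₀)) := by
    intro i
    refine eq_of_le_of_iSup_eq (fun i => Submodule.map (T : V →ₗ[k] W) (𝒱 i))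
      (fun i => 𝒲 (i + (j₀ - i₀))) ?_ hTle ?_ i
    · exact h𝒲.submodule_iSupIndep.comp (add_left_injective (j₀ - i₀))
    · rw [← Submodule.map_iSup, h𝒱.submodule_iSup_eq_top, Submodule.map_top, LinearEquiv.range]
      symm
      rw [eq_top_iff, ← h𝒲.submodule_iSup_eq_top]
      apply iSup_le
      intro j
      refine le_iSup_of_le (j - (j₀ - i₀)) ?_
      simp
  refine ⟨j₀ - i₀, T, hTeq, hφT, ?_⟩
  intro n' g' hg' hφg'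
  have hconj : g'.conjAlgEquiv k = T.conjAlgEquiv k := by
    apply AlgEquiv.ext
    intro f
    rw [← hT]
    exact (hφg' f).symm
  obtain ⟨α, hα⟩ := (LinearEquiv.conjAlgEquiv_ext_iff' g' T).mp hconj
  have hgx : ∀ x, g' x = α • T x := fun x => by rw [hα]; rfl
  refine ⟨?_, α, hgx⟩
  by_contra hne
  have h1 : g' x₀ ∈ 𝒲 (i₀ + n') := by
    rw [← hg']
    exact ⟨x₀, hx₀, rfl⟩
  have h2 : g' x₀ ∈ 𝒲 (i₀ + (j₀ - i₀)) := by
    rw [hgx, ← hTeq]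
    exact Submodule.smul_mem _ _ ⟨x₀, hx₀, rfl⟩
  have hdisj : Disjoint (𝒲 (i₀ + n')) (𝒲 (i₀ + (j₀ - i₀))) :=
    h𝒲.submodule_iSupIndep.pairwiseDisjoint (fun h => hne (add_left_cancel h))
  have h0 : g' x₀ = 0 := by
    have := hdisj.le_bot (show g' x₀ ∈ 𝒲 (i₀ + n') ⊓ 𝒲 (i₀ + (j₀ - i₀)) from ⟨h1, h2⟩)
    exact (Submodule.mem_bot k).mp this
  exact hx₀ne (g'.map_eq_zero_iff.mp h0)

end H12GrEnd
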