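import Mathlib

set_option autoImplicit false
universe u

namespace H12GrProj
open DirectSum

section comp
variable {ι M τ : Type*} [DecidableEq ι] [AddCommMonoid M] [SetLike τ M] [AddSubmonoidClass τ M]
  (ℳ : ι → τ) [DirectSum.Decomposition ℳ]

/-- the degree `d` component. -/
noncomputable def comp (d : ι) : M →+ M where
  toFun m := (decompose ℳ m d : M)
  map_zero' := by simp
  map_add' x y := by simp [decompose_add]

lemma comp_apply (d : ι) (m : M) : comp ℳ d m = (decompose ℳ m d : M) := rfl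

lemma comp_mem (d : ι) (m : M) : comp ℳ d m ∈ ℳ d := (decompose ℳ m d).2

lemma comp_of_mem {d e : ι} {m : M} (hm : m ∈ ℳ e) :
    comp ℳ d m = if e = d then m else 0 := by
  split_ifs with h
  · subst h; exact decompose_of_mem_same ℳ hm
  · exact decompose_of_mem_ne ℳ hm h

lemma eq_zero_of_comp (m : M) (h : ∀ d, comp ℳ d m = 0) : m = 0 := by
  classical
  rw [← sum_support_decompose ℳ m]
  exact Finset.sum_eq_zero fun d _ => h d

end comp

section graded

variable {R : Type*} [CommRing R] {σ : Type*} [SetLike σ R] [AddSubmonoidClass σ R]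
  (𝒜 : ℤ → σ) [GradedRing 𝒜]
  {M : Type*} [AddCommGroup M] [Module R M] {τ : Type*} [SetLike τ M] [AddSubmonoidClass τ M]
  (ℳ : ℤ → τ) [DirectSum.Decomposition ℳ] [SetLike.GradedSMul 𝒜 ℳ]

lemma comp_smul_of_mem (r : R) {e : ℤ} {m : M} (hm : m ∈ ℳ e) (d : ℤ) :
    comp ℳ d (r • m) = comp 𝒜 (d - e) r • m := by
  induction r using DirectSum.Decomposition.inductionOn 𝒜 with
  | zero => simp
  | @homogeneous a r =>
    have : (r : R) • m ∈ ℳ (a + e) := SetLike.GradedSMul.smul_mem r.2 hm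
    rw [comp_of_mem ℳ this, comp_of_mem 𝒜 r.2]
    by_cases h : a + e = d
    · rw [if_pos h, if_pos (by omega)]
    · rw [if_neg h, if_neg (by omega), zero_smul]
  | add r s hr hs => rw [add_smul, map_add, hr, hs, map_add, add_smul]

lemma comp_smul (r : R) (m : M) (d : ℤ) [∀ (i) (x : ℳ i), Decidable (x ≠ 0)] :
    comp ℳ d (r • m) =
      ∑ b ∈ (decompose ℳ m).support, comp 𝒜 (d - b) r • comp ℳ b m := by
  conv_lhs => rw [← sum_support_decompose ℳ m, Finset.smul_sum, map_sum]
  refine Finset.sum_congr rfl fun b _ => ?_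
  exact comp_smul_of_mem 𝒜 ℳ r (decompose ℳ m b).2 d

variable (hneg : ∀ i : ℤ, i < 0 → ∀ x ∈ 𝒜 i, x = 0)
include hneg

lemma comp_neg (r : R) {i : ℤ} (hi : i < 0) : comp 𝒜 i r = 0 :=
  hneg i hi _ (comp_mem 𝒜 i r)

/-- if `m` has no components below `d`, the `d`-component of `r • m` is `r₀ • m_d`. -/
lemma comp_smul_low (r : R) (m : M) (d : ℤ) (hm : ∀ b < d, comp ℳ b m = 0) :
    comp ℳ d (r • m) = comp 𝒜 0 r • comp ℳ d m := by
  classical
  rw [comp_smul 𝒜 ℳ r m d]
  rw [Finset.sum_eq_single d]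
  · rw [sub_self]
  · intro b _ hb
    rcases lt_or_gt_of_ne hb with h | h
    · rw [hm b h, smul_zero]
    · rw [comp_neg 𝒜 hneg r (by omega), zero_smul]
  · intro hd
    have : comp ℳ d m = 0 := by
      rw [comp_apply]
      rw [DFinsupp.mem_support_toFun, not_not] at hd
      rw [hd]; rfl
    rw [this, smul_zero]

/-- the degree-zero component is a ring homomorphism. -/
noncomputable def proj0 : R →+* R where
  toFun r := comp 𝒜 0 r
  map_zero' := map_zero _
  map_add' := map_add _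
  map_one' := by
    rw [comp_of_mem 𝒜 (SetLike.GradedOne.one_mem), if_pos rfl]
  map_mul' r s := by
    have h := comp_smul_low 𝒜 𝒜 hneg r s 0 (fun b hb => comp_neg 𝒜 hneg s hb)
    simpa [smul_eq_mul] using h

lemma proj0_apply (r : R) : proj0 𝒜 hneg r = comp 𝒜 0 r := rfl

lemma proj0_mem (r : R) : proj0 𝒜 hneg r ∈ 𝒜 0 := comp_mem 𝒜 0 r

lemma proj0_of_mem {r : R} (hr : r ∈ 𝒜 0) : proj0 𝒜 hneg r = r := by
  rw [proj0_apply, comp_of_mem 𝒜 hr, if_pos rfl]

lemma sub_proj0_mem_ker (r : R) : r - proj0 𝒜 hneg r ∈ RingHom.ker (proj0 𝒜 hneg) := by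
  rw [RingHom.mem_ker, map_sub, proj0_of_mem 𝒜 hneg (proj0_mem 𝒜 hneg r), sub_self]

/-- the top component of `r • m` for `m` homogeneous. -/
lemma comp_smul_same (r : R) {e : ℤ} {m : M} (hm : m ∈ ℳ e) :
    comp ℳ e (r • m) = proj0 𝒜 hneg r • m := by
  rw [comp_smul_of_mem 𝒜 ℳ r hm, sub_self]; rfl

/-- an element with degree-zero part `1` is a nonzerodivisor. -/
lemma eq_zero_of_mul_eq_zero {r x : R} (hr : proj0 𝒜 hneg r = 1) (hx : r * x = 0) : x = 0 := by
  apply eq_zero_of_comp 𝒜
  have key : ∀ n : ℕ, ∀ d : ℤ, d < n → comp 𝒜 d x = 0 := by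
    intro n
    induction n with
    | zero => intro d hd; exact comp_neg 𝒜 hneg x (by simpa using hd)
    | succ n ih =>
      intro d hd
      rcases lt_or_eq_of_le (show d ≤ n by push_cast at hd; omega) with h | h
      · exact ih d h
      · subst h
        have h1 := comp_smul_low 𝒜 𝒜 hneg r x (n : ℤ) (fun b hb => ih b hb)
        rw [smul_eq_mul, hx, map_zero, ← proj0_apply 𝒜 hneg, hr, one_smul] at h1
        exact h1.symm
  intro d
  exact key (d.toNat + 1) d (by push_cast; omega)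

end graded

end H12GrProj
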