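import Mathlib
import Groth.Agent.Lib.Helper12.GrProj1

set_option autoImplicit false
universe u

namespace H12GrProj
open DirectSum

section main
variable {k : Type u} [Field k] {R : Type u} [CommRing R] [Algebra k R]
    {σ : Type u} [SetLike σ R] [AddSubmonoidClass σ R] (𝒜 : ℤ → σ) [GradedRing 𝒜]
    (hneg : ∀ i : ℤ, i < 0 → ∀ x ∈ 𝒜 i, x = 0)
    (h0 : ∀ x ∈ 𝒜 0, ∃ c : k, algebraMap k R c = x)
    {M : Type u} [AddCommGroup M] [Module R M] [Module k M] [IsScalarTower k R M]
    {τ : Type u} [SetLike τ M] [AddSubmonoidClass τ M] (ℳ : ℤ → τ) [DirectSum.Decomposition ℳ]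
    [SetLike.GradedSMul 𝒜 ℳ]

/-- the irrelevant ideal. -/
noncomputable abbrev Rp : Ideal R := RingHom.ker (proj0 𝒜 hneg)

variable (M) in
/-- `R₊ M`. -/
noncomputable abbrev Np : Submodule R M := Rp 𝒜 hneg • (⊤ : Submodule R M)

include h0 in
lemma exists_coeff (r : R) : ∃ c : k, algebraMap k R c = proj0 𝒜 hneg r :=
  h0 _ (proj0_mem 𝒜 hneg r)

lemma smul_quot (r : R) (c : k) (hc : algebraMap k R c = proj0 𝒜 hneg r)
    (v : M ⧸ Np 𝒜 hneg M) : r • v = c • v := by
  obtain ⟨m, rfl⟩ := Submodule.Quotient.mk_surjective _ v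
  rw [← Submodule.Quotient.mk_smul, ← Submodule.Quotient.mk_smul, Submodule.Quotient.eq]
  have : r • m - c • m = (r - proj0 𝒜 hneg r) • m := by
    rw [sub_smul, ← hc, algebraMap_smul]
  rw [this]
  exact Submodule.smul_mem_smul (sub_proj0_mem_ker 𝒜 hneg r) Submodule.mem_top

/-- homogeneous images span the quotient over `k`. -/
lemma span_homog :
    ⊤ ≤ Submodule.span k ((Np 𝒜 hneg M).mkQ '' {m | SetLike.IsHomogeneousElem ℳ m}) := by
  classical
  rintro v -
  obtain ⟨m, rfl⟩ := Submodule.Quotient.mk_surjective _ v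
  rw [← sum_support_decompose ℳ m]
  have : (Submodule.Quotient.mk (∑ i ∈ (decompose ℳ m).support, (decompose ℳ m i : M)) :
      M ⧸ Np 𝒜 hneg M) = ∑ i ∈ (decompose ℳ m).support,
        (Np 𝒜 hneg M).mkQ (decompose ℳ m i : M) := by
    rw [← Submodule.mkQ_apply, map_sum]
  rw [this]
  refine Submodule.sum_mem _ fun i _ => Submodule.subset_span ⟨_, ⟨i, (decompose ℳ m i).2⟩, rfl⟩

include h0 in
/-- a `k`-subspace of the quotient is stable under `R`. -/
lemma span_R_le_span_k (X : Set (M ⧸ Np 𝒜 hneg M)) :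
    (Submodule.span R X : Set (M ⧸ Np 𝒜 hneg M)) ⊆ Submodule.span k X := by
  intro v hv
  induction hv using Submodule.span_induction with
  | mem x hx => exact Submodule.subset_span hx
  | zero => exact Submodule.zero_mem _
  | add x y _ _ hx hy => exact Submodule.add_mem _ hx hy
  | smul r x _ hx =>
    obtain ⟨c, hc⟩ := exists_coeff 𝒜 hneg h0 r
    rw [smul_quot 𝒜 hneg r c hc]
    exact Submodule.smul_mem _ c hx

include h0 in
lemma finite_quot [Module.Finite R M] : Module.Finite k (M ⧸ Np 𝒜 hneg M) := by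
  have : Module.Finite R (M ⧸ Np 𝒜 hneg M) := inferInstance
  obtain ⟨s, hs⟩ := (Module.finite_def.mp this)
  refine ⟨⟨s, ?_⟩⟩
  rw [eq_top_iff]
  rintro v -
  exact span_R_le_span_k 𝒜 hneg h0 _ (hs ▸ Submodule.mem_top)

end main

end H12GrProj
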