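import Mathlib
import Groth.Agent.Lib.Helper12.GrProj2

set_option autoImplicit false
universe u

namespace H12GrProj
open DirectSum
open scoped Pointwise

section main
variable {k : Type u} [Field k] {R : Type u} [CommRing R] [Algebra k R]
    {σ : Type u} [SetLike σ R] [AddSubmonoidClass σ R] (𝒜 : ℤ → σ) [GradedRing 𝒜]
    (hneg : ∀ i : ℤ, i < 0 → ∀ x ∈ 𝒜 i, x = 0)
    (h0 : ∀ x ∈ 𝒜 0, ∃ c : k, algebraMap k R c = x)
    {M : Type u} [AddCommGroup M] [Module R M] [Module k M] [IsScalarTower k R M]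
    {τ : Type u} [SetLike τ M] [AddSubmonoidClass τ M] (ℳ : ℤ → τ) [DirectSum.Decomposition ℳ]
    [SetLike.GradedSMul 𝒜 ℳ]

include 𝒜 in
/-- a submodule generated by homogeneous elements is homogeneous. -/
lemma comp_mem_span {I : Type*} (m : I → M) (hm : ∀ i, SetLike.IsHomogeneousElem ℳ (m i))
    (y : M) (hy : y ∈ Submodule.span R (Set.range m)) (e : ℤ) :
    comp ℳ e y ∈ Submodule.span R (Set.range m) := by
  classical
  induction hy using Submodule.span_induction generalizing e with
  | mem x hx =>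
    obtain ⟨i, rfl⟩ := hx
    obtain ⟨d, hd⟩ := hm i
    rw [comp_of_mem ℳ hd]
    split_ifs
    · exact Submodule.subset_span ⟨i, rfl⟩
    · exact Submodule.zero_mem _
  | zero => rw [map_zero]; exact Submodule.zero_mem _
  | add x y _ _ hx hy => rw [map_add]; exact Submodule.add_mem _ (hx e) (hy e)
  | smul r x _ hx =>
    rw [comp_smul 𝒜 ℳ r x e]
    exact Submodule.sum_mem _ fun b _ => Submodule.smul_mem _ _ (hx b)

include hneg in
/-- graded Nakayama. -/
lemma span_eq_top_of_sup [Module.Finite R M] {I : Type*} (m : I → M)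
    (hm : ∀ i, SetLike.IsHomogeneousElem ℳ (m i))
    (h : ⊤ ≤ Submodule.span R (Set.range m) ⊔ Np 𝒜 hneg M) :
    Submodule.span R (Set.range m) = ⊤ := by
  classical
  obtain ⟨r, hr1, hrN⟩ := Submodule.exists_sub_one_mem_and_smul_le_of_fg_of_le_sup
    (N' := (⊤ : Submodule R M)) (P := ⊤) (N := Submodule.span R (Set.range m))
    (I := Rp 𝒜 hneg) Module.Finite.fg_top le_rfl h
  have hr0 : proj0 𝒜 hneg r = 1 := by
    have := RingHom.mem_ker.mp hr1
    rw [map_sub, map_one, sub_eq_zero] at this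
    exact this
  have hhom : ∀ e : ℤ, ∀ x ∈ ℳ e, x ∈ Submodule.span R (Set.range m) := by
    intro e x hx
    have h1 : r • x ∈ Submodule.span R (Set.range m) :=
      hrN (Submodule.smul_mem_pointwise_smul x r ⊤ Submodule.mem_top)
    have h2 := comp_mem_span 𝒜 ℳ m hm _ h1 e
    rwa [comp_smul_same 𝒜 ℳ hneg r hx, hr0, one_smul] at h2
  rw [eq_top_iff]
  rintro x -
  rw [← sum_support_decompose ℳ x]
  exact Submodule.sum_mem _ fun d _ => hhom d _ (decompose ℳ x d).2

end main

end H12GrProj
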