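import Mathlib
import Groth.Agent.Lib.Helper12.GrProj3

set_option autoImplicit false
universe u

namespace H12GrProj
open DirectSum
open scoped Pointwise

section main
variable {k : Type u} [Field k] {R : Type u} [CommRing R] [Algebra k R]
    {σ : Type u} [SetLike σ R] [AddSubmonoidClass σ R] (𝒜 : ℤ → σ) [GradedRing 𝒜]
    (hneg : ∀ i : ℤ, i < 0 → ∀ x ∈ 𝒜 i, x = 0)
    (h0 : ∀ x ∈ 𝒜 0, ∃ c : k, algebraMap k R c = x)
    {M : Type u} [AddCommGroup M] [Module R M] [Module k M] [IsScalarTower k R M]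
    {τ : Type u} [SetLike τ M] [AddSubmonoidClass τ M] (ℳ : ℤ → τ) [DirectSum.Decomposition ℳ]
    [SetLike.GradedSMul 𝒜 ℳ]

include hneg in
/-- the kernel of a split surjection from a finite free module, contained in `R₊ F`, vanishes. -/
lemma ker_eq_bot_of_le {I : Type*} [Finite I] (φ : (I →₀ R) →ₗ[R] M) (s : M →ₗ[R] (I →₀ R))
    (hs : φ ∘ₗ s = LinearMap.id)
    (hK : ∀ x ∈ LinearMap.ker φ, ∀ i, x i ∈ Rp 𝒜 hneg) : LinearMap.ker φ = ⊥ := by
  classical
  set K := LinearMap.ker φ with hKdef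
  let p : (I →₀ R) →ₗ[R] (I →₀ R) := LinearMap.id - s ∘ₗ φ
  have hp1 : ∀ x ∈ K, p x = x := by
    intro x hx
    have : φ x = 0 := hx
    simp [p, this]
  have hp2 : ∀ y, p y ∈ K := by
    intro y
    change φ (p y) = 0
    have := LinearMap.congr_fun hs (φ y)
    simp only [LinearMap.comp_apply, LinearMap.id_apply] at this
    simp [p, this]
  have h1 : K ≤ Rp 𝒜 hneg • (⊤ : Submodule R (I →₀ R)) := by
    intro x hx
    rw [← Finsupp.sum_single x]
    refine Submodule.sum_mem _ fun i _ => ?_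
    rw [← Finsupp.smul_single_one]
    exact Submodule.smul_mem_smul (hK x hx i) Submodule.mem_top
  have h2 : K ≤ Rp 𝒜 hneg • K := by
    intro x hx
    have : p x ∈ Submodule.map p (Rp 𝒜 hneg • (⊤ : Submodule R (I →₀ R))) :=
      Submodule.mem_map_of_mem (h1 hx)
    rw [hp1 x hx, Submodule.map_smul''] at this
    refine Submodule.smul_mono le_rfl ?_ this
    rintro _ ⟨y, -, rfl⟩
    exact hp2 y
  have h3 : K.FG := by
    have : K = Submodule.map p ⊤ := by
      apply le_antisymm
      · intro x hx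
        exact ⟨x, Submodule.mem_top, hp1 x hx⟩
      · rintro _ ⟨y, -, rfl⟩
        exact hp2 y
    rw [this]
    exact Submodule.FG.map p Module.Finite.fg_top
  obtain ⟨r, hr1, hr2⟩ :=
    Submodule.exists_sub_one_mem_and_smul_eq_zero_of_fg_of_le_smul (Rp 𝒜 hneg) K h3 h2
  have hr0 : proj0 𝒜 hneg r = 1 := by
    have := RingHom.mem_ker.mp hr1
    rw [map_sub, map_one, sub_eq_zero] at this
    exact this
  rw [eq_bot_iff]
  intro x hx
  rw [Submodule.mem_bot]
  ext i
  have := DFunLike.congr_fun (hr2 x hx) i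
  rw [Finsupp.smul_apply, smul_eq_mul, Finsupp.zero_apply] at this
  exact eq_zero_of_mul_eq_zero 𝒜 hneg hr0 this

end main

end H12GrProj
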