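import Mathlib
import Groth.Agent.Lib.Helper12.GrProj4

set_option autoImplicit false
universe u

namespace H12GrProj
open DirectSum
open scoped Pointwise

section main
variable {k : Type u} [Field k] {R : Type u} [CommRing R] [Algebra k R]
    {σ : Type u} [SetLike σ R] [AddSubmonoidClass σ R] (𝒜 : ℤ → σ) [GradedRing 𝒜]
    (hneg : ∀ i : ℤ, i < 0 → ∀ x ∈ 𝒜 i, x = 0)
    (h0 : ∀ x ∈ 𝒜 0, ∃ c : k, algebraMap k R c = x)
    {M : Type u} [AddCommGroup M] [Module R M] [Module k M] [IsScalarTower k R M]
    {τ : Type u} [SetLike τ M] [AddSubmonoidClass τ M] (ℳ : ℤ → τ) [DirectSum.Decomposition ℳ]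
    [SetLike.GradedSMul 𝒜 ℳ]

include hneg h0 in
theorem exists_homog_basis [Module.Finite R M] (hproj : Module.Projective R M) :
    ∃ (ι : Type u) (b : Module.Basis ι R M), ∀ i : ι, SetLike.IsHomogeneousElem ℳ (b i) := by
  classical
  have hspan := span_homog (k := k) 𝒜 hneg ℳ
  let bV := Module.Basis.ofSpan hspan
  have hsub := Module.Basis.ofSpan_subset hspan
  choose m hm hmb using fun i => hsub ⟨i, rfl⟩
  have hmb' : (fun i => (Np 𝒜 hneg M).mkQ (m i)) = bV := funext hmb
  haveI := finite_quot 𝒜 hneg h0 (M := M)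
  haveI := Module.Finite.finite_basis bV
  -- generation
  have hgen : Submodule.span R (Set.range m) = ⊤ := by
    apply span_eq_top_of_sup 𝒜 hneg ℳ m hm
    rintro x -
    set v := (Np 𝒜 hneg M).mkQ x with hv
    set y := Finsupp.linearCombination k m (bV.repr v) with hy
    have hyN : y ∈ Submodule.span R (Set.range m) := by
      rw [hy, Finsupp.linearCombination_apply]
      refine Submodule.sum_mem _ fun i _ => ?_
      change (bV.repr v i) • m i ∈ _
      rw [← algebraMap_smul R]
      exact Submodule.smul_mem _ _ (Submodule.subset_span ⟨i, rfl⟩)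
    have hyv : (Np 𝒜 hneg M).mkQ y = v := by
      have h1 : ((Np 𝒜 hneg M).mkQ.restrictScalars k) y =
          Finsupp.linearCombination k (((Np 𝒜 hneg M).mkQ.restrictScalars k) ∘ m) (bV.repr v) :=
        Finsupp.apply_linearCombination k _ m _
      have h2 : (((Np 𝒜 hneg M).mkQ.restrictScalars k) ∘ m) = bV := hmb'
      rw [h2, Module.Basis.linearCombination_repr] at h1
      exact h1
    have hxy : x - y ∈ Np 𝒜 hneg M := by
      rw [← Submodule.Quotient.mk_eq_zero, Submodule.Quotient.mk_sub]
      rw [← Submodule.mkQ_apply, ← Submodule.mkQ_apply, hyv, sub_self]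
    have : x = y + (x - y) := by abel
    rw [this]
    exact Submodule.add_mem_sup hyN hxy
  -- independence
  let φ : (_ →₀ R) →ₗ[R] M := Finsupp.linearCombination R m
  have hφ : Function.Surjective φ := by
    rw [← LinearMap.range_eq_top, Finsupp.range_linearCombination, hgen]
  obtain ⟨s, hs⟩ := Module.projective_lifting_property φ LinearMap.id hφ
  have hker : LinearMap.ker φ = ⊥ := by
    refine ker_eq_bot_of_le 𝒜 hneg φ s hs ?_
    intro x hx i
    have hx0 : φ x = 0 := hx
    choose c hc using fun i => exists_coeff 𝒜 hneg h0 (x i)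
    have h1 : (Np 𝒜 hneg M).mkQ (φ x) =
        Finsupp.linearCombination R ((Np 𝒜 hneg M).mkQ ∘ m) x :=
      Finsupp.apply_linearCombination R _ m _
    rw [hx0, map_zero, Finsupp.linearCombination_apply, Finsupp.sum] at h1
    have h2 : ∑ j ∈ x.support, c j • bV j = 0 := by
      rw [h1]
      refine Finset.sum_congr rfl fun j _ => ?_
      rw [Function.comp_apply, hmb j]
      exact (smul_quot 𝒜 hneg (x j) (c j) (hc j) _).symm
    have hli := bV.linearIndependent
    rw [linearIndependent_iff'] at hli
    by_cases hi : i ∈ x.support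
    · have := hli x.support c h2 i hi
      rw [RingHom.mem_ker, ← hc i, this, map_zero]
    · rw [Finsupp.notMem_support_iff.mp hi]
      exact Submodule.zero_mem _
  have hli : LinearIndependent R m := LinearMap.ker_eq_bot.mp hker
  refine ⟨_, Module.Basis.mk hli hgen.ge, fun i => ?_⟩
  rw [Module.Basis.mk_apply]
  exact hm i

end main

end H12GrProj
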