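import Mathlib

namespace Groth.Agent.Lib.Helper12.GrProj

open MvPolynomial DirectSum

universe u

attribute [local instance] MvPolynomial.gradedAlgebra

section quot
variable {σ : Type*} {R : Type*} [CommRing R] (J : Ideal (MvPolynomial σ R))

/-- the images of the homogeneous pieces in the quotient -/
noncomputable def 𝒜 (d : ℕ) : Submodule R (MvPolynomial σ R ⧸ J) :=
  (homogeneousSubmodule σ R d).map (Ideal.Quotient.mkₐ R J).toLinearMap

theorem mem_𝒜 {d : ℕ} {x : MvPolynomial σ R ⧸ J} :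
    x ∈ 𝒜 J d ↔ ∃ F : MvPolynomial σ R, F.IsHomogeneous d ∧ Ideal.Quotient.mk J F = x := by
  rw [𝒜, Submodule.mem_map]
  rfl

theorem mk_mem_𝒜 {d : ℕ} {F : MvPolynomial σ R} (hF : F.IsHomogeneous d) :
    Ideal.Quotient.mk J F ∈ 𝒜 J d := (mem_𝒜 J).2 ⟨F, hF, rfl⟩

instance : SetLike.GradedMonoid (𝒜 J) where
  one_mem := (mem_𝒜 J).2 ⟨1, isHomogeneous_one σ R, rfl⟩
  mul_mem i j a b ha hb := by
    obtain ⟨F, hF, rfl⟩ := (mem_𝒜 J).1 ha
    obtain ⟨G, hG, rfl⟩ := (mem_𝒜 J).1 hb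
    exact (mem_𝒜 J).2 ⟨F * G, hF.mul hG, map_mul _ _ _⟩

/-- componentwise quotient maps -/
noncomputable def comp (d : ℕ) : homogeneousSubmodule σ R d →ₗ[R] 𝒜 J d :=
  ((Ideal.Quotient.mkₐ R J).toLinearMap.domRestrict (homogeneousSubmodule σ R d)).codRestrict
    (𝒜 J d) (fun F => mk_mem_𝒜 J F.2)

theorem comp_coe (d : ℕ) (F : homogeneousSubmodule σ R d) :
    ((comp J d F : 𝒜 J d) : MvPolynomial σ R ⧸ J) = Ideal.Quotient.mk J (F : MvPolynomial σ R) := rfl

/-- the map from the decomposition of the polynomial ring to the sum of the quotient pieces -/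
noncomputable def sumMap : (⨁ i, homogeneousSubmodule σ R i) →ₐ[R] ⨁ i, 𝒜 J i :=
  DirectSum.toAlgebra R _ (fun i => (DirectSum.lof R ℕ (fun i => 𝒜 J i) i).comp (comp J i))
    (by
      show DirectSum.of (fun i => 𝒜 J i) 0 _ = 1
      rw [DirectSum.one_def]
      congr 1)
    (by
      intro i j ai aj
      show DirectSum.of (fun i => 𝒜 J i) (i + j) _ = DirectSum.of (fun i => 𝒜 J i) i _ *
        DirectSum.of (fun i => 𝒜 J i) j _
      rw [DirectSum.of_mul_of]
      congr 1)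

/-- the pre-decomposition map on the polynomial ring -/
noncomputable def dec₀ : MvPolynomial σ R →ₐ[R] ⨁ i, 𝒜 J i :=
  (sumMap J).comp (DirectSum.decomposeAlgEquiv (homogeneousSubmodule σ R)).toAlgHom

theorem dec₀_of_homogeneous {d : ℕ} {F : MvPolynomial σ R} (hF : F.IsHomogeneous d) :
    dec₀ J F = DirectSum.of (fun i => 𝒜 J i) d ⟨Ideal.Quotient.mk J F, mk_mem_𝒜 J hF⟩ := by
  have h1 : DirectSum.decomposeAlgEquiv (homogeneousSubmodule σ R) F =
      DirectSum.of (fun i => homogeneousSubmodule σ R i) d ⟨F, hF⟩ :=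
    DirectSum.decompose_of_mem _ hF
  show sumMap J (DirectSum.decomposeAlgEquiv (homogeneousSubmodule σ R) F) = _
  rw [h1]
  show DirectSum.toAddMonoid _ (DirectSum.of (fun i => homogeneousSubmodule σ R i) d ⟨F, hF⟩) = _
  rw [DirectSum.toAddMonoid_of]
  rfl

theorem dec₀_eq_zero_of_mem {G : Set (MvPolynomial σ R)}
    (hG : ∀ F ∈ G, ∃ d, F.IsHomogeneous d) (hJ : J = Ideal.span G) :
    ∀ a ∈ J, dec₀ J a = 0 := by
  intro a ha
  have hle : J ≤ RingHom.ker (dec₀ J).toRingHom := by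
    rw [hJ, Ideal.span_le]
    intro F hF
    obtain ⟨d, hd⟩ := hG F hF
    have hFJ : F ∈ J := hJ ▸ Ideal.subset_span hF
    show (dec₀ (Ideal.span G)) F = 0
    rw [← hJ, dec₀_of_homogeneous J hd]
    have : (⟨Ideal.Quotient.mk J F, mk_mem_𝒜 J hd⟩ : 𝒜 J d) = 0 := by
      apply Subtype.ext
      exact Ideal.Quotient.eq_zero_iff_mem.2 hFJ
    rw [this, map_zero]
  exact hle ha

/-- the decomposition map -/
noncomputable def dec {G : Set (MvPolynomial σ R)}
    (hG : ∀ F ∈ G, ∃ d, F.IsHomogeneous d) (hJ : J = Ideal.span G) :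
    (MvPolynomial σ R ⧸ J) →ₐ[R] ⨁ i, 𝒜 J i :=
  Ideal.Quotient.liftₐ J (dec₀ J) (dec₀_eq_zero_of_mem J hG hJ)

theorem dec_mk {G : Set (MvPolynomial σ R)}
    (hG : ∀ F ∈ G, ∃ d, F.IsHomogeneous d) (hJ : J = Ideal.span G) (F : MvPolynomial σ R) :
    dec J hG hJ (Ideal.Quotient.mk J F) = dec₀ J F := rfl

/-- the grading on the quotient -/
@[reducible] noncomputable def gradedAlgebra {G : Set (MvPolynomial σ R)}
    (hG : ∀ F ∈ G, ∃ d, F.IsHomogeneous d) (hJ : J = Ideal.span G) :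
    GradedAlgebra (𝒜 J) :=
  GradedAlgebra.ofAlgHom (𝒜 J) (dec J hG hJ)
    (by
      apply Ideal.Quotient.algHom_ext
      apply MvPolynomial.algHom_ext
      intro o
      show DirectSum.coeAlgHom (𝒜 J) (dec J hG hJ (Ideal.Quotient.mk J (X o))) =
        Ideal.Quotient.mk J (X o)
      rw [dec_mk, dec₀_of_homogeneous J (isHomogeneous_X R o)]
      simp)
    (by
      intro i x
      obtain ⟨F, hF, hx⟩ := (mem_𝒜 J).1 x.2
      have : x = ⟨Ideal.Quotient.mk J F, mk_mem_𝒜 J hF⟩ := Subtype.ext hx.symm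
      rw [this]
      show dec J hG hJ (Ideal.Quotient.mk J F) = _
      rw [dec_mk, dec₀_of_homogeneous J hF])

end quot

end Groth.Agent.Lib.Helper12.GrProj
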