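import Mathlib
import Groth.Agent.Lib.Helper12.GrProjOld1

namespace Groth.Agent.Lib.Helper12.GrProj

open MvPolynomial DirectSum

universe u

section constr
variable {R R' : Type u} [CommRing R] [CommRing R'] [Algebra R R'] {n : ℕ}
  (φ : MvPolynomial (Fin n) R →ₐ[R] R')

/-- the dehomogenisation map -/
noncomputable def ψ : MvPolynomial (Option (Fin n)) R →ₐ[R] R' :=
  aeval (fun o : Option (Fin n) => o.elim (1 : R') (fun i => φ (X i)))

@[simp] theorem ψ_none : ψ φ (X none) = 1 := by simp [ψ]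
@[simp] theorem ψ_some (i : Fin n) : ψ φ (X (some i)) = φ (X i) := by simp [ψ]

/-- the generators of the homogenised ideal -/
def G : Set (MvPolynomial (Option (Fin n)) R) :=
  {F | ∃ d, 1 ≤ d ∧ F.IsHomogeneous d ∧ ψ φ F = 0}

/-- the homogenised ideal -/
noncomputable def J : Ideal (MvPolynomial (Option (Fin n)) R) := Ideal.span (G φ)

theorem G_hom : ∀ F ∈ G φ, ∃ d, F.IsHomogeneous d := fun _ ⟨d, _, h, _⟩ => ⟨d, h⟩

theorem J_le_ker : ∀ a ∈ J φ, ψ φ a = 0 := by
  have : J φ ≤ RingHom.ker (ψ φ).toRingHom := by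
    rw [J, Ideal.span_le]
    rintro F ⟨d, _, _, h⟩
    exact h
  exact fun a ha => this ha

theorem J_le_cc : ∀ a ∈ J φ, (constantCoeff : MvPolynomial (Option (Fin n)) R →+* R) a = 0 := by
  have : J φ ≤ RingHom.ker (constantCoeff : MvPolynomial (Option (Fin n)) R →+* R) := by
    rw [J, Ideal.span_le]
    rintro F ⟨d, hd, hF, _⟩
    show constantCoeff F = 0
    rw [constantCoeff_eq]
    apply hF.coeff_eq_zero
    simp only [map_zero]
    omega
  exact fun a ha => this ha

/-- the graded ring -/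
abbrev S := MvPolynomial (Option (Fin n)) R ⧸ J φ

/-- the induced map to R' -/
noncomputable def ψbar : S φ →ₐ[R] R' := Ideal.Quotient.liftₐ (J φ) (ψ φ) (J_le_ker φ)

theorem ψbar_mk (F) : ψbar φ (Ideal.Quotient.mk (J φ) F) = ψ φ F := rfl

/-- the constant coefficient on the quotient -/
noncomputable def ccbar : S φ →+* R := Ideal.Quotient.lift (J φ) constantCoeff (J_le_cc φ)

theorem ccbar_algebraMap (r : R) : ccbar φ (algebraMap R (S φ) r) = r := by
  show ccbar φ (Ideal.Quotient.mk (J φ) (C r)) = r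
  simp [ccbar]

theorem algebraMap_injective : Function.Injective (algebraMap R (S φ)) := by
  intro a b h
  have := congrArg (ccbar φ) h
  rwa [ccbar_algebraMap, ccbar_algebraMap] at this

theorem mem_zero (x : S φ) (hx : x ∈ 𝒜 (J φ) 0) : x ∈ Set.range (algebraMap R (S φ)) := by
  obtain ⟨F, hF, rfl⟩ := (mem_𝒜 _).1 hx
  rw [← totalDegree_zero_iff_isHomogeneous, totalDegree_eq_zero_iff_eq_C] at hF
  refine ⟨coeff 0 F, ?_⟩
  conv_rhs => rw [hF]
  rfl

end constr

end Groth.Agent.Lib.Helper12.GrProj
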