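import Mathlib
import Groth.Agent.Lib.Helper12.GrProjOld2

namespace Groth.Agent.Lib.Helper12.GrProj

open MvPolynomial DirectSum

universe u

section constr
variable {R R' : Type u} [CommRing R] [CommRing R'] [Algebra R R'] {n : ℕ}
  (φ : MvPolynomial (Fin n) R →ₐ[R] R')

/-- the grading instance -/
@[reducible] noncomputable def instGA : GradedAlgebra (𝒜 (J φ)) := gradedAlgebra (J φ) (G_hom φ) rfl

attribute [local instance] instGA

/-- the element of degree one -/
noncomputable def f : S φ := Ideal.Quotient.mk (J φ) (X none)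

theorem f_mem : f φ ∈ 𝒜 (J φ) 1 := mk_mem_𝒜 _ (isHomogeneous_X R none)

theorem ψbar_f : ψbar φ (f φ) = 1 := by
  rw [f, ψbar_mk, ψ_none]

theorem isUnit_ψbar_f : IsUnit ((ψbar φ).toRingHom (f φ)) := by
  show IsUnit (ψbar φ (f φ))
  rw [ψbar_f]; exact isUnit_one

/-- the map from the localization -/
noncomputable def gLoc : Localization.Away (f φ) →+* R' :=
  IsLocalization.Away.lift (f φ) (isUnit_ψbar_f φ)

theorem gLoc_mk (x : S φ) (k : ℕ) (h : f φ ^ k ∈ Submonoid.powers (f φ)) :
    gLoc φ (Localization.mk x ⟨f φ ^ k, h⟩) = ψbar φ x := by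
  have h1 : Localization.mk x ⟨f φ ^ k, h⟩ * algebraMap (S φ) (Localization.Away (f φ)) (f φ ^ k)
      = algebraMap (S φ) (Localization.Away (f φ)) x := by
    rw [← Localization.mk_one_eq_algebraMap, ← Localization.mk_one_eq_algebraMap,
      Localization.mk_mul, Localization.mk_eq_mk_iff, Localization.r_iff_exists]
    refine ⟨1, ?_⟩
    simp only [OneMemClass.coe_one, one_mul, mul_one]
    ring
  have h2 := congrArg (gLoc φ) h1
  have h3 : ∀ y : S φ, gLoc φ (algebraMap (S φ) (Localization.Away (f φ)) y) = ψbar φ y :=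
    fun y => IsLocalization.Away.lift_eq (f φ) (isUnit_ψbar_f φ) y
  rw [map_mul, h3, h3, map_pow, ψbar_f, one_pow, mul_one] at h2
  exact h2

/-- the comparison map -/
noncomputable def g : HomogeneousLocalization.Away (𝒜 (J φ)) (f φ) →+* R' :=
  (gLoc φ).comp (algebraMap _ _)

theorem g_mk (k : ℕ) (x : S φ) (hx : x ∈ 𝒜 (J φ) (k • 1)) :
    g φ (HomogeneousLocalization.Away.mk (𝒜 (J φ)) (f_mem φ) k x hx) = ψbar φ x := by
  show gLoc φ (HomogeneousLocalization.Away.mk (𝒜 (J φ)) (f_mem φ) k x hx).val = _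
  rw [HomogeneousLocalization.Away.val_mk, gLoc_mk]

end constr

end Groth.Agent.Lib.Helper12.GrProj
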