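import Mathlib
import Groth.Agent.Lib.Helper12.GrProjOld3

namespace Groth.Agent.Lib.Helper12.GrProj

open MvPolynomial DirectSum
open scoped Classical

universe u

section constr
variable {R R' : Type u} [CommRing R] [CommRing R'] [Algebra R R'] {n : ℕ}
  (φ : MvPolynomial (Fin n) R →ₐ[R] R')

attribute [local instance] instGA

theorem algebraMap_mem_zero (r : R) : algebraMap R (S φ) r ∈ 𝒜 (J φ) (0 • 1) := by
  rw [zero_smul]
  exact mk_mem_𝒜 _ (isHomogeneous_C _ r)

theorem X_mem_one (o : Option (Fin n)) :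
    Ideal.Quotient.mk (J φ) (X o) ∈ 𝒜 (J φ) 1 := mk_mem_𝒜 _ (isHomogeneous_X R o)

theorem g_surj_aux (p : MvPolynomial (Fin n) R) : ∃ z, g φ z = φ p := by
  induction p using MvPolynomial.induction_on with
  | C r =>
    refine ⟨HomogeneousLocalization.Away.mk (𝒜 (J φ)) (f_mem φ) 0 _ (algebraMap_mem_zero φ r), ?_⟩
    rw [g_mk, AlgHom.commutes]
    exact (φ.commutes r).symm
  | add p q hp hq =>
    obtain ⟨z₁, h₁⟩ := hp
    obtain ⟨z₂, h₂⟩ := hq
    exact ⟨z₁ + z₂, by rw [map_add, map_add, h₁, h₂]⟩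
  | mul_X p i hp =>
    obtain ⟨z₁, h₁⟩ := hp
    refine ⟨z₁ * HomogeneousLocalization.Away.mk (𝒜 (J φ)) (f_mem φ) 1
      (Ideal.Quotient.mk (J φ) (X (some i))) (by rw [one_smul]; exact X_mem_one φ _), ?_⟩
    rw [map_mul, map_mul, h₁, g_mk, ψbar_mk, ψ_some]

theorem g_surjective (hφ : Function.Surjective φ) : Function.Surjective (g φ) := by
  intro y
  obtain ⟨p, rfl⟩ := hφ y
  exact g_surj_aux φ p

theorem g_injective : Function.Injective (g φ) := by
  rw [injective_iff_map_eq_zero]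
  intro z hz
  obtain ⟨k, x, hx, rfl⟩ := HomogeneousLocalization.Away.mk_surjective (𝒜 (J φ)) (f_mem φ) z
  rw [g_mk] at hz
  obtain ⟨F, hF, rfl⟩ := (mem_𝒜 _).1 hx
  rw [ψbar_mk] at hz
  have hmem : F * X none ∈ J φ := by
    apply Ideal.subset_span
    refine ⟨k • 1 + 1, by omega, hF.mul (isHomogeneous_X R none), ?_⟩
    rw [map_mul, hz, zero_mul]
  have hzero : f φ * Ideal.Quotient.mk (J φ) F = 0 := by
    rw [f, ← map_mul, mul_comm]
    exact Ideal.Quotient.eq_zero_iff_mem.2 hmem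
  apply HomogeneousLocalization.val_injective
  rw [HomogeneousLocalization.Away.val_mk, HomogeneousLocalization.val_zero,
    Localization.mk_eq_mk', IsLocalization.mk'_eq_zero_iff]
  exact ⟨⟨f φ, Submonoid.mem_powers _⟩, hzero⟩

/-- the isomorphism -/
noncomputable def e (hφ : Function.Surjective φ) :
    HomogeneousLocalization.Away (𝒜 (J φ)) (f φ) ≃+* R' :=
  RingEquiv.ofBijective (g φ) ⟨g_injective φ, g_surjective φ hφ⟩

theorem e_symm_val (hφ : Function.Surjective φ) (r : R) :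
    ((e φ hφ).symm (algebraMap R R' r)).val =
      algebraMap (S φ) (Localization.Away (f φ)) (algebraMap R (S φ) r) := by
  have h1 : (e φ hφ).symm (algebraMap R R' r) =
      HomogeneousLocalization.Away.mk (𝒜 (J φ)) (f_mem φ) 0 _ (algebraMap_mem_zero φ r) := by
    rw [RingEquiv.symm_apply_eq]
    show _ = g φ _
    rw [g_mk, AlgHom.commutes]
  rw [h1, HomogeneousLocalization.Away.val_mk, ← Localization.mk_one_eq_algebraMap]
  congr 1

/-- the generators -/
noncomputable def s : Finset (S φ) :=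
  Finset.univ.image (fun o : Option (Fin n) => Ideal.Quotient.mk (J φ) (X o))

theorem s_sub : (↑(s φ) : Set (S φ)) ⊆ (𝒜 (J φ) 1 : Set (S φ)) := by
  intro x hx
  rw [s, Finset.coe_image] at hx
  obtain ⟨o, _, rfl⟩ := hx
  exact X_mem_one φ o

theorem adjoin_s : Algebra.adjoin R (↑(s φ) : Set (S φ)) = ⊤ := by
  have h1 : (↑(s φ) : Set (S φ)) =
      (Ideal.Quotient.mkₐ R (J φ)) '' (Set.range (X : Option (Fin n) → MvPolynomial _ R)) := by
    rw [s, Finset.coe_image, Finset.coe_univ, Set.image_univ, ← Set.range_comp]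
    rfl
  rw [h1, ← AlgHom.map_adjoin, MvPolynomial.adjoin_range_X, Algebra.map_top,
    AlgHom.range_eq_top]
  exact Ideal.Quotient.mkₐ_surjective R (J φ)

end constr

end Groth.Agent.Lib.Helper12.GrProj
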