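import Mathlib
import Groth.Prelude.Def_Red
import Groth.Prelude.Def_AlgGrp
import Groth.Agent.Lib.Helper12.GrpLim4

/-!
# Descent of mono / normal / central homomorphisms to a stage
-/

set_option autoImplicit false
universe u
open CategoryTheory CategoryTheory.Limits AlgebraicGeometry MonoidalCategory
  CartesianMonoidalCategory MonObj GrpObj

namespace Groth.Agent.Lib.Helper12.H12GrpLim

variable {I : Type u} [SmallCategory I] [IsCofiltered I]
  (D : I ⥤ Scheme.{u}) (c : Limits.Cone D) (hc : Limits.IsLimit c)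
  [∀ (i j : I) (f : i ⟶ j), IsAffineHom (D.map f)]
  [∀ i, CompactSpace (D.obj i)] [∀ i, QuasiSeparatedSpace (D.obj i)]

/-- wrapper turning a descent statement in `IsPullback` form into `Over.pullback` form. -/
theorem descend_wrap (P : MorphismProperty Scheme.{u}) [P.RespectsIso] {j : I}
    {A B : Over (D.obj j)} (w : A ⟶ B)
    (hdesc : ∃ (i : I) (φ : i ⟶ j) (Xi Yi : Scheme.{u}) (fi : Xi ⟶ Yi) (gi : Yi ⟶ D.obj i)
      (pY : Yi ⟶ B.left) (pX : Xi ⟶ A.left), IsPullback pY gi B.hom (D.map φ) ∧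
        IsPullback pX fi w.left pY ∧ P fi) :
    ∃ (i : I) (φ : i ⟶ j), P ((Over.pullback (D.map φ)).map w).left := by
  obtain ⟨i, φ, Xi, Yi, fi, gi, pY, pX, hY, hX, hP⟩ := hdesc
  exact ⟨i, φ, (transfer (D.map φ) w fi gi pY pX hY hX P).1 hP⟩

include hc in
theorem mono_descend {j : I} (A B : Over (D.obj j))
    [LocallyOfFinitePresentation A.hom] [QuasiCompact A.hom] [QuasiSeparated A.hom]
    [LocallyOfFinitePresentation B.hom] [QuasiCompact B.hom] [QuasiSeparated B.hom]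
    (w : A ⟶ B) (hm : Mono ((Over.pullback (c.π.app j)).map w)) :
    ∃ (i : I) (φ : i ⟶ j), Mono ((Over.pullback (D.map φ)).map w) := by
  haveI : LocallyOfFinitePresentation (w.left ≫ B.hom) := by rw [Over.w w]; infer_instance
  haveI : QuasiCompact (w.left ≫ B.hom) := by rw [Over.w w]; infer_instance
  haveI : QuasiSeparated (w.left ≫ B.hom) := by rw [Over.w w]; infer_instance
  haveI : Mono ((Over.pullback (c.π.app j)).map w).left := inferInstance
  obtain ⟨i, φ, h⟩ := descend_wrap D (MorphismProperty.monomorphisms Scheme.{u}) w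
    (by
      obtain ⟨i, φ, Xi, Yi, fi, gi, pY, pX, hY, hX, hP⟩ :=
        Groth.Agent.S2579.result D c hc j w.left B.hom
          ((Over.pullback (c.π.app j)).map w).left (pullback.snd B.hom (c.π.app j))
          (pullback.fst B.hom (c.π.app j)) (pullback.fst A.hom (c.π.app j))
          (IsPullback.of_hasPullback _ _) (isPullback_map_left _ w)
      exact ⟨i, φ, Xi, Yi, fi, gi, pY, pX, hY, hX, MorphismProperty.monomorphisms.infer_property _⟩)
  refine ⟨i, φ, ?_⟩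
  haveI : Mono ((Over.pullback (D.map φ)).map w).left := h
  exact Over.mono_of_mono_left _

include hc in
theorem normal_descend {j : I} (Gj Hj : Over (D.obj j)) [GrpObj Gj] [GrpObj Hj]
    [LocallyOfFinitePresentation Gj.hom] [QuasiCompact Gj.hom] [QuasiSeparated Gj.hom]
    [LocallyOfFinitePresentation Hj.hom] [QuasiCompact Hj.hom] [QuasiSeparated Hj.hom]
    (uj : Hj ⟶ Gj) (hn : AlgGrp.IsNormalHom ((Over.pullback (c.π.app j)).map uj)) :
    ∃ (i : I) (f : i ⟶ j), AlgGrp.IsNormalHom ((Over.pullback (D.map f)).map uj) := by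
  rw [isNormalHom_iff] at hn
  obtain ⟨κ, hκ⟩ := hn
  -- transport to a morphism out of `F(Gj ⊗ Hj)`
  have hκ' : (Functor.OplaxMonoidal.δ (Over.pullback (c.π.app j)) Gj Hj ≫ κ) ≫
      (Over.pullback (c.π.app j)).map uj = (Over.pullback (c.π.app j)).map (conjMor uj) := by
    rw [Category.assoc, hκ, ← μ_map_conjMor, Functor.Monoidal.δ_μ_assoc]
  obtain ⟨i, f, κi, hrel⟩ := full D c hc (Gj ⊗ Hj) Hj
    (Functor.OplaxMonoidal.δ (Over.pullback (c.π.app j)) Gj Hj ≫ κ)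
  have hrel1 : Rel D c f (κi ≫ (Over.pullback (D.map f)).map uj)
      ((Over.pullback (c.π.app j)).map (conjMor uj)) := by
    rw [← hκ']
    exact rel_comp D c f hrel (rel_map D c f uj)
  have hrel2 : Rel D c f ((Over.pullback (D.map f)).map (conjMor uj))
      ((Over.pullback (c.π.app j)).map (conjMor uj)) :=
    rel_map D c f (conjMor uj)
  obtain ⟨i', g, hg⟩ := rel_eventually_eq D c hc f (Gj ⊗ Hj) Gj hrel1 hrel2
  rw [push_comp, push_map, push_map] at hg
  refine ⟨i', g ≫ f, ?_⟩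
  rw [isNormalHom_iff]
  refine ⟨Functor.LaxMonoidal.μ (Over.pullback (D.map (g ≫ f))) Gj Hj ≫
    push D g f (g ≫ f) rfl κi, ?_⟩
  rw [Category.assoc, hg, μ_map_conjMor]

include hc in
theorem central_descend {j : I} (Gj Hj : Over (D.obj j)) [GrpObj Gj] [GrpObj Hj]
    [LocallyOfFinitePresentation Gj.hom] [QuasiCompact Gj.hom] [QuasiSeparated Gj.hom]
    [LocallyOfFinitePresentation Hj.hom] [QuasiCompact Hj.hom] [QuasiSeparated Hj.hom]
    (uj : Hj ⟶ Gj) (hn : IsCentralHom ((Over.pullback (c.π.app j)).map uj)) :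
    ∃ (i : I) (f : i ⟶ j), IsCentralHom ((Over.pullback (D.map f)).map uj) := by
  rw [isCentralHom_map_iff] at hn
  obtain ⟨i, f, hf⟩ := faithful D c hc (Gj ⊗ Hj) Gj _ _ hn
  exact ⟨i, f, (isCentralHom_map_iff _ _).2 hf⟩

section PersGrp
variable {S U U' : Scheme.{u}} (a : U' ⟶ U) (b : U ⟶ S) (c' : U' ⟶ S) (h : a ≫ b = c')

include h in
theorem normal_pers {N G : Over S} [GrpObj N] [GrpObj G] (u : N ⟶ G)
    (hu : AlgGrp.IsNormalHom ((Over.pullback b).map u)) :
    AlgGrp.IsNormalHom ((Over.pullback c').map u) := by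
  rw [pers_eq a b c' h u]
  haveI : IsMonHom (ψ a b c' h N).symm.hom := isMonHom_ψ_inv a b c' h N
  exact isNormalHom_conj (ψ a b c' h N).symm (ψ a b c' h G) _
    (isNormalHom_map a _ hu)

include h in
theorem central_pers {N G : Over S} [GrpObj N] [GrpObj G] (u : N ⟶ G)
    (hu : IsCentralHom ((Over.pullback b).map u)) :
    IsCentralHom ((Over.pullback c').map u) := by
  rw [isCentralHom_map_iff] at hu ⊢
  exact map_eq_pers a b c' h _ _ hu

end PersGrp

omit [∀ (i j : I) (f : i ⟶ j), IsAffineHom (D.map f)]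
  [∀ i, CompactSpace (D.obj i)] [∀ i, QuasiSeparatedSpace (D.obj i)] in
theorem stage_iff {j : I} (P Q : ∀ (U : Scheme.{u}), (U ⟶ D.obj j) → Prop)
    (hP : ∀ {U U' : Scheme.{u}} (a : U' ⟶ U) (b : U ⟶ D.obj j) (c' : U' ⟶ D.obj j),
      a ≫ b = c' → P U b → P U' c')
    (hQ : ∀ {U U' : Scheme.{u}} (a : U' ⟶ U) (b : U ⟶ D.obj j) (c' : U' ⟶ D.obj j),
      a ≫ b = c' → Q U b → Q U' c')
    (dP : P c.pt (c.π.app j) → ∃ (i : I) (f : i ⟶ j), P _ (D.map f))
    (dQ : Q c.pt (c.π.app j) → ∃ (i : I) (f : i ⟶ j), Q _ (D.map f)) :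
    (P c.pt (c.π.app j) ∧ Q c.pt (c.π.app j)) ↔
      ∃ (i : I) (f : i ⟶ j), P _ (D.map f) ∧ Q _ (D.map f) := by
  constructor
  · rintro ⟨h1, h2⟩
    obtain ⟨i₁, f₁, hP₁⟩ := dP h1
    obtain ⟨i₂, f₂, hQ₂⟩ := dQ h2
    let i₃ := IsCofiltered.min i₁ i₂
    let l : i₃ ⟶ i₁ := IsCofiltered.minToLeft i₁ i₂
    let r : i₃ ⟶ i₂ := IsCofiltered.minToRight i₁ i₂
    let i₄ := IsCofiltered.eq (l ≫ f₁) (r ≫ f₂)
    let e : i₄ ⟶ i₃ := IsCofiltered.eqHom (l ≫ f₁) (r ≫ f₂)
    have he : e ≫ l ≫ f₁ = e ≫ r ≫ f₂ := IsCofiltered.eq_condition _ _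
    refine ⟨i₄, e ≫ l ≫ f₁, ?_, ?_⟩
    · exact hP (D.map (e ≫ l)) (D.map f₁) _ (by rw [← D.map_comp, Category.assoc]) hP₁
    · exact hQ (D.map (e ≫ r)) (D.map f₂) _ (by rw [← D.map_comp, Category.assoc, he]) hQ₂
  · rintro ⟨i, f, h1, h2⟩
    exact ⟨hP (c.π.app i) (D.map f) _ (c.w f) h1, hQ (c.π.app i) (D.map f) _ (c.w f) h2⟩

end Groth.Agent.Lib.Helper12.H12GrpLim
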