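import Mathlib
import Groth.Prelude.Def_Red
import Groth.Prelude.Def_AlgGrp
import Groth.Agent.Lib.Helper12.GrpLim5
import Groth.Agent.S4805
import Groth.Agent.S0591
import Groth.Agent.S2075
import Groth.Agent.S2581

/-!
# Descent of isomorphisms and of fppf coverings to a stage
-/

set_option autoImplicit false
universe u v₁ v₂ u₁ u₂
open CategoryTheory CategoryTheory.Limits AlgebraicGeometry MonoidalCategory
  CartesianMonoidalCategory MonObj GrpObj

namespace Groth.Agent.Lib.Helper12.H12GrpLim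

section Mon
variable {C : Type u₁} [Category.{v₁} C] [CartesianMonoidalCategory C]
variable {D : Type u₂} [Category.{v₂} D] [CartesianMonoidalCategory D] (F : C ⥤ D) [F.Monoidal]

theorem lift_μ_map_eq {G X : C} (a : G ⊗ X ⟶ X) :
    Functor.LaxMonoidal.μ F G X ≫ F.map (lift a (snd G X)) =
      lift (Functor.LaxMonoidal.μ F G X ≫ F.map a) (snd (F.obj G) (F.obj X)) ≫
        Functor.LaxMonoidal.μ F X X := by
  rw [← cancel_mono (Functor.OplaxMonoidal.δ F X X)]
  apply CartesianMonoidalCategory.hom_ext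
  · simp [← Functor.map_comp]
  · simp [← Functor.map_comp]

theorem isIso_lift_iff {G X : C} (a : G ⊗ X ⟶ X) :
    IsIso (lift (Functor.LaxMonoidal.μ F G X ≫ F.map a) (snd (F.obj G) (F.obj X))) ↔
      IsIso (F.map (lift a (snd G X))) := by
  have h := lift_μ_map_eq F a
  constructor
  · intro hi
    have : F.map (lift a (snd G X)) = Functor.OplaxMonoidal.δ F G X ≫
        lift (Functor.LaxMonoidal.μ F G X ≫ F.map a) (snd (F.obj G) (F.obj X)) ≫
        Functor.LaxMonoidal.μ F X X := by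
      rw [← h, Functor.Monoidal.δ_μ_assoc]
    rw [this]
    infer_instance
  · intro hi
    have : lift (Functor.LaxMonoidal.μ F G X ≫ F.map a) (snd (F.obj G) (F.obj X)) =
        Functor.LaxMonoidal.μ F G X ≫ F.map (lift a (snd G X)) ≫
          Functor.OplaxMonoidal.δ F X X := by
      rw [reassoc_of% h, Functor.Monoidal.μ_δ, Category.comp_id]
    rw [this]
    infer_instance

end Mon

section IsoPers
variable {S U U' : Scheme.{u}} (a : U' ⟶ U) (b : U ⟶ S) (c' : U' ⟶ S) (h : a ≫ b = c')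

include h in
theorem isIso_pers {A B : Over S} (w : A ⟶ B) (hm : IsIso ((Over.pullback b).map w)) :
    IsIso ((Over.pullback c').map w) := by
  rw [pers_eq a b c' h w]
  infer_instance

end IsoPers

variable {I : Type u} [SmallCategory I] [IsCofiltered I]
  (D : I ⥤ Scheme.{u}) (c : Limits.Cone D) (hc : Limits.IsLimit c)
  [∀ (i j : I) (f : i ⟶ j), IsAffineHom (D.map f)]
  [∀ i, CompactSpace (D.obj i)] [∀ i, QuasiSeparatedSpace (D.obj i)]

include hc in
theorem iso_descend {j : I} (A B : Over (D.obj j))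
    [LocallyOfFinitePresentation A.hom] [QuasiCompact A.hom] [QuasiSeparated A.hom]
    [LocallyOfFinitePresentation B.hom] [QuasiCompact B.hom] [QuasiSeparated B.hom]
    (w : A ⟶ B) (hm : IsIso ((Over.pullback (c.π.app j)).map w)) :
    ∃ (i : I) (φ : i ⟶ j), IsIso ((Over.pullback (D.map φ)).map w) := by
  haveI : LocallyOfFinitePresentation (w.left ≫ B.hom) := by rw [Over.w w]; infer_instance
  haveI : QuasiCompact (w.left ≫ B.hom) := by rw [Over.w w]; infer_instance
  haveI : QuasiSeparated (w.left ≫ B.hom) := by rw [Over.w w]; infer_instance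
  haveI : IsIso ((Over.pullback (c.π.app j)).map w).left :=
    inferInstanceAs (IsIso ((Over.forget _).map ((Over.pullback (c.π.app j)).map w)))
  obtain ⟨i, φ, h⟩ := descend_wrap D (MorphismProperty.isomorphisms Scheme.{u}) w
    (by
      obtain ⟨i, φ, Xi, Yi, fi, gi, pY, pX, hY, hX, hP⟩ :=
        Groth.Agent.S4805.result D c hc j w.left B.hom
          ((Over.pullback (c.π.app j)).map w).left (pullback.snd B.hom (c.π.app j))
          (pullback.fst B.hom (c.π.app j)) (pullback.fst A.hom (c.π.app j))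
          (IsPullback.of_hasPullback _ _) (isPullback_map_left _ w)
      exact ⟨i, φ, Xi, Yi, fi, gi, pY, pX, hY, hX, MorphismProperty.isomorphisms.infer_property _⟩)
  refine ⟨i, φ, ?_⟩
  haveI : IsIso ((Over.forget _).map ((Over.pullback (D.map φ)).map w)) := h
  exact isIso_of_reflects_iso _ (Over.forget _)

section Fppf

/-- the structure morphism of `X` is covering for the fppf topology. -/
def IsFppfCov {U : Scheme.{u}} (X : Over U) : Prop :=
  ∃ (Z : Scheme.{u}) (v : Z ⟶ U) (w : Z ⟶ X.left), w ≫ X.hom = v ∧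
    Flat v ∧ Surjective v ∧ LocallyOfFinitePresentation v ∧ QuasiCompact v ∧ QuasiSeparated v

theorem fppf_pers {S U U' : Scheme.{u}} (a : U' ⟶ U) (b : U ⟶ S) (c' : U' ⟶ S)
    (h : a ≫ b = c') (X : Over S) (hX : IsFppfCov (Red.bc b X)) : IsFppfCov (Red.bc c' X) := by
  obtain ⟨Z, v, w, hw, h1, h2, h3, h4, h5⟩ := hX
  have hw' : w ≫ pullback.snd X.hom b = v := hw
  refine ⟨pullback v a, pullback.snd v a,
    pullback.lift (pullback.fst v a ≫ w ≫ pullback.fst X.hom b) (pullback.snd v a) ?_, ?_,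
    inferInstance, inferInstance, inferInstance, inferInstance, inferInstance⟩
  · rw [Category.assoc, Category.assoc, pullback.condition, ← Category.assoc w, hw',
      pullback.condition_assoc, h]
  · exact pullback.lift_snd _ _ _

end Fppf

theorem isPullback_id_vert {X Y : Scheme.{u}} (f : X ⟶ Y) : IsPullback f (𝟙 X) (𝟙 Y) f :=
  IsPullback.of_vert_isIso ⟨by simp⟩

/-- lifting the comparison to a later stage. -/
theorem exists_isPullback_stage {Z Z₁ Z₂ : Scheme.{u}} {i₁ i₂ : I} (φ : i₂ ⟶ i₁)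
    {v : Z ⟶ c.pt} {v₁ : Z₁ ⟶ D.obj i₁} {v₂ : Z₂ ⟶ D.obj i₂} {q : Z ⟶ Z₁} {p : Z₂ ⟶ Z₁}
    (hq : IsPullback q v v₁ (c.π.app i₁)) (hp : IsPullback p v₂ v₁ (D.map φ)) :
    ∃ q₂ : Z ⟶ Z₂, IsPullback q₂ v v₂ (c.π.app i₂) := by
  have hcond : q ≫ v₁ = (v ≫ c.π.app i₂) ≫ D.map φ := by
    rw [hq.w, Category.assoc, c.w φ]
  refine ⟨hp.lift q (v ≫ c.π.app i₂) hcond, ?_⟩
  refine IsPullback.of_right ?_ (hp.lift_snd _ _ hcond) hp
  rw [hp.lift_fst, c.w φ]
  exact hq

include hc in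
/-- an fppf covering of the limit descends to a stage. -/
theorem fppf_descend {Z : Scheme.{u}} (v : Z ⟶ c.pt) [Flat v] [Surjective v]
    [LocallyOfFinitePresentation v] [QuasiCompact v] [QuasiSeparated v] :
    ∃ (i : I) (Zi : Scheme.{u}) (vi : Zi ⟶ D.obj i) (q : Z ⟶ Zi),
      IsPullback q v vi (c.π.app i) ∧ Flat vi ∧ Surjective vi ∧
        LocallyOfFinitePresentation vi ∧ QuasiCompact vi ∧ QuasiSeparated vi := by
  obtain ⟨i₁, Z₁, v₁, q₁, hlfp₁, hqc₁, hqs₁, hpb₁⟩ := Groth.Agent.S0591.result D c hc Z v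
  haveI : CompactSpace Z₁ := QuasiCompact.compactSpace_of_compactSpace v₁
  haveI : QuasiSeparatedSpace Z₁ := quasiSeparatedSpace_of_quasiSeparated v₁
  have hid₁ : IsPullback (c.π.app i₁) (𝟙 c.pt) (𝟙 (D.obj i₁)) (c.π.app i₁) :=
    isPullback_id_vert _
  obtain ⟨i₂, φ₂, X₂, Y₂, f₂, g₂, pY₂, pX₂, hY₂, hX₂, hfl₂⟩ :=
    Groth.Agent.S2075.result D c hc i₁ v₁ (𝟙 (D.obj i₁)) v (𝟙 c.pt) (c.π.app i₁) q₁ hid₁ hpb₁
  haveI : IsIso g₂ := hY₂.isIso_snd_of_isIso
  have hp₂ : IsPullback pX₂ (f₂ ≫ g₂) v₁ (D.map φ₂) := by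
    have := hX₂.paste_vert hY₂
    rwa [Category.comp_id] at this
  obtain ⟨q₂, hq₂⟩ := exists_isPullback_stage D c φ₂ hpb₁ hp₂
  haveI hfl₂' : Flat (f₂ ≫ g₂) := inferInstance
  haveI hlfp₂ : LocallyOfFinitePresentation (f₂ ≫ g₂) :=
    MorphismProperty.of_isPullback (P := @LocallyOfFinitePresentation) hp₂ hlfp₁
  haveI hqc₂ : QuasiCompact (f₂ ≫ g₂) :=
    MorphismProperty.of_isPullback (P := @QuasiCompact) hp₂ hqc₁
  haveI hqs₂ : QuasiSeparated (f₂ ≫ g₂) :=
    MorphismProperty.of_isPullback (P := @QuasiSeparated) hp₂ hqs₁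
  have hid₂ : IsPullback (c.π.app i₂) (𝟙 c.pt) (𝟙 (D.obj i₂)) (c.π.app i₂) :=
    isPullback_id_vert _
  obtain ⟨i₃, φ₃, X₃, Y₃, f₃, g₃, pY₃, pX₃, hY₃, hX₃, hsu₃⟩ :=
    Groth.Agent.S2581.result D c hc i₂ (f₂ ≫ g₂) (𝟙 (D.obj i₂)) v (𝟙 c.pt) (c.π.app i₂) q₂
      hid₂ hq₂
  haveI : IsIso g₃ := hY₃.isIso_snd_of_isIso
  have hp₃ : IsPullback pX₃ (f₃ ≫ g₃) (f₂ ≫ g₂) (D.map φ₃) := by
    have := hX₃.paste_vert hY₃
    rwa [Category.comp_id] at this
  obtain ⟨q₃, hq₃⟩ := exists_isPullback_stage D c φ₃ hq₂ hp₃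
  refine ⟨i₃, X₃, f₃ ≫ g₃, q₃, hq₃, ?_, inferInstance, ?_, ?_, ?_⟩
  · exact MorphismProperty.of_isPullback (P := @Flat) hp₃ hfl₂'
  · exact MorphismProperty.of_isPullback (P := @LocallyOfFinitePresentation) hp₃ hlfp₂
  · exact MorphismProperty.of_isPullback (P := @QuasiCompact) hp₃ hqc₂
  · exact MorphismProperty.of_isPullback (P := @QuasiSeparated) hp₃ hqs₂

include hc in
theorem fppfCov_descend {j : I} (X : Over (D.obj j))
    [LocallyOfFinitePresentation X.hom] [QuasiCompact X.hom] [QuasiSeparated X.hom]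
    (h : IsFppfCov (Red.bc (c.π.app j) X)) :
    ∃ (i : I) (f : i ⟶ j), IsFppfCov (Red.bc (D.map f) X) := by
  obtain ⟨Z, v, w, hw, h1, h2, h3, h4, h5⟩ := h
  have hw' : w ≫ pullback.snd X.hom (c.π.app j) = v := hw
  obtain ⟨i₁, Z₁, v₁, q₁, hq₁, hfl, hsu, hlfp, hqc, hqs⟩ := fppf_descend D c hc v
  let i₂ := IsCofiltered.min i₁ j
  let a : i₂ ⟶ i₁ := IsCofiltered.minToLeft i₁ j
  let b : i₂ ⟶ j := IsCofiltered.minToRight i₁ j
  obtain ⟨q₂, hq₂⟩ := exists_isPullback_stage D c a hq₁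
    (IsPullback.of_hasPullback v₁ (D.map a))
  have hXpb : IsPullback (sA D c b X) (pullback.snd X.hom (c.π.app j))
      (pullback.snd X.hom (D.map b)) (c.π.app i₂) := by
    refine IsPullback.of_right ?_ (tr_snd _ _ _ _ _) (IsPullback.of_hasPullback X.hom (D.map b))
    rw [tr_fst, c.w b]
    exact IsPullback.of_hasPullback X.hom (c.π.app j)
  haveI : CompactSpace ↥(pullback v₁ (D.map a)) :=
    QuasiCompact.compactSpace_of_compactSpace (pullback.snd v₁ (D.map a))
  haveI : QuasiSeparatedSpace ↥(pullback v₁ (D.map a)) :=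
    quasiSeparatedSpace_of_quasiSeparated (pullback.snd v₁ (D.map a))
  haveI : CompactSpace ↥(pullback X.hom (D.map b)) :=
    QuasiCompact.compactSpace_of_compactSpace (pullback.snd X.hom (D.map b))
  haveI : QuasiSeparatedSpace ↥(pullback X.hom (D.map b)) :=
    quasiSeparatedSpace_of_quasiSeparated (pullback.snd X.hom (D.map b))
  obtain ⟨i₃, φ, fj, sX, sY, e1, -, -, -, -, -⟩ :=
    Groth.Agent.S9218.result D c hc i₂ (pullback.snd v₁ (D.map a)) (pullback.snd X.hom (D.map b))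
      q₂ v hq₂ (sA D c b X) (pullback.snd X.hom (c.π.app j)) hXpb w hw'
  refine ⟨i₃, φ ≫ b, pullback (pullback.snd v₁ (D.map a)) (D.map φ),
    pullback.snd (pullback.snd v₁ (D.map a)) (D.map φ),
    pullback.lift (fj ≫ pullback.fst (pullback.snd X.hom (D.map b)) (D.map φ) ≫
      pullback.fst X.hom (D.map b)) (pullback.snd (pullback.snd v₁ (D.map a)) (D.map φ)) ?_, ?_,
    inferInstance, inferInstance, inferInstance, inferInstance, inferInstance⟩
  · rw [Category.assoc, Category.assoc, pullback.condition, pullback.condition_assoc,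
      reassoc_of% e1, D.map_comp]
  · exact pullback.lift_snd _ _ _

end Groth.Agent.Lib.Helper12.H12GrpLim
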