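import Mathlib
import Groth.Prelude.Def_Red
import Groth.Agent.Lib.Helper12.GrpLim6

/-!
# Pre-group objects and monoidal functors
-/

set_option autoImplicit false
universe u v₁ v₂ u₁ u₂
open CategoryTheory CategoryTheory.Limits AlgebraicGeometry MonoidalCategory
  CartesianMonoidalCategory MonObj GrpObj

namespace Groth.Agent.Lib.Helper12.H12GrpLim

section PreGrp
variable {C : Type u₁} [Category.{v₁} C] [CartesianMonoidalCategory C]

/-- multiplication, unit and inverse morphisms on an object, without axioms. -/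
structure PreGrp (A : C) where
  m : A ⊗ A ⟶ A
  e : 𝟙_ C ⟶ A
  n : A ⟶ A

/-- the group axioms for a pre-group. -/
structure PreGrp.IsGrp {A : C} (p : PreGrp A) : Prop where
  one_mul : p.e ▷ A ≫ p.m = (λ_ A).hom
  mul_one : A ◁ p.e ≫ p.m = (ρ_ A).hom
  mul_assoc : (p.m ▷ A) ≫ p.m = (α_ A A A).hom ≫ (A ◁ p.m) ≫ p.m
  left_inv : lift p.n (𝟙 A) ≫ p.m = toUnit A ≫ p.e
  right_inv : lift (𝟙 A) p.n ≫ p.m = toUnit A ≫ p.e

/-- the group object of a pre-group satisfying the axioms. -/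
@[reducible] def PreGrp.toGrpObj {A : C} (p : PreGrp A) (h : p.IsGrp) : GrpObj A where
  one := p.e
  mul := p.m
  one_mul := h.one_mul
  mul_one := h.mul_one
  mul_assoc := h.mul_assoc
  inv := p.n
  left_inv := h.left_inv
  right_inv := h.right_inv

/-- the pre-group of a group object. -/
def PreGrp.ofGrpObj (A : C) [GrpObj A] : PreGrp A := ⟨μ[A], η[A], ι[A]⟩

theorem PreGrp.isGrp_ofGrpObj (A : C) [GrpObj A] : (PreGrp.ofGrpObj A).IsGrp where
  one_mul := MonObj.one_mul A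
  mul_one := MonObj.mul_one A
  mul_assoc := MonObj.mul_assoc A
  left_inv := GrpObj.left_inv A
  right_inv := GrpObj.right_inv A

variable {D : Type u₂} [Category.{v₂} D] [CartesianMonoidalCategory D] (F : C ⥤ D) [F.Monoidal]

/-- image of a pre-group under a monoidal functor. -/
def PreGrp.map {A : C} (p : PreGrp A) : PreGrp (F.obj A) :=
  ⟨Functor.LaxMonoidal.μ F A A ≫ F.map p.m, Functor.LaxMonoidal.ε F ≫ F.map p.e, F.map p.n⟩

/-- `F` identifies both sides of every group axiom. -/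
structure PreGrp.MapEq {A : C} (p : PreGrp A) : Prop where
  one_mul : F.map (p.e ▷ A ≫ p.m) = F.map (λ_ A).hom
  mul_one : F.map (A ◁ p.e ≫ p.m) = F.map (ρ_ A).hom
  mul_assoc : F.map ((p.m ▷ A) ≫ p.m) = F.map ((α_ A A A).hom ≫ (A ◁ p.m) ≫ p.m)
  left_inv : F.map (lift p.n (𝟙 A) ≫ p.m) = F.map (toUnit A ≫ p.e)
  right_inv : F.map (lift (𝟙 A) p.n ≫ p.m) = F.map (toUnit A ≫ p.e)

theorem PreGrp.one_mul_iff {A : C} (p : PreGrp A) :
    ((p.map F).e ▷ F.obj A ≫ (p.map F).m = (λ_ (F.obj A)).hom) ↔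
      F.map (p.e ▷ A ≫ p.m) = F.map (λ_ A).hom := by
  have h1 : (p.map F).e ▷ F.obj A ≫ (p.map F).m =
      (Functor.LaxMonoidal.ε F ▷ F.obj A ≫ Functor.LaxMonoidal.μ F (𝟙_ C) A) ≫
        F.map (p.e ▷ A ≫ p.m) := by
    simp [PreGrp.map, Functor.LaxMonoidal.μ_natural_left_assoc]
  have h2 : (λ_ (F.obj A)).hom =
      (Functor.LaxMonoidal.ε F ▷ F.obj A ≫ Functor.LaxMonoidal.μ F (𝟙_ C) A) ≫
        F.map (λ_ A).hom := by
    simp
  rw [h1, h2, cancel_epi]

theorem PreGrp.mul_one_iff {A : C} (p : PreGrp A) :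
    (F.obj A ◁ (p.map F).e ≫ (p.map F).m = (ρ_ (F.obj A)).hom) ↔
      F.map (A ◁ p.e ≫ p.m) = F.map (ρ_ A).hom := by
  have h1 : F.obj A ◁ (p.map F).e ≫ (p.map F).m =
      (F.obj A ◁ Functor.LaxMonoidal.ε F ≫ Functor.LaxMonoidal.μ F A (𝟙_ C)) ≫
        F.map (A ◁ p.e ≫ p.m) := by
    simp [PreGrp.map, Functor.LaxMonoidal.μ_natural_right_assoc]
  have h2 : (ρ_ (F.obj A)).hom =
      (F.obj A ◁ Functor.LaxMonoidal.ε F ≫ Functor.LaxMonoidal.μ F A (𝟙_ C)) ≫
        F.map (ρ_ A).hom := by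
    simp
  rw [h1, h2, cancel_epi]

theorem PreGrp.mul_assoc_iff {A : C} (p : PreGrp A) :
    (((p.map F).m ▷ F.obj A) ≫ (p.map F).m =
      (α_ (F.obj A) (F.obj A) (F.obj A)).hom ≫ (F.obj A ◁ (p.map F).m) ≫ (p.map F).m) ↔
      F.map ((p.m ▷ A) ≫ p.m) = F.map ((α_ A A A).hom ≫ (A ◁ p.m) ≫ p.m) := by
  have h1 : ((p.map F).m ▷ F.obj A) ≫ (p.map F).m =
      (Functor.LaxMonoidal.μ F A A ▷ F.obj A ≫ Functor.LaxMonoidal.μ F (A ⊗ A) A) ≫
        F.map ((p.m ▷ A) ≫ p.m) := by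
    simp [PreGrp.map, Functor.LaxMonoidal.μ_natural_left_assoc]
  have h2 : (α_ (F.obj A) (F.obj A) (F.obj A)).hom ≫ (F.obj A ◁ (p.map F).m) ≫ (p.map F).m =
      (Functor.LaxMonoidal.μ F A A ▷ F.obj A ≫ Functor.LaxMonoidal.μ F (A ⊗ A) A) ≫
        F.map ((α_ A A A).hom ≫ (A ◁ p.m) ≫ p.m) := by
    simp [PreGrp.map, Functor.LaxMonoidal.μ_natural_right_assoc]
  rw [h1, h2, cancel_epi]

theorem PreGrp.left_inv_iff {A : C} (p : PreGrp A) :
    (lift (p.map F).n (𝟙 (F.obj A)) ≫ (p.map F).m = toUnit (F.obj A) ≫ (p.map F).e) ↔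
      F.map (lift p.n (𝟙 A) ≫ p.m) = F.map (toUnit A ≫ p.e) := by
  have h1 : lift (p.map F).n (𝟙 (F.obj A)) ≫ (p.map F).m = F.map (lift p.n (𝟙 A) ≫ p.m) := by
    simp only [PreGrp.map]
    rw [show (𝟙 (F.obj A)) = F.map (𝟙 A) from (F.map_id A).symm,
      Functor.Monoidal.lift_μ_assoc, ← F.map_comp]
  have h2 : toUnit (F.obj A) ≫ (p.map F).e = F.map (toUnit A ≫ p.e) := by
    simp [PreGrp.map, Functor.Monoidal.toUnit_ε_assoc]
  rw [h1, h2]

theorem PreGrp.right_inv_iff {A : C} (p : PreGrp A) :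
    (lift (𝟙 (F.obj A)) (p.map F).n ≫ (p.map F).m = toUnit (F.obj A) ≫ (p.map F).e) ↔
      F.map (lift (𝟙 A) p.n ≫ p.m) = F.map (toUnit A ≫ p.e) := by
  have h1 : lift (𝟙 (F.obj A)) (p.map F).n ≫ (p.map F).m = F.map (lift (𝟙 A) p.n ≫ p.m) := by
    simp only [PreGrp.map]
    rw [show (𝟙 (F.obj A)) = F.map (𝟙 A) from (F.map_id A).symm,
      Functor.Monoidal.lift_μ_assoc, ← F.map_comp]
  have h2 : toUnit (F.obj A) ≫ (p.map F).e = F.map (toUnit A ≫ p.e) := by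
    simp [PreGrp.map, Functor.Monoidal.toUnit_ε_assoc]
  rw [h1, h2]

theorem PreGrp.isGrp_map_iff {A : C} (p : PreGrp A) : (p.map F).IsGrp ↔ p.MapEq F := by
  constructor
  · intro h
    exact ⟨(p.one_mul_iff F).1 h.one_mul, (p.mul_one_iff F).1 h.mul_one,
      (p.mul_assoc_iff F).1 h.mul_assoc, (p.left_inv_iff F).1 h.left_inv,
      (p.right_inv_iff F).1 h.right_inv⟩
  · intro h
    exact ⟨(p.one_mul_iff F).2 h.one_mul, (p.mul_one_iff F).2 h.mul_one,
      (p.mul_assoc_iff F).2 h.mul_assoc, (p.left_inv_iff F).2 h.left_inv,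
      (p.right_inv_iff F).2 h.right_inv⟩

end PreGrp

section PsiMonoidal
variable {S U U' : Scheme.{u}} (a : U' ⟶ U) (b : U ⟶ S) (c' : U' ⟶ S) (h : a ≫ b = c')

theorem ψ_tensor (A B : Over S) :
    Functor.LaxMonoidal.μ (Over.pullback a) (Red.bc b A) (Red.bc b B) ≫
      (Over.pullback a).map (Functor.LaxMonoidal.μ (Over.pullback b) A B) ≫
        (ψ a b c' h (A ⊗ B)).hom =
      ((ψ a b c' h A).hom ⊗ₘ (ψ a b c' h B).hom) ≫
        Functor.LaxMonoidal.μ (Over.pullback c') A B := by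
  subst h
  have := NatTrans.IsMonoidal.tensor (τ := (Over.pullbackComp a b).inv) A B
  simp only [Functor.LaxMonoidal.comp_μ, Category.assoc] at this
  simpa [ψ] using this

theorem ψ_unit :
    Functor.LaxMonoidal.ε (Over.pullback a) ≫
      (Over.pullback a).map (Functor.LaxMonoidal.ε (Over.pullback b)) ≫
        (ψ a b c' h (𝟙_ (Over S))).hom = Functor.LaxMonoidal.ε (Over.pullback c') := by
  subst h
  have := NatTrans.IsMonoidal.unit (τ := (Over.pullbackComp a b).inv)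
  simp only [Functor.LaxMonoidal.comp_ε, Category.assoc] at this
  simpa [ψ] using this

end PsiMonoidal

section PreGrpHom
variable {C : Type u₁} [Category.{v₁} C] [CartesianMonoidalCategory C]

/-- a morphism intertwining two pre-group structures. -/
structure PreGrp.Hom {X Y : C} (p : PreGrp X) (q : PreGrp Y) (t : X ⟶ Y) : Prop where
  m : p.m ≫ t = (t ⊗ₘ t) ≫ q.m
  e : p.e ≫ t = q.e
  n : p.n ≫ t = t ≫ q.n

theorem PreGrp.Hom.comp {X Y Z : C} {p : PreGrp X} {q : PreGrp Y} {r : PreGrp Z}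
    {t : X ⟶ Y} {s : Y ⟶ Z} (h1 : p.Hom q t) (h2 : q.Hom r s) : p.Hom r (t ≫ s) where
  m := by rw [reassoc_of% h1.m, h2.m, ← MonoidalCategory.tensorHom_comp_tensorHom_assoc]
  e := by rw [reassoc_of% h1.e, h2.e]
  n := by rw [reassoc_of% h1.n, h2.n, Category.assoc]

/-- a pre-group isomorphic (compatibly) to a group is a group. -/
theorem PreGrp.isGrp_of_iso {X Y : C} (p : PreGrp X) [GrpObj Y] (t : X ≅ Y)
    (h : p.Hom (PreGrp.ofGrpObj Y) t.hom) : p.IsGrp := by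
  letI : GrpObj X := GrpObj.ofIso t.symm
  have hp : p = PreGrp.ofGrpObj X := by
    obtain ⟨m, e, n⟩ := p
    have h1 : m = μ[X] := by
      have := h.m
      simp only [PreGrp.ofGrpObj] at this
      rw [← cancel_mono t.hom, this]
      simp [MonObj.ofIso_mul]
    have h2 : e = η[X] := by
      have := h.e
      simp only [PreGrp.ofGrpObj] at this
      rw [← cancel_mono t.hom, this]
      simp [MonObj.ofIso_one]
    have h3 : n = ι[X] := by
      have := h.n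
      simp only [PreGrp.ofGrpObj] at this
      rw [← cancel_mono t.hom, this]
      change t.hom ≫ ι[Y] = (t.symm.inv ≫ ι[Y] ≫ t.symm.hom) ≫ t.hom
      simp
    rw [h1, h2, h3]
    rfl
  rw [hp]
  exact PreGrp.isGrp_ofGrpObj X

theorem PreGrp.Hom.isMonHom {X Y : C} {p : PreGrp X} {q : PreGrp Y} (hp : p.IsGrp) (hq : q.IsGrp)
    {t : X ⟶ Y} (h : p.Hom q t) :
    @IsMonHom C _ _ X Y (p.toGrpObj hp).toMonObj (q.toGrpObj hq).toMonObj t :=
  letI := p.toGrpObj hp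
  letI := q.toGrpObj hq
  ⟨h.e, h.m⟩

end PreGrpHom

end Groth.Agent.Lib.Helper12.H12GrpLim
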