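import Mathlib
import Groth.Prelude.Def_Red
import Groth.Agent.Lib.Helper12.GrpLim7

/-!
# Descent of a group structure on a finitely presented object over a cofiltered limit
-/

set_option autoImplicit false
universe u
open CategoryTheory CategoryTheory.Limits AlgebraicGeometry MonoidalCategory
  CartesianMonoidalCategory MonObj GrpObj

namespace Groth.Agent.Lib.Helper12.H12GrpLim

section PsiPreGrp
variable {S U U' : Scheme.{u}} (a : U' ⟶ U) (b : U ⟶ S) (c' : U' ⟶ S) (h : a ≫ b = c')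

theorem ψ_preGrp {X : Over S} (p : PreGrp X) :
    ((p.map (Over.pullback b)).map (Over.pullback a)).Hom (p.map (Over.pullback c'))
      (ψ a b c' h X).hom where
  m := by
    simp only [PreGrp.map, Functor.map_comp, Category.assoc]
    rw [ψ_naturality]
    have := ψ_tensor a b c' h X X
    rw [reassoc_of% this]
  e := by
    simp only [PreGrp.map, Functor.map_comp, Category.assoc]
    rw [ψ_naturality]
    have := ψ_unit a b c' h
    rw [reassoc_of% this]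
  n := by
    simp only [PreGrp.map]
    rw [ψ_naturality]

end PsiPreGrp

section Common
variable {I : Type u} [SmallCategory I] [IsCofiltered I]

theorem exists_common {j i₁ i₂ : I} (f₁ : i₁ ⟶ j) (f₂ : i₂ ⟶ j) :
    ∃ (k : I) (g₁ : k ⟶ i₁) (g₂ : k ⟶ i₂), g₁ ≫ f₁ = g₂ ≫ f₂ := by
  let i₃ := IsCofiltered.min i₁ i₂
  let l : i₃ ⟶ i₁ := IsCofiltered.minToLeft i₁ i₂
  let r : i₃ ⟶ i₂ := IsCofiltered.minToRight i₁ i₂
  refine ⟨IsCofiltered.eq (l ≫ f₁) (r ≫ f₂), IsCofiltered.eqHom (l ≫ f₁) (r ≫ f₂) ≫ l,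
    IsCofiltered.eqHom (l ≫ f₁) (r ≫ f₂) ≫ r, ?_⟩
  rw [Category.assoc, Category.assoc]
  exact IsCofiltered.eq_condition _ _

theorem exists_stage_and {i : I} (P Q : ∀ (i' : I), (i' ⟶ i) → Prop)
    (hP : ∀ (i' : I) (g : i' ⟶ i) (i'' : I) (g' : i'' ⟶ i'), P i' g → P i'' (g' ≫ g))
    (hQ : ∀ (i' : I) (g : i' ⟶ i) (i'' : I) (g' : i'' ⟶ i'), Q i' g → Q i'' (g' ≫ g))
    (eP : ∃ (i' : I) (g : i' ⟶ i), P i' g) (eQ : ∃ (i' : I) (g : i' ⟶ i), Q i' g) :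
    ∃ (i' : I) (g : i' ⟶ i), P i' g ∧ Q i' g := by
  obtain ⟨i₁, g₁, h₁⟩ := eP
  obtain ⟨i₂, g₂, h₂⟩ := eQ
  obtain ⟨k, e₁, e₂, he⟩ := exists_common g₁ g₂
  exact ⟨k, e₁ ≫ g₁, hP _ _ _ e₁ h₁, he ▸ hQ _ _ _ e₂ h₂⟩

end Common

section Lim
variable {I : Type u} [SmallCategory I] [IsCofiltered I]
  (D : I ⥤ Scheme.{u}) (c : Limits.Cone D) (hc : Limits.IsLimit c)
  [∀ (i j : I) (f : i ⟶ j), IsAffineHom (D.map f)]
  [∀ i, CompactSpace (D.obj i)] [∀ i, QuasiSeparatedSpace (D.obj i)]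

include hc in
theorem full₂ {j : I} (A₁ B₁ A₂ B₂ : Over (D.obj j))
    [LocallyOfFinitePresentation A₁.hom] [QuasiCompact A₁.hom] [QuasiSeparated A₁.hom]
    [LocallyOfFinitePresentation B₁.hom] [QuasiCompact B₁.hom] [QuasiSeparated B₁.hom]
    [LocallyOfFinitePresentation A₂.hom] [QuasiCompact A₂.hom] [QuasiSeparated A₂.hom]
    [LocallyOfFinitePresentation B₂.hom] [QuasiCompact B₂.hom] [QuasiSeparated B₂.hom]
    (v₁ : Red.bc (c.π.app j) A₁ ⟶ Red.bc (c.π.app j) B₁)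
    (v₂ : Red.bc (c.π.app j) A₂ ⟶ Red.bc (c.π.app j) B₂) :
    ∃ (i : I) (f : i ⟶ j) (w₁ : Red.bc (D.map f) A₁ ⟶ Red.bc (D.map f) B₁)
      (w₂ : Red.bc (D.map f) A₂ ⟶ Red.bc (D.map f) B₂), Rel D c f w₁ v₁ ∧ Rel D c f w₂ v₂ := by
  obtain ⟨i₁, f₁, w₁, h₁⟩ := full D c hc A₁ B₁ v₁
  obtain ⟨i₂, f₂, w₂, h₂⟩ := full D c hc A₂ B₂ v₂
  obtain ⟨k, g₁, g₂, he⟩ := exists_common f₁ f₂
  exact ⟨k, g₁ ≫ f₁, push D g₁ f₁ _ rfl w₁, push D g₂ f₂ _ he.symm w₂,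
    rel_push D c g₁ f₁ _ rfl h₁, rel_push D c g₂ f₂ _ he.symm h₂⟩

include hc in
theorem full₃ {j : I} (A₁ B₁ A₂ B₂ A₃ B₃ : Over (D.obj j))
    [LocallyOfFinitePresentation A₁.hom] [QuasiCompact A₁.hom] [QuasiSeparated A₁.hom]
    [LocallyOfFinitePresentation B₁.hom] [QuasiCompact B₁.hom] [QuasiSeparated B₁.hom]
    [LocallyOfFinitePresentation A₂.hom] [QuasiCompact A₂.hom] [QuasiSeparated A₂.hom]
    [LocallyOfFinitePresentation B₂.hom] [QuasiCompact B₂.hom] [QuasiSeparated B₂.hom]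
    [LocallyOfFinitePresentation A₃.hom] [QuasiCompact A₃.hom] [QuasiSeparated A₃.hom]
    [LocallyOfFinitePresentation B₃.hom] [QuasiCompact B₃.hom] [QuasiSeparated B₃.hom]
    (v₁ : Red.bc (c.π.app j) A₁ ⟶ Red.bc (c.π.app j) B₁)
    (v₂ : Red.bc (c.π.app j) A₂ ⟶ Red.bc (c.π.app j) B₂)
    (v₃ : Red.bc (c.π.app j) A₃ ⟶ Red.bc (c.π.app j) B₃) :
    ∃ (i : I) (f : i ⟶ j) (w₁ : Red.bc (D.map f) A₁ ⟶ Red.bc (D.map f) B₁)
      (w₂ : Red.bc (D.map f) A₂ ⟶ Red.bc (D.map f) B₂)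
      (w₃ : Red.bc (D.map f) A₃ ⟶ Red.bc (D.map f) B₃),
      Rel D c f w₁ v₁ ∧ Rel D c f w₂ v₂ ∧ Rel D c f w₃ v₃ := by
  obtain ⟨i₁, f₁, w₁, w₂, h₁, h₂⟩ := full₂ D c hc A₁ B₁ A₂ B₂ v₁ v₂
  obtain ⟨i₂, f₂, w₃, h₃⟩ := full D c hc A₃ B₃ v₃
  obtain ⟨k, g₁, g₂, he⟩ := exists_common f₁ f₂
  exact ⟨k, g₁ ≫ f₁, push D g₁ f₁ _ rfl w₁, push D g₁ f₁ _ rfl w₂, push D g₂ f₂ _ he.symm w₃,
    rel_push D c g₁ f₁ _ rfl h₁, rel_push D c g₁ f₁ _ rfl h₂, rel_push D c g₂ f₂ _ he.symm h₃⟩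

end Lim

section Inst
variable {S : Scheme.{u}}

instance lfp_unit : LocallyOfFinitePresentation (𝟙_ (Over S)).hom :=
  inferInstanceAs (LocallyOfFinitePresentation (𝟙 S))

instance qc_unit : QuasiCompact (𝟙_ (Over S)).hom :=
  inferInstanceAs (QuasiCompact (𝟙 S))

instance qs_unit : QuasiSeparated (𝟙_ (Over S)).hom :=
  inferInstanceAs (QuasiSeparated (𝟙 S))

end Inst

section Main
variable {I : Type u} [SmallCategory I] [IsCofiltered I]
  (D : I ⥤ Scheme.{u}) (c : Limits.Cone D) (hc : Limits.IsLimit c)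
  [∀ (i j : I) (f : i ⟶ j), IsAffineHom (D.map f)]
  [∀ i, CompactSpace (D.obj i)] [∀ i, QuasiSeparatedSpace (D.obj i)]

include hc in
theorem exists_preGrp_stage {j : I} (A : Over (D.obj j))
    [LocallyOfFinitePresentation A.hom] [QuasiCompact A.hom] [QuasiSeparated A.hom]
    [M : GrpObj (Red.bc (c.π.app j) A)] :
    ∃ (i : I) (f : i ⟶ j) (p : PreGrp (Red.bc (D.map f) A)),
      (p.map (Over.pullback (c.π.app i))).Hom (PreGrp.ofGrpObj (Red.bc (c.π.app j) A))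
        (θ D c f A).hom := by
  obtain ⟨i, f, mi, ei, ni, hm, he, hn⟩ := full₃ D c hc (A ⊗ A) A (𝟙_ _) A A A
    (Functor.OplaxMonoidal.δ (Over.pullback (c.π.app j)) A A ≫ μ[Red.bc (c.π.app j) A])
    (Functor.OplaxMonoidal.η (Over.pullback (c.π.app j)) ≫ η[Red.bc (c.π.app j) A])
    ι[Red.bc (c.π.app j) A]
  refine ⟨i, f, ⟨Functor.LaxMonoidal.μ (Over.pullback (D.map f)) A A ≫ mi,
    Functor.LaxMonoidal.ε (Over.pullback (D.map f)) ≫ ei, ni⟩, ?_, ?_, ?_⟩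
  · unfold Rel at hm
    simp only [PreGrp.map, PreGrp.ofGrpObj, Functor.map_comp, Category.assoc]
    rw [hm]
    simp only [Category.assoc, Iso.inv_hom_id, Category.comp_id]
    have := ψ_tensor (c.π.app i) (D.map f) (c.π.app j) (c.w f) A A
    rw [reassoc_of% this, Functor.Monoidal.μ_δ_assoc]
  · unfold Rel at he
    simp only [PreGrp.map, PreGrp.ofGrpObj, Functor.map_comp, Category.assoc]
    rw [he]
    simp only [Category.assoc, Iso.inv_hom_id, Category.comp_id]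
    have := ψ_unit (c.π.app i) (D.map f) (c.π.app j) (c.w f)
    rw [reassoc_of% this, Functor.Monoidal.ε_η_assoc]
  · unfold Rel at hn
    simp only [PreGrp.map, PreGrp.ofGrpObj]
    rw [hn]
    simp only [Category.assoc, Iso.inv_hom_id, Category.comp_id]

omit [IsCofiltered I] [∀ (i j : I) (f : i ⟶ j), IsAffineHom (D.map f)]
  [∀ i, CompactSpace (D.obj i)] [∀ i, QuasiSeparatedSpace (D.obj i)] in
theorem eq_pers_stage {i : I} {A B : Over (D.obj i)} (u₁ u₂ : A ⟶ B) :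
    ∀ (i' : I) (g : i' ⟶ i) (i'' : I) (g' : i'' ⟶ i'),
      (Over.pullback (D.map g)).map u₁ = (Over.pullback (D.map g)).map u₂ →
      (Over.pullback (D.map (g' ≫ g))).map u₁ = (Over.pullback (D.map (g' ≫ g))).map u₂ :=
  fun _ g _ g' h => map_eq_pers (D.map g') (D.map g) _ (D.map_comp g' g).symm _ _ h

include hc in
theorem exists_mapEq_stage {i : I} {B : Over (D.obj i)}
    [LocallyOfFinitePresentation B.hom] [QuasiCompact B.hom] [QuasiSeparated B.hom]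
    (p : PreGrp B) (h : p.MapEq (Over.pullback (c.π.app i))) :
    ∃ (i' : I) (g : i' ⟶ i), p.MapEq (Over.pullback (D.map g)) := by
  have e1 := faithful D c hc _ _ _ _ h.one_mul
  have e2 := faithful D c hc _ _ _ _ h.mul_one
  have e3 := faithful D c hc _ _ _ _ h.mul_assoc
  have e4 := faithful D c hc _ _ _ _ h.left_inv
  have e5 := faithful D c hc _ _ _ _ h.right_inv
  have e12 := exists_stage_and _ _ (eq_pers_stage D _ _) (eq_pers_stage D _ _) e1 e2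
  have e34 := exists_stage_and _ _ (eq_pers_stage D _ _) (eq_pers_stage D _ _) e3 e4
  have e1234 := exists_stage_and _ _
    (fun i' g i'' g' hh => ⟨eq_pers_stage D _ _ i' g i'' g' hh.1,
      eq_pers_stage D _ _ i' g i'' g' hh.2⟩)
    (fun i' g i'' g' hh => ⟨eq_pers_stage D _ _ i' g i'' g' hh.1,
      eq_pers_stage D _ _ i' g i'' g' hh.2⟩) e12 e34
  obtain ⟨i', g, ⟨⟨h1, h2⟩, ⟨h3, h4⟩⟩, h5⟩ := exists_stage_and _ _
    (fun i' g i'' g' hh => ⟨⟨eq_pers_stage D _ _ i' g i'' g' hh.1.1,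
      eq_pers_stage D _ _ i' g i'' g' hh.1.2⟩, ⟨eq_pers_stage D _ _ i' g i'' g' hh.2.1,
      eq_pers_stage D _ _ i' g i'' g' hh.2.2⟩⟩)
    (eq_pers_stage D _ _) e1234 e5
  exact ⟨i', g, ⟨h1, h2, h3, h4, h5⟩⟩

include hc in
theorem exists_grp_stage {j : I} (A : Over (D.obj j))
    [LocallyOfFinitePresentation A.hom] [QuasiCompact A.hom] [QuasiSeparated A.hom]
    [M : GrpObj (Red.bc (c.π.app j) A)] :
    ∃ (i : I) (B : Over (D.obj i)) (q : PreGrp B) (_ : q.IsGrp)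
      (t : Red.bc (c.π.app i) B ≅ Red.bc (c.π.app j) A),
      (q.map (Over.pullback (c.π.app i))).Hom (PreGrp.ofGrpObj (Red.bc (c.π.app j) A)) t.hom ∧
        LocallyOfFinitePresentation B.hom ∧ QuasiCompact B.hom ∧ QuasiSeparated B.hom := by
  obtain ⟨i, f, p, hp⟩ := exists_preGrp_stage D c hc A
  have hg : (p.map (Over.pullback (c.π.app i))).IsGrp := PreGrp.isGrp_of_iso _ (θ D c f A) hp
  obtain ⟨i', g, hME⟩ := exists_mapEq_stage D c hc p ((p.isGrp_map_iff _).1 hg)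
  refine ⟨i', Red.bc (D.map g) (Red.bc (D.map f) A), p.map (Over.pullback (D.map g)),
    (p.isGrp_map_iff _).2 hME, θ D c g (Red.bc (D.map f) A) ≪≫ θ D c f A, ?_,
    inferInstance, inferInstance, inferInstance⟩
  exact (ψ_preGrp (c.π.app i') (D.map g) (c.π.app i) (c.w g) p).comp hp

end Main

end Groth.Agent.Lib.Helper12.H12GrpLim
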