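import Mathlib
import Groth.Prelude.Def_Red
import Groth.Prelude.Def_AlgGrp
import Groth.Agent.Lib.Helper12.GrpLim8

/-!
# Subgroup structures on a monomorphism; instance-free normality; descent of closed subgroups
-/

set_option autoImplicit false
universe u v₁ v₂ u₁ u₂
open CategoryTheory CategoryTheory.Limits AlgebraicGeometry MonoidalCategory
  CartesianMonoidalCategory MonObj GrpObj

namespace Groth.Agent.Lib.Helper12.H12GrpLim

section MonoGrp
variable {C : Type u₁} [Category.{v₁} C] [CartesianMonoidalCategory C]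

/-- a pre-group mapping compatibly and monomorphically to a group is a group. -/
theorem PreGrp.isGrp_of_mono {H G : C} [GrpObj G] (p : PreGrp H) (ι' : H ⟶ G) [Mono ι']
    (h : p.Hom (PreGrp.ofGrpObj G) ι') : p.IsGrp := by
  have hm := h.m
  have he := h.e
  have hn := h.n
  simp only [PreGrp.ofGrpObj] at hm he hn
  refine ⟨?_, ?_, ?_, ?_, ?_⟩
  · rw [← cancel_mono ι', Category.assoc, hm]
    have A : p.e ▷ H ≫ (ι' ⊗ₘ ι') = (𝟙_ C ◁ ι') ≫ (η[G] ▷ G) := by
      apply CartesianMonoidalCategory.hom_ext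
      · simp only [Category.assoc, tensorHom_fst, whiskerRight_fst_assoc, whiskerRight_fst,
          whiskerLeft_fst_assoc, he]
      · simp only [Category.assoc, tensorHom_snd, whiskerRight_snd_assoc, whiskerRight_snd,
          whiskerLeft_snd]
    rw [reassoc_of% A, MonObj.one_mul, MonoidalCategory.leftUnitor_naturality]
  · rw [← cancel_mono ι', Category.assoc, hm]
    have A : H ◁ p.e ≫ (ι' ⊗ₘ ι') = (ι' ▷ 𝟙_ C) ≫ (G ◁ η[G]) := by
      apply CartesianMonoidalCategory.hom_ext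
      · simp only [Category.assoc, tensorHom_fst, whiskerLeft_fst_assoc, whiskerLeft_fst,
          whiskerRight_fst]
      · simp only [Category.assoc, tensorHom_snd, whiskerLeft_snd_assoc, whiskerLeft_snd,
          whiskerRight_snd_assoc, he]
    rw [reassoc_of% A, MonObj.mul_one, MonoidalCategory.rightUnitor_naturality]
  · rw [← cancel_mono ι']
    simp only [Category.assoc]
    rw [hm]
    have A1 : p.m ▷ H ≫ (ι' ⊗ₘ ι') = ((ι' ⊗ₘ ι') ⊗ₘ ι') ≫ (μ[G] ▷ G) := by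
      apply CartesianMonoidalCategory.hom_ext
      · simp only [Category.assoc, tensorHom_fst, whiskerRight_fst_assoc, whiskerRight_fst,
          tensorHom_fst_assoc, hm]
      · simp only [Category.assoc, tensorHom_snd, whiskerRight_snd_assoc, whiskerRight_snd]
    have A2 : H ◁ p.m ≫ (ι' ⊗ₘ ι') = (ι' ⊗ₘ (ι' ⊗ₘ ι')) ≫ (G ◁ μ[G]) := by
      apply CartesianMonoidalCategory.hom_ext
      · simp only [Category.assoc, tensorHom_fst, whiskerLeft_fst_assoc, whiskerLeft_fst]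
      · simp only [Category.assoc, tensorHom_snd, whiskerLeft_snd_assoc, whiskerLeft_snd,
          tensorHom_snd_assoc, hm]
    rw [reassoc_of% A1, reassoc_of% A2, MonObj.mul_assoc,
      MonoidalCategory.associator_naturality_assoc]
  · rw [← cancel_mono ι', Category.assoc, hm, Category.assoc, he]
    have A : lift p.n (𝟙 H) ≫ (ι' ⊗ₘ ι') = ι' ≫ lift ι[G] (𝟙 G) := by
      apply CartesianMonoidalCategory.hom_ext
      · simp only [Category.assoc, tensorHom_fst, lift_fst_assoc, lift_fst, hn]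
      · simp only [Category.assoc, tensorHom_snd, lift_snd_assoc, lift_snd, Category.id_comp,
          Category.comp_id]
    rw [reassoc_of% A, GrpObj.left_inv, ← Category.assoc, toUnit_unique (ι' ≫ toUnit G) (toUnit H)]
  · rw [← cancel_mono ι', Category.assoc, hm, Category.assoc, he]
    have A : lift (𝟙 H) p.n ≫ (ι' ⊗ₘ ι') = ι' ≫ lift (𝟙 G) ι[G] := by
      apply CartesianMonoidalCategory.hom_ext
      · simp only [Category.assoc, tensorHom_fst, lift_fst_assoc, lift_fst, Category.id_comp,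
          Category.comp_id]
      · simp only [Category.assoc, tensorHom_snd, lift_snd_assoc, lift_snd, hn]
    rw [reassoc_of% A, GrpObj.right_inv, ← Category.assoc, toUnit_unique (ι' ≫ toUnit G) (toUnit H)]

end MonoGrp

section NormalFree
variable {C : Type u₁} [Category.{v₁} C] [CartesianMonoidalCategory C]
  {G N : C} [GrpObj G] (u : N ⟶ G)

/-- `(g, n) ↦ g · u(n) · g⁻¹`, with no group structure required on the source. -/
def conjMor' : G ⊗ N ⟶ G := fst G N * (snd G N ≫ u) * (fst G N)⁻¹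

theorem lift_conjMor' {T : C} (g : T ⟶ G) (n : T ⟶ N) :
    lift g n ≫ conjMor' u = g * (n ≫ u) * g⁻¹ := by
  simp [conjMor', MonObj.comp_mul, GrpObj.comp_inv]

theorem normal_iff_exists' :
    (∀ (T : C) (g : T ⟶ G) (n : T ⟶ N), ∃ n' : T ⟶ N, g * (n ≫ u) * g⁻¹ = n' ≫ u) ↔
      ∃ κ : G ⊗ N ⟶ N, κ ≫ u = conjMor' u := by
  constructor
  · intro h
    obtain ⟨n', hn'⟩ := h (G ⊗ N) (fst G N) (snd G N)
    exact ⟨n', hn'.symm⟩
  · rintro ⟨κ, hκ⟩ T g n
    exact ⟨lift g n ≫ κ, by rw [Category.assoc, hκ, lift_conjMor']⟩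

variable {D : Type u₂} [Category.{v₂} D] [CartesianMonoidalCategory D] (F : C ⥤ D) [F.Monoidal]
open scoped Obj

theorem μ_map_conjMor' :
    Functor.LaxMonoidal.μ F G N ≫ F.map (conjMor' u) = conjMor' (F.map u) := by
  simp [conjMor', Functor.map_mul, MonObj.comp_mul, GrpObj.comp_inv]

end NormalFree

section NormalOver
variable {S : Scheme.{u}}

/-- normality of `u : N ⟶ G`, in a form not mentioning any group structure on `N`. -/
def NormalProp {N G : Over S} [GrpObj G] (u : N ⟶ G) : Prop :=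
  ∃ κ : G ⊗ N ⟶ N, κ ≫ u = conjMor' u

theorem isNormalHom_iff' {N G : Over S} [GrpObj N] [GrpObj G] (u : N ⟶ G) :
    AlgGrp.IsNormalHom u ↔ NormalProp u :=
  normal_iff_exists' u

theorem normalProp_conj {N N' G G' : Over S} [GrpObj G] [GrpObj G']
    (α : N' ≅ N) (β : G ≅ G') [IsMonHom β.hom] (u : N ⟶ G)
    (hu : NormalProp u) : NormalProp (α.hom ≫ u ≫ β.hom) := by
  unfold NormalProp at hu ⊢
  rw [← normal_iff_exists'] at hu ⊢
  intro T g' n'
  obtain ⟨m, hm⟩ := hu T (g' ≫ β.inv) (n' ≫ α.hom)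
  refine ⟨m ≫ α.inv, ?_⟩
  have h1 := congrArg (fun t => t ≫ β.hom) hm
  simp only [MonObj.mul_comp, GrpObj.inv_comp, Category.assoc, Iso.inv_hom_id,
    Category.comp_id] at h1
  rw [h1]
  simp

variable {U : Scheme.{u}} (g : U ⟶ S)

theorem normalProp_map {N G : Over S} [GrpObj G] (u : N ⟶ G)
    (hu : NormalProp u) : NormalProp ((Over.pullback g).map u) := by
  obtain ⟨κ, hκ⟩ := hu
  refine ⟨Functor.LaxMonoidal.μ (Over.pullback g) G N ≫ (Over.pullback g).map κ, ?_⟩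
  rw [Category.assoc, ← Functor.map_comp, hκ, μ_map_conjMor']

end NormalOver

section PersFree
variable {S U U' : Scheme.{u}} (a : U' ⟶ U) (b : U ⟶ S) (c' : U' ⟶ S) (h : a ≫ b = c')

include h in
theorem normalProp_pers {N G : Over S} [GrpObj G] (u : N ⟶ G)
    (hu : NormalProp ((Over.pullback b).map u)) :
    NormalProp ((Over.pullback c').map u) := by
  rw [pers_eq a b c' h u]
  exact normalProp_conj (ψ a b c' h N).symm (ψ a b c' h G) _ (normalProp_map a _ hu)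

end PersFree

section DescFree
variable {I : Type u} [SmallCategory I] [IsCofiltered I]
  (D : I ⥤ Scheme.{u}) (c : Limits.Cone D) (hc : Limits.IsLimit c)
  [∀ (i j : I) (f : i ⟶ j), IsAffineHom (D.map f)]
  [∀ i, CompactSpace (D.obj i)] [∀ i, QuasiSeparatedSpace (D.obj i)]

include hc in
theorem normalProp_descend {j : I} (Gj Hj : Over (D.obj j)) [GrpObj Gj]
    [LocallyOfFinitePresentation Gj.hom] [QuasiCompact Gj.hom] [QuasiSeparated Gj.hom]
    [LocallyOfFinitePresentation Hj.hom] [QuasiCompact Hj.hom] [QuasiSeparated Hj.hom]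
    (uj : Hj ⟶ Gj) (hn : NormalProp ((Over.pullback (c.π.app j)).map uj)) :
    ∃ (i : I) (f : i ⟶ j), NormalProp ((Over.pullback (D.map f)).map uj) := by
  obtain ⟨κ, hκ⟩ := hn
  have hκ' : (Functor.OplaxMonoidal.δ (Over.pullback (c.π.app j)) Gj Hj ≫ κ) ≫
      (Over.pullback (c.π.app j)).map uj = (Over.pullback (c.π.app j)).map (conjMor' uj) := by
    rw [Category.assoc, hκ, ← μ_map_conjMor', Functor.Monoidal.δ_μ_assoc]
  obtain ⟨i, f, κi, hrel⟩ := full D c hc (Gj ⊗ Hj) Hj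
    (Functor.OplaxMonoidal.δ (Over.pullback (c.π.app j)) Gj Hj ≫ κ)
  have hrel1 : Rel D c f (κi ≫ (Over.pullback (D.map f)).map uj)
      ((Over.pullback (c.π.app j)).map (conjMor' uj)) := by
    rw [← hκ']
    exact rel_comp D c f hrel (rel_map D c f uj)
  have hrel2 : Rel D c f ((Over.pullback (D.map f)).map (conjMor' uj))
      ((Over.pullback (c.π.app j)).map (conjMor' uj)) :=
    rel_map D c f (conjMor' uj)
  obtain ⟨i', g, hg⟩ := rel_eventually_eq D c hc f (Gj ⊗ Hj) Gj hrel1 hrel2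
  rw [push_comp, push_map, push_map] at hg
  refine ⟨i', g ≫ f, Functor.LaxMonoidal.μ (Over.pullback (D.map (g ≫ f))) Gj Hj ≫
    push D g f (g ≫ f) rfl κi, ?_⟩
  rw [Category.assoc, hg, μ_map_conjMor']

end DescFree

section SubGrp
variable {I : Type u} [SmallCategory I] [IsCofiltered I]
  (D : I ⥤ Scheme.{u}) (c : Limits.Cone D) (hc : Limits.IsLimit c)
  [∀ (i j : I) (f : i ⟶ j), IsAffineHom (D.map f)]
  [∀ i, CompactSpace (D.obj i)] [∀ i, QuasiSeparatedSpace (D.obj i)]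

/-- the three equalities expressing that `mi, ei, ni` make `H₀` a subgroup at the stage `g`. -/
structure SubEqs {i j : I} (f : i ⟶ j) {G₀ H₀ : Over (D.obj j)} [GrpObj G₀] (ι₀ : H₀ ⟶ G₀)
    (mi : Red.bc (D.map f) (H₀ ⊗ H₀) ⟶ Red.bc (D.map f) H₀)
    (ei : Red.bc (D.map f) (𝟙_ (Over (D.obj j))) ⟶ Red.bc (D.map f) H₀)
    (ni : Red.bc (D.map f) H₀ ⟶ Red.bc (D.map f) H₀) {i' : I} (g : i' ⟶ i) : Prop where
  m : (Over.pullback (D.map g)).map (mi ≫ (Over.pullback (D.map f)).map ι₀) =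
    (Over.pullback (D.map g)).map ((Over.pullback (D.map f)).map ((ι₀ ⊗ₘ ι₀) ≫ μ[G₀]))
  e : (Over.pullback (D.map g)).map (ei ≫ (Over.pullback (D.map f)).map ι₀) =
    (Over.pullback (D.map g)).map ((Over.pullback (D.map f)).map η[G₀])
  n : (Over.pullback (D.map g)).map (ni ≫ (Over.pullback (D.map f)).map ι₀) =
    (Over.pullback (D.map g)).map ((Over.pullback (D.map f)).map (ι₀ ≫ ι[G₀]))

omit [IsCofiltered I] [∀ (i j : I) (f : i ⟶ j), IsAffineHom (D.map f)]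
  [∀ i, CompactSpace (D.obj i)] [∀ i, QuasiSeparatedSpace (D.obj i)] in
theorem SubEqs.pers {i j : I} (f : i ⟶ j) {G₀ H₀ : Over (D.obj j)} [GrpObj G₀] (ι₀ : H₀ ⟶ G₀)
    {mi : Red.bc (D.map f) (H₀ ⊗ H₀) ⟶ Red.bc (D.map f) H₀}
    {ei : Red.bc (D.map f) (𝟙_ (Over (D.obj j))) ⟶ Red.bc (D.map f) H₀}
    {ni : Red.bc (D.map f) H₀ ⟶ Red.bc (D.map f) H₀} {i' : I} {g : i' ⟶ i}
    (h : SubEqs D f ι₀ mi ei ni g) {i'' : I} (g' : i'' ⟶ i') :
    SubEqs D f ι₀ mi ei ni (g' ≫ g) :=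
  ⟨eq_pers_stage D _ _ _ _ _ g' h.m, eq_pers_stage D _ _ _ _ _ g' h.e,
    eq_pers_stage D _ _ _ _ _ g' h.n⟩

omit [∀ (i j : I) (f : i ⟶ j), IsAffineHom (D.map f)]
  [∀ i, CompactSpace (D.obj i)] [∀ i, QuasiSeparatedSpace (D.obj i)] in
theorem SubEqs.preGrp {i j : I} (f : i ⟶ j) {G₀ H₀ : Over (D.obj j)} [GrpObj G₀] (ι₀ : H₀ ⟶ G₀)
    {mi : Red.bc (D.map f) (H₀ ⊗ H₀) ⟶ Red.bc (D.map f) H₀}
    {ei : Red.bc (D.map f) (𝟙_ (Over (D.obj j))) ⟶ Red.bc (D.map f) H₀}
    {ni : Red.bc (D.map f) H₀ ⟶ Red.bc (D.map f) H₀} {i' : I} {g : i' ⟶ i}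
    (h : SubEqs D f ι₀ mi ei ni g) (f' : i' ⟶ j) (hf : g ≫ f = f') :
    ∃ p : PreGrp (Red.bc (D.map f') H₀),
      p.Hom (PreGrp.ofGrpObj (Red.bc (D.map f') G₀)) ((Over.pullback (D.map f')).map ι₀) := by
  have h1 := push_eq_of_map_eq D g f f' hf h.m
  have h2 := push_eq_of_map_eq D g f f' hf h.e
  have h3 := push_eq_of_map_eq D g f f' hf h.n
  rw [push_comp, push_map, push_map] at h1 h2 h3
  refine ⟨⟨Functor.LaxMonoidal.μ (Over.pullback (D.map f')) H₀ H₀ ≫ push D g f f' hf mi,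
    Functor.LaxMonoidal.ε (Over.pullback (D.map f')) ≫ push D g f f' hf ei,
    push D g f f' hf ni⟩, ?_, ?_, ?_⟩
  · simp only [PreGrp.ofGrpObj, Category.assoc]
    rw [h1, Functor.map_comp, ← Functor.LaxMonoidal.μ_natural_assoc]
    rfl
  · simp only [PreGrp.ofGrpObj, Category.assoc]
    rw [h2]
    rfl
  · simp only [PreGrp.ofGrpObj]
    rw [h3, Functor.map_comp]
    rfl

include hc in
theorem exists_subEqs {j : I} (G₀ H₀ : Over (D.obj j)) [GrpObj G₀]
    [LocallyOfFinitePresentation G₀.hom] [QuasiCompact G₀.hom] [QuasiSeparated G₀.hom]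
    [LocallyOfFinitePresentation H₀.hom] [QuasiCompact H₀.hom] [QuasiSeparated H₀.hom]
    (ι₀ : H₀ ⟶ G₀) [MH : GrpObj (Red.bc (c.π.app j) H₀)]
    (hι : IsMonHom ((Over.pullback (c.π.app j)).map ι₀)) :
    ∃ (i : I) (f : i ⟶ j) (mi : Red.bc (D.map f) (H₀ ⊗ H₀) ⟶ Red.bc (D.map f) H₀)
      (ei : Red.bc (D.map f) (𝟙_ (Over (D.obj j))) ⟶ Red.bc (D.map f) H₀)
      (ni : Red.bc (D.map f) H₀ ⟶ Red.bc (D.map f) H₀) (i' : I) (g : i' ⟶ i),
      SubEqs D f ι₀ mi ei ni g := by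
  obtain ⟨i, f, mi, ei, ni, hm, he, hn⟩ := full₃ D c hc (H₀ ⊗ H₀) H₀ (𝟙_ _) H₀ H₀ H₀
    (Functor.OplaxMonoidal.δ (Over.pullback (c.π.app j)) H₀ H₀ ≫ μ[Red.bc (c.π.app j) H₀])
    (Functor.OplaxMonoidal.η (Over.pullback (c.π.app j)) ≫ η[Red.bc (c.π.app j) H₀])
    ι[Red.bc (c.π.app j) H₀]
  -- the three pairs of models
  have k1 : (Functor.OplaxMonoidal.δ (Over.pullback (c.π.app j)) H₀ H₀ ≫
      μ[Red.bc (c.π.app j) H₀]) ≫ (Over.pullback (c.π.app j)).map ι₀ =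
      (Over.pullback (c.π.app j)).map ((ι₀ ⊗ₘ ι₀) ≫ μ[G₀]) := by
    rw [Category.assoc, hι.mul_hom, Functor.obj.μ_def, Functor.LaxMonoidal.μ_natural_assoc,
      Functor.Monoidal.δ_μ_assoc, Functor.map_comp]
  have k2 : (Functor.OplaxMonoidal.η (Over.pullback (c.π.app j)) ≫
      η[Red.bc (c.π.app j) H₀]) ≫ (Over.pullback (c.π.app j)).map ι₀ =
      (Over.pullback (c.π.app j)).map η[G₀] := by
    rw [Category.assoc, hι.one_hom, Functor.obj.η_def, Functor.Monoidal.η_ε_assoc]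
  have k3 : ι[Red.bc (c.π.app j) H₀] ≫ (Over.pullback (c.π.app j)).map ι₀ =
      (Over.pullback (c.π.app j)).map (ι₀ ≫ ι[G₀]) := by
    rw [GrpObj.inv_hom, Functor.map_comp]
    rfl
  have r1 := rel_map_eq D c f (k1 ▸ rel_comp D c f hm (rel_map D c f ι₀))
    (rel_map D c f ((ι₀ ⊗ₘ ι₀) ≫ μ[G₀]))
  have r2 := rel_map_eq D c f (k2 ▸ rel_comp D c f he (rel_map D c f ι₀))
    (rel_map D c f η[G₀])
  have r3 := rel_map_eq D c f (k3 ▸ rel_comp D c f hn (rel_map D c f ι₀))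
    (rel_map D c f (ι₀ ≫ ι[G₀]))
  have e1 := faithful D c hc _ _ _ _ r1
  have e2 := faithful D c hc _ _ _ _ r2
  have e3 := faithful D c hc _ _ _ _ r3
  have e12 := exists_stage_and _ _ (eq_pers_stage D _ _) (eq_pers_stage D _ _) e1 e2
  obtain ⟨i', g, ⟨h1, h2⟩, h3⟩ := exists_stage_and _ _
    (fun i' g i'' g' hh => ⟨eq_pers_stage D _ _ i' g i'' g' hh.1,
      eq_pers_stage D _ _ i' g i'' g' hh.2⟩) (eq_pers_stage D _ _) e12 e3
  exact ⟨i, f, mi, ei, ni, i', g, ⟨h1, h2, h3⟩⟩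

end SubGrp

end Groth.Agent.Lib.Helper12.H12GrpLim
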