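import Mathlib
import Groth.Prelude.Def_Hens2
import Groth.Agent.Lib.Helper12.DLRing

/-!
# A directed colimit of pair henselizations is the pair henselization of the colimit (helper12)
-/

set_option autoImplicit false
universe u

namespace Groth.Agent.Lib.Helper12.HensColimPair

open Groth.Agent.Lib.Helper12.DLRing

variable {ι : Type u} [Preorder ι] [IsDirectedOrder ι] [Nonempty ι]
    (G : ι → Type u) [∀ i, CommRing (G i)] (f : ∀ i j : ι, i ≤ j → (G i →+* G j))
    [DirectedSystem G (fun i j h => f i j h)] (I : ∀ i, Ideal (G i))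
    (hI : ∀ (i j : ι) (h : i ≤ j), (I i).map (f i j h) ≤ I j)
    (B : ι → Type u) [∀ i, CommRing (B i)] [∀ i, Algebra (G i) (B i)]
    (hB : ∀ i, Hens2.IsPairHenselization (G i) (I i) (B i))
    (g : ∀ i j : ι, i ≤ j → (B i →+* B j)) [DirectedSystem B (fun i j h => g i j h)]
    (hg : ∀ (i j : ι) (h : i ≤ j), (g i j h).comp (algebraMap (G i) (B i)) =
      (algebraMap (G j) (B j)).comp (f i j h))
    [Algebra (DirectLimit G f) (DirectLimit B g)]
    (halg : ∀ (i : ι) (x : G i), algebraMap (DirectLimit G f) (DirectLimit B g)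
      (DirectLimit.Ring.of G f i x) = DirectLimit.Ring.of B g i (algebraMap (G i) (B i) x))

include hI hB hg halg in
theorem main :
    Hens2.IsPairHenselization (DirectLimit G f) (⨆ i, (I i).map (DirectLimit.Ring.of G f i))
      (DirectLimit B g) := by
  have hcomp : ∀ i, (algebraMap (DirectLimit G f) (DirectLimit B g)).comp
      (DirectLimit.Ring.of G f i) =
      (DirectLimit.Ring.of B g i).comp (algebraMap (G i) (B i)) := by
    intro i
    ext x
    exact halg i x
  constructor
  · have hJ : ∀ i j (h : i ≤ j), ((I i).map (algebraMap (G i) (B i))).map (g i j h) ≤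
        (I j).map (algebraMap (G j) (B j)) := by
      intro i j h
      rw [Ideal.map_map, hg, ← Ideal.map_map]
      exact Ideal.map_mono (hI i j h)
    haveI : ∀ i, HenselianRing (B i) ((I i).map (algebraMap (G i) (B i))) := fun i => (hB i).1
    have h1 := henselianRing_directLimit g (fun i => (I i).map (algebraMap (G i) (B i))) hJ
    have h2 : (⨆ i, ((I i).map (algebraMap (G i) (B i))).map (DirectLimit.Ring.of B g i)) =
        (⨆ i, (I i).map (DirectLimit.Ring.of G f i)).map
          (algebraMap (DirectLimit G f) (DirectLimit B g)) := by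
      rw [Ideal.map_iSup]
      refine iSup_congr fun i => ?_
      rw [Ideal.map_map, Ideal.map_map, hcomp]
    rw [h2] at h1
    exact h1
  · intro C _ J φ hC hφ
    have hφi : ∀ i, (I i).map (φ.comp (DirectLimit.Ring.of G f i)) ≤ J := by
      intro i
      rw [← Ideal.map_map]
      exact (Ideal.map_mono (le_iSup (fun i => (I i).map (DirectLimit.Ring.of G f i)) i)).trans hφ
    choose ψ hψ hψu using fun i => (hB i).2 C J (φ.comp (DirectLimit.Ring.of G f i)) hC (hφi i)
    have hcompat : ∀ i j (h : i ≤ j), (ψ j).comp (g i j h) = ψ i := by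
      intro i j h
      apply hψu i
      rw [RingHom.comp_assoc, hg, ← RingHom.comp_assoc, hψ j, RingHom.comp_assoc]
      congr 1
      ext x
      exact DirectLimit.Ring.of_f h x
    let Ψ : DirectLimit B g →+* C := DirectLimit.Ring.lift B g C ψ
      (fun i j h x => congrArg (fun θ => θ x) (hcompat i j h))
    refine ⟨Ψ, ?_, ?_⟩
    · apply DirectLimit.Ring.hom_ext
      intro i
      rw [RingHom.comp_assoc, hcomp, ← RingHom.comp_assoc]
      have : Ψ.comp (DirectLimit.Ring.of B g i) = ψ i := DirectLimit.Ring.lift_comp_of ..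
      rw [this, hψ i]
    · intro Ψ' hΨ'
      apply DirectLimit.Ring.hom_ext
      intro i
      have h1 : Ψ.comp (DirectLimit.Ring.of B g i) = ψ i := DirectLimit.Ring.lift_comp_of ..
      rw [h1]
      apply hψu i
      rw [RingHom.comp_assoc, ← hcomp, ← RingHom.comp_assoc, hΨ']

end Groth.Agent.Lib.Helper12.HensColimPair
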