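import Mathlib
import Groth.Prelude.Def_Hens2
import Groth.Agent.Lib.Helper12.DLRing

/-!
# Maps from henselizations of finitely presented algebras into directed colimits of
henselian pairs (helper12)
-/

set_option autoImplicit false
universe u

namespace Groth.Agent.Lib.Helper12.HensFPColim

open Groth.Agent.Lib.Helper12.DLRing

section

variable {A : Type u} [CommRing A]
  {κ : Type u} [Preorder κ] [IsDirectedOrder κ] [Nonempty κ]
  (Ra : κ → Type u) [∀ a, CommRing (Ra a)] [∀ a, Algebra A (Ra a)]
  (t : ∀ a b : κ, a ≤ b → (Ra a →+* Ra b)) [DirectedSystem Ra (fun a b h => t a b h)]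
  (ht : ∀ (a b : κ) (h : a ≤ b), (t a b h).comp (algebraMap A (Ra a)) = algebraMap A (Ra b))
  [Algebra A (DirectLimit Ra t)]
  (halg : ∀ (a : κ) (x : A), algebraMap A (DirectLimit Ra t) x =
    DirectLimit.Ring.of Ra t a (algebraMap A (Ra a) x))

/-- the transition maps as algebra maps -/
def tA (a b : κ) (h : a ≤ b) : Ra a →ₐ[A] Ra b :=
  { t a b h with commutes' := fun x => congrArg (fun φ => φ x) (ht a b h) }

/-- the structure maps as algebra maps -/
noncomputable def ofA (a : κ) : Ra a →ₐ[A] DirectLimit Ra t :=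
  { DirectLimit.Ring.of Ra t a with commutes' := fun x => (halg a x).symm }

omit [IsDirectedOrder κ] [Nonempty κ] [DirectedSystem Ra (fun a b h => t a b h)]
  [Algebra A (DirectLimit Ra t)] in
@[simp] theorem tA_apply (a b : κ) (h : a ≤ b) (x : Ra a) : tA Ra t ht a b h x = t a b h x := rfl

@[simp] theorem ofA_apply (a : κ) (x : Ra a) :
    ofA Ra t halg a x = DirectLimit.Ring.of Ra t a x := rfl

include ht halg in
/-- an algebra map from a finitely presented algebra to the colimit factors through a stage -/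
theorem exists_factor (R₀ : Type u) [CommRing R₀] [Algebra A R₀]
    [Algebra.FinitePresentation A R₀] (χ₀ : R₀ →ₐ[A] DirectLimit Ra t) :
    ∃ (a : κ) (φ₀ : R₀ →ₐ[A] Ra a), ∀ x, DirectLimit.Ring.of Ra t a (φ₀ x) = χ₀ x := by
  classical
  obtain ⟨n, π, hπ, s, hs⟩ := Algebra.FinitePresentation.out (R := A) (A := R₀)
  obtain ⟨i, y, hy⟩ := exists_of_finite t (fun k : Fin n => χ₀ (π (MvPolynomial.X k)))
  let θ : MvPolynomial (Fin n) A →ₐ[A] Ra i := MvPolynomial.aeval y
  have h1 : (ofA Ra t halg i).comp θ = χ₀.comp π := by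
    apply MvPolynomial.algHom_ext
    intro k
    simp only [AlgHom.comp_apply, θ, MvPolynomial.aeval_X, ofA_apply]
    exact (hy k).symm
  have h2 : ∀ p : (s : Set (MvPolynomial (Fin n) A)),
      DirectLimit.Ring.of Ra t i (θ p) = DirectLimit.Ring.of Ra t i 0 := by
    intro p
    have h3 := congrArg (fun ψ => ψ (p : MvPolynomial (Fin n) A)) h1
    simp only [AlgHom.comp_apply, ofA_apply] at h3
    rw [h3, map_zero]
    have : (p : MvPolynomial (Fin n) A) ∈ RingHom.ker π.toRingHom := by
      rw [← hs]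
      exact Ideal.subset_span p.2
    rw [show π (p : MvPolynomial (Fin n) A) = 0 from this, map_zero]
  obtain ⟨j, hij, hj⟩ := exists_eq_of_finite t
    (fun p : (s : Set (MvPolynomial (Fin n) A)) => θ p) (fun _ => 0) h2
  let θ' : MvPolynomial (Fin n) A →ₐ[A] Ra j := (tA Ra t ht i j hij).comp θ
  have hker : RingHom.ker π.toRingHom ≤ RingHom.ker θ'.toRingHom := by
    rw [← hs, Ideal.span_le]
    intro p hp
    have := hj ⟨p, hp⟩
    simp only [map_zero] at this
    exact this
  refine ⟨j, AlgHom.liftOfSurjective π hπ θ' hker, fun x => ?_⟩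
  obtain ⟨p, rfl⟩ := hπ x
  rw [AlgHom.liftOfSurjective_apply]
  simp only [θ', AlgHom.comp_apply, tA_apply]
  rw [of_f]
  exact congrArg (fun ψ => ψ p) h1

include ht in
/-- two algebra maps from a finitely generated algebra to a stage that agree in the colimit
agree at a later stage -/
theorem exists_eq_stage (R₀ : Type u) [CommRing R₀] [Algebra A R₀]
    [Algebra.FiniteType A R₀] (a : κ) (φ₀ ψ₀ : R₀ →ₐ[A] Ra a)
    (h : ∀ x, DirectLimit.Ring.of Ra t a (φ₀ x) = DirectLimit.Ring.of Ra t a (ψ₀ x)) :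
    ∃ (b : κ) (hab : a ≤ b), ∀ x, t a b hab (φ₀ x) = t a b hab (ψ₀ x) := by
  obtain ⟨n, π, hπ⟩ := Algebra.FiniteType.iff_quotient_mvPolynomial''.1
    (inferInstance : Algebra.FiniteType A R₀)
  obtain ⟨b, hab, hb⟩ := exists_eq_of_finite t
    (fun k : Fin n => φ₀ (π (MvPolynomial.X k))) (fun k => ψ₀ (π (MvPolynomial.X k)))
    (fun k => h _)
  refine ⟨b, hab, fun x => ?_⟩
  obtain ⟨p, rfl⟩ := hπ x
  have h1 : ((tA Ra t ht a b hab).comp φ₀).comp π = ((tA Ra t ht a b hab).comp ψ₀).comp π := by
    apply MvPolynomial.algHom_ext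
    intro k
    exact hb k
  exact congrArg (fun ψ => ψ p) h1

end

section Main

variable (A : Type u) [CommRing A] (I : Ideal A)
  (R₀ : Type u) [CommRing R₀] [Algebra A R₀] [Algebra.FinitePresentation A R₀]
  (B : Type u) [CommRing B] [Algebra R₀ B] [Algebra A B] [IsScalarTower A R₀ B]
  (hB : Hens2.IsPairHenselization R₀ (I.map (algebraMap A R₀)) B)
  {κ : Type u} [Preorder κ] [IsDirectedOrder κ] [Nonempty κ]
  (Ra : κ → Type u) [∀ a, CommRing (Ra a)] [∀ a, Algebra A (Ra a)]
  [∀ a, HenselianRing (Ra a) (I.map (algebraMap A (Ra a)))]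
  (t : ∀ a b : κ, a ≤ b → (Ra a →+* Ra b)) [DirectedSystem Ra (fun a b h => t a b h)]
  (ht : ∀ (a b : κ) (h : a ≤ b), (t a b h).comp (algebraMap A (Ra a)) = algebraMap A (Ra b))
  [Algebra A (DirectLimit Ra t)]
  (halg : ∀ (a : κ) (x : A), algebraMap A (DirectLimit Ra t) x =
    DirectLimit.Ring.of Ra t a (algebraMap A (Ra a) x))

include ht halg in
theorem henselianRing_colim :
    HenselianRing (DirectLimit Ra t) (I.map (algebraMap A (DirectLimit Ra t))) := by
  have hJ : ∀ a b (h : a ≤ b), (I.map (algebraMap A (Ra a))).map (t a b h) ≤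
      I.map (algebraMap A (Ra b)) := by
    intro a b h
    rw [Ideal.map_map, ht]
  have h1 := henselianRing_directLimit t (fun a => I.map (algebraMap A (Ra a))) hJ
  have h2 : (⨆ a, (I.map (algebraMap A (Ra a))).map (DirectLimit.Ring.of Ra t a)) =
      I.map (algebraMap A (DirectLimit Ra t)) := by
    have : ∀ a, (I.map (algebraMap A (Ra a))).map (DirectLimit.Ring.of Ra t a) =
        I.map (algebraMap A (DirectLimit Ra t)) := by
      intro a
      rw [Ideal.map_map]
      congr 1
      ext x
      exact (halg a x).symm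
    simp only [this]
    exact ciSup_const
  rw [h2] at h1
  exact h1

include hB in
omit [Algebra.FinitePresentation A R₀] in
/-- ring maps out of `B` into a henselian `A`-algebra are determined by their restriction to `R₀` -/
theorem ringHom_ext_of_henselian {C : Type u} [CommRing C] [Algebra A C]
    [hC : HenselianRing C (I.map (algebraMap A C))] (g₁ g₂ : B →+* C)
    (hg₁ : (g₁.comp (algebraMap R₀ B)).comp (algebraMap A R₀) = algebraMap A C)
    (h : g₁.comp (algebraMap R₀ B) = g₂.comp (algebraMap R₀ B)) : g₁ = g₂ := by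
  have hI : (I.map (algebraMap A R₀)).map (g₁.comp (algebraMap R₀ B)) ≤
      I.map (algebraMap A C) := by
    rw [Ideal.map_map, hg₁]
  obtain ⟨u, -, hu⟩ := hB.2 C _ (g₁.comp (algebraMap R₀ B)) hC hI
  rw [hu g₁ rfl, hu g₂ h.symm]

include hB ht halg in
theorem main :
    (∀ χ : B →ₐ[A] DirectLimit Ra t, ∃ (a : κ) (φ : B →ₐ[A] Ra a),
        ∀ x : B, DirectLimit.Ring.of Ra t a (φ x) = χ x) ∧
    ∀ (a : κ) (φ ψ : B →ₐ[A] Ra a),
      (∀ x : B, DirectLimit.Ring.of Ra t a (φ x) = DirectLimit.Ring.of Ra t a (ψ x)) →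
      ∃ (b : κ) (h : a ≤ b), ∀ x : B, t a b h (φ x) = t a b h (ψ x) := by
  haveI hL := henselianRing_colim A I Ra t ht halg
  constructor
  · intro χ
    obtain ⟨a, φ₀, hφ₀⟩ := exists_factor Ra t ht halg R₀
      (χ.comp (IsScalarTower.toAlgHom A R₀ B))
    have hI : (I.map (algebraMap A R₀)).map (φ₀ : R₀ →+* Ra a) ≤ I.map (algebraMap A (Ra a)) := by
      rw [Ideal.map_map]
      apply le_of_eq
      congr 1
      ext x
      exact φ₀.commutes x
    obtain ⟨g, hg, -⟩ := hB.2 (Ra a) _ (φ₀ : R₀ →+* Ra a) inferInstance hI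
    have hgA : ∀ x : A, g (algebraMap A B x) = algebraMap A (Ra a) x := by
      intro x
      rw [IsScalarTower.algebraMap_apply A R₀ B]
      have := congrArg (fun ψ => ψ (algebraMap A R₀ x)) hg
      simp only [RingHom.comp_apply] at this
      rw [this]
      exact φ₀.commutes x
    let g' : B →ₐ[A] Ra a := { g with commutes' := hgA }
    refine ⟨a, g', fun x => ?_⟩
    have h1 : ((DirectLimit.Ring.of Ra t a).comp g) = (χ : B →+* DirectLimit Ra t) := by
      apply ringHom_ext_of_henselian A I R₀ B hB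
      · ext x
        simp only [RingHom.comp_apply]
        rw [← IsScalarTower.algebraMap_apply A R₀ B, hgA, halg a]
      · ext r
        simp only [RingHom.comp_apply]
        have := congrArg (fun ψ => ψ r) hg
        simp only [RingHom.comp_apply] at this
        rw [this]
        exact hφ₀ r
    exact congrArg (fun ψ => ψ x) h1
  · intro a φ ψ h
    haveI : Algebra.FiniteType A R₀ := inferInstance
    obtain ⟨b, hab, hb⟩ := exists_eq_stage Ra t ht R₀ a
      (φ.comp (IsScalarTower.toAlgHom A R₀ B)) (ψ.comp (IsScalarTower.toAlgHom A R₀ B))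
      (fun x => h _)
    refine ⟨b, hab, fun x => ?_⟩
    have h1 : (t a b hab).comp (φ : B →+* Ra a) = (t a b hab).comp (ψ : B →+* Ra a) := by
      apply ringHom_ext_of_henselian A I R₀ B hB
      · ext x
        simp only [RingHom.comp_apply]
        rw [← IsScalarTower.algebraMap_apply A R₀ B]
        have : (φ : B →+* Ra a) (algebraMap A B x) = algebraMap A (Ra a) x := φ.commutes x
        rw [this]
        exact congrArg (fun ψ => ψ x) (ht a b hab)
      · ext r
        exact hb r
    exact congrArg (fun ψ => ψ x) h1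

end Main

end Groth.Agent.Lib.Helper12.HensFPColim
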