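import Mathlib
import Groth.Agent.Lib.Helper12.HensRad
import Groth.Agent.Lib.Helper4.HenselPairK
import Groth.Agent.S0499
import Groth.Agent.S14620

/-!
# Integral domains over henselian local rings
-/

set_option autoImplicit false
universe u

namespace Groth.Agent.Lib.Helper12.HensInt

open Polynomial Function IsLocalRing

theorem henselianLocalRing_of_henselianRing_maximalIdeal (B : Type*) [CommRing B] [IsLocalRing B]
    [h : HenselianRing B (maximalIdeal B)] : HenselianLocalRing B where
  is_henselian f hf a₀ h₁ h₂ := h.is_henselian f hf a₀ h₁ (h₂.map _)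

/-- A domain finite over a henselian local ring is local. -/
theorem isLocalRing_of_isDomain_of_finite (A : Type u) [CommRing A] [HenselianLocalRing A]
    (S : Type u) [CommRing S] [IsDomain S] [Algebra A S] [Module.Finite A S] : IsLocalRing S := by
  obtain ⟨ι, _, D, _, hD, ⟨e⟩⟩ := Groth.Agent.S0499.result A S
  classical
  have hne : Nonempty ι := by
    by_contra hemp
    rw [not_nonempty_iff] at hemp
    have : (0 : S) = 1 := e.injective (Subsingleton.elim _ _)
    exact zero_ne_one this
  have hsub : Subsingleton ι := by
    constructor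
    intro i j
    by_contra hij
    have h1 : e.symm (Pi.single i 1) * e.symm (Pi.single j 1) = 0 := by
      rw [← map_mul, ← Pi.single_mul_left, Pi.single_eq_of_ne hij, mul_zero, Pi.single_zero,
        map_zero]
    have hnz : ∀ k : ι, e.symm (Pi.single k (1 : D k)) ≠ 0 := by
      intro k hk
      have : (Pi.single k (1 : D k) : ∀ i, D i) = 0 := by
        have := congrArg e hk
        rwa [RingEquiv.apply_symm_apply, map_zero] at this
      have h10 := congrFun this k
      rw [Pi.single_eq_same] at h10
      haveI := hD k
      exact one_ne_zero h10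
    rcases mul_eq_zero.1 h1 with h | h
    · exact hnz i h
    · exact hnz j h
  obtain ⟨i⟩ := hne
  haveI : Unique ι := ⟨⟨i⟩, fun j => Subsingleton.elim _ _⟩
  haveI := hD default
  exact (e.trans (RingEquiv.piUnique D)).symm.isLocalRing

variable (A : Type u) [CommRing A] [HenselianLocalRing A] (B : Type u) [CommRing B] [IsDomain B]
  [Algebra A B] [Algebra.IsIntegral A B]

include A in
theorem isLocalRing_of_isDomain_of_isIntegral : IsLocalRing B := by
  refine IsLocalRing.of_nonunits_add ?_
  intro a b ha hb hab
  let S₀ : Subalgebra A B := Algebra.adjoin A {a, b}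
  haveI : Module.Finite A S₀ := Algebra.finite_adjoin_of_finite_of_isIntegral (Set.toFinite _)
    (fun x _ => Algebra.IsIntegral.isIntegral x)
  haveI : IsLocalRing S₀ := isLocalRing_of_isDomain_of_finite A S₀
  haveI : Algebra.IsIntegral S₀ B := Algebra.IsIntegral.tower_top (R := A)
  have hloc : IsLocalHom (algebraMap S₀ B) := inferInstance
  have haS : a ∈ S₀ := Algebra.subset_adjoin (by simp)
  have hbS : b ∈ S₀ := Algebra.subset_adjoin (by simp)
  have ha' : (⟨a, haS⟩ : S₀) ∈ nonunits S₀ := fun h => ha (h.map (algebraMap S₀ B))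
  have hb' : (⟨b, hbS⟩ : S₀) ∈ nonunits S₀ := fun h => hb (h.map (algebraMap S₀ B))
  have hsum := IsLocalRing.nonunits_add ha' hb'
  exact hsum (isUnit_of_map_unit (algebraMap S₀ B) (⟨a, haS⟩ + ⟨b, hbS⟩) hab)

theorem isLocalHom_algebraMap_of_isIntegral : IsLocalHom (algebraMap A B) := by
  constructor
  intro a ha
  have hker : RingHom.ker (algebraMap A B) ≤ Ideal.jacobson ⊥ := by
    rw [IsLocalRing.jacobson_eq_maximalIdeal ⊥ bot_ne_top]
    exact IsLocalRing.le_maximalIdeal (RingHom.ker_ne_top _)
  have hint : (algebraMap A B).kerLift.IsIntegral :=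
    RingHom.IsIntegral.kerLift (algebraMap_isIntegral_iff.mpr inferInstance)
  haveI := hint.isLocalHom (RingHom.kerLift_injective _)
  have h1 : IsUnit (Ideal.Quotient.mk (RingHom.ker (algebraMap A B)) a) :=
    isUnit_of_map_unit (algebraMap A B).kerLift _ (by simpa using ha)
  exact HensRad.isUnit_of_isUnit_mk hker h1

theorem radical_map_maximalIdeal [IsLocalRing B] :
    ((maximalIdeal A).map (algebraMap A B)).radical = maximalIdeal B := by
  haveI := isLocalHom_algebraMap_of_isIntegral A B
  have hle : (maximalIdeal A).map (algebraMap A B) ≤ maximalIdeal B :=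
    ((local_hom_TFAE (algebraMap A B)).out 0 2 rfl rfl).mp inferInstance
  apply le_antisymm
  · exact (Ideal.IsPrime.radical_le_iff inferInstance).2 hle
  · rw [Ideal.radical_eq_sInf]
    refine le_sInf ?_
    rintro q ⟨hq, hqp⟩
    have h1 : maximalIdeal A ≤ q.comap (algebraMap A B) := Ideal.map_le_iff_le_comap.1 hq
    have h2 : q.comap (algebraMap A B) = maximalIdeal A :=
      ((IsLocalRing.maximalIdeal.isMaximal A).eq_of_le (Ideal.comap_ne_top _ hqp.ne_top) h1).symm
    have h3 : q.IsMaximal := by
      haveI := hqp
      refine Ideal.isMaximal_of_isIntegral_of_isMaximal_comap (R := A) q ?_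
      rw [h2]; infer_instance
    rw [IsLocalRing.eq_maximalIdeal h3]

include A in
theorem henselianLocalRing_of_isDomain_of_isIntegral : HenselianLocalRing B := by
  haveI := isLocalRing_of_isDomain_of_isIntegral A B
  haveI : HenselianRing B ((maximalIdeal A).map (algebraMap A B)) :=
    Groth.Agent.Lib.Helper4.HenselPair.henselianRing_map_of_isIntegral A (maximalIdeal A) B
  haveI : HenselianRing B (maximalIdeal B) :=
    HensRad.henselianRing_of_le_radical ((maximalIdeal A).map (algebraMap A B)) _
      (radical_map_maximalIdeal A B).ge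
  exact henselianLocalRing_of_henselianRing_maximalIdeal B

omit [IsDomain B] in
theorem isIntegral_residueField [IsLocalRing B] [IsLocalHom (algebraMap A B)] :
    letI := (ResidueField.map (algebraMap A B)).toAlgebra
    Algebra.IsIntegral (ResidueField A) (ResidueField B) := by
  letI := (ResidueField.map (algebraMap A B)).toAlgebra
  constructor
  intro y
  obtain ⟨b, rfl⟩ := residue_surjective y
  obtain ⟨p, hp, hpb⟩ := Algebra.IsIntegral.isIntegral (R := A) b
  refine ⟨p.map (residue A), hp.map _, ?_⟩
  rw [eval₂_map]
  have : (algebraMap (ResidueField A) (ResidueField B)).comp (residue A) =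
      (residue B).comp (algebraMap A B) := rfl
  rw [this, ← hom_eval₂, hpb, map_zero]

end Groth.Agent.Lib.Helper12.HensInt
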