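import Mathlib
import Groth.Prelude.Def_Hens2
import Groth.Agent.Lib.Helper12.HensRad
import Groth.Agent.Lib.Helper12.HensCRT
import Groth.Agent.Lib.Helper4.HenselPairK

/-!
# Henselization of pairs commutes with integral base change (helper12)
-/

set_option autoImplicit false
universe u

namespace Groth.Agent.Lib.Helper12.HensIntBC

open TensorProduct

attribute [local instance] Algebra.TensorProduct.rightAlgebra

variable {A B Ah : Type u} [CommRing A] [CommRing B] [CommRing Ah] [Algebra A B] [Algebra A Ah]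
  (I : Ideal A) (J : Ideal B)

theorem map_map_tensor : (I.map (algebraMap A Ah)).map (algebraMap Ah (Ah ⊗[A] B)) =
    (I.map (algebraMap A B)).map (algebraMap B (Ah ⊗[A] B)) := by
  rw [Ideal.map_map, Ideal.map_map]
  congr 1
  ext a
  simp only [RingHom.comp_apply, Algebra.TensorProduct.algebraMap_apply,
    Algebra.TensorProduct.right_algebraMap_apply, Algebra.algebraMap_self, RingHom.id_apply]
  rw [Algebra.algebraMap_eq_smul_one, Algebra.algebraMap_eq_smul_one, TensorProduct.smul_tmul]

/-- `Ah ⊗[A] B` is a henselization of `(B, J)` when `B` is integral over `A` and `J` has the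
same radical as `I B`. -/
theorem isPairHenselization_tensor (hIJ : I.map (algebraMap A B) ≤ J)
    (hrad : J.radical = (I.map (algebraMap A B)).radical)
    [Algebra.IsIntegral A B] (hA : Hens2.IsPairHenselization A I Ah) :
    Hens2.IsPairHenselization B J (Ah ⊗[A] B) := by
  haveI := hA.1
  have h1 : HenselianRing (Ah ⊗[A] B)
      ((I.map (algebraMap A Ah)).map (algebraMap Ah (Ah ⊗[A] B))) :=
    Groth.Agent.Lib.Helper4.HenselPair.henselianRing_map_of_isIntegral Ah
      (I.map (algebraMap A Ah)) (Ah ⊗[A] B)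
  rw [map_map_tensor] at h1
  have hT : HenselianRing (Ah ⊗[A] B) (J.map (algebraMap B (Ah ⊗[A] B))) := by
    refine @HensRad.henselianRing_of_le_radical _ _
      ((I.map (algebraMap A B)).map (algebraMap B (Ah ⊗[A] B))) _ ?_ h1
    rw [Ideal.map_le_iff_le_comap]
    intro x hx
    have hx' : x ∈ (I.map (algebraMap A B)).radical := hrad ▸ Ideal.le_radical hx
    obtain ⟨n, hn⟩ := hx'
    refine ⟨n, ?_⟩
    rw [← map_pow]
    exact Ideal.mem_map_of_mem _ hn
  refine ⟨hT, fun C _ J' f hJ' hJf => ?_⟩
  letI algAC : Algebra A C := (f.comp (algebraMap A B)).toAlgebra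
  have hI : I.map (f.comp (algebraMap A B)) ≤ J' := by
    rw [← Ideal.map_map]
    exact (Ideal.map_mono hIJ).trans hJf
  obtain ⟨g₀, hg₀, hu₀⟩ := hA.2 C J' (f.comp (algebraMap A B)) hJ' hI
  let g₀' : Ah →ₐ[A] C := { g₀ with commutes' := fun a => congrArg (fun φ => φ a) hg₀ }
  let f' : B →ₐ[A] C := { f with commutes' := fun a => rfl }
  let g : Ah ⊗[A] B →ₐ[A] C := Algebra.TensorProduct.lift g₀' f' (fun _ _ => Commute.all _ _)
  have hg₀' : ∀ x, g₀' x = g₀ x := fun _ => rfl
  have hf' : ∀ x, f' x = f x := fun _ => rfl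
  refine ⟨g, ?_, ?_⟩
  · ext b
    simp only [RingHom.comp_apply, Algebra.TensorProduct.right_algebraMap_apply]
    change g (1 ⊗ₜ b) = f b
    rw [Algebra.TensorProduct.lift_tmul, map_one, one_mul, hf']
  · intro g' hg'
    have h2 : g'.comp (algebraMap Ah (Ah ⊗[A] B)) = g₀ := by
      apply hu₀
      ext a
      have h3 : algebraMap Ah (Ah ⊗[A] B) (algebraMap A Ah a) =
          algebraMap B (Ah ⊗[A] B) (algebraMap A B a) := by
        rw [Algebra.TensorProduct.algebraMap_apply, Algebra.TensorProduct.right_algebraMap_apply,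
          Algebra.algebraMap_self, RingHom.id_apply,
          Algebra.algebraMap_eq_smul_one, Algebra.algebraMap_eq_smul_one, TensorProduct.smul_tmul]
      simp only [RingHom.comp_apply]
      rw [h3]
      exact congrArg (fun φ => φ (algebraMap A B a)) hg'
    apply RingHom.ext
    intro z
    induction z using TensorProduct.induction_on with
    | zero => rw [map_zero, map_zero]
    | add x y hx hy => rw [map_add, map_add, hx, hy]
    | tmul x b =>
      have h4 : x ⊗ₜ[A] b = algebraMap Ah (Ah ⊗[A] B) x * algebraMap B (Ah ⊗[A] B) b := by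
        rw [Algebra.TensorProduct.algebraMap_apply, Algebra.TensorProduct.right_algebraMap_apply,
          Algebra.algebraMap_self, RingHom.id_apply, Algebra.TensorProduct.tmul_mul_tmul, mul_one,
          one_mul]
      have h5 : g' (algebraMap Ah (Ah ⊗[A] B) x) = g₀ x := congrArg (fun φ => φ x) h2
      have h6 : g' (algebraMap B (Ah ⊗[A] B) b) = f b := congrArg (fun φ => φ b) hg'
      change g' (x ⊗ₜ[A] b) = g (x ⊗ₜ[A] b)
      rw [Algebra.TensorProduct.lift_tmul, hg₀', hf']
      rw [h4, map_mul, h5, h6]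

/-- the comparison map is bijective -/
theorem bijective_productMap {Bh : Type u} [CommRing Bh] [Algebra B Bh] [Algebra A Bh]
    [IsScalarTower A B Bh] (hIJ : I.map (algebraMap A B) ≤ J)
    (hrad : J.radical = (I.map (algebraMap A B)).radical)
    [Algebra.IsIntegral A B] (hA : Hens2.IsPairHenselization A I Ah)
    (hB : Hens2.IsPairHenselization B J Bh) (φ : Ah →ₐ[A] Bh) :
    Function.Bijective (Algebra.TensorProduct.productMap φ (IsScalarTower.toAlgHom A B Bh)) := by
  have hT := isPairHenselization_tensor I J hIJ hrad hA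
  obtain ⟨e⟩ := HensCRT.nonempty_algEquiv_of_isPairHenselization J (Ah ⊗[A] B) Bh hT hB
  obtain ⟨u, -, hu⟩ := hT.2 Bh _ (algebraMap B Bh) hB.1 le_rfl
  have h1 : (e : Ah ⊗[A] B →+* Bh) = u := by
    apply hu
    ext b
    exact e.commutes b
  have h2 : ((Algebra.TensorProduct.productMap φ (IsScalarTower.toAlgHom A B Bh)) :
      Ah ⊗[A] B →+* Bh) = u := by
    apply hu
    ext b
    simp only [RingHom.comp_apply, Algebra.TensorProduct.right_algebraMap_apply]
    change Algebra.TensorProduct.productMap φ (IsScalarTower.toAlgHom A B Bh) (1 ⊗ₜ b) = _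
    rw [Algebra.TensorProduct.productMap_apply_tmul, map_one, one_mul]
    rfl
  have h3 : ⇑(Algebra.TensorProduct.productMap φ (IsScalarTower.toAlgHom A B Bh)) = ⇑e := by
    funext z
    have := congrArg (fun ψ : Ah ⊗[A] B →+* Bh => ψ z) (h2.trans h1.symm)
    exact this
  rw [h3]
  exact e.bijective

end Groth.Agent.Lib.Helper12.HensIntBC
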