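import Mathlib
import Groth.Prelude.Def_Hensel
import Groth.Agent.Lib.Helper4.HznProps
import Groth.Agent.Lib.Helper4.HzsProps
import Groth.Agent.Lib.Helper14.ReducedEtale

/-!
# The nilradical of a (strict) henselization
-/

set_option autoImplicit false
universe u

namespace Groth.Agent.Lib.Helper12.HensNil

open IsLocalRing TensorProduct

section Etale

variable (R E : Type u) [CommRing R] [CommRing E] [Algebra R E] [Algebra.Etale R E]

theorem nilradical_le_map_of_etale :
    nilradical E ≤ (nilradical R).map (algebraMap R E) := by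
  intro x hx
  haveI : IsReduced (R ⧸ nilradical R) :=
    (Ideal.isRadical_iff_quotient_reduced _).1 (Ideal.radical_isRadical _)
  have hred : IsReduced ((R ⧸ nilradical R) ⊗[R] E) :=
    Groth.Agent.Lib.Helper14.isReduced_of_etale (R ⧸ nilradical R) _
  let e := Algebra.TensorProduct.quotIdealMapEquivQuotTensor E (nilradical R)
  have h1 : IsNilpotent (e (Ideal.Quotient.mk _ x)) :=
    (IsNilpotent.map (mem_nilradical.1 hx) (Ideal.Quotient.mk _)).map e
  have h2 : e (Ideal.Quotient.mk _ x) = 0 := h1.eq_zero
  have h3 : Ideal.Quotient.mk ((nilradical R).map (algebraMap R E)) x = 0 := by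
    apply e.injective
    rw [h2, map_zero]
  exact Ideal.Quotient.eq_zero_iff_mem.1 h3

theorem nilradical_le_map_of_etale_localization (p : Ideal E) [p.IsPrime] :
    nilradical (Localization.AtPrime p) ≤
      (nilradical R).map (algebraMap R (Localization.AtPrime p)) := by
  intro x hx
  obtain ⟨c, s, rfl⟩ := IsLocalization.exists_mk'_eq p.primeCompl x
  obtain ⟨n, hn⟩ := mem_nilradical.1 hx
  rw [← IsLocalization.mk'_pow, IsLocalization.mk'_eq_zero_iff] at hn
  obtain ⟨t, ht⟩ := hn
  have h1 : (t : E) * c ∈ nilradical E := by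
    refine mem_nilradical.2 ⟨n + 1, ?_⟩
    rw [mul_pow, pow_succ' c, pow_succ (t : E)]
    calc (t : E) ^ n * t * (c * c ^ n) = (t : E) ^ n * c * ((t : E) * c ^ n) := by ring
      _ = 0 := by rw [ht, mul_zero]
  have h2 := nilradical_le_map_of_etale R E h1
  have h3 : IsLocalization.mk' (Localization.AtPrime p) c s =
      IsLocalization.mk' (Localization.AtPrime p) 1 (t * s) *
        algebraMap E (Localization.AtPrime p) ((t : E) * c) := by
    rw [mul_comm, ← IsLocalization.mk'_eq_mul_mk'_one, IsLocalization.mk'_eq_iff_eq]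
    simp only [Submonoid.coe_mul]
    ring_nf
  rw [h3]
  apply Ideal.mul_mem_left
  have : (nilradical R).map (algebraMap R (Localization.AtPrime p)) =
      ((nilradical R).map (algebraMap R E)).map (algebraMap E (Localization.AtPrime p)) := by
    rw [Ideal.map_map, ← IsScalarTower.algebraMap_eq]
  rw [this]
  exact Ideal.mem_map_of_mem _ h2

end Etale

section Lim

variable {R : Type*} [CommRing R] {ι : Type*} [Preorder ι] [IsDirectedOrder ι] [Nonempty ι]
  {G : ι → Type*} [∀ i, CommRing (G i)] [∀ i, Algebra R (G i)]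
  (f : ∀ i j, i ≤ j → G i →ₐ[R] G j) [DirectedSystem G (f · · ·)]

open Groth.Agent.Lib.Helper4.Hzn in
theorem nilradical_directLimit_le (N : Ideal R)
    (h : ∀ i, nilradical (G i) ≤ N.map (algebraMap R (G i))) :
    nilradical (DirectLimit G f) ≤ N.map (algebraMap R (DirectLimit G f)) := by
  intro x hx
  obtain ⟨i, a, rfl⟩ := DirectLimit.exists_eq_mk f x
  obtain ⟨n, hn⟩ := mem_nilradical.1 hx
  have h1 : DirectLimit.Algebra.of G f i (a ^ n) = 0 := by
    rw [map_pow]; exact hn
  rw [of_apply, mk_eq_zero_iff] at h1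
  obtain ⟨k, hik, hk⟩ := h1
  have h2 : f i k hik a ∈ nilradical (G k) := mem_nilradical.2 ⟨n, by rw [← map_pow]; exact hk⟩
  have h3 := h k h2
  have h4 : (⟦⟨i, a⟩⟧ : DirectLimit G f) = DirectLimit.Algebra.of G f k (f i k hik a) := by
    rw [of_f']; rfl
  rw [h4]
  have h5 : N.map (algebraMap R (DirectLimit G f)) =
      (N.map (algebraMap R (G k))).map (DirectLimit.Algebra.of G f k : G k →+* _) := by
    rw [Ideal.map_map]
    congr 1
    ext r
    exact ((DirectLimit.Algebra.of G f k).commutes r).symm
  rw [h5]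
  exact Ideal.mem_map_of_mem _ h3

end Lim

section Main

variable (R : Type u) [CommRing R] [IsLocalRing R]

theorem nilradical_Hz_le :
    nilradical (Groth.Agent.Lib.Helper4.Hzn.Hz R) ≤
      (nilradical R).map (algebraMap R (Groth.Agent.Lib.Helper4.Hzn.Hz R)) :=
  nilradical_directLimit_le _ _ fun i =>
    nilradical_le_map_of_etale_localization R i.C (Groth.Agent.Lib.Helper4.Hzn.cker i.χ)

theorem nilradical_Hs_le :
    nilradical (Groth.Agent.Lib.Helper4.Hzs.Hs R) ≤
      (nilradical R).map (algebraMap R (Groth.Agent.Lib.Helper4.Hzs.Hs R)) :=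
  nilradical_directLimit_le _ _ fun i =>
    nilradical_le_map_of_etale_localization R i.C (Groth.Agent.Lib.Helper4.Hzs.cker i.χ)

omit [IsLocalRing R] in
theorem map_nilradical_le {S : Type*} [CommRing S] [Algebra R S] :
    (nilradical R).map (algebraMap R S) ≤ nilradical S := by
  rw [Ideal.map_le_iff_le_comap]
  intro r hr
  exact mem_nilradical.2 (IsNilpotent.map (mem_nilradical.1 hr) (algebraMap R S))

omit [IsLocalRing R] in
theorem nilradical_le_of_algEquiv {S T : Type u} [CommRing S] [CommRing T] [Algebra R S]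
    [Algebra R T] (e : S ≃ₐ[R] T)
    (h : nilradical T ≤ (nilradical R).map (algebraMap R T)) :
    nilradical S ≤ (nilradical R).map (algebraMap R S) := by
  intro x hx
  have h1 : e x ∈ nilradical T := mem_nilradical.2 (IsNilpotent.map (mem_nilradical.1 hx) e)
  have h2 := h h1
  have h3 : (nilradical R).map (algebraMap R S) =
      ((nilradical R).map (algebraMap R T)).map (e.symm : T →+* S) := by
    rw [Ideal.map_map]
    congr 1
    ext r
    exact (e.symm.commutes r).symm
  rw [h3]
  have := Ideal.mem_map_of_mem (e.symm : T →+* S) h2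
  simpa using this

variable (S : Type u) [CommRing S] [IsLocalRing S] [Algebra R S] [IsLocalHom (algebraMap R S)]

theorem map_nilradical_eq (h : Hensel.IsHenselization R S ∨ Hensel.IsStrictHenselization R S) :
    (nilradical R).map (algebraMap R S) = nilradical S := by
  apply le_antisymm (map_nilradical_le R)
  rcases h with h | h
  · haveI := h
    obtain ⟨e⟩ := Groth.Agent.Lib.Helper4.Hzn.nonempty_algEquiv R S
      (Groth.Agent.Lib.Helper4.Hzn.Hz R)
    exact nilradical_le_of_algEquiv R e (nilradical_Hz_le R)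
  · haveI := h
    obtain ⟨e⟩ := Groth.Agent.Lib.Helper4.Hzs.nonempty_algEquiv_strict R S
      (Groth.Agent.Lib.Helper4.Hzs.Hs R)
    exact nilradical_le_of_algEquiv R e (nilradical_Hs_le R)

end Main

end Groth.Agent.Lib.Helper12.HensNil
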