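import Mathlib
import Groth.Prelude.Def_Hens2
import Groth.Agent.Lib.Helper12.HensRad
import Groth.Agent.Lib.Helper12.HensInt
import Groth.Agent.Lib.Helper4.HznProps
import Groth.Agent.Lib.Helper4.HenselPairS
import Groth.Agent.Lib.Helper4.HenselPairU

/-!
# The henselization of a local ring is the henselization of the pair `(A, 𝔪)`
-/

set_option autoImplicit false
universe u

namespace Groth.Agent.Lib.Helper12.HensPairLoc

open IsLocalRing Groth.Agent.Lib.Helper4.Hzn Groth.Agent.Lib.Helper4.HenselPair

section Maps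

variable {A : Type u} [CommRing A] [IsLocalRing A] {C : Type u} [CommRing C] [Algebra A C]
  (J : Ideal C)

/-- The map from the residue field to `C ⧸ J`. -/
noncomputable def rho (hJ : (maximalIdeal A).map (algebraMap A C) ≤ J) :
    ResidueField A →ₐ[A] C ⧸ J :=
  (Ideal.Quotient.liftₐ (maximalIdeal A) ((Ideal.Quotient.mkₐ A J).comp (Algebra.ofId A C))
    (fun a ha => by
      show Ideal.Quotient.mk J (algebraMap A C a) = 0
      rw [Ideal.Quotient.eq_zero_iff_mem]
      exact hJ (Ideal.mem_map_of_mem _ ha)) : A ⧸ maximalIdeal A →ₐ[A] C ⧸ J)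

theorem algHom_map_mem {D : Type u} [CommRing D] [Algebra A D] (ψ : D →ₐ[A] C) {x : D}
    (hx : x ∈ (maximalIdeal A).map (algebraMap A D)) :
    ψ x ∈ (maximalIdeal A).map (algebraMap A C) := by
  have hle : (maximalIdeal A).map (algebraMap A D) ≤
      ((maximalIdeal A).map (algebraMap A C)).comap (ψ : D →+* C) := by
    rw [Ideal.map_le_iff_le_comap]
    intro a ha
    rw [Ideal.mem_comap, Ideal.mem_comap]
    show ψ (algebraMap A D a) ∈ _
    rw [ψ.commutes]
    exact Ideal.mem_map_of_mem _ ha
  exact hle hx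

variable [HenselianRing C J] (hJ : (maximalIdeal A).map (algebraMap A C) ≤ J)
  {E : Type u} [CommRing E] [Algebra A E] [Algebra.Etale A E] (χ : E →ₐ[A] ResidueField A)

include hJ in
theorem exists_algHom_loc : Nonempty (Loc χ →ₐ[A] C) := by
  obtain ⟨τ, hτ⟩ := exists_lift_of_etale_algebra J ((rho J hJ).comp χ)
  have hu : ∀ y : (cker χ).primeCompl, IsUnit (τ (y : E)) := by
    intro y
    apply HensRad.isUnit_of_isUnit_mk (HenselianRing.jac (I := J))
    have h1 : Ideal.Quotient.mk J (τ (y : E)) = rho J hJ (χ (y : E)) :=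
      congrArg (fun g => g (y : E)) hτ
    rw [h1]
    exact (isUnit_char χ y).map _
  exact ⟨IsLocalization.liftAlgHom (M := (cker χ).primeCompl) (f := τ) hu⟩

include hJ in
theorem algHom_loc_subsingleton : Subsingleton (Loc χ →ₐ[A] C) := by
  constructor
  intro ψ₁ ψ₂
  have key : ψ₁.comp (IsScalarTower.toAlgHom A E (Loc χ)) =
      ψ₂.comp (IsScalarTower.toAlgHom A E (Loc χ)) := by
    refine algHom_ext_of_unramified J (HenselianRing.jac (I := J)) _ _ fun e => ?_
    obtain ⟨a, ha⟩ := exists_sub_mem_maximalIdeal χ (algebraMap E (Loc χ) e)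
    rw [← map_maximalIdeal_loc χ] at ha
    have h1 := hJ (algHom_map_mem ψ₁ ha)
    have h2 := hJ (algHom_map_mem ψ₂ ha)
    have : (ψ₁.comp (IsScalarTower.toAlgHom A E (Loc χ))) e -
        (ψ₂.comp (IsScalarTower.toAlgHom A E (Loc χ))) e =
        ψ₁ (algebraMap E (Loc χ) e - algebraMap A (Loc χ) a) -
        ψ₂ (algebraMap E (Loc χ) e - algebraMap A (Loc χ) a) := by
      rw [map_sub, map_sub, ψ₁.commutes, ψ₂.commutes]
      simp
    rw [this]
    exact Ideal.sub_mem _ h1 h2
  apply AlgHom.coe_ringHom_injective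
  refine IsLocalization.ringHom_ext (cker χ).primeCompl ?_
  ext e
  exact congrArg (fun g => g e) key

include hJ in
theorem hz_algHom : Nonempty (Hz A →ₐ[A] C) ∧ Subsingleton (Hz A →ₐ[A] C) := by
  refine algHom_directLimit (fun i j h => tr i j h) C (fun i => ?_) (fun i => ?_)
  · obtain ⟨τ⟩ := exists_algHom_loc J hJ i.χ
    exact ⟨τ.comp i.toLoc.toAlgHom⟩
  · have := algHom_loc_subsingleton J hJ i.χ
    constructor
    intro a b
    have h := Subsingleton.elim (a.comp i.toLoc.symm.toAlgHom) (b.comp i.toLoc.symm.toAlgHom)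
    ext x
    have := congrArg (fun g => g (i.toLoc x)) h
    simpa using this

end Maps

section SubAlg

variable (A : Type u) [CommRing A] [IsLocalRing A] (B : Type u) [CommRing B] [Algebra A B]

/-- The subalgebra `A + 𝔪B` of `B`. -/
def subAlg : Subalgebra A B where
  carrier := {b | ∃ a : A, b - algebraMap A B a ∈ (maximalIdeal A).map (algebraMap A B)}
  mul_mem' := by
    rintro b b' ⟨a, ha⟩ ⟨a', ha'⟩
    refine ⟨a * a', ?_⟩
    have : b * b' - algebraMap A B (a * a') =
        b * (b' - algebraMap A B a') + algebraMap A B a' * (b - algebraMap A B a) := by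
      rw [map_mul]; ring
    rw [this]
    exact Ideal.add_mem _ (Ideal.mul_mem_left _ _ ha') (Ideal.mul_mem_left _ _ ha)
  add_mem' := by
    rintro b b' ⟨a, ha⟩ ⟨a', ha'⟩
    refine ⟨a + a', ?_⟩
    have : b + b' - algebraMap A B (a + a') =
        (b - algebraMap A B a) + (b' - algebraMap A B a') := by
      rw [map_add]; ring
    rw [this]
    exact Ideal.add_mem _ ha ha'
  algebraMap_mem' a := ⟨a, by simp⟩

theorem mem_subAlg {b : B} : b ∈ subAlg A B ↔
    ∃ a : A, b - algebraMap A B a ∈ (maximalIdeal A).map (algebraMap A B) := Iff.rfl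

theorem mem_subAlg_of_sub_mem {b b' : B} (hb' : b' ∈ subAlg A B)
    (h : b - b' ∈ (maximalIdeal A).map (algebraMap A B)) : b ∈ subAlg A B := by
  obtain ⟨a, ha⟩ := hb'
  refine ⟨a, ?_⟩
  have : b - algebraMap A B a = (b - b') + (b' - algebraMap A B a) := by ring
  rw [this]
  exact Ideal.add_mem _ h ha

/-- The ideal `𝔪B` of `A + 𝔪B`. -/
def subIdeal : Ideal (subAlg A B) :=
  ((maximalIdeal A).map (algebraMap A B)).comap (subAlg A B).val

theorem mem_subIdeal {x : subAlg A B} :
    x ∈ subIdeal A B ↔ (x : B) ∈ (maximalIdeal A).map (algebraMap A B) := Iff.rfl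

theorem subIdeal_le_jacobson (hjac : (maximalIdeal A).map (algebraMap A B) ≤ Ideal.jacobson ⊥) :
    subIdeal A B ≤ Ideal.jacobson ⊥ := by
  intro x hx
  rw [Ideal.mem_jacobson_bot]
  intro y
  have hxy : (x : B) * (y : B) ∈ (maximalIdeal A).map (algebraMap A B) :=
    Ideal.mul_mem_right _ _ ((mem_subIdeal A B).1 hx)
  have hu : IsUnit ((x : B) * (y : B) + 1) := by
    have := Ideal.mem_jacobson_bot.1 (hjac hxy) 1
    simpa using this
  obtain ⟨w, hw⟩ := hu.exists_right_inv
  have hwm : w ∈ subAlg A B := by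
    refine ⟨1, ?_⟩
    have : w - algebraMap A B 1 = -((x : B) * (y : B) * w) := by
      rw [map_one]; linear_combination hw
    rw [this]
    exact neg_mem (Ideal.mul_mem_right _ _ hxy)
  refine IsUnit.of_mul_eq_one ⟨w, hwm⟩ ?_
  apply Subtype.ext
  exact hw

theorem henselianRing_subAlg [h : HenselianRing B ((maximalIdeal A).map (algebraMap A B))] :
    HenselianRing (subAlg A B) (subIdeal A B) where
  jac := subIdeal_le_jacobson A B h.jac
  is_henselian f hf a₀ h₁ h₂ := by
    have hu : IsUnit (f.derivative.eval a₀) :=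
      HensRad.isUnit_of_isUnit_mk (subIdeal_le_jacobson A B h.jac) h₂
    let ι : subAlg A B →+* B := (subAlg A B).val
    have e1 : (f.map ι).eval (ι a₀) = ι (f.eval a₀) := by
      rw [Polynomial.eval_map, Polynomial.eval₂_hom]
    have e2 : (f.map ι).derivative.eval (ι a₀) = ι (f.derivative.eval a₀) := by
      rw [Polynomial.derivative_map, Polynomial.eval_map, Polynomial.eval₂_hom]
    obtain ⟨a, ha, haI⟩ := h.is_henselian (f.map ι) (hf.map ι) (ι a₀)
      (by rw [e1]; exact h₁) (by rw [e2]; exact (hu.map ι).map _)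
    have ham : a ∈ subAlg A B := mem_subAlg_of_sub_mem A B a₀.2 haI
    refine ⟨⟨a, ham⟩, ?_, haI⟩
    have hinj : Function.Injective ι := Subtype.val_injective
    apply hinj
    rw [map_zero]
    have : ι (f.eval ⟨a, ham⟩) = (f.map ι).eval a := by
      show ι (f.eval ⟨a, ham⟩) = (f.map ι).eval (ι ⟨a, ham⟩)
      rw [Polynomial.eval_map, Polynomial.eval₂_hom]
    rw [this]
    exact ha

end SubAlg

section Main

variable (A : Type u) [CommRing A] [IsLocalRing A] (B : Type u) [CommRing B] [IsLocalRing B]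
  [Algebra A B] [IsLocalHom (algebraMap A B)]

theorem map_maximalIdeal_le : (maximalIdeal A).map (algebraMap A B) ≤ maximalIdeal B :=
  ((local_hom_TFAE (algebraMap A B)).out 0 2 rfl rfl).mp inferInstance

theorem isPairHenselization_of_isHenselization [h : Hensel.IsHenselization A B] :
    Hens2.IsPairHenselization A (maximalIdeal A) B := by
  have hB : HenselianLocalRing B := h.henselian
  refine ⟨?_, ?_⟩
  · exact HensRad.henselianRing_of_le (maximalIdeal B) _ (map_maximalIdeal_le A B)
  · intro C _ J f hC hJ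
    letI : Algebra A C := f.toAlgebra
    have hJ' : (maximalIdeal A).map (algebraMap A C) ≤ J := hJ
    obtain ⟨⟨ψ⟩, hss⟩ := hz_algHom J hJ'
    obtain ⟨e⟩ := nonempty_algEquiv A B (Hz A)
    refine ⟨((ψ.comp e.toAlgHom : B →ₐ[A] C) : B →+* C), ?_, ?_⟩
    · ext a
      exact (ψ.comp e.toAlgHom).commutes a
    · intro g₂ hg₂
      let φ' : B →ₐ[A] C :=
        { g₂ with commutes' := fun a => congrArg (fun g => g a) hg₂ }
      have h3 : φ'.comp e.symm.toAlgHom = ψ := hss.elim _ _
      ext x
      have := congrArg (fun g => g (e x)) h3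
      simpa [φ'] using this

variable {A B}

omit [IsLocalRing B] [IsLocalHom (algebraMap A B)] in
theorem exists_sub_mem_of_isPairHenselization
    (h : Hens2.IsPairHenselization A (maximalIdeal A) B) (b : B) :
    ∃ a : A, b - algebraMap A B a ∈ (maximalIdeal A).map (algebraMap A B) := by
  obtain ⟨h1, h2⟩ := h
  haveI := h1
  have hS := henselianRing_subAlg A B
  have hle : (maximalIdeal A).map (algebraMap A (subAlg A B)) ≤ subIdeal A B := by
    rw [Ideal.map_le_iff_le_comap]
    intro a ha
    exact Ideal.mem_map_of_mem (algebraMap A B) ha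
  obtain ⟨g, hg, -⟩ := h2 (subAlg A B) (subIdeal A B) (algebraMap A (subAlg A B)) hS hle
  obtain ⟨g₀, -, hg₀⟩ := h2 B _ (algebraMap A B) h1 le_rfl
  have hid : ((subAlg A B).val : subAlg A B →+* B).comp g = RingHom.id B := by
    rw [hg₀ (RingHom.id B) (RingHom.id_comp _)]
    apply hg₀
    rw [RingHom.comp_assoc, hg]
    rfl
  have : b = ((g b : subAlg A B) : B) := (congrArg (fun k : B →+* B => k b) hid).symm
  rw [this]
  exact (g b).2

theorem map_maximalIdeal_of_isPairHenselization
    (h : Hens2.IsPairHenselization A (maximalIdeal A) B) :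
    (maximalIdeal A).map (algebraMap A B) = maximalIdeal B := by
  apply le_antisymm (map_maximalIdeal_le A B)
  intro b hb
  obtain ⟨a, ha⟩ := exists_sub_mem_of_isPairHenselization h b
  have h1 : algebraMap A B a ∈ maximalIdeal B := by
    have := Ideal.sub_mem _ hb (map_maximalIdeal_le A B ha)
    simpa using this
  have h2 : a ∈ maximalIdeal A := by
    rw [mem_maximalIdeal, mem_nonunits_iff]
    intro hu
    exact (mem_maximalIdeal _).1 h1 (hu.map _)
  have : b = (b - algebraMap A B a) + algebraMap A B a := by ring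
  rw [this]
  exact Ideal.add_mem _ ha (Ideal.mem_map_of_mem _ h2)

theorem isHenselization_of_isPairHenselization
    (h : Hens2.IsPairHenselization A (maximalIdeal A) B) : Hensel.IsHenselization A B := by
  have hmax := map_maximalIdeal_of_isPairHenselization h
  obtain ⟨h1, h2⟩ := h
  rw [hmax] at h1
  haveI := h1
  refine ⟨HensInt.henselianLocalRing_of_henselianRing_maximalIdeal B, ?_⟩
  intro T _ _ f hf
  haveI := hf
  exact h2 T (maximalIdeal T) f inferInstance
    (((local_hom_TFAE f).out 0 2 rfl rfl).mp inferInstance)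

end Main

end Groth.Agent.Lib.Helper12.HensPairLoc
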