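import Mathlib
import Groth.Prelude.Def_Hensel

/-!
# Square-zero extensions of henselian local rings, and formal étaleness of henselizations
-/

set_option autoImplicit false
universe u

namespace Groth.Agent.Lib.Helper12.HensSq

open Polynomial IsLocalRing Function

section SqZero

variable {T S : Type*} [CommRing T] [CommRing S]

theorem isLocalHom_of_sqZero (π : T →+* S) (hπ : Surjective π)
    (hker : ∀ x y : T, π x = 0 → π y = 0 → x * y = 0) : IsLocalHom π := by
  constructor
  intro a ha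
  obtain ⟨b', hb'⟩ := ha.exists_right_inv
  obtain ⟨b, rfl⟩ := hπ b'
  have h0 : π (a * b - 1) = 0 := by rw [map_sub, map_mul, hb', map_one, sub_self]
  have h1 := hker _ _ h0 h0
  refine IsUnit.of_mul_eq_one (b * (2 - a * b)) ?_
  linear_combination -h1

theorem henselianLocalRing_of_sqZero [HenselianLocalRing S] (π : T →+* S) (hπ : Surjective π)
    (hker : ∀ x y : T, π x = 0 → π y = 0 → x * y = 0) : HenselianLocalRing T := by
  have hloc : IsLocalHom π := isLocalHom_of_sqZero π hπ hker
  have : IsLocalRing T := π.domain_isLocalRing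
  have hmax : ∀ x : T, x ∈ maximalIdeal T ↔ π x ∈ maximalIdeal S := by
    intro x
    rw [mem_maximalIdeal, mem_maximalIdeal, mem_nonunits_iff, mem_nonunits_iff]
    exact ⟨fun h h' => h (isUnit_of_map_unit π x h'), fun h h' => h (h'.map π)⟩
  refine { is_henselian := fun f hf a₀ h₁ h₂ => ?_ }
  have e1 : (f.map π).eval (π a₀) = π (f.eval a₀) := by rw [eval_map, eval₂_hom]
  have e2 : (f.map π).derivative.eval (π a₀) = π (f.derivative.eval a₀) := by
    rw [derivative_map, eval_map, eval₂_hom]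
  obtain ⟨b, hb, hb'⟩ := HenselianLocalRing.is_henselian (f.map π) (hf.map π) (π a₀)
    (by rw [e1]; exact (hmax _).1 h₁) (by rw [e2]; exact h₂.map π)
  obtain ⟨c, hc⟩ := hπ (b - π a₀)
  have hcm : c ∈ maximalIdeal T := (hmax c).2 (hc ▸ hb')
  set a₁ := a₀ + c with ha₁
  have hπa₁ : π a₁ = b := by rw [ha₁, map_add, hc]; ring
  have hn : π (f.eval a₁) = 0 := by
    have : (f.map π).eval (π a₁) = π (f.eval a₁) := by rw [eval_map, eval₂_hom]
    rw [← this, hπa₁]; exact hb
  have hu : IsUnit (f.derivative.eval a₁) := by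
    by_contra hnu
    have h3 : f.derivative.eval a₁ ∈ maximalIdeal T := (mem_maximalIdeal _).2 hnu
    have h4 : f.derivative.eval a₁ - f.derivative.eval a₀ ∈ maximalIdeal T := by
      obtain ⟨d, hd⟩ := Polynomial.sub_dvd_eval_sub a₁ a₀ f.derivative
      rw [hd]
      have : a₁ - a₀ = c := by rw [ha₁]; ring
      rw [this]
      exact Ideal.mul_mem_right _ _ hcm
    have h5 : f.derivative.eval a₀ ∈ maximalIdeal T := by
      have := Ideal.sub_mem _ h3 h4
      simpa using this
    exact (mem_maximalIdeal _).1 h5 h₂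
  obtain ⟨v, hv⟩ := hu.exists_right_inv
  set n := f.eval a₁ with hn'
  obtain ⟨k, hk⟩ := f.binomExpansion a₁ (-(n * v))
  have hnn : n * n = 0 := hker n n hn hn
  refine ⟨a₁ + -(n * v), ?_, ?_⟩
  · rw [IsRoot.def, hk]
    linear_combination (-n) * hv + (k * v ^ 2) * hnn
  · have hnm : n ∈ maximalIdeal T := (hmax n).2 (by rw [hn]; exact zero_mem _)
    have : a₁ + -(n * v) - a₀ = c - n * v := by rw [ha₁]; ring
    rw [this]
    exact Ideal.sub_mem _ hcm (Ideal.mul_mem_right _ _ hnm)

end SqZero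

section Pullback

variable {R : Type u} {S B : Type u} [CommRing R] [CommRing S] [Algebra R S] [CommRing B] [Algebra R B]
  (I : Ideal B) (φ : S →ₐ[R] B ⧸ I)

/-- The pullback `S ×_{B/I} B`. -/
abbrev PB : Subalgebra R (S × B) := AlgHom.pullback φ (Ideal.Quotient.mkₐ R I)

theorem pb_fst_surjective : Surjective (AlgHom.pullbackFst φ (Ideal.Quotient.mkₐ R I)) :=
  AlgHom.surjective_pullbackFst_of_surjective _ _ (Ideal.Quotient.mkₐ_surjective R I)

theorem pb_mem (x : PB I φ) : φ x.1.1 = Ideal.Quotient.mk I x.1.2 := x.2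

theorem pb_sqZero (hI : I ^ 2 = ⊥) (x y : PB I φ)
    (hx : (AlgHom.pullbackFst φ (Ideal.Quotient.mkₐ R I) : PB I φ →+* S) x = 0)
    (hy : (AlgHom.pullbackFst φ (Ideal.Quotient.mkₐ R I) : PB I φ →+* S) y = 0) : x * y = 0 := by
  have hx1 : x.1.1 = 0 := hx
  have hy1 : y.1.1 = 0 := hy
  have hx2 : x.1.2 ∈ I := by
    rw [← Ideal.Quotient.eq_zero_iff_mem, ← pb_mem I φ x, hx1, map_zero]
  have hy2 : y.1.2 ∈ I := by
    rw [← Ideal.Quotient.eq_zero_iff_mem, ← pb_mem I φ y, hy1, map_zero]
  have h2 : x.1.2 * y.1.2 = 0 := by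
    have : x.1.2 * y.1.2 ∈ I ^ 2 := by rw [pow_two]; exact Ideal.mul_mem_mul hx2 hy2
    rw [hI] at this
    exact this
  apply Subtype.ext
  apply Prod.ext
  · show x.1.1 * y.1.1 = 0
    rw [hx1, zero_mul]
  · exact h2

/-- The map `S → S ×_{B/I} B` attached to a lift `ψ` of `φ`. -/
def toPB (ψ : S →ₐ[R] B) (hψ : (Ideal.Quotient.mkₐ R I).comp ψ = φ) : S →ₐ[R] PB I φ :=
  AlgHom.codRestrict (AlgHom.prod (AlgHom.id R S) ψ) (PB I φ) (fun s => by
    show φ s = Ideal.Quotient.mkₐ R I (ψ s)
    rw [← hψ]; rfl)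

theorem toPB_snd (ψ : S →ₐ[R] B) (hψ : (Ideal.Quotient.mkₐ R I).comp ψ = φ) (s : S) :
    ((toPB I φ ψ hψ s : PB I φ) : S × B).2 = ψ s := rfl

end Pullback

section Hzn

variable (R S : Type u) [CommRing R] [IsLocalRing R] [CommRing S] [IsLocalRing S] [Algebra R S]
  [IsLocalHom (algebraMap R S)]

theorem formallyEtale_of_isHenselization [Hensel.IsHenselization R S] :
    Algebra.FormallyEtale R S := by
  rw [Algebra.FormallyEtale.iff_comp_bijective]
  intro B _ _ I hI
  have hS : HenselianLocalRing S := Hensel.IsHenselization.henselian (R := R) (S := S)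
  have key : ∀ φ : S →ₐ[R] B ⧸ I, ∃ (_ : HenselianLocalRing (PB I φ)),
      IsLocalHom (algebraMap R (PB I φ)) := by
    intro φ
    have hT : HenselianLocalRing (PB I φ) :=
      henselianLocalRing_of_sqZero
        (AlgHom.pullbackFst φ (Ideal.Quotient.mkₐ R I) : PB I φ →+* S)
        (pb_fst_surjective I φ) (pb_sqZero I φ hI)
    refine ⟨hT, ?_⟩
    have hcomp : ((AlgHom.pullbackFst φ (Ideal.Quotient.mkₐ R I) : PB I φ →+* S)).comp
        (algebraMap R (PB I φ)) = algebraMap R S :=
      (AlgHom.pullbackFst φ (Ideal.Quotient.mkₐ R I)).comp_algebraMap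
    have : IsLocalHom (((AlgHom.pullbackFst φ (Ideal.Quotient.mkₐ R I) : PB I φ →+* S)).comp
        (algebraMap R (PB I φ))) := by rw [hcomp]; infer_instance
    exact isLocalHom_of_comp (algebraMap R (PB I φ))
      (AlgHom.pullbackFst φ (Ideal.Quotient.mkₐ R I) : PB I φ →+* S)
  constructor
  · intro ψ₁ ψ₂ h
    set φ : S →ₐ[R] B ⧸ I := (Ideal.Quotient.mkₐ R I).comp ψ₁ with hφ
    obtain ⟨hT, hloc⟩ := key φ
    obtain ⟨g, -, hg⟩ := Hensel.IsHenselization.universal (R := R) (S := S) (PB I φ)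
      (algebraMap R (PB I φ)) hloc
    have h1 := hg (toPB I φ ψ₁ rfl : S →+* PB I φ) (toPB I φ ψ₁ rfl).comp_algebraMap
    have h2 := hg (toPB I φ ψ₂ h.symm : S →+* PB I φ) (toPB I φ ψ₂ h.symm).comp_algebraMap
    refine AlgHom.ext fun s => ?_
    have := congrArg (fun k : S →+* PB I φ => ((k s : PB I φ) : S × B).2) (h1.trans h2.symm)
    exact this
  · intro φ
    obtain ⟨hT, hloc⟩ := key φ
    obtain ⟨g, hg, -⟩ := Hensel.IsHenselization.universal (R := R) (S := S) (PB I φ)
      (algebraMap R (PB I φ)) hloc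
    obtain ⟨g₀, -, hg₀⟩ := Hensel.IsHenselization.universal (R := R) (S := S) S
      (algebraMap R S) inferInstance
    have hid : ((AlgHom.pullbackFst φ (Ideal.Quotient.mkₐ R I) : PB I φ →+* S)).comp g =
        RingHom.id S := by
      rw [hg₀ (RingHom.id S) (RingHom.id_comp _)]
      apply hg₀
      rw [RingHom.comp_assoc, hg]
      exact (AlgHom.pullbackFst φ (Ideal.Quotient.mkₐ R I)).comp_algebraMap
    let ψ : S →ₐ[R] B :=
      { ((AlgHom.pullbackSnd φ (Ideal.Quotient.mkₐ R I) : PB I φ →+* B)).comp g with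
        commutes' := fun r => by
          have := congrArg (fun k : R →+* PB I φ => (AlgHom.pullbackSnd φ (Ideal.Quotient.mkₐ R I)) (k r)) hg
          simpa using this }
    refine ⟨ψ, AlgHom.ext fun s => ?_⟩
    have h3 : φ ((g s : PB I φ) : S × B).1 = Ideal.Quotient.mk I ((g s : PB I φ) : S × B).2 :=
      pb_mem I φ (g s)
    have h4 : ((g s : PB I φ) : S × B).1 = s := by
      have := congrArg (fun k : S →+* S => k s) hid
      exact this
    rw [h4] at h3
    exact h3.symm

theorem formallyEtale_of_isStrictHenselization [Hensel.IsStrictHenselization R S] :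
    Algebra.FormallyEtale R S := by
  rw [Algebra.FormallyEtale.iff_comp_bijective]
  intro B _ _ I hI
  have hS : HenselianLocalRing S := Hensel.IsStrictHenselization.henselian (R := R) (S := S)
  -- the data attached to a map `φ`
  have key : ∀ φ : S →ₐ[R] B ⧸ I, ∃ (_ : HenselianLocalRing (PB I φ))
      (_ : IsLocalHom (algebraMap R (PB I φ)))
      (_ : IsLocalHom (AlgHom.pullbackFst φ (Ideal.Quotient.mkₐ R I) : PB I φ →+* S))
      (τ : ResidueField S →+* ResidueField (PB I φ)),
      τ.comp (ResidueField.map (algebraMap R S)) = ResidueField.map (algebraMap R (PB I φ)) ∧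
      (∀ y, ResidueField.map (AlgHom.pullbackFst φ (Ideal.Quotient.mkₐ R I) : PB I φ →+* S)
        (τ y) = y) ∧
      Function.Injective
        (ResidueField.map (AlgHom.pullbackFst φ (Ideal.Quotient.mkₐ R I) : PB I φ →+* S)) := by
    intro φ
    have hT : HenselianLocalRing (PB I φ) :=
      henselianLocalRing_of_sqZero
        (AlgHom.pullbackFst φ (Ideal.Quotient.mkₐ R I) : PB I φ →+* S)
        (pb_fst_surjective I φ) (pb_sqZero I φ hI)
    have hπloc : IsLocalHom (AlgHom.pullbackFst φ (Ideal.Quotient.mkₐ R I) : PB I φ →+* S) :=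
      isLocalHom_of_sqZero _ (pb_fst_surjective I φ) (pb_sqZero I φ hI)
    have hcomp : ((AlgHom.pullbackFst φ (Ideal.Quotient.mkₐ R I) : PB I φ →+* S)).comp
        (algebraMap R (PB I φ)) = algebraMap R S :=
      (AlgHom.pullbackFst φ (Ideal.Quotient.mkₐ R I)).comp_algebraMap
    have hloc : IsLocalHom (algebraMap R (PB I φ)) := by
      have : IsLocalHom (((AlgHom.pullbackFst φ (Ideal.Quotient.mkₐ R I) : PB I φ →+* S)).comp
          (algebraMap R (PB I φ))) := by rw [hcomp]; infer_instance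
      exact isLocalHom_of_comp (algebraMap R (PB I φ))
        (AlgHom.pullbackFst φ (Ideal.Quotient.mkₐ R I) : PB I φ →+* S)
    refine ⟨hT, hloc, hπloc, ?_⟩
    have hinj : Function.Injective
        (ResidueField.map (AlgHom.pullbackFst φ (Ideal.Quotient.mkₐ R I) : PB I φ →+* S)) :=
      RingHom.injective _
    have hsurj : Function.Surjective
        (ResidueField.map (AlgHom.pullbackFst φ (Ideal.Quotient.mkₐ R I) : PB I φ →+* S)) := by
      intro y
      obtain ⟨s, rfl⟩ := residue_surjective y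
      obtain ⟨t, rfl⟩ := pb_fst_surjective I φ s
      exact ⟨residue _ t, rfl⟩
    let e := RingEquiv.ofBijective
      (ResidueField.map (AlgHom.pullbackFst φ (Ideal.Quotient.mkₐ R I) : PB I φ →+* S))
      ⟨hinj, hsurj⟩
    refine ⟨(e.symm : ResidueField S →+* ResidueField (PB I φ)), ?_, ?_, hinj⟩
    · refine RingHom.ext fun y => ?_
      apply hinj
      show e (e.symm _) = _
      rw [RingEquiv.apply_symm_apply]
      obtain ⟨r, rfl⟩ := residue_surjective y
      show residue S (algebraMap R S r) = residue S ((AlgHom.pullbackFst φ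
        (Ideal.Quotient.mkₐ R I) : PB I φ →+* S) (algebraMap R (PB I φ) r))
      rw [← RingHom.comp_apply (AlgHom.pullbackFst φ (Ideal.Quotient.mkₐ R I) : PB I φ →+* S),
        hcomp]
    · intro y
      exact e.apply_symm_apply y
  constructor
  · intro ψ₁ ψ₂ h
    set φ : S →ₐ[R] B ⧸ I := (Ideal.Quotient.mkₐ R I).comp ψ₁ with hφ
    obtain ⟨hT, hloc, hπloc, τ, hτ, hτ', hinj⟩ := key φ
    obtain ⟨g, -, hg⟩ := Hensel.IsStrictHenselization.universal (R := R) (S := S) (PB I φ)
      (algebraMap R (PB I φ)) τ hτ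
    have aux : ∀ (ψ : S →ₐ[R] B) (hψ : (Ideal.Quotient.mkₐ R I).comp ψ = φ),
        (toPB I φ ψ hψ : S →+* PB I φ) = g := by
      intro ψ hψ
      apply hg
      refine ⟨(toPB I φ ψ hψ).comp_algebraMap, fun x => ?_⟩
      apply hinj
      rw [hτ']
      rfl
    have h1 := aux ψ₁ rfl
    have h2 := aux ψ₂ h.symm
    refine AlgHom.ext fun s => ?_
    have := congrArg (fun k : S →+* PB I φ => ((k s : PB I φ) : S × B).2) (h1.trans h2.symm)
    exact this
  · intro φ
    obtain ⟨hT, hloc, hπloc, τ, hτ, hτ', hinj⟩ := key φ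
    obtain ⟨g, ⟨hg, hgτ⟩, -⟩ := Hensel.IsStrictHenselization.universal (R := R) (S := S) (PB I φ)
      (algebraMap R (PB I φ)) τ hτ
    obtain ⟨g₀, -, hg₀⟩ := Hensel.IsStrictHenselization.universal (R := R) (S := S) S
      (algebraMap R S) (RingHom.id _) (RingHom.id_comp _)
    have hid : ((AlgHom.pullbackFst φ (Ideal.Quotient.mkₐ R I) : PB I φ →+* S)).comp g =
        RingHom.id S := by
      rw [hg₀ (RingHom.id S) ⟨RingHom.id_comp _, fun x => rfl⟩]
      apply hg₀
      refine ⟨?_, fun x => ?_⟩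
      · rw [RingHom.comp_assoc, hg]
        exact (AlgHom.pullbackFst φ (Ideal.Quotient.mkₐ R I)).comp_algebraMap
      · have := hτ' (residue S x)
        rw [← hgτ x] at this
        exact this
    let ψ : S →ₐ[R] B :=
      { ((AlgHom.pullbackSnd φ (Ideal.Quotient.mkₐ R I) : PB I φ →+* B)).comp g with
        commutes' := fun r => by
          have := congrArg (fun k : R →+* PB I φ => (AlgHom.pullbackSnd φ (Ideal.Quotient.mkₐ R I)) (k r)) hg
          simpa using this }
    refine ⟨ψ, AlgHom.ext fun s => ?_⟩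
    have h3 : φ ((g s : PB I φ) : S × B).1 = Ideal.Quotient.mk I ((g s : PB I φ) : S × B).2 :=
      pb_mem I φ (g s)
    have h4 : ((g s : PB I φ) : S × B).1 = s := by
      have := congrArg (fun k : S →+* S => k s) hid
      exact this
    rw [h4] at h3
    exact h3.symm

end Hzn

end Groth.Agent.Lib.Helper12.HensSq
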