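import Mathlib
import Groth.Prelude.Def_Hens2
import Groth.Agent.Lib.Helper12.HzPairQuot

/-!
# Exactness can be tested on henselian stalks (helper12)
-/

set_option autoImplicit false
universe u

namespace Groth.Agent.Lib.Helper12.HensStalkExact

open TensorProduct

/-- if `1 ⊗ x = 0` in `H ⊗ N` for a flat algebra `H`, then the annihilator of `x` generates the
unit ideal of `H` -/
theorem one_mem_map_ker_of_tmul_eq_zero {A : Type*} [CommRing A] {H : Type*} [CommRing H]
    [Algebra A H] [Module.Flat A H] {N : Type*} [AddCommGroup N] [Module A N] (x : N)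
    (hx : (1 : H) ⊗ₜ[A] x = 0) :
    (1 : H) ∈ Ideal.map (algebraMap A H) (LinearMap.ker (LinearMap.toSpanSingleton A N x)) := by
  set 𝔞 : Ideal A := LinearMap.ker (LinearMap.toSpanSingleton A N x) with h𝔞
  let ι : A ⧸ 𝔞 →ₗ[A] N := Submodule.liftQ 𝔞 (LinearMap.toSpanSingleton A N x) le_rfl
  have hι : Function.Injective ι := by
    rw [← LinearMap.ker_eq_bot]
    exact Submodule.ker_liftQ_eq_bot _ _ _ le_rfl
  have h1 : Function.Injective (ι.lTensor H) :=
    Module.Flat.lTensor_preserves_injective_linearMap ι hι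
  have h2 : ι.lTensor H ((1 : H) ⊗ₜ (Ideal.Quotient.mk 𝔞 1)) = 0 := by
    rw [LinearMap.lTensor_tmul]
    have : ι (Ideal.Quotient.mk 𝔞 1) = x := by
      change (LinearMap.toSpanSingleton A N x) 1 = x
      simp
    rw [this, hx]
  have h3 : (1 : H) ⊗ₜ[A] (Ideal.Quotient.mk 𝔞 1) = 0 := h1 (by rw [h2, map_zero])
  have h4 := congrArg (tensorQuotEquivQuotSMul H 𝔞) h3
  rw [tensorQuotEquivQuotSMul_tmul_mk, map_zero, one_smul, Submodule.Quotient.mk_eq_zero,
    Ideal.smul_top_eq_map] at h4
  exact h4

theorem one_notMem_map_of_le {A : Type u} [CommRing A] (I : Ideal A) (m : Ideal A) [m.IsMaximal]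
    (hIm : I ≤ m) (H : Type u) [CommRing H] [Algebra (Localization.AtPrime m) H] [Algebra A H]
    [IsScalarTower A (Localization.AtPrime m) H]
    (hH : Hens2.IsPairHenselization (Localization.AtPrime m)
      (I.map (algebraMap A (Localization.AtPrime m))) H) (𝔞 : Ideal A) (h𝔞 : 𝔞 ≤ m) :
    (1 : H) ∉ 𝔞.map (algebraMap A H) := by
  intro h1
  have hres : ∀ 𝔟 : Ideal A, 𝔟 ≤ m → 𝔟.map ((IsLocalRing.residue (Localization.AtPrime m)).comp
      (algebraMap A (Localization.AtPrime m))) ≤ ⊥ := by
    intro 𝔟 h𝔟
    rw [Ideal.map_le_iff_le_comap]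
    intro a ha
    rw [Ideal.mem_comap, Ideal.mem_bot, RingHom.comp_apply, IsLocalRing.residue_eq_zero_iff,
      IsLocalization.AtPrime.to_map_mem_maximal_iff (Localization.AtPrime m) m]
    exact h𝔟 ha
  have h2 : (I.map (algebraMap A (Localization.AtPrime m))).map
      (IsLocalRing.residue (Localization.AtPrime m)) ≤ ⊥ := by
    rw [Ideal.map_map]
    exact hres I hIm
  obtain ⟨g', hg', -⟩ := hH.2 (IsLocalRing.ResidueField (Localization.AtPrime m)) ⊥
    (IsLocalRing.residue (Localization.AtPrime m)) inferInstance h2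
  have h3 : g' 1 ∈ (𝔞.map (algebraMap A H)).map g' := Ideal.mem_map_of_mem _ h1
  rw [Ideal.map_map, IsScalarTower.algebraMap_eq A (Localization.AtPrime m) H,
    ← RingHom.comp_assoc, hg'] at h3
  have h4 := hres 𝔞 h𝔞 h3
  rw [Ideal.mem_bot, map_one] at h4
  exact one_ne_zero h4

theorem main (A : Type u) [CommRing A]
    (I : Ideal A) [hI : HenselianRing A I]
    (M' M M'' : Type u) [AddCommGroup M'] [Module A M'] [AddCommGroup M] [Module A M]
    [AddCommGroup M''] [Module A M''] (f : M' →ₗ[A] M) (g : M →ₗ[A] M'') (hfg : g.comp f = 0) :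
    Function.Exact f g ↔
    ∀ (p : Ideal A) [p.IsPrime], I ≤ p →
      ∀ (H : Type u) [CommRing H] [Algebra (Localization.AtPrime p) H] [Algebra A H]
        [IsScalarTower A (Localization.AtPrime p) H],
        Hens2.IsPairHenselization (Localization.AtPrime p)
          (I.map (algebraMap A (Localization.AtPrime p))) H →
        Function.Exact (f.baseChange H) (g.baseChange H) := by
  constructor
  · intro hex p _ hp H _ _ _ _ hH
    haveI : Module.Flat (Localization.AtPrime p) H :=
      (HzPair.flat_and_bijective_of_isPairHenselization hH).1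
    haveI : Module.Flat A H := Module.Flat.trans A (Localization.AtPrime p) H
    exact Module.Flat.lTensor_exact H hex
  · intro h
    rw [LinearMap.exact_iff]
    apply le_antisymm
    · intro x hx
      by_contra hxr
      let xb : M ⧸ LinearMap.range f := Submodule.Quotient.mk x
      have hxb : xb ≠ 0 := by
        intro h0
        exact hxr ((Submodule.Quotient.mk_eq_zero _).1 h0)
      let 𝔞 : Ideal A := LinearMap.ker (LinearMap.toSpanSingleton A (M ⧸ LinearMap.range f) xb)
      have h𝔞 : 𝔞 ≠ ⊤ := by
        intro htop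
        apply hxb
        have h1 : (1 : A) ∈ 𝔞 := htop ▸ Submodule.mem_top
        have h2 : (LinearMap.toSpanSingleton A (M ⧸ LinearMap.range f) xb) 1 = 0 := h1
        simpa using h2
      obtain ⟨m, hm, h𝔞m⟩ := Ideal.exists_le_maximal 𝔞 h𝔞
      have hIm : I ≤ m := hI.jac.trans (sInf_le ⟨bot_le, hm⟩)
      let H := HzPair.Hz (I.map (algebraMap A (Localization.AtPrime m)))
      letI : Algebra A H := ((algebraMap (Localization.AtPrime m) H).comp
        (algebraMap A (Localization.AtPrime m))).toAlgebra
      haveI : IsScalarTower A (Localization.AtPrime m) H :=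
        IsScalarTower.of_algebraMap_eq (fun _ => rfl)
      have hH : Hens2.IsPairHenselization (Localization.AtPrime m)
          (I.map (algebraMap A (Localization.AtPrime m))) H :=
        HzPair.Hz.isPairHenselization (I.map (algebraMap A (Localization.AtPrime m)))
      have hex := h m hIm H hH
      haveI : Module.Flat (Localization.AtPrime m) H := inferInstance
      haveI : Module.Flat A H := Module.Flat.trans A (Localization.AtPrime m) H
      have h1 : g.baseChange H ((1 : H) ⊗ₜ x) = 0 := by
        rw [LinearMap.baseChange_tmul, show g x = 0 from hx, tmul_zero]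
      obtain ⟨z, hz⟩ := (hex _).1 h1
      have h2 : ((LinearMap.range f).mkQ.baseChange H) ((1 : H) ⊗ₜ x) = 0 := by
        rw [← hz, ← LinearMap.comp_apply, ← LinearMap.baseChange_comp]
        have : (LinearMap.range f).mkQ ∘ₗ f = 0 := by
          ext y
          simp
        rw [this, LinearMap.baseChange_zero, LinearMap.zero_apply]
      rw [LinearMap.baseChange_tmul] at h2
      exact one_notMem_map_of_le I m hIm H hH 𝔞 h𝔞m (one_mem_map_ker_of_tmul_eq_zero xb h2)
    · rintro x ⟨y, rfl⟩
      exact congrArg (fun φ => φ y) hfg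

end Groth.Agent.Lib.Helper12.HensStalkExact
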