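import Mathlib

set_option autoImplicit false

namespace H12HomNe

variable {R : Type*} [CommRing R] [IsLocalRing R] {M : Type*} [AddCommGroup M] [Module R M]
  {Y : Type*} [AddCommGroup Y] [Module R Y]

/-- a minimal generating family. -/
lemma exists_min_gen [Module.Finite R M] [Nontrivial M] :
    ∃ (n : ℕ) (v : Fin (n + 1) → M), Submodule.span R (Set.range v) = ⊤ ∧
      ∀ k ∈ LinearMap.ker (Fintype.linearCombination R v), k 0 ∈ IsLocalRing.maximalIdeal R := by
  classical
  have hex : ∃ n : ℕ, ∃ v : Fin n → M, Submodule.span R (Set.range v) = ⊤ := by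
    obtain ⟨n, s, hs⟩ := Module.Finite.exists_fin (R := R) (M := M)
    exact ⟨n, s, hs⟩
  have hn0 : Nat.find hex ≠ 0 := by
    intro h0
    obtain ⟨v, hv⟩ := Nat.find_spec hex
    have : (⊤ : Submodule R M) = ⊥ := by
      rw [← hv, Submodule.span_eq_bot]
      rintro _ ⟨i, rfl⟩
      exact (h0 ▸ i : Fin 0).elim0
    exact top_ne_bot this
  obtain ⟨n, hn⟩ := Nat.exists_eq_succ_of_ne_zero hn0
  obtain ⟨v', hv'⟩ := Nat.find_spec hex
  have hmin : ∀ w : Fin n → M, Submodule.span R (Set.range w) ≠ ⊤ := by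
    intro w hw
    exact Nat.find_min hex (m := n) (by omega) ⟨w, hw⟩
  -- transport v' to Fin (n+1)
  let v : Fin (n + 1) → M := fun i => v' (Fin.cast hn.symm i)
  have hv : Submodule.span R (Set.range v) = ⊤ := by
    rw [← hv']
    congr 1
    ext x
    constructor
    · rintro ⟨i, rfl⟩; exact ⟨_, rfl⟩
    · rintro ⟨i, rfl⟩; exact ⟨Fin.cast hn i, by simp [v]⟩
  refine ⟨n, v, hv, ?_⟩
  intro k hk
  by_contra hk0
  have hu : IsUnit (k 0) := by
    by_contra h
    exact hk0 ((IsLocalRing.mem_maximalIdeal _).mpr h)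
  obtain ⟨u, hu⟩ := hu
  apply hmin (fun i => v i.succ)
  have hk' : ∑ i, k i • v i = 0 := by
    have := LinearMap.mem_ker.mp hk
    rwa [Fintype.linearCombination_apply] at this
  rw [Fin.sum_univ_succ] at hk'
  have h0 : v 0 = -((u⁻¹ : Rˣ) : R) • ∑ i : Fin n, k i.succ • v i.succ := by
    have : k 0 • v 0 = -∑ i : Fin n, k i.succ • v i.succ := eq_neg_of_add_eq_zero_left hk'
    rw [neg_smul, ← smul_neg, ← this, smul_smul, ← hu, Units.inv_mul, one_smul]
  rw [eq_top_iff, ← hv, Submodule.span_le]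
  rintro _ ⟨i, rfl⟩
  refine Fin.cases ?_ (fun j => ?_) i
  · rw [h0]
    refine Submodule.smul_mem _ _ (Submodule.sum_mem _ fun j _ => Submodule.smul_mem _ _ ?_)
    exact Submodule.subset_span ⟨j, rfl⟩
  · exact Submodule.subset_span ⟨j, rfl⟩

end H12HomNe
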