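import Mathlib
import Groth.Agent.Lib.Helper12.HomNe1

set_option autoImplicit false

namespace H12HomNe

variable {R : Type*} [CommRing R] [IsLocalRing R] {M : Type*} [AddCommGroup M] [Module R M]
  {Y : Type*} [AddCommGroup Y] [Module R Y]

theorem exists_ne_zero_local [Module.FinitePresentation R M] [Nontrivial M] (y : Y) (hy : y ≠ 0)
    (hnil : ∀ t ∈ IsLocalRing.maximalIdeal R, ∃ n : ℕ, t ^ n • y = 0) :
    ∃ ψ : M →ₗ[R] Y, ψ ≠ 0 := by
  classical
  obtain ⟨n, v, hv, hk⟩ := exists_min_gen (R := R) (M := M)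
  set φ := Fintype.linearCombination R v with hφdef
  have hφ : Function.Surjective φ := by
    rw [← LinearMap.range_eq_top, hφdef, Fintype.range_linearCombination, hv]
  set K := LinearMap.ker φ with hK
  have hKfg : K.FG := Module.FinitePresentation.fg_ker φ hφ
  let pr : (Fin (n + 1) → R) →ₗ[R] R := LinearMap.proj 0
  let J : Ideal R := K.map pr
  have hJfg : J.FG := hKfg.map pr
  have hJm : J ≤ IsLocalRing.maximalIdeal R := by
    rintro _ ⟨k, hk', rfl⟩
    exact hk k hk'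
  let Ann : Ideal R := LinearMap.ker (LinearMap.toSpanSingleton R Y y)
  have hAnn : ∀ t : R, t ∈ Ann ↔ t • y = 0 := fun t => by
    simp [Ann, LinearMap.mem_ker, LinearMap.toSpanSingleton_apply]
  have hex : ∃ s : ℕ, J ^ s ≤ Ann := by
    have h1 : (J.map (Ideal.Quotient.mk Ann)).FG := hJfg.map _
    have h2 : J.map (Ideal.Quotient.mk Ann) ≤ nilradical (R ⧸ Ann) := by
      intro x hx
      obtain ⟨t, ht, rfl⟩ := (Ideal.mem_map_iff_of_surjective _ Ideal.Quotient.mk_surjective).mp hx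
      obtain ⟨m, hm⟩ := hnil t (hJm ht)
      rw [mem_nilradical]
      refine ⟨m, ?_⟩
      rw [← map_pow, Ideal.Quotient.eq_zero_iff_mem, hAnn]
      exact hm
    obtain ⟨s, hs⟩ := (Ideal.FG.isNilpotent_iff_le_nilradical h1).mpr h2
    refine ⟨s, ?_⟩
    rw [← Ideal.map_pow, Ideal.zero_eq_bot, Ideal.map_eq_bot_iff_le_ker, Ideal.mk_ker] at hs
    exact hs
  have hs0 : Nat.find hex ≠ 0 := by
    intro h0
    have := Nat.find_spec hex
    rw [h0, pow_zero, Ideal.one_eq_top] at this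
    have h1 : (1 : R) ∈ Ann := this Submodule.mem_top
    rw [hAnn, one_smul] at h1
    exact hy h1
  obtain ⟨s', hs'⟩ := Nat.exists_eq_succ_of_ne_zero hs0
  have hnot : ¬ J ^ s' ≤ Ann := Nat.find_min hex (m := s') (by omega)
  obtain ⟨z, hzJ, hzA⟩ := SetLike.not_le_iff_exists.mp hnot
  have hzy : z • y ≠ 0 := fun h => hzA ((hAnn z).mpr h)
  have hJz : ∀ t ∈ J, t • z • y = 0 := by
    intro t ht
    rw [smul_smul, ← hAnn]
    have : t * z ∈ J ^ (s' + 1) := by
      rw [pow_succ']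
      exact Ideal.mul_mem_mul ht hzJ
    rw [← Nat.succ_eq_add_one, ← hs'] at this
    exact Nat.find_spec hex this
  let ψ₀ : (Fin (n + 1) → R) →ₗ[R] Y := (LinearMap.toSpanSingleton R Y (z • y)) ∘ₗ pr
  have hKψ : K ≤ LinearMap.ker ψ₀ := by
    intro k hk'
    rw [LinearMap.mem_ker]
    change (k 0) • z • y = 0
    exact hJz _ ⟨k, hk', rfl⟩
  refine ⟨K.liftQ ψ₀ hKψ ∘ₗ (φ.quotKerEquivOfSurjective hφ).symm.toLinearMap, ?_⟩
  intro h
  have h1 := LinearMap.congr_fun h (φ (Pi.single 0 1))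
  have h2 : (φ.quotKerEquivOfSurjective hφ).symm (φ (Pi.single 0 1)) =
      Submodule.Quotient.mk (Pi.single 0 1) := by
    rw [LinearEquiv.symm_apply_eq]
    rfl
  rw [LinearMap.comp_apply, LinearEquiv.coe_coe, h2, Submodule.liftQ_apply] at h1
  apply hzy
  simpa [ψ₀, pr, LinearMap.toSpanSingleton_apply] using h1

end H12HomNe
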