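import Mathlib
import Groth.Agent.Lib.Helper12.HomNe2

set_option autoImplicit false
universe u v

namespace H12HomNe

theorem main (A : Type u) [CommRing A] (M : Type v) [AddCommGroup M] [Module A M]
    [Module.FinitePresentation A M] (N : Type v) [AddCommGroup N] [Module A N] [Nontrivial N]
    (h : Module.support A N ⊆ Module.support A M) : Nontrivial (M →ₗ[A] N) := by
  classical
  obtain ⟨x, hx⟩ := exists_ne (0 : N)
  let I : Ideal A := LinearMap.ker (LinearMap.toSpanSingleton A N x)
  have hI : ∀ a : A, a ∈ I ↔ a • x = 0 := fun a => by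
    simp [I, LinearMap.mem_ker, LinearMap.toSpanSingleton_apply]
  have hItop : I ≠ ⊤ := by
    intro htop
    have : (1 : A) ∈ I := htop ▸ Submodule.mem_top
    rw [hI, one_smul] at this
    exact hx this
  obtain ⟨m, hm, hIm⟩ := Ideal.exists_le_maximal I hItop
  haveI := hm.isPrime
  obtain ⟨p, hp, hpm⟩ := Ideal.exists_minimalPrimes_le hIm
  haveI hpp : p.IsPrime := hp.1.1
  let P : PrimeSpectrum A := ⟨p, hpp⟩
  have hPN : P ∈ Module.support A N := by
    rw [Module.mem_support_iff_exists_annihilator]
    refine ⟨x, ?_⟩
    intro a ha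
    rw [Submodule.mem_annihilator_span_singleton] at ha
    exact hp.1.2 ((hI a).mpr ha)
  have hPM := h hPN
  rw [Module.mem_support_iff] at hPM
  let S := p.primeCompl
  let y : LocalizedModule S N := LocalizedModule.mk x 1
  have hy : y ≠ 0 := by
    intro h0
    rw [← LocalizedModule.zero_mk (1 : S), LocalizedModule.mk_eq] at h0
    obtain ⟨u, hu⟩ := h0
    simp only [one_smul, smul_zero] at hu
    have : (u : A) ∈ I := (hI _).mpr hu
    exact u.2 (hp.1.2 this)
  have hnil : ∀ t ∈ IsLocalRing.maximalIdeal (Localization.AtPrime p),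
      ∃ n : ℕ, t ^ n • y = 0 := by
    intro t ht
    have hrad := IsLocalization.AtPrime.radical_map_of_mem_minimalPrimes
      (A := Localization.AtPrime p) p I hp
    rw [IsLocalization.AtPrime.map_eq_maximalIdeal p (Localization.AtPrime p)] at hrad
    rw [← hrad] at ht
    obtain ⟨n, hn⟩ := ht
    refine ⟨n, ?_⟩
    have hle : I.map (algebraMap A (Localization.AtPrime p)) ≤
        LinearMap.ker (LinearMap.toSpanSingleton (Localization.AtPrime p) (LocalizedModule S N) y) := by
      rw [Ideal.map_le_iff_le_comap]
      intro a ha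
      rw [Ideal.mem_comap, LinearMap.mem_ker, LinearMap.toSpanSingleton_apply, algebraMap_smul]
      change a • LocalizedModule.mk x 1 = 0
      rw [LocalizedModule.smul'_mk, (hI a).mp ha, LocalizedModule.zero_mk]
    have := hle hn
    rwa [LinearMap.mem_ker, LinearMap.toSpanSingleton_apply] at this
  obtain ⟨ψ, hψ⟩ := exists_ne_zero_local (R := Localization.AtPrime p)
    (M := LocalizedModule S M) y hy hnil
  let g : M →ₗ[A] LocalizedModule S N :=
    ψ.restrictScalars A ∘ₗ LocalizedModule.mkLinearMap S M
  obtain ⟨h', s, hs⟩ := Module.FinitePresentation.exists_lift_of_isLocalizedModule S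
    (LocalizedModule.mkLinearMap S N) g
  refine ⟨⟨h', 0, ?_⟩⟩
  intro h0
  apply hψ
  have hg : g = 0 := by
    rw [h0, LinearMap.comp_zero] at hs
    ext m'
    have h1 := LinearMap.congr_fun hs m'
    rw [LinearMap.zero_apply, LinearMap.smul_apply] at h1
    have hu := IsLocalizedModule.map_units (LocalizedModule.mkLinearMap S N) s
    have h2 : (algebraMap A (Module.End A (LocalizedModule S N)) s) (g m') = 0 := by
      rw [Module.algebraMap_end_apply]
      exact h1.symm
    rw [LinearMap.zero_apply]
    exact ((Module.End.isUnit_iff _).mp hu).1 (by rw [h2, map_zero])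
  ext z
  induction z using LocalizedModule.induction_on with
  | h m' t =>
    have h1 : LocalizedModule.mk m' t =
        (Localization.mk 1 t : Localization.AtPrime p) • LocalizedModule.mk m' (1 : S) := by
      rw [LocalizedModule.mk_smul_mk, one_smul, mul_one]
    rw [h1, map_smul]
    have h2 : ψ (LocalizedModule.mk m' 1) = g m' := rfl
    rw [h2, hg, LinearMap.zero_apply, smul_zero, LinearMap.zero_apply]

end H12HomNe
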