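import Mathlib
import Groth.Prelude.Def_Hens2
import Groth.Agent.Lib.Helper12.HzPairNoethB

/-!
# The henselization of a pair has the same adic completion (helper12)
-/

set_option autoImplicit false
universe u

namespace Groth.Agent.Lib.Helper12.HzPair

/-- a linear map inducing bijections modulo all powers of `I` induces a bijection of completions -/
theorem adicCompletion_map_bijective {R M N : Type*} [CommRing R] (I : Ideal R)
    [AddCommGroup M] [Module R M] [AddCommGroup N] [Module R N] (f : M →ₗ[R] N)
    (h : ∀ n, Function.Bijective (f.reduceModIdeal (I ^ n))) :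
    Function.Bijective (AdicCompletion.map I f) := by
  constructor
  · intro x y hxy
    apply AdicCompletion.ext
    intro n
    have := congrArg (fun z => z.val n) hxy
    simp only [AdicCompletion.map_val_apply] at this
    exact (h n).1 this
  · intro y
    choose g hg using fun n => (h n).2 (y.val n)
    refine ⟨⟨g, ?_⟩, ?_⟩
    · intro m n hmn
      apply (h m).1
      rw [hg m]
      have h1 := LinearMap.congr_fun (AdicCompletion.transitionMap_comp_reduceModIdeal I f hmn) (g n)
      simp only [LinearMap.comp_apply] at h1
      have h2 : (AdicCompletion.transitionMap I N hmn)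
          ((LinearMap.reduceModIdeal (I ^ n) f) (g n)) =
          (LinearMap.reduceModIdeal (I ^ m) f) ((AdicCompletion.transitionMap I M hmn) (g n)) :=
        h1
      rw [hg n] at h2
      rw [← y.property hmn]
      exact h2.symm
    · apply AdicCompletion.ext
      intro n
      rw [AdicCompletion.map_val_apply]
      exact hg n

variable {A : Type u} [CommRing A] {I : Ideal A}

theorem mem_smul_top_iff {B : Type*} [CommRing B] [Algebra A B] (J : Ideal A) (x : B) :
    x ∈ (J • ⊤ : Submodule A B) ↔ x ∈ J.map (algebraMap A B) := by
  rw [Ideal.smul_top_eq_map, Submodule.restrictScalars_mem]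

theorem adicCompletion_bijective_of_isPairHenselization (B : Type u) [CommRing B]
    [Algebra A B] (hB : Hens2.IsPairHenselization A I B) :
    Function.Bijective (AdicCompletion.map I (Algebra.linearMap A B) :
      AdicCompletion I A → AdicCompletion I B) := by
  apply adicCompletion_map_bijective
  intro n
  obtain ⟨e⟩ := HensCRT.nonempty_algEquiv_of_isPairHenselization I (Hz I) B
    (Hz.isPairHenselization I) hB
  have h1 : ∀ b : B, ∃ a : A, b - algebraMap A B a ∈ I.map (algebraMap A B) := by
    intro b
    obtain ⟨a, ha⟩ := Hz.exists_sub_mem I (e.symm b)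
    refine ⟨a, ?_⟩
    have := algHom_mem_map (I := I) e.toAlgHom ha
    simpa using this
  constructor
  · rw [injective_iff_map_eq_zero]
    intro x hx
    obtain ⟨a, rfl⟩ := Submodule.Quotient.mk_surjective _ x
    rw [LinearMap.reduceModIdeal_apply, Submodule.Quotient.mk_eq_zero, mem_smul_top_iff] at hx
    rw [Submodule.Quotient.mk_eq_zero, mem_smul_top_iff, Algebra.algebraMap_self, Ideal.map_id]
    exact mem_pow_of_isPairHenselization hB n hx
  · intro y
    obtain ⟨b, rfl⟩ := Submodule.Quotient.mk_surjective _ y
    obtain ⟨a, ha⟩ := exists_sub_mem_pow h1 n b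
    refine ⟨Submodule.Quotient.mk a, ?_⟩
    rw [LinearMap.reduceModIdeal_apply, eq_comm, Submodule.Quotient.eq, mem_smul_top_iff]
    exact ha

theorem noetherian_flat_completion [IsNoetherianRing A] (B : Type u) [CommRing B]
    [Algebra A B] (hB : Hens2.IsPairHenselization A I B) :
    IsNoetherianRing B ∧ Module.Flat A B ∧
      Function.Bijective (AdicCompletion.map I (Algebra.linearMap A B) :
        AdicCompletion I A → AdicCompletion I B) :=
  ⟨isNoetherianRing_of_isPairHenselization I B hB,
    (flat_and_bijective_of_isPairHenselization hB).1,
    adicCompletion_bijective_of_isPairHenselization B hB⟩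

end Groth.Agent.Lib.Helper12.HzPair
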