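import Mathlib

namespace Groth.Agent.Lib.Helper12.Inertia1

open Polynomial

/-- A normal extension with trivial automorphism group: separable elements lie in the base. -/
theorem mem_range_of_isSeparable {K L : Type*} [Field K] [Field L] [Algebra K L] [Normal K L]
    (hG : ∀ σ : L ≃ₐ[K] L, ∀ z : L, σ z = z) {x : L} (hx : IsSeparable K x) :
    x ∈ (algebraMap K L).range := by
  classical
  by_contra h
  have hint : IsIntegral K x := (Normal.isIntegral (F := K) (K := L) inferInstance x)
  have h2 : 2 ≤ (minpoly K x).natDegree := (minpoly.two_le_natDegree_iff hint).mpr h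
  have hsp : ((minpoly K x).map (algebraMap K L)).Splits := Normal.splits inferInstance x
  have hsep : ((minpoly K x).map (algebraMap K L)).Separable := Polynomial.Separable.map hx
  have hcard : ((minpoly K x).map (algebraMap K L)).roots.card = (minpoly K x).natDegree := by
    rw [← Polynomial.natDegree_map (algebraMap K L)]
    exact (Polynomial.splits_iff_card_roots.mp hsp)
  have hnd : ((minpoly K x).map (algebraMap K L)).roots.Nodup := Polynomial.nodup_roots hsep
  have : ∃ z ∈ ((minpoly K x).map (algebraMap K L)).roots, z ≠ x := by
    by_contra hall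
    push Not at hall
    have hsub : ((minpoly K x).map (algebraMap K L)).roots.toFinset ⊆ {x} := by
      intro z hz
      rw [Multiset.mem_toFinset] at hz
      simp [hall z hz]
    have := Finset.card_le_card hsub
    rw [Multiset.toFinset_card_of_nodup hnd, hcard] at this
    simp at this
    omega
  obtain ⟨z, hz, hzx⟩ := this
  have hz0 : Polynomial.aeval z (minpoly K x) = 0 := by
    rw [Polynomial.mem_roots', Polynomial.IsRoot.def, Polynomial.eval_map_algebraMap] at hz
    exact hz.2
  obtain ⟨σ, hσ⟩ := minpoly.exists_algEquiv_of_root' hint.isAlgebraic hz0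
  exact hzx (by rw [← hσ, hG σ x])

end Groth.Agent.Lib.Helper12.Inertia1
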