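import Mathlib

namespace Groth.Agent.Lib.Helper12.Inertia2

open Polynomial Pointwise

variable {B : Type*} [CommRing B] {Γ : Type*} [Group Γ] [Finite Γ] [MulSemiringAction Γ B]

/-- Conjugating an inertia element by a stabilizer element stays in the inertia group. -/
theorem conj_mem_inertia (P : Ideal B) {σ τ : Γ} (hσ : σ • P = P) (hτ : τ ∈ P.inertia Γ) :
    σ⁻¹ * τ * σ ∈ P.inertia Γ := by
  intro x
  have h1 : τ • (σ • x) - σ • x ∈ P := hτ (σ • x)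
  have h2 : σ⁻¹ • (τ • (σ • x) - σ • x) ∈ σ⁻¹ • P := Ideal.smul_mem_pointwise_smul _ _ _ h1
  have h3 : σ⁻¹ • P = P := by
    conv_lhs => rw [← hσ]
    rw [inv_smul_smul]
  rw [h3] at h2
  simpa [mul_smul, smul_sub] using h2

/-- Stabilizer elements preserve inertia-invariant elements. -/
theorem smul_invariant (P : Ideal B) {σ : Γ} (hσ : σ • P = P) {w : B}
    (hw : ∀ τ ∈ P.inertia Γ, τ • w = w) : ∀ τ ∈ P.inertia Γ, τ • (σ • w) = σ • w := by
  intro τ hτ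
  have := hw _ (conj_mem_inertia P hσ hτ)
  calc τ • (σ • w) = σ • ((σ⁻¹ * τ * σ) • w) := by simp [mul_smul]
    _ = σ • w := by rw [this]

/-- If `γ` does not stabilise the maximal ideal `P` there is `a ∉ P` with `γ • a ∈ P`. -/
theorem exists_not_mem_smul_mem (P : Ideal B) [hP : P.IsMaximal] {γ : Γ} (hγ : γ • P ≠ P) :
    ∃ a : B, a ∉ P ∧ γ • a ∈ P := by
  have hle : ¬ P ≤ γ • P := by
    intro hle
    have hne : γ • P ≠ ⊤ := (Ideal.IsPrime.smul (H := hP.isPrime) γ).ne_top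
    exact hγ (hP.eq_of_le hne hle).symm
  obtain ⟨a', ha'P, ha'⟩ := SetLike.not_le_iff_exists.mp hle
  refine ⟨γ⁻¹ • a', ?_, by simpa using ha'P⟩
  intro h
  apply ha'
  have := Ideal.smul_mem_pointwise_smul γ _ _ h
  simpa using this

/-- The CRT element: inertia-invariant, `≡ 1` mod `P`, moved into `P` by every `γ ∉ D`. -/
theorem exists_crt (P : Ideal B) [hP : P.IsMaximal] :
    ∃ e : B, (∀ τ ∈ P.inertia Γ, τ • e = e) ∧ e - 1 ∈ P ∧ ∀ γ : Γ, γ • P ≠ P → γ • e ∈ P := by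
  classical
  obtain ⟨_⟩ := nonempty_fintype Γ
  choose! a ha1 ha2 using fun (γ : Γ) (hγ : γ • P ≠ P) => exists_not_mem_smul_mem P hγ
  set S : Finset Γ := Finset.univ.filter (fun γ => γ • P ≠ P) with hS
  set e₁ : B := ∏ γ ∈ S, a γ with he₁
  have he₁P : e₁ ∉ P := by
    rw [he₁, hP.isPrime.prod_mem_iff]
    push Not
    intro γ hγ
    exact ha1 γ (by simpa [hS] using hγ)
  have he₁γ : ∀ γ : Γ, γ • P ≠ P → γ • e₁ ∈ P := by
    intro γ hγ
    have hmem : γ ∈ S := by simp [hS, hγ]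
    rw [he₁, Finset.smul_prod']
    exact Ideal.mem_of_dvd _ (Finset.dvd_prod_of_mem (fun γ' => γ • a γ') hmem) (ha2 γ hγ)
  obtain ⟨u, i, hi, hui⟩ := hP.exists_inv he₁P
  set e₀ : B := u * e₁ with he₀
  have he₀1 : e₀ - 1 ∈ P := by
    have : e₀ - 1 = -i := by rw [he₀, ← hui]; ring
    rw [this]; exact P.neg_mem hi
  have he₀γ : ∀ γ : Γ, γ • P ≠ P → γ • e₀ ∈ P := by
    intro γ hγ
    rw [he₀, smul_mul']
    exact P.mul_mem_left _ (he₁γ γ hγ)
  set T : Subgroup Γ := P.inertia Γ with hT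
  refine ⟨∏ τ : T, (τ : Γ) • e₀, ?_, ?_, ?_⟩
  · intro τ' hτ'
    rw [Finset.smul_prod']
    have : ∀ τ : T, τ' • ((τ : Γ) • e₀) = (((⟨τ', hτ'⟩ : T) * τ : T) : Γ) • e₀ := by
      intro τ; simp [mul_smul]
    simp_rw [this]
    exact Fintype.prod_equiv (Equiv.mulLeft (⟨τ', hτ'⟩ : T)) _ _ (fun τ => rfl)
  · rw [← Ideal.Quotient.eq, map_prod, map_one]
    apply Finset.prod_eq_one
    intro τ _
    have h1 : (τ : Γ) • e₀ - e₀ ∈ P := τ.2 e₀
    rw [← map_one (Ideal.Quotient.mk P), Ideal.Quotient.eq]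
    have : (τ : Γ) • e₀ - 1 = ((τ : Γ) • e₀ - e₀) + (e₀ - 1) := by ring
    rw [this]; exact P.add_mem h1 he₀1
  · intro γ hγ
    rw [Finset.smul_prod']
    have hmem : (1 : T) ∈ (Finset.univ : Finset T) := Finset.mem_univ _
    refine Ideal.mem_of_dvd _ (Finset.dvd_prod_of_mem (fun τ : T => γ • ((τ : Γ) • e₀)) hmem) ?_
    simpa using he₀γ γ hγ

end Groth.Agent.Lib.Helper12.Inertia2
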