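import Mathlib

namespace Groth.Agent.Lib.Helper12.Inertia3

open Polynomial Pointwise

variable {B : Type*} [CommRing B] {Γ : Type*} [Group Γ] [MulSemiringAction Γ B]

instance isInvariant_fixedPoints : Algebra.IsInvariant (FixedPoints.subring B Γ) B Γ :=
  ⟨fun b hb => ⟨⟨b, hb⟩, rfl⟩⟩

section tr
variable (P : Ideal B) [Fintype (Γ ⧸ P.inertia Γ)]

variable (Γ) in
/-- The coset trace `∑_{q ∈ Γ/T} q • w`, computed with chosen representatives. -/
noncomputable def cosetTr (w : B) : B := ∑ q : Γ ⧸ P.inertia Γ, (Quotient.out q : Γ) • w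

theorem smul_cosetTr {w : B} (hw : ∀ τ ∈ P.inertia Γ, τ • w = w) (γ : Γ) :
    γ • cosetTr Γ P w = cosetTr Γ P w := by
  unfold cosetTr
  rw [Finset.smul_sum]
  have : ∀ q : Γ ⧸ P.inertia Γ, γ • ((Quotient.out q : Γ) • w)
      = (Quotient.out (γ • q : Γ ⧸ P.inertia Γ) : Γ) • w := by
    intro q
    obtain ⟨h, hh⟩ := QuotientGroup.mk_out_eq_mul (P.inertia Γ) (γ * Quotient.out q)
    have hq : (γ • q : Γ ⧸ P.inertia Γ) = ((γ * Quotient.out q : Γ) : Γ ⧸ P.inertia Γ) := by
      conv_lhs => rw [← QuotientGroup.out_eq' q]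
      rfl
    rw [hq, hh, mul_smul, mul_smul, hw h h.2]
  simp_rw [this]
  exact Fintype.sum_equiv (MulAction.toPerm γ) _ _ (fun q => rfl)

end tr

section red
attribute [local instance] Ideal.Quotient.field

variable (P : Ideal B) [P.IsMaximal] [Fintype (Γ ⧸ P.inertia Γ)]
  [Fintype ((B ⧸ P) ≃ₐ[FixedPoints.subring B Γ ⧸ P.under (FixedPoints.subring B Γ)] (B ⧸ P))]
  [Finite Γ]

theorem mk_cosetTr (e w : B) (he1 : e - 1 ∈ P) (heγ : ∀ γ : Γ, γ • P ≠ P → γ • e ∈ P) :
    Ideal.Quotient.mk P (cosetTr Γ P (e * w)) =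
      ∑ g : ((B ⧸ P) ≃ₐ[FixedPoints.subring B Γ ⧸ P.under (FixedPoints.subring B Γ)] (B ⧸ P)),
        g (Ideal.Quotient.mk P w) := by
  classical
  unfold cosetTr
  rw [map_sum, ← Finset.sum_filter_of_ne (p := fun q : Γ ⧸ P.inertia Γ => (Quotient.out q : Γ) • P = P)]
  · refine Finset.sum_bij (fun q hq => Ideal.Quotient.stabilizerHom P
        (P.under (FixedPoints.subring B Γ)) Γ ⟨Quotient.out q, by
          simpa [MulAction.mem_stabilizer_iff] using hq⟩) (fun _ _ => Finset.mem_univ _) ?_ ?_ ?_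
    · intro q hq q' hq' h
      have hq1 : (Quotient.out q : Γ) ∈ MulAction.stabilizer Γ P := by
        simpa [MulAction.mem_stabilizer_iff] using hq
      have hq1' : (Quotient.out q' : Γ) ∈ MulAction.stabilizer Γ P := by
        simpa [MulAction.mem_stabilizer_iff] using hq'
      have hker : (⟨Quotient.out q, hq1⟩ : MulAction.stabilizer Γ P)⁻¹ * ⟨Quotient.out q', hq1'⟩ ∈
          (Ideal.Quotient.stabilizerHom P (P.under (FixedPoints.subring B Γ)) Γ).ker := by
        rw [MonoidHom.mem_ker, map_mul, map_inv]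
        exact inv_mul_eq_one.mpr h
      rw [Ideal.Quotient.ker_stabilizerHom, ← Ideal.coe_mem_inertia] at hker
      rw [← QuotientGroup.out_eq' q, ← QuotientGroup.out_eq' q', QuotientGroup.eq]
      simpa using hker
    · intro g _
      obtain ⟨σ, rfl⟩ := Ideal.Quotient.stabilizerHom_surjective Γ
        (P.under (FixedPoints.subring B Γ)) P g
      obtain ⟨h, hh⟩ := QuotientGroup.mk_out_eq_mul (P.inertia Γ) (σ : Γ)
      have hhD : (h : Γ) ∈ MulAction.stabilizer Γ P := Ideal.inertia_le_stabilizer P h.2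
      have hoD : (Quotient.out ((σ : Γ) : Γ ⧸ P.inertia Γ) : Γ) ∈ MulAction.stabilizer Γ P := by
        rw [hh]; exact mul_mem σ.2 hhD
      refine ⟨((σ : Γ) : Γ ⧸ P.inertia Γ), ?_, ?_⟩
      · simpa [MulAction.mem_stabilizer_iff] using hoD
      · have hker : (⟨h, hhD⟩ : MulAction.stabilizer Γ P) ∈
            (Ideal.Quotient.stabilizerHom P (P.under (FixedPoints.subring B Γ)) Γ).ker := by
          rw [Ideal.Quotient.ker_stabilizerHom, ← Ideal.coe_mem_inertia]
          exact h.2
        have : (⟨Quotient.out ((σ : Γ) : Γ ⧸ P.inertia Γ), hoD⟩ : MulAction.stabilizer Γ P)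
            = σ * ⟨h, hhD⟩ := Subtype.ext hh
        rw [this, map_mul, MonoidHom.mem_ker.mp hker, mul_one]
    · intro q hq
      have hq1 : (Quotient.out q : Γ) • P = P := by simpa using hq
      rw [smul_mul', map_mul, Ideal.Quotient.stabilizerHom_apply]
      have : Ideal.Quotient.mk P ((Quotient.out q : Γ) • e) = 1 := by
        rw [← map_one (Ideal.Quotient.mk P), Ideal.Quotient.eq]
        have h2 : (Quotient.out q : Γ) • (e - 1) ∈ (Quotient.out q : Γ) • P :=
          Ideal.smul_mem_pointwise_smul _ _ _ he1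
        rw [hq1] at h2
        simpa [smul_sub] using h2
      rw [this, one_mul]
      rfl
  · intro q _ hne
    by_contra hq
    apply hne
    rw [Ideal.Quotient.eq_zero_iff_mem, smul_mul']
    exact P.mul_mem_right _ (heγ _ hq)

end red

end Groth.Agent.Lib.Helper12.Inertia3
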