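import Mathlib
import Groth.Agent.Lib.Helper12.Inertia3

namespace Groth.Agent.Lib.Helper12.Inertia4

open Polynomial Pointwise Groth.Agent.Lib.Helper12.Inertia3

variable {B : Type*} [CommRing B] {Γ : Type*} [Group Γ] [MulSemiringAction Γ B] [Finite Γ]

attribute [local instance] Ideal.Quotient.field

/-- A ring automorphism of `B/P` fixing the classes of all inertia-invariant elements is trivial. -/
theorem eq_self_of_fix_invariants (P : Ideal B) [P.IsMaximal] (σ : (B ⧸ P) ≃+* (B ⧸ P))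
    (hσ : ∀ c : B, (∀ τ ∈ P.inertia Γ, τ • c = c) →
      σ (Ideal.Quotient.mk P c) = Ideal.Quotient.mk P c) (z : B ⧸ P) : σ z = z := by
  set T : Subgroup Γ := P.inertia Γ with hT
  set C : Subring B := FixedPoints.subring B T with hC
  set PT : Ideal C := P.under C with hPT
  let σ' : (B ⧸ P) ≃ₐ[C ⧸ PT] (B ⧸ P) := AlgEquiv.ofRingEquiv (f := σ) (by
    intro r
    obtain ⟨c, rfl⟩ := Ideal.Quotient.mk_surjective r
    rw [Ideal.Quotient.algebraMap_mk_of_liesOver]
    exact hσ c.1 (fun τ hτ => c.2 ⟨τ, hτ⟩))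
  obtain ⟨τ, hτ⟩ := Ideal.Quotient.stabilizerHom_surjective T PT P σ'
  obtain ⟨b, rfl⟩ := Ideal.Quotient.mk_surjective z
  have h1 : σ (Ideal.Quotient.mk P b) = σ' (Ideal.Quotient.mk P b) := rfl
  rw [h1, ← hτ, Ideal.Quotient.stabilizerHom_apply, Ideal.Quotient.eq]
  exact τ.1.2 b

variable (P : Ideal B) [P.IsMaximal]
  [Fintype ((B ⧸ P) ≃ₐ[FixedPoints.subring B Γ ⧸ P.under (FixedPoints.subring B Γ)] (B ⧸ P))]

/-- Dedekind independence: some inertia-invariant `b` has nonzero residual trace. -/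
theorem exists_sum_ne_zero :
    ∃ b : B, (∀ τ ∈ P.inertia Γ, τ • b = b) ∧
      ∑ g : ((B ⧸ P) ≃ₐ[FixedPoints.subring B Γ ⧸ P.under (FixedPoints.subring B Γ)] (B ⧸ P)),
        g (Ideal.Quotient.mk P b) ≠ 0 := by
  classical
  by_contra H
  push Not at H
  set T : Subgroup Γ := P.inertia Γ with hT
  set C : Subring B := FixedPoints.subring B T with hC
  let φ : C →* (B ⧸ P) := ((Ideal.Quotient.mk P).comp C.subtype).toMonoidHom
  let χ : ((B ⧸ P) ≃ₐ[FixedPoints.subring B Γ ⧸ P.under (FixedPoints.subring B Γ)] (B ⧸ P)) →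
      (C →* (B ⧸ P)) := fun g => (g : (B ⧸ P) →* (B ⧸ P)).comp φ
  have hχ : Function.Injective χ := by
    intro g g' h
    ext z
    have key := eq_self_of_fix_invariants (Γ := Γ) P ((g.trans g'.symm).toRingEquiv) (by
      intro c hc
      have := DFunLike.congr_fun h ⟨c, fun τ => hc τ.1 τ.2⟩
      have h2 : g (Ideal.Quotient.mk P c) = g' (Ideal.Quotient.mk P c) := this
      change g'.symm (g (Ideal.Quotient.mk P c)) = _
      rw [h2, AlgEquiv.symm_apply_apply]) z
    have key2 : g'.symm (g z) = z := key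
    rw [← key2, AlgEquiv.apply_symm_apply, key2]
  have hli := (linearIndependent_monoidHom C (B ⧸ P)).comp χ hχ
  have h0 := Fintype.linearIndependent_iff.mp hli (fun _ => 1) (by
    funext c
    simp only [one_smul, Function.comp_apply, Finset.sum_apply, Pi.zero_apply]
    exact H c.1 (fun τ hτ => c.2 ⟨τ, hτ⟩)) 1
  exact one_ne_zero h0

end Groth.Agent.Lib.Helper12.Inertia4
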