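import Mathlib
import Groth.Agent.Lib.Helper12.Inertia1
import Groth.Agent.Lib.Helper12.Inertia2
import Groth.Agent.Lib.Helper12.Inertia4

namespace Groth.Agent.Lib.Helper12.Inertia5

open Polynomial Pointwise Groth.Agent.Lib.Helper12.Inertia3

variable {B : Type*} [CommRing B] {Γ : Type*} [Group Γ] [MulSemiringAction Γ B] [Finite Γ]

attribute [local instance] Ideal.Quotient.field

theorem backward (P : Ideal B) [P.IsMaximal] (x : B) (g : Polynomial B)
    (hginv : ∀ (i : ℕ) (γ : Γ), γ • g.coeff i = g.coeff i)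
    (hsep : (g.map (Ideal.Quotient.mk P)).Separable) (hx : Polynomial.aeval x g ∈ P) :
    ∃ y : B, (∀ γ : Γ, γ ∈ P.inertia Γ → γ • y = y) ∧ x - y ∈ P := by
  set T : Subgroup Γ := P.inertia Γ with hT
  set C : Subring B := FixedPoints.subring B T with hC
  set PT : Ideal C := P.under C with hPT
  haveI : Algebra.IsIntegral C B := Algebra.IsInvariant.isIntegral C B T
  haveI : PT.IsMaximal := Ideal.IsMaximal.under C P
  haveI : Normal (C ⧸ PT) (B ⧸ P) := Ideal.Quotient.normal (G := T) PT P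
  have hG : ∀ σ : (B ⧸ P) ≃ₐ[C ⧸ PT] (B ⧸ P), ∀ z, σ z = z := by
    intro σ z
    refine Inertia4.eq_self_of_fix_invariants (Γ := Γ) P σ.toRingEquiv ?_ z
    intro c hc
    have h1 : Ideal.Quotient.mk P c = algebraMap (C ⧸ PT) (B ⧸ P)
        (Ideal.Quotient.mk PT ⟨c, fun τ => hc τ.1 τ.2⟩) := by
      rw [Ideal.Quotient.algebraMap_mk_of_liesOver]; rfl
    change σ (Ideal.Quotient.mk P c) = _
    rw [h1, σ.commutes]
  have hlift : g ∈ Polynomial.lifts C.subtype := by
    rw [Polynomial.lifts_iff_coeff_lifts]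
    intro n
    exact ⟨⟨g.coeff n, fun τ => hginv n τ.1⟩, rfl⟩
  obtain ⟨gC, hgC⟩ := (Polynomial.mem_lifts _).mp hlift
  set gbar : Polynomial (C ⧸ PT) := gC.map (Ideal.Quotient.mk PT) with hgbar
  have hcomp : (algebraMap (C ⧸ PT) (B ⧸ P)).comp (Ideal.Quotient.mk PT)
      = (Ideal.Quotient.mk P).comp C.subtype := by
    ext c
    simp [Ideal.Quotient.algebraMap_mk_of_liesOver]
    rfl
  have hmap : gbar.map (algebraMap (C ⧸ PT) (B ⧸ P)) = g.map (Ideal.Quotient.mk P) := by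
    rw [hgbar, Polynomial.map_map, hcomp, ← Polynomial.map_map, hgC]
  have hsepbar : gbar.Separable := by
    rw [← Polynomial.separable_map (algebraMap (C ⧸ PT) (B ⧸ P)), hmap]; exact hsep
  have hroot : Polynomial.aeval (Ideal.Quotient.mk P x) gbar = 0 := by
    rw [Polynomial.aeval_def, Polynomial.eval₂_eq_eval_map, hmap, Polynomial.eval_map,
      Polynomial.eval₂_at_apply, Ideal.Quotient.eq_zero_iff_mem]
    simpa using hx
  have hsepx : IsSeparable (C ⧸ PT) (Ideal.Quotient.mk P x) :=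
    hsepbar.of_dvd (minpoly.dvd _ _ hroot)
  obtain ⟨r, hr⟩ := Inertia1.mem_range_of_isSeparable hG hsepx
  obtain ⟨c, rfl⟩ := Ideal.Quotient.mk_surjective r
  refine ⟨c.1, fun γ hγ => c.2 ⟨γ, hγ⟩, ?_⟩
  rw [← Ideal.Quotient.eq, ← hr, Ideal.Quotient.algebraMap_mk_of_liesOver]
  rfl

end Groth.Agent.Lib.Helper12.Inertia5
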