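import Mathlib
import Groth.Agent.Lib.Helper12.Inertia1
import Groth.Agent.Lib.Helper12.Inertia2
import Groth.Agent.Lib.Helper12.Inertia4

namespace Groth.Agent.Lib.Helper12.Inertia6

open Polynomial Pointwise Groth.Agent.Lib.Helper12.Inertia3

variable {B : Type*} [CommRing B] {Γ : Type*} [Group Γ] [MulSemiringAction Γ B] [Finite Γ]

attribute [local instance] Ideal.Quotient.field

theorem forward (P : Ideal B) [P.IsMaximal] (x y : B)
    (hy : ∀ γ : Γ, γ ∈ P.inertia Γ → γ • y = y) (hxy : x - y ∈ P) :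
    ∃ g : Polynomial B, (∀ (i : ℕ) (γ : Γ), γ • g.coeff i = g.coeff i) ∧
        (g.map (Ideal.Quotient.mk P)).Separable ∧ Polynomial.aeval x g ∈ P := by
  classical
  set A : Subring B := FixedPoints.subring B Γ with hA
  set p : Ideal A := P.under A with hp
  letI : Fintype (Γ ⧸ P.inertia Γ) := Fintype.ofFinite _
  haveI : Finite ((B ⧸ P) ≃ₐ[A ⧸ p] (B ⧸ P)) :=
    Finite.of_surjective _ (Ideal.Quotient.stabilizerHom_surjective Γ p P)
  letI : Fintype ((B ⧸ P) ≃ₐ[A ⧸ p] (B ⧸ P)) := Fintype.ofFinite _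
  obtain ⟨e, heT, he1, heγ⟩ := Inertia2.exists_crt (Γ := Γ) P
  obtain ⟨b, hbT, hb⟩ := Inertia4.exists_sum_ne_zero (Γ := Γ) P
  choose σ hσ using Ideal.Quotient.stabilizerHom_surjective Γ p P
  set ybar : B ⧸ P := Ideal.Quotient.mk P y with hybar
  set O : Finset (B ⧸ P) := Finset.univ.image (fun g : (B ⧸ P) ≃ₐ[A ⧸ p] (B ⧸ P) => g ybar) with hO
  -- lifts of the orbit
  let lift : B ⧸ P → B := fun z =>
    if h : ∃ g : (B ⧸ P) ≃ₐ[A ⧸ p] (B ⧸ P), g ybar = z then ((σ h.choose : Γ)) • y else 0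
  have hlift_mk : ∀ z ∈ O, Ideal.Quotient.mk P (lift z) = z := by
    intro z hz
    have h : ∃ g : (B ⧸ P) ≃ₐ[A ⧸ p] (B ⧸ P), g ybar = z := by
      simpa [hO] using hz
    simp only [lift, dif_pos h]
    have h1 := hσ h.choose
    have h2 : (Ideal.Quotient.stabilizerHom P p Γ (σ h.choose)) ybar
        = Ideal.Quotient.mk P ((σ h.choose : Γ) • y) := rfl
    rw [← h2, h1, h.choose_spec]
  have hlift_inv : ∀ z, ∀ τ ∈ P.inertia Γ, τ • lift z = lift z := by
    intro z τ hτ
    by_cases h : ∃ g : (B ⧸ P) ≃ₐ[A ⧸ p] (B ⧸ P), g ybar = z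
    · simp only [lift, dif_pos h]
      exact Inertia2.smul_invariant P (MulAction.mem_stabilizer_iff.mp (σ h.choose).2) hy τ hτ
    · simp only [lift, dif_neg h, smul_zero]
  set Ft : Polynomial B := ∏ z ∈ O, (X - C (lift z)) with hFt
  set F : Polynomial (B ⧸ P) := ∏ z ∈ O, (X - C z) with hF
  have hFmap : Ft.map (Ideal.Quotient.mk P) = F := by
    rw [hFt, hF, Polynomial.map_prod]
    refine Finset.prod_congr rfl (fun z hz => ?_)
    rw [Polynomial.map_sub, Polynomial.map_X, Polynomial.map_C, hlift_mk z hz]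
  have hFt_inv : ∀ (i : ℕ), ∀ τ ∈ P.inertia Γ, τ • Ft.coeff i = Ft.coeff i := by
    intro i τ hτ
    have : τ • Ft = Ft := by
      rw [hFt, Finset.smul_prod']
      refine Finset.prod_congr rfl (fun z _ => ?_)
      rw [smul_sub, Polynomial.smul_X, Polynomial.smul_C, hlift_inv z τ hτ]
    rw [← Polynomial.coeff_smul, this]
  have hFsep : F.Separable := by
    rw [hF, Polynomial.separable_prod_X_sub_C_iff']
    intro a _ b _ hab; exact hab
  have hF_inv : ∀ (g : (B ⧸ P) ≃ₐ[A ⧸ p] (B ⧸ P)) (i : ℕ), g (F.coeff i) = F.coeff i := by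
    intro g i
    have hOg : O.image g = O := by
      ext z
      simp only [hO, Finset.mem_image, Finset.mem_univ, true_and, exists_exists_eq_and]
      constructor
      · rintro ⟨h, rfl⟩; exact ⟨g * h, rfl⟩
      · rintro ⟨h, rfl⟩; exact ⟨g⁻¹ * h, by simp [AlgEquiv.mul_apply]⟩
    have hmap : F.map (g : (B ⧸ P) →+* (B ⧸ P)) = F := by
      rw [hF, Polynomial.map_prod]
      conv_rhs => rw [← hOg]
      rw [Finset.prod_image (fun a _ b _ hab => g.injective hab)]
      refine Finset.prod_congr rfl (fun z _ => ?_)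
      simp
    have := congrArg (fun q => q.coeff i) hmap
    simpa [Polynomial.coeff_map] using this
  have hFroot : F.eval ybar = 0 := by
    rw [hF, Polynomial.eval_prod]
    refine Finset.prod_eq_zero (i := ybar) ?_ (by simp)
    rw [hO, Finset.mem_image]
    exact ⟨1, Finset.mem_univ _, rfl⟩
  -- the polynomial
  set ν : B → B := fun w => cosetTr Γ P (e * (b * w)) with hν
  have hν0 : ν 0 = 0 := by simp [hν, cosetTr]
  set gp : Polynomial B := ∑ i ∈ Finset.range (Ft.natDegree + 1), C (ν (Ft.coeff i)) * X ^ i with hgp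
  have hcoeff : ∀ j, gp.coeff j = ν (Ft.coeff j) := by
    intro j
    rw [hgp, Polynomial.finsetSum_coeff]
    simp only [Polynomial.coeff_C_mul_X_pow]
    by_cases hj : j ∈ Finset.range (Ft.natDegree + 1)
    · rw [Finset.sum_eq_single j]
      · simp
      · intro i _ hij; simp [Ne.symm hij]
      · intro h; exact absurd hj h
    · rw [Finset.sum_eq_zero]
      · have : Ft.coeff j = 0 := Polynomial.coeff_eq_zero_of_natDegree_lt (by
          simp only [Finset.mem_range, not_lt] at hj; omega)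
        rw [this, hν0]
      · intro i hi
        have : j ≠ i := fun h => hj (h ▸ hi)
        simp [this]
  have hinvw : ∀ i, ∀ τ ∈ P.inertia Γ, τ • (e * (b * Ft.coeff i)) = e * (b * Ft.coeff i) := by
    intro i τ hτ
    rw [smul_mul', smul_mul', heT τ hτ, hbT τ hτ, hFt_inv i τ hτ]
  set t : B ⧸ P := ∑ g : ((B ⧸ P) ≃ₐ[A ⧸ p] (B ⧸ P)), g (Ideal.Quotient.mk P b) with ht
  have hgmap : gp.map (Ideal.Quotient.mk P) = C t * F := by
    ext i
    rw [Polynomial.coeff_map, hcoeff, Polynomial.coeff_C_mul, hν]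
    simp only
    rw [mk_cosetTr P e (b * Ft.coeff i) he1 heγ, ht, Finset.sum_mul]
    refine Finset.sum_congr rfl (fun g _ => ?_)
    rw [map_mul, map_mul, ← Polynomial.coeff_map, hFmap, hF_inv g i]
  refine ⟨gp, ?_, ?_, ?_⟩
  · intro i γ
    rw [hcoeff]
    exact smul_cosetTr P (hinvw i) γ
  · rw [hgmap]
    exact Polynomial.Separable.unit_mul (Polynomial.isUnit_C.mpr (IsUnit.mk0 _ hb)) hFsep
  · rw [← Ideal.Quotient.eq_zero_iff_mem]
    have hxy' : Ideal.Quotient.mk P x = ybar := by rw [hybar, Ideal.Quotient.eq]; exact hxy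
    have : Ideal.Quotient.mk P (Polynomial.aeval x gp)
        = (gp.map (Ideal.Quotient.mk P)).eval (Ideal.Quotient.mk P x) := by
      rw [Polynomial.eval_map, Polynomial.eval₂_at_apply]; simp
    rw [this, hgmap, hxy', Polynomial.eval_mul, hFroot, mul_zero]

end Groth.Agent.Lib.Helper12.Inertia6
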