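import Mathlib
import Groth.Agent.Lib.Helper12.Inertia3

namespace Groth.Agent.Lib.Helper12.Inertia7

open Polynomial Pointwise Groth.Agent.Lib.Helper12.Inertia3

variable {B : Type*} [CommRing B] {Γ : Type*} [Group Γ] [MulSemiringAction Γ B] [Finite Γ]

theorem partA (Ω : Subgroup Γ) (P : Ideal B) [P.IsPrime] (γ : Γ) :
    (∀ x : B, (∀ ω ∈ Ω, ω • x = x) → (x ∈ P ↔ γ • x ∈ P)) ↔
        ∃ ω ∈ Ω, ∀ x : B, x ∈ P ↔ (γ * ω) • x ∈ P := by
  constructor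
  · intro h
    set C : Subring B := FixedPoints.subring B Ω with hC
    have hunder : P.under C = (γ⁻¹ • P).under C := by
      ext c
      rw [Ideal.under_def, Ideal.under_def, Ideal.mem_comap, Ideal.mem_comap,
        Ideal.mem_inv_pointwise_smul_iff]
      exact h c.1 (fun ω hω => c.2 ⟨ω, hω⟩)
    obtain ⟨ω, hω⟩ := Algebra.IsInvariant.exists_smul_of_under_eq C B Ω P (γ⁻¹ • P) hunder
    refine ⟨ω.1, ω.2, fun x => ?_⟩
    rw [mul_smul]
    calc x ∈ P ↔ ω.1 • x ∈ ω.1 • P := (Ideal.smul_mem_pointwise_smul_iff).symm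
      _ ↔ ω.1 • x ∈ γ⁻¹ • P := by rw [hω]; rfl
      _ ↔ γ • ω.1 • x ∈ P := Ideal.mem_inv_pointwise_smul_iff
  · rintro ⟨ω, hω, h⟩ x hx
    rw [h x, mul_smul, hx ω hω]

theorem partB (Ω : Subgroup Γ) (P : Ideal B) [P.IsPrime] (γ : Γ) :
    (∀ x : B, (∀ ω ∈ Ω, ω • x = x) → γ • x - x ∈ P) ↔
        ∃ ω ∈ Ω, ∀ x : B, (γ * ω) • x - x ∈ P := by
  constructor
  · intro h
    have hA : ∀ x : B, (∀ ω ∈ Ω, ω • x = x) → (x ∈ P ↔ γ • x ∈ P) := by
      intro x hx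
      have := h x hx
      constructor
      · intro hxP
        have : γ • x = (γ • x - x) + x := by ring
        rw [this]; exact P.add_mem (h x hx) hxP
      · intro hxP
        have : x = γ • x - (γ • x - x) := by ring
        rw [this]; exact P.sub_mem hxP (h x hx)
    obtain ⟨ω₁, hω₁, hstab⟩ := (partA Ω P γ).mp hA
    set δ : Γ := γ * ω₁ with hδ
    have hδP : δ • P = P := by
      ext x
      rw [Ideal.mem_pointwise_smul_iff_inv_smul_mem, hstab (δ⁻¹ • x), smul_inv_smul]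
    set A : Subring B := FixedPoints.subring B Γ with hA'
    set C : Subring B := FixedPoints.subring B Ω with hC
    set PC : Ideal C := P.under C with hPC
    let δbar : (B ⧸ P) ≃ₐ[A ⧸ P.under A] (B ⧸ P) :=
      Ideal.Quotient.stabilizerHom P (P.under A) Γ ⟨δ, MulAction.mem_stabilizer_iff.mpr hδP⟩
    let δ' : (B ⧸ P) ≃ₐ[C ⧸ PC] (B ⧸ P) := AlgEquiv.ofRingEquiv (f := δbar.toRingEquiv) (by
      intro r
      obtain ⟨c, rfl⟩ := Ideal.Quotient.mk_surjective r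
      rw [Ideal.Quotient.algebraMap_mk_of_liesOver]
      change Ideal.Quotient.mk P (δ • (c : B)) = _
      have hc1 : ω₁ • (c : B) = c := c.2 ⟨ω₁, hω₁⟩
      rw [Ideal.Quotient.eq, hδ, mul_smul, hc1]
      exact h c.1 (fun ω hω => c.2 ⟨ω, hω⟩))
    obtain ⟨ω₃, hω₃⟩ := Ideal.Quotient.stabilizerHom_surjective Ω PC P δ'
    refine ⟨ω₁ * (ω₃.1.1)⁻¹, Ω.mul_mem hω₁ (Ω.inv_mem ω₃.1.2), fun x => ?_⟩
    have key := DFunLike.congr_fun hω₃ (Ideal.Quotient.mk P ((ω₃.1.1)⁻¹ • x))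
    have k1 : (Ideal.Quotient.stabilizerHom P PC Ω ω₃) (Ideal.Quotient.mk P ((ω₃.1.1)⁻¹ • x))
        = Ideal.Quotient.mk P (ω₃.1.1 • ((ω₃.1.1)⁻¹ • x)) := rfl
    have k2 : δ' (Ideal.Quotient.mk P ((ω₃.1.1)⁻¹ • x))
        = Ideal.Quotient.mk P (δ • ((ω₃.1.1)⁻¹ • x)) := rfl
    rw [k1, k2, smul_inv_smul, Ideal.Quotient.eq] at key
    have : (γ * (ω₁ * (ω₃.1.1)⁻¹)) • x - x = -(x - δ • ((ω₃.1.1)⁻¹ • x)) := by
      rw [hδ, ← mul_assoc, mul_smul (γ * ω₁)]; ring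
    rw [this]; exact P.neg_mem key
  · rintro ⟨ω, hω, h⟩ x hx
    have := h x
    rwa [mul_smul, hx ω hω] at this

end Groth.Agent.Lib.Helper12.Inertia7
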