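import Mathlib

namespace Groth.Agent.Lib.Helper12.Inertia8

open IsLocalRing

variable {B : Type*} [CommRing B] [IsLocalRing B]
  {Γ : Type*} [Group Γ] [MulSemiringAction Γ B]

theorem res_wd {b u u' : B} (hb : b ≠ 0) (h : b * u = b * u') : residue B u = residue B u' := by
  by_contra hne
  have h1 : residue B (u - u') ≠ 0 := by rwa [map_sub, sub_ne_zero]
  have h2 : IsUnit (u - u') := by
    rw [Ne, residue_eq_zero_iff] at h1
    exact (IsLocalRing.notMem_maximalIdeal).mp h1
  have h3 : b * (u - u') = 0 := by rw [mul_sub, h, sub_self]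
  exact hb (h2.mul_left_eq_zero.mp h3)

section
variable (hin : ∀ (γ : Γ) (b : B), γ • b - b ∈ maximalIdeal B)
  (hst : ∀ (γ : Γ) (b : B), ∃ u : B, γ • b = b * u)

include hin in
theorem res_smul (γ : Γ) (b : B) : residue B (γ • b) = residue B b := by
  have := hin γ b
  rw [← residue_eq_zero_iff, map_sub, sub_eq_zero] at this
  exact this

/-- the local character value -/
noncomputable def θ (γ : Γ) (b : B) : ResidueField B := residue B (Classical.choose (hst γ b))

theorem θ_eq {γ : Γ} {b u : B} (hb : b ≠ 0) (h : γ • b = b * u) : θ hst γ b = residue B u := by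
  unfold θ
  exact res_wd hb ((Classical.choose_spec (hst γ b)).symm.trans h)

theorem θ_one {b : B} (hb : b ≠ 0) : θ hst 1 b = 1 := by
  rw [θ_eq hst hb (u := 1) (by simp), map_one]

include hin in
theorem θ_mul (γ δ : Γ) {b : B} (hb : b ≠ 0) : θ hst (γ * δ) b = θ hst γ b * θ hst δ b := by
  have h1 := Classical.choose_spec (hst γ b)
  have h2 := Classical.choose_spec (hst δ b)
  have : (γ * δ) • b = b * (Classical.choose (hst γ b) * γ • Classical.choose (hst δ b)) := by
    rw [mul_smul]
    conv_lhs => rw [h2]
    rw [smul_mul']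
    conv_lhs => rw [h1]
    ring
  rw [θ_eq hst hb this, map_mul, res_smul hin]
  rfl

open Classical in
/-- The total character. -/
noncomputable def Θ : Γ →* (B → ResidueField B) where
  toFun γ := fun b => if b = 0 then 1 else θ hst γ b
  map_one' := by
    funext b
    by_cases hb : b = 0
    · simp [hb]
    · simp [hb, θ_one hst hb]
  map_mul' γ δ := by
    funext b
    by_cases hb : b = 0
    · simp [hb]
    · simp [hb, θ_mul hin hst γ δ hb]

theorem Θ_apply (γ : Γ) {b : B} (hb : b ≠ 0) : Θ hin hst γ b = θ hst γ b := by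
  simp [Θ, hb]

theorem Θ_eq_one_iff (γ : Γ) :
    Θ hin hst γ = 1 ↔ ∀ b : B, ∃ x ∈ maximalIdeal B, γ • b = b + b * x := by
  constructor
  · intro h b
    by_cases hb : b = 0
    · exact ⟨0, Ideal.zero_mem _, by simp [hb]⟩
    · have h1 := congrFun h b
      rw [Θ_apply hin hst γ hb, Pi.one_apply] at h1
      have hc := Classical.choose_spec (hst γ b)
      refine ⟨Classical.choose (hst γ b) - 1, ?_, ?_⟩
      · rw [← residue_eq_zero_iff, map_sub, map_one, sub_eq_zero]; exact h1
      · calc γ • b = b * Classical.choose (hst γ b) := hc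
          _ = _ := by ring
  · intro h
    funext b
    by_cases hb : b = 0
    · simp [Θ, hb]
    · obtain ⟨x, hx, hbx⟩ := h b
      rw [Θ_apply hin hst γ hb, θ_eq hst hb (u := 1 + x) (by rw [hbx]; ring), Pi.one_apply,
        map_add, map_one, (residue_eq_zero_iff x).mpr hx, add_zero]

/-- Key torsion lemma: an element of `S` of order invertible in `k` acts trivially. -/
theorem smul_eq_of_pow_eq_one {γ : Γ} (hγ : Θ hin hst γ = 1) {l : ℕ} (hl : γ ^ l = 1)
    (hlk : (l : ResidueField B) ≠ 0) (b : B) : γ • b = b := by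
  -- norm element
  set N : B → B := fun c => ∑ i ∈ Finset.range l, (γ ^ i) • c with hN
  have hpow : ∀ i : ℕ, Θ hin hst (γ ^ i) = 1 := fun i => by rw [map_pow, hγ, one_pow]
  have hNunit : ∀ c : B, N c = 0 → c = 0 := by
    intro c hc
    have hx : ∀ i : ℕ, ∃ x ∈ maximalIdeal B, (γ ^ i) • c = c + c * x :=
      fun i => (Θ_eq_one_iff hin hst (γ ^ i)).mp (hpow i) c
    choose x hxm hxc using hx
    have h1 : N c = c * ((l : B) + ∑ i ∈ Finset.range l, x i) := by
      rw [hN]
      simp only [hxc]
      rw [Finset.sum_add_distrib, Finset.sum_const, Finset.card_range, ← Finset.mul_sum]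
      simp [nsmul_eq_mul]; ring
    have h2 : IsUnit ((l : B) + ∑ i ∈ Finset.range l, x i) := by
      rw [← IsLocalRing.notMem_maximalIdeal, ← residue_eq_zero_iff, map_add, map_natCast]
      have : residue B (∑ i ∈ Finset.range l, x i) = 0 := by
        rw [residue_eq_zero_iff]
        exact Ideal.sum_mem _ (fun i _ => hxm i)
      rw [this, add_zero]; exact hlk
    rw [h1] at hc
    exact h2.mul_left_eq_zero.mp hc
  have hNinv : ∀ c : B, γ • N c = N c := by
    intro c
    rw [hN]
    simp only
    rw [Finset.smul_sum]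
    have : ∀ i : ℕ, γ • (γ ^ i) • c = (γ ^ (i + 1)) • c := by
      intro i; rw [pow_succ', mul_smul]
    simp_rw [this]
    have h1 := Finset.sum_range_succ (fun i => (γ ^ i) • c) l
    have h2 := Finset.sum_range_succ' (fun i => (γ ^ i) • c) l
    rw [h1] at h2
    simp only [hl, one_smul, pow_zero] at h2
    exact (add_right_cancel h2).symm
  have hNN : ∀ c : B, N (N c) = (l : B) * N c := by
    intro c
    have : ∀ i : ℕ, (γ ^ i) • N c = N c := by
      intro i
      induction i with
      | zero => simp
      | succ i ih => rw [pow_succ', mul_smul, ih, hNinv]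
    change ∑ i ∈ Finset.range l, (γ ^ i) • N c = _
    simp only [this]
    rw [Finset.sum_const, Finset.card_range, nsmul_eq_mul]
  have hcast : ∀ (δ : Γ) (n : ℕ), δ • (n : B) = n :=
    fun δ n => map_natCast (MulSemiringAction.toRingHom Γ B δ) n
  have hNadd : ∀ c d : B, N (c - d) = N c - N d := by
    intro c d
    rw [hN]; simp only [smul_sub, Finset.sum_sub_distrib]
  have hNmul : ∀ c : B, N ((l : B) * c) = (l : B) * N c := by
    intro c
    rw [hN]; simp only [smul_mul', Finset.mul_sum]
    refine Finset.sum_congr rfl (fun i _ => ?_)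
    rw [hcast]
  have hb' : (l : B) * b - N b = 0 := by
    apply hNunit
    rw [hNadd, hNmul, hNN, sub_self]
  have hlb : (l : B) * b = N b := sub_eq_zero.mp hb'
  have hlunit : IsUnit (l : B) := by
    rw [← IsLocalRing.notMem_maximalIdeal, ← residue_eq_zero_iff, map_natCast]; exact hlk
  have h3 : (l : B) * (γ • b) = (l : B) * b := by
    have := hNinv b
    rw [← hlb, smul_mul', hcast] at this
    exact this
  exact hlunit.mul_left_cancel h3

end

end Groth.Agent.Lib.Helper12.Inertia8
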