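import Mathlib
import Groth.Agent.Lib.Helper12.Inertia8

namespace Groth.Agent.Lib.Helper12.Inertia9

open IsLocalRing Groth.Agent.Lib.Helper12.Inertia8

variable {B : Type*} [CommRing B] [IsLocalRing B]
  {Γ : Type*} [Group Γ] [Finite Γ] [MulSemiringAction Γ B] [FaithfulSMul Γ B]
  (hin : ∀ (γ : Γ) (b : B), γ • b - b ∈ maximalIdeal B)
  (hst : ∀ (γ : Γ) (b : B), ∃ u : B, γ • b = b * u)

theorem eq_one_of_pow_eq_one {γ : Γ} (hγ : Θ hin hst γ = 1) {l : ℕ} (hl : γ ^ l = 1)
    (hlk : (l : ResidueField B) ≠ 0) : γ = 1 := by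
  apply FaithfulSMul.eq_of_smul_eq_smul (α := B)
  intro b
  rw [one_smul]
  exact smul_eq_of_pow_eq_one hin hst hγ hl hlk b

/-- Part (4): primitive roots of unity. -/
theorem exists_primitiveRoot (γ : Γ) (n : ℕ) (hn : 0 < n) (hγn : Θ hin hst (γ ^ n) = 1)
    (hmin : ∀ i : ℕ, 0 < i → i < n → Θ hin hst (γ ^ i) ≠ 1) :
    ∃ ζ : ResidueField B, IsPrimitiveRoot ζ n := by
  haveI : NeZero n := ⟨hn.ne'⟩
  set μ := rootsOfUnity n (ResidueField B) with hμ
  set d := Nat.card μ with hd
  have hdpos : 0 < d := Nat.card_pos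
  have hdn : d ≤ n := card_rootsOfUnity (ResidueField B) n
  -- every component of Θ γ is killed by d
  have hcomp : ∀ b : B, (Θ hin hst γ b) ^ d = 1 := by
    intro b
    have h1 : (Θ hin hst γ b) ^ n = 1 := by
      have := congrFun hγn b
      rwa [map_pow, Pi.pow_apply, Pi.one_apply] at this
    have hne : Θ hin hst γ b ≠ 0 := by
      intro h0
      rw [h0, zero_pow hn.ne'] at h1
      exact zero_ne_one h1
    set u : (ResidueField B)ˣ := Units.mk0 _ hne with hu
    have hmem : u ∈ μ := by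
      rw [hμ, mem_rootsOfUnity]
      apply Units.ext
      simpa [hu] using h1
    have h2 : (⟨u, hmem⟩ : μ) ^ d = 1 := by
      rw [hd]; exact pow_card_eq_one'
    have h3 := congrArg (fun v : μ => ((v : (ResidueField B)ˣ) : ResidueField B)) h2
    simpa [hu] using h3
  have hγd : Θ hin hst (γ ^ d) = 1 := by
    rw [map_pow]
    funext b
    rw [Pi.pow_apply, hcomp b, Pi.one_apply]
  have hnd : n ≤ d := by
    by_contra hlt
    exact hmin d hdpos (not_le.mp hlt) hγd
  have hdeq : d = n := le_antisymm hdn hnd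
  obtain ⟨g, hg⟩ := IsCyclic.exists_generator (α := μ)
  have hord : orderOf g = n := by
    rw [orderOf_eq_card_of_forall_mem_zpowers hg, ← hd, hdeq]
  have hprim : IsPrimitiveRoot g n := hord ▸ IsPrimitiveRoot.orderOf g
  have hprim2 : IsPrimitiveRoot ((g : (ResidueField B)ˣ)) n := by
    have := hprim.map_of_injective (f := μ.subtype) Subtype.coe_injective
    simpa using this
  exact ⟨((g : (ResidueField B)ˣ) : ResidueField B), IsPrimitiveRoot.coe_units_iff.mpr hprim2⟩

end Groth.Agent.Lib.Helper12.Inertia9
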