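import Mathlib

/-!
# Cartesian squares and flat base change (helper12)
-/

set_option autoImplicit false

namespace Groth.Agent.Lib.Helper12.IntClosedWE

open TensorProduct

section Cartesian

variable {A V K L B : Type*} [CommRing A] [CommRing V] [CommRing K] [CommRing L] [CommRing B]
  [Algebra A V] [Algebra A K] [Algebra A L] [Algebra A B] [Module.Flat A B]
  (g : V →ₐ[A] L) (h : K →ₐ[A] L)

theorem map_id_eq_rTensor {V L : Type*} [CommRing V] [CommRing L] [Algebra A V] [Algebra A L]
    (g : V →ₐ[A] L) (c : V ⊗[A] B) :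
    Algebra.TensorProduct.map g (AlgHom.id A B) c = g.toLinearMap.rTensor B c := by
  induction c using TensorProduct.induction_on with
  | zero => simp
  | tmul x y => simp
  | add x y hx hy => rw [map_add, map_add, hx, hy]

include g h in
theorem cartesian_tensor
    (hcart : ∀ v k, g v = h k → ∃ a : A, algebraMap A V a = v ∧ algebraMap A K a = k)
    (c : V ⊗[A] B) (d : K ⊗[A] B)
    (hcd : Algebra.TensorProduct.map g (AlgHom.id A B) c =
      Algebra.TensorProduct.map h (AlgHom.id A B) d) :
    ∃ b : B, (1 : V) ⊗ₜ[A] b = c ∧ (1 : K) ⊗ₜ[A] b = d := by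
  let α : A →ₗ[A] V × K := LinearMap.prod (Algebra.linearMap A V) (Algebra.linearMap A K)
  let β : V × K →ₗ[A] L := g.toLinearMap.coprod (-h.toLinearMap)
  have hex : Function.Exact α β := by
    intro x
    constructor
    · intro hx
      have hx' : g x.1 = h x.2 := by
        have : g x.1 + -(h x.2) = 0 := hx
        exact add_neg_eq_zero.1 this
      obtain ⟨a, ha1, ha2⟩ := hcart _ _ hx'
      exact ⟨a, Prod.ext ha1 ha2⟩
    · rintro ⟨a, rfl⟩
      show g (algebraMap A V a) + -(h (algebraMap A K a)) = 0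
      rw [AlgHom.commutes, AlgHom.commutes, add_neg_cancel]
  have hex' := Module.Flat.rTensor_exact B hex
  let w : (V × K) ⊗[A] B := (LinearMap.inl A V K).rTensor B c + (LinearMap.inr A V K).rTensor B d
  have h1 : β ∘ₗ LinearMap.inl A V K = g.toLinearMap := by
    ext v; simp [β]
  have h2 : β ∘ₗ LinearMap.inr A V K = -h.toLinearMap := by
    ext k; simp [β]
  have hw : β.rTensor B w = 0 := by
    show β.rTensor B ((LinearMap.inl A V K).rTensor B c + (LinearMap.inr A V K).rTensor B d) = 0
    rw [map_add, ← LinearMap.rTensor_comp_apply, ← LinearMap.rTensor_comp_apply, h1, h2,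
      LinearMap.rTensor_neg, LinearMap.neg_apply, ← map_id_eq_rTensor, ← map_id_eq_rTensor, hcd,
      add_neg_cancel]
  obtain ⟨u, hu⟩ := (hex' w).1 hw
  refine ⟨TensorProduct.lid A B u, ?_, ?_⟩
  · have h3 := congrArg ((LinearMap.fst A V K).rTensor B) hu
    have hu' : u = (1 : A) ⊗ₜ[A] (TensorProduct.lid A B u) := by
      rw [← TensorProduct.lid_symm_apply, LinearEquiv.symm_apply_apply]
    rw [hu'] at h3
    simp only [w, map_add, ← LinearMap.rTensor_comp_apply, LinearMap.rTensor_tmul] at h3
    have e1 : LinearMap.fst A V K ∘ₗ LinearMap.inl A V K = LinearMap.id := by ext; simp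
    have e2 : LinearMap.fst A V K ∘ₗ LinearMap.inr A V K = 0 := by ext; simp
    rw [e1, e2] at h3
    simpa [α] using h3
  · have h3 := congrArg ((LinearMap.snd A V K).rTensor B) hu
    have hu' : u = (1 : A) ⊗ₜ[A] (TensorProduct.lid A B u) := by
      rw [← TensorProduct.lid_symm_apply, LinearEquiv.symm_apply_apply]
    rw [hu'] at h3
    simp only [w, map_add, ← LinearMap.rTensor_comp_apply, LinearMap.rTensor_tmul] at h3
    have e1 : LinearMap.snd A V K ∘ₗ LinearMap.inl A V K = 0 := by ext; simp
    have e2 : LinearMap.snd A V K ∘ₗ LinearMap.inr A V K = LinearMap.id := by ext; simp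
    rw [e1, e2] at h3
    simpa [α] using h3

end Cartesian

section Epi

universe u

open CategoryTheory

variable {A V L B : Type u} [CommRing A] [CommRing V] [CommRing L] [CommRing B]
  [Algebra A V] [Algebra A L] [Algebra A B] (g : V →ₐ[A] L)

theorem epi_tensor_map (hg : Epi (CommRingCat.ofHom g.toRingHom)) :
    Epi (CommRingCat.ofHom (Algebra.TensorProduct.map g (AlgHom.id A B)).toRingHom) := by
  refine ⟨fun {T} u v huv => ?_⟩
  have huv' : ∀ c : V ⊗[A] B, u.hom (Algebra.TensorProduct.map g (AlgHom.id A B) c) =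
      v.hom (Algebra.TensorProduct.map g (AlgHom.id A B) c) := by
    intro c
    exact congrArg (fun m => m.hom c) huv
  let u₁ : L →+* T := u.hom.comp (Algebra.TensorProduct.includeLeftRingHom : L →+* L ⊗[A] B)
  let v₁ : L →+* T := v.hom.comp (Algebra.TensorProduct.includeLeftRingHom : L →+* L ⊗[A] B)
  have h1 : CommRingCat.ofHom g.toRingHom ≫ CommRingCat.ofHom u₁ =
      CommRingCat.ofHom g.toRingHom ≫ CommRingCat.ofHom v₁ := by
    ext x
    have := huv' (x ⊗ₜ[A] (1 : B))
    simpa [u₁, v₁] using this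
  have h2 : u₁ = v₁ := by
    have := hg.left_cancellation _ _ h1
    exact congrArg CommRingCat.Hom.hom this
  apply CommRingCat.hom_ext
  apply RingHom.ext
  intro z
  induction z using TensorProduct.induction_on with
  | zero => simp
  | add x y hx hy => rw [map_add, map_add, hx, hy]
  | tmul l b =>
    have e : l ⊗ₜ[A] b = (l ⊗ₜ[A] (1 : B)) * ((1 : L) ⊗ₜ[A] b) := by
      rw [Algebra.TensorProduct.tmul_mul_tmul, mul_one, one_mul]
    have e2 : (1 : L) ⊗ₜ[A] b =
        Algebra.TensorProduct.map g (AlgHom.id A B) ((1 : V) ⊗ₜ[A] b) := by simp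
    have e3 : u.hom (l ⊗ₜ[A] (1 : B)) = v.hom (l ⊗ₜ[A] (1 : B)) :=
      congrArg (fun m : L →+* T => m l) h2
    rw [e, map_mul, map_mul, e3, e2, huv']

end Epi

end Groth.Agent.Lib.Helper12.IntClosedWE
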