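import Mathlib
import Groth.Agent.Lib.Helper12.HomGlue6
import Groth.Agent.Lib.Helper12.GeomP2
import Groth.Agent.Lib.Helper5.LimitBaseChange
set_option autoImplicit false
set_option linter.style.haveILetI false
set_option linter.unusedSectionVars false
universe u

open CategoryTheory CategoryTheory.Limits AlgebraicGeometry TopologicalSpace Topology

namespace Groth.Agent.Lib.Helper12.H12IsoFin

open Groth.Agent.Lib.Helper29.QCoh Groth.Agent.Lib.Helper12.H12HomGlue
open Groth.Agent.Lib.Helper12.H12GeomP Groth.Agent.Lib.Helper12.IndFG Groth.Agent.Lib.Helper5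

/-- transport an isomorphism of inverse images along a factorization. -/
noncomputable def pullIsoOfFac {A B C : Scheme.{u}} (a : A ⟶ B) (b : B ⟶ C) (c : A ⟶ C)
    (h : a ≫ b = c) (F G : C.Modules)
    (e : (Scheme.Modules.pullback b).obj F ≅ (Scheme.Modules.pullback b).obj G) :
    (Scheme.Modules.pullback c).obj F ≅ (Scheme.Modules.pullback c).obj G :=
  (compIso a b c h F).symm ≪≫ (Scheme.Modules.pullback a).mapIso e ≪≫ compIso a b c h G

section
variable {k : Type u} [Field k] {X : Scheme.{u}} (p : X ⟶ Spec (CommRingCat.of k))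
  (Ω : Type u) [Field Ω] [Algebra k Ω]

theorem isIso_fgσ_bot :
    IsIso (fgσ k Ω (Opposite.op ⟨⊥, Subalgebra.fg_bot⟩)) := by
  have h1 : Function.Bijective (algebraMap k (⊥ : Subalgebra k Ω)) :=
    (Algebra.botEquiv k Ω).symm.bijective
  have : IsIso (CommRingCat.ofHom (algebraMap k (⊥ : Subalgebra k Ω))) := by
    rw [ConcreteCategory.isIso_iff_bijective]
    exact h1
  exact inferInstanceAs (IsIso (Spec.map (CommRingCat.ofHom (algebraMap k (⊥ : Subalgebra k Ω)))))

end

set_option maxHeartbeats 1600000 in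
theorem exists_finite_iso {k : Type u} [Field k] {X : Scheme.{u}}
    (p : X ⟶ Spec (CommRingCat.of k)) [LocallyOfFiniteType p] [QuasiCompact p]
    (F G : X.Modules) [F.IsQuasicoherent] [G.IsQuasicoherent] [F.IsFinitePresentation]
    [G.IsFinitePresentation] (Ω : Type u) [Field Ω] [Algebra k Ω]
    (e : (Scheme.Modules.pullback
        (pullback.fst p (Spec.map (CommRingCat.ofHom (algebraMap k Ω))))).obj F ≅
      (Scheme.Modules.pullback
        (pullback.fst p (Spec.map (CommRingCat.ofHom (algebraMap k Ω))))).obj G) :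
    ∃ (k' : Type u) (_ : Field k') (_ : Algebra k k') (_ : Module.Finite k k'),
      Nonempty ((Scheme.Modules.pullback
          (pullback.fst p (Spec.map (CommRingCat.ofHom (algebraMap k k'))))).obj F ≅
        (Scheme.Modules.pullback
          (pullback.fst p (Spec.map (CommRingCat.ofHom (algebraMap k k'))))).obj G) := by
  let D := fgD' k Ω
  let c := fgC' k Ω
  have hc := fgIsLimit' k Ω
  let i₀ : (FGSub k Ω)ᵒᵖ := Opposite.op ⟨⊥, Subalgebra.fg_bot⟩
  haveI := isIso_fgσ_bot (k := k) Ω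
  let σ₀ := fgσ k Ω i₀
  let g : X ⟶ D.obj i₀ := p ≫ inv σ₀
  have hg : g ≫ σ₀ = p := by simp [g]
  have : ∀ {i j : (FGSub k Ω)ᵒᵖ} (f : i ⟶ j), IsAffineHom (D.map f) := fun f => inferInstance
  let t : Over i₀ := Over.mk (𝟙 i₀)
  let D' := bcDiagram D i₀ g
  let c' := bcCone D c i₀ g
  have hc' := isLimitBcCone D c hc i₀ g
  let snd_t : D'.obj t ⟶ X := pullback.snd (D.map t.hom) g
  haveI : IsIso (D.map t.hom) := by
    have : D.map t.hom = 𝟙 _ := D.map_id i₀
    rw [this]
    infer_instance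
  haveI : IsIso snd_t := inferInstanceAs (IsIso (pullback.snd (D.map t.hom) g))
  haveI : CompactSpace ↥(D'.obj t) := QuasiCompact.compactSpace_of_compactSpace (snd_t ≫ p)
  haveI : IsLocallyNoetherian (D'.obj t) := LocallyOfFiniteType.isLocallyNoetherian (snd_t ≫ p)
  -- step 1
  let pr₂ : c'.pt ⟶ X := pullback.snd (c.π.app i₀) g
  have hcond : pr₂ ≫ p = pullback.fst (c.π.app i₀) g ≫
      Spec.map (CommRingCat.ofHom (algebraMap k Ω)) := by
    have h1 : c.π.app i₀ ≫ σ₀ = Spec.map (CommRingCat.ofHom (algebraMap k Ω)) :=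
      fgπ_fgσ k Ω i₀
    have h2 := pullback.condition (f := c.π.app i₀) (g := g)
    calc pr₂ ≫ p = (pr₂ ≫ g) ≫ σ₀ := by rw [Category.assoc, hg]
      _ = (pullback.fst (c.π.app i₀) g ≫ c.π.app i₀) ≫ σ₀ := congrArg (· ≫ σ₀) h2.symm
      _ = pullback.fst (c.π.app i₀) g ≫ (c.π.app i₀ ≫ σ₀) := Category.assoc _ _ _
      _ = _ := congrArg _ h1
  let θ : c'.pt ⟶ pullback p (Spec.map (CommRingCat.ofHom (algebraMap k Ω))) :=
    pullback.lift pr₂ (pullback.fst (c.π.app i₀) g) hcond
  have hθ : θ ≫ pullback.fst p (Spec.map (CommRingCat.ofHom (algebraMap k Ω))) = pr₂ :=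
    pullback.lift_fst _ _ _
  have e1 := pullIsoOfFac θ _ pr₂ hθ F G e
  have hπt : c'.π.app t ≫ snd_t = pr₂ := bcCone_π_app_snd D c i₀ g t
  have e2 : (Scheme.Modules.pullback (c'.π.app t)).obj ((Scheme.Modules.pullback snd_t).obj F) ≅
      (Scheme.Modules.pullback (c'.π.app t)).obj ((Scheme.Modules.pullback snd_t).obj G) :=
    compIso (c'.π.app t) snd_t pr₂ hπt F ≪≫ e1 ≪≫ (compIso (c'.π.app t) snd_t pr₂ hπt G).symm
  obtain ⟨j, φ, ⟨ε⟩⟩ := (nonempty_iso_pullback_iff_stage D' c' hc' t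
    ((Scheme.Modules.pullback snd_t).obj F) ((Scheme.Modules.pullback snd_t).obj G)).mp ⟨e2⟩
  -- step 2
  let snd_j : D'.obj j ⟶ X := pullback.snd (D.map j.hom) g
  have hφ : D'.map φ ≫ snd_t = snd_j := by
    exact pullback.lift_snd _ _ _
  have e3 : (Scheme.Modules.pullback snd_j).obj F ≅ (Scheme.Modules.pullback snd_j).obj G :=
    (compIso (D'.map φ) snd_t snd_j hφ F).symm ≪≫ ε ≪≫ compIso (D'.map φ) snd_t snd_j hφ G
  -- step 3
  obtain ⟨m, hm⟩ := Ideal.exists_maximal (j.left.unop.1 : Subalgebra k Ω)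
  letI : Field ((j.left.unop.1 : Subalgebra k Ω) ⧸ m) := Ideal.Quotient.field m
  haveI : Algebra.FiniteType k (j.left.unop.1 : Subalgebra k Ω) :=
    (Subalgebra.fg_iff_finiteType _).mp j.left.unop.2
  haveI : Algebra.FiniteType k ((j.left.unop.1 : Subalgebra k Ω) ⧸ m) :=
    Algebra.FiniteType.of_surjective (Ideal.Quotient.mkₐ k m) Ideal.Quotient.mk_surjective
  haveI : Module.Finite k ((j.left.unop.1 : Subalgebra k Ω) ⧸ m) :=
    finite_of_finite_type_of_isJacobsonRing k _
  refine ⟨(j.left.unop.1 : Subalgebra k Ω) ⧸ m, inferInstance, inferInstance, inferInstance, ⟨?_⟩⟩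
  have hcond' : (pullback.snd p (Spec.map (CommRingCat.ofHom
      (algebraMap k ((j.left.unop.1 : Subalgebra k Ω) ⧸ m)))) ≫
      Spec.map (CommRingCat.ofHom (Ideal.Quotient.mk m))) ≫ D.map j.hom =
      pullback.fst p (Spec.map (CommRingCat.ofHom
        (algebraMap k ((j.left.unop.1 : Subalgebra k Ω) ⧸ m)))) ≫ g := by
    rw [← cancel_mono σ₀]
    have h3 : D.map j.hom ≫ σ₀ = fgσ k Ω j.left := fgσ_map k Ω j.hom
    have h4 : Spec.map (CommRingCat.ofHom (Ideal.Quotient.mk m)) ≫ fgσ k Ω j.left =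
        Spec.map (CommRingCat.ofHom
          (algebraMap k ((j.left.unop.1 : Subalgebra k Ω) ⧸ m))) := by
      exact (Spec.map_comp (CommRingCat.ofHom (algebraMap k (j.left.unop.1 : Subalgebra k Ω)))
        (CommRingCat.ofHom (Ideal.Quotient.mk m))).symm
    calc _ = pullback.snd p (Spec.map (CommRingCat.ofHom
          (algebraMap k ((j.left.unop.1 : Subalgebra k Ω) ⧸ m)))) ≫
          (Spec.map (CommRingCat.ofHom (Ideal.Quotient.mk m)) ≫ (D.map j.hom ≫ σ₀)) := by
          simp only [Category.assoc]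
      _ = pullback.snd p (Spec.map (CommRingCat.ofHom
          (algebraMap k ((j.left.unop.1 : Subalgebra k Ω) ⧸ m)))) ≫
          Spec.map (CommRingCat.ofHom
            (algebraMap k ((j.left.unop.1 : Subalgebra k Ω) ⧸ m))) := by
          exact congrArg _ ((congrArg _ h3).trans h4)
      _ = _ := by rw [← pullback.condition, Category.assoc, hg]
  let ρ : pullback p (Spec.map (CommRingCat.ofHom
      (algebraMap k ((j.left.unop.1 : Subalgebra k Ω) ⧸ m)))) ⟶ D'.obj j :=
    pullback.lift _ _ hcond'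
  have hρ : ρ ≫ snd_j = pullback.fst p _ := pullback.lift_snd _ _ _
  exact pullIsoOfFac ρ snd_j _ hρ F G e3

end Groth.Agent.Lib.Helper12.H12IsoFin
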