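import Mathlib
import Groth.Agent.Lib.Helper12.GeomP3
import Groth.Agent.Lib.Helper12.IsoFin
set_option autoImplicit false
set_option linter.style.haveILetI false
set_option linter.unusedSectionVars false
universe u

open CategoryTheory CategoryTheory.Limits AlgebraicGeometry TopologicalSpace Topology

namespace Groth.Agent.Lib.Helper12.H12IsoFin

open Groth.Agent.Lib.Helper12.H12GeomP Groth.Agent.Lib.Helper12.IndFG

section
variable {k : Type u} [Field k] (K : Type u) [Field K] [Algebra k K]

/-- the pullback square over the bottom stage of the system of f.g. subalgebras. -/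
theorem isPullback_bot {X : Scheme.{u}} (p : X ⟶ Spec (CommRingCat.of k)) {W : Scheme.{u}}
    (w : W ⟶ Spec (CommRingCat.of k)) (w' : W ⟶ (fgD' k K).obj (Opposite.op ⟨⊥, Subalgebra.fg_bot⟩))
    (hw : w' ≫ fgσ k K (Opposite.op ⟨⊥, Subalgebra.fg_bot⟩) = w) :
    haveI := isIso_fgσ_bot (k := k) K
    IsPullback (pullback.fst p w) (pullback.snd p w)
      (p ≫ inv (fgσ k K (Opposite.op ⟨⊥, Subalgebra.fg_bot⟩))) w' := by
  haveI := isIso_fgσ_bot (k := k) K
  refine (IsPullback.of_hasPullback p w).of_iso (Iso.refl _) (Iso.refl _) (Iso.refl _)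
    (asIso (inv (fgσ k K (Opposite.op ⟨⊥, Subalgebra.fg_bot⟩)))) ?_ ?_ ?_ ?_
  · simp
  · simp
  · simp
  · rw [Iso.refl_hom, Category.id_comp, asIso_hom, ← hw, Category.assoc, IsIso.hom_inv_id,
      Category.comp_id]

end

set_option maxHeartbeats 1600000 in
theorem exists_finite_schemeIso {k : Type u} [Field k] {X Y : Scheme.{u}}
    (p : X ⟶ Spec (CommRingCat.of k)) (q : Y ⟶ Spec (CommRingCat.of k))
    [LocallyOfFiniteType p] [QuasiCompact p] [LocallyOfFiniteType q] [QuasiCompact q]
    (K : Type u) [Field K] [Algebra k K]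
    (e : pullback p (Spec.map (CommRingCat.ofHom (algebraMap k K))) ≅
      pullback q (Spec.map (CommRingCat.ofHom (algebraMap k K))))
    (he : e.hom ≫ pullback.snd q (Spec.map (CommRingCat.ofHom (algebraMap k K))) =
      pullback.snd p (Spec.map (CommRingCat.ofHom (algebraMap k K)))) :
    ∃ (k' : Type u) (_ : Field k') (_ : Algebra k k') (_ : Module.Finite k k')
      (e' : pullback p (Spec.map (CommRingCat.ofHom (algebraMap k k'))) ≅
        pullback q (Spec.map (CommRingCat.ofHom (algebraMap k k')))),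
      e'.hom ≫ pullback.snd q (Spec.map (CommRingCat.ofHom (algebraMap k k'))) =
        pullback.snd p (Spec.map (CommRingCat.ofHom (algebraMap k k'))) := by
  let i₀ : (FGSub k K)ᵒᵖ := Opposite.op ⟨⊥, Subalgebra.fg_bot⟩
  haveI := isIso_fgσ_bot (k := k) K
  let σ₀ := fgσ k K i₀
  let u₀ : X ⟶ (fgD' k K).obj i₀ := p ≫ inv σ₀
  let v₀ : Y ⟶ (fgD' k K).obj i₀ := q ≫ inv σ₀
  have hπ : fgπ k K i₀ ≫ σ₀ = Spec.map (CommRingCat.ofHom (algebraMap k K)) := fgπ_fgσ k K i₀
  have hX := isPullback_bot K p (Spec.map (CommRingCat.ofHom (algebraMap k K))) (fgπ k K i₀) hπ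
  have hY := isPullback_bot K q (Spec.map (CommRingCat.ofHom (algebraMap k K))) (fgπ k K i₀) hπ
  haveI : IsLocallyNoetherian X := LocallyOfFiniteType.isLocallyNoetherian p
  haveI : IsLocallyNoetherian Y := LocallyOfFiniteType.isLocallyNoetherian q
  haveI : LocallyOfFinitePresentation p := inferInstance
  haveI : LocallyOfFinitePresentation q := inferInstance
  haveI : LocallyOfFinitePresentation u₀ := inferInstanceAs (LocallyOfFinitePresentation (p ≫ inv σ₀))
  haveI : LocallyOfFinitePresentation v₀ := inferInstanceAs (LocallyOfFinitePresentation (q ≫ inv σ₀))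
  haveI : QuasiCompact u₀ := inferInstanceAs (QuasiCompact (p ≫ inv σ₀))
  haveI : QuasiCompact v₀ := inferInstanceAs (QuasiCompact (q ≫ inv σ₀))
  haveI : QuasiSeparated u₀ := inferInstance
  haveI : QuasiSeparated v₀ := inferInstance
  haveI : ∀ i, CompactSpace ↥((fgD' k K).obj i) := fun i => inferInstance
  haveI : ∀ i, QuasiSeparatedSpace ↥((fgD' k K).obj i) := fun i => inferInstance
  obtain ⟨j, φ, Xj, Yj, gj, vj, pX, pY, h1, h2, h3⟩ :=
    exists_stage_hom (MorphismProperty.isomorphisms Scheme.{u}) (fgIsLimit' k K) descends_isIso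
      i₀ u₀ v₀ (pullback.snd p (Spec.map (CommRingCat.ofHom (algebraMap k K))))
      (pullback.snd q (Spec.map (CommRingCat.ofHom (algebraMap k K))))
      (pullback.fst p _) (pullback.fst q _) hX hY e.hom he
      (inferInstanceAs (IsIso e.hom))
  haveI : IsIso gj := h3
  obtain ⟨m, hm⟩ := Ideal.exists_maximal (j.unop.1 : Subalgebra k K)
  letI : Field ((j.unop.1 : Subalgebra k K) ⧸ m) := Ideal.Quotient.field m
  haveI : Algebra.FiniteType k (j.unop.1 : Subalgebra k K) :=
    (Subalgebra.fg_iff_finiteType _).mp j.unop.2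
  haveI : Algebra.FiniteType k ((j.unop.1 : Subalgebra k K) ⧸ m) :=
    Algebra.FiniteType.of_surjective (Ideal.Quotient.mkₐ k m) Ideal.Quotient.mk_surjective
  haveI : Module.Finite k ((j.unop.1 : Subalgebra k K) ⧸ m) :=
    finite_of_finite_type_of_isJacobsonRing k _
  refine ⟨(j.unop.1 : Subalgebra k K) ⧸ m, inferInstance, inferInstance, inferInstance, ?_⟩
  let r : Spec (CommRingCat.of ((j.unop.1 : Subalgebra k K) ⧸ m)) ⟶ (fgD' k K).obj j :=
    Spec.map (CommRingCat.ofHom (Ideal.Quotient.mk m))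
  have hr : (r ≫ (fgD' k K).map φ) ≫ σ₀ = Spec.map (CommRingCat.ofHom
      (algebraMap k ((j.unop.1 : Subalgebra k K) ⧸ m))) := by
    have h3 : (fgD' k K).map φ ≫ σ₀ = fgσ k K j := fgσ_map k K φ
    have h4 : r ≫ fgσ k K j = Spec.map (CommRingCat.ofHom
        (algebraMap k ((j.unop.1 : Subalgebra k K) ⧸ m))) :=
      (Spec.map_comp (CommRingCat.ofHom (algebraMap k (j.unop.1 : Subalgebra k K)))
        (CommRingCat.ofHom (Ideal.Quotient.mk m))).symm
    rw [Category.assoc]
    exact (congrArg _ h3).trans h4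
  have bigX := isPullback_bot K p _ (r ≫ (fgD' k K).map φ) hr
  have bigY := isPullback_bot K q _ (r ≫ (fgD' k K).map φ) hr
  let αX : pullback p (Spec.map (CommRingCat.ofHom
      (algebraMap k ((j.unop.1 : Subalgebra k K) ⧸ m)))) ⟶ Xj :=
    h1.lift (pullback.fst p _) (pullback.snd p _ ≫ r) (by rw [bigX.w, Category.assoc])
  have hαX : IsPullback αX (pullback.snd p _) (gj ≫ vj) r :=
    IsPullback.of_right (by rw [h1.lift_fst]; exact bigX) (h1.lift_snd _ _ _) h1
  let αY : pullback q (Spec.map (CommRingCat.ofHom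
      (algebraMap k ((j.unop.1 : Subalgebra k K) ⧸ m)))) ⟶ Yj :=
    h2.lift (pullback.fst q _) (pullback.snd q _ ≫ r) (by rw [bigY.w, Category.assoc])
  have hαY : IsPullback αY (pullback.snd q _) vj r :=
    IsPullback.of_right (by rw [h2.lift_fst]; exact bigY) (h2.lift_snd _ _ _) h2
  refine ⟨⟨hαY.lift (αX ≫ gj) (pullback.snd p _) (by rw [Category.assoc]; exact hαX.w),
    hαX.lift (αY ≫ inv gj) (pullback.snd q _) (by
      rw [Category.assoc, IsIso.inv_hom_id_assoc]; exact hαY.w), ?_, ?_⟩, ?_⟩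
  · apply hαX.hom_ext
    · rw [Category.assoc, hαX.lift_fst, ← Category.assoc, hαY.lift_fst, Category.assoc,
        IsIso.hom_inv_id, Category.comp_id, Category.id_comp]
    · rw [Category.assoc, hαX.lift_snd, hαY.lift_snd, Category.id_comp]
  · apply hαY.hom_ext
    · rw [Category.assoc, hαY.lift_fst, ← Category.assoc, hαX.lift_fst, Category.assoc,
        IsIso.inv_hom_id, Category.comp_id, Category.id_comp]
    · rw [Category.assoc, hαY.lift_snd, hαX.lift_snd, Category.id_comp]
  · exact hαY.lift_snd _ _ _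

end Groth.Agent.Lib.Helper12.H12IsoFin
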