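import Mathlib

set_option autoImplicit false
universe u v

namespace H12KD1
open KaehlerDifferential IntermediateField Polynomial TensorProduct

/-- dimension of Kähler differentials given a separating transcendental element -/
theorem finrank_of_separating (k : Type u) (F : Type v) [Field k] [Field F] [Algebra k F]
    (t : F) (ht : Transcendental k t) [Algebra.IsSeparable k⟮t⟯ F] :
    Module.finrank F Ω[F⁄k] = 1 := by
  let e : RatFunc k ≃ₐ[k] k⟮t⟯ := RatFunc.algEquivOfTranscendental t ht
  letI algXE : Algebra k[X] k⟮t⟯ :=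
    ((e : RatFunc k →+* k⟮t⟯).comp (algebraMap k[X] (RatFunc k))).toAlgebra
  have hXE : ∀ p : k[X], algebraMap k[X] k⟮t⟯ p = e (algebraMap k[X] (RatFunc k) p) := fun _ => rfl
  haveI st1 : IsScalarTower k k[X] k⟮t⟯ := by
    refine IsScalarTower.of_algebraMap_eq fun a => ?_
    rw [hXE, ← IsScalarTower.algebraMap_apply k k[X] (RatFunc k), e.commutes]
  let e' : RatFunc k ≃ₐ[k[X]] k⟮t⟯ := { e with commutes' := fun _ => rfl }
  haveI loc : IsLocalization (nonZeroDivisors k[X]) k⟮t⟯ :=
    IsLocalization.isLocalization_of_algEquiv (nonZeroDivisors k[X]) e'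
  haveI fe1 : Algebra.FormallyEtale k[X] k⟮t⟯ :=
    Algebra.FormallyEtale.of_isLocalization (nonZeroDivisors k[X])
  letI algXF : Algebra k[X] F := ((algebraMap k⟮t⟯ F).comp (algebraMap k[X] k⟮t⟯)).toAlgebra
  haveI st2 : IsScalarTower k[X] k⟮t⟯ F := IsScalarTower.of_algebraMap_eq fun _ => rfl
  haveI st3 : IsScalarTower k k[X] F := by
    refine IsScalarTower.of_algebraMap_eq fun a => ?_
    rw [IsScalarTower.algebraMap_apply k[X] k⟮t⟯ F, ← IsScalarTower.algebraMap_apply k k[X] k⟮t⟯,
      ← IsScalarTower.algebraMap_apply k k⟮t⟯ F]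
  haveI fe2 : Algebra.FormallyEtale k⟮t⟯ F := Algebra.FormallyEtale.of_isSeparable _ _
  haveI fe3 : Algebra.FormallyEtale k[X] F := Algebra.FormallyEtale.comp k[X] k⟮t⟯ F
  have e1 := tensorKaehlerEquivOfFormallyEtale k k[X] F
  rw [← e1.finrank_eq]
  have e2 : F ⊗[k[X]] Ω[k[X]⁄k] ≃ₗ[F] F ⊗[k[X]] k[X] :=
    LinearEquiv.baseChange k[X] F _ _ (KaehlerDifferential.polynomialEquiv k)
  rw [e2.finrank_eq, (TensorProduct.AlgebraTensorModule.rid k[X] F F).finrank_eq]
  exact Module.finrank_self F

end H12KD1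

namespace H12KD1
open KaehlerDifferential IntermediateField Polynomial TensorProduct

theorem finrank_eq_one (k : Type u) (F : Type v) [Field k] [PerfectField k] [Field F] [Algebra k F]
    [Algebra.EssFiniteType k F] (hx : ∃ x : F, IsTranscendenceBasis k (fun _ : Unit => x)) :
    Module.finrank F Ω[F⁄k] = 1 := by
  obtain ⟨s, hs, hsep⟩ := exists_isTranscendenceBasis_and_isSeparable_of_perfectField k F
  obtain ⟨x, hx⟩ := hx
  have hcard := IsTranscendenceBasis.lift_cardinalMk_eq hs hx
  have hs1 : s.card = 1 := by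
    have h1 : Cardinal.mk (s : Set F) = 1 := by
      simpa using hcard
    have h2 : Cardinal.mk (s : Set F) = (s.card : Cardinal) := by simp
    rw [h2] at h1
    exact_mod_cast h1
  obtain ⟨t, rfl⟩ := Finset.card_eq_one.1 hs1
  have ht : Transcendental k t := by
    have := hs.1.transcendental ⟨t, Finset.mem_singleton_self t⟩
    exact this
  rw [Finset.coe_singleton] at hsep
  exact finrank_of_separating k F t ht

end H12KD1
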