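import Mathlib
import Groth.Agent.Lib.Helper12.KD1

set_option autoImplicit false
universe u v

namespace H12KD1
open KaehlerDifferential IntermediateField Polynomial TensorProduct

/-- a linear map out of a one-dimensional space is zero or injective -/
lemma zero_or_injective {K V W : Type*} [Field K] [AddCommGroup V] [Module K V] [AddCommGroup W]
    [Module K W] (h : Module.finrank K V = 1) (f : V →ₗ[K] W) : f = 0 ∨ Function.Injective f := by
  haveI : Module.Finite K V := Module.finite_of_finrank_pos (by omega)
  by_cases h0 : f = 0
  · exact Or.inl h0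
  right
  rw [← LinearMap.ker_eq_bot]
  by_contra hk
  have h1 : 0 < Module.finrank K (LinearMap.ker f) := by
    rw [Module.finrank_pos_iff (R := K)]
    exact Submodule.nontrivial_iff_ne_bot.2 hk
  have h2 : Module.finrank K (LinearMap.ker f) ≤ 1 := h ▸ Submodule.finrank_le _
  have h3 : LinearMap.ker f = ⊤ := Submodule.eq_top_of_finrank_eq (by omega)
  exact h0 (LinearMap.ker_eq_top.1 h3)

theorem main (k : Type u) (K L : Type v)
    [Field k] [IsAlgClosed k] [Field K] [Field L] [Algebra k K] [Algebra k L] [Algebra K L]
    [IsScalarTower k K L] (hK : (⊤ : IntermediateField k K).FG)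
    (hx : ∃ x : K, IsTranscendenceBasis k (fun _ : Unit => x)) [FiniteDimensional K L] :
    (KaehlerDifferential.map k k K L = 0 ∨ Function.Injective (KaehlerDifferential.map k k K L)) ∧
      (Function.Injective (KaehlerDifferential.map k k K L) ↔ Algebra.IsSeparable K L) := by
  haveI hEK : Algebra.EssFiniteType k K := IntermediateField.fg_top_iff.1 hK
  haveI hEL : Algebra.EssFiniteType k L := Algebra.EssFiniteType.comp k K L
  have dK : Module.finrank K Ω[K⁄k] = 1 := finrank_eq_one k K hx
  have dL : Module.finrank L Ω[L⁄k] = 1 := by
    obtain ⟨x, hx⟩ := hx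
    exact finrank_eq_one k L ⟨algebraMap K L x, hx.algebraMap_comp⟩
  refine ⟨zero_or_injective dK _, ?_, ?_⟩
  · intro hinj
    -- mapBaseChange is surjective
    have hne : mapBaseChange k K L ≠ 0 := by
      intro h0
      haveI : Module.Finite K Ω[K⁄k] := Module.finite_of_finrank_pos (by omega)
      haveI : Nontrivial Ω[K⁄k] := Module.nontrivial_of_finrank_pos (R := K) (by omega)
      obtain ⟨y, hy⟩ := exists_ne (0 : Ω[K⁄k])
      have : mapBaseChange k K L (1 ⊗ₜ y) = 0 := by rw [h0]; rfl
      rw [mapBaseChange_tmul, one_smul] at this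
      exact hy (hinj (by rw [this, map_zero]))
    have hsurj : LinearMap.range (mapBaseChange k K L) = ⊤ := by
      haveI : Module.Finite L Ω[L⁄k] := Module.finite_of_finrank_pos (by omega)
      apply Submodule.eq_top_of_finrank_eq
      have h1 : 0 < Module.finrank L (LinearMap.range (mapBaseChange k K L)) := by
        rw [Module.finrank_pos_iff (R := L)]
        rw [Submodule.nontrivial_iff_ne_bot]
        intro hb
        exact hne (LinearMap.range_eq_bot.1 hb)
      have h2 := Submodule.finrank_le (LinearMap.range (mapBaseChange k K L))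
      omega
    have hsub : Subsingleton Ω[L⁄K] := by
      refine ⟨fun a b => ?_⟩
      obtain ⟨a', rfl⟩ := KaehlerDifferential.map_surjective k K L a
      obtain ⟨b', rfl⟩ := KaehlerDifferential.map_surjective k K L b
      have ha : a' ∈ LinearMap.range (mapBaseChange k K L) := hsurj ▸ Submodule.mem_top
      have hb : b' ∈ LinearMap.range (mapBaseChange k K L) := hsurj ▸ Submodule.mem_top
      rw [(KaehlerDifferential.exact_mapBaseChange_map k K L a').2 ha,
        (KaehlerDifferential.exact_mapBaseChange_map k K L b').2 hb]
    haveI : Algebra.FormallyUnramified K L := ⟨hsub⟩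
    exact Algebra.FormallyUnramified.isSeparable K L
  · intro hsep
    haveI : Algebra.FormallyEtale K L := Algebra.FormallyEtale.of_isSeparable K L
    let e := tensorKaehlerEquivOfFormallyEtale k K L
    have h1 : Function.Injective (TensorProduct.mk K L Ω[K⁄k] 1) :=
      Module.FaithfullyFlat.tensorProduct_mk_injective (A := K) (B := L) Ω[K⁄k]
    intro a b hab
    apply h1
    apply e.injective
    show mapBaseChange k K L (1 ⊗ₜ a) = mapBaseChange k K L (1 ⊗ₜ b)
    rw [mapBaseChange_tmul, mapBaseChange_tmul, one_smul, one_smul, hab]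

end H12KD1
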