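import Mathlib.LinearAlgebra.Matrix.ToLin
import Mathlib.LinearAlgebra.Matrix.NonsingularInverse
import Mathlib.RingTheory.LocalRing.Basic
import Mathlib.RingTheory.LocalRing.MaximalIdeal.Basic
import Mathlib.RingTheory.Ideal.Quotient.Basic
import Mathlib.LinearAlgebra.Basis.Defs
import Mathlib.LinearAlgebra.FreeModule.Basic
import Mathlib.Algebra.Module.Projective
import Groth.Agent.Lib.Helper12.Kaplansky

/-!
# Projective modules over local rings are free (Kaplansky)
-/

set_option autoImplicit false
universe u v

open Module Matrix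

namespace Groth.Agent.Lib.Helper12.Kap

variable {R : Type*} [CommRing R]

section Core

variable {F : Type*} [AddCommGroup F] [Module R F] {ι : Type*}

/-- The transvection `v ↦ v + sgn * (∑ i ∈ t, c i * v i) • single j 1`. -/
noncomputable def transv (t : Finset ι) (c : ι → R) (j : ι) (sgn : R) :
    (ι →₀ R) →ₗ[R] (ι →₀ R) where
  toFun v := v + Finsupp.single j (sgn * ∑ i ∈ t, c i * v i)
  map_add' v w := by
    have : (sgn * ∑ i ∈ t, c i * (v + w) i) =
        (sgn * ∑ i ∈ t, c i * v i) + (sgn * ∑ i ∈ t, c i * w i) := by
      simp only [Finsupp.add_apply, mul_add, Finset.sum_add_distrib]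
    rw [this, Finsupp.single_add]
    abel
  map_smul' r v := by
    have : (sgn * ∑ i ∈ t, c i * (r • v) i) = r * (sgn * ∑ i ∈ t, c i * v i) := by
      simp only [Finsupp.smul_apply, smul_eq_mul, Finset.mul_sum]
      refine Finset.sum_congr rfl fun i _ => ?_
      ring
    rw [this, RingHom.id_apply, smul_add, Finsupp.smul_single, smul_eq_mul]

lemma transv_apply (t : Finset ι) (c : ι → R) (j : ι) (sgn : R) (v : ι →₀ R) :
    transv t c j sgn v = v + Finsupp.single j (sgn * ∑ i ∈ t, c i * v i) := rfl

lemma transv_comp (t : Finset ι) (c : ι → R) (j : ι) (hj : j ∉ t) (a b : R) (v : ι →₀ R) :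
    transv t c j a (transv t c j b v) = transv t c j (a + b) v := by
  classical
  rw [transv_apply, transv_apply, transv_apply, add_assoc, ← Finsupp.single_add]
  congr 2
  have : ∀ i ∈ t, (v + Finsupp.single j (b * ∑ i ∈ t, c i * v i)) i = v i := by
    intro i hi
    have hij : j ≠ i := fun h => hj (h ▸ hi)
    simp [hij]
  have h2 : ∑ i ∈ t, c i * (v + Finsupp.single j (b * ∑ i ∈ t, c i * v i)) i =
      ∑ i ∈ t, c i * v i :=
    Finset.sum_congr rfl (fun i hi => by rw [this i hi])
  rw [h2]
  ring

lemma transv_zero (t : Finset ι) (c : ι → R) (j : ι) (v : ι →₀ R) :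
    transv t c j 0 v = v := by
  simp [transv_apply]

/-- The transvection as a linear equivalence. -/
noncomputable def transvEquiv (t : Finset ι) (c : ι → R) (j : ι) (hj : j ∉ t) :
    (ι →₀ R) ≃ₗ[R] (ι →₀ R) :=
  LinearEquiv.ofLinearMap (transv t c j (-1)) (transv t c j 1)
    (by
      apply LinearMap.ext
      intro v
      rw [LinearMap.comp_apply, LinearMap.id_apply, transv_comp t c j hj, neg_add_cancel,
        transv_zero])
    (by
      apply LinearMap.ext
      intro v
      rw [LinearMap.comp_apply, LinearMap.id_apply, transv_comp t c j hj, add_neg_cancel,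
        transv_zero])

lemma transvEquiv_apply (t : Finset ι) (c : ι → R) (j : ι) (hj : j ∉ t) (v : ι →₀ R) :
    transvEquiv t c j hj v = v + Finsupp.single j (-1 * ∑ i ∈ t, c i * v i) := rfl

/-- Core of Kaplansky's lemma: an element fixed by an idempotent-like endomorphism `π` of a free
module over a local ring lies in a finite free "dual system" inside the range of `π`. -/
theorem core [IsLocalRing R] (π : F →ₗ[R] F) (x : F) (hx : π x = x) :
    ∀ (n : ℕ) (b : Basis ι R F), (b.repr x).support.card = n →
      ∃ (s : Finset ι) (y : s → F) (ρ : F →ₗ[R] (s → R)),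
        (∀ k, y k ∈ LinearMap.range π) ∧ (∀ k, ρ (y k) k = 1) ∧
          (∀ k k', k ≠ k' → ρ (y k) k' = 0) ∧
          x ∈ Submodule.span R (Set.range y) := by
  classical
  intro n
  induction n using Nat.strong_induction_on with
  | _ n ih =>
  intro b hn
  set a := b.repr x with ha
  set s := a.support with hs
  by_cases hcase : ∃ j ∈ s, ∃ c : ι → R, a j = ∑ i ∈ s.erase j, c i * a i
  · -- Case 1: reduce the support by a change of basis
    obtain ⟨j, hj, c, hc⟩ := hcase
    have hjt : j ∉ s.erase j := Finset.notMem_erase j s
    let b' : Basis ι R F := Basis.ofRepr (b.repr.trans (transvEquiv (s.erase j) c j hjt))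
    have e : ∀ i, b'.repr x i =
        a i + (Finsupp.single j (-1 * ∑ i ∈ s.erase j, c i * a i)) i := fun i => rfl
    have hsupp : (b'.repr x).support ⊆ s.erase j := by
      intro i hi
      rw [Finsupp.mem_support_iff] at hi
      rw [Finset.mem_erase]
      by_cases hij : i = j
      · subst hij
        exfalso
        apply hi
        rw [e, Finsupp.single_eq_same, ← hc]
        ring
      · refine ⟨hij, ?_⟩
        rw [e, Finsupp.single_eq_of_ne hij, add_zero] at hi
        exact Finsupp.mem_support_iff.2 hi
    have hlt : (b'.repr x).support.card < n := by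
      calc _ ≤ (s.erase j).card := Finset.card_le_card hsupp
        _ < s.card := Finset.card_erase_lt_of_mem hj
        _ = n := hn
    exact ih _ hlt b' rfl
  · -- Case 2: the matrix argument
    push Not at hcase
    let B : ι → ι → R := fun i j => b.repr (π (b i)) j
    let D : ι → ι → R := fun i j => (if i = j then 1 else 0) - B i j
    have h1 : x = ∑ i ∈ s, a i • b i := by
      conv_lhs => rw [← b.linearCombination_repr x]
      rw [Finsupp.linearCombination_apply, Finsupp.sum]
    have h2 : x = ∑ i ∈ s, a i • π (b i) := by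
      conv_lhs => rw [← hx, h1]
      rw [map_sum]
      simp only [map_smul]
    have hcoef : ∀ j, a j = ∑ i ∈ s, a i * B i j := by
      intro j
      have := congrArg (fun v => b.repr v j) h2
      simpa using this
    have h0 : ∀ j ∈ s, ∑ i ∈ s, a i * D i j = 0 := by
      intro j hj
      simp only [D, mul_sub, Finset.sum_sub_distrib, ← hcoef j]
      simp [hj]
    have hnonunit : ∀ i ∈ s, ∀ j ∈ s, ¬ IsUnit (D i j) := by
      intro i hi j hj hu
      obtain ⟨u, hu⟩ := hu
      have h3 := h0 j hj
      rw [← Finset.add_sum_erase s _ hi, ← hu] at h3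
      apply hcase i hi (fun i' => -(D i' j * ↑u⁻¹))
      have h4 : a i = -(∑ i' ∈ s.erase i, a i' * D i' j) * ↑u⁻¹ := by
        have : a i * ↑u = -(∑ i' ∈ s.erase i, a i' * D i' j) := eq_neg_of_add_eq_zero_left h3
        rw [← this, mul_assoc, Units.mul_inv, mul_one]
      rw [h4, neg_mul, Finset.sum_mul, ← Finset.sum_neg_distrib]
      refine Finset.sum_congr rfl fun i' _ => ?_
      ring
    let Bs : Matrix s s R := fun i j => B i j
    have hmap : Bs.map (Ideal.Quotient.mk (IsLocalRing.maximalIdeal R)) = 1 := by
      ext i j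
      rw [Matrix.map_apply, Matrix.one_apply]
      have hD : D i j ∈ IsLocalRing.maximalIdeal R :=
        (IsLocalRing.mem_maximalIdeal _).2 (hnonunit i i.2 j j.2)
      have hD' := (Ideal.Quotient.eq_zero_iff_mem).2 hD
      simp only [D, map_sub] at hD'
      by_cases hij : i = j
      · subst hij
        rw [if_pos rfl] at hD' ⊢
        rw [map_one] at hD'
        exact (sub_eq_zero.1 hD').symm
      · have : (i : ι) ≠ j := fun h => hij (Subtype.ext h)
        rw [if_neg this, map_zero, zero_sub, neg_eq_zero] at hD'
        rw [if_neg hij]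
        exact hD'
    have hdet : IsUnit Bs.det := by
      have h5 : (Ideal.Quotient.mk (IsLocalRing.maximalIdeal R)) Bs.det = 1 := by
        rw [RingHom.map_det, RingHom.mapMatrix_apply, hmap, Matrix.det_one]
      by_contra hnu
      have : Bs.det ∈ IsLocalRing.maximalIdeal R := (IsLocalRing.mem_maximalIdeal _).2 hnu
      rw [(Ideal.Quotient.eq_zero_iff_mem).2 this] at h5
      exact zero_ne_one h5
    let y : s → F := fun k => π (b k)
    let ρ : F →ₗ[R] (s → R) :=
      (Bs⁻¹).vecMulLinear ∘ₗ LinearMap.pi (fun k : s => b.coord k)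
    have hρ : ∀ k, ρ (y k) = (1 : Matrix s s R) k := by
      intro k
      have : ρ (y k) = (Bs k) ᵥ* Bs⁻¹ := rfl
      rw [this, ← Matrix.mul_apply_eq_vecMul, Matrix.mul_nonsing_inv _ hdet]
    refine ⟨s, y, ρ, fun k => ⟨b k, rfl⟩, ?_, ?_, ?_⟩
    · intro k
      rw [hρ, Matrix.one_apply_eq]
    · intro k k' hkk'
      rw [hρ, Matrix.one_apply_ne hkk']
    · rw [h2, ← Finset.sum_coe_sort s (fun i => a i • π (b i))]
      exact Submodule.sum_mem _ fun k _ =>
        Submodule.smul_mem _ _ (Submodule.subset_span ⟨k, rfl⟩)

end Core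

section DualSystem

variable {P : Type*} [AddCommGroup P] [Module R P]

/-- Kaplansky's lemma: every element of a projective module over a local ring lies in a finite
free direct summand, given here by a "dual system". -/
theorem exists_dual_system [IsLocalRing R] [Module.Projective R P] (x : P) :
    ∃ (s : Finset P) (y : s → P) (ρ : P →ₗ[R] (s → R)),
      (∀ k, ρ (y k) k = 1) ∧ (∀ k k', k ≠ k' → ρ (y k) k' = 0) ∧
        x ∈ Submodule.span R (Set.range y) := by
  obtain ⟨i, hi⟩ := Module.projective_def'.1 (inferInstance : Module.Projective R P)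
  set p : (P →₀ R) →ₗ[R] P := Finsupp.linearCombination R id with hp
  have hpi : ∀ z, p (i z) = z := fun z => by
    have := congrArg (fun f => f z) hi
    simpa using this
  obtain ⟨s, y, ρ, hy, h1, h2, hx⟩ := core (i ∘ₗ p) (i x) (by simp [hpi]) _
    (Finsupp.basisSingleOne : Basis P R (P →₀ R)) rfl
  have hfix : ∀ k, i (p (y k)) = y k := by
    intro k
    obtain ⟨z, hz⟩ := hy k
    rw [← hz]
    simp [hpi]
  refine ⟨s, fun k => p (y k), ρ ∘ₗ i, ?_, ?_, ?_⟩
  · intro k
    rw [LinearMap.comp_apply, hfix, h1]
  · intro k k' hkk'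
    rw [LinearMap.comp_apply, hfix, h2 k k' hkk']
  · have : x = p (i x) := (hpi x).symm
    rw [this, Set.range_comp' p y, ← Submodule.map_span]
    exact Submodule.mem_map_of_mem hx

/-- The vectors of a dual system are linearly independent. -/
lemma linearIndependent_of_dual {κ : Type*} [Fintype κ] (y : κ → P) (ρ : P →ₗ[R] (κ → R))
    (h1 : ∀ k, ρ (y k) k = 1) (h2 : ∀ k k', k ≠ k' → ρ (y k) k' = 0) :
    LinearIndependent R y := by
  classical
  rw [Fintype.linearIndependent_iff]
  intro c hc k'
  have := congrArg (fun v => ρ v k') hc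
  simp only [map_sum, map_smul, Finset.sum_apply, Pi.smul_apply, smul_eq_mul, map_zero,
    Pi.zero_apply] at this
  rw [Finset.sum_eq_single k'] at this
  · rwa [h1, mul_one] at this
  · intro k _ hk
    rw [h2 k k' hk, mul_zero]
  · intro h
    exact absurd (Finset.mem_univ k') h

/-- The span of a dual system is complemented by the kernel of `ρ`. -/
lemma isCompl_of_dual {κ : Type*} [Fintype κ] (y : κ → P) (ρ : P →ₗ[R] (κ → R))
    (h1 : ∀ k, ρ (y k) k = 1) (h2 : ∀ k k', k ≠ k' → ρ (y k) k' = 0) :
    IsCompl (Submodule.span R (Set.range y)) (LinearMap.ker ρ) := by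
  classical
  have hρ : ∀ (c : κ → R) k', ρ (∑ k, c k • y k) k' = c k' := by
    intro c k'
    simp only [map_sum, map_smul, Finset.sum_apply, Pi.smul_apply, smul_eq_mul]
    rw [Finset.sum_eq_single k']
    · rw [h1, mul_one]
    · intro k _ hk
      rw [h2 k k' hk, mul_zero]
    · intro h
      exact absurd (Finset.mem_univ k') h
  constructor
  · rw [Submodule.disjoint_def]
    intro v hv hker
    obtain ⟨c, rfl⟩ := (Submodule.mem_span_range_iff_exists_fun R).1 hv
    have hc : c = 0 := by
      funext k'
      rw [← hρ c k', LinearMap.mem_ker.1 hker]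
    simp [hc]
  · rw [codisjoint_iff, eq_top_iff]
    intro v _
    have hv : v = (∑ k, ρ v k • y k) + (v - ∑ k, ρ v k • y k) := by abel
    rw [hv]
    refine Submodule.add_mem_sup ?_ ?_
    · exact Submodule.sum_mem _ fun k _ =>
        Submodule.smul_mem _ _ (Submodule.subset_span ⟨k, rfl⟩)
    · rw [LinearMap.mem_ker, map_sub]
      funext k'
      rw [Pi.sub_apply, hρ, sub_self]
      rfl

end DualSystem

section Countable

variable [IsLocalRing R] {P : Type*} [AddCommGroup P] [Module R P] [Module.Projective R P]

/-- One step of the construction: enlarge a free direct summand so as to contain `x`. -/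
lemma exists_step (B : Set P) (C : Submodule R P) (hli : LinearIndepOn R id B)
    (hc : IsCompl (Submodule.span R B) C) (x : P) :
    ∃ (B' : Set P) (C' : Submodule R P), B ⊆ B' ∧ LinearIndepOn R id B' ∧
      IsCompl (Submodule.span R B') C' ∧ x ∈ Submodule.span R B' := by
  classical
  -- `C` is projective
  have hCproj : Module.Projective R C :=
    Module.Projective.of_split C.subtype (C.projectionOnto (Submodule.span R B) hc.symm)
      (Submodule.projectionOnto_comp_subtype hc.symm)
  -- decompose `x`
  have hx : x ∈ Submodule.span R B ⊔ C := hc.sup_eq_top ▸ Submodule.mem_top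
  obtain ⟨u, hu, c, hcC, rfl⟩ := Submodule.mem_sup.1 hx
  obtain ⟨s, y, ρ, h1, h2, hcy⟩ := exists_dual_system (R := R) (⟨c, hcC⟩ : C)
  have hyli := linearIndependent_of_dual y ρ h1 h2
  have hycompl := isCompl_of_dual y ρ h1 h2
  set B'' : Set P := Set.range (fun k => (y k : P)) with hB''
  set C' : Submodule R P := (LinearMap.ker ρ).map C.subtype with hC'
  have hspanB'' : Submodule.span R B'' = (Submodule.span R (Set.range y)).map C.subtype := by
    rw [Submodule.map_span, ← Set.range_comp]
    rfl
  have hB''le : Submodule.span R B'' ≤ C := by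
    rw [hspanB'']
    exact Submodule.map_subtype_le _ _
  have hliB'' : LinearIndepOn R id B'' := by
    have : LinearIndependent R (fun k => (y k : P)) :=
      hyli.map' C.subtype (Submodule.ker_subtype C)
    exact this.linearIndepOn_id
  have hsup : Submodule.span R B'' ⊔ C' = C := by
    rw [hspanB'', hC', ← Submodule.map_sup, hycompl.sup_eq_top, Submodule.map_subtype_top]
  have hdisj : Disjoint (Submodule.span R B'') C' := by
    rw [hspanB'', hC', disjoint_iff, ← Submodule.map_inf _ C.subtype_injective,
      hycompl.inf_eq_bot, Submodule.map_bot]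
  refine ⟨B ∪ B'', C', Set.subset_union_left, ?_, ?_, ?_⟩
  · exact hli.id_union hliB'' (hc.disjoint.mono_right hB''le)
  · rw [Submodule.span_union]
    constructor
    · apply Disjoint.disjoint_sup_left_of_disjoint_sup_right hdisj
      rw [hsup]
      exact hc.disjoint
    · rw [codisjoint_iff, sup_assoc, hsup]
      exact hc.sup_eq_top
  · rw [Submodule.span_union]
    refine Submodule.add_mem_sup hu ?_
    rw [hspanB'']
    exact ⟨⟨c, hcC⟩, hcy, rfl⟩

/-- A countably generated projective module over a local ring is free. -/
theorem free_of_countablyGenerated (s : Set P) (hs : s.Countable)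
    (hspan : Submodule.span R s = ⊤) : Module.Free R P := by
  classical
  by_cases hne : s.Nonempty
  swap
  · rw [Set.not_nonempty_iff_eq_empty] at hne
    rw [hne, Submodule.span_empty] at hspan
    have : Subsingleton P := by
      constructor
      intro a b
      have ha : a ∈ (⊥ : Submodule R P) := hspan ▸ Submodule.mem_top
      have hb : b ∈ (⊥ : Submodule R P) := hspan ▸ Submodule.mem_top
      rw [Submodule.mem_bot] at ha hb
      rw [ha, hb]
    infer_instance
  obtain ⟨x, hx⟩ := hs.exists_eq_range hne
  -- the type of states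
  let St := {p : Set P × Submodule R P //
    LinearIndepOn R id p.1 ∧ IsCompl (Submodule.span R p.1) p.2}
  have hstep : ∀ (S : St) (z : P), ∃ S' : St, S.1.1 ⊆ S'.1.1 ∧ z ∈ Submodule.span R S'.1.1 := by
    intro S z
    obtain ⟨B', C', h1, h2, h3, h4⟩ := exists_step S.1.1 S.1.2 S.2.1 S.2.2 z
    exact ⟨⟨(B', C'), h2, h3⟩, h1, h4⟩
  choose next hnext1 hnext2 using hstep
  let S0 : St := ⟨(∅, ⊤), linearIndepOn_empty R id, by simpa using isCompl_bot_top⟩
  let seq : ℕ → St := fun n => Nat.rec S0 (fun n S => next S (x n)) n
  have hseq : ∀ n, seq (n + 1) = next (seq n) (x n) := fun n => rfl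
  have hmono : Monotone (fun n => (seq n).1.1) := by
    apply monotone_nat_of_le_succ
    intro n
    rw [hseq]
    exact hnext1 _ _
  let Binf : Set P := ⋃ n, (seq n).1.1
  have hli : LinearIndepOn R id Binf :=
    linearIndepOn_iUnion_of_directed hmono.directed_le (fun n => (seq n).2.1)
  have hsp : ⊤ ≤ Submodule.span R Binf := by
    rw [← hspan, hx, Submodule.span_le]
    rintro _ ⟨n, rfl⟩
    have h1 : x n ∈ Submodule.span R (seq (n + 1)).1.1 := by
      rw [hseq]
      exact hnext2 _ _
    exact Submodule.span_mono (Set.subset_iUnion (fun n => (seq n).1.1) (n + 1)) h1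
  have hsp' : ⊤ ≤ Submodule.span R (Set.range (fun b : Binf => (b : P))) := by
    rwa [Subtype.range_coe]
  exact Module.Free.of_basis (Basis.mk hli hsp')

end Countable

section Final

variable [IsLocalRing R]

/-- A direct summand of a free module over a local ring is free. -/
theorem free_of_isCompl_of_basis {F : Type*} [AddCommGroup F] [Module R F] {ι : Type*}
    (b : Basis ι R F) (P' Q' : Submodule R F) (hPQ : IsCompl P' Q') : Module.Free R P' := by
  classical
  let N : ι → Submodule R F := fun q => Submodule.span R {b q}
  have hind : iSupIndep N := b.linearIndependent.iSupIndep_span_singleton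
  have htop : iSup N = ⊤ := by
    rw [← Submodule.span_range_eq_iSup, b.span_eq]
  have hcg : ∀ q, CG (N q) := fun q => ⟨{b q}, Set.countable_singleton _, rfl⟩
  have : Module.Free R F := Module.Free.of_basis b
  have hP'proj : Module.Projective R P' :=
    Module.Projective.of_split P'.subtype (P'.projectionOnto Q' hPQ)
      (Submodule.projectionOnto_comp_subtype hPQ)
  obtain ⟨𝓛, h1, h2, h3⟩ := kaplansky hPQ hind htop hcg
  have hiff := DirectSum.isInternal_submodule_iff_iSupIndep_and_iSup_eq_top (R := R) (M := P')
    (fun k : 𝓛 => (k.1.comap P'.subtype : Submodule R P'))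
  have hint := hiff.2 ⟨h1, h2⟩
  have hfree : ∀ k : 𝓛, Module.Free R (k.1.comap P'.subtype : Submodule R P') := by
    intro k
    have hcompl : IsCompl (k.1.comap P'.subtype : Submodule R P')
        (⨆ j ≠ k, (j.1.comap P'.subtype : Submodule R P')) := by
      constructor
      · exact h1 k
      · rw [codisjoint_iff, eq_top_iff, ← h2]
        apply iSup_le
        intro j
        by_cases hjk : j = k
        · subst hjk
          exact le_sup_left
        · exact le_sup_of_le_right
            (le_iSup₂_of_le (f := fun j (_ : j ≠ k) =>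
              (j.1.comap P'.subtype : Submodule R P')) j hjk le_rfl)
    have : Module.Projective R (k.1.comap P'.subtype : Submodule R P') :=
      Module.Projective.of_split (Submodule.subtype _)
        (Submodule.projectionOnto _ _ hcompl)
        (Submodule.projectionOnto_comp_subtype hcompl)
    obtain ⟨s, hs, hspan⟩ := h3 k
    exact free_of_countablyGenerated s hs hspan
  exact Module.Free.of_basis (hint.collectedBasis (fun k => Module.Free.chooseBasis R
      (k.1.comap P'.subtype : Submodule R P')))

/-- **Kaplansky**: a projective module over a local ring is free. -/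
theorem free_of_projective_of_isLocalRing (P : Type*) [AddCommGroup P] [Module R P]
    [Module.Projective R P] : Module.Free R P := by
  classical
  obtain ⟨i, hi⟩ := Module.projective_def'.1 (inferInstance : Module.Projective R P)
  set p : (P →₀ R) →ₗ[R] P := Finsupp.linearCombination R id with hp
  have hpi : ∀ z, p (i z) = z := fun z => by
    have := congrArg (fun f => f z) hi
    simpa using this
  have hinj : Function.Injective i := Function.LeftInverse.injective hpi
  have hPQ : IsCompl (LinearMap.range i) (LinearMap.ker p) := by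
    constructor
    · rw [Submodule.disjoint_def]
      rintro _ ⟨z, rfl⟩ hz
      rw [LinearMap.mem_ker, hpi] at hz
      rw [hz, map_zero]
    · rw [codisjoint_iff, eq_top_iff]
      intro v _
      have hv : v = i (p v) + (v - i (p v)) := by abel
      rw [hv]
      refine Submodule.add_mem_sup ⟨p v, rfl⟩ ?_
      rw [LinearMap.mem_ker, map_sub, hpi, sub_self]
  have hfree : Module.Free R (LinearMap.range i) :=
    free_of_isCompl_of_basis (Finsupp.basisSingleOne : Basis P R (P →₀ R)) _ _ hPQ
  exact Module.Free.of_equiv (LinearEquiv.ofInjective i hinj).symm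

end Final

end Groth.Agent.Lib.Helper12.Kap
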