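import Mathlib

set_option autoImplicit false
universe u

namespace Groth.Agent.Lib.Helper12.Kummer

open LaurentPolynomial

variable (A : Type u) [CommRing A] (n : ℕ)

/-- the `n`-th power endomorphism of `A[T;T⁻¹]` -/
noncomputable abbrev un : A[T;T⁻¹] →+* A[T;T⁻¹] :=
  AddMonoidAlgebra.mapDomainRingHom A (AddMonoidHom.mulLeft (n : ℤ))

variable {A n}

theorem mulLeft_injective (hn : 1 ≤ n) :
    Function.Injective (AddMonoidHom.mulLeft (n : ℤ)) := by
  intro a b h
  have h' : (n : ℤ) * a = (n : ℤ) * b := h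
  have hn' : (n : ℤ) ≠ 0 := by exact_mod_cast (by omega : n ≠ 0)
  exact mul_left_cancel₀ hn' h'

theorem coeff_sum_un (hn : 1 ≤ n) (c : Fin n → A[T;T⁻¹]) (k : ℤ) (j : Fin n) :
    (∑ i : Fin n, un A n (c i) * T (i : ℤ)).coeff ((n : ℤ) * k + (j : ℤ)) = (c j).coeff k := by
  classical
  rw [AddMonoidAlgebra.coeff_sum, Finsupp.finsetSum_apply, Finset.sum_eq_single j]
  · change (un A n (c j) * AddMonoidAlgebra.single (j : ℤ) (1 : A)).coeff _ = _
    rw [AddMonoidAlgebra.coeff_mul_single_apply, mul_one]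
    have h1 : (n : ℤ) * k + (j : ℤ) + -(j : ℤ) = AddMonoidHom.mulLeft (n : ℤ) k := by
      change _ = (n : ℤ) * k
      ring
    rw [h1]
    change (Finsupp.mapDomain (AddMonoidHom.mulLeft (n : ℤ)) (c j).coeff)
      (AddMonoidHom.mulLeft (n : ℤ) k) = _
    exact Finsupp.mapDomain_apply (mulLeft_injective hn) _ _
  · intro i _ hij
    change (un A n (c i) * AddMonoidAlgebra.single (i : ℤ) (1 : A)).coeff _ = 0
    rw [AddMonoidAlgebra.coeff_mul_single_apply, mul_one]
    change (Finsupp.mapDomain (AddMonoidHom.mulLeft (n : ℤ)) (c i).coeff) _ = 0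
    apply Finsupp.mapDomain_of_notMem_range
    rintro ⟨m, hm⟩
    have hm' : (n : ℤ) * m = (n : ℤ) * k + (j : ℤ) + -(i : ℤ) := hm
    have hi := i.2
    have hj := j.2
    have hdvd : (n : ℤ) ∣ (j : ℤ) - (i : ℤ) := ⟨m - k, by linarith⟩
    have habs : |(j : ℤ) - (i : ℤ)| < n := by
      rw [abs_lt]; constructor <;> omega
    have h0 := Int.eq_zero_of_abs_lt_dvd hdvd habs
    apply hij
    apply Fin.ext
    omega
  · intro h; exact absurd (Finset.mem_univ j) h

theorem existsUnique_kummer (A : Type u) [CommRing A] (n : ℕ) (hn : 1 ≤ n) (q : A[T;T⁻¹]) :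
    ∃! c : Fin n → A[T;T⁻¹],
      q = ∑ i : Fin n, (AddMonoidAlgebra.mapDomainRingHom A (AddMonoidHom.mulLeft (n : ℤ)) :
        A[T;T⁻¹] →+* A[T;T⁻¹]) (c i) * LaurentPolynomial.T (i : ℤ) := by
  classical
  have hn0 : (n : ℤ) ≠ 0 := by exact_mod_cast (by omega : n ≠ 0)
  have hnpos : (0 : ℤ) < n := by exact_mod_cast hn
  -- each integer is `n * k + j`
  have hdecomp : ∀ m : ℤ, ∃ (k : ℤ) (j : Fin n), m = (n : ℤ) * k + (j : ℤ) := by
    intro m
    have h1 : 0 ≤ m % (n : ℤ) := Int.emod_nonneg m hn0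
    have h2 : m % (n : ℤ) < n := Int.emod_lt_of_pos m hnpos
    refine ⟨m / n, ⟨(m % (n : ℤ)).toNat, by omega⟩, ?_⟩
    have : ((m % (n : ℤ)).toNat : ℤ) = m % n := Int.toNat_of_nonneg h1
    simp only [this]
    exact (Int.mul_ediv_add_emod m n).symm
  let c₀ : Fin n → A[T;T⁻¹] := fun i =>
    AddMonoidAlgebra.ofCoeff (Finsupp.comapDomain (fun k : ℤ => (n : ℤ) * k + (i : ℤ)) q.coeff
      (by
        intro a _ b _ hab
        have : (n : ℤ) * a = (n : ℤ) * b := by linarith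
        exact mul_left_cancel₀ hn0 this))
  have hc₀ : ∀ (i : Fin n) (k : ℤ), (c₀ i).coeff k = q.coeff ((n : ℤ) * k + (i : ℤ)) := by
    intro i k
    rfl
  refine ⟨c₀, ?_, ?_⟩
  · apply AddMonoidAlgebra.ext
    apply Finsupp.ext
    intro m
    obtain ⟨k, j, rfl⟩ := hdecomp m
    change _ = (∑ i : Fin n, un A n (c₀ i) * T (i : ℤ)).coeff _
    rw [coeff_sum_un hn, hc₀]
  · intro c hc
    funext i
    apply AddMonoidAlgebra.ext
    apply Finsupp.ext
    intro k
    rw [hc₀, hc]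
    exact (coeff_sum_un hn c k i).symm

end Groth.Agent.Lib.Helper12.Kummer
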