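import Mathlib
import Groth.Agent.S16599

set_option autoImplicit false
open AlgebraicGeometry
universe u

namespace H12LGVB

section spec
variable {A B C : Type u} [CommRing A] [CommRing B] [CommRing C]

lemma range_comp_iff (f : A →+* B) (g : B →+* C) (U : Set ↥(Spec (CommRingCat.of A))) :
    Set.range (Spec.map (CommRingCat.ofHom (g.comp f))).base ⊆ U ↔
      Set.range (Spec.map (CommRingCat.ofHom g)).base ⊆
        (Spec.map (CommRingCat.ofHom f)).base ⁻¹' U := by
  rw [CommRingCat.ofHom_comp, Spec.map_comp]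
  constructor
  · rintro h _ ⟨z, rfl⟩
    exact h ⟨z, rfl⟩
  · rintro h _ ⟨z, rfl⟩
    exact h ⟨z, rfl⟩

lemma range_comp_subset (f : A →+* B) (g : B →+* C) (U : Set ↥(Spec (CommRingCat.of A)))
    (h : Set.range (Spec.map (CommRingCat.ofHom f)).base ⊆ U) :
    Set.range (Spec.map (CommRingCat.ofHom (g.comp f))).base ⊆ U := by
  rw [CommRingCat.ofHom_comp, Spec.map_comp]
  rintro _ ⟨z, rfl⟩
  exact h ⟨_, rfl⟩

lemma isCompact_preimage (f : A →+* B) (U : (Spec (CommRingCat.of A)).Opens)
    (hU : IsCompact (U : Set ↥(Spec (CommRingCat.of A)))) :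
    IsCompact ((Spec.map (CommRingCat.ofHom f)).base ⁻¹' (U : Set ↥(Spec (CommRingCat.of A)))) :=
  QuasiCompact.isCompact_preimage (f := Spec.map (CommRingCat.ofHom f)) _ U.2 hU

end spec

section retract
variable {R : Type u} [CommRing R] {N : Type u} [AddCommGroup N] [Module R N] {n : ℕ}
  (p : (Fin n → R) →ₗ[R] N) (i : N →ₗ[R] (Fin n → R))

/-- `Sym(N) → R[X]` induced by `i`. -/
noncomputable def iA : SymmetricAlgebra R N →ₐ[R] MvPolynomial (Fin n) R :=
  SymmetricAlgebra.lift
    ((Fintype.linearCombination R (fun j : Fin n => (MvPolynomial.X j : MvPolynomial (Fin n) R))) ∘ₗ i)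

/-- `R[X] → Sym(N)` induced by `p`. -/
noncomputable def rA : MvPolynomial (Fin n) R →ₐ[R] SymmetricAlgebra R N :=
  MvPolynomial.aeval (fun j => SymmetricAlgebra.ι R N (p (Pi.single j 1)))

lemma rA_comp_iA (hpi : p ∘ₗ i = LinearMap.id) : (rA p).comp (iA i) = AlgHom.id R _ := by
  apply SymmetricAlgebra.algHom_ext
  ext f
  show (rA p) ((iA i) (SymmetricAlgebra.ι R N f)) = SymmetricAlgebra.ι R N f
  have h1 : (iA i) (SymmetricAlgebra.ι R N f) = ∑ j, i f j • (MvPolynomial.X j : MvPolynomial (Fin n) R) := by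
    simp [iA, SymmetricAlgebra.lift_ι_apply, Fintype.linearCombination_apply]
  rw [h1]
  simp only [rA, map_sum, map_smul, MvPolynomial.aeval_X]
  simp only [← map_smul, ← map_sum]
  congr 1
  have : ∑ x, i f x • (Pi.single x (1 : R) : Fin n → R) = i f := by
    ext j
    simp [Finset.sum_apply, Pi.single_apply]
  rw [this]
  exact LinearMap.congr_fun hpi f

variable {A : Type u} [CommRing A] [Algebra R A]

lemma lift_comp_rA (φ : N →ₗ[R] A) :
    (SymmetricAlgebra.lift φ).comp (rA p) =
      MvPolynomial.aeval (fun j => φ (p (Pi.single j 1))) := by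
  apply MvPolynomial.algHom_ext
  intro j
  simp [rA, SymmetricAlgebra.lift_ι_apply]

end retract

end H12LGVB
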