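import Mathlib
import Groth.Agent.S16599
import Groth.Agent.Lib.Helper12.LGVB1

set_option autoImplicit false
open AlgebraicGeometry
universe u

namespace H12LGVB

variable {R : Type u} [CommRing R] (N : Type u) [AddCommGroup N] [Module R N]

/-- (⇒) of S16600. -/
theorem main_mp (U : (Spec (CommRingCat.of (SymmetricAlgebra R N))).Opens)
    (h : ∃ φ : N →ₗ[R] R,
      Set.range (Spec.map (CommRingCat.ofHom (SymmetricAlgebra.lift φ).toRingHom)).base ⊆
        (U : Set ↥(Spec (CommRingCat.of (SymmetricAlgebra R N)))))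
    (m : Ideal R) : ∃ φ : N →ₗ[R] (R ⧸ m),
      Set.range (Spec.map (CommRingCat.ofHom (SymmetricAlgebra.lift φ).toRingHom)).base ⊆
        (U : Set ↥(Spec (CommRingCat.of (SymmetricAlgebra R N)))) := by
  obtain ⟨φ, hφ⟩ := h
  refine ⟨(Ideal.Quotient.mkₐ R m).toLinearMap ∘ₗ φ, ?_⟩
  have e : (SymmetricAlgebra.lift ((Ideal.Quotient.mkₐ R m).toLinearMap ∘ₗ φ)).toRingHom =
      (Ideal.Quotient.mk m).comp (SymmetricAlgebra.lift φ).toRingHom := by
    have : SymmetricAlgebra.lift ((Ideal.Quotient.mkₐ R m).toLinearMap ∘ₗ φ) =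
        (Ideal.Quotient.mkₐ R m).comp (SymmetricAlgebra.lift φ) := by
      apply SymmetricAlgebra.algHom_ext
      ext f
      simp [SymmetricAlgebra.lift_ι_apply]
    rw [this]
    rfl
  rw [e]
  exact range_comp_subset _ _ _ hφ

variable [Module.Finite R N] [Module.Projective R N]

/-- (⇐) of S16600. -/
theorem main_mpr (hR : LGRing.IsLGRing R)
    (U : (Spec (CommRingCat.of (SymmetricAlgebra R N))).Opens)
    (hU : IsCompact (U : Set ↥(Spec (CommRingCat.of (SymmetricAlgebra R N)))))
    (h : ∀ (m : Ideal R) [m.IsMaximal], ∃ φ : N →ₗ[R] (R ⧸ m),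
      Set.range (Spec.map (CommRingCat.ofHom (SymmetricAlgebra.lift φ).toRingHom)).base ⊆
        (U : Set ↥(Spec (CommRingCat.of (SymmetricAlgebra R N))))) :
    ∃ φ : N →ₗ[R] R,
      Set.range (Spec.map (CommRingCat.ofHom (SymmetricAlgebra.lift φ).toRingHom)).base ⊆
        (U : Set ↥(Spec (CommRingCat.of (SymmetricAlgebra R N)))) := by
  obtain ⟨n, p, i, -, -, hpi⟩ := Module.Finite.exists_comp_eq_id_of_projective R N
  let U' : (Spec (CommRingCat.of (MvPolynomial (Fin n) R))).Opens :=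
    (Spec.map (CommRingCat.ofHom (iA i).toRingHom)) ⁻¹ᵁ U
  have hU' : IsCompact (U' : Set ↥(Spec (CommRingCat.of (MvPolynomial (Fin n) R)))) :=
    isCompact_preimage (iA i).toRingHom U hU
  have key := Groth.Agent.S16599.result hR n U' hU' ?_
  · obtain ⟨x, hx⟩ := key
    refine ⟨SymmetricAlgebra.lift.symm ((MvPolynomial.aeval x).comp (iA i)), ?_⟩
    rw [Equiv.apply_symm_apply]
    have e : ((MvPolynomial.aeval x).comp (iA i)).toRingHom =
        (MvPolynomial.eval x).comp (iA i).toRingHom := rfl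
    rw [e, range_comp_iff]
    exact hx
  · intro m hm
    obtain ⟨φ, hφ⟩ := h m
    refine ⟨fun j => φ (p (Pi.single j 1)), ?_⟩
    have e1 : MvPolynomial.eval₂Hom (Ideal.Quotient.mk m) (fun j => φ (p (Pi.single j 1))) =
        ((SymmetricAlgebra.lift φ).comp (rA p)).toRingHom := by
      rw [lift_comp_rA]
      rfl
    have e2 : (SymmetricAlgebra.lift φ).toRingHom =
        (((SymmetricAlgebra.lift φ).comp (rA p)).toRingHom).comp (iA i).toRingHom := by
      have : SymmetricAlgebra.lift φ = ((SymmetricAlgebra.lift φ).comp (rA p)).comp (iA i) := by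
        rw [AlgHom.comp_assoc, rA_comp_iA p i hpi, AlgHom.comp_id]
      conv_lhs => rw [this]
      rfl
    rw [e1]
    show _ ⊆ (Spec.map (CommRingCat.ofHom (iA i).toRingHom)).base ⁻¹' (U : Set _)
    rw [← range_comp_iff, ← e2]
    exact hφ

end H12LGVB
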