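import Mathlib
import Groth.Agent.S16599
import Groth.Agent.Lib.Helper12.LGVB2

set_option autoImplicit false
open AlgebraicGeometry CategoryTheory
universe u

namespace H12LGVB

variable {R : Type u} [CommRing R] (N : Type u) [AddCommGroup N] [Module R N]

lemma map_ne_top (m : Ideal R) [hm : m.IsMaximal] :
    Ideal.map (algebraMap R (SymmetricAlgebra R N)) m ≠ ⊤ := by
  intro h
  have hle : Ideal.map (algebraMap R (SymmetricAlgebra R N)) m ≤
      Ideal.comap (SymmetricAlgebra.algebraMapInv (R := R) (M := N)) m := by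
    rw [Ideal.map_le_iff_le_comap]
    intro r hr
    simpa using hr
  rw [h] at hle
  have : (1 : SymmetricAlgebra R N) ∈
      Ideal.comap (SymmetricAlgebra.algebraMapInv (R := R) (M := N)) m := hle trivial
  rw [Ideal.mem_comap, map_one] at this
  exact hm.ne_top ((Ideal.eq_top_iff_one _).2 this)

/-- a nonempty open of affine space over an infinite field has a rational point -/
lemma exists_point {k : Type u} [Field k] [Infinite k] {n : ℕ}
    (V : Set (PrimeSpectrum (MvPolynomial (Fin n) k))) (hV : IsOpen V) (hne : V.Nonempty) :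
    ∃ x : Fin n → k, ∀ z : PrimeSpectrum k, PrimeSpectrum.comap (MvPolynomial.eval x) z ∈ V := by
  obtain ⟨w, hw⟩ := hne
  obtain ⟨_, ⟨g, rfl⟩, hwg, hgV⟩ :=
    PrimeSpectrum.isTopologicalBasis_basic_opens.exists_subset_of_mem_open hw hV
  have hg0 : g ≠ 0 := by
    rintro rfl
    exact hwg (zero_mem _)
  have : ∃ x : Fin n → k, MvPolynomial.eval x g ≠ 0 := by
    by_contra hcon
    push Not at hcon
    exact hg0 (MvPolynomial.funext fun x => by simpa using hcon x)
  obtain ⟨x, hx⟩ := this
  refine ⟨x, fun z => hgV ?_⟩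
  show g ∉ (PrimeSpectrum.comap (MvPolynomial.eval x) z).asIdeal
  intro hmem
  have : MvPolynomial.eval x g ∈ z.asIdeal := hmem
  exact z.2.ne_top (Ideal.eq_top_of_isUnit_mem _ this (isUnit_iff_ne_zero.2 hx))

end H12LGVB

namespace H12LGVB

variable {R : Type u} [CommRing R] (N : Type u) [AddCommGroup N] [Module R N]

theorem fibre_point {n : ℕ} (p : (Fin n → R) →ₗ[R] N) (i : N →ₗ[R] (Fin n → R))
    (hpi : p ∘ₗ i = LinearMap.id)
    (U : (Spec (CommRingCat.of (SymmetricAlgebra R N))).Opens)
    (m : Ideal R) [hm : m.IsMaximal] (hinf : Infinite (R ⧸ m))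
    (hne : ((Spec.map (CommRingCat.ofHom (Ideal.Quotient.mk
        (Ideal.map (algebraMap R (SymmetricAlgebra R N)) m)))).base ⁻¹'
          (U : Set ↥(Spec (CommRingCat.of (SymmetricAlgebra R N))))).Nonempty) :
    ∃ φ : N →ₗ[R] (R ⧸ m),
      Set.range (Spec.map (CommRingCat.ofHom (SymmetricAlgebra.lift φ).toRingHom)).base ⊆
        (U : Set ↥(Spec (CommRingCat.of (SymmetricAlgebra R N)))) := by
  letI : Field (R ⧸ m) := Ideal.Quotient.field m
  set I := Ideal.map (algebraMap R (SymmetricAlgebra R N)) m with hI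
  let q : SymmetricAlgebra R N →+* SymmetricAlgebra R N ⧸ I := Ideal.Quotient.mk I
  let κ : R ⧸ m →+* SymmetricAlgebra R N ⧸ I :=
    Ideal.quotientMap I (algebraMap R (SymmetricAlgebra R N)) Ideal.le_comap_map
  let c : MvPolynomial (Fin n) R →+* MvPolynomial (Fin n) (R ⧸ m) :=
    MvPolynomial.map (Ideal.Quotient.mk m)
  let ρ' : MvPolynomial (Fin n) (R ⧸ m) →+* SymmetricAlgebra R N ⧸ I :=
    MvPolynomial.eval₂Hom κ (fun j => q (rA p (MvPolynomial.X j)))
  have h1 : ρ'.comp c = q.comp (rA p).toRingHom := by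
    apply MvPolynomial.ringHom_ext
    · intro r
      simp [ρ', c, κ, q]
    · intro j
      simp [ρ', c]
  have h2 : (ρ'.comp c).comp (iA i).toRingHom = q := by
    rw [h1, RingHom.comp_assoc]
    have : (rA p).toRingHom.comp (iA i).toRingHom = RingHom.id _ := by
      have := rA_comp_iA p i hpi
      exact congrArg AlgHom.toRingHom this
    rw [this, RingHom.comp_id]
  obtain ⟨v, hv⟩ := hne
  -- the open V' in affine space over the residue field
  let V' : Set (PrimeSpectrum (MvPolynomial (Fin n) (R ⧸ m))) :=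
    (Spec.map (CommRingCat.ofHom (c.comp (iA i).toRingHom))).base ⁻¹'
      (U : Set ↥(Spec (CommRingCat.of (SymmetricAlgebra R N))))
  have hV'o : IsOpen V' :=
    U.2.preimage (Spec.map (CommRingCat.ofHom (c.comp (iA i).toRingHom))).base.hom.2
  have hV'ne : V'.Nonempty := by
    refine ⟨(Spec.map (CommRingCat.ofHom ρ')).base v, ?_⟩
    have hv' : (Spec.map (CommRingCat.ofHom q)).base v ∈
        (U : Set ↥(Spec (CommRingCat.of (SymmetricAlgebra R N)))) := hv
    have e : Spec.map (CommRingCat.ofHom q) =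
        Spec.map (CommRingCat.ofHom ρ') ≫ Spec.map (CommRingCat.ofHom (c.comp (iA i).toRingHom)) := by
      rw [← Spec.map_comp, ← CommRingCat.ofHom_comp, ← RingHom.comp_assoc, h2]
    rw [e] at hv'
    exact hv'
  obtain ⟨x, hx⟩ := exists_point V' hV'o hV'ne
  refine ⟨SymmetricAlgebra.lift.symm ((MvPolynomial.aeval x).comp (iA i)), ?_⟩
  rw [Equiv.apply_symm_apply]
  have e : ((MvPolynomial.aeval x : MvPolynomial (Fin n) R →ₐ[R] R ⧸ m).comp (iA i)).toRingHom =
      (MvPolynomial.eval x).comp (c.comp (iA i).toRingHom) := by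
    rw [← RingHom.comp_assoc]
    have : (MvPolynomial.aeval x : MvPolynomial (Fin n) R →ₐ[R] R ⧸ m).toRingHom =
        (MvPolynomial.eval x).comp c := by
      apply MvPolynomial.ringHom_ext
      · intro r
        simp [c]
      · intro j
        simp [c]
    rw [← this]
    rfl
  rw [e, range_comp_iff]
  rintro _ ⟨z, rfl⟩
  exact hx z

end H12LGVB

namespace H12LGVB

variable {R : Type u} [CommRing R] (N : Type u) [AddCommGroup N] [Module R N]
  [Module.Finite R N] [Module.Projective R N]

theorem main_dense (hR : LGRing.IsLGRing R) (hinf : ∀ (m : Ideal R) [m.IsMaximal], Infinite (R ⧸ m))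
    (U : (Spec (CommRingCat.of (SymmetricAlgebra R N))).Opens)
    (hU : IsCompact (U : Set ↥(Spec (CommRingCat.of (SymmetricAlgebra R N)))))
    (hdense : ∀ (m : Ideal R) [m.IsMaximal],
      Dense ((Spec.map (CommRingCat.ofHom (Ideal.Quotient.mk
        (Ideal.map (algebraMap R (SymmetricAlgebra R N)) m)))).base ⁻¹'
          (U : Set ↥(Spec (CommRingCat.of (SymmetricAlgebra R N)))))) :
    ∃ φ : N →ₗ[R] R,
      Set.range (Spec.map (CommRingCat.ofHom (SymmetricAlgebra.lift φ).toRingHom)).base ⊆
        (U : Set ↥(Spec (CommRingCat.of (SymmetricAlgebra R N)))) := by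
  apply main_mpr N hR U hU
  intro m hm
  obtain ⟨n, p, i, -, -, hpi⟩ := Module.Finite.exists_comp_eq_id_of_projective R N
  apply fibre_point N p i hpi U m (hinf m)
  have hnt : Nontrivial (SymmetricAlgebra R N ⧸ Ideal.map (algebraMap R (SymmetricAlgebra R N)) m) :=
    Ideal.Quotient.nontrivial_iff.2 (map_ne_top N m)
  haveI : Nonempty ↥(Spec (CommRingCat.of
      (SymmetricAlgebra R N ⧸ Ideal.map (algebraMap R (SymmetricAlgebra R N)) m))) :=
    inferInstanceAs (Nonempty (PrimeSpectrum _))
  exact (hdense m).nonempty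

end H12LGVB
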