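import Mathlib
import Groth.Prelude.Def_Formal2
import Groth.Agent.Lib.Helper17.SG9
import Groth.Agent.Lib.Helper12.LT2

/-! # The limit of a quasi-coherent formal system: truncations (Stacks 087W (4)), main part -/

set_option autoImplicit false
universe u

open CategoryTheory CategoryTheory.Limits AlgebraicGeometry Opposite

namespace Groth.Agent.Lib.Helper12.H12LT

open Groth.Agent.Lib.Helper12.H12FF
open Groth.Agent.Lib.Helper17.SG1 Groth.Agent.Lib.Helper17.SG2 Groth.Agent.Lib.Helper17.SG7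
open Groth.Agent.Lib.Helper17.SG8 Groth.Agent.Lib.Helper17.SG9 Groth.Agent.Lib.Helper17.RL12

variable {A : Type u} [CommRing A] {X : Scheme.{u}} [X.Over (Spec (CommRingCat.of A))]

attribute [local instance] homModule

section

variable (I : Ideal A) (Fn : ℕ → X.Modules) (tn : ∀ n, Fn (n + 1) ⟶ Fn n)

/-- the terms of the tower of Hom-modules -/
abbrev HomT (P : X.Modules) (Fn : ℕ → X.Modules) (k : ℕ) : Type u := (P ⟶ Fn k)

variable (A) in
/-- the tower of Hom-modules -/
noncomputable def ttow (P : X.Modules) (k : ℕ) : HomT P Fn (k + 1) →ₗ[A] HomT P Fn k :=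
  postLin P (tn k)

variable (A) in
/-- a map to the limit as a compatible sequence -/
noncomputable def Λ (P : X.Modules) (τ : P ⟶ limit (Functor.ofOpSequence tn)) :
    towerLim (ttow A Fn tn P) :=
  ⟨fun k => τ ≫ prG tn k, fun k => by
    show (τ ≫ prG tn (k + 1)) ≫ tn k = τ ≫ prG tn k
    rw [Category.assoc, prG_comp]⟩

lemma Λ_apply (P : X.Modules) (τ : P ⟶ limit (Functor.ofOpSequence tn)) (k : ℕ) :
    pr (ttow A Fn tn P) k (Λ A Fn tn P τ) = τ ≫ prG tn k := rfl

lemma Λ_injective (P : X.Modules) : Function.Injective (Λ A Fn tn P) := by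
  intro τ τ' h
  apply hom_ext_prG
  intro k
  have := congrArg (fun y => pr (ttow A Fn tn P) k y) h
  exact this

lemma Λ_surjective (P : X.Modules) : Function.Surjective (Λ A Fn tn P) := by
  intro x
  refine ⟨towerLift tn x.1 x.2, ?_⟩
  apply ext_pr
  intro k
  rw [Λ_apply]
  exact lift_prG tn x.1 x.2 k

lemma Λ_smul (P : X.Modules) (τ : P ⟶ limit (Functor.ofOpSequence tn)) (a : A) :
    Λ A Fn tn P (τ ≫ Formal.smulMod A _ a) = a • Λ A Fn tn P τ := by
  apply ext_pr
  intro k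
  rw [map_smul, Λ_apply, Λ_apply, hom_smul_def, Category.assoc, Category.assoc, comp_smulMod]

lemma Λ_add (P : X.Modules) (τ τ' : P ⟶ limit (Functor.ofOpSequence tn)) :
    Λ A Fn tn P (τ + τ') = Λ A Fn tn P τ + Λ A Fn tn P τ' := by
  apply ext_pr
  intro k
  rw [map_add, Λ_apply, Λ_apply, Λ_apply, Preadditive.add_comp]

variable (hI : I.FG) (hq : ∀ n, (Fn n).IsQuasicoherent)
  (hk : ∀ n, Formal.KilledBy (I ^ (n + 1)) (Fn n))
  (h3 : ∀ n, ∃ h : Formal.smulFamily (I ^ (n + 1)) (Fn (n + 1)) ≫ tn n = 0,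
    IsIso (cokernel.desc _ _ h))

include h3 in
lemma epi_tn (k : ℕ) : Epi (tn k) := by
  obtain ⟨h, hiso⟩ := h3 k
  have h4 : tn k = cokernel.π _ ≫ cokernel.desc _ _ h := (cokernel.π_desc _ _ h).symm
  rw [h4]
  haveI := hiso
  exact epi_comp' (coequalizer.π_epi) (IsIso.epi_of_iso _)

include hq h3 in
lemma ttow_surjective (V : X.Opens) (hV : IsAffineOpen V) (k : ℕ) :
    Function.Surjective (ttow A Fn tn ((schemeGens X).G V) k) := by
  intro σ
  haveI := hq k
  haveI := hq (k + 1)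
  haveI := epi_tn I Fn tn h3 k
  exact exists_lift_of_epi X V hV (tn k) σ

include hk in
lemma ttow_kill (P : X.Modules) (k : ℕ) (a : A) (ha : a ∈ I ^ (k + 1)) (σ : P ⟶ Fn k) :
    a • σ = 0 := by
  rw [hom_smul_def, hk k a ha, comp_zero]

include hI hq h3 in
lemma ttow_ker (V : X.Opens) (hV : IsAffineOpen V) (k : ℕ) :
    LinearMap.ker (ttow A Fn tn ((schemeGens X).G V) k) ≤
      (I ^ (k + 1) • ⊤ : Submodule A ((schemeGens X).G V ⟶ Fn (k + 1))) := by
  intro σ hσ
  rw [LinearMap.mem_ker] at hσ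
  obtain ⟨h, hiso⟩ := h3 k
  haveI := hiso
  haveI := hq (k + 1)
  have h0 : σ ≫ cokernel.π (Formal.smulFamily (I ^ (k + 1)) (Fn (k + 1))) = 0 := by
    rw [← cancel_mono (cokernel.desc _ _ h), Category.assoc, cokernel.π_desc, zero_comp]
    exact hσ
  exact mem_smul_top_of_comp_cokernelπ_eq_zero V hV (I ^ (k + 1)) (Ideal.FG.pow hI) (Fn (k + 1))
    σ h0

include hI hq hk h3 in
/-- the key claim -/
lemma comp_cokernelπ_eq_zero (V : X.Opens) (hV : IsAffineOpen V) (n : ℕ)
    (τ : (schemeGens X).G V ⟶ limit (Functor.ofOpSequence tn)) (hτ : τ ≫ prG tn n = 0) :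
    τ ≫ cokernel.π (Formal.smulFamily (I ^ (n + 1)) (limit (Functor.ofOpSequence tn))) = 0 := by
  have hx : Λ A Fn tn _ τ ∈ (I ^ (n + 1) • ⊤ : Submodule A (towerLim (ttow A Fn tn ((schemeGens X).G V)))) :=
    mem_smul_top_of_pr_eq_zero I (ttow A Fn tn ((schemeGens X).G V))
      (fun k a ha σ => ttow_kill I Fn hk _ k a ha σ) hI
      (ttow_surjective I Fn tn hq h3 V hV) (ttow_ker I Fn tn hI hq h3 V hV) n _ hτ
  suffices H : ∀ x ∈ (I ^ (n + 1) • ⊤ : Submodule A (towerLim (ttow A Fn tn ((schemeGens X).G V)))),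
      ∀ τ : (schemeGens X).G V ⟶ limit (Functor.ofOpSequence tn), Λ A Fn tn _ τ = x →
        τ ≫ cokernel.π (Formal.smulFamily (I ^ (n + 1)) (limit (Functor.ofOpSequence tn))) = 0 from
    H _ hx τ rfl
  intro x hx
  refine Submodule.smul_induction_on (p := fun x => ∀ τ : (schemeGens X).G V ⟶
    limit (Functor.ofOpSequence tn), Λ A Fn tn _ τ = x →
      τ ≫ cokernel.π (Formal.smulFamily (I ^ (n + 1)) (limit (Functor.ofOpSequence tn))) = 0)
    hx ?_ ?_
  · intro a ha y _ τ hτy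
    obtain ⟨τy, rfl⟩ := Λ_surjective Fn tn _ y
    rw [← Λ_smul] at hτy
    rw [Λ_injective Fn tn _ hτy, Category.assoc, smulMod_cokerπ _ _ a ha, comp_zero]
  · intro x y hx hy τ hτxy
    obtain ⟨τx, rfl⟩ := Λ_surjective Fn tn _ x
    obtain ⟨τy, rfl⟩ := Λ_surjective Fn tn _ y
    rw [← Λ_add] at hτxy
    rw [Λ_injective Fn tn _ hτxy, Preadditive.add_comp, hx τx rfl, hy τy rfl, add_zero]

include hk in
lemma smulFamily_prG (n : ℕ) :
    Formal.smulFamily (I ^ (n + 1)) (limit (Functor.ofOpSequence tn)) ≫ prG tn n = 0 := by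
  apply Sigma.hom_ext
  intro a
  rw [comp_zero, ← Category.assoc, ι_smulFamily, ← comp_smulMod, hk n a.1 a.2, comp_zero]

include hI hq hk h3 in
/-- **Stacks 087W (4)**: `(lim G_k)/I^(n+1) ≅ G_n`. -/
theorem isIso_cokernel_desc_prG (n : ℕ) :
    IsIso (cokernel.desc (Formal.smulFamily (I ^ (n + 1)) (limit (Functor.ofOpSequence tn)))
      (prG tn n) (smulFamily_prG I Fn tn hk n)) := by
  haveI hepi : Epi (prG tn n) := by
    apply epi_of_local (schemeGens X) (prG tn n) {V : X.Opens | IsAffineOpen V}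
      (exists_affine_cover X)
    intro V hV σ
    refine ⟨⊤, GrothendieckTopology.top_mem _ V, fun Y g _ => ?_⟩
    obtain ⟨x, hx⟩ := pr_surjective (ttow A Fn tn ((schemeGens X).G V))
      (ttow_surjective I Fn tn hq h3 V hV) n σ
    obtain ⟨ρ, rfl⟩ := Λ_surjective Fn tn _ x
    refine ⟨(schemeGens X).Gm g ≫ ρ, ?_⟩
    rw [Category.assoc]
    congr 1
  haveI : Epi (cokernel.desc (Formal.smulFamily (I ^ (n + 1)) (limit (Functor.ofOpSequence tn)))
      (prG tn n) (smulFamily_prG I Fn tn hk n)) := by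
    apply epi_of_epi_fac (cokernel.π_desc _ _ _)
  haveI : Mono (cokernel.desc (Formal.smulFamily (I ^ (n + 1)) (limit (Functor.ofOpSequence tn)))
      (prG tn n) (smulFamily_prG I Fn tn hk n)) := by
    apply mono_of_local (schemeGens X) _ {V : X.Opens | IsAffineOpen V} (exists_affine_cover X)
    intro V hV σ hσ
    obtain ⟨S, hS, hl⟩ := (schemeGens X).lift
      (cokernel.π (Formal.smulFamily (I ^ (n + 1)) (limit (Functor.ofOpSequence tn)))) σ
    apply (schemeGens X).sep σ S hS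
    intro Y g hg
    obtain ⟨τ, hτ⟩ := hl g hg
    rw [← hτ]
    have hτn : τ ≫ prG tn n = 0 := by
      rw [← cokernel.π_desc _ _ (smulFamily_prG I Fn tn hk n), ← Category.assoc, hτ,
        Category.assoc, hσ, comp_zero]
    obtain ⟨ι, Yi, fi, hcov, haff⟩ := exists_affine_cover X Y
    apply (schemeGens X).sep _ _ hcov
    intro W k hk'
    obtain ⟨_, k', _, ⟨i⟩, rfl⟩ := hk'
    have key := comp_cokernelπ_eq_zero I Fn tn hI hq hk h3 (Yi i) (haff i) n
      ((schemeGens X).Gm (fi i) ≫ τ) (by rw [Category.assoc, hτn, comp_zero])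
    rw [(schemeGens X).Gm_comp, Category.assoc, ← Category.assoc ((schemeGens X).Gm (fi i)), key,
      comp_zero]
  exact isIso_of_mono_of_epi _

end

end Groth.Agent.Lib.Helper12.H12LT
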