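import Mathlib
import Groth.Prelude.Def_Formal2
import Groth.Agent.Lib.Helper17.SG9
import Groth.Agent.Lib.Helper12.LT3

/-! # Systems `F_n` with `f = i ∘ t` and `0 → F_n → F_{n+1} → F_1 → 0`: the limit is `f`-torsion free
with quotients `F_n` (Stacks 0EHD pattern, (1) ⇒ (4)) -/

set_option autoImplicit false
universe u

open CategoryTheory CategoryTheory.Limits AlgebraicGeometry Opposite

namespace Groth.Agent.Lib.Helper12.H12LT

open Groth.Agent.Lib.Helper12.H12FF
open Groth.Agent.Lib.Helper17.SG8 Groth.Agent.Lib.Helper17.RL12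

variable {A : Type u} [CommRing A] {X : Scheme.{u}} [X.Over (Spec (CommRingCat.of A))]

section

variable {Fn : ℕ → X.Modules} (tn : ∀ n, Fn (n + 1) ⟶ Fn n)

/-- the transition maps to the first term -/
noncomputable def pn : ∀ n, Fn n ⟶ Fn 0
  | 0 => 𝟙 _
  | n + 1 => tn n ≫ pn n

lemma pn_zero : pn tn 0 = 𝟙 _ := rfl
lemma pn_succ (n : ℕ) : pn tn (n + 1) = tn n ≫ pn tn n := rfl

variable (i : ∀ n, Fn n ⟶ Fn (n + 1))

/-- the composite inclusions of the first term -/
noncomputable def ιn : ∀ n, Fn 0 ⟶ Fn n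
  | 0 => 𝟙 _
  | n + 1 => ιn n ≫ i n

lemma ιn_zero : ιn i 0 = 𝟙 _ := rfl
lemma ιn_succ (n : ℕ) : ιn i (n + 1) = ιn i n ≫ i n := rfl

variable (f : A) (hi : ∀ n, Mono (i n))
  (h1 : ∀ n, tn n ≫ i n = Formal.smulMod A (Fn (n + 1)) f)
  (h2 : ∀ n, ∃ w : i n ≫ pn tn (n + 1) = 0, (ShortComplex.mk (i n) (pn tn (n + 1)) w).ShortExact)

include hi h1 in
lemma i_comp_tn (n : ℕ) : i n ≫ tn n = Formal.smulMod A (Fn n) f := by
  haveI := hi n
  rw [← cancel_mono (i n), Category.assoc, h1, comp_smulMod]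

include hi h1 h2 in
lemma smulMod_zero_eq_zero : Formal.smulMod A (Fn 0) f = 0 := by
  haveI := hi 0
  obtain ⟨w, -⟩ := h2 0
  rw [pn_succ, pn_zero, Category.comp_id] at w
  rw [← cancel_mono (i 0), zero_comp, ← comp_smulMod, ← h1, ← Category.assoc, w, zero_comp]

include hi h1 h2 in
lemma smulMod_pow_eq_zero (n : ℕ) : Formal.smulMod A (Fn n) (f ^ (n + 1)) = 0 := by
  induction n with
  | zero => rw [zero_add, pow_one]; exact smulMod_zero_eq_zero tn i f hi h1 h2
  | succ n ih =>
    rw [pow_succ', smulMod_mul, ← h1, Category.assoc, comp_smulMod, ih, zero_comp, comp_zero]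

include hi h1 h2 in
lemma killedBy (n : ℕ) : Formal.KilledBy ((Ideal.span ({f} : Set A)) ^ (n + 1)) (Fn n) := by
  intro a ha
  rw [Ideal.span_singleton_pow, Ideal.mem_span_singleton'] at ha
  obtain ⟨c, rfl⟩ := ha
  rw [smulMod_mul, smulMod_pow_eq_zero tn i f hi h1 h2, comp_zero]

include h1 in
lemma smulMod_pow_eq (n : ℕ) :
    Formal.smulMod A (Fn (n + 1)) (f ^ (n + 1)) = pn tn (n + 1) ≫ ιn i (n + 1) := by
  induction n with
  | zero =>
    rw [zero_add, pow_one, pn_succ, pn_zero, ιn_succ, ιn_zero, Category.comp_id, Category.id_comp,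
      h1]
  | succ n ih =>
    rw [pow_succ', smulMod_mul, ← h1 (n + 1), Category.assoc, comp_smulMod, ih, pn_succ tn (n + 1),
      ιn_succ i (n + 1)]
    simp only [Category.assoc]

include hi h1 h2 in
lemma epi_tn' (n : ℕ) : Epi (tn n) := by
  induction n with
  | zero =>
    obtain ⟨w, hS⟩ := h2 0
    have := hS.epi_g
    simp only [pn_succ, pn_zero, Category.comp_id] at this
    exact this
  | succ n ih =>
    apply Preadditive.epi_of_cancel_zero
    intro C c hc
    obtain ⟨w, hS⟩ := h2 n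
    haveI := hS.epi_g
    have h3 : i n ≫ c = 0 := by
      rw [← cancel_epi (tn n), comp_zero, ← Category.assoc, h1, ← i_comp_tn tn i f hi h1 (n + 1),
        Category.assoc, hc, comp_zero]
    have h4 := hS.exact.g_desc c h3
    dsimp only at h4
    obtain ⟨w', hS'⟩ := h2 (n + 1)
    haveI := hS'.epi_g
    have h5 : hS.exact.desc c h3 = 0 := by
      rw [← cancel_epi (pn tn (n + 1 + 1)), comp_zero, pn_succ tn (n + 1), Category.assoc, h4, hc]
    rw [← h4, h5, comp_zero]

include hi h1 h2 in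
lemma exact_refine (n : ℕ) : ∀ {P : X.Modules} (σ : P ⟶ Fn (n + 1)), σ ≫ tn n = 0 →
    ∃ (P' : X.Modules) (π : P' ⟶ P) (_ : Epi π) (y : P' ⟶ Fn 0), π ≫ σ = y ≫ ιn i (n + 1) := by
  induction n with
  | zero =>
    intro P σ hσ
    obtain ⟨w, hS⟩ := h2 0
    have hσ' : σ ≫ pn tn (0 + 1) = 0 := by
      rw [pn_succ, pn_zero, Category.comp_id]; exact hσ
    obtain ⟨P', π, hπ, x, hx⟩ := hS.exact.exact_up_to_refinements σ hσ'
    refine ⟨P', π, hπ, x, ?_⟩
    rw [ιn_succ, ιn_zero, Category.id_comp]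
    exact hx
  | succ n ih =>
    intro P σ hσ
    obtain ⟨w, hS⟩ := h2 (n + 1)
    have hσ' : σ ≫ pn tn (n + 1 + 1) = 0 := by
      rw [pn_succ tn (n + 1), ← Category.assoc, hσ, zero_comp]
    obtain ⟨P', π, hπ, x, hx⟩ := hS.exact.exact_up_to_refinements σ hσ'
    dsimp only at hx
    haveI := hi n
    have hx2 : x ≫ tn n = 0 := by
      rw [← cancel_mono (i n), zero_comp, Category.assoc, h1, ← i_comp_tn tn i f hi h1 (n + 1),
        ← Category.assoc, ← hx, Category.assoc, hσ, comp_zero]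
    obtain ⟨P'', π', hπ', y, hy⟩ := ih x hx2
    refine ⟨P'', π' ≫ π, epi_comp _ _, y, ?_⟩
    rw [Category.assoc, hx, ← Category.assoc, hy, Category.assoc, ← ιn_succ]

include hi h1 h2 in
lemma smulFamily_tn (k : ℕ) :
    Formal.smulFamily ((Ideal.span ({f} : Set A)) ^ (k + 1)) (Fn (k + 1)) ≫ tn k = 0 := by
  apply Sigma.hom_ext
  intro a
  rw [comp_zero, ← Category.assoc, ι_smulFamily, ← comp_smulMod,
    killedBy tn i f hi h1 h2 k a.1 a.2, comp_zero]

include hi h1 h2 in
lemma comp_cokernelπ_eq_zero_of_comp_tn (k : ℕ) {P : X.Modules} (σ : P ⟶ Fn (k + 1))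
    (hσ0 : σ ≫ tn k = 0) :
    σ ≫ cokernel.π (Formal.smulFamily ((Ideal.span ({f} : Set A)) ^ (k + 1)) (Fn (k + 1))) = 0 := by
  obtain ⟨P2, π2, hπ2, y, hy⟩ := exact_refine tn i f hi h1 h2 k σ hσ0
  obtain ⟨w, hS⟩ := h2 k
  haveI : Epi (pn tn (k + 1)) := hS.epi_g
  obtain ⟨P3, π3, hπ3, z, hz⟩ := surjective_up_to_refinements_of_epi (pn tn (k + 1)) y
  have hmem : f ^ (k + 1) ∈ (Ideal.span ({f} : Set A)) ^ (k + 1) :=
    Ideal.pow_mem_pow (Ideal.subset_span (Set.mem_singleton f)) _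
  have hkey := smulMod_cokerπ ((Ideal.span ({f} : Set A)) ^ (k + 1)) (Fn (k + 1)) _ hmem
  rw [smulMod_pow_eq tn i f h1 k, Category.assoc] at hkey
  haveI : Epi (π3 ≫ π2) := epi_comp' hπ3 hπ2
  rw [← cancel_epi (π3 ≫ π2), comp_zero, Category.assoc, ← Category.assoc π2, hy, Category.assoc,
    ← Category.assoc π3, hz, Category.assoc, hkey, comp_zero]

include hi h1 h2 in
lemma h3_of (k : ℕ) :
    ∃ h : Formal.smulFamily ((Ideal.span ({f} : Set A)) ^ (k + 1)) (Fn (k + 1)) ≫ tn k = 0,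
      IsIso (cokernel.desc _ _ h) := by
  have h := smulFamily_tn tn i f hi h1 h2 k
  refine ⟨h, ?_⟩
  haveI := epi_tn' tn i f hi h1 h2 k
  haveI : Epi (cokernel.desc _ _ h) := epi_of_epi_fac (cokernel.π_desc _ _ h)
  haveI : Mono (cokernel.desc _ _ h) := by
    apply Preadditive.mono_of_cancel_zero
    intro P g hg
    obtain ⟨P1, π1, hπ1, σ, hσ⟩ := surjective_up_to_refinements_of_epi
      (cokernel.π (Formal.smulFamily ((Ideal.span ({f} : Set A)) ^ (k + 1)) (Fn (k + 1)))) g
    have hσ0 : σ ≫ tn k = 0 := by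
      have e1 : σ ≫ tn k = (σ ≫ cokernel.π _) ≫ cokernel.desc _ _ h := by
        rw [Category.assoc, cokernel.π_desc]
      rw [e1, ← hσ, Category.assoc, hg, comp_zero]
    have e := comp_cokernelπ_eq_zero_of_comp_tn tn i f hi h1 h2 k σ hσ0
    rw [← cancel_epi π1, hσ, e, comp_zero]
  exact isIso_of_mono_of_epi _

include hi h1 in
lemma mono_smulMod_limit : Mono (Formal.smulMod A (limit (Functor.ofOpSequence tn)) f) := by
  apply Preadditive.mono_of_cancel_zero
  intro P τ hτ
  apply hom_ext_prG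
  intro k
  haveI := hi k
  rw [zero_comp, ← prG_comp tn k, ← cancel_mono (i k), zero_comp, Category.assoc, Category.assoc,
    h1, comp_smulMod, ← Category.assoc, hτ, zero_comp]

include hi h1 h2 in
/-- **Stacks 0EHD (1) ⇒ (4)**. -/
theorem nonempty_completion_iso (hI : (Ideal.span ({f} : Set A)).FG)
    (hq : ∀ n, (Fn n).IsQuasicoherent) :
    Nonempty (Formal.completion (Ideal.span ({f} : Set A)) (limit (Functor.ofOpSequence tn)) ≅
      Functor.ofOpSequence tn) := by
  have hk := killedBy tn i f hi h1 h2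
  have h3 := h3_of tn i f hi h1 h2
  let app : ∀ n : ℕ, (Formal.completion (Ideal.span ({f} : Set A))
      (limit (Functor.ofOpSequence tn))).obj (op n) ⟶ (Functor.ofOpSequence tn).obj (op n) :=
    fun n => cokernel.desc (Formal.smulFamily ((Ideal.span ({f} : Set A)) ^ (n + 1))
      (limit (Functor.ofOpSequence tn))) (prG tn n) (smulFamily_prG _ Fn tn hk n)
  have happ : ∀ n, IsIso (app n) := fun n =>
    isIso_cokernel_desc_prG _ Fn tn hI hq hk h3 n
  have hnat : ∀ n : ℕ, Formal.modPowTrans (Ideal.span ({f} : Set A)) (n + 1)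
      (limit (Functor.ofOpSequence tn)) ≫
      cokernel.desc (Formal.smulFamily ((Ideal.span ({f} : Set A)) ^ (n + 1))
        (limit (Functor.ofOpSequence tn))) (prG tn n) (smulFamily_prG _ Fn tn hk n) =
      cokernel.desc (Formal.smulFamily ((Ideal.span ({f} : Set A)) ^ (n + 1 + 1))
        (limit (Functor.ofOpSequence tn))) (prG tn (n + 1)) (smulFamily_prG _ Fn tn hk (n + 1)) ≫
        tn n := by
    intro n
    have e1 : Formal.modPowπ (Ideal.span ({f} : Set A)) (n + 1) (limit (Functor.ofOpSequence tn)) ≫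
        cokernel.desc (Formal.smulFamily ((Ideal.span ({f} : Set A)) ^ (n + 1))
          (limit (Functor.ofOpSequence tn))) (prG tn n) (smulFamily_prG _ Fn tn hk n) = prG tn n :=
      cokernel.π_desc _ _ _
    have e2 : Formal.modPowπ (Ideal.span ({f} : Set A)) (n + 1 + 1)
        (limit (Functor.ofOpSequence tn)) ≫
        cokernel.desc (Formal.smulFamily ((Ideal.span ({f} : Set A)) ^ (n + 1 + 1))
          (limit (Functor.ofOpSequence tn))) (prG tn (n + 1)) (smulFamily_prG _ Fn tn hk (n + 1)) =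
        prG tn (n + 1) :=
      cokernel.π_desc _ _ _
    rw [← cancel_epi (Formal.modPowπ (Ideal.span ({f} : Set A)) (n + 1 + 1)
      (limit (Functor.ofOpSequence tn)))]
    rw [← Category.assoc, Formal.modPowπ_trans, e1]
    exact ((Category.assoc _ _ _).symm.trans
      ((congrArg (fun x => x ≫ tn n) e2).trans (prG_comp tn n))).symm
  let φ : Formal.completion (Ideal.span ({f} : Set A)) (limit (Functor.ofOpSequence tn)) ⟶
      Functor.ofOpSequence tn := NatTrans.ofOpSequence app (by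
    intro n
    rw [Functor.ofOpSequence_map_homOfLE_succ]
    have e : (Formal.completion (Ideal.span ({f} : Set A))
        (limit (Functor.ofOpSequence tn))).map (homOfLE (n.le_add_right 1)).op =
        Formal.modPowTrans (Ideal.span ({f} : Set A)) (n + 1) (limit (Functor.ofOpSequence tn)) := by
      unfold Formal.completion
      rw [Functor.ofOpSequence_map_homOfLE_succ]
    rw [e]
    exact hnat n)
  haveI : ∀ j : ℕᵒᵖ, IsIso (φ.app j) := fun j => happ j.unop
  haveI : IsIso φ := NatIso.isIso_of_isIso_app φ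
  exact ⟨asIso φ⟩

end

end Groth.Agent.Lib.Helper12.H12LT
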