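import Mathlib
import Groth.Agent.Lib.Helper17.SG9
import Groth.Agent.Lib.Helper12.LT3
import Groth.Agent.Lib.Helper12.Dev9

/-! # Mittag-Leffler towers of coherent modules: the image of the limit is the stable image -/

set_option autoImplicit false
universe u

open CategoryTheory CategoryTheory.Limits AlgebraicGeometry Opposite

namespace Groth.Agent.Lib.Helper12.H12LT

open Groth.Agent.Lib.Helper17.SG1 Groth.Agent.Lib.Helper17.SG2 Groth.Agent.Lib.Helper17.SG7
open Groth.Agent.Lib.Helper17.SG8 Groth.Agent.Lib.Helper17.SG9 Groth.Agent.Lib.Helper17.RL12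

variable {X : Scheme.{u}}

section

variable {Fn : ℕ → X.Modules} (tn : ∀ n, Fn (n + 1) ⟶ Fn n)

/-- the general transition maps -/
noncomputable def TT {e d : ℕ} (h : e ≤ d) : Fn d ⟶ Fn e :=
  (Functor.ofOpSequence tn).map (homOfLE h).op

lemma TT_comp {a b c : ℕ} (h1 : a ≤ b) (h2 : b ≤ c) :
    TT tn h2 ≫ TT tn h1 = TT tn (h1.trans h2) := by
  unfold TT
  exact ((Functor.ofOpSequence tn).map_comp (homOfLE h2).op (homOfLE h1).op).symm

lemma TT_succ (n : ℕ) : TT tn (Nat.le_succ n) = tn n :=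
  Functor.ofOpSequence_map_homOfLE_succ tn n

lemma prG_TT {e d : ℕ} (h : e ≤ d) : prG tn d ≫ TT tn h = prG tn e :=
  limit.w (Functor.ofOpSequence tn) (homOfLE h).op

lemma isQuasicoherent_imageSubobject {M N : X.Modules} (φ : M ⟶ N) [M.IsQuasicoherent]
    [N.IsQuasicoherent] : ((imageSubobject φ : Subobject N) : X.Modules).IsQuasicoherent := by
  haveI : (Abelian.image φ).IsQuasicoherent :=
    inferInstanceAs (kernel (cokernel.π φ)).IsQuasicoherent
  exact isQuasicoherent_of_iso ((Abelian.imageIsoImage φ) ≪≫ (imageSubobjectIso φ).symm)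

variable (hq : ∀ n, (Fn n).IsQuasicoherent)
  (dd : ℕ → ℕ) (hdd : ∀ e, e ≤ dd e)
  (hst : ∀ e d' (hd' : dd e ≤ d'),
    imageSubobject (TT tn ((hdd e).trans hd')) = imageSubobject (TT tn (hdd e)))

/-- the stable image -/
noncomputable def SS (e : ℕ) : Subobject (Fn e) := imageSubobject (TT tn (hdd e))

include hq hst in
/-- (B) -/
lemma exists_lift_of_factors (V : X.Opens) (hV : IsAffineOpen V) (e k : ℕ) (hk : dd e ≤ k)
    (σ : (schemeGens X).G V ⟶ Fn e) (hσ : (SS tn dd hdd e).Factors σ) :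
    ∃ ρ : (schemeGens X).G V ⟶ Fn k, ρ ≫ TT tn ((hdd e).trans hk) = σ := by
  have hS : SS tn dd hdd e = imageSubobject (TT tn ((hdd e).trans hk)) := (hst e k hk).symm
  rw [hS] at hσ
  haveI := hq e
  haveI := hq k
  haveI := isQuasicoherent_imageSubobject (TT tn ((hdd e).trans hk))
  obtain ⟨ρ, hρ⟩ := exists_lift_of_epi X V hV
    (factorThruImageSubobject (TT tn ((hdd e).trans hk)))
    ((imageSubobject (TT tn ((hdd e).trans hk))).factorThru σ hσ)
  refine ⟨ρ, ?_⟩
  have := congrArg (fun x => x ≫ (imageSubobject (TT tn ((hdd e).trans hk))).arrow) hρ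
  simpa using this

include hq hst in
/-- (D) -/
lemma exists_succ (V : X.Opens) (hV : IsAffineOpen V) (d : ℕ)
    (σ : (schemeGens X).G V ⟶ Fn d) (hσ : (SS tn dd hdd d).Factors σ) :
    ∃ σ' : (schemeGens X).G V ⟶ Fn (d + 1), (SS tn dd hdd (d + 1)).Factors σ' ∧ σ' ≫ tn d = σ := by
  have hk1 : dd d ≤ max (dd d) (dd (d + 1)) := le_max_left _ _
  have hk2 : dd (d + 1) ≤ max (dd d) (dd (d + 1)) := le_max_right _ _
  obtain ⟨ρ, hρ⟩ := exists_lift_of_factors tn hq dd hdd hst V hV d _ hk1 σ hσ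
  refine ⟨ρ ≫ TT tn ((hdd (d + 1)).trans hk2), ?_, ?_⟩
  · have hS : SS tn dd hdd (d + 1) = imageSubobject (TT tn ((hdd (d + 1)).trans hk2)) :=
      (hst (d + 1) _ hk2).symm
    rw [hS]
    exact imageSubobject_factors_comp_self _ _
  · rw [← TT_succ tn d, Category.assoc, TT_comp, hρ]

include hq hst in
/-- (C) -/
lemma factors_comp_tn (V : X.Opens) (hV : IsAffineOpen V) (d : ℕ)
    (σ : (schemeGens X).G V ⟶ Fn (d + 1)) (hσ : (SS tn dd hdd (d + 1)).Factors σ) :
    (SS tn dd hdd d).Factors (σ ≫ tn d) := by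
  have hk1 : dd d ≤ max (dd d) (dd (d + 1)) := le_max_left _ _
  have hk2 : dd (d + 1) ≤ max (dd d) (dd (d + 1)) := le_max_right _ _
  obtain ⟨ρ, hρ⟩ := exists_lift_of_factors tn hq dd hdd hst V hV (d + 1) _ hk2 σ hσ
  have hS : SS tn dd hdd d = imageSubobject (TT tn ((hdd d).trans hk1)) := (hst d _ hk1).symm
  have e : σ ≫ tn d = ρ ≫ TT tn ((hdd d).trans hk1) := by
    rw [← hρ, ← TT_succ tn d, Category.assoc, TT_comp]
  rw [hS, e]
  exact imageSubobject_factors_comp_self _ _

include hq hst in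
/-- (E) -/
lemma exists_lift_limit (V : X.Opens) (hV : IsAffineOpen V) (e : ℕ)
    (σ : (schemeGens X).G V ⟶ Fn e) (hσ : (SS tn dd hdd e).Factors σ) :
    ∃ τ : (schemeGens X).G V ⟶ limit (Functor.ofOpSequence tn), τ ≫ prG tn e = σ := by
  let M : ℕ → Type u := fun d => {σ : (schemeGens X).G V ⟶ Fn d // (SS tn dd hdd d).Factors σ}
  let t : ∀ d, M (d + 1) → M d := fun d s =>
    ⟨s.1 ≫ tn d, factors_comp_tn tn hq dd hdd hst V hV d s.1 s.2⟩
  have ht : ∀ d, Function.Surjective (t d) := by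
    intro d s
    obtain ⟨σ', h1, h2⟩ := exists_succ tn hq dd hdd hst V hV d s.1 s.2
    exact ⟨⟨σ', h1⟩, Subtype.ext h2⟩
  obtain ⟨x, hx, hxe⟩ := exists_compatible e t ht ⟨σ, hσ⟩
  refine ⟨towerLift tn (fun d => (x d).1) (fun d => congrArg Subtype.val (hx d)), ?_⟩
  rw [lift_prG]
  exact congrArg Subtype.val hxe

lemma factors_prG (e : ℕ) : (SS tn dd hdd e).Factors (prG tn e) := by
  rw [← prG_TT tn (hdd e)]
  exact imageSubobject_factors_comp_self _ _

include hq hst in
/-- (F) -/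
lemma epi_factorThru_prG (e : ℕ) :
    Epi ((SS tn dd hdd e).factorThru (prG tn e) (factors_prG tn dd hdd e)) := by
  apply epi_of_local (schemeGens X) _ {V : X.Opens | IsAffineOpen V} (exists_affine_cover X)
  intro V hV σ'
  refine ⟨⊤, GrothendieckTopology.top_mem _ V, fun Y g _ => ?_⟩
  obtain ⟨τ, hτ⟩ := exists_lift_limit tn hq dd hdd hst V hV e (σ' ≫ (SS tn dd hdd e).arrow)
    (Subobject.factors_comp_arrow σ')
  refine ⟨(schemeGens X).Gm g ≫ τ, ?_⟩
  rw [Category.assoc]
  congr 1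
  rw [← cancel_mono (SS tn dd hdd e).arrow, Category.assoc, Subobject.factorThru_arrow, hτ]

include hq hst in
/-- the support of the image of `lim G → G_e` is closed -/
theorem isClosed_support_image_prG (hft : ∀ n, (Fn n).IsFiniteType) (e : ℕ) :
    IsClosed (CohB1.support (image (prG tn e))) := by
  haveI := epi_factorThru_prG tn hq dd hdd hst e
  haveI : StrongEpi ((SS tn dd hdd e).factorThru (prG tn e) (factors_prG tn dd hdd e)) :=
    strongEpi_of_epi _
  have iso : ((SS tn dd hdd e : Subobject (Fn e)) : X.Modules) ≅ image (prG tn e) :=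
    image.isoStrongEpiMono ((SS tn dd hdd e).factorThru (prG tn e) (factors_prG tn dd hdd e))
      (SS tn dd hdd e).arrow (Subobject.factorThru_arrow _ _ _)
  rw [← Groth.Agent.Lib.Helper12.H12Dev.support_eq_of_iso iso]
  haveI := hq e
  haveI := hq (dd e)
  haveI := hft (dd e)
  haveI : ((SS tn dd hdd e : Subobject (Fn e)) : X.Modules).IsQuasicoherent :=
    isQuasicoherent_imageSubobject (TT tn (hdd e))
  have hepi : Epi (factorThruImageSubobject (TT tn (hdd e))) := inferInstance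
  haveI : ((SS tn dd hdd e : Subobject (Fn e)) : X.Modules).IsFiniteType :=
    @Groth.Agent.Lib.Helper29.QCoh.isFiniteType_of_epi _ _ _
      (factorThruImageSubobject (TT tn (hdd e))) hepi _ _ _
  exact Groth.Agent.Lib.Helper12.H12Dev.isClosed_support _

end

end Groth.Agent.Lib.Helper12.H12LT
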