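import Mathlib

set_option autoImplicit false
open CategoryTheory CategoryTheory.Limits Opposite
universe u

namespace H12LanInd

variable {C : Type u} [SmallCategory C] {C' : Type u} [SmallCategory C'] (u : C ⥤ C')

/-- left Kan extension on presheaves. -/
noncomputable abbrev Lan : (Cᵒᵖ ⥤ Type u) ⥤ (C'ᵒᵖ ⥤ Type u) := u.op.lan

/-- the adjunction. -/
noncomputable abbrev adj : Lan u ⊣ (Functor.whiskeringLeft Cᵒᵖ C'ᵒᵖ (Type u)).obj u.op :=
  u.op.lanAdjunction (Type u)

/-- the unit evaluated. -/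
noncomputable def η (G : Cᵒᵖ ⥤ Type u) (X : C) (a : G.obj (op X)) :
    ((Lan u).obj G).obj (op (u.obj X)) :=
  ((adj u).unit.app G).app (op X) a

lemma η_naturality {G G' : Cᵒᵖ ⥤ Type u} (φ : G ⟶ G') (X : C) (a : G.obj (op X)) :
    η u G' X (φ.app (op X) a) = ((Lan u).map φ).app (op (u.obj X)) (η u G X a) := by
  have := (adj u).unit.naturality φ
  have h2 := ConcreteCategory.congr_hom (NatTrans.congr_app this (op X)) a
  exact h2

/-- the comparison iso on representables. -/
noncomputable def κ (Y : C) : yoneda.obj (u.obj Y) ≅ (Lan u).obj (yoneda.obj Y) :=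
  Functor.leftKanExtensionUnique _ (yonedaMap u Y) _ (u.op.lanUnit.app (yoneda.obj Y))

lemma η_yoneda (X Y : C) (f : X ⟶ Y) :
    η u (yoneda.obj Y) X f = (κ u Y).hom.app (op (u.obj X)) (u.map f) := by
  have h := Functor.descOfIsLeftKanExtension_fac (yoneda.obj (u.obj Y)) (yonedaMap u Y)
    ((Lan u).obj (yoneda.obj Y)) (u.op.lanUnit.app (yoneda.obj Y))
  have h2 := ConcreteCategory.congr_hom (NatTrans.congr_app h (op X)) f
  unfold η
  rw [Functor.lanAdjunction_unit]
  exact h2.symm

end H12LanInd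

namespace H12LanInd

variable {C : Type u} [SmallCategory C] {C' : Type u} [SmallCategory C'] (u : C ⥤ C')

section ind

variable {G : Cᵒᵖ ⥤ Type u} (P : IndObjectPresentation G)

/-- evaluated cocone on the source. -/
noncomputable def isColimitSrc (X : C) :
    IsColimit (((evaluation Cᵒᵖ (Type u)).obj (op X)).mapCocone P.cocone) :=
  isColimitOfPreserves _ P.coconeIsColimit

/-- evaluated cocone on the target. -/
noncomputable def isColimitTgt (X' : C') :
    IsColimit ((Lan u ⋙ (evaluation C'ᵒᵖ (Type u)).obj (op X')).mapCocone P.cocone) := by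
  haveI : PreservesColimitsOfSize.{u, u} (Lan u) := (adj u).leftAdjoint_preservesColimits
  exact isColimitOfPreserves _ P.coconeIsColimit

lemma exists_rep (X : C) (a : G.obj (op X)) :
    ∃ (j : P.I) (a' : X ⟶ P.F.obj j), (P.ι.app j).app (op X) a' = a := by
  obtain ⟨j, a', h⟩ := Types.jointly_surjective_of_isColimit (isColimitSrc P X) a
  exact ⟨j, a', h⟩

lemma ι_comp {i k : P.I} (f : i ⟶ k) (X : C) (a' : X ⟶ P.F.obj i) :
    (P.ι.app k).app (op X) (a' ≫ P.F.map f) = (P.ι.app i).app (op X) a' := by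
  have h := P.ι.naturality f
  have h2 := ConcreteCategory.congr_hom (NatTrans.congr_app h (op X)) a'
  exact h2

include P in
lemma η_injective [u.Faithful] (X : C) : Function.Injective (η u G X) := by
  intro a b hab
  obtain ⟨i, a', rfl⟩ := exists_rep P X a
  obtain ⟨j, b', rfl⟩ := exists_rep P X b
  rw [η_naturality, η_naturality] at hab
  have hc := isColimitTgt u P (u.obj X)
  have key := (Types.FilteredColimit.isColimit_eq_iff _ hc
    (xi := η u (yoneda.obj (P.F.obj i)) X a') (xj := η u (yoneda.obj (P.F.obj j)) X b')).1 hab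
  obtain ⟨k, f, g, hfg⟩ := key
  have e1 : ((Lan u).map (yoneda.map (P.F.map f))).app (op (u.obj X))
      (η u (yoneda.obj (P.F.obj i)) X a') = η u (yoneda.obj (P.F.obj k)) X (a' ≫ P.F.map f) :=
    (η_naturality u (yoneda.map (P.F.map f)) X a').symm
  have e2 : ((Lan u).map (yoneda.map (P.F.map g))).app (op (u.obj X))
      (η u (yoneda.obj (P.F.obj j)) X b') = η u (yoneda.obj (P.F.obj k)) X (b' ≫ P.F.map g) :=
    (η_naturality u (yoneda.map (P.F.map g)) X b').symm
  have e3 : η u (yoneda.obj (P.F.obj k)) X (a' ≫ P.F.map f) =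
      η u (yoneda.obj (P.F.obj k)) X (b' ≫ P.F.map g) := by
    rw [← e1, ← e2]; exact hfg
  rw [η_yoneda, η_yoneda] at e3
  have e4 : u.map (a' ≫ P.F.map f) = u.map (b' ≫ P.F.map g) := by
    have := congrArg ((κ u (P.F.obj k)).inv.app (op (u.obj X))) e3
    simpa using this
  have e5 := u.map_injective e4
  rw [← ι_comp P f X a', ← ι_comp P g X b', e5]

include P in
lemma η_surjective [u.Full] (X : C) : Function.Surjective (η u G X) := by
  intro y
  obtain ⟨j, y', hy⟩ := Types.jointly_surjective_of_isColimit (isColimitTgt u P (u.obj X)) y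
  obtain ⟨a, ha⟩ := u.map_surjective ((κ u (P.F.obj j)).inv.app (op (u.obj X)) y')
  refine ⟨(P.ι.app j).app (op X) a, ?_⟩
  rw [η_naturality]
  have e : η u ((P.F ⋙ yoneda).obj j) X a = y' := by
    show η u (yoneda.obj (P.F.obj j)) X a = y'
    rw [η_yoneda, ha]
    simp
  rw [e]
  exact hy

end ind

end H12LanInd

namespace H12LanInd

variable {C : Type u} [SmallCategory C] {C' : Type u} [SmallCategory C'] (u : C ⥤ C')

lemma homEquiv_lan_map {F G : Cᵒᵖ ⥤ Type u} (φ : F ⟶ G) :
    (adj u).homEquiv _ _ ((Lan u).map φ) = φ ≫ (adj u).unit.app G := by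
  rw [Adjunction.homEquiv_unit]
  exact ((adj u).unit.naturality φ).symm

lemma κ_hom_injective (Y : C) (X' : C') :
    Function.Injective ((κ u Y).hom.app (op X')) := by
  intro a b h
  have := congrArg ((κ u Y).inv.app (op X')) h
  simpa using this

/-- S6135, forward. -/
lemma faithful_imp [u.Faithful] (F G : Cᵒᵖ ⥤ Type u) (hG : IsIndObject G) :
    Function.Injective (fun φ : F ⟶ G => (Lan u).map φ) := by
  obtain ⟨⟨P⟩⟩ := hG
  intro φ ψ h
  ext X a
  obtain ⟨X⟩ := X
  apply η_injective u P X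
  have h' : (Lan u).map φ = (Lan u).map ψ := h
  exact (η_naturality u φ X a).trans (h' ▸ (η_naturality u ψ X a).symm)

/-- S6135, backward. -/
lemma imp_faithful
    (H : ∀ (F G : Cᵒᵖ ⥤ Type u), IsIndObject F → IsIndObject G →
      Function.Injective (fun φ : F ⟶ G => (Lan u).map φ)) : u.Faithful := by
  refine ⟨fun {X Y} f g hfg => ?_⟩
  have h1 : (Lan u).map (yoneda.map f) = (Lan u).map (yoneda.map g) := by
    apply ((adj u).homEquiv _ _).injective
    rw [homEquiv_lan_map, homEquiv_lan_map]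
    apply yonedaEquiv.injective
    show η u (yoneda.obj Y) X ((yoneda.map f).app (op X) (𝟙 X)) =
      η u (yoneda.obj Y) X ((yoneda.map g).app (op X) (𝟙 X))
    rw [η_yoneda, η_yoneda]
    simp [hfg]
  have h2 := H _ _ (isIndObject_yoneda X) (isIndObject_yoneda Y) h1
  exact yoneda.map_injective h2

/-- S6136, forward. -/
lemma full_faithful_imp [u.Full] [u.Faithful] (F G : Cᵒᵖ ⥤ Type u) (hG : IsIndObject G) :
    Function.Bijective (fun φ : F ⟶ G => (Lan u).map φ) := by
  refine ⟨faithful_imp u F G hG, ?_⟩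
  obtain ⟨⟨P⟩⟩ := hG
  intro θ
  haveI : IsIso ((adj u).unit.app G) := by
    haveI : ∀ X, IsIso (((adj u).unit.app G).app X) := by
      intro X
      obtain ⟨X⟩ := X
      rw [isIso_iff_bijective]
      exact ⟨η_injective u P X, η_surjective u P X⟩
    exact NatIso.isIso_of_isIso_app _
  refine ⟨(adj u).homEquiv _ _ θ ≫ inv ((adj u).unit.app G), ?_⟩
  apply ((adj u).homEquiv _ _).injective
  show (adj u).homEquiv _ _ ((Lan u).map _) = _
  rw [homEquiv_lan_map]
  simp

/-- S6136, backward (fullness). -/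
lemma imp_full
    (H : ∀ (F G : Cᵒᵖ ⥤ Type u), IsIndObject F → IsIndObject G →
      Function.Surjective (fun φ : F ⟶ G => (Lan u).map φ)) : u.Full := by
  refine ⟨fun {X Y} c => ?_⟩
  obtain ⟨φ, hφ⟩ := H _ _ (isIndObject_yoneda X) (isIndObject_yoneda Y)
    ((κ u X).inv ≫ yoneda.map c ≫ (κ u Y).hom)
  obtain ⟨f, rfl⟩ := yoneda.map_surjective φ
  refine ⟨f, ?_⟩
  have hφ' : (Lan u).map (yoneda.map f) = (κ u X).inv ≫ yoneda.map c ≫ (κ u Y).hom := hφ
  have e1 := η_naturality u (yoneda.map f) X (𝟙 X)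
  have e2 : (yoneda.map f).app (op X) (𝟙 X) = f := by simp
  rw [e2, η_yoneda, η_yoneda, hφ'] at e1
  apply κ_hom_injective u Y (u.obj X)
  rw [e1]
  simp

end H12LanInd
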