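import Mathlib
import Groth.Agent.Lib.Helper12.LanInd

set_option autoImplicit false
open CategoryTheory CategoryTheory.Limits Opposite
universe u v₁ v₂ u₁ u₂

namespace H12LanInd

section abstract

variable {A : Type u₁} [Category.{v₁} A] {B : Type u₂} [Category.{v₂} B] (Φ : A ⥤ B)

lemma isFiltered_of_full_faithful_of_exists [Φ.Full] [Φ.Faithful] [IsFiltered B]
    (h : ∀ b : B, ∃ a : A, Nonempty (b ⟶ Φ.obj a)) : IsFiltered A := by
  haveI : Nonempty A := by
    obtain ⟨b⟩ := IsFiltered.nonempty (C := B)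
    obtain ⟨a, _⟩ := h b
    exact ⟨a⟩
  haveI : IsFilteredOrEmpty A := by
    refine ⟨?_, ?_⟩
    · intro a₁ a₂
      obtain ⟨a, ⟨i⟩⟩ := h (IsFiltered.max (Φ.obj a₁) (Φ.obj a₂))
      exact ⟨a, Φ.preimage (IsFiltered.leftToMax _ _ ≫ i),
        Φ.preimage (IsFiltered.rightToMax _ _ ≫ i), trivial⟩
    · intro a₁ a₂ f g
      obtain ⟨a, ⟨i⟩⟩ := h (IsFiltered.coeq (Φ.map f) (Φ.map g))
      refine ⟨a, Φ.preimage (IsFiltered.coeqHom (Φ.map f) (Φ.map g) ≫ i), ?_⟩
      apply Φ.map_injective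
      rw [Φ.map_comp, Φ.map_comp, Φ.map_preimage, ← Category.assoc, ← Category.assoc,
        IsFiltered.coeq_condition]
  exact ⟨⟩

end abstract

variable {C : Type u} [SmallCategory C] {C' : Type u} [SmallCategory C'] (u : C ⥤ C')

section pullback

variable (G' : C'ᵒᵖ ⥤ Type u)

/-- the element attached to a map from a representable. -/
def ev {X : C} (x : yoneda.obj X ⟶ u.op ⋙ G') : G'.obj (op (u.obj X)) :=
  yonedaEquiv (F := u.op ⋙ G') (X := X) x

/-- transport along Yoneda. -/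
def tr {X : C} (x : yoneda.obj X ⟶ u.op ⋙ G') : yoneda.obj (u.obj X) ⟶ G' :=
  yonedaEquiv.symm (ev u G' x)

lemma yonedaEquiv_tr {X : C} (x : yoneda.obj X ⟶ u.op ⋙ G') :
    yonedaEquiv (tr u G' x) = ev u G' x := by
  unfold tr
  rw [Equiv.apply_symm_apply]

lemma ev_injective {X : C} : Function.Injective (ev u G' (X := X)) :=
  (yonedaEquiv (F := u.op ⋙ G') (X := X)).injective

lemma ev_comp {X Y : C} (t : X ⟶ Y) (y : yoneda.obj Y ⟶ u.op ⋙ G') :
    ev u G' (yoneda.map t ≫ y) = G'.map (u.map t).op (ev u G' y) :=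
  (yonedaEquiv_naturality (F := u.op ⋙ G') y t).symm

lemma tr_comp {X Y : C} (t : X ⟶ Y) (y : yoneda.obj Y ⟶ u.op ⋙ G') :
    yoneda.map (u.map t) ≫ tr u G' y = tr u G' (yoneda.map t ≫ y) := by
  apply yonedaEquiv.injective
  rw [← yonedaEquiv_naturality, yonedaEquiv_tr, yonedaEquiv_tr, ev_comp]

lemma tr_injective {X : C} : Function.Injective (tr u G' (X := X)) := by
  intro x y h
  apply ev_injective u G'
  have := congrArg yonedaEquiv h
  rw [yonedaEquiv_tr, yonedaEquiv_tr] at this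
  exact this

/-- transport of costructured arrows. -/
def Φ : CostructuredArrow yoneda (u.op ⋙ G') ⥤ CostructuredArrow yoneda G' where
  obj a := CostructuredArrow.mk (tr u G' a.hom)
  map {a b} f := CostructuredArrow.homMk (u.map f.left) (by
    dsimp
    rw [tr_comp, CostructuredArrow.w f])
  map_id a := by
    ext
    simp
  map_comp f g := by
    ext
    simp

instance [u.Faithful] : (Φ u G').Faithful where
  map_injective {a b} f g h := by
    ext
    have := congrArg CommaMorphism.left h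
    exact u.map_injective this

instance [u.Full] : (Φ u G').Full where
  map_surjective {a b} g := by
    obtain ⟨t, ht⟩ := u.map_surjective g.left
    refine ⟨CostructuredArrow.homMk t ?_, ?_⟩
    · apply tr_injective u G'
      rw [← tr_comp, ht]
      exact CostructuredArrow.w g
    · ext
      exact ht

lemma Φ_exists (hr : ∀ X' : C', ∃ (X : C) (i : X' ⟶ u.obj X) (r : u.obj X ⟶ X'), i ≫ r = 𝟙 X')
    (b : CostructuredArrow yoneda G') : ∃ a, Nonempty (b ⟶ (Φ u G').obj a) := by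
  obtain ⟨X, i, r, hir⟩ := hr b.left
  let x : yoneda.obj X ⟶ u.op ⋙ G' :=
    yonedaEquiv.symm (show (u.op ⋙ G').obj (op X) from G'.map r.op (yonedaEquiv b.hom))
  refine ⟨CostructuredArrow.mk x, ⟨?_⟩⟩
  refine CostructuredArrow.homMk i ?_
  apply yonedaEquiv.injective
  show yonedaEquiv (yoneda.map i ≫ tr u G' x) = yonedaEquiv b.hom
  rw [← yonedaEquiv_naturality, yonedaEquiv_tr]
  have hx : ev u G' x = G'.map r.op (yonedaEquiv b.hom) :=
    Equiv.apply_symm_apply (yonedaEquiv (F := u.op ⋙ G') (X := X)) _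
  rw [hx, ← Functor.map_comp_apply, ← op_comp, hir]
  simp

lemma isIndObject_pullback [u.Full] [u.Faithful]
    (hr : ∀ X' : C', ∃ (X : C) (i : X' ⟶ u.obj X) (r : u.obj X ⟶ X'), i ≫ r = 𝟙 X')
    (hG' : IsIndObject G') : IsIndObject (u.op ⋙ G') := by
  rw [isIndObject_iff]
  haveI := hG'.isFiltered
  refine ⟨isFiltered_of_full_faithful_of_exists (Φ u G') (Φ_exists u G' hr), ?_⟩
  exact finallySmall_of_essentiallySmall _

end pullback

end H12LanInd

namespace H12LanInd

variable {C : Type u} [SmallCategory C] {C' : Type u} [SmallCategory C'] (u : C ⥤ C')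

lemma map_op_comp (P : C'ᵒᵖ ⥤ Type u) {X Y Z : C'} (f : X ⟶ Y) (g : Y ⟶ Z) (z : P.obj (op Z)) :
    P.map f.op (P.map g.op z) = P.map (f ≫ g).op z := by
  rw [op_comp, Functor.map_comp_apply]

section retract

variable (hr : ∀ X' : C', ∃ (X : C) (i : X' ⟶ u.obj X) (r : u.obj X ⟶ X'), i ≫ r = 𝟙 X')

/-- chosen object -/
noncomputable def rX (X' : C') : C := (hr X').choose
/-- chosen section -/
noncomputable def ri (X' : C') : X' ⟶ u.obj (rX u hr X') := (hr X').choose_spec.choose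
/-- chosen retraction -/
noncomputable def rr (X' : C') : u.obj (rX u hr X') ⟶ X' := (hr X').choose_spec.choose_spec.choose

lemma ri_rr (X' : C') : ri u hr X' ≫ rr u hr X' = 𝟙 X' :=
  (hr X').choose_spec.choose_spec.choose_spec

/-- The restriction functor. -/
abbrev Res : (C'ᵒᵖ ⥤ Type u) ⥤ (Cᵒᵖ ⥤ Type u) :=
  (Functor.whiskeringLeft Cᵒᵖ C'ᵒᵖ (Type u)).obj u.op

include hr in
lemma res_faithful : (Res u).Faithful := by
  refine ⟨fun {G' H'} α β h => ?_⟩
  ext X' x
  obtain ⟨X'⟩ := X'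
  have e1 : x = G'.map (ri u hr X').op (G'.map (rr u hr X').op x) := by
    rw [map_op_comp, ri_rr]; simp
  have hα := NatTrans.naturality_apply (CD := fun X => X) α (ri u hr X').op (G'.map (rr u hr X').op x)
  have hβ := NatTrans.naturality_apply (CD := fun X => X) β (ri u hr X').op (G'.map (rr u hr X').op x)
  have h2 : α.app (op (u.obj (rX u hr X'))) = β.app (op (u.obj (rX u hr X'))) :=
    NatTrans.congr_app h (op (rX u hr X'))
  rw [e1]
  refine hα.trans (Eq.trans ?_ hβ.symm)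
  rw [h2]

/-- the extension of a transformation on restrictions. -/
noncomputable def ext' [u.Full] {G' H' : C'ᵒᵖ ⥤ Type u} (γ : u.op ⋙ G' ⟶ u.op ⋙ H') : G' ⟶ H' where
  app Y := TypeCat.ofHom fun x =>
    H'.map (ri u hr (unop Y)).op (γ.app (op (rX u hr (unop Y))) (G'.map (rr u hr (unop Y)).op x))
  naturality Y₁ Y₂ f := by
    obtain ⟨X₂⟩ := Y₁
    obtain ⟨X₁⟩ := Y₂
    obtain ⟨c, rfl⟩ : ∃ c : X₁ ⟶ X₂, f = c.op := ⟨f.unop, rfl⟩
    ext x
    show H'.map (ri u hr X₁).op (γ.app (op (rX u hr X₁)) (G'.map (rr u hr X₁).op (G'.map c.op x))) =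
      H'.map c.op (H'.map (ri u hr X₂).op (γ.app (op (rX u hr X₂)) (G'.map (rr u hr X₂).op x)))
    obtain ⟨t, ht⟩ := u.map_surjective (rr u hr X₁ ≫ c ≫ ri u hr X₂)
    have hγ := NatTrans.naturality_apply (CD := fun X => X) γ t.op (G'.map (rr u hr X₂).op x)
    have e1 : G'.map (rr u hr X₁).op (G'.map c.op x) =
        (u.op ⋙ G').map t.op (G'.map (rr u hr X₂).op x) := by
      show _ = G'.map (u.map t).op (G'.map (rr u hr X₂).op x)
      rw [map_op_comp, map_op_comp, ht]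
      simp only [Category.assoc, ri_rr, Category.comp_id]
    rw [e1, hγ]
    show H'.map (ri u hr X₁).op (H'.map (u.map t).op _) = _
    rw [map_op_comp, map_op_comp, ht, ← Category.assoc, ← Category.assoc, ri_rr]
    simp

lemma res_ext' [u.Full] {G' H' : C'ᵒᵖ ⥤ Type u} (γ : u.op ⋙ G' ⟶ u.op ⋙ H') :
    (Res u).map (ext' u hr γ) = γ := by
  ext X x
  obtain ⟨X⟩ := X
  show H'.map (ri u hr (u.obj X)).op
    (γ.app (op (rX u hr (u.obj X))) (G'.map (rr u hr (u.obj X)).op x)) = γ.app (op X) x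
  obtain ⟨s, hs⟩ := u.map_surjective (ri u hr (u.obj X))
  obtain ⟨t, ht⟩ := u.map_surjective (rr u hr (u.obj X))
  have hγ := NatTrans.naturality_apply (CD := fun X => X) γ s.op (G'.map (rr u hr (u.obj X)).op x)
  have e : H'.map (ri u hr (u.obj X)).op
      (γ.app (op (rX u hr (u.obj X))) (G'.map (rr u hr (u.obj X)).op x)) =
      (u.op ⋙ H').map s.op (γ.app (op (rX u hr (u.obj X))) (G'.map (rr u hr (u.obj X)).op x)) := by
    show _ = H'.map (u.map s).op _
    rw [hs]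
  rw [e, ← hγ]
  congr 1
  show G'.map (u.map s).op _ = x
  rw [hs, map_op_comp, ri_rr]
  simp

include hr in
lemma res_full [u.Full] : (Res u).Full :=
  ⟨fun {G' H'} γ => ⟨ext' u hr γ, res_ext' u hr γ⟩⟩

end retract

end H12LanInd

namespace H12LanInd

variable {C : Type u} [SmallCategory C] {C' : Type u} [SmallCategory C'] (u : C ⥤ C')

lemma exists_retract (X' : C') (F : Cᵒᵖ ⥤ Type u) (hF : IsIndObject F)
    (e : (Lan u).obj F ≅ yoneda.obj X') :
    ∃ (X : C) (i : X' ⟶ u.obj X) (r : u.obj X ⟶ X'), i ≫ r = 𝟙 X' := by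
  obtain ⟨⟨P⟩⟩ := hF
  obtain ⟨j, y', hy⟩ := Types.jointly_surjective_of_isColimit (isColimitTgt u P X')
    (e.inv.app (op X') (𝟙 X'))
  have hy' : ((Lan u).map (P.ι.app j)).app (op X') y' = e.inv.app (op X') (𝟙 X') := hy
  let y'' : ((Lan u).obj (yoneda.obj (P.F.obj j))).obj (op X') := y'
  let s : X' ⟶ u.obj (P.F.obj j) := (κ u (P.F.obj j)).inv.app (op X') y''
  obtain ⟨r, hr⟩ := yoneda.map_surjective
    ((κ u (P.F.obj j)).hom ≫ (Lan u).map (P.ι.app j) ≫ e.hom)
  refine ⟨P.F.obj j, s, r, ?_⟩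
  have h1 : (yoneda.map r).app (op X') s = s ≫ r := rfl
  rw [← h1, hr]
  show e.hom.app (op X') (((Lan u).map (P.ι.app j)).app (op X')
    ((κ u (P.F.obj j)).hom.app (op X') ((κ u (P.F.obj j)).inv.app (op X') y''))) = 𝟙 X'
  have h2 : (κ u (P.F.obj j)).hom.app (op X') ((κ u (P.F.obj j)).inv.app (op X') y'') = y'' := by
    simp
  rw [h2, hy']
  simp

lemma main_iff :
    ((∀ (F G : Cᵒᵖ ⥤ Type u), IsIndObject F → IsIndObject G →
        Function.Bijective (fun φ : F ⟶ G => (Lan u).map φ)) ∧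
      (∀ G' : C'ᵒᵖ ⥤ Type u, IsIndObject G' →
        ∃ F : Cᵒᵖ ⥤ Type u, IsIndObject F ∧ Nonempty ((Lan u).obj F ≅ G'))) ↔
    ((u.Full ∧ u.Faithful) ∧
      ∀ X' : C', ∃ (X : C) (i : X' ⟶ u.obj X) (r : u.obj X ⟶ X'), i ≫ r = 𝟙 X') := by
  constructor
  · rintro ⟨hb, he⟩
    refine ⟨⟨imp_full u (fun F G hF hG => (hb F G hF hG).2),
      imp_faithful u (fun F G hF hG => (hb F G hF hG).1)⟩, ?_⟩
    intro X'
    obtain ⟨F, hF, ⟨e⟩⟩ := he _ (isIndObject_yoneda X')
    exact exists_retract u X' F hF e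
  · rintro ⟨⟨h1, h2⟩, hr⟩
    refine ⟨fun F G _ hG => full_faithful_imp u F G hG, ?_⟩
    intro G' hG'
    refine ⟨u.op ⋙ G', isIndObject_pullback u G' hr hG', ?_⟩
    haveI : (Res u).Full := res_full u hr
    haveI : (Res u).Faithful := res_faithful u hr
    exact ⟨asIso ((adj u).counit.app G')⟩

end H12LanInd
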