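import Mathlib
import Groth.Agent.Lib.Helper12.LanInd

set_option autoImplicit false
open CategoryTheory CategoryTheory.Limits Opposite
universe u

namespace H12LanSq

open H12LanInd

variable {C : Type u} [SmallCategory C] {C' : Type u} [SmallCategory C'] (u : C ⥤ C')

/-- the lifting property coming from fullness of the slice functors. -/
lemma exists_lift (hu : ∀ X : C, (Over.post (X := X) u).Full) {X Z₁ Z₂ : C}
    (s₁ : X ⟶ Z₁) (t : Z₂ ⟶ Z₁) (a₂ : u.obj X ⟶ u.obj Z₂) (h : a₂ ≫ u.map t = u.map s₁) :
    ∃ s₂ : X ⟶ Z₂, u.map s₂ = a₂ := by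
  haveI := hu Z₁
  let g' : (Over.post u).obj (Over.mk s₁) ⟶ (Over.post u).obj (Over.mk t) :=
    Over.homMk a₂ h
  obtain ⟨g, hg⟩ := (Over.post (X := Z₁) u).map_surjective g'
  refine ⟨g.left, ?_⟩
  have := congrArg CommaMorphism.left hg
  exact this

variable (H : Cᵒᵖ ⥤ Type u)

/-- the pointwise colimit cocone. -/
noncomputable def hcol (X' : C') :
    IsColimit ((Functor.LeftExtension.mk _ (u.op.leftKanExtensionUnit H)).coconeAt (op X')) :=
  Functor.isPointwiseLeftKanExtensionLeftKanExtensionUnit u.op H (op X')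

lemma η_eq (X : C) (a : H.obj (op X)) :
    η u H X a = (u.op.leftKanExtensionUnit H).app (op X) a := by
  unfold η
  rw [Functor.lanAdjunction_unit]
  rfl

/-- every element of the Kan extension comes from some stage. -/
lemma exists_rep (X' : C') (y : ((Lan u).obj H).obj (op X')) :
    ∃ (Z : C) (c : X' ⟶ u.obj Z) (h : H.obj (op Z)),
      ((Lan u).obj H).map c.op (η u H Z h) = y := by
  obtain ⟨f, h, hf⟩ := Types.jointly_surjective_of_isColimit (hcol u H X') y
  refine ⟨f.left.unop, f.hom.unop, h, ?_⟩
  rw [η_eq]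
  exact hf

end H12LanSq

namespace H12LanSq

open H12LanInd

variable {C : Type u} [SmallCategory C] {C' : Type u} [SmallCategory C'] (u : C ⥤ C')
  (H : Cᵒᵖ ⥤ Type u)

open Classical in
/-- the component of the test cocone. -/
noncomputable def ιfun (X : C) (f : CostructuredArrow u.op (op (u.obj X))) (h : H.obj f.left) :
    Option (H.obj (op X)) :=
  if hs : ∃ s : X ⟶ f.left.unop, u.map s = f.hom.unop then some (H.map hs.choose.op h) else none

lemma ιfun_of_eq [u.Faithful] (X : C) (f : CostructuredArrow u.op (op (u.obj X))) (h : H.obj f.left)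
    (s : X ⟶ f.left.unop) (hs : u.map s = f.hom.unop) : ιfun u H X f h = some (H.map s.op h) := by
  have hex : ∃ s : X ⟶ f.left.unop, u.map s = f.hom.unop := ⟨s, hs⟩
  unfold ιfun
  rw [dif_pos hex]
  have : hex.choose = s := u.map_injective (hex.choose_spec.trans hs.symm)
  rw [this]

lemma ιfun_of_not (X : C) (f : CostructuredArrow u.op (op (u.obj X))) (h : H.obj f.left)
    (hs : ¬ ∃ s : X ⟶ f.left.unop, u.map s = f.hom.unop) : ιfun u H X f h = none := by
  unfold ιfun
  rw [dif_neg hs]

/-- the test cocone. -/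
noncomputable def testCocone [u.Faithful] (hu : ∀ X : C, (Over.post (X := X) u).Full) (X : C) :
    Cocone (CostructuredArrow.proj u.op (op (u.obj X)) ⋙ H) where
  pt := Option (H.obj (op X))
  ι :=
    { app := fun f => TypeCat.ofHom (ιfun u H X f)
      naturality := fun f₁ f₂ g => by
        ext h
        show ιfun u H X f₂ (H.map g.left h) = ιfun u H X f₁ h
        have hw : f₂.hom.unop ≫ u.map g.left.unop = f₁.hom.unop := by
          have := CostructuredArrow.w g
          have h2 := congrArg Quiver.Hom.unop this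
          simpa using h2
        by_cases hs₂ : ∃ s : X ⟶ f₂.left.unop, u.map s = f₂.hom.unop
        · obtain ⟨s₂, hs₂⟩ := hs₂
          have hs₁ : u.map (s₂ ≫ g.left.unop) = f₁.hom.unop := by
            rw [u.map_comp, hs₂, hw]
          rw [ιfun_of_eq u H X f₂ _ s₂ hs₂, ιfun_of_eq u H X f₁ _ _ hs₁]
          congr 1
          rw [op_comp, Functor.map_comp_apply]
          rfl
        · have hs₁ : ¬ ∃ s : X ⟶ f₁.left.unop, u.map s = f₁.hom.unop := by
            rintro ⟨s₁, hs₁⟩
            exact hs₂ (exists_lift u hu s₁ g.left.unop f₂.hom.unop (by rw [hw, hs₁]))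
          rw [ιfun_of_not u H X f₂ _ hs₂, ιfun_of_not u H X f₁ _ hs₁] }

/-- the retraction. -/
noncomputable def retr [u.Faithful] (hu : ∀ X : C, (Over.post (X := X) u).Full) (X : C) :
    ((Lan u).obj H).obj (op (u.obj X)) → Option (H.obj (op X)) :=
  fun y => (hcol u H (u.obj X)).desc (testCocone u H hu X) y

lemma retr_apply [u.Faithful] (hu : ∀ X : C, (Over.post (X := X) u).Full) (X Z : C)
    (c : u.obj X ⟶ u.obj Z) (h : H.obj (op Z)) :
    retr u H hu X (((Lan u).obj H).map c.op (η u H Z h)) =
      ιfun u H X (CostructuredArrow.mk (Y := op Z) c.op) h := by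
  have := (hcol u H (u.obj X)).fac (testCocone u H hu X) (CostructuredArrow.mk (Y := op Z) c.op)
  have h2 := ConcreteCategory.congr_hom this h
  rw [η_eq]
  exact h2

lemma retr_η [u.Faithful] (hu : ∀ X : C, (Over.post (X := X) u).Full) (X : C)
    (h : H.obj (op X)) : retr u H hu X (η u H X h) = some h := by
  have e := retr_apply u H hu X X (𝟙 _) h
  have e1 : ((Lan u).obj H).map (𝟙 (u.obj X)).op (η u H X h) = η u H X h := by
    simp
  rw [e1] at e
  rw [e]
  have e2 := ιfun_of_eq u H X (CostructuredArrow.mk (Y := op X) (𝟙 (u.obj X)).op) h (𝟙 X)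
    (by simp)
  rw [e2]
  simp

lemma η_injective' [u.Faithful] (hu : ∀ X : C, (Over.post (X := X) u).Full) (X : C) :
    Function.Injective (η u H X) := by
  intro a b hab
  have := congrArg (retr u H hu X) hab
  rw [retr_η, retr_η] at this
  exact Option.some_injective _ this

end H12LanSq

namespace H12LanSq

open H12LanInd

variable {C : Type u} [SmallCategory C] {C' : Type u} [SmallCategory C'] (u : C ⥤ C')

lemma η_map (H : Cᵒᵖ ⥤ Type u) {X Z : C} (s : X ⟶ Z) (h : H.obj (op Z)) :
    η u H X (H.map s.op h) = ((Lan u).obj H).map (u.map s).op (η u H Z h) := by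
  have := NatTrans.naturality_apply (CD := fun X => X) ((adj u).unit.app H) s.op h
  exact this

lemma lan_map_rep {H K : Cᵒᵖ ⥤ Type u} (α : H ⟶ K) {X' : C'} {Z : C} (c : X' ⟶ u.obj Z)
    (h : H.obj (op Z)) :
    ((Lan u).map α).app (op X') (((Lan u).obj H).map c.op (η u H Z h)) =
      ((Lan u).obj K).map c.op (η u K Z (α.app (op Z) h)) := by
  rw [H12LanInd.η_naturality]
  exact NatTrans.naturality_apply (CD := fun X => X) ((Lan u).map α) c.op (η u H Z h)

theorem main [u.Faithful] (hu : ∀ X : C, (Over.post (X := X) u).Full) :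
    (Lan u).Faithful ∧
    (∀ H : Cᵒᵖ ⥤ Type u, Mono ((adj u).unit.app H)) ∧
    ∀ (H K : Cᵒᵖ ⥤ Type u) (α : H ⟶ K),
      IsPullback ((adj u).unit.app H) α
        (((Functor.whiskeringLeft Cᵒᵖ C'ᵒᵖ (Type u)).obj u.op).map ((Lan u).map α))
        ((adj u).unit.app K) := by
  have hmono : ∀ H : Cᵒᵖ ⥤ Type u, Mono ((adj u).unit.app H) := by
    intro H
    haveI : ∀ X, Mono (((adj u).unit.app H).app X) := by
      intro X
      obtain ⟨X⟩ := X
      rw [mono_iff_injective]
      exact η_injective' u H hu X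
    exact NatTrans.mono_of_mono_app _
  refine ⟨?_, hmono, ?_⟩
  · haveI := hmono
    exact (adj u).faithful_L_of_mono_unit_app
  · intro H K α
    apply IsPullback.of_forall_isPullback_app
    intro X
    obtain ⟨X⟩ := X
    rw [Types.isPullback_iff]
    refine ⟨?_, ?_, ?_⟩
    · exact (NatTrans.congr_app ((adj u).unit.naturality α) (op X)).symm
    · rintro a b ⟨h1, -⟩
      exact η_injective' u H hu X h1
    · intro y k hyk
      obtain ⟨Z, c, h, rfl⟩ := exists_rep u H (u.obj X) y
      have e1 : ((Lan u).map α).app (op (u.obj X)) (((Lan u).obj H).map c.op (η u H Z h)) =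
          η u K X k := hyk
      rw [lan_map_rep] at e1
      have e2 := congrArg (retr u K hu X) e1
      rw [retr_η, retr_apply] at e2
      by_cases hs : ∃ s : X ⟶ Z, u.map s = c
      · obtain ⟨s, rfl⟩ := hs
        rw [ιfun_of_eq u K X (CostructuredArrow.mk (Y := op Z) (u.map s).op) _ s rfl] at e2
        have e3 : K.map s.op (α.app (op Z) h) = k := Option.some_injective _ e2
        refine ⟨H.map s.op h, ?_, ?_⟩
        · exact η_map u H s h
        · rw [← e3]
          exact NatTrans.naturality_apply (CD := fun X => X) α s.op h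
      · rw [ιfun_of_not u K X (CostructuredArrow.mk (Y := op Z) c.op) _ hs] at e2
        exact absurd e2 (by simp)

end H12LanSq
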