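import Mathlib

open Polynomial

namespace H12Lang

section Poly
variable {k : Type*} [Field k]

/-- the polynomial sequence -/
noncomputable def XX (q : ℕ) (a : k) (c : ℕ → k) : ℕ → k[X]
  | 0 => C a + C (c 0) * X ^ q
  | (i+1) => (XX q a c i) ^ q + C (c (i+1)) * X ^ q

theorem derivative_XX (q : ℕ) (hq : (q : k) = 0) (a : k) (c : ℕ → k) (i : ℕ) :
    derivative (XX q a c i) = 0 := by
  induction i with
  | zero => simp [XX, derivative_X_pow, hq]
  | succ i ih => simp [XX, derivative_pow, derivative_X_pow, hq]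

theorem separable_of_derivative_eq_neg_one (g : k[X]) (hg : derivative g = -1) :
    g.Separable ∧ g.degree ≠ 0 := by
  refine ⟨?_, ?_⟩
  · rw [Polynomial.separable_def, hg]
    exact isCoprime_one_right.neg_right
  · intro h
    rw [eq_C_of_degree_eq_zero h, derivative_C] at hg
    exact absurd hg.symm (neg_ne_zero.mpr one_ne_zero)

theorem exists_root_XX [IsSepClosed k] (q : ℕ) (hq : (q : k) = 0) (a : k) (c : ℕ → k) (n : ℕ) :
    ∃ y : k, eval y (XX q a c n) = y := by
  have hg : derivative (XX q a c n - X) = -1 := by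
    rw [derivative_sub, derivative_XX q hq, derivative_X, zero_sub]
  obtain ⟨h1, h2⟩ := separable_of_derivative_eq_neg_one _ hg
  obtain ⟨y, hy⟩ := IsSepClosed.exists_root _ h2 h1
  refine ⟨y, ?_⟩
  rw [IsRoot.def, eval_sub, eval_X, sub_eq_zero] at hy
  exact hy

theorem exists_nonzero_root [IsSepClosed k] (G : k[X]) (hd : derivative G = 0)
    (h0 : G.coeff 0 = 0) (hG : G ≠ 0) : ∃ y : k, y ≠ 0 ∧ eval y G = y := by
  have hg : derivative (G - X) = -1 := by
    rw [derivative_sub, hd, derivative_X, zero_sub]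
  obtain ⟨h1, -⟩ := separable_of_derivative_eq_neg_one _ hg
  have hdvd : X ∣ G - X := by
    rw [X_dvd_iff]; simp [h0]
  obtain ⟨h, hh⟩ := hdvd
  have hsep : h.Separable := by
    rw [hh] at h1
    exact h1.of_mul_right
  have hder : h + X * derivative h = -1 := by
    rw [← hg, hh, derivative_mul, derivative_X, one_mul]
  have hdeg : h.degree ≠ 0 := by
    intro hdeg
    have hC := eq_C_of_degree_eq_zero hdeg
    rw [hC, derivative_C, mul_zero, add_zero] at hder
    apply hG
    have : G = X * h + X := by rw [← hh]; ring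
    rw [this, hC, hder]; ring
  obtain ⟨y, hy⟩ := IsSepClosed.exists_root _ hdeg hsep
  rw [IsRoot.def] at hy
  refine ⟨y, ?_, ?_⟩
  · rintro rfl
    have := congrArg (eval 0) hder
    simp [hy] at this
  · have := congrArg (eval y) hh
    simp only [eval_sub, eval_X, eval_mul, hy, mul_zero, sub_eq_zero] at this
    exact this

theorem X_pow_dvd_XX (q : ℕ) (hq : q ≠ 0) (c : ℕ → k) (n : ℕ) : X ^ q ∣ XX q 0 c n := by
  induction n with
  | zero => simp [XX]
  | succ n ih =>
    simp only [XX]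
    exact dvd_add (ih.trans (dvd_pow_self _ hq)) (Dvd.intro_left _ rfl)

theorem c_eq_zero_of_XX_eq_zero (q : ℕ) (hq : 2 ≤ q) (c : ℕ → k) (n : ℕ)
    (h : XX q 0 c n = 0) : ∀ i ≤ n, c i = 0 := by
  induction n with
  | zero =>
    intro i hi
    obtain rfl : i = 0 := by omega
    simp only [XX, map_zero, zero_add] at h
    have := congrArg (fun f => coeff f q) h
    simpa using this
  | succ n ih =>
    simp only [XX] at h
    obtain ⟨Z, hZ⟩ := X_pow_dvd_XX q (by omega) c n
    have h2 : c (n+1) = 0 := by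
      have := congrArg (fun f => coeff f q) h
      simp only [coeff_add, coeff_C_mul, coeff_X_pow, if_true, mul_one, coeff_zero] at this
      rw [hZ, mul_pow, ← pow_mul, coeff_X_pow_mul', if_neg (by nlinarith), zero_add] at this
      exact this
    rw [h2, map_zero, zero_mul, add_zero] at h
    have h3 := ih (pow_eq_zero_iff (by omega) |>.mp h)
    intro i hi
    rcases Nat.lt_or_ge i (n+1) with hlt | hge
    · exact h3 i (by omega)
    · obtain rfl : i = n + 1 := by omega
      exact h2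

theorem coeff_zero_XX (q : ℕ) (hq : q ≠ 0) (c : ℕ → k) (n : ℕ) : (XX q 0 c n).coeff 0 = 0 := by
  obtain ⟨Z, hZ⟩ := X_pow_dvd_XX q hq c n
  rw [hZ, coeff_X_pow_mul', if_neg (by omega)]

end Poly

section Mod
universe v
variable {k : Type*} [Field k] {σ : k →+* k} {q : ℕ}
variable {V : Type v} [AddCommGroup V] [Module k V]

theorem exists_cyclic_rel [FiniteDimensional k V] (u : ℕ → V) :
    ∃ N, u N ∈ Submodule.span k (Set.range (fun i : Fin N => u i)) := by
  let S : ℕ →o Submodule k V :=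
    ⟨fun N => Submodule.span k (Set.range (fun i : Fin N => u i)), by
      intro N M hNM
      apply Submodule.span_mono
      rintro _ ⟨i, rfl⟩
      exact ⟨⟨i, lt_of_lt_of_le i.2 hNM⟩, rfl⟩⟩
  obtain ⟨n, hn⟩ := monotone_stabilizes_iff_noetherian.mpr (inferInstance : IsNoetherian k V) S
  have h1 : S n = S (n+1) := hn (n+1) (Nat.le_succ n)
  refine ⟨n, ?_⟩
  change u n ∈ S n
  rw [h1]
  exact Submodule.subset_span ⟨⟨n, Nat.lt_succ_self n⟩, rfl⟩

theorem exists_coeffs (u : ℕ → V) (N : ℕ)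
    (h : u N ∈ Submodule.span k (Set.range (fun i : Fin N => u i))) :
    ∃ c : ℕ → k, u N = ∑ i ∈ Finset.range N, c i • u i := by
  obtain ⟨c, hc⟩ := (Submodule.mem_span_range_iff_exists_fun k).mp h
  refine ⟨fun i => if h : i < N then c ⟨i, h⟩ else 0, ?_⟩
  rw [← hc, Finset.sum_range]
  refine Finset.sum_congr rfl fun i _ => ?_
  simp [i.2]

theorem solve (hσ : ∀ c, σ c = c ^ q) (φ : V →ₛₗ[σ] V) (u : ℕ → V) (hu : ∀ i, u (i+1) = φ (u i))
    (n : ℕ) (c : ℕ → k) (hrel : u (n+1) = ∑ i ∈ Finset.range (n+1), c i • u i) (a y : k)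
    (x : ℕ → k) (hx0 : x 0 = a + c 0 * y ^ q) (hxs : ∀ i, x (i+1) = (x i) ^ q + c (i+1) * y ^ q)
    (hxn : x n = y) :
    (∑ i ∈ Finset.range (n+1), x i • u i) - φ (∑ i ∈ Finset.range (n+1), x i • u i) = a • u 0 := by
  have h1 : φ (∑ i ∈ Finset.range (n+1), x i • u i)
      = ∑ i ∈ Finset.range (n+1), (x i) ^ q • u (i+1) := by
    simp [map_sum, map_smulₛₗ, hσ, hu]
  have h1' : ∑ i ∈ Finset.range (n+1), (x i) ^ q • u (i+1)
      = ∑ i ∈ Finset.range n, (x i) ^ q • u (i+1)
        + y ^ q • (∑ i ∈ Finset.range n, c (i+1) • u (i+1) + c 0 • u 0) := by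
    rw [Finset.sum_range_succ, hxn, hrel, Finset.sum_range_succ' (fun i => c i • u i)]
  have h2 : (∑ i ∈ Finset.range (n+1), x i • u i)
      = ∑ i ∈ Finset.range n, x (i+1) • u (i+1) + x 0 • u 0 := Finset.sum_range_succ' _ _
  have h4 : ∑ i ∈ Finset.range n, (x i) ^ q • u (i+1)
      = ∑ i ∈ Finset.range n, x (i+1) • u (i+1)
        - y ^ q • ∑ i ∈ Finset.range n, c (i+1) • u (i+1) := by
    rw [Finset.smul_sum, ← Finset.sum_sub_distrib]
    refine Finset.sum_congr rfl fun i _ => ?_
    rw [hxs i]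
    module
  rw [h1, h1', h2, h4, hx0]
  module

end Mod

end H12Lang
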