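import Mathlib
import Groth.Agent.Lib.Helper12.Lang1

open Polynomial

namespace H12Lang

section Main
universe v
variable {k : Type*} [Field k] [IsSepClosed k] {σ : k →+* k} {q : ℕ}

theorem surj (hσ : ∀ c, σ c = c ^ q) (hq0 : (q : k) = 0)
    {V : Type v} [AddCommGroup V] [Module k V] [FiniteDimensional k V] (φ : V →ₛₗ[σ] V) :
    Function.Surjective (fun v : V => v - φ v) := by
  intro w
  let u : ℕ → V := fun i => (⇑φ)^[i] w
  have hu : ∀ i, u (i+1) = φ (u i) := fun i => Function.iterate_succ_apply' _ _ _
  obtain ⟨N, hN⟩ := exists_cyclic_rel (k := k) u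
  rcases N with _ | n
  · have hw : w = 0 := by
      have : Set.range (fun i : Fin 0 => u i) = ∅ := Set.range_eq_empty _
      rw [this, Submodule.span_empty, Submodule.mem_bot] at hN
      exact hN
    exact ⟨0, by simp [hw]⟩
  · obtain ⟨c, hc⟩ := exists_coeffs u (n+1) hN
    obtain ⟨y, hy⟩ := exists_root_XX q hq0 1 c n
    refine ⟨∑ i ∈ Finset.range (n+1), (eval y (XX q 1 c i)) • u i, ?_⟩
    have := solve hσ φ u hu n c hc 1 y (fun i => eval y (XX q 1 c i))
      (by simp [XX]) (fun i => by simp [XX]) hy
    simpa [u] using this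

theorem injective_of_span (hσ : ∀ c, σ c = c ^ q) (hq : q ≠ 0)
    {V : Type v} [AddCommGroup V] [Module k V] [FiniteDimensional k V] (φ : V →ₛₗ[σ] V)
    (hss : Submodule.span k (Set.range φ) = ⊤) : Function.Injective φ := by
  let b := Module.finBasis k V
  have hspan : ⊤ ≤ Submodule.span k (Set.range (fun i => φ (b i))) := by
    rw [← hss]
    apply Submodule.span_le.mpr
    rintro _ ⟨v, rfl⟩
    rw [← b.sum_repr v, map_sum]
    refine Submodule.sum_mem _ fun i _ => ?_
    rw [map_smulₛₗ]
    exact Submodule.smul_mem _ _ (Submodule.subset_span ⟨i, rfl⟩)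
  have hli : LinearIndependent k (fun i => φ (b i)) :=
    linearIndependent_of_top_le_span_of_card_eq_finrank hspan (by simp)
  rw [injective_iff_map_eq_zero]
  intro v hv
  rw [← b.sum_repr v, map_sum] at hv
  simp only [map_smulₛₗ] at hv
  have h0 := Fintype.linearIndependent_iff.mp hli _ hv
  apply b.repr.injective
  ext i
  have := h0 i
  rw [hσ] at this
  simpa using pow_eq_zero_iff hq |>.mp this

theorem exists_fixed (hσ : ∀ c, σ c = c ^ q) (hq0 : (q : k) = 0) (hq2 : 2 ≤ q)
    {V : Type v} [AddCommGroup V] [Module k V] [FiniteDimensional k V] [Nontrivial V]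
    (φ : V →ₛₗ[σ] V) (hss : Submodule.span k (Set.range φ) = ⊤) :
    ∃ v : V, v ≠ 0 ∧ φ v = v := by
  classical
  have hinj := injective_of_span hσ (by omega) φ hss
  obtain ⟨w, hw⟩ := exists_ne (0 : V)
  let u : ℕ → V := fun i => (⇑φ)^[i] w
  have hu : ∀ i, u (i+1) = φ (u i) := fun i => Function.iterate_succ_apply' _ _ _
  have hune : ∀ i, u i ≠ 0 := by
    intro i
    induction i with
    | zero => exact hw
    | succ i ih =>
      rw [hu]
      intro h
      exact ih (hinj (h.trans (map_zero φ).symm))
  have hex := exists_cyclic_rel (k := k) u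
  have hN := Nat.find_spec hex
  have hmin := fun m (hm : m < Nat.find hex) => Nat.find_min hex hm
  set N := Nat.find hex with hNdef
  rcases N with _ | n
  · exfalso
    have : Set.range (fun i : Fin 0 => u i) = ∅ := Set.range_eq_empty _
    rw [this, Submodule.span_empty, Submodule.mem_bot] at hN
    exact hw hN
  · obtain ⟨c, hc⟩ := exists_coeffs u (n+1) hN
    have hG : XX q 0 c n ≠ 0 := by
      intro h
      have hc0 := c_eq_zero_of_XX_eq_zero q hq2 c n h
      apply hune (n+1)
      rw [hc]
      refine Finset.sum_eq_zero fun i hi => ?_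
      rw [hc0 i (by simpa [Nat.lt_succ_iff] using hi), zero_smul]
    obtain ⟨y, hy0, hy⟩ := exists_nonzero_root (XX q 0 c n) (derivative_XX q hq0 0 c n)
      (coeff_zero_XX q (by omega) c n) hG
    refine ⟨∑ i ∈ Finset.range (n+1), (eval y (XX q 0 c i)) • u i, ?_, ?_⟩
    · intro h0
      rw [Finset.sum_range_succ, hy] at h0
      apply hmin n (Nat.lt_succ_self n)
      have : u n = - y⁻¹ • ∑ i ∈ Finset.range n, (eval y (XX q 0 c i)) • u i := by
        rw [eq_neg_of_add_eq_zero_left h0, smul_neg, neg_smul, neg_neg, smul_smul,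
          inv_mul_cancel₀ hy0, one_smul]
      rw [this]
      refine Submodule.smul_mem _ _ (Submodule.sum_mem _ fun i hi => ?_)
      exact Submodule.smul_mem _ _ (Submodule.subset_span ⟨⟨i, Finset.mem_range.mp hi⟩, rfl⟩)
    · have := solve hσ φ u hu n c hc 0 y (fun i => eval y (XX q 0 c i))
        (by simp [XX]) (fun i => by simp [XX]) hy
      rw [zero_smul, sub_eq_zero] at this
      exact this.symm

end Main

end H12Lang
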