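import Mathlib
import Groth.Agent.Lib.Helper12.Lang2

open Polynomial

namespace H12Lang

section Main2
universe v
variable {k : Type*} [Field k] [IsSepClosed k] {σ : k →+* k} {q : ℕ}

theorem span_fixed (hσ : ∀ c, σ c = c ^ q) (hq0 : (q : k) = 0) (hq2 : 2 ≤ q)
    {V : Type v} [AddCommGroup V] [Module k V] [FiniteDimensional k V]
    (φ : V →ₛₗ[σ] V) (hss : Submodule.span k (Set.range φ) = ⊤) :
    Submodule.span k {v : V | φ v = v} = ⊤ := by
  set W := Submodule.span k {v : V | φ v = v} with hW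
  have hstab : ∀ x ∈ W, φ x ∈ W := by
    intro x hx
    induction hx using Submodule.span_induction with
    | mem x hx => rw [hx]; exact Submodule.subset_span hx
    | zero => rw [map_zero]; exact W.zero_mem
    | add x y _ _ hx hy => rw [map_add]; exact W.add_mem hx hy
    | smul c x _ hx => rw [map_smulₛₗ]; exact W.smul_mem _ hx
  by_contra hne
  have hnt : Nontrivial (V ⧸ W) := Submodule.Quotient.nontrivial_iff.mpr hne
  let φq : (V ⧸ W) →ₛₗ[σ] (V ⧸ W) := W.mapQ W φ (fun x hx => hstab x hx)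
  have hssq : Submodule.span k (Set.range φq) = ⊤ := by
    rw [eq_top_iff]
    rintro x -
    obtain ⟨x, rfl⟩ := Submodule.Quotient.mk_surjective W x
    have hx : x ∈ Submodule.span k (Set.range φ) := by rw [hss]; trivial
    induction hx using Submodule.span_induction with
    | mem x hx =>
      obtain ⟨z, rfl⟩ := hx
      exact Submodule.subset_span ⟨Submodule.Quotient.mk z, rfl⟩
    | zero => exact Submodule.zero_mem _
    | add x y _ _ hx hy => exact Submodule.add_mem _ hx hy
    | smul c x _ hx => exact Submodule.smul_mem _ c hx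
  obtain ⟨vq, hvq0, hvq⟩ := exists_fixed hσ hq0 hq2 φq hssq
  obtain ⟨v', rfl⟩ := Submodule.Quotient.mk_surjective W vq
  have hd : φ v' - v' ∈ W := by
    rw [← Submodule.Quotient.mk_eq_zero W, Submodule.Quotient.mk_sub, sub_eq_zero]
    exact hvq
  let φW : W →ₛₗ[σ] W := (φ.domRestrict W).codRestrict W (fun x => hstab x x.2)
  obtain ⟨x, hx⟩ := surj hσ hq0 φW ⟨φ v' - v', hd⟩
  have hx' : (x : V) - φ x = φ v' - v' := congrArg Subtype.val hx
  have hfix : φ (v' + x) = v' + x := by
    rw [map_add]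
    have : φ (x : V) = x - (φ v' - v') := by rw [← hx']; abel
    rw [this]; abel
  have hmem : v' + x ∈ W := Submodule.subset_span hfix
  apply hvq0
  rw [Submodule.Quotient.mk_eq_zero]
  have := W.sub_mem hmem x.2
  simpa using this

theorem main12 (k : Type*) [Field k] [IsSepClosed k] (p : ℕ)
    [Fact p.Prime] [CharP k p] (r : ℕ) (hr : 0 < r) (V : Type v) [AddCommGroup V] [Module k V]
    [FiniteDimensional k V] (φ : V →+ V) (hφ : ∀ (c : k) (v : V), φ (c • v) = c ^ (p ^ r) • φ v)
    (hss : Submodule.span k (Set.range φ) = ⊤) :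
    ∃ b : Module.Basis (Fin (Module.finrank k V)) k V, (∀ i, φ (b i) = b i) ∧
      ∀ v : V, φ v = v → ∀ i, (b.repr v i) ^ (p ^ r) = b.repr v i := by
  classical
  let σ : k →+* k := iterateFrobenius k p r
  have hσ : ∀ c, σ c = c ^ (p ^ r) := fun c => iterateFrobenius_def (R := k) p r c
  have hq0 : ((p ^ r : ℕ) : k) = 0 :=
    (CharP.cast_eq_zero_iff k p _).mpr (dvd_pow_self p hr.ne')
  have hq2 : 2 ≤ p ^ r := by
    have := (Fact.out : p.Prime).two_le
    calc 2 ≤ p := this
      _ = p ^ 1 := (pow_one p).symm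
      _ ≤ p ^ r := Nat.pow_le_pow_right (by omega) hr
  let φs : V →ₛₗ[σ] V :=
    { toFun := φ
      map_add' := φ.map_add
      map_smul' := fun c v => by rw [hφ, hσ] }
  have hspan : ⊤ ≤ Submodule.span k {v : V | φ v = v} :=
    (span_fixed hσ hq0 hq2 φs hss).ge
  let b0 := Module.Basis.ofSpan hspan
  have hb0 : ∀ i, φ (b0 i) = b0 i := fun i =>
    Module.Basis.ofSpan_subset hspan ⟨i, rfl⟩
  haveI : Fintype ((linearIndepOn_empty k id).extend (Set.empty_subset {v : V | φ v = v})) :=
    FiniteDimensional.fintypeBasisIndex b0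
  let e := Fintype.equivFinOfCardEq (Module.finrank_eq_card_basis b0).symm
  let b := b0.reindex e
  have hb : ∀ i, φ (b i) = b i := fun i => by
    simp only [b, Module.Basis.reindex_apply]
    exact hb0 _
  refine ⟨b, hb, ?_⟩
  intro v hv i
  have h1 : φ v = ∑ j, (b.repr v j) ^ (p ^ r) • b j := by
    conv_lhs => rw [← b.sum_repr v]
    rw [map_sum]
    refine Finset.sum_congr rfl fun j _ => ?_
    rw [hφ, hb]
  have h2 := congrArg (fun z => b.repr z i) h1
  simp only [Module.Basis.repr_sum_self] at h2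
  rw [← h2, hv]

theorem main13 (k : Type*) [Field k] [IsSepClosed k] (p : ℕ) [Fact p.Prime] [CharP k p]
    (r : ℕ) (hr : 0 < r) (V : Type v) [AddCommGroup V] [Module k V] [FiniteDimensional k V] (φ : V →+ V)
    (hφ : ∀ (c : k) (v : V), φ (c • v) = c ^ (p ^ r) • φ v) :
    Function.Surjective (fun v : V => v - φ v) := by
  let σ : k →+* k := iterateFrobenius k p r
  have hσ : ∀ c, σ c = c ^ (p ^ r) := fun c => iterateFrobenius_def (R := k) p r c
  have hq0 : ((p ^ r : ℕ) : k) = 0 :=
    (CharP.cast_eq_zero_iff k p _).mpr (dvd_pow_self p hr.ne')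
  let φs : V →ₛₗ[σ] V :=
    { toFun := φ
      map_add' := φ.map_add
      map_smul' := fun c v => by rw [hφ, hσ] }
  exact surj hσ hq0 φs

end Main2

end H12Lang
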