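import Mathlib
import Groth.Agent.Lib.Helper12.Lang3

namespace H12Lang

section Iter
universe u v
variable {k : Type u} [Field k] {V : Type v} [AddCommGroup V] [Module k V]

theorem iterate_sum (φ : V →+ V) (n : ℕ) {ι : Type*} (s : Finset ι) (x : ι → V) :
    φ^[n] (∑ i ∈ s, x i) = ∑ i ∈ s, φ^[n] (x i) := by
  induction n with
  | zero => simp
  | succ n ih =>
    simp only [Function.iterate_succ_apply']
    rw [ih, map_sum]

theorem iterate_smul (φ : V →+ V) (q : ℕ) (hφ : ∀ (c : k) (v : V), φ (c • v) = c ^ q • φ v)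
    (n : ℕ) (c : k) (v : V) : φ^[n] (c • v) = c ^ (q ^ n) • φ^[n] v := by
  induction n with
  | zero => simp
  | succ n ih =>
    simp only [Function.iterate_succ_apply']
    rw [ih, hφ, ← pow_mul, ← pow_succ]

theorem iterate_fixed (φ : V →+ V) (n : ℕ) (w : V) (hw : φ w = w) : φ^[n] w = w :=
  Function.iterate_fixed hw n

theorem main22 (k : Type u) [Field k] [IsSepClosed k] (p : ℕ)
    [Fact p.Prime] [CharP k p] (r : ℕ) (hr : 0 < r) (V : Type v) [AddCommGroup V] [Module k V]
    [FiniteDimensional k V] (φ : V →+ V) (hφ : ∀ (c : k) (v : V), φ (c • v) = c ^ (p ^ r) • φ v)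
    (hss : Submodule.span k (Set.range φ) = ⊤) (n : ℕ) (hn : 0 < n) (v : V) :
    φ^[n] v = v ↔ ∃ (s : Finset V) (c : V → k), (∀ w ∈ s, φ w = w) ∧
      (∀ w ∈ s, c w ^ ((p ^ r) ^ n) = c w) ∧ v = ∑ w ∈ s, c w • w := by
  classical
  constructor
  · intro hv
    obtain ⟨b, hb, -⟩ := main12 k p r hr V φ hφ hss
    have h1 : φ^[n] v = ∑ i, (b.repr v i) ^ ((p ^ r) ^ n) • b i := by
      conv_lhs => rw [← b.sum_repr v]
      rw [iterate_sum]
      refine Finset.sum_congr rfl fun i _ => ?_
      rw [iterate_smul φ (p ^ r) hφ, iterate_fixed φ n _ (hb i)]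
    have hcoef : ∀ i, (b.repr v i) ^ ((p ^ r) ^ n) = b.repr v i := by
      intro i
      have h2 := congrArg (fun z => b.repr z i) h1
      simp only [Module.Basis.repr_sum_self] at h2
      rw [← h2, hv]
    let c : V → k := fun w => if h : ∃ i, b i = w then b.repr v h.choose else 0
    have hc : ∀ i, c (b i) = b.repr v i := by
      intro i
      have h : ∃ j, b j = b i := ⟨i, rfl⟩
      simp only [c, dif_pos h]
      rw [b.injective h.choose_spec]
    refine ⟨Finset.univ.image b, c, ?_, ?_, ?_⟩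
    · intro w hw
      obtain ⟨i, -, rfl⟩ := Finset.mem_image.mp hw
      exact hb i
    · intro w hw
      obtain ⟨i, -, rfl⟩ := Finset.mem_image.mp hw
      rw [hc, hcoef]
    · rw [Finset.sum_image (fun i _ j _ h => b.injective h)]
      simp only [hc]
      exact (b.sum_repr v).symm
  · rintro ⟨s, c, h1, h2, rfl⟩
    rw [iterate_sum]
    refine Finset.sum_congr rfl fun w hw => ?_
    rw [iterate_smul φ (p ^ r) hφ, iterate_fixed φ n w (h1 w hw), h2 w hw]

end Iter

end H12Lang
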