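import Mathlib
import Groth.Agent.Lib.Helper12.OneDim

/-! Distance between lattices over a one-dimensional Noetherian local domain. -/

set_option autoImplicit false
universe u v

namespace Groth.Agent.Lib.Helper12.LatDist

open Function

section general

variable {A : Type u} [CommRing A]

/-- A finite module all of whose elements are `S`-torsion is killed by a single element of `S`. -/
theorem exists_smul_eq_zero (S : Submonoid A) (Q : Type v) [AddCommGroup Q] [Module A Q]
    [Module.Finite A Q] (h : ∀ x : Q, ∃ s ∈ S, s • x = 0) : ∃ s ∈ S, ∀ x : Q, s • x = 0 := by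
  classical
  obtain ⟨G, hG⟩ := (Module.Finite.fg_top : (⊤ : Submodule A Q).FG)
  choose sg hsg hsgm using h
  refine ⟨∏ g ∈ G, sg g, S.prod_mem fun g _ => hsg g, ?_⟩
  intro m
  have hm : m ∈ Submodule.span A (G : Set Q) := by rw [hG]; trivial
  induction hm using Submodule.span_induction with
  | mem g hg =>
    rw [← Finset.prod_erase_mul _ _ hg, mul_smul, hsgm g, smul_zero]
  | zero => rw [smul_zero]
  | add x y _ _ hx hy => rw [smul_add, hx, hy, add_zero]
  | smul a x _ hx => rw [smul_comm, hx, smul_zero]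

variable {V : Type v} [AddCommGroup V] [Module A V]

/-- Additivity of the length of subquotients `M/N` along `N ≤ P ≤ M`. -/
theorem length_chain (N P M : Submodule A V) (hNP : N ≤ P) (hPM : P ≤ M) :
    Module.length A (↥M ⧸ N.submoduleOf M) =
      Module.length A (↥P ⧸ N.submoduleOf P) + Module.length A (↥M ⧸ P.submoduleOf M) := by
  let φ : ↥P →ₗ[A] ↥M ⧸ N.submoduleOf M := (N.submoduleOf M).mkQ ∘ₗ Submodule.inclusion hPM
  have hle : N.submoduleOf M ≤ P.submoduleOf M := by
    intro x hx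
    exact hNP hx
  let ψ : (↥M ⧸ N.submoduleOf M) →ₗ[A] ↥M ⧸ P.submoduleOf M := Submodule.factor hle
  have hkerφ : LinearMap.ker φ = N.submoduleOf P := by
    ext x
    rw [LinearMap.mem_ker, LinearMap.comp_apply, Submodule.mkQ_apply, Submodule.Quotient.mk_eq_zero]
    rfl
  have hψs : Surjective ψ := Submodule.factor_surjective hle
  have hkerψ : LinearMap.ker ψ = LinearMap.range φ := by
    ext y
    obtain ⟨x, rfl⟩ := Submodule.mkQ_surjective _ y
    rw [LinearMap.mem_ker]
    show Submodule.factor hle ((N.submoduleOf M).mkQ x) = 0 ↔ _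
    rw [Submodule.factor_mk, Submodule.mkQ_apply, Submodule.Quotient.mk_eq_zero]
    constructor
    · intro hx
      exact ⟨⟨x.1, hx⟩, rfl⟩
    · rintro ⟨z, hz⟩
      have : (Submodule.inclusion hPM z) - x ∈ N.submoduleOf M := by
        rw [← Submodule.Quotient.eq]; exact hz
      have h1 : (x : V) = z - ((Submodule.inclusion hPM z) - x : ↥M) := by
        simp
      show (x : V) ∈ P
      rw [h1]
      exact P.sub_mem z.2 (hNP this)
  have h1 := OneDim.length_ker_add_range ψ
  rw [hkerψ, LinearMap.range_eq_top.mpr hψs, Module.length_top] at h1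
  have h2 := (LinearMap.quotKerEquivRange φ).length_eq
  have h3 := (Submodule.quotEquivOfEq _ _ hkerφ).length_eq
  rw [h1, ← h2, h3]

end general

section lattice

variable {A : Type u} [CommRing A] [IsDomain A] [IsNoetherianRing A]
  {K : Type u} [Field K] [Algebra A K] [IsFractionRing A K] {V : Type u} [AddCommGroup V]
  [Module K V] [Module A V] [IsScalarTower A K V]

theorem exists_smul_mem (M : Submodule A V) [Submodule.IsLattice K M] (x : V) :
    ∃ a : A, a ≠ 0 ∧ a • x ∈ M := by
  have hx : x ∈ Submodule.span K (M : Set V) := by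
    rw [Submodule.IsLattice.span_eq_top]; trivial
  induction hx using Submodule.span_induction with
  | mem y hy => exact ⟨1, one_ne_zero, by rw [one_smul]; exact hy⟩
  | zero => exact ⟨1, one_ne_zero, by rw [smul_zero]; exact M.zero_mem⟩
  | add y z _ _ hy hz =>
    obtain ⟨a, ha, hay⟩ := hy
    obtain ⟨b, hb, hbz⟩ := hz
    refine ⟨a * b, mul_ne_zero ha hb, ?_⟩
    rw [smul_add]
    refine M.add_mem ?_ ?_
    · rw [mul_comm, mul_smul]; exact M.smul_mem _ hay
    · rw [mul_smul]; exact M.smul_mem _ hbz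
  | smul c y _ hy =>
    obtain ⟨a, ha, hay⟩ := hy
    obtain ⟨r, s, hs, rfl⟩ := IsFractionRing.div_surjective (A := A) c
    have hs0 : s ≠ 0 := nonZeroDivisors.ne_zero hs
    have hsK : algebraMap A K s ≠ 0 := by
      intro h0
      exact hs0 (IsFractionRing.injective A K (by rw [h0, map_zero]))
    refine ⟨a * s, mul_ne_zero ha hs0, ?_⟩
    have h1 : s • ((algebraMap A K r / algebraMap A K s) • y) = r • y := by
      rw [← algebraMap_smul K s, ← algebraMap_smul K r, smul_smul, mul_div_cancel₀ _ hsK]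
    rw [mul_smul, h1, smul_comm]
    exact M.smul_mem _ hay

theorem isLattice_inf (M M' : Submodule A V) [Submodule.IsLattice K M] [Submodule.IsLattice K M'] :
    Submodule.IsLattice K (M ⊓ M') where
  fg := by
    have : IsNoetherian A ↥M := isNoetherian_of_fg_of_noetherian _ Submodule.IsLattice.fg
    have : IsNoetherian A ↥(M ⊓ M') := isNoetherian_of_le inf_le_left
    rw [← Module.Finite.iff_fg]
    infer_instance
  span_eq_top := by
    rw [eq_top_iff]
    intro x _
    obtain ⟨a, ha, hax⟩ := exists_smul_mem (K := K) M x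
    obtain ⟨b, hb, hbx⟩ := exists_smul_mem (K := K) M' x
    have hab : (a * b) • x ∈ M ⊓ M' := by
      refine ⟨?_, ?_⟩
      · rw [mul_comm, mul_smul]; exact M.smul_mem _ hax
      · rw [mul_smul]; exact M'.smul_mem _ hbx
    have habK : algebraMap A K (a * b) ≠ 0 := by
      intro h0
      exact mul_ne_zero ha hb (IsFractionRing.injective A K (by rw [h0, map_zero]))
    have : x = (algebraMap A K (a * b))⁻¹ • ((a * b) • x) := by
      rw [← algebraMap_smul K (a * b) x, smul_smul, inv_mul_cancel₀ habK, one_smul]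
    rw [this]
    exact Submodule.smul_mem _ _ (Submodule.subset_span hab)

theorem length_lt_top (hA : ringKrullDim A = 1) (N M : Submodule A V) [Submodule.IsLattice K N]
    [Submodule.IsLattice K M] : Module.length A (↥M ⧸ N.submoduleOf M) < ⊤ := by
  have hfin : Module.Finite A ↥M := Module.Finite.iff_fg.mpr Submodule.IsLattice.fg
  rw [lt_top_iff_ne_top, Module.length_ne_top_iff]
  obtain ⟨s, hs, hsx⟩ := exists_smul_eq_zero (nonZeroDivisors A) (↥M ⧸ N.submoduleOf M) (by
    intro x
    obtain ⟨y, rfl⟩ := Submodule.mkQ_surjective _ x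
    obtain ⟨a, ha, hay⟩ := exists_smul_mem (K := K) N (y : V)
    refine ⟨a, mem_nonZeroDivisors_of_ne_zero ha, ?_⟩
    rw [← map_smul, Submodule.mkQ_apply, Submodule.Quotient.mk_eq_zero]
    exact hay)
  exact OneDim.isFiniteLength_of_smul_eq_zero hA hs _ hsx

end lattice

section dist

variable {A : Type u} [CommRing A] [IsDomain A] [IsNoetherianRing A]
  {K : Type u} [Field K] [Algebra A K] [IsFractionRing A K] {V : Type u} [AddCommGroup V]
  [Module K V] [Module A V] [IsScalarTower A K V]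

theorem dist_eq (hA : ringKrullDim A = 1) (M M' N : Submodule A V) [Submodule.IsLattice K M]
    [Submodule.IsLattice K M'] [Submodule.IsLattice K N] (hN : N ≤ M ⊓ M') :
    ((Module.length A (↥M ⧸ (M ⊓ M').submoduleOf M)).toNat : ℤ) -
        ((Module.length A (↥M' ⧸ (M ⊓ M').submoduleOf M')).toNat : ℤ) =
      ((Module.length A (↥M ⧸ N.submoduleOf M)).toNat : ℤ) -
        ((Module.length A (↥M' ⧸ N.submoduleOf M')).toNat : ℤ) := by
  haveI := isLattice_inf (K := K) M M'
  have h1 := length_chain N (M ⊓ M') M hN inf_le_left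
  have h2 := length_chain N (M ⊓ M') M' hN inf_le_right
  have f1 := length_lt_top (K := K) hA N M
  have f2 := length_lt_top (K := K) hA N M'
  have f3 := length_lt_top (K := K) hA N (M ⊓ M')
  have f4 := length_lt_top (K := K) hA (M ⊓ M') M
  have f5 := length_lt_top (K := K) hA (M ⊓ M') M'
  rw [← ENat.natCast_toNat f1.ne, ← ENat.natCast_toNat f3.ne, ← ENat.natCast_toNat f4.ne] at h1
  rw [← ENat.natCast_toNat f2.ne, ← ENat.natCast_toNat f3.ne, ← ENat.natCast_toNat f5.ne] at h2
  norm_cast at h1 h2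
  omega

theorem dist_add (hA : ringKrullDim A = 1) (M₁ M₂ M₃ : Submodule A V) [Submodule.IsLattice K M₁]
    [Submodule.IsLattice K M₂] [Submodule.IsLattice K M₃] :
    ((Module.length A (↥M₁ ⧸ (M₁ ⊓ M₃).submoduleOf M₁)).toNat : ℤ) -
        ((Module.length A (↥M₃ ⧸ (M₁ ⊓ M₃).submoduleOf M₃)).toNat : ℤ) =
      (((Module.length A (↥M₁ ⧸ (M₁ ⊓ M₂).submoduleOf M₁)).toNat : ℤ) -
        ((Module.length A (↥M₂ ⧸ (M₁ ⊓ M₂).submoduleOf M₂)).toNat : ℤ)) +
      (((Module.length A (↥M₂ ⧸ (M₂ ⊓ M₃).submoduleOf M₂)).toNat : ℤ) -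
        ((Module.length A (↥M₃ ⧸ (M₂ ⊓ M₃).submoduleOf M₃)).toNat : ℤ)) := by
  haveI := isLattice_inf (K := K) M₁ M₂
  haveI := isLattice_inf (K := K) (M₁ ⊓ M₂) M₃
  have hN1 : M₁ ⊓ M₂ ⊓ M₃ ≤ M₁ ⊓ M₃ := le_inf (inf_le_left.trans inf_le_left) inf_le_right
  have hN2 : M₁ ⊓ M₂ ⊓ M₃ ≤ M₁ ⊓ M₂ := inf_le_left
  have hN3 : M₁ ⊓ M₂ ⊓ M₃ ≤ M₂ ⊓ M₃ := le_inf (inf_le_left.trans inf_le_right) inf_le_right
  rw [dist_eq (K := K) hA M₁ M₃ _ hN1, dist_eq (K := K) hA M₁ M₂ _ hN2,
    dist_eq (K := K) hA M₂ M₃ _ hN3]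
  ring

end dist

end Groth.Agent.Lib.Helper12.LatDist
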