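import Mathlib

set_option autoImplicit false
universe u

namespace H12LimComp

open TopologicalSpace

section Top

variable {S T : Type u} [TopologicalSpace S] [TopologicalSpace T]

/-- preimage of the closure of the image of a closed set under an inducing map -/
theorem preimage_closure_image (e : S → T) (he : Topology.IsInducing e) (Y : Set S)
    (hY : IsClosed Y) : e ⁻¹' closure (e '' Y) = Y := by
  rw [← he.closure_eq_preimage_closure_image, hY.closure_eq]

/-- irreducible components along a dense embedding from a Noetherian space -/
theorem bijOn_irreducibleComponents (e : S → T) (he : Topology.IsInducing e)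
    (hd : DenseRange e) [NoetherianSpace S] :
    Set.BijOn (fun Y : Set S => closure (e '' Y)) (irreducibleComponents S)
      (irreducibleComponents T) := by
  classical
  have hfin : (irreducibleComponents S).Finite := NoetherianSpace.finite_irreducibleComponents
  have hcont : Continuous e := he.continuous
  -- the closures cover `T`
  have hcover : (Set.univ : Set T) ⊆
      ⋃₀ ((hfin.toFinset.image (fun Y : Set S => closure (e '' Y)) : Finset (Set T)) :
        Set (Set T)) := by
    have h1 : (Set.univ : Set T) = closure (Set.range e) := hd.closure_range.symm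
    have h2 : Set.range e = ⋃ Y ∈ irreducibleComponents S, e '' Y := by
      ext t
      simp only [Set.mem_range, Set.mem_iUnion, Set.mem_image, exists_prop]
      constructor
      · rintro ⟨s, rfl⟩
        exact ⟨irreducibleComponent s, irreducibleComponent_mem_irreducibleComponents s, s,
          mem_irreducibleComponent, rfl⟩
      · rintro ⟨Y, -, s, -, rfl⟩
        exact ⟨s, rfl⟩
    rw [h1, h2, hfin.closure_biUnion]
    intro t ht
    simp only [Set.mem_iUnion, exists_prop] at ht
    obtain ⟨Y, hY, htY⟩ := ht
    refine Set.mem_sUnion.mpr ⟨closure (e '' Y), ?_, htY⟩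
    simp only [Finset.coe_image, Set.Finite.coe_toFinset, Set.mem_image]
    exact ⟨Y, hY, rfl⟩
  have hclosed : ∀ z ∈ (hfin.toFinset.image (fun Y : Set S => closure (e '' Y)) : Finset (Set T)),
      IsClosed z := by
    intro z hz
    simp only [Finset.mem_image] at hz
    obtain ⟨Y, -, rfl⟩ := hz
    exact isClosed_closure
  -- every irreducible set is contained in some closure
  have hsub : ∀ W : Set T, IsIrreducible W → ∃ Y ∈ irreducibleComponents S,
      W ⊆ closure (e '' Y) := by
    intro W hW
    obtain ⟨z, hz, hWz⟩ := isIrreducible_iff_sUnion_isClosed.mp hW _ hclosed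
      ((Set.subset_univ W).trans hcover)
    simp only [Finset.mem_image, Set.Finite.mem_toFinset] at hz
    obtain ⟨Y, hY, rfl⟩ := hz
    exact ⟨Y, hY, hWz⟩
  have hpre : ∀ Y ∈ irreducibleComponents S, e ⁻¹' closure (e '' Y) = Y := fun Y hY =>
    preimage_closure_image e he Y (isClosed_of_mem_irreducibleComponents Y hY)
  have hmono : ∀ Y ∈ irreducibleComponents S, ∀ Y' ∈ irreducibleComponents S,
      closure (e '' Y) ⊆ closure (e '' Y') → Y = Y' := by
    intro Y hY Y' hY' h
    have h1 : Y ⊆ Y' := by
      rw [← hpre Y hY, ← hpre Y' hY']
      exact Set.preimage_mono h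
    exact (hY.eq_of_ge hY'.1 h1).symm
  refine ⟨?_, ?_, ?_⟩
  · intro Y hY
    have hirr : IsIrreducible (closure (e '' Y)) := (hY.1.image e hcont.continuousOn).closure
    refine ⟨hirr, ?_⟩
    intro W hW hle
    obtain ⟨Y', hY', hWY'⟩ := hsub W hW
    have : Y = Y' := hmono Y hY Y' hY' (hle.trans hWY')
    subst this
    exact hWY'
  · intro Y hY Y' hY' h
    exact hmono Y hY Y' hY' (le_of_eq h)
  · intro W hW
    obtain ⟨Y, hY, hWY⟩ := hsub W hW.1
    refine ⟨Y, hY, ?_⟩
    have hirr : IsIrreducible (closure (e '' Y)) := (hY.1.image e hcont.continuousOn).closure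
    exact hW.eq_of_ge hirr hWY

/-- a Noetherian space has finitely many connected components -/
theorem finite_range_connectedComponent [NoetherianSpace S] :
    (Set.range (connectedComponent : S → Set S)).Finite := by
  classical
  have hfin : (irreducibleComponents S).Finite := NoetherianSpace.finite_irreducibleComponents
  let g : Set S → Set S := fun Y => if h : Y.Nonempty then connectedComponent h.some else ∅
  refine (hfin.image g).subset ?_
  rintro _ ⟨x, rfl⟩
  refine ⟨irreducibleComponent x, irreducibleComponent_mem_irreducibleComponents x, ?_⟩
  have hne : (irreducibleComponent x).Nonempty := ⟨x, mem_irreducibleComponent⟩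
  simp only [g, dif_pos hne]
  have hpre : IsPreconnected (irreducibleComponent x) :=
    isIrreducible_irreducibleComponent.isPreirreducible.isPreconnected
  have h1 : irreducibleComponent x ⊆ connectedComponent x :=
    hpre.subset_connectedComponent mem_irreducibleComponent
  exact connectedComponent_eq (h1 hne.some_mem) |>.symm

/-- connected components along a dense embedding from a Noetherian space, provided the closures
of distinct components are disjoint -/
theorem bijOn_connectedComponents (e : S → T) (he : Topology.IsInducing e)
    (hd : DenseRange e) [NoetherianSpace S]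
    (hdisj : ∀ C ∈ Set.range (connectedComponent : S → Set S),
      ∀ C' ∈ Set.range (connectedComponent : S → Set S), C ≠ C' →
        Disjoint (closure (e '' C)) (closure (e '' C'))) :
    Set.BijOn (fun C : Set S => closure (e '' C)) (Set.range (connectedComponent : S → Set S))
      (Set.range (connectedComponent : T → Set T)) := by
  classical
  have hfin : (Set.range (connectedComponent : S → Set S)).Finite :=
    finite_range_connectedComponent
  have hcont : Continuous e := he.continuous
  have hcover : ∀ t : T, ∃ C ∈ Set.range (connectedComponent : S → Set S),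
      t ∈ closure (e '' C) := by
    intro t
    have h1 : t ∈ closure (Set.range e) := hd t
    have h2 : Set.range e = ⋃ C ∈ Set.range (connectedComponent : S → Set S), e '' C := by
      ext t
      simp only [Set.mem_range, Set.mem_iUnion, Set.mem_image, exists_prop]
      constructor
      · rintro ⟨s, rfl⟩
        exact ⟨connectedComponent s, ⟨s, rfl⟩, s, mem_connectedComponent, rfl⟩
      · rintro ⟨Y, -, s, -, rfl⟩
        exact ⟨s, rfl⟩
    rw [h2, hfin.closure_biUnion] at h1
    simp only [Set.mem_iUnion, exists_prop] at h1
    exact h1
  -- each closure is clopen and connected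
  have hconn : ∀ C ∈ Set.range (connectedComponent : S → Set S),
      IsConnected (closure (e '' C)) := by
    rintro _ ⟨s, rfl⟩
    exact (isConnected_connectedComponent.image e hcont.continuousOn).closure
  have hclopen : ∀ C ∈ Set.range (connectedComponent : S → Set S),
      IsClopen (closure (e '' C)) := by
    intro C hC
    refine ⟨isClosed_closure, ?_⟩
    have hcompl : (closure (e '' C))ᶜ =
        ⋃ C' ∈ (Set.range (connectedComponent : S → Set S)) \ {C}, closure (e '' C') := by
      ext t
      simp only [Set.mem_compl_iff, Set.mem_iUnion, Set.mem_sdiff, Set.mem_singleton_iff,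
        exists_prop]
      constructor
      · intro ht
        obtain ⟨C', hC', htC'⟩ := hcover t
        refine ⟨C', ⟨hC', ?_⟩, htC'⟩
        rintro rfl
        exact ht htC'
      · rintro ⟨C', ⟨hC', hne⟩, htC'⟩ htC
        exact (Set.disjoint_left.mp (hdisj C hC C' hC' (Ne.symm hne))) htC htC'
    rw [← isClosed_compl_iff, hcompl]
    exact (hfin.subset Set.sdiff_subset).isClosed_biUnion fun _ _ => isClosed_closure
  have hiscomp : ∀ C ∈ Set.range (connectedComponent : S → Set S), ∀ t ∈ closure (e '' C),
      connectedComponent t = closure (e '' C) := by
    intro C hC t ht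
    apply Set.Subset.antisymm
    · exact (hclopen C hC).connectedComponent_subset ht
    · exact (hconn C hC).isPreconnected.subset_connectedComponent ht
  have hpre : ∀ C ∈ Set.range (connectedComponent : S → Set S), e ⁻¹' closure (e '' C) = C := by
    rintro _ ⟨s, rfl⟩
    exact preimage_closure_image e he _ isClosed_connectedComponent
  refine ⟨?_, ?_, ?_⟩
  · intro C hC
    obtain ⟨t, ht⟩ := (hconn C hC).nonempty
    exact ⟨t, hiscomp C hC t ht⟩
  · intro C hC C' hC' h
    simp only at h
    rw [← hpre C hC, ← hpre C' hC', h]
  · rintro _ ⟨t, rfl⟩
    obtain ⟨C, hC, htC⟩ := hcover t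
    exact ⟨C, hC, (hiscomp C hC t htC).symm⟩

end Top

end H12LimComp
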