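import Mathlib
import Groth.Agent.Lib.Helper12.LimComp1

set_option autoImplicit false
universe u

namespace H12LimComp

open TopologicalSpace CategoryTheory CategoryTheory.Limits AlgebraicGeometry

variable {I : Type u} [SmallCategory I] [IsCofiltered I]
    (D : I ⥤ Scheme.{u}) (c : Limits.Cone D) (hc : Limits.IsLimit c)
    [∀ (i j : I) (f : i ⟶ j), IsAffineHom (D.map f)]

theorem π_comp_apply {k m : I} (a : k ⟶ m) (s : c.pt) :
    D.map a (c.π.app k s) = c.π.app m s := by
  rw [← Scheme.Hom.comp_apply, c.w]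

include hc in
/-- preimages of opens under different projections, when transition maps are inducing -/
theorem exists_preimage_eq_preimage
    (he : ∀ (i j : I) (φ : i ⟶ j), Topology.IsEmbedding ⇑(D.map φ)) (i j : I)
    (V : Set (D.obj i)) (hV : IsOpen V) :
    ∃ W : Set (D.obj j), IsOpen W ∧ c.π.app j ⁻¹' W = c.π.app i ⁻¹' V := by
  let k := IsCofiltered.min i j
  let a : k ⟶ i := IsCofiltered.minToLeft i j
  let b : k ⟶ j := IsCofiltered.minToRight i j
  obtain ⟨W, hW, hWV⟩ := (he k j b).isInducing.isOpen_iff.mp (hV.preimage (D.map a).continuous)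
  refine ⟨W, hW, ?_⟩
  ext s
  have h1 : s ∈ c.π.app j ⁻¹' W ↔ c.π.app k s ∈ D.map b ⁻¹' W := by
    show c.π.app j s ∈ W ↔ D.map b (c.π.app k s) ∈ W
    rw [π_comp_apply]
  have h2 : s ∈ c.π.app i ⁻¹' V ↔ c.π.app k s ∈ D.map a ⁻¹' V := by
    show c.π.app i s ∈ V ↔ D.map a (c.π.app k s) ∈ V
    rw [π_comp_apply]
  rw [h1, h2, hWV]

include hc in
theorem isEmbedding_π (he : ∀ (i j : I) (φ : i ⟶ j), Topology.IsEmbedding ⇑(D.map φ)) (j : I) :
    Topology.IsEmbedding ⇑(c.π.app j) := by
  have hbasis := isBasis_preimage_isAffineOpen D c hc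
  have hbasis' : IsTopologicalBasis (((↑) : c.pt.Opens → Set c.pt) ''
      { (c.π.app i ⁻¹ᵁ V : c.pt.Opens) | (i : I) (V : (D.obj i).Opens) (_ : IsAffineOpen V) }) :=
    hbasis
  refine ⟨?_, ?_⟩
  · -- inducing
    rw [Topology.isInducing_iff]
    apply le_antisymm
    · exact (c.π.app j).continuous.le_induced
    · intro U hU
      rw [isOpen_induced_iff]
      refine ⟨⋃₀ {W : Set (D.obj j) | IsOpen W ∧ c.π.app j ⁻¹' W ⊆ U},
        isOpen_sUnion (fun W hW => hW.1), ?_⟩
      apply Set.Subset.antisymm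
      · rintro s ⟨W, ⟨-, hWU⟩, hsW⟩
        exact hWU hsW
      · intro s hsU
        obtain ⟨B, hB, hsB, hBU⟩ := hbasis'.exists_subset_of_mem_open hsU hU
        obtain ⟨_, ⟨i, V, -, rfl⟩, rfl⟩ := hB
        obtain ⟨W, hW, hWV⟩ := exists_preimage_eq_preimage D c hc he i j V V.isOpen
        refine ⟨W, ⟨hW, ?_⟩, ?_⟩
        · rw [hWV]
          exact hBU
        · have : s ∈ c.π.app j ⁻¹' W := by
            rw [hWV]
            exact hsB
          exact this
  · -- injective
    intro s s' h
    have hall : ∀ m : I, c.π.app m s = c.π.app m s' := by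
      intro m
      let k := IsCofiltered.min m j
      let a : k ⟶ m := IsCofiltered.minToLeft m j
      let b : k ⟶ j := IsCofiltered.minToRight m j
      have h1 : c.π.app k s = c.π.app k s' := by
        apply (he k j b).injective
        rw [π_comp_apply, π_comp_apply]
        exact h
      rw [← π_comp_apply D c a s, ← π_comp_apply D c a s', h1]
    have hins : Inseparable s s' := by
      rw [hbasis'.inseparable_iff]
      rintro _ ⟨_, ⟨i, V, -, rfl⟩, rfl⟩
      show c.π.app i s ∈ V ↔ c.π.app i s' ∈ V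
      rw [hall i]
    exact hins.eq

include hc in
/-- an open of a stage with compact underlying set and empty preimage in the limit has empty
preimage at some stage -/
theorem exists_preimage_eq_empty {i : I} (V : Set (D.obj i)) (hV : IsOpen V) (hVc : IsCompact V)
    (hempty : c.π.app i ⁻¹' V = ∅) : ∃ (j : I) (f : j ⟶ i), D.map f ⁻¹' V = ∅ := by
  obtain ⟨j, f, hj⟩ := exists_map_preimage_le_map_preimage D c hc (U := ⟨V, hV⟩) (V := ⊥) hVc (by
    intro s hs
    have : s ∈ c.π.app i ⁻¹' V := hs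
    rw [hempty] at this
    exact absurd this (Set.notMem_empty s))
  refine ⟨j, f, ?_⟩
  rw [Set.eq_empty_iff_forall_notMem]
  intro x hx
  exact hj hx

include hc in
/-- a closed set of a compact stage with empty preimage in the limit has empty preimage at some
stage -/
theorem exists_preimage_closed_eq_empty {i : I} [CompactSpace (D.obj i)] (Z : Set (D.obj i))
    (hZ : IsClosed Z) (hempty : c.π.app i ⁻¹' Z = ∅) :
    ∃ (j : I) (f : j ⟶ i), D.map f ⁻¹' Z = ∅ := by
  obtain ⟨j, f, hj⟩ := exists_map_preimage_le_map_preimage D c hc (U := ⊤)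
    (V := ⟨Zᶜ, hZ.isOpen_compl⟩) isCompact_univ (by
    intro s _
    show c.π.app i s ∈ Zᶜ
    intro hs
    have : s ∈ c.π.app i ⁻¹' Z := hs
    rw [hempty] at this
    exact this)
  refine ⟨j, f, ?_⟩
  rw [Set.eq_empty_iff_forall_notMem]
  intro x hx
  have : D.map f x ∈ Zᶜ := hj (Set.mem_univ x)
  exact this hx

include hc in
/-- density of the limit in the stages far enough -/
theorem exists_denseRange (i₀ : I) [NoetherianSpace (D.obj i₀)] :
    ∃ (k : I) (f : k ⟶ i₀), ∀ (x : D.obj k), D.map f x ∈ closure (Set.range (c.π.app i₀)) := by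
  set C := closure (Set.range (c.π.app i₀)) with hC
  have hCo : IsOpen Cᶜ := isClosed_closure.isOpen_compl
  obtain ⟨k, f, hk⟩ := exists_preimage_eq_empty D c hc Cᶜ hCo (NoetherianSpace.isCompact _) (by
    rw [Set.eq_empty_iff_forall_notMem]
    intro s hs
    exact hs (subset_closure ⟨s, rfl⟩))
  refine ⟨k, f, fun x => ?_⟩
  by_contra hx
  have : x ∈ D.map f ⁻¹' Cᶜ := hx
  rw [hk] at this
  exact this

/-- closure of the image of a set in a stage in terms of a later stage -/
theorem closure_image_eq (he : ∀ (i j : I) (φ : i ⟶ j), Topology.IsEmbedding ⇑(D.map φ))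
    {j k : I} (ψ : j ⟶ k) (Y : Set c.pt) :
    closure (c.π.app j '' Y) = D.map ψ ⁻¹' closure (c.π.app k '' Y) := by
  rw [(he j k ψ).isInducing.closure_eq_preimage_closure_image]
  congr 2
  ext t
  constructor
  · rintro ⟨_, ⟨s, hs, rfl⟩, rfl⟩
    exact ⟨s, hs, (π_comp_apply D c ψ s).symm⟩
  · rintro ⟨s, hs, rfl⟩
    exact ⟨c.π.app j s, ⟨s, hs, rfl⟩, π_comp_apply D c ψ s⟩

theorem denseRange_π (he : ∀ (i j : I) (φ : i ⟶ j), Topology.IsEmbedding ⇑(D.map φ))
    {j i₀ : I} (ψ : j ⟶ i₀)
    (h : ∀ (x : D.obj j), D.map ψ x ∈ closure (Set.range (c.π.app i₀))) :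
    DenseRange (c.π.app j) := by
  intro x
  have h1 := closure_image_eq D c he ψ Set.univ
  rw [Set.image_univ, Set.image_univ] at h1
  rw [h1]
  exact h x

end H12LimComp
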