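import Mathlib
import Groth.Agent.Lib.Helper12.LimComp2

set_option autoImplicit false
universe u

namespace H12LimComp

open TopologicalSpace CategoryTheory CategoryTheory.Limits AlgebraicGeometry

variable {I : Type u} [SmallCategory I] [IsCofiltered I]
    (D : I ⥤ Scheme.{u}) (c : Limits.Cone D) (hc : Limits.IsLimit c)
    [∀ (i j : I) (f : i ⟶ j), IsAffineHom (D.map f)]

include hc in
theorem main_irreducible (i₀ : I)
    [TopologicalSpace.NoetherianSpace (D.obj i₀)] [TopologicalSpace.NoetherianSpace c.pt]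
    (he : ∀ (i j : I) (φ : i ⟶ j), Topology.IsEmbedding ⇑(D.map φ)) :
    ∃ (i : I) (_ : i ⟶ i₀), ∀ (j : I) (_ : j ⟶ i),
      Set.BijOn (fun Y : Set c.pt => closure (⇑(c.π.app j) '' (Y : Set c.pt) : Set (D.obj j)))
        (irreducibleComponents c.pt) (irreducibleComponents (D.obj j)) := by
  obtain ⟨k, f, hk⟩ := exists_denseRange D c hc i₀
  refine ⟨k, f, fun j g => ?_⟩
  have hd : DenseRange (c.π.app j) := by
    apply denseRange_π D c he (g ≫ f)
    intro x
    rw [D.map_comp, Scheme.Hom.comp_apply]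
    exact hk _
  exact bijOn_irreducibleComponents (S := ↥c.pt) (c.π.app j) (isEmbedding_π D c hc he j).isInducing hd

include hc in
theorem main_connected (i₀ : I)
    [TopologicalSpace.NoetherianSpace (D.obj i₀)] [TopologicalSpace.NoetherianSpace c.pt]
    (he : ∀ (i j : I) (φ : i ⟶ j), Topology.IsEmbedding ⇑(D.map φ)) :
    ∃ (i : I) (_ : i ⟶ i₀), ∀ (j : I) (_ : j ⟶ i),
      Set.BijOn (fun C : Set c.pt => closure (⇑(c.π.app j) '' (C : Set c.pt) : Set (D.obj j)))
        (Set.range (connectedComponent : c.pt → Set c.pt))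
        (Set.range (connectedComponent : D.obj j → Set (D.obj j))) := by
  classical
  obtain ⟨k, f, hk⟩ := exists_denseRange D c hc i₀
  haveI : NoetherianSpace (D.obj k) := (he k i₀ f).isInducing.noetherianSpace
  have hfin : (Set.range (connectedComponent : c.pt → Set c.pt)).Finite :=
    finite_range_connectedComponent
  have hemb := isEmbedding_π D c hc he
  -- the bad closed set
  let 𝒞 := Set.range (connectedComponent : c.pt → Set c.pt)
  let Z : Set (D.obj k) := ⋃ p ∈ {p : Set c.pt × Set c.pt | p.1 ∈ 𝒞 ∧ p.2 ∈ 𝒞 ∧ p.1 ≠ p.2},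
    closure (c.π.app k '' p.1) ∩ closure (c.π.app k '' p.2)
  have hZc : IsClosed Z := by
    apply Set.Finite.isClosed_biUnion
    · exact (hfin.prod hfin).subset (fun p hp => ⟨hp.1, hp.2.1⟩)
    · intro p _
      exact isClosed_closure.inter isClosed_closure
  have hZe : c.π.app k ⁻¹' Z = ∅ := by
    rw [Set.eq_empty_iff_forall_notMem]
    intro s hs
    simp only [Z, Set.mem_preimage, Set.mem_iUnion, exists_prop] at hs
    obtain ⟨⟨C, C'⟩, ⟨hC, hC', hne⟩, hs1, hs2⟩ := hs
    obtain ⟨x, rfl⟩ := hC
    obtain ⟨x', rfl⟩ := hC'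
    have h1 : s ∈ connectedComponent x := by
      have : s ∈ c.π.app k ⁻¹' closure (c.π.app k '' connectedComponent x) := hs1
      rwa [preimage_closure_image _ (hemb k).isInducing _ isClosed_connectedComponent] at this
    have h2 : s ∈ connectedComponent x' := by
      have : s ∈ c.π.app k ⁻¹' closure (c.π.app k '' connectedComponent x') := hs2
      rwa [preimage_closure_image _ (hemb k).isInducing _ isClosed_connectedComponent] at this
    apply hne
    show connectedComponent x = connectedComponent x'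
    rw [connectedComponent_eq h1, connectedComponent_eq h2]
  obtain ⟨k₂, h, hk₂⟩ := exists_preimage_closed_eq_empty D c hc Z hZc hZe
  refine ⟨k₂, h ≫ f, fun j g => ?_⟩
  have hd : DenseRange (c.π.app j) := by
    apply denseRange_π D c he (g ≫ h ≫ f)
    intro x
    rw [← Category.assoc, D.map_comp, Scheme.Hom.comp_apply]
    exact hk _
  refine bijOn_connectedComponents (S := ↥c.pt) (c.π.app j) (hemb j).isInducing hd ?_
  intro C hC C' hC' hne
  rw [Set.disjoint_left]
  intro x hx hx'
  rw [closure_image_eq D c he (g ≫ h) C] at hx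
  rw [closure_image_eq D c he (g ≫ h) C'] at hx'
  have hxZ : D.map (g ≫ h) x ∈ Z := by
    simp only [Z, Set.mem_iUnion, exists_prop]
    exact ⟨⟨C, C'⟩, ⟨hC, hC', hne⟩, hx, hx'⟩
  rw [D.map_comp, Scheme.Hom.comp_apply] at hxZ
  have : D.map g x ∈ D.map h ⁻¹' Z := hxZ
  rw [hk₂] at this
  exact this

end H12LimComp
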