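import Mathlib
import Groth.Agent.Lib.Helper13.LimitDescent
import Groth.Agent.Lib.Helper18.FibSemi
import Groth.Agent.Lib.Helper21.BaseChg4

set_option autoImplicit false
universe u

namespace Groth.Agent.Lib.Helper12.H12LimFibDim

open AlgebraicGeometry CategoryTheory CategoryTheory.Limits Groth.Agent.Lib.Helper5
  Groth.Agent.Lib.Helper13.LimitDescent

variable {I : Type u} [SmallCategory I] [IsCofiltered I] (D : I ⥤ Scheme.{u}) (c : Cone D)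
  (hc : IsLimit c) [∀ {i j} (f : i ⟶ j), IsAffineHom (D.map f)]
  (i₀ : I) [CompactSpace (D.obj i₀)] [QuasiSeparatedSpace (D.obj i₀)]
  {X₀ Y₀ : Scheme.{u}} (f₀ : X₀ ⟶ Y₀) (g₀ : Y₀ ⟶ D.obj i₀)
  [CompactSpace X₀] [LocallyOfFiniteType f₀]
  {X Y : Scheme.{u}} {f : X ⟶ Y} {g : Y ⟶ c.pt} {qY : Y ⟶ Y₀} {qX : X ⟶ X₀}

include hc in
set_option backward.isDefEq.respectTransparency false in
/-- A closed subset of `X₀` with empty preimage in the limit has empty preimage at a finite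
stage. -/
theorem exists_stage_preimage_empty (hY : IsPullback qY g g₀ (c.π.app i₀))
    (hX : IsPullback qX f f₀ qY) (E₀ : Set X₀) (hE₀ : IsClosed E₀) (hempty : qX ⁻¹' E₀ = ∅) :
    ∃ j : Over i₀, (pXj D i₀ f₀ g₀ j) ⁻¹' E₀ = ∅ := by
  have : QuasiCompact (f₀ ≫ g₀) := inferInstance
  let DX := bcDiagram D i₀ (f₀ ≫ g₀)
  let cX := bcCone D c i₀ (f₀ ≫ g₀)
  let hcX : IsLimit cX := isLimitBcCone D c hc i₀ (f₀ ≫ g₀)
  have : ∀ j, CompactSpace (DX.obj j) := fun j => compactSpace_Xj D i₀ f₀ g₀ j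
  have : ∀ {j k : Over i₀} (a : j ⟶ k), IsAffineHom (DX.map a) := by
    intro j k a
    infer_instance
  let j₀ : Over i₀ := Over.mk (𝟙 i₀)
  let V : (DX.obj j₀).Opens := ⟨(pXj D i₀ f₀ g₀ j₀) ⁻¹' E₀ᶜ,
    hE₀.isOpen_compl.preimage (pXj D i₀ f₀ g₀ j₀).continuous⟩
  obtain ⟨j, ψ, hj⟩ := exists_map_preimage_le_map_preimage DX cX hcX (U := ⊤) (V := V)
    isCompact_univ (by
      rintro z -
      obtain ⟨x, rfl⟩ := (isoX hY hX).hom.homeomorph.surjective z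
      have h1 : (pXj D i₀ f₀ g₀ j₀) (cX.π.app j₀ ((isoX hY hX).hom x)) = qX x :=
        congr($(πX_pXj hY hX j₀) x)
      change (pXj D i₀ f₀ g₀ j₀) (cX.π.app j₀ ((isoX hY hX).hom x)) ∈ E₀ᶜ
      rw [h1]
      intro hx
      have : x ∈ qX ⁻¹' E₀ := hx
      rw [hempty] at this
      exact this)
  refine ⟨j, ?_⟩
  have h2 : DX.map ψ ≫ pXj D i₀ f₀ g₀ j₀ = pXj D i₀ f₀ g₀ j := by
    simp [DX, bcDiagram]
  rw [Set.eq_empty_iff_forall_notMem]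
  intro x hx
  have h3 : (pXj D i₀ f₀ g₀ j₀) (DX.map ψ x) = (pXj D i₀ f₀ g₀ j) x := congr($h2 x)
  have h4 : x ∈ DX.map ψ ⁻¹ᵁ V := hj (show x ∈ DX.map ψ ⁻¹ᵁ ⊤ from trivial)
  have h5 : (pXj D i₀ f₀ g₀ j₀) (DX.map ψ x) ∈ E₀ᶜ := h4
  rw [h3] at h5
  exact h5 hx

include hc in
theorem exists_fibreDimAt_le_stage (hY : IsPullback qY g g₀ (c.π.app i₀))
    (hX : IsPullback qX f f₀ qY) (d : ℕ) (hd : ∀ x : X, FlatMor.fibreDimAt f x ≤ d) :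
    ∃ j : Over i₀, ∀ x : Xj D i₀ f₀ g₀ j, FlatMor.fibreDimAt (fj D i₀ f₀ g₀ j) x ≤ d := by
  let E₀ : Set X₀ := {x₀ | ((d + 1 : ℕ) : WithBot ℕ∞) ≤ FlatMor.fibreDimAt f₀ x₀}
  have hE₀ : IsClosed E₀ := Groth.Agent.Lib.Helper18.FibSemi.isClosed_setOf_le_fibreDimAt f₀ (d + 1)
  have hlt : ∀ a : WithBot ℕ∞, ((d + 1 : ℕ) : WithBot ℕ∞) ≤ a ↔ ¬ a ≤ d := by
    intro a
    induction a using WithBot.recBotCoe with
    | bot => simp
    | coe n =>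
      rw [not_le]
      have h1 : ((d + 1 : ℕ) : WithBot ℕ∞) = ((d + 1 : ℕ∞) : WithBot ℕ∞) := by norm_cast
      have h2 : ((d : ℕ) : WithBot ℕ∞) = ((d : ℕ∞) : WithBot ℕ∞) := by norm_cast
      rw [h1, h2, WithBot.coe_le_coe, WithBot.coe_lt_coe]
      exact Order.add_one_le_iff_of_not_isMax (by simp)
  have hempty : qX ⁻¹' E₀ = ∅ := by
    rw [Set.eq_empty_iff_forall_notMem]
    intro x hx
    have h1 : ((d + 1 : ℕ) : WithBot ℕ∞) ≤ FlatMor.fibreDimAt f₀ (qX x) := hx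
    rw [← Groth.Agent.Lib.Helper21.BaseChg.fibreDimAt_eq_of_isPullback hX x, hlt] at h1
    exact h1 (hd x)
  obtain ⟨j, hj⟩ := exists_stage_preimage_empty D c hc i₀ f₀ g₀ hY hX E₀ hE₀ hempty
  refine ⟨j, fun x => ?_⟩
  rw [Groth.Agent.Lib.Helper21.BaseChg.fibreDimAt_eq_of_isPullback (isPullback_Xj D i₀ f₀ g₀ j) x]
  by_contra hcon
  rw [← hlt] at hcon
  have : x ∈ (pXj D i₀ f₀ g₀ j) ⁻¹' E₀ := hcon
  rw [hj] at this
  exact this

end Groth.Agent.Lib.Helper12.H12LimFibDim
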