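import Mathlib
import Groth.Agent.Lib.Helper12.LimFibDim
import Groth.Agent.Lib.Helper12.FibDimConstr
import Groth.Agent.Lib.Helper5.LimitConstructible
import Groth.Agent.Lib.Helper21.FibDim10

set_option autoImplicit false
universe u

namespace Groth.Agent.Lib.Helper12.H12LimRelDim

open AlgebraicGeometry CategoryTheory CategoryTheory.Limits Groth.Agent.Lib.Helper5
  Groth.Agent.Lib.Helper13.LimitDescent Topology

theorem hasRelDim_iff_fibreDimAt_eq {X S : Scheme.{u}} (f : X ⟶ S) [LocallyOfFiniteType f]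
    (d : ℕ) : Cyc.HasRelDim f d ↔ ∀ x : X, FlatMor.fibreDimAt f x = d := by
  constructor
  · intro h x
    exact Groth.Agent.Lib.Helper21.FibDim.fibreDimAt_eq_of_hasRelDim f d h x
  · intro h y T hT
    obtain ⟨z, -, hdim, -⟩ := Groth.Agent.Lib.Helper21.FibDim.exists_isGenericPoint_fiber f y T hT
    rw [hdim]
    exact h _

variable {I : Type u} [SmallCategory I] [IsCofiltered I] (D : I ⥤ Scheme.{u}) (c : Cone D)
  (hc : IsLimit c) [∀ {i j} (f : i ⟶ j), IsAffineHom (D.map f)]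
  (i₀ : I) [CompactSpace (D.obj i₀)] [QuasiSeparatedSpace (D.obj i₀)]
  {X₀ Y₀ : Scheme.{u}} (f₀ : X₀ ⟶ Y₀) (g₀ : Y₀ ⟶ D.obj i₀)
  [CompactSpace X₀] [QuasiSeparatedSpace X₀]
  {X Y : Scheme.{u}} {f : X ⟶ Y} {g : Y ⟶ c.pt} {qY : Y ⟶ Y₀} {qX : X ⟶ X₀}

include hc in
set_option backward.isDefEq.respectTransparency false in
/-- A constructible subset of `X₀` with empty preimage in the limit has empty preimage at a finite
stage. -/
theorem exists_stage_preimage_empty_of_isConstructible (hY : IsPullback qY g g₀ (c.π.app i₀))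
    (hX : IsPullback qX f f₀ qY) (E₀ : Set X₀) (hE₀ : IsConstructible E₀)
    (hempty : qX ⁻¹' E₀ = ∅) :
    ∃ j : Over i₀, (pXj D i₀ f₀ g₀ j) ⁻¹' E₀ = ∅ := by
  have : QuasiCompact (f₀ ≫ g₀) := inferInstance
  let DX := bcDiagram D i₀ (f₀ ≫ g₀)
  let cX := bcCone D c i₀ (f₀ ≫ g₀)
  let hcX : IsLimit cX := isLimitBcCone D c hc i₀ (f₀ ≫ g₀)
  have : ∀ j, CompactSpace (DX.obj j) := fun j => compactSpace_Xj D i₀ f₀ g₀ j
  have : ∀ {j k : Over i₀} (a : j ⟶ k), IsAffineHom (DX.map a) := by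
    intro j k a
    infer_instance
  let j₀ : Over i₀ := Over.mk (𝟙 i₀)
  let E : Set (DX.obj j₀) := (pXj D i₀ f₀ g₀ j₀) ⁻¹' E₀
  have hE : IsConstructible E := (pXj D i₀ f₀ g₀ j₀).isConstructible_preimage hE₀
  obtain ⟨j, ψ, hj⟩ := exists_map_preimage_inter_subset DX cX hcX (U := Set.univ) (E := E)
    (V := ∅) isOpen_univ isCompact_univ hE isOpen_empty (by
      rintro z ⟨-, hz⟩
      exfalso
      obtain ⟨x, rfl⟩ := (isoX hY hX).hom.homeomorph.surjective z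
      have h1 : (pXj D i₀ f₀ g₀ j₀) (cX.π.app j₀ ((isoX hY hX).hom x)) = qX x :=
        congr($(πX_pXj hY hX j₀) x)
      have hz' : (pXj D i₀ f₀ g₀ j₀) (cX.π.app j₀ ((isoX hY hX).hom x)) ∈ E₀ := hz
      rw [h1] at hz'
      have : x ∈ qX ⁻¹' E₀ := hz'
      rw [hempty] at this
      exact this)
  refine ⟨j, ?_⟩
  have h2 : DX.map ψ ≫ pXj D i₀ f₀ g₀ j₀ = pXj D i₀ f₀ g₀ j := by
    simp [DX, bcDiagram]
  rw [Set.eq_empty_iff_forall_notMem]
  intro x hx
  have h3 : (pXj D i₀ f₀ g₀ j₀) (DX.map ψ x) = (pXj D i₀ f₀ g₀ j) x := congr($h2 x)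
  have : x ∈ DX.map ψ ⁻¹' (Set.univ ∩ E) := ⟨trivial, by
    change (pXj D i₀ f₀ g₀ j₀) (DX.map ψ x) ∈ E₀
    rw [h3]; exact hx⟩
  exact hj this

include hc in
theorem exists_hasRelDim_stage [LocallyOfFinitePresentation f₀]
    (hY : IsPullback qY g g₀ (c.π.app i₀))
    (hX : IsPullback qX f f₀ qY) (d : ℕ) (hd : Cyc.HasRelDim f d) :
    ∃ j : Over i₀, Cyc.HasRelDim (fj D i₀ f₀ g₀ j) d := by
  have hlftf : LocallyOfFiniteType f := MorphismProperty.of_isPullback hX inferInstance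
  rw [hasRelDim_iff_fibreDimAt_eq] at hd
  let E₀ : Set X₀ := {x₀ | FlatMor.fibreDimAt f₀ x₀ ≠ d}
  have hE₀ : IsConstructible E₀ := by
    have h1 := H12FibDimConstr.isLocallyConstructible_setOf_le_fibreDimAt f₀ (d + 1)
    have h2 := H12FibDimConstr.isLocallyConstructible_compl
      (H12FibDimConstr.isLocallyConstructible_setOf_le_fibreDimAt f₀ d)
    have h3 := (h1.union h2).isConstructible
    convert h3 using 1
    ext x₀
    simp only [Set.mem_ofPred_eq, Set.mem_union, Set.mem_compl_iff, E₀]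
    generalize FlatMor.fibreDimAt f₀ x₀ = a
    induction a using WithBot.recBotCoe with
    | bot => simp
    | coe n =>
      have h1 : ((d + 1 : ℕ) : WithBot ℕ∞) = ((d + 1 : ℕ∞) : WithBot ℕ∞) := by norm_cast
      have h2 : ((d : ℕ) : WithBot ℕ∞) = ((d : ℕ∞) : WithBot ℕ∞) := by norm_cast
      rw [h1, h2, WithBot.coe_le_coe, WithBot.coe_le_coe, Ne, WithBot.coe_inj,
        Order.add_one_le_iff_of_not_isMax (by simp), not_le]
      exact ne_iff_lt_or_gt.trans or_comm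
  have hempty : qX ⁻¹' E₀ = ∅ := by
    rw [Set.eq_empty_iff_forall_notMem]
    intro x hx
    have h1 : FlatMor.fibreDimAt f₀ (qX x) ≠ d := hx
    rw [← Groth.Agent.Lib.Helper21.BaseChg.fibreDimAt_eq_of_isPullback hX x] at h1
    exact h1 (hd x)
  obtain ⟨j, hj⟩ := exists_stage_preimage_empty_of_isConstructible D c hc i₀ f₀ g₀ hY hX E₀ hE₀
    hempty
  refine ⟨j, ?_⟩
  have hlft : LocallyOfFiniteType (fj D i₀ f₀ g₀ j) :=
    MorphismProperty.of_isPullback (isPullback_Xj D i₀ f₀ g₀ j) inferInstance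
  rw [hasRelDim_iff_fibreDimAt_eq]
  intro x
  rw [Groth.Agent.Lib.Helper21.BaseChg.fibreDimAt_eq_of_isPullback (isPullback_Xj D i₀ f₀ g₀ j) x]
  by_contra hcon
  have : x ∈ (pXj D i₀ f₀ g₀ j) ⁻¹' E₀ := hcon
  rw [hj] at this
  exact this

end Groth.Agent.Lib.Helper12.H12LimRelDim
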