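import Mathlib

set_option autoImplicit false
universe u

namespace H12LinForm

variable {k : Type u} [Field k]

/-- a nonzero singular 2×2 matrix is a product `v uᵀ`. -/
theorem rank_one (N : Matrix (Fin 2) (Fin 2) k) (hN : N ≠ 0) (hdet : N.det = 0) :
    ∃ u v : Fin 2 → k, u ≠ 0 ∧ v ≠ 0 ∧ ∀ a b, N a b = v a * u b := by
  rw [Matrix.det_fin_two] at hdet
  by_cases h00 : N 0 0 = 0
  · by_cases h01 : N 0 1 = 0
    · -- first row zero
      refine ⟨![N 1 0, N 1 1], ![0, 1], ?_, ?_, ?_⟩
      · intro h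
        apply hN
        ext a b
        have e0 := congrFun h 0
        have e1 := congrFun h 1
        simp at e0 e1
        fin_cases a <;> fin_cases b <;> simp [h00, h01, e0, e1]
      · intro h
        have := congrFun h 1
        simp at this
      · intro a b
        fin_cases a <;> fin_cases b <;> simp [h00, h01]
    · -- N 0 0 = 0, N 0 1 ≠ 0, so N 1 0 = 0
      have h10 : N 1 0 = 0 := by
        rw [h00, zero_mul, zero_sub, neg_eq_zero] at hdet
        exact (mul_eq_zero.mp hdet).resolve_left h01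
      refine ⟨![0, 1], ![N 0 1, N 1 1], ?_, ?_, ?_⟩
      · intro h
        have := congrFun h 1
        simp at this
      · intro h
        have := congrFun h 0
        simp at this
        exact h01 this
      · intro a b
        fin_cases a <;> fin_cases b <;> simp [h00, h10]
  · refine ⟨![1, N 0 1 / N 0 0], ![N 0 0, N 1 0], ?_, ?_, ?_⟩
    · intro h
      have := congrFun h 0
      simp at this
    · intro h
      have := congrFun h 0
      simp at this
      exact h00 this
    · intro a b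
      fin_cases a <;> fin_cases b <;> simp
      · field_simp
      · field_simp
        linear_combination hdet

/-- complete a nonzero row to an invertible matrix -/
theorem exists_gl_row (u : Fin 2 → k) (hu : u ≠ 0) :
    ∃ g : GL (Fin 2) k, ∀ b, g.val 0 b = u b := by
  by_cases h0 : u 0 = 0
  · have h1 : u 1 ≠ 0 := by
      intro h1
      apply hu
      ext a
      fin_cases a <;> simp [h0, h1]
    refine ⟨Matrix.GeneralLinearGroup.mkOfDetNeZero !![u 0, u 1; 1, 0] ?_, ?_⟩
    · rw [Matrix.det_fin_two_of]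
      simp [h1]
    · intro b
      fin_cases b <;> rfl
  · refine ⟨Matrix.GeneralLinearGroup.mkOfDetNeZero !![u 0, u 1; 0, 1] ?_, ?_⟩
    · rw [Matrix.det_fin_two_of]
      simp [h0]
    · intro b
      fin_cases b <;> rfl

theorem exists_gl_col (v : Fin 2 → k) (hv : v ≠ 0) :
    ∃ h : GL (Fin 2) k, ∀ a, h.val a 1 = v a := by
  by_cases h1 : v 1 = 0
  · have h0 : v 0 ≠ 0 := by
      intro h0
      apply hv
      ext a
      fin_cases a <;> simp [h0, h1]
    refine ⟨Matrix.GeneralLinearGroup.mkOfDetNeZero !![0, v 0; 1, v 1] ?_, ?_⟩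
    · rw [Matrix.det_fin_two_of]
      simp [h0]
    · intro b
      fin_cases b <;> rfl
  · refine ⟨Matrix.GeneralLinearGroup.mkOfDetNeZero !![1, v 0; 0, v 1] ?_, ?_⟩
    · rw [Matrix.det_fin_two_of]
      simp [h1]
    · intro b
      fin_cases b <;> rfl

/-- the bilinear pairing `uᵀ A v` -/
def bil (u : Fin 2 → k) (A : Matrix (Fin 2) (Fin 2) k) (v : Fin 2 → k) : k :=
  u 0 * (A 0 0 * v 0 + A 0 1 * v 1) + u 1 * (A 1 0 * v 0 + A 1 1 * v 1)

theorem exists_perp (w₁ w₂ : Fin 2 → k) (h : w₁ 0 * w₂ 1 - w₁ 1 * w₂ 0 = 0) :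
    ∃ u : Fin 2 → k, u ≠ 0 ∧ u 0 * w₁ 0 + u 1 * w₁ 1 = 0 ∧ u 0 * w₂ 0 + u 1 * w₂ 1 = 0 := by
  by_cases h1 : w₁ = 0
  · by_cases h2 : w₂ = 0
    · refine ⟨![1, 0], ?_, ?_, ?_⟩
      · intro h
        have := congrFun h 0
        simp at this
      · simp [h1]
      · simp [h2]
    · refine ⟨![-w₂ 1, w₂ 0], ?_, ?_, ?_⟩
      · intro h
        apply h2
        have e0 := congrFun h 0
        have e1 := congrFun h 1
        simp at e0 e1
        ext a
        fin_cases a <;> simp [e0, e1]
      · simp [h1]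
      · simp
        ring
  · refine ⟨![-w₁ 1, w₁ 0], ?_, ?_, ?_⟩
    · intro h
      apply h1
      have e0 := congrFun h 0
      have e1 := congrFun h 1
      simp at e0 e1
      ext a
      fin_cases a <;> simp [e0, e1]
    · simp
      ring
    · simp
      linear_combination h

theorem exists_two [IsAlgClosed k] [NeZero (2 : k)] (A B : Matrix (Fin 2) (Fin 2) k) :
    ∃ u v : Fin 2 → k, u ≠ 0 ∧ v ≠ 0 ∧ bil u A v = 0 ∧ bil u B v = 0 := by
  set α := A 0 0 * B 1 0 - A 1 0 * B 0 0 with hα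
  set β := A 0 0 * B 1 1 + A 0 1 * B 1 0 - A 1 0 * B 0 1 - A 1 1 * B 0 0 with hβ
  set γ := A 0 1 * B 1 1 - A 1 1 * B 0 1 with hγ
  have key : ∃ v : Fin 2 → k, v ≠ 0 ∧
      (A 0 0 * v 0 + A 0 1 * v 1) * (B 1 0 * v 0 + B 1 1 * v 1) -
        (A 1 0 * v 0 + A 1 1 * v 1) * (B 0 0 * v 0 + B 0 1 * v 1) = 0 := by
    by_cases h0 : α = 0
    · refine ⟨![1, 0], ?_, ?_⟩
      · intro h
        have := congrFun h 0
        simp at this
      · simp
        rw [hα] at h0
        linear_combination h0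
    · obtain ⟨s, hs⟩ := exists_quadratic_eq_zero h0 (IsAlgClosed.exists_eq_mul_self (discrim α β γ))
      refine ⟨![s, 1], ?_, ?_⟩
      · intro h
        have := congrFun h 1
        simp at this
      · simp
        rw [hα, hβ, hγ] at hs
        linear_combination hs
  obtain ⟨v, hv, hdet⟩ := key
  obtain ⟨u, hu, h1, h2⟩ := exists_perp
    ![A 0 0 * v 0 + A 0 1 * v 1, A 1 0 * v 0 + A 1 1 * v 1]
    ![B 0 0 * v 0 + B 0 1 * v 1, B 1 0 * v 0 + B 1 1 * v 1] (by simpa using hdet)
  refine ⟨u, v, hu, hv, ?_, ?_⟩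
  · simpa [bil] using h1
  · simpa [bil] using h2

end H12LinForm
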