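import Mathlib
import Groth.Agent.Lib.Helper12.LinForm1

set_option autoImplicit false
universe u
open MvPolynomial

namespace H12LinForm

variable {k : Type u} [Field k]

theorem exists_coeffs (l : MvPolynomial (Fin 3) k) (hl : l.IsHomogeneous 1) :
    ∃ c : Fin 3 → k, l = C (c 0) * X 0 + C (c 1) * X 1 + C (c 2) * X 2 := by
  have h1 := hl.sum_X_mul_pderiv
  rw [one_smul] at h1
  have h2 : ∀ i : Fin 3, ∃ c : k, pderiv i l = C c := by
    intro i
    have := hl.pderiv (i := i)
    rw [Nat.sub_self, ← totalDegree_zero_iff_isHomogeneous, totalDegree_eq_zero_iff_eq_C] at this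
    exact ⟨_, this⟩
  choose c hc using h2
  refine ⟨c, ?_⟩
  rw [← h1, Fin.sum_univ_three, hc 0, hc 1, hc 2]
  ring

theorem exists_common_zero (c d : Fin 3 → k) :
    ∃ x : Fin 3 → k, x ≠ 0 ∧ c 0 * x 0 + c 1 * x 1 + c 2 * x 2 = 0 ∧
      d 0 * x 0 + d 1 * x 1 + d 2 * x 2 = 0 := by
  let L : (Fin 3 → k) →ₗ[k] (Fin 2 → k) :=
    { toFun := fun x => ![c 0 * x 0 + c 1 * x 1 + c 2 * x 2, d 0 * x 0 + d 1 * x 1 + d 2 * x 2]
      map_add' := fun x y => by
        ext i
        fin_cases i <;> simp <;> ring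
      map_smul' := fun r x => by
        ext i
        fin_cases i <;> simp <;> ring }
  have hker : LinearMap.ker L ≠ ⊥ := by
    apply LinearMap.ker_ne_bot_of_finrank_lt
    simp
  obtain ⟨x, hx, hx0⟩ := (Submodule.ne_bot_iff _).mp hker
  refine ⟨x, hx0, ?_, ?_⟩
  · have := congrFun (LinearMap.mem_ker.mp hx) 0
    simpa [L] using this
  · have := congrFun (LinearMap.mem_ker.mp hx) 1
    simpa [L] using this

/-- the evaluation matrix -/
def Rm (A : Fin 3 → Matrix (Fin 2) (Fin 2) k) (x : Fin 3 → k) : Matrix (Fin 2) (Fin 2) k :=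
  fun a b => A 0 a b * x 0 + A 1 a b * x 1 + A 2 a b * x 2

/-- key: existence of `u, v` -/
theorem exists_uv [IsAlgClosed k] [NeZero (2 : k)] (A : Fin 3 → Matrix (Fin 2) (Fin 2) k)
    (c d : Fin 3 → k)
    (hdet : ∀ y : Fin 3 → k, (Rm A y).det =
      (c 0 * y 0 + c 1 * y 1 + c 2 * y 2) * (d 0 * y 0 + d 1 * y 1 + d 2 * y 2)) :
    ∃ u v : Fin 2 → k, u ≠ 0 ∧ v ≠ 0 ∧ ∀ i, bil u (A i) v = 0 := by
  obtain ⟨x, hx0, hxc, hxd⟩ := exists_common_zero c d
  set P := Rm A x with hP
  have hPdet : P.det = 0 := by rw [hP, hdet x, hxc, zero_mul]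
  -- trace identity
  have htr : ∀ y : Fin 3 → k,
      P 1 1 * (Rm A y) 0 0 - P 0 1 * (Rm A y) 1 0 - P 1 0 * (Rm A y) 0 1 + P 0 0 * (Rm A y) 1 1 = 0 := by
    intro y
    have h1 := hdet (x + y)
    have h2 := hdet y
    have h3 : Rm A (x + y) = P + Rm A y := by
      ext a b
      simp only [Rm, hP, Matrix.add_apply, Pi.add_apply]
      ring
    rw [h3] at h1
    rw [Matrix.det_fin_two] at h1 h2 hPdet
    simp only [Matrix.add_apply, Pi.add_apply] at h1
    have e1 : c 0 * (x 0 + y 0) + c 1 * (x 1 + y 1) + c 2 * (x 2 + y 2) =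
        c 0 * y 0 + c 1 * y 1 + c 2 * y 2 := by linear_combination hxc
    have e2 : d 0 * (x 0 + y 0) + d 1 * (x 1 + y 1) + d 2 * (x 2 + y 2) =
        d 0 * y 0 + d 1 * y 1 + d 2 * y 2 := by linear_combination hxd
    rw [e1, e2, ← h2] at h1
    linear_combination h1 - hPdet
  by_cases hP0 : P = 0
  · -- degenerate case
    have hrel : ∀ a b, A 0 a b * x 0 + A 1 a b * x 1 + A 2 a b * x 2 = 0 := by
      intro a b
      have := congrFun (congrFun hP0 a) b
      simpa [hP, Rm] using this
    have hx' : x 0 ≠ 0 ∨ x 1 ≠ 0 ∨ x 2 ≠ 0 := by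
      by_contra hcon
      push Not at hcon
      apply hx0
      ext i
      fin_cases i
      · exact hcon.1
      · exact hcon.2.1
      · exact hcon.2.2
    rcases hx' with h | h | h
    · obtain ⟨u, v, hu, hv, h1, h2⟩ := exists_two (A 1) (A 2)
      refine ⟨u, v, hu, hv, ?_⟩
      intro i
      fin_cases i
      · have : bil u (A 0) v * x 0 = -(bil u (A 1) v * x 1 + bil u (A 2) v * x 2) := by
          simp only [bil]
          linear_combination u 0 * v 0 * hrel 0 0 + u 0 * v 1 * hrel 0 1 + u 1 * v 0 * hrel 1 0 +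
            u 1 * v 1 * hrel 1 1
        rw [h1, h2] at this
        simp at this
        exact this.resolve_right h
      · exact h1
      · exact h2
    · obtain ⟨u, v, hu, hv, h1, h2⟩ := exists_two (A 0) (A 2)
      refine ⟨u, v, hu, hv, ?_⟩
      intro i
      fin_cases i
      · exact h1
      · have : bil u (A 1) v * x 1 = -(bil u (A 0) v * x 0 + bil u (A 2) v * x 2) := by
          simp only [bil]
          linear_combination u 0 * v 0 * hrel 0 0 + u 0 * v 1 * hrel 0 1 + u 1 * v 0 * hrel 1 0 +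
            u 1 * v 1 * hrel 1 1
        rw [h1, h2] at this
        simp at this
        exact this.resolve_right h
      · exact h2
    · obtain ⟨u, v, hu, hv, h1, h2⟩ := exists_two (A 0) (A 1)
      refine ⟨u, v, hu, hv, ?_⟩
      intro i
      fin_cases i
      · exact h1
      · exact h2
      · have : bil u (A 2) v * x 2 = -(bil u (A 0) v * x 0 + bil u (A 1) v * x 1) := by
          simp only [bil]
          linear_combination u 0 * v 0 * hrel 0 0 + u 0 * v 1 * hrel 0 1 + u 1 * v 0 * hrel 1 0 +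
            u 1 * v 1 * hrel 1 1
        rw [h1, h2] at this
        simp at this
        exact this.resolve_right h
  · -- generic case: adjugate of P
    set N : Matrix (Fin 2) (Fin 2) k := !![P 1 1, -P 0 1; -P 1 0, P 0 0] with hN
    have hN0 : N ≠ 0 := by
      intro h
      apply hP0
      ext a b
      have e00 := congrFun (congrFun h 0) 0
      have e01 := congrFun (congrFun h 0) 1
      have e10 := congrFun (congrFun h 1) 0
      have e11 := congrFun (congrFun h 1) 1
      simp [hN] at e00 e01 e10 e11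
      fin_cases a <;> fin_cases b <;> simp [e00, e01, e10, e11]
    have hNdet : N.det = 0 := by
      rw [Matrix.det_fin_two] at hPdet ⊢
      simp [hN]
      linear_combination hPdet
    obtain ⟨u, v, hu, hv, huv⟩ := rank_one N hN0 hNdet
    refine ⟨u, v, hu, hv, ?_⟩
    intro i
    -- `bil u (A i) v = tr (N * A i)`
    have h00 := huv 0 0
    have h01 := huv 0 1
    have h10 := huv 1 0
    have h11 := huv 1 1
    simp [hN] at h00 h01 h10 h11
    have key : ∀ y : Fin 3 → k, bil u (Rm A y) v = 0 := by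
      intro y
      simp only [bil]
      linear_combination htr y - (Rm A y) 0 0 * h00 - (Rm A y) 1 0 * h01 - (Rm A y) 0 1 * h10 -
        (Rm A y) 1 1 * h11
    have := key (Pi.single i 1)
    have hR : Rm A (Pi.single i 1) = A i := by
      ext a b
      fin_cases i <;> simp [Rm]
    rwa [hR] at this

end H12LinForm
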