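import Mathlib
import Groth.Agent.Lib.Helper12.LinForm2

set_option autoImplicit false
universe u
open MvPolynomial

namespace H12LinForm

variable {k : Type u} [Field k]

theorem forward [IsAlgClosed k] [CharZero k]
    (M : Matrix (Fin 2) (Fin 2) (MvPolynomial (Fin 3) k)) (hM : ∀ a b : Fin 2, (M a b).IsHomogeneous 1)
    (h : ∃ l₁ l₂ : MvPolynomial (Fin 3) k, l₁.IsHomogeneous 1 ∧ l₂.IsHomogeneous 1 ∧ M.det = l₁ * l₂) :
    ∃ g h : GL (Fin 2) k,
      ((MvPolynomial.C : k →+* MvPolynomial (Fin 3) k).mapMatrix g.val * M *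
        (MvPolynomial.C : k →+* MvPolynomial (Fin 3) k).mapMatrix h.val) 0 1 = 0 := by
  obtain ⟨l₁, l₂, h1, h2, hdet⟩ := h
  obtain ⟨c, hc⟩ := exists_coeffs l₁ h1
  obtain ⟨d, hd⟩ := exists_coeffs l₂ h2
  have hA : ∀ a b, ∃ e : Fin 3 → k, M a b = C (e 0) * X 0 + C (e 1) * X 1 + C (e 2) * X 2 :=
    fun a b => exists_coeffs _ (hM a b)
  choose e he using hA
  set A : Fin 3 → Matrix (Fin 2) (Fin 2) k := fun i a b => e a b i with hAdef
  have hdetR : ∀ y : Fin 3 → k, (Rm A y).det =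
      (c 0 * y 0 + c 1 * y 1 + c 2 * y 2) * (d 0 * y 0 + d 1 * y 1 + d 2 * y 2) := by
    intro y
    have h3 := congrArg (eval y) hdet
    rw [Matrix.det_fin_two, he 0 0, he 0 1, he 1 0, he 1 1, hc, hd] at h3
    simp only [map_sub, map_mul, map_add, eval_C, eval_X] at h3
    rw [Matrix.det_fin_two]
    simp only [Rm, hAdef]
    linear_combination h3
  haveI : NeZero (2 : k) := ⟨two_ne_zero⟩
  obtain ⟨u, v, hu, hv, huv⟩ := exists_uv A c d hdetR
  obtain ⟨g, hg⟩ := exists_gl_row u hu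
  obtain ⟨h, hh⟩ := exists_gl_col v hv
  refine ⟨g, h, ?_⟩
  rw [Matrix.mul_apply, Fin.sum_univ_two, Matrix.mul_apply, Matrix.mul_apply, Fin.sum_univ_two,
    Fin.sum_univ_two]
  simp only [RingHom.mapMatrix_apply, Matrix.map_apply, hg, hh]
  rw [he 0 0, he 0 1, he 1 0, he 1 1]
  have e0 := huv 0
  have e1 := huv 1
  have e2 := huv 2
  simp only [bil, hAdef] at e0 e1 e2
  have E0 := congrArg (C : k →+* MvPolynomial (Fin 3) k) e0
  have E1 := congrArg (C : k →+* MvPolynomial (Fin 3) k) e1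
  have E2 := congrArg (C : k →+* MvPolynomial (Fin 3) k) e2
  simp only [map_add, map_mul, map_zero] at E0 E1 E2
  linear_combination (X 0) * E0 + (X 1) * E1 + (X 2) * E2

theorem backward
    (M : Matrix (Fin 2) (Fin 2) (MvPolynomial (Fin 3) k)) (hM : ∀ a b : Fin 2, (M a b).IsHomogeneous 1)
    (h : ∃ g h : GL (Fin 2) k,
      ((MvPolynomial.C : k →+* MvPolynomial (Fin 3) k).mapMatrix g.val * M *
        (MvPolynomial.C : k →+* MvPolynomial (Fin 3) k).mapMatrix h.val) 0 1 = 0) :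
    ∃ l₁ l₂ : MvPolynomial (Fin 3) k, l₁.IsHomogeneous 1 ∧ l₂.IsHomogeneous 1 ∧ M.det = l₁ * l₂ := by
  obtain ⟨g, h, hgh⟩ := h
  set Cm := (MvPolynomial.C : k →+* MvPolynomial (Fin 3) k).mapMatrix (m := Fin 2) with hCm
  set M' := Cm g.val * M * Cm h.val with hM'
  have hhom : ∀ a b, (M' a b).IsHomogeneous 1 := by
    intro a b
    rw [hM', Matrix.mul_apply]
    apply IsHomogeneous.sum
    intro j _
    rw [Matrix.mul_apply, Finset.sum_mul]
    apply IsHomogeneous.sum
    intro i _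
    have h1 : (Cm g.val a i).IsHomogeneous 0 := by
      rw [hCm, RingHom.mapMatrix_apply, Matrix.map_apply]
      exact isHomogeneous_C _ _
    have h2 : (Cm h.val j b).IsHomogeneous 0 := by
      rw [hCm, RingHom.mapMatrix_apply, Matrix.map_apply]
      exact isHomogeneous_C _ _
    have := (h1.mul (hM i j)).mul h2
    simpa using this
  have hdetM' : M'.det = C (g.val.det) * M.det * C (h.val.det) := by
    rw [hM', Matrix.det_mul, Matrix.det_mul, hCm, ← RingHom.map_det, ← RingHom.map_det]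
  have hdet2 : M'.det = M' 0 0 * M' 1 1 := by
    rw [Matrix.det_fin_two, hgh, zero_mul, sub_zero]
  have hg0 : g.val.det ≠ 0 := by
    have := (Matrix.isUnit_iff_isUnit_det _).mp g.isUnit
    exact this.ne_zero
  have hh0 : h.val.det ≠ 0 := by
    have := (Matrix.isUnit_iff_isUnit_det _).mp h.isUnit
    exact this.ne_zero
  refine ⟨C ((g.val.det)⁻¹ * (h.val.det)⁻¹) * M' 0 0, M' 1 1, ?_, hhom 1 1, ?_⟩
  · have := (isHomogeneous_C (Fin 3) ((g.val.det)⁻¹ * (h.val.det)⁻¹)).mul (hhom 0 0)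
    simpa using this
  · rw [mul_assoc, ← hdet2, hdetM']
    rw [← mul_assoc, ← mul_assoc, ← map_mul]
    have : (g.val.det)⁻¹ * (h.val.det)⁻¹ * g.val.det = (h.val.det)⁻¹ := by
      field_simp
    rw [this, mul_comm (C _) M.det, mul_assoc, ← map_mul, inv_mul_cancel₀ hh0, map_one, mul_one]

end H12LinForm
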