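import Mathlib

set_option autoImplicit false
universe u

namespace Groth.Agent.Lib.Helper12.LocNil

theorem nbhd_in_zeroLocus_iff (A : Type u) [CommRing A] (I : Ideal A) (hI : I.FG)
    (p : Ideal A) [p.IsPrime] (hp : I ≤ p) :
    (∃ f : A, f ∉ p ∧ ∀ q : Ideal A, q.IsPrime → f ∉ q → I ≤ q) ↔
      ∃ n : ℕ, 0 < n ∧
        (I ^ n).map (algebraMap A (Localization.AtPrime p)) =
          (I ^ (n + 1)).map (algebraMap A (Localization.AtPrime p)) := by
  classical
  let Ap := Localization.AtPrime p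
  have hbot : ∀ (J : Ideal A) (f : A), f ∉ p → (∀ y ∈ J, f * y = 0) →
      J.map (algebraMap A Ap) = ⊥ := by
    intro J f hf hJ
    rw [eq_bot_iff, Ideal.map_le_iff_le_comap]
    intro y hy
    rw [Ideal.mem_comap, Ideal.mem_bot, IsLocalization.map_eq_zero_iff p.primeCompl]
    exact ⟨⟨f, hf⟩, hJ y hy⟩
  constructor
  · rintro ⟨f, hf, hq⟩
    have hfg : (Ideal.span {f} * I).FG := (Submodule.fg_span_singleton f).mul hI
    have hle : Ideal.span {f} * I ≤ nilradical A := by
      rw [nilradical_eq_sInf]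
      refine le_sInf fun q hq' => ?_
      by_cases hfq : f ∈ q
      · exact Ideal.mul_le_left.trans ((Ideal.span_singleton_le_iff_mem q).2 hfq)
      · exact Ideal.mul_le_right.trans (hq q hq' hfq)
    obtain ⟨n, hn⟩ := hfg.isNilpotent_iff_le_nilradical.2 hle
    have hkill : ∀ m : ℕ, n ≤ m → ∀ y ∈ I ^ m, f ^ m * y = 0 := by
      intro m hm y hy
      have h1 : f ^ m * y ∈ (Ideal.span {f} * I) ^ m := by
        have hmp : (Ideal.span {f} * I) ^ m = Ideal.span {f} ^ m * I ^ m := mul_pow _ _ _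
        rw [hmp]
        have hfm : f ^ m ∈ Ideal.span {f} ^ m :=
          Ideal.pow_mem_pow (Ideal.mem_span_singleton_self f) m
        exact Ideal.mul_mem_mul hfm hy
      have h2 : (Ideal.span {f} * I) ^ m ≤ ⊥ := by
        have h3 : (Ideal.span {f} * I) ^ m ≤ (Ideal.span {f} * I) ^ n := Ideal.pow_le_pow_right hm
        have h4 : (Ideal.span {f} * I) ^ n = ⊥ := hn
        exact h3.trans h4.le
      have h5 : f ^ m * y ∈ (⊥ : Ideal A) := h2 h1
      exact (Ideal.mem_bot).1 h5
    refine ⟨n + 1, Nat.succ_pos _, ?_⟩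
    have hpp : p.IsPrime := inferInstance
    have hf1 : f ^ (n + 1) ∉ p := fun h => hf (hpp.mem_of_pow_mem _ h)
    have hf2 : f ^ (n + 1 + 1) ∉ p := fun h => hf (hpp.mem_of_pow_mem _ h)
    have e1 := hbot (I ^ (n + 1)) (f ^ (n + 1)) hf1 (hkill (n + 1) (Nat.le_succ _))
    have e2 := hbot (I ^ (n + 1 + 1)) (f ^ (n + 1 + 1)) hf2 (hkill (n + 1 + 1) (by omega))
    rw [e1, e2]
  · rintro ⟨n, hn, heq⟩
    -- Nakayama
    have hpow : ((I ^ n).map (algebraMap A Ap)) = ⊥ := by
      have hfgn : ((I ^ n).map (algebraMap A Ap)).FG := (hI.pow).map _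
      have hle : (I ^ n).map (algebraMap A Ap) ≤
          (I.map (algebraMap A Ap)) • ((I ^ n).map (algebraMap A Ap)) := by
        rw [smul_eq_mul, ← Ideal.map_mul, ← pow_succ']
        exact heq.le
      have hjac : I.map (algebraMap A Ap) ≤ Ideal.jacobson ⊥ := by
        refine le_trans ?_ (IsLocalRing.maximalIdeal_le_jacobson _)
        rw [Ideal.map_le_iff_le_comap]
        intro x hx
        rw [Ideal.mem_comap, IsLocalization.AtPrime.to_map_mem_maximal_iff Ap p]
        exact hp hx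
      exact Submodule.eq_bot_of_le_smul_of_le_jacobson_bot _ _ hfgn hle hjac
    -- each generator killed
    obtain ⟨s, hs⟩ := hI.pow (n := n)
    have hgen : ∀ y ∈ s, ∃ t : A, t ∉ p ∧ t * y = 0 := by
      intro y hy
      have hy' : y ∈ I ^ n := by rw [← hs]; exact Ideal.subset_span hy
      have h0 : algebraMap A Ap y = 0 := by
        have : algebraMap A Ap y ∈ (I ^ n).map (algebraMap A Ap) := Ideal.mem_map_of_mem _ hy'
        rw [hpow] at this
        exact this
      obtain ⟨⟨t, ht⟩, htz⟩ := (IsLocalization.map_eq_zero_iff p.primeCompl Ap y).1 h0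
      exact ⟨t, ht, htz⟩
    choose! t ht htz using hgen
    refine ⟨∏ y ∈ s, t y, ?_, ?_⟩
    · intro hmem
      obtain ⟨y, hy, hty⟩ := (‹p.IsPrime›.prod_mem_iff).1 hmem
      exact ht y hy hty
    · intro q hqp hfq x hx
      have hxn : x ^ n ∈ I ^ n := Ideal.pow_mem_pow hx n
      have hkill : ∀ z ∈ I ^ n, (∏ y ∈ s, t y) * z = 0 := by
        intro z hz
        rw [← hs] at hz
        refine Submodule.span_induction ?_ ?_ ?_ ?_ hz
        · intro y hy
          obtain ⟨c, hc⟩ := Finset.dvd_prod_of_mem t hy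
          rw [hc, mul_comm (t y) c, mul_assoc, htz y hy, mul_zero]
        · rw [mul_zero]
        · intro a b _ _ ha hb
          rw [mul_add, ha, hb, add_zero]
        · intro a b _ hb
          rw [smul_eq_mul, mul_left_comm, hb, mul_zero]
      have h1 : (∏ y ∈ s, t y) * x ^ n ∈ q := by rw [hkill _ hxn]; exact q.zero_mem
      rcases hqp.mem_or_mem h1 with h | h
      · exact absurd h hfq
      · exact hqp.mem_of_pow_mem _ h

end Groth.Agent.Lib.Helper12.LocNil
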