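import Groth.Agent.Lib.Helper12.BL8
import Groth.Agent.Lib.Lead.Milnor

/-!
# Milnor squares, part 1: general lemmas on base change and flatness
-/

universe u

open TensorProduct Function

namespace Groth.Agent.Lib.Helper12.Mil

section BC

variable {R S : Type*} [CommRing R] [CommRing S] [Algebra R S]

/-- If `S ⊗ X` is flat over `S`, then `- ⊗_R X` preserves injective `S`-linear maps of
`S`-modules. -/
theorem rTensor_injective_of_flat_baseChange (X : Type*) [AddCommGroup X] [Module R X]
    [Module.Flat S (S ⊗[R] X)]
    {Y₁ Y₂ : Type*} [AddCommGroup Y₁] [Module R Y₁] [Module S Y₁] [IsScalarTower R S Y₁]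
    [AddCommGroup Y₂] [Module R Y₂] [Module S Y₂] [IsScalarTower R S Y₂]
    (j : Y₁ →ₗ[S] Y₂) (hj : Injective j) :
    Injective (LinearMap.rTensor X (j.restrictScalars R)) := by
  let e₁ := AlgebraTensorModule.cancelBaseChange R S S Y₁ X
  let e₂ := AlgebraTensorModule.cancelBaseChange R S S Y₂ X
  have h1 : Injective (LinearMap.rTensor (S ⊗[R] X) j) :=
    Module.Flat.rTensor_preserves_injective_linearMap j hj
  have h2 : ∀ z, LinearMap.rTensor X (j.restrictScalars R) (e₁ z) =
      e₂ (LinearMap.rTensor (S ⊗[R] X) j z) := by
    intro z
    induction z using TensorProduct.induction_on with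
    | zero => simp
    | add x y hx hy => simp only [map_add, hx, hy]
    | tmul y w =>
      induction w using TensorProduct.induction_on with
      | zero => simp
      | add x y hx hy => simp only [TensorProduct.tmul_add, map_add, hx, hy]
      | tmul s x => simp [e₁, e₂]
  intro a b hab
  obtain ⟨a', rfl⟩ := e₁.surjective a
  obtain ⟨b', rfl⟩ := e₁.surjective b
  rw [h2, h2] at hab
  exact congrArg _ (h1 (e₂.injective hab))

variable (S) in
/-- If `S ⊗ X` is flat over `S`, `0 → A → B → X → 0` is exact and `S ⊗ A → S ⊗ B` is injective,
then `Y ⊗ A → Y ⊗ B` is injective for every `S`-module `Y`. -/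
theorem lTensor_injective_of_flat_baseChange' {A B X : Type*} [AddCommGroup A] [Module R A]
    [AddCommGroup B] [Module R B] [AddCommGroup X] [Module R X]
    (Y : Type*) [AddCommGroup Y] [Module R Y] [Module S Y] [IsScalarTower R S Y]
    [Module.Flat S (S ⊗[R] X)]
    (g : A →ₗ[R] B) (q : B →ₗ[R] X) (hgS : Injective (g.baseChange S)) (hgq : Exact g q)
    (hq : Surjective q) :
    Injective (LinearMap.lTensor Y g) := by
  have hqS : Surjective (q.baseChange S) := by
    rw [LinearMap.baseChange_eq_ltensor]
    exact LinearMap.lTensor_surjective S hq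
  have hex : Exact (g.baseChange S) (q.baseChange S) := by
    rw [LinearMap.baseChange_eq_ltensor, LinearMap.baseChange_eq_ltensor]
    exact lTensor_exact S hgq hq
  have h1 : Injective ((g.baseChange S).lTensor Y) :=
    LinearMap.lTensor_injective_of_exact_of_flat (q.baseChange S) hqS (g.baseChange S) hgS hex Y
  let eA := AlgebraTensorModule.cancelBaseChange R S S Y A
  let eB := AlgebraTensorModule.cancelBaseChange R S S Y B
  have h2 : ∀ x, LinearMap.lTensor Y g (eA x) = eB ((g.baseChange S).lTensor Y x) := by
    intro x
    induction x using TensorProduct.induction_on with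
    | zero => simp
    | add x y hx hy => simp only [map_add, hx, hy]
    | tmul a y =>
      induction y using TensorProduct.induction_on with
      | zero => simp
      | add x y hx hy => simp only [TensorProduct.tmul_add, map_add, hx, hy]
      | tmul s m => simp [eA, eB]
  intro a b hab
  obtain ⟨a', rfl⟩ := eA.surjective a
  obtain ⟨b', rfl⟩ := eA.surjective b
  rw [h2, h2] at hab
  exact congrArg _ (h1 (eB.injective hab))

/-- A module over `R` killed by the kernel of a surjection `R → S` is an `S`-module. -/
theorem exists_module_of_surjective (hs : Surjective (algebraMap R S))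
    (Y : Type*) [AddCommGroup Y] [Module R Y]
    (hY : ∀ r : R, algebraMap R S r = 0 → ∀ y : Y, r • y = 0) :
    ∃ (_ : Module S Y), IsScalarTower R S Y := by
  let σ : S → R := fun s => (hs s).choose
  have hσ : ∀ s, algebraMap R S (σ s) = s := fun s => (hs s).choose_spec
  have key : ∀ r r' : R, algebraMap R S r = algebraMap R S r' → ∀ y : Y, r • y = r' • y := by
    intro r r' h y
    have := hY (r - r') (by rw [map_sub, h, sub_self]) y
    rwa [sub_smul, sub_eq_zero] at this
  let inst : Module S Y :=
    { smul := fun s y => σ s • y
      one_smul := fun y => by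
        change σ 1 • y = y
        rw [key (σ 1) 1 (by rw [hσ, map_one]), one_smul]
      mul_smul := fun s s' y => by
        change σ (s * s') • y = σ s • σ s' • y
        rw [← mul_smul]
        exact key _ _ (by rw [hσ, map_mul, hσ, hσ]) y
      smul_zero := fun s => smul_zero (σ s)
      smul_add := fun s y y' => smul_add (σ s) y y'
      add_smul := fun s s' y => by
        change σ (s + s') • y = σ s • y + σ s' • y
        rw [← add_smul]
        exact key _ _ (by rw [hσ, map_add, hσ, hσ]) y
      zero_smul := fun y => by
        change σ 0 • y = 0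
        rw [key (σ 0) 0 (by rw [hσ, map_zero]), zero_smul] }
  refine ⟨inst, IsScalarTower.of_algebraMap_smul fun r y => ?_⟩
  change σ (algebraMap R S r) • y = r • y
  exact key _ _ (hσ _) y

end BC

end Groth.Agent.Lib.Helper12.Mil
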