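import Groth.Agent.Lib.Helper12.Mil1

/-!
# Milnor squares, part 2: descent of flatness
-/

set_option linter.unusedSectionVars false

universe u

open TensorProduct Function

namespace Groth.Agent.Lib.Helper12.Mil

open Groth.Agent.Lib.Helper26.FibreSquareKer

variable {B' B A' A : Type u} [CommRing B'] [CommRing B] [CommRing A'] [CommRing A]
  [Algebra B' B] [Algebra B' A'] [Algebra B A] [Algebra A' A] [Algebra B' A]
  [IsScalarTower B' B A] [IsScalarTower B' A' A]

section Facts

/-- elements of `ker (B' → B)` map into `ker (A' → A)` -/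
theorem algebraMap_mem_ker (j : B')
    (hj : algebraMap B' B j = 0) :
    algebraMap A' A (algebraMap B' A' j) = 0 := by
  rw [← IsScalarTower.algebraMap_apply B' A' A, IsScalarTower.algebraMap_apply B' B A, hj, map_zero]

omit [IsScalarTower B' B A] [IsScalarTower B' A' A] in
/-- elements of `ker (A' → A)` lift uniquely to `ker (B' → B)` -/
theorem exists_lift_of_mem_ker (hsq : EtMil.IsFibreSquare B' B A' A) (a' : A')
    (ha' : algebraMap A' A a' = 0) :
    ∃ j : B', algebraMap B' B j = 0 ∧ algebraMap B' A' j = a' := by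
  obtain ⟨j, hj, -⟩ := hsq.2 0 a' (by rw [map_zero, ha'])
  exact ⟨j, hj⟩

end Facts

section Step1

variable (hsq : EtMil.IsFibreSquare B' B A' A) (L' : Type u) [AddCommGroup L'] [Module B' L']

include hsq in
/-- `I ⊗ L' → L'` is injective, `I = ker (B' → B)`, when `A' ⊗ L'` is flat over `A'`. -/
theorem rTensor_ker_subtype_injective [Module.Flat A' (A' ⊗[B'] L')] :
    Injective (LinearMap.rTensor L' (RingHom.ker (algebraMap B' B)).subtype) := by
  let I : Ideal B' := RingHom.ker (algebraMap B' B)
  let J : Ideal A' := RingHom.ker (algebraMap A' A)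
  let ι : I →ₗ[B'] J :=
    { toFun := fun j => ⟨algebraMap B' A' j, algebraMap_mem_ker (j : B') j.2⟩
      map_add' := fun a b => Subtype.ext (by simp)
      map_smul' := fun a b => Subtype.ext (by simp [Algebra.smul_def]) }
  have hι : Bijective ι := by
    constructor
    · intro x y hxy
      apply Subtype.ext
      apply ext_of_fibreSquare hsq
      · rw [show algebraMap B' B x = 0 from x.2, show algebraMap B' B y = 0 from y.2]
      · exact congrArg Subtype.val hxy
    · rintro ⟨a', ha'⟩
      obtain ⟨j, hj1, hj2⟩ := exists_lift_of_mem_ker hsq a' ha'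
      exact ⟨⟨j, hj1⟩, Subtype.ext hj2⟩
  have h1 : Injective (LinearMap.rTensor L' ((Submodule.subtype J).restrictScalars B')) :=
    rTensor_injective_of_flat_baseChange (R := B') (S := A') L' (Submodule.subtype J)
      (Submodule.injective_subtype J)
  have h2 : Injective (LinearMap.rTensor L' ι) := by
    have : LinearMap.rTensor L' ι = (LinearEquiv.rTensor L' (LinearEquiv.ofBijective ι hι)) := by
      ext x l
      rfl
    rw [this]
    exact LinearEquiv.injective _
  have h3 : Injective (LinearMap.rTensor L'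
      ((Algebra.linearMap B' A') ∘ₗ I.subtype)) := by
    have e : (Algebra.linearMap B' A') ∘ₗ I.subtype =
        (Submodule.subtype J).restrictScalars B' ∘ₗ ι := by
      ext r
      rfl
    rw [e, LinearMap.rTensor_comp]
    exact h1.comp h2
  rw [LinearMap.rTensor_comp] at h3
  exact Injective.of_comp h3

end Step1

section Step2

variable (hsq : EtMil.IsFibreSquare B' B A' A) (L' : Type u) [AddCommGroup L'] [Module B' L']
variable {Kp P : Type u} [AddCommGroup Kp] [Module B' Kp] [AddCommGroup P] [Module B' P]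
  (g : Kp →ₗ[B'] P) (q : P →ₗ[B'] L') (hg : Injective g) (hgq : Exact g q) (hq : Surjective q)

include hsq hg hgq hq in
/-- `Tor₁(B, L') = 0`, computed with a presentation of `L'`. -/
theorem baseChange_injective_of_presentation [Module.Flat A' (A' ⊗[B'] L')] :
    Injective (g.baseChange B) := by
  let I : Ideal B' := RingHom.ker (algebraMap B' B)
  have hip : Exact I.subtype (Algebra.linearMap B' B) := by
    intro x
    constructor
    · intro hx
      exact ⟨⟨x, hx⟩, rfl⟩
    · rintro ⟨y, rfl⟩
      exact y.2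
  have h : Injective (LinearMap.lTensor L' I.subtype) :=
    (LinearMap.lTensor_inj_iff_rTensor_inj L' I.subtype).mpr
      (rTensor_ker_subtype_injective hsq L')
  have h2 : Injective (LinearMap.rTensor B g) :=
    BL.rTensor_injective_of_lTensor_injective I.subtype (Algebra.linearMap B' B) hip
      (surjective_algebraMap hsq) g q hg hgq hq h
  rw [LinearMap.baseChange_eq_ltensor]
  exact (LinearMap.lTensor_inj_iff_rTensor_inj B g).mpr h2

include hsq hg hgq hq in
/-- `Tor₁(C, L') = 0` for modules `C` killed by `ker (B' → B)`. -/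
theorem lTensor_injective_of_killed [Module.Flat B (B ⊗[B'] L')] [Module.Flat A' (A' ⊗[B'] L')]
    (C : Type u) [AddCommGroup C] [Module B' C]
    (hC : ∀ j : B', algebraMap B' B j = 0 → ∀ c : C, j • c = 0) :
    Injective (LinearMap.lTensor C g) := by
  obtain ⟨_, _⟩ := exists_module_of_surjective (surjective_algebraMap hsq) C hC
  exact lTensor_injective_of_flat_baseChange' B C g q
    (baseChange_injective_of_presentation hsq L' g q hg hgq hq) hgq hq

end Step2

section Step3

variable (hsq : EtMil.IsFibreSquare B' B A' A) (L' : Type u) [AddCommGroup L'] [Module B' L']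

/-- the components of `(β × γ) ⊗ L'` -/
theorem prodLeft_rTensor_prod {U V₁ V₂ : Type*} [AddCommGroup U] [Module B' U]
    [AddCommGroup V₁] [Module B' V₁] [AddCommGroup V₂] [Module B' V₂]
    (β : U →ₗ[B'] V₁) (γ : U →ₗ[B'] V₂) (w : U ⊗[B'] L') :
    TensorProduct.prodLeft B' B' V₁ V₂ L' (LinearMap.rTensor L' (β.prod γ) w) =
      (LinearMap.rTensor L' β w, LinearMap.rTensor L' γ w) := by
  induction w using TensorProduct.induction_on with
  | zero =>
    simp only [map_zero]
    rfl
  | add x y hx hy => simp only [map_add, hx, hy, Prod.mk_add_mk]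
  | tmul a l => simp

include hsq in
/-- key computation: the cokernel of `𝔞 → 𝔞B × 𝔞A'` is killed by `ker (B' → B)` -/
theorem exists_mem_of_mem_map (𝔞 : Ideal B') (y : A')
    (hy : y ∈ Ideal.map (algebraMap B' A') 𝔞) (j : B') (hj : algebraMap B' B j = 0) :
    ∃ z ∈ 𝔞, algebraMap B' B z = 0 ∧ algebraMap B' A' z = algebraMap B' A' j * y := by
  induction hy using Submodule.span_induction generalizing j with
  | mem y hy =>
    obtain ⟨a, ha, rfl⟩ := hy
    exact ⟨j * a, Ideal.mul_mem_left _ _ ha, by rw [map_mul, hj, zero_mul], map_mul _ _ _⟩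
  | zero => exact ⟨0, zero_mem _, map_zero _, by rw [map_zero, mul_zero]⟩
  | add y₁ y₂ _ _ h₁ h₂ =>
    obtain ⟨z₁, hz₁, e₁, e₁'⟩ := h₁ j hj
    obtain ⟨z₂, hz₂, e₂, e₂'⟩ := h₂ j hj
    exact ⟨z₁ + z₂, add_mem hz₁ hz₂, by rw [map_add, e₁, e₂, add_zero],
      by rw [map_add, e₁', e₂', mul_add]⟩
  | smul a' y _ h =>
    have h0 : algebraMap A' A (algebraMap B' A' j * a') = 0 := by
      rw [map_mul, algebraMap_mem_ker j hj, zero_mul]
    obtain ⟨j', hj', hj''⟩ := exists_lift_of_mem_ker hsq _ h0
    obtain ⟨z, hz, e, e'⟩ := h j' hj'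
    exact ⟨z, hz, e, by rw [e', hj'', smul_eq_mul, mul_assoc]⟩

include hsq in
/-- **Flatness descends along a Milnor square.** -/
theorem flat_of_fibreSquare [Module.Flat B (B ⊗[B'] L')] [Module.Flat A' (A' ⊗[B'] L')] :
    Module.Flat B' L' := by
  obtain ⟨P, _, _, _, q, hq⟩ := BL.exists_free_presentation (R := B') L'
  have hgq : Exact (LinearMap.ker q).subtype q := LinearMap.exact_subtype_ker_map q
  have hg : Injective (LinearMap.ker q).subtype := Submodule.injective_subtype _
  rw [Module.Flat.iff_rTensor_injective']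
  intro 𝔞
  rw [injective_iff_map_eq_zero]
  intro w hw
  let 𝔟 : Ideal B := Ideal.map (algebraMap B' B) 𝔞
  let 𝔠 : Ideal A' := Ideal.map (algebraMap B' A') 𝔞
  let β : 𝔞 →ₗ[B'] 𝔟 :=
    { toFun := fun r => ⟨algebraMap B' B r, Ideal.mem_map_of_mem _ r.2⟩
      map_add' := fun a b => Subtype.ext (by simp)
      map_smul' := fun a b => Subtype.ext (by simp [Algebra.smul_def]) }
  let γ : 𝔞 →ₗ[B'] 𝔠 :=
    { toFun := fun r => ⟨algebraMap B' A' r, Ideal.mem_map_of_mem _ r.2⟩
      map_add' := fun a b => Subtype.ext (by simp)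
      map_smul' := fun a b => Subtype.ext (by simp [Algebra.smul_def]) }
  -- the two components vanish
  have hβ : LinearMap.rTensor L' β w = 0 := by
    have hinj : Injective (LinearMap.rTensor L' ((Submodule.subtype 𝔟).restrictScalars B')) :=
      rTensor_injective_of_flat_baseChange (R := B') (S := B) L' (Submodule.subtype 𝔟)
        (Submodule.injective_subtype 𝔟)
    apply hinj
    rw [map_zero, ← LinearMap.rTensor_comp_apply]
    have e : (Submodule.subtype 𝔟).restrictScalars B' ∘ₗ β =
        Algebra.linearMap B' B ∘ₗ 𝔞.subtype := by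
      ext r
      rfl
    rw [e, LinearMap.rTensor_comp_apply, hw, map_zero]
  have hγ : LinearMap.rTensor L' γ w = 0 := by
    have hinj : Injective (LinearMap.rTensor L' ((Submodule.subtype 𝔠).restrictScalars B')) :=
      rTensor_injective_of_flat_baseChange (R := B') (S := A') L' (Submodule.subtype 𝔠)
        (Submodule.injective_subtype 𝔠)
    apply hinj
    rw [map_zero, ← LinearMap.rTensor_comp_apply]
    have e : (Submodule.subtype 𝔠).restrictScalars B' ∘ₗ γ =
        Algebra.linearMap B' A' ∘ₗ 𝔞.subtype := by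
      ext r
      rfl
    rw [e, LinearMap.rTensor_comp_apply, hw, map_zero]
  -- the map `u = (β, γ)` and its cokernel
  let u : 𝔞 →ₗ[B'] 𝔟 × 𝔠 := β.prod γ
  have hu : Injective u := by
    intro x y hxy
    apply Subtype.ext
    apply ext_of_fibreSquare hsq
    · exact congrArg (fun p : 𝔟 × 𝔠 => (p.1 : B)) hxy
    · exact congrArg (fun p : 𝔟 × 𝔠 => (p.2 : A')) hxy
  have hC : ∀ j : B', algebraMap B' B j = 0 →
      ∀ c : (𝔟 × 𝔠) ⧸ LinearMap.range u, j • c = 0 := by
    intro j hj c
    obtain ⟨⟨x, y⟩, rfl⟩ := Submodule.Quotient.mk_surjective _ c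
    rw [← Submodule.Quotient.mk_smul, Submodule.Quotient.mk_eq_zero]
    obtain ⟨z, hz, e, e'⟩ := exists_mem_of_mem_map hsq 𝔞 (y : A') y.2 j hj
    refine ⟨⟨z, hz⟩, Prod.ext (Subtype.ext ?_) (Subtype.ext ?_)⟩
    · change algebraMap B' B z = ((j • x : 𝔟) : B)
      rw [e]
      change 0 = j • (x : B)
      rw [Algebra.smul_def, hj, zero_mul]
    · change algebraMap B' A' z = ((j • y : 𝔠) : A')
      rw [e']
      change _ = j • (y : A')
      rw [Algebra.smul_def]
  have hV := lTensor_injective_of_killed hsq L' (LinearMap.ker q).subtype q hg hgq hq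
    ((𝔟 × 𝔠) ⧸ LinearMap.range u) hC
  have htop : Injective (LinearMap.rTensor L' u) :=
    BL.rTensor_injective_of_lTensor_injective (LinearMap.ker q).subtype q hgq hq u
      (LinearMap.range u).mkQ hu (LinearMap.exact_map_mkQ_range u)
      (Submodule.mkQ_surjective _) hV
  apply htop
  rw [map_zero]
  apply (TensorProduct.prodLeft B' B' 𝔟 𝔠 L').injective
  rw [prodLeft_rTensor_prod, hβ, hγ, map_zero]
  rfl

end Step3

end Groth.Agent.Lib.Helper12.Mil
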