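import Groth.Agent.Lib.Helper12.Mil2
import Groth.Agent.Lib.Helper12.BL12

/-!
# Milnor squares, part 3: descent of finite presentation for flat modules
-/

set_option linter.unusedSectionVars false

universe u

open TensorProduct Function

namespace Groth.Agent.Lib.Helper12.Mil

variable {B' B A' A : Type u} [CommRing B'] [CommRing B] [CommRing A'] [CommRing A]
  [Algebra B' B] [Algebra B' A'] [Algebra B A] [Algebra A' A] [Algebra B' A]
  [IsScalarTower B' B A] [IsScalarTower B' A' A]

/-- Finite presentation of flat modules descends along a Milnor square. -/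
theorem finitePresentation_of_fibreSquare (hsq : EtMil.IsFibreSquare B' B A' A)
    (L' : Type u) [AddCommGroup L'] [Module B' L']
    [Module.Flat B (B ⊗[B'] L')] [Module.FinitePresentation B (B ⊗[B'] L')]
    [Module.Flat A' (A' ⊗[B'] L')] [Module.FinitePresentation A' (A' ⊗[B'] L')] :
    Module.FinitePresentation B' L' := by
  have hflat : Module.Flat B' L' := flat_of_fibreSquare hsq L'
  have hfin : Module.Finite B' L' := Groth.Agent.Lib.Lead.Milnor.finite_of_baseChange hsq L'
  obtain ⟨P, _, _, _, _, p, hpp⟩ := BL.exists_finite_free_presentation (R := B') L'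
  have h1 : Module.Finite B (B ⊗[B'] LinearMap.ker p) :=
    BL.finite_baseChange_ker B p hpp
      (LinearMap.lTensor_injective_of_exact_of_flat p hpp (LinearMap.ker p).subtype
        (Submodule.injective_subtype _) (LinearMap.exact_subtype_ker_map p) B)
  have h2 : Module.Finite A' (A' ⊗[B'] LinearMap.ker p) :=
    BL.finite_baseChange_ker A' p hpp
      (LinearMap.lTensor_injective_of_exact_of_flat p hpp (LinearMap.ker p).subtype
        (Submodule.injective_subtype _) (LinearMap.exact_subtype_ker_map p) A')
  have h3 : Module.Finite B' (LinearMap.ker p) :=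
    Groth.Agent.Lib.Lead.Milnor.finite_of_baseChange hsq _
  exact Module.finitePresentation_of_free_of_surjective p hpp (Module.Finite.iff_fg.mp h3)

end Groth.Agent.Lib.Helper12.Mil
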