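import Groth.Agent.Lib.Helper12.Mil3

/-!
# Milnor squares, part 4: base change of the glued module
-/

set_option linter.unusedSectionVars false

universe u

open TensorProduct Function

namespace Groth.Agent.Lib.Helper12.Mil

open Groth.Agent.Lib.Helper26.FibreSquareKer

variable {B' B A' A : Type u} [CommRing B'] [CommRing B] [CommRing A'] [CommRing A]
  [Algebra B' B] [Algebra B' A'] [Algebra B A] [Algebra A' A] [Algebra B' A]
  [IsScalarTower B' B A] [IsScalarTower B' A' A]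
  {N M' : Type u} [AddCommGroup N] [Module B N] [Module B' N] [IsScalarTower B' B N]
  [AddCommGroup M'] [Module A' M'] [Module B' M'] [IsScalarTower B' A' M']
  (φ : A ⊗[B] N ≃ₗ[A] A ⊗[A'] M')

lemma mem_glue (x : N × M') :
    x ∈ EtMil.glue B' φ ↔ φ ((1 : A) ⊗ₜ[B] x.1) = (1 : A) ⊗ₜ[A'] x.2 := Iff.rfl

section Basic

variable (hsq : EtMil.IsFibreSquare B' B A' A)

include hsq in
/-- the first projection of the glued module is surjective -/
theorem exists_snd (n : N) : ∃ m' : M', (n, m') ∈ EtMil.glue B' φ := by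
  obtain ⟨m', hm'⟩ := TensorProduct.mk_surjective A' M' A hsq.1 (φ ((1 : A) ⊗ₜ[B] n))
  exact ⟨m', hm'.symm⟩

/-- `1 ⊗ z = 0` in `S ⊗ M` for `z ∈ ker (R → S) • M` -/
theorem one_tmul_eq_zero_of_mem {R S : Type*} [CommRing R] [CommRing S] [Algebra R S]
    {M : Type*} [AddCommGroup M] [Module R M] (z : M)
    (hz : z ∈ (RingHom.ker (algebraMap R S)) • (⊤ : Submodule R M)) :
    (1 : S) ⊗ₜ[R] z = 0 := by
  induction hz using Submodule.smul_induction_on' with
  | smul a ha m _ =>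
    rw [← TensorProduct.smul_tmul, Algebra.smul_def, show algebraMap R S a = 0 from ha,
      zero_mul, TensorProduct.zero_tmul]
  | add x _ y _ hx hy => rw [TensorProduct.tmul_add, hx, hy, add_zero]

/-- `0 × 𝔦 M'` lies in the glued module -/
theorem zero_mem_glue (z : M')
    (hz : z ∈ (RingHom.ker (algebraMap A' A)) • (⊤ : Submodule A' M')) :
    ((0 : N), z) ∈ EtMil.glue B' φ := by
  rw [mem_glue]
  change φ ((1 : A) ⊗ₜ[B] (0 : N)) = (1 : A) ⊗ₜ[A'] z
  rw [TensorProduct.tmul_zero, map_zero, one_tmul_eq_zero_of_mem z hz]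

include hsq in
/-- the kernel of the first projection is `0 × 𝔦 M'` -/
theorem mem_of_zero_mem_glue (m' : M') (h : ((0 : N), m') ∈ EtMil.glue B' φ) :
    m' ∈ (RingHom.ker (algebraMap A' A)) • (⊤ : Submodule A' M') := by
  rw [mem_glue] at h
  change φ ((1 : A) ⊗ₜ[B] (0 : N)) = (1 : A) ⊗ₜ[A'] m' at h
  rw [TensorProduct.tmul_zero, map_zero] at h
  exact mem_smul_top_of_tmul_eq_zero hsq.1 m' h.symm

include hsq in
/-- `M'` is generated over `A'` by the second coordinates of the glued module -/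
theorem span_snd_eq_top :
    Submodule.span A' {m' : M' | ∃ n : N, (n, m') ∈ EtMil.glue B' φ} = ⊤ := by
  set W := Submodule.span A' {m' : M' | ∃ n : N, (n, m') ∈ EtMil.glue B' φ} with hW
  have key : ∀ y : A ⊗[B] N, ∃ w ∈ W, φ y = (1 : A) ⊗ₜ[A'] w := by
    intro y
    induction y using TensorProduct.induction_on with
    | zero => exact ⟨0, zero_mem _, by rw [map_zero, TensorProduct.tmul_zero]⟩
    | add x y hx hy =>
      obtain ⟨w₁, hw₁, e₁⟩ := hx
      obtain ⟨w₂, hw₂, e₂⟩ := hy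
      exact ⟨w₁ + w₂, add_mem hw₁ hw₂, by rw [map_add, e₁, e₂, TensorProduct.tmul_add]⟩
    | tmul a n =>
      obtain ⟨m', hm'⟩ := exists_snd φ hsq n
      obtain ⟨a', rfl⟩ := hsq.1 a
      refine ⟨a' • m', Submodule.smul_mem _ _ (Submodule.subset_span ⟨n, hm'⟩), ?_⟩
      have e : (algebraMap A' A a') ⊗ₜ[B] n = (algebraMap A' A a') • ((1 : A) ⊗ₜ[B] n) := by
        rw [TensorProduct.smul_tmul', smul_eq_mul, mul_one]
      rw [e, map_smul, (mem_glue φ _).mp hm', TensorProduct.smul_tmul', smul_eq_mul, mul_one,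
        ← TensorProduct.smul_tmul, Algebra.smul_def, mul_one]
  rw [eq_top_iff]
  intro m' _
  obtain ⟨w, hw, e⟩ := key (φ.symm ((1 : A) ⊗ₜ[A'] m'))
  rw [LinearEquiv.apply_symm_apply] at e
  have h0 : (1 : A) ⊗ₜ[A'] (m' - w) = 0 := by rw [TensorProduct.tmul_sub, e, sub_self]
  have h1 := mem_smul_top_of_tmul_eq_zero hsq.1 (m' - w) h0
  have h2 : m' - w ∈ W := Submodule.subset_span ⟨0, zero_mem_glue φ _ h1⟩
  have : m' = (m' - w) + w := by abel
  rw [this]
  exact add_mem h2 hw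

end Basic

section First

variable (hsq : EtMil.IsFibreSquare B' B A' A)

include hsq in
theorem fst_surjective : Surjective (LinearMap.liftBaseChange B (EtMil.glueFst B' φ)) := by
  intro n
  obtain ⟨m', h⟩ := exists_snd φ hsq n
  refine ⟨(1 : B) ⊗ₜ[B'] ⟨(n, m'), h⟩, ?_⟩
  rw [LinearMap.liftBaseChange_tmul, one_smul]
  rfl

include hsq in
/-- elements `(0, ι m')` of the glued module lie in `I • N'` -/
theorem zero_smul_pair_mem (m'₀ : M') (ι : A') (hι : ι ∈ RingHom.ker (algebraMap A' A))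
    (h : ((0 : N), ι • m'₀) ∈ EtMil.glue B' φ) :
    (⟨((0 : N), ι • m'₀), h⟩ : EtMil.glue B' φ) ∈
      (RingHom.ker (algebraMap B' B)) • (⊤ : Submodule B' (EtMil.glue B' φ)) := by
  have hm : m'₀ ∈ Submodule.span A' {m' : M' | ∃ n : N, (n, m') ∈ EtMil.glue B' φ} := by
    rw [span_snd_eq_top φ hsq]
    trivial
  induction hm using Submodule.span_induction generalizing ι with
  | mem x hx =>
    obtain ⟨n₀, h₀⟩ := hx
    obtain ⟨j, hj1, hj2⟩ := exists_lift_of_mem_ker hsq ι hι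
    have e : (⟨((0 : N), ι • x), h⟩ : EtMil.glue B' φ) = j • ⟨(n₀, x), h₀⟩ := by
      apply Subtype.ext
      apply Prod.ext
      · change (0 : N) = j • n₀
        rw [← algebraMap_smul B j n₀, hj1, zero_smul]
      · change ι • x = j • x
        rw [← algebraMap_smul A' j x, hj2]
    rw [e]
    exact Submodule.smul_mem_smul hj1 Submodule.mem_top
  | zero =>
    have e : (⟨((0 : N), ι • (0 : M')), h⟩ : EtMil.glue B' φ) = 0 := by
      apply Subtype.ext
      apply Prod.ext
      · rfl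
      · exact smul_zero ι
    rw [e]
    exact zero_mem _
  | add x y _ _ hx hy =>
    have h1 : ((0 : N), ι • x) ∈ EtMil.glue B' φ :=
      zero_mem_glue φ _ (Submodule.smul_mem_smul hι Submodule.mem_top)
    have h2 : ((0 : N), ι • y) ∈ EtMil.glue B' φ :=
      zero_mem_glue φ _ (Submodule.smul_mem_smul hι Submodule.mem_top)
    have e : (⟨((0 : N), ι • (x + y)), h⟩ : EtMil.glue B' φ) =
        ⟨((0 : N), ι • x), h1⟩ + ⟨((0 : N), ι • y), h2⟩ := by
      apply Subtype.ext
      apply Prod.ext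
      · exact (add_zero (0 : N)).symm
      · exact smul_add ι x y
    rw [e]
    exact add_mem (hx ι hι h1) (hy ι hι h2)
  | smul a' x _ hx =>
    have hι' : ι * a' ∈ RingHom.ker (algebraMap A' A) := Ideal.mul_mem_right _ _ hι
    have h1 : ((0 : N), (ι * a') • x) ∈ EtMil.glue B' φ :=
      zero_mem_glue φ _ (Submodule.smul_mem_smul hι' Submodule.mem_top)
    have e : (⟨((0 : N), ι • a' • x), h⟩ : EtMil.glue B' φ) = ⟨((0 : N), (ι * a') • x), h1⟩ := by
      apply Subtype.ext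
      apply Prod.ext
      · rfl
      · exact (mul_smul ι a' x).symm
    rw [e]
    exact hx (ι * a') hι' h1

include hsq in
/-- `0 × 𝔦 M' ⊆ I • N'` -/
theorem zero_pair_mem_smul_top (z : M')
    (hz : z ∈ (RingHom.ker (algebraMap A' A)) • (⊤ : Submodule A' M')) :
    (⟨((0 : N), z), zero_mem_glue φ z hz⟩ : EtMil.glue B' φ) ∈
      (RingHom.ker (algebraMap B' B)) • (⊤ : Submodule B' (EtMil.glue B' φ)) := by
  induction hz using Submodule.smul_induction_on' with
  | smul ι hι m'₀ _ => exact zero_smul_pair_mem φ hsq m'₀ ι hι _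
  | add x hx y hy h1 h2 =>
    have e : (⟨((0 : N), x + y), zero_mem_glue φ (x + y) (add_mem hx hy)⟩ : EtMil.glue B' φ) =
        ⟨((0 : N), x), zero_mem_glue φ x hx⟩ + ⟨((0 : N), y), zero_mem_glue φ y hy⟩ := by
      apply Subtype.ext
      apply Prod.ext
      · exact (add_zero (0 : N)).symm
      · rfl
    rw [e]
    exact add_mem h1 h2

include hsq in
theorem fst_injective : Injective (LinearMap.liftBaseChange B (EtMil.glueFst B' φ)) := by
  rw [injective_iff_map_eq_zero]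
  intro x hx
  obtain ⟨ν, rfl⟩ := TensorProduct.mk_surjective B' (EtMil.glue B' φ) B
    (surjective_algebraMap hsq) x
  rw [TensorProduct.mk_apply, LinearMap.liftBaseChange_tmul, one_smul] at hx
  obtain ⟨⟨n, m'⟩, hν⟩ := ν
  change n = 0 at hx
  subst hx
  have hz := mem_of_zero_mem_glue φ hsq m' hν
  rw [TensorProduct.mk_apply]
  exact one_tmul_eq_zero_of_mem _ (zero_pair_mem_smul_top φ hsq m' hz)

end First

section Second

variable (hsq : EtMil.IsFibreSquare B' B A' A)

include hsq in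
theorem snd_surjective : Surjective (LinearMap.liftBaseChange A' (EtMil.glueSnd B' φ)) := by
  rw [← LinearMap.range_eq_top, eq_top_iff, ← span_snd_eq_top φ hsq, Submodule.span_le]
  rintro m' ⟨n, h⟩
  refine ⟨(1 : A') ⊗ₜ[B'] ⟨(n, m'), h⟩, ?_⟩
  rw [LinearMap.liftBaseChange_tmul, one_smul]
  rfl

/-- the equivalence `B ⊗ N' ≃ N` -/
noncomputable def fstEquiv : B ⊗[B'] (EtMil.glue B' φ) ≃ₗ[B] N :=
  LinearEquiv.ofBijective (LinearMap.liftBaseChange B (EtMil.glueFst B' φ))
    ⟨fst_injective φ hsq, fst_surjective φ hsq⟩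

lemma fstEquiv_tmul (b : B) (ν : EtMil.glue B' φ) :
    fstEquiv φ hsq (b ⊗ₜ[B'] ν) = b • (ν : N × M').1 := rfl

/-- the equivalence `A ⊗_{B'} N' ≃ A ⊗_{A'} M'` -/
noncomputable def sndAux : A ⊗[B'] (EtMil.glue B' φ) ≃ₗ[A] A ⊗[A'] M' :=
  (AlgebraTensorModule.cancelBaseChange B' B A A (EtMil.glue B' φ)).symm ≪≫ₗ
    AlgebraTensorModule.congr (LinearEquiv.refl A A) (fstEquiv φ hsq) ≪≫ₗ φ

lemma sndAux_tmul (a : A) (ν : EtMil.glue B' φ) :
    sndAux φ hsq (a ⊗ₜ[B'] ν) = a ⊗ₜ[A'] (ν : N × M').2 := by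
  have h : φ ((1 : A) ⊗ₜ[B] (ν : N × M').1) = (1 : A) ⊗ₜ[A'] (ν : N × M').2 := ν.2
  change φ (a ⊗ₜ[B] ((1 : B) • (ν : N × M').1)) = _
  rw [one_smul]
  have e : a ⊗ₜ[B] (ν : N × M').1 = a • ((1 : A) ⊗ₜ[B] (ν : N × M').1) := by
    rw [TensorProduct.smul_tmul', smul_eq_mul, mul_one]
  rw [e, map_smul, h, TensorProduct.smul_tmul', smul_eq_mul, mul_one]

lemma sndAux_rTensor (x : A' ⊗[B'] (EtMil.glue B' φ)) :
    sndAux φ hsq (LinearMap.rTensor (EtMil.glue B' φ)
      (IsScalarTower.toAlgHom B' A' A).toLinearMap x) =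
      (1 : A) ⊗ₜ[A'] (LinearMap.liftBaseChange A' (EtMil.glueSnd B' φ) x) := by
  induction x using TensorProduct.induction_on with
  | zero => simp
  | add x y hx hy => simp only [map_add, hx, hy, TensorProduct.tmul_add]
  | tmul a' ν =>
    rw [LinearMap.rTensor_tmul, sndAux_tmul, LinearMap.liftBaseChange_tmul]
    change (algebraMap A' A a') ⊗ₜ[A'] (ν : N × M').2 = (1 : A) ⊗ₜ[A'] (a' • (ν : N × M').2)
    rw [← TensorProduct.smul_tmul, Algebra.smul_def, mul_one]

include hsq in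
/-- elements of `𝔦 ⊗ N'` map to `1 ⊗ (0, z)` in `A' ⊗ N'` -/
theorem exists_of_mem_range (y : (RingHom.ker (algebraMap A' A)) ⊗[B'] (EtMil.glue B' φ)) :
    ∃ ν₀ : EtMil.glue B' φ, (ν₀ : N × M').1 = 0 ∧
      LinearMap.rTensor (EtMil.glue B' φ)
        ((Submodule.subtype (RingHom.ker (algebraMap A' A))).restrictScalars B') y =
        (1 : A') ⊗ₜ[B'] ν₀ := by
  induction y using TensorProduct.induction_on with
  | zero => exact ⟨0, rfl, by rw [map_zero, TensorProduct.tmul_zero]⟩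
  | add x y hx hy =>
    obtain ⟨ν₁, h₁, e₁⟩ := hx
    obtain ⟨ν₂, h₂, e₂⟩ := hy
    refine ⟨ν₁ + ν₂, ?_, by rw [map_add, e₁, e₂, TensorProduct.tmul_add]⟩
    change (ν₁ : N × M').1 + (ν₂ : N × M').1 = 0
    rw [h₁, h₂, add_zero]
  | tmul ι ν =>
    obtain ⟨j, hj1, hj2⟩ := exists_lift_of_mem_ker hsq (ι : A') ι.2
    refine ⟨j • ν, ?_, ?_⟩
    · change j • (ν : N × M').1 = 0
      rw [← algebraMap_smul B j, hj1, zero_smul]
    · rw [LinearMap.rTensor_tmul]
      change (ι : A') ⊗ₜ[B'] ν = _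
      rw [← hj2, ← TensorProduct.smul_tmul, Algebra.smul_def, mul_one]

include hsq in
theorem snd_injective : Injective (LinearMap.liftBaseChange A' (EtMil.glueSnd B' φ)) := by
  rw [injective_iff_map_eq_zero]
  intro x hx
  have h1 : LinearMap.rTensor (EtMil.glue B' φ) (IsScalarTower.toAlgHom B' A' A).toLinearMap x
      = 0 := by
    apply (sndAux φ hsq).injective
    rw [sndAux_rTensor, hx, TensorProduct.tmul_zero, map_zero]
  have hex : Exact ((Submodule.subtype (RingHom.ker (algebraMap A' A))).restrictScalars B')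
      (IsScalarTower.toAlgHom B' A' A).toLinearMap := by
    intro a'
    constructor
    · intro h
      exact ⟨⟨a', h⟩, rfl⟩
    · rintro ⟨y, rfl⟩
      exact y.2
  obtain ⟨y, hy⟩ := (rTensor_exact (EtMil.glue B' φ) hex hsq.1 x).mp h1
  obtain ⟨ν₀, h0, e⟩ := exists_of_mem_range φ hsq y
  rw [hy] at e
  rw [e, LinearMap.liftBaseChange_tmul, one_smul] at hx
  have : ν₀ = 0 := by
    apply Subtype.ext
    exact Prod.ext h0 hx
  rw [e, this, TensorProduct.tmul_zero]

include hsq in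
/-- **Base change of the glued module** -/
theorem glue_baseChange_bijective :
    Bijective (LinearMap.liftBaseChange B (EtMil.glueFst B' φ)) ∧
    Bijective (LinearMap.liftBaseChange A' (EtMil.glueSnd B' φ)) :=
  ⟨⟨fst_injective φ hsq, fst_surjective φ hsq⟩, ⟨snd_injective φ hsq, snd_surjective φ hsq⟩⟩

end Second

end Groth.Agent.Lib.Helper12.Mil
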