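import Groth.Agent.Lib.Helper12.Mil4

/-!
# Milnor squares, part 5: flat glued modules and the fibre product description of flat modules
-/

set_option linter.unusedSectionVars false

universe u

open TensorProduct Function

namespace Groth.Agent.Lib.Helper12.Mil

open Groth.Agent.Lib.Helper26.FibreSquareKer Groth.Agent.Lib.Lead.Milnor

variable {B' B A' A : Type u} [CommRing B'] [CommRing B] [CommRing A'] [CommRing A]
  [Algebra B' B] [Algebra B' A'] [Algebra B A] [Algebra A' A] [Algebra B' A]
  [IsScalarTower B' B A] [IsScalarTower B' A' A]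

section GlueFlat

variable {N M' : Type u} [AddCommGroup N] [Module B N] [Module B' N] [IsScalarTower B' B N]
  [AddCommGroup M'] [Module A' M'] [Module B' M'] [IsScalarTower B' A' M']
  (φ : A ⊗[B] N ≃ₗ[A] A ⊗[A'] M')

/-- The glued module of flat modules is flat. -/
theorem flat_glue (hsq : EtMil.IsFibreSquare B' B A' A) [Module.Flat B N] [Module.Flat A' M'] :
    Module.Flat B' (EtMil.glue B' φ) := by
  have h1 : Module.Flat B (B ⊗[B'] (EtMil.glue B' φ)) :=
    Module.Flat.of_linearEquiv (fstEquiv φ hsq)
  have h2 : Module.Flat A' (A' ⊗[B'] (EtMil.glue B' φ)) :=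
    Module.Flat.of_linearEquiv
      (LinearEquiv.ofBijective (LinearMap.liftBaseChange A' (EtMil.glueSnd B' φ))
        ⟨snd_injective φ hsq, snd_surjective φ hsq⟩)
  exact flat_of_fibreSquare hsq (EtMil.glue B' φ)

end GlueFlat

section FlatFibre

variable (hsq : EtMil.IsFibreSquare B' B A' A) (L' : Type u) [AddCommGroup L'] [Module B' L']

theorem rTensor_diff (w : (B × A') ⊗[B'] L') :
    LinearMap.rTensor L' (diff B' B A' A) w =
      LinearMap.rTensor L' (IsScalarTower.toAlgHom B' B A).toLinearMap
        (TensorProduct.prodLeft B' B' B A' L' w).1 -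
      LinearMap.rTensor L' (IsScalarTower.toAlgHom B' A' A).toLinearMap
        (TensorProduct.prodLeft B' B' B A' L' w).2 := by
  induction w using TensorProduct.induction_on with
  | zero =>
    simp only [map_zero]
    change (0 : A ⊗[B'] L') = LinearMap.rTensor L' _ 0 - LinearMap.rTensor L' _ 0
    rw [map_zero, map_zero, sub_zero]
  | add x y hx hy =>
    simp only [map_add, hx, hy, Prod.fst_add, Prod.snd_add]
    abel
  | tmul p l =>
    obtain ⟨b, a'⟩ := p
    rw [LinearMap.rTensor_tmul, TensorProduct.prodLeft_tmul, LinearMap.rTensor_tmul,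
      LinearMap.rTensor_tmul, diff_apply, TensorProduct.sub_tmul]
    rfl

theorem prodLeft_rTensor_incl (l : L') :
    TensorProduct.prodLeft B' B' B A' L'
      (LinearMap.rTensor L' (incl B' B' B A') ((1 : B') ⊗ₜ[B'] l)) =
      ((1 : B) ⊗ₜ[B'] l, (1 : A') ⊗ₜ[B'] l) := by
  rw [LinearMap.rTensor_tmul, incl_apply, TensorProduct.prodLeft_tmul, map_one, map_one]

include hsq in
/-- A flat module over `B'` is the fibre product of its base changes. -/
theorem flat_fibre [Module.Flat B' L'] :
    Injective (fun l : L' => (((1 : B) ⊗ₜ[B'] l : B ⊗[B'] L'), ((1 : A') ⊗ₜ[B'] l : A' ⊗[B'] L'))) ∧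
      ∀ (x : B ⊗[B'] L') (y : A' ⊗[B'] L'),
        (IsScalarTower.toAlgHom B' B A).toLinearMap.rTensor L' x =
          (IsScalarTower.toAlgHom B' A' A).toLinearMap.rTensor L' y →
          ∃ l : L', (1 : B) ⊗ₜ[B'] l = x ∧ (1 : A') ⊗ₜ[B'] l = y := by
  have hinj : Injective (LinearMap.rTensor L' (incl B' B' B A')) :=
    Module.Flat.rTensor_preserves_injective_linearMap _ (incl_injective B' hsq)
  have hex : Exact (LinearMap.rTensor L' (incl B' B' B A'))
      (LinearMap.rTensor L' (diff B' B A' A)) :=
    Module.Flat.rTensor_exact L' (exact_incl_diff B' hsq)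
  constructor
  · intro l₁ l₂ h
    have h' : TensorProduct.prodLeft B' B' B A' L'
        (LinearMap.rTensor L' (incl B' B' B A') ((1 : B') ⊗ₜ[B'] l₁)) =
        TensorProduct.prodLeft B' B' B A' L'
        (LinearMap.rTensor L' (incl B' B' B A') ((1 : B') ⊗ₜ[B'] l₂)) := by
      rw [prodLeft_rTensor_incl, prodLeft_rTensor_incl]
      exact h
    have h'' := hinj ((TensorProduct.prodLeft B' B' B A' L').injective h')
    have := congrArg (TensorProduct.lid B' L') h''
    simpa using this
  · intro x y hxy
    let w := (TensorProduct.prodLeft B' B' B A' L').symm (x, y)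
    have hw : LinearMap.rTensor L' (diff B' B A' A) w = 0 := by
      rw [rTensor_diff, LinearEquiv.apply_symm_apply, hxy, sub_self]
    obtain ⟨z, hz⟩ := (hex w).mp hw
    obtain ⟨l, rfl⟩ : ∃ l : L', (1 : B') ⊗ₜ[B'] l = z :=
      ⟨TensorProduct.lid B' L' z, by
        have := (TensorProduct.lid B' L').symm_apply_apply z
        rw [TensorProduct.lid_symm_apply] at this
        exact this⟩
    have h3 := congrArg (TensorProduct.prodLeft B' B' B A' L') hz
    rw [prodLeft_rTensor_incl, LinearEquiv.apply_symm_apply] at h3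
    exact ⟨l, congrArg Prod.fst h3, congrArg Prod.snd h3⟩

end FlatFibre

end Groth.Agent.Lib.Helper12.Mil

namespace Groth.Agent.Lib.Helper12.Mil

open Groth.Agent.Lib.Helper26.FibreSquareKer Groth.Agent.Lib.Lead.Milnor

variable {B' B A' A : Type u} [CommRing B'] [CommRing B] [CommRing A'] [CommRing A]
  [Algebra B' B] [Algebra B' A'] [Algebra B A] [Algebra A' A] [Algebra B' A]
  [IsScalarTower B' B A] [IsScalarTower B' A' A]

section GlueFinite

variable {N M' : Type u} [AddCommGroup N] [Module B N] [Module B' N] [IsScalarTower B' B N]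
  [AddCommGroup M'] [Module A' M'] [Module B' M'] [IsScalarTower B' A' M']
  (φ : A ⊗[B] N ≃ₗ[A] A ⊗[A'] M')

/-- the equivalence `A' ⊗ N' ≃ M'` -/
noncomputable def sndEquiv (hsq : EtMil.IsFibreSquare B' B A' A) :
    A' ⊗[B'] (EtMil.glue B' φ) ≃ₗ[A'] M' :=
  LinearEquiv.ofBijective (LinearMap.liftBaseChange A' (EtMil.glueSnd B' φ))
    ⟨snd_injective φ hsq, snd_surjective φ hsq⟩

/-- The glued module of finite modules is finite. -/
theorem finite_glue (hsq : EtMil.IsFibreSquare B' B A' A) [Module.Finite B N]
    [Module.Finite A' M'] : Module.Finite B' (EtMil.glue B' φ) := by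
  have h1 : Module.Finite B (B ⊗[B'] (EtMil.glue B' φ)) :=
    Module.Finite.equiv (fstEquiv φ hsq).symm
  have h2 : Module.Finite A' (A' ⊗[B'] (EtMil.glue B' φ)) :=
    Module.Finite.equiv (sndEquiv φ hsq).symm
  exact finite_of_baseChange hsq (EtMil.glue B' φ)

/-- The glued module of finite projective modules is finite projective. -/
theorem projective_glue (hsq : EtMil.IsFibreSquare B' B A' A) [Module.Finite B N]
    [Module.Projective B N] [Module.Finite A' M'] [Module.Projective A' M'] :
    Module.Projective B' (EtMil.glue B' φ) := by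
  have h1 : Module.Flat B (B ⊗[B'] (EtMil.glue B' φ)) :=
    Module.Flat.of_linearEquiv (fstEquiv φ hsq)
  have h2 : Module.Flat A' (A' ⊗[B'] (EtMil.glue B' φ)) :=
    Module.Flat.of_linearEquiv (sndEquiv φ hsq)
  have : Module.FinitePresentation B N := Module.finitePresentation_of_projective B N
  have : Module.FinitePresentation A' M' := Module.finitePresentation_of_projective A' M'
  have h3 : Module.FinitePresentation B (B ⊗[B'] (EtMil.glue B' φ)) :=
    Module.FinitePresentation.of_equiv (fstEquiv φ hsq).symm
  have h4 : Module.FinitePresentation A' (A' ⊗[B'] (EtMil.glue B' φ)) :=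
    Module.FinitePresentation.of_equiv (sndEquiv φ hsq).symm
  have hfl : Module.Flat B' (EtMil.glue B' φ) := flat_of_fibreSquare hsq (EtMil.glue B' φ)
  have hfp : Module.FinitePresentation B' (EtMil.glue B' φ) :=
    finitePresentation_of_fibreSquare hsq (EtMil.glue B' φ)
  exact Module.Flat.projective_of_finitePresentation

end GlueFinite

end Groth.Agent.Lib.Helper12.Mil
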