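import Groth.Agent.Lib.Helper12.Mil4

/-!
# Milnor squares, part 6: finiteness of the glued module over a "weak" fibre square
-/

set_option linter.unusedSectionVars false
set_option autoImplicit false

universe u

open TensorProduct Function

namespace Groth.Agent.Lib.Helper12.Mil6

open Groth.Agent.Lib.Helper26.FibreSquareKer Groth.Agent.Lib.Helper12.Mil

variable {B' B A' A : Type u} [CommRing B'] [CommRing B] [CommRing A'] [CommRing A]
  [Algebra B' B] [Algebra B' A'] [Algebra B A] [Algebra A' A] [Algebra B' A]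
  [IsScalarTower B' B A] [IsScalarTower B' A' A]
  {N M' : Type u} [AddCommGroup N] [Module B N] [Module B' N] [IsScalarTower B' B N]
  [AddCommGroup M'] [Module A' M'] [Module B' M'] [IsScalarTower B' A' M']
  (φ : A ⊗[B] N ≃ₗ[A] A ⊗[A'] M')

theorem exists_snd' (hs1 : Surjective (algebraMap A' A)) (n : N) :
    ∃ m' : M', (n, m') ∈ EtMil.glue B' φ := by
  obtain ⟨m', hm'⟩ := TensorProduct.mk_surjective A' M' A hs1 (φ ((1 : A) ⊗ₜ[B] n))
  exact ⟨m', hm'.symm⟩

theorem finite_glue_of_weak (hs1 : Surjective (algebraMap A' A))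
    (hs2 : Surjective (algebraMap B' B))
    (hW : ∀ i : A', algebraMap A' A i = 0 →
      ∃ b' : B', algebraMap B' B b' = 0 ∧ algebraMap B' A' b' = i)
    [Module.Finite B N] [Module.Finite A' M'] : Module.Finite B' ↥(EtMil.glue B' φ) := by
  classical
  obtain ⟨sN, hsN⟩ := (Module.Finite.fg_top : (⊤ : Submodule B N).FG)
  obtain ⟨sM, hsM⟩ := (Module.Finite.fg_top : (⊤ : Submodule A' M').FG)
  choose u hu using exists_snd' (B' := B') φ hs1
  set I := RingHom.ker (algebraMap A' A) with hI
  set U : Submodule A' M' := Submodule.span A' (u '' (sN : Set N)) with hU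
  -- step 3: every `φ t` is `1 ⊗ w` with `w ∈ U`
  have key1 : ∀ n : N, ∀ a : A, ∃ w ∈ U, φ (a ⊗ₜ[B] n) = (1 : A) ⊗ₜ[A'] w := by
    intro n
    have hn : n ∈ Submodule.span B (sN : Set N) := by rw [hsN]; trivial
    refine Submodule.span_induction ?_ ?_ ?_ ?_ hn
    · intro y hy a
      obtain ⟨a', rfl⟩ := hs1 a
      refine ⟨a' • u y, Submodule.smul_mem _ _ (Submodule.subset_span ⟨y, hy, rfl⟩), ?_⟩
      have e : (algebraMap A' A a') ⊗ₜ[B] y = (algebraMap A' A a') • ((1 : A) ⊗ₜ[B] y) := by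
        rw [TensorProduct.smul_tmul', smul_eq_mul, mul_one]
      rw [e, map_smul, (mem_glue φ _).mp (hu y), TensorProduct.smul_tmul', smul_eq_mul, mul_one,
        ← TensorProduct.smul_tmul, Algebra.smul_def, mul_one]
    · intro a
      exact ⟨0, zero_mem _, by rw [TensorProduct.tmul_zero, map_zero, TensorProduct.tmul_zero]⟩
    · intro x y _ _ hx hy a
      obtain ⟨w₁, hw₁, e₁⟩ := hx a
      obtain ⟨w₂, hw₂, e₂⟩ := hy a
      exact ⟨w₁ + w₂, add_mem hw₁ hw₂, by
        rw [TensorProduct.tmul_add, map_add, e₁, e₂, TensorProduct.tmul_add]⟩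
    · intro b x _ hx a
      obtain ⟨w, hw, e⟩ := hx (a * algebraMap B A b)
      refine ⟨w, hw, ?_⟩
      rw [← e, ← TensorProduct.smul_tmul, Algebra.smul_def', mul_comm]
  have key2 : ∀ t : A ⊗[B] N, ∃ w ∈ U, φ t = (1 : A) ⊗ₜ[A'] w := by
    intro t
    induction t using TensorProduct.induction_on with
    | zero => exact ⟨0, zero_mem _, by rw [map_zero, TensorProduct.tmul_zero]⟩
    | add x y hx hy =>
      obtain ⟨w₁, hw₁, e₁⟩ := hx
      obtain ⟨w₂, hw₂, e₂⟩ := hy
      exact ⟨w₁ + w₂, add_mem hw₁ hw₂, by rw [map_add, e₁, e₂, TensorProduct.tmul_add]⟩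
    | tmul a n => exact key1 n a
  have hsup : ∀ m' : M', ∃ w ∈ U, m' - w ∈ I • (⊤ : Submodule A' M') := by
    intro m'
    obtain ⟨w, hw, e⟩ := key2 (φ.symm ((1 : A) ⊗ₜ[A'] m'))
    rw [LinearEquiv.apply_symm_apply] at e
    have h0 : (1 : A) ⊗ₜ[A'] (m' - w) = 0 := by rw [TensorProduct.tmul_sub, e, sub_self]
    exact ⟨w, hw, mem_smul_top_of_tmul_eq_zero hs1 (m' - w) h0⟩
  -- step 4: determinant trick on `M' ⧸ U`
  obtain ⟨r, hr1, hr2⟩ : ∃ r : A', r - 1 ∈ I ∧ ∀ m' : M', r • m' ∈ U := by
    have hfg : (⊤ : Submodule A' (M' ⧸ U)).FG := Module.Finite.fg_top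
    have hle : (⊤ : Submodule A' (M' ⧸ U)) ≤ I • ⊤ := by
      intro q _
      obtain ⟨m', rfl⟩ := Submodule.Quotient.mk_surjective U q
      obtain ⟨w, hw, hz⟩ := hsup m'
      have e : (Submodule.Quotient.mk m' : M' ⧸ U) = U.mkQ (m' - w) := by
        rw [Submodule.mkQ_apply, Submodule.Quotient.mk_sub, (Submodule.Quotient.mk_eq_zero U).mpr hw,
          sub_zero]
      rw [e]
      have := Submodule.mem_map_of_mem (f := U.mkQ) hz
      rw [Submodule.map_smul''] at this
      exact Submodule.smul_mono le_rfl le_top this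
    obtain ⟨r, hr, hr'⟩ :=
      Submodule.exists_sub_one_mem_and_smul_eq_zero_of_fg_of_le_smul I ⊤ hfg hle
    refine ⟨r, hr, fun m' => ?_⟩
    have := hr' (Submodule.Quotient.mk m') trivial
    rwa [← Submodule.Quotient.mk_smul, Submodule.Quotient.mk_eq_zero] at this
  set ε₀ : A' := 1 - r with hε₀
  have hε₀I : ε₀ ∈ I := by
    have : ε₀ = -(r - 1) := by rw [hε₀]; ring
    rw [this]; exact I.neg_mem hr1
  -- generators
  let G : Set (N × M') := ((fun y => (y, u y)) '' (sN : Set N)) ∪
    ((fun x => ((0 : N), ε₀ • x)) '' (sM : Set M'))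
  have hGfin : G.Finite := (sN.finite_toSet.image _).union (sM.finite_toSet.image _)
  have hGle : Submodule.span B' G ≤ EtMil.glue B' φ := by
    rw [Submodule.span_le]
    rintro _ (⟨y, _, rfl⟩ | ⟨x, _, rfl⟩)
    · exact hu y
    · exact zero_mem_glue φ _ (Submodule.smul_mem_smul hε₀I trivial)
  -- (c) `(0, i • w)` for `w ∈ U`
  have hQ : ∀ w ∈ U, ∀ i ∈ I, ((0 : N), i • w) ∈ Submodule.span B' G := by
    intro w hw
    refine Submodule.span_induction ?_ ?_ ?_ ?_ hw
    · rintro _ ⟨y, hy, rfl⟩ i hi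
      obtain ⟨b', hb1, hb2⟩ := hW i hi
      have hmem : ((y, u y) : N × M') ∈ Submodule.span B' G :=
        Submodule.subset_span (Or.inl ⟨y, hy, rfl⟩)
      have := Submodule.smul_mem _ b' hmem
      have e : b' • ((y, u y) : N × M') = ((0 : N), i • u y) := by
        ext
        · change b' • y = 0
          rw [← algebraMap_smul B b' y, hb1, zero_smul]
        · change b' • u y = i • u y
          rw [← algebraMap_smul A' b' (u y), hb2]
      rwa [e] at this
    · intro i _
      rw [smul_zero]; exact zero_mem _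
    · intro x y _ _ hx hy i hi
      rw [smul_add]
      have := add_mem (hx i hi) (hy i hi)
      simpa using this
    · intro a' x _ hx i hi
      rw [← mul_smul]
      exact hx (i * a') (I.mul_mem_right a' hi)
  have hP : ∀ m : M', ∀ i ∈ I, ((0 : N), i • m) ∈ Submodule.span B' G := by
    intro m
    have hm : m ∈ Submodule.span A' (sM : Set M') := by rw [hsM]; trivial
    refine Submodule.span_induction ?_ ?_ ?_ ?_ hm
    · intro x hx i hi
      obtain ⟨b', hb1, hb2⟩ := hW i hi
      have h1 : ((0 : N), i • (r • x)) ∈ Submodule.span B' G := hQ _ (hr2 x) i hi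
      have hmem : (((0 : N), ε₀ • x) : N × M') ∈ Submodule.span B' G :=
        Submodule.subset_span (Or.inr ⟨x, hx, rfl⟩)
      have h2 := Submodule.smul_mem _ b' hmem
      have e : b' • (((0 : N), ε₀ • x) : N × M') = ((0 : N), i • (ε₀ • x)) := by
        ext
        · change b' • (0 : N) = 0
          rw [smul_zero]
        · change b' • (ε₀ • x) = i • (ε₀ • x)
          rw [← algebraMap_smul A' b' (ε₀ • x), hb2]
      rw [e] at h2
      have h3 := add_mem h1 h2
      have e2 : (((0 : N), i • (r • x)) : N × M') + ((0 : N), i • (ε₀ • x)) = ((0 : N), i • x) := by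
        ext
        · change (0 : N) + 0 = 0
          rw [add_zero]
        · change i • (r • x) + i • (ε₀ • x) = i • x
          rw [← smul_add, ← add_smul, hε₀, add_sub_cancel, one_smul]
      rwa [e2] at h3
    · intro i _
      rw [smul_zero]; exact zero_mem _
    · intro x y _ _ hx hy i hi
      rw [smul_add]
      have := add_mem (hx i hi) (hy i hi)
      simpa using this
    · intro a' x _ hx i hi
      rw [← mul_smul]
      exact hx (i * a') (I.mul_mem_right a' hi)
  have hZ : ∀ z ∈ I • (⊤ : Submodule A' M'), ((0 : N), z) ∈ Submodule.span B' G := by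
    intro z hz
    refine Submodule.smul_induction_on hz ?_ ?_
    · intro i hi m _
      exact hP m i hi
    · intro x y hx hy
      have := add_mem hx hy
      simpa using this
  -- (a) first coordinates
  have hfst : ∀ n : N, ∃ g ∈ Submodule.span B' G, g.1 = n := by
    intro n
    have hn : n ∈ Submodule.span B (sN : Set N) := by rw [hsN]; trivial
    refine Submodule.span_induction ?_ ?_ ?_ ?_ hn
    · intro y hy
      exact ⟨(y, u y), Submodule.subset_span (Or.inl ⟨y, hy, rfl⟩), rfl⟩
    · exact ⟨0, zero_mem _, rfl⟩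
    · rintro x y _ _ ⟨g₁, hg₁, rfl⟩ ⟨g₂, hg₂, rfl⟩
      exact ⟨g₁ + g₂, add_mem hg₁ hg₂, rfl⟩
    · rintro b x _ ⟨g₁, hg₁, rfl⟩
      obtain ⟨b', rfl⟩ := hs2 b
      refine ⟨b' • g₁, Submodule.smul_mem _ _ hg₁, ?_⟩
      change b' • g₁.1 = _
      rw [algebraMap_smul]
  have hle : EtMil.glue B' φ ≤ Submodule.span B' G := by
    rintro ⟨n, m'⟩ hx
    obtain ⟨g, hg, hg1⟩ := hfst n
    have hg' : g ∈ EtMil.glue B' φ := hGle hg
    have hdiff : ((n, m') : N × M') - g ∈ EtMil.glue B' φ := sub_mem hx hg'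
    have e : ((n, m') : N × M') - g = ((0 : N), m' - g.2) := by
      ext
      · change n - g.1 = 0
        rw [hg1, sub_self]
      · rfl
    rw [e] at hdiff
    have hz : m' - g.2 ∈ I • (⊤ : Submodule A' M') := by
      rw [mem_glue] at hdiff
      change φ ((1 : A) ⊗ₜ[B] (0 : N)) = (1 : A) ⊗ₜ[A'] (m' - g.2) at hdiff
      rw [TensorProduct.tmul_zero, map_zero] at hdiff
      exact mem_smul_top_of_tmul_eq_zero hs1 _ hdiff.symm
    have h1 := hZ _ hz
    have h2 := add_mem h1 hg
    rw [← e, sub_add_cancel] at h2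
    exact h2
  have heq : EtMil.glue B' φ = Submodule.span B' G := le_antisymm hle hGle
  rw [Module.Finite.iff_fg, heq]
  exact Submodule.fg_span hGfin

end Groth.Agent.Lib.Helper12.Mil6
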