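import Groth.Agent.Lib.Helper12.Mil6

/-!
# Milnor squares, part 7: base change of a fibre square along `B' → D'` is a weak fibre square
-/

set_option linter.unusedSectionVars false
set_option autoImplicit false

universe u

open TensorProduct Function

namespace Groth.Agent.Lib.Helper12.Mil7

section Surj

variable (R : Type*) {S R' S' : Type*} [CommRing R] [CommRing S] [CommRing R'] [CommRing S']
  [Algebra R S] [Algebra R R'] [Algebra R S'] [Algebra S S'] [Algebra R' S']
  [IsScalarTower R S S'] [IsScalarTower R R' S'] [Algebra.IsPushout R S R' S']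

include R in
/-- Elements of a pushout are sums of products. -/
theorem pushout_induction {P : S' → Prop} (h0 : P 0) (hadd : ∀ x y, P x → P y → P (x + y))
    (hmul : ∀ (s : S) (r' : R'), P (algebraMap S S' s * algebraMap R' S' r')) (x : S') : P x := by
  have key : ∀ t : S ⊗[R] R', P (Algebra.IsPushout.equiv R S R' S' t) := by
    intro t
    induction t using TensorProduct.induction_on with
    | zero => rw [map_zero]; exact h0
    | add x y hx hy => rw [map_add]; exact hadd _ _ hx hy
    | tmul s r' => rw [Algebra.IsPushout.equiv_tmul]; exact hmul s r'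
  have := key ((Algebra.IsPushout.equiv R S R' S').symm x)
  rwa [AlgEquiv.apply_symm_apply] at this

include R in
theorem pushout_surjective (hs : Surjective (algebraMap R S)) :
    Surjective (algebraMap R' S') := by
  intro x
  refine pushout_induction R (S := S) (R' := R') (P := fun x => ∃ r', algebraMap R' S' r' = x)
    ⟨0, map_zero _⟩ ?_ ?_ x
  · rintro _ _ ⟨a, rfl⟩ ⟨b, rfl⟩
    exact ⟨a + b, map_add _ _ _⟩
  · intro s r'
    obtain ⟨r, rfl⟩ := hs s
    refine ⟨algebraMap R R' r * r', ?_⟩
    rw [map_mul, ← IsScalarTower.algebraMap_apply R R' S', ← IsScalarTower.algebraMap_apply R S S']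

end Surj


section Ker

variable (R : Type*) {S T R' S' T' : Type*} [CommRing R] [CommRing S] [CommRing T] [CommRing R']
  [CommRing S'] [CommRing T']
  [Algebra R S] [Algebra R T] [Algebra S T] [IsScalarTower R S T]
  [Algebra R R']
  [Algebra R S'] [Algebra S S'] [Algebra R' S'] [IsScalarTower R S S'] [IsScalarTower R R' S']
  [Algebra.IsPushout R S R' S']
  [Algebra R T'] [Algebra T T'] [Algebra R' T'] [IsScalarTower R T T'] [IsScalarTower R R' T']
  [Algebra.IsPushout R T R' T']
  [Algebra S' T'] [Algebra S T'] [IsScalarTower S T T'] [IsScalarTower S S' T']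
  [IsScalarTower R' S' T']

include R R' in
theorem pushout_surjective' (hs : Surjective (algebraMap S T)) :
    Surjective (algebraMap S' T') := by
  intro x
  refine pushout_induction R (S := T) (R' := R') (P := fun x => ∃ y, algebraMap S' T' y = x)
    ⟨0, map_zero _⟩ ?_ ?_ x
  · rintro _ _ ⟨a, rfl⟩ ⟨b, rfl⟩
    exact ⟨a + b, map_add _ _ _⟩
  · intro t r'
    obtain ⟨s, rfl⟩ := hs t
    refine ⟨algebraMap S S' s * algebraMap R' S' r', ?_⟩
    rw [map_mul, ← IsScalarTower.algebraMap_apply S S' T', ← IsScalarTower.algebraMap_apply R' S' T',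
      ← IsScalarTower.algebraMap_apply S T T']

include R in
theorem pushout_ker_induction (hs : Surjective (algebraMap S T)) {P : S' → Prop} (h0 : P 0)
    (hadd : ∀ x y, P x → P y → P (x + y))
    (hmul : ∀ (i : S) (r' : R'), algebraMap S T i = 0 →
      P (algebraMap S S' i * algebraMap R' S' r'))
    (x : S') (hx : algebraMap S' T' x = 0) : P x := by
  let g : S →ₗ[R] T := (IsScalarTower.toAlgHom R S T).toLinearMap
  have hcomm : ∀ t : S ⊗[R] R', algebraMap S' T' (Algebra.IsPushout.equiv R S R' S' t) =
      Algebra.IsPushout.equiv R T R' T' (g.rTensor R' t) := by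
    intro t
    induction t using TensorProduct.induction_on with
    | zero => simp
    | add x y hx hy => rw [map_add, map_add, map_add, map_add, hx, hy]
    | tmul s r' =>
      rw [LinearMap.rTensor_tmul, Algebra.IsPushout.equiv_tmul, Algebra.IsPushout.equiv_tmul,
        map_mul, ← IsScalarTower.algebraMap_apply S S' T', ← IsScalarTower.algebraMap_apply R' S' T']
      change _ = algebraMap T T' (algebraMap S T s) * _
      rw [← IsScalarTower.algebraMap_apply S T T']
  have hex : Function.Exact (LinearMap.ker g).subtype g := LinearMap.exact_subtype_ker_map g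
  have hg : Surjective g := hs
  have hex2 := rTensor_exact R' hex hg
  have h1 : g.rTensor R' ((Algebra.IsPushout.equiv R S R' S').symm x) = 0 := by
    have := hcomm ((Algebra.IsPushout.equiv R S R' S').symm x)
    rw [AlgEquiv.apply_symm_apply, hx] at this
    exact (EmbeddingLike.map_eq_zero_iff (f := Algebra.IsPushout.equiv R T R' T')).mp this.symm
  obtain ⟨t₀, ht₀⟩ := (hex2 _).mp h1
  have key : ∀ t₀ : (LinearMap.ker g) ⊗[R] R',
      P (Algebra.IsPushout.equiv R S R' S' ((LinearMap.ker g).subtype.rTensor R' t₀)) := by
    intro t₀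
    induction t₀ using TensorProduct.induction_on with
    | zero => rw [map_zero, map_zero]; exact h0
    | add x y hx hy => rw [map_add, map_add]; exact hadd _ _ hx hy
    | tmul i r' =>
      rw [LinearMap.rTensor_tmul, Algebra.IsPushout.equiv_tmul]
      exact hmul i.1 r' i.2
  have := key t₀
  rwa [ht₀, AlgEquiv.apply_symm_apply] at this

end Ker

end Groth.Agent.Lib.Helper12.Mil7
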