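import Mathlib
import Groth.Agent.Lib.Helper12.ModCons1
import Groth.Agent.Lib.Helper12.ConsP1

/-!
# Constructibility of the locus of a relation with a module over a Noetherian base
-/

set_option autoImplicit false
universe u

namespace Groth.Agent.Lib.Helper12.H12ConsP

open AlgebraicGeometry CategoryTheory Limits TopologicalSpace Topology

variable {P : ∀ ⦃Y T : Scheme.{u}⦄, (Y ⟶ T) → Y.Modules → Prop}

theorem locusMod_pullback (hP : ConsProp.IsFieldStableMod P) {X S W : Scheme.{u}} (u : X ⟶ S)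
    (ι : W ⟶ S) [LocallyOfFiniteType u] [QuasiCompact u] (F : X.Modules) (hF : Coh.IsCoh F) :
    ∃ (XW : Scheme.{u}) (uW : XW ⟶ W) (FW : XW.Modules), LocallyOfFiniteType uW ∧
      QuasiCompact uW ∧ Coh.IsCoh FW ∧
      ConsProp.locusMod P uW FW = ι ⁻¹' ConsProp.locusMod P u F :=
  ⟨_, pullback.snd u ι, (Scheme.Modules.pullback (pullback.fst u ι)).obj F, inferInstance,
    inferInstance, isCoh_pullback _ F hF,
    locusMod_baseChange hP (IsPullback.of_hasPullback u ι) F hF _ (Iso.refl _)⟩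

theorem isConstructible_locusMod_of_isNoetherian (hP : ConsProp.IsConsMod P)
    {X S : Scheme.{u}} [IsNoetherian S] (u : X ⟶ S) [LocallyOfFiniteType u] [QuasiCompact u]
    (F : X.Modules) (hF : Coh.IsCoh F) : IsConstructible (ConsProp.locusMod P u F) := by
  refine isConstructible_of_forall_closed_integral _ ?_
  intro W ι _ _ _
  obtain ⟨XW, uW, FW, h1, h2, h3, heq⟩ := locusMod_pullback hP.1 u ι F hF
  rw [← heq]
  exact hP.2 uW FW h3

theorem exists_cover_locusMod_of_isNoetherian (hP : ConsProp.IsIndConsMod P)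
    {X S : Scheme.{u}} [IsNoetherian S] (u : X ⟶ S) [LocallyOfFiniteType u] [QuasiCompact u]
    (F : X.Modules) (hF : Coh.IsCoh F) :
    ∃ 𝒞 : Set (Set S), (∀ C ∈ 𝒞, IsConstructible C) ∧ ConsProp.locusMod P u F = ⋃₀ 𝒞 := by
  refine exists_constructible_cover_of_forall_closed_integral _ ?_
  intro W ι _ _ _
  obtain ⟨XW, uW, FW, h1, h2, h3, heq⟩ := locusMod_pullback hP.1 u ι F hF
  rw [← heq]
  exact hP.2 uW FW h3

end Groth.Agent.Lib.Helper12.H12ConsP
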