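import Mathlib
import Groth.Agent.Lib.Helper12.ModCons2
import Groth.Agent.Lib.Helper12.ConsP3
import Groth.Agent.Lib.Helper12.ConsP4
import Groth.Agent.Lib.Helper12.FlatStage5
import Groth.Agent.S4788

/-!
# Noetherian approximation of a finitely presented scheme with a finitely presented module
-/

set_option autoImplicit false
universe u

namespace Groth.Agent.Lib.Helper12.H12ConsP

open AlgebraicGeometry CategoryTheory Limits TopologicalSpace Topology
open Groth.Agent.Lib.Helper12.IndFG Groth.Agent.Lib.Helper1.RSLimit Groth.Agent.Lib.Helper1.ObjDesc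
open Groth.Agent.Lib.Helper5 Groth.Agent.Lib.Helper12.H12FlatStage

variable {X S : Scheme.{u}}

theorem exists_noetherian_model_mod [IsAffine S] (u : X ⟶ S)
    [LocallyOfFinitePresentation u] [QuasiCompact u] [QuasiSeparated u]
    (F : X.Modules) [F.IsQuasicoherent] (hF : CohB1.IsFP F) :
    ∃ (X₀ S₀ : Scheme.{u}) (u₀ : X₀ ⟶ S₀) (h : S ⟶ S₀) (e : X ⟶ X₀) (F₀ : X₀.Modules),
      IsNoetherian S₀ ∧ LocallyOfFiniteType u₀ ∧ QuasiCompact u₀ ∧ IsPullback e u u₀ h ∧
      Coh.IsCoh F₀ ∧ Nonempty (F ≅ (Scheme.Modules.pullback e).obj F₀) := by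
  letI : Algebra (ULift.{u} ℤ) Γ(S, ⊤) := ULift.algebra' ℤ _
  let D := fgD Γ(S, ⊤)
  let c := fgC Γ(S, ⊤)
  let hc : IsLimit c := fgIsLimit Γ(S, ⊤)
  let z : X ⟶ c.pt := u ≫ S.isoSpec.hom
  haveI : LocallyOfFinitePresentation z := by dsimp only [z]; infer_instance
  haveI : QuasiCompact z := by dsimp only [z]; infer_instance
  haveI : QuasiSeparated z := by dsimp only [z]; infer_instance
  obtain ⟨i₁, V₁, v₁, e₁, a1, b1, c1, sq₁⟩ := desc_of_finitePresentation hc z
  haveI hA : ∀ {i j : (FGSub (ULift.{u} ℤ) Γ(S, ⊤))ᵒᵖ} (f : i ⟶ j), IsAffineHom (D.map f) :=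
    fun f => inferInstance
  haveI : ∀ (j k : Over i₁) (a : j ⟶ k), IsAffineHom ((bcDiagram D i₁ v₁).map a) :=
    fun j k a => inferInstance
  let j₀ : Over i₁ := Over.mk (𝟙 i₁)
  haveI : QuasiCompact (pullback.fst (D.map j₀.hom) v₁) :=
    MorphismProperty.pullback_fst _ _ b1
  haveI : QuasiSeparated (pullback.fst (D.map j₀.hom) v₁) :=
    MorphismProperty.pullback_fst _ _ c1
  haveI : CompactSpace ((bcDiagram D i₁ v₁).obj j₀) := by
    change CompactSpace ↥(pullback (D.map j₀.hom) v₁)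
    exact QuasiCompact.compactSpace_of_compactSpace (pullback.fst (D.map j₀.hom) v₁)
  haveI : QuasiSeparatedSpace ((bcDiagram D i₁ v₁).obj j₀) := by
    change QuasiSeparatedSpace ↥(pullback (D.map j₀.hom) v₁)
    exact quasiSeparatedSpace_of_quasiSeparated (pullback.fst (D.map j₀.hom) v₁)
  haveI hFq : Coh.IsQCoh (X := (yCone D c i₁ v₁ z e₁ sq₁).pt) F := ‹F.IsQuasicoherent›
  obtain ⟨k, -, Fk, hq, hfp, ⟨iso⟩⟩ := Groth.Agent.S4788.result (bcDiagram D i₁ v₁)
    (yCone D c i₁ v₁ z e₁ sq₁) (isLimitYCone D c i₁ v₁ z e₁ sq₁ hc) j₀ F hF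
  haveI := fgD_isNoetherian Γ(S, ⊤) k.left
  haveI : Fk.IsFinitePresentation := hfp
  have hft : CohB1.IsFT Fk := inferInstance
  refine ⟨pullback (D.map k.hom) v₁, D.obj k.left, pullback.fst (D.map k.hom) v₁,
    S.isoSpec.hom ≫ c.π.app k.left, (yCone D c i₁ v₁ z e₁ sq₁).π.app k, Fk, inferInstance,
    ?_, MorphismProperty.pullback_fst _ _ b1,
    isPullback_of_isoSpec (isPullback_yCone D c i₁ v₁ z e₁ sq₁ k), ⟨hq, hft⟩,
    ⟨iso.symm⟩⟩
  haveI : LocallyOfFiniteType v₁ := inferInstance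
  exact MorphismProperty.pullback_fst _ _ inferInstance

end Groth.Agent.Lib.Helper12.H12ConsP
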