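import Mathlib
import Groth.Agent.Lib.Helper12.ModCons3
import Groth.Agent.Lib.Helper12.ConsP8

/-!
# Constructibility of the locus of a relation with a module: general base, generic point, limits
-/

set_option autoImplicit false
universe u

namespace Groth.Agent.Lib.Helper12.H12ConsP

open AlgebraicGeometry CategoryTheory Limits TopologicalSpace Topology
open Groth.Agent.Lib.Helper29.QCoh

section Top

variable {X : Type*} [TopologicalSpace X]

theorem isGenericPoint_subtype {η : X} (hη : IsGenericPoint η (⊤ : Set X)) {U : Set X}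
    (hηU : η ∈ U) : IsGenericPoint (⟨η, hηU⟩ : U) (⊤ : Set U) := by
  change closure ({⟨η, hηU⟩} : Set U) = Set.univ
  rw [Topology.IsEmbedding.subtypeVal.closure_eq_preimage_closure_image]
  have : (Subtype.val '' ({⟨η, hηU⟩} : Set U) : Set X) = {η} := by simp
  rw [this, hη.def]
  rfl

theorem irreducibleSpace_of_isOpen [IrreducibleSpace X] {U : Set X} (hU : IsOpen U)
    (hne : U.Nonempty) : IrreducibleSpace U :=
  Subtype.irreducibleSpace
    ⟨hne, (PreirreducibleSpace.isPreirreducible_univ (X := X)).open_subset hU (Set.subset_univ _)⟩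

theorem generic_dichotomy_of_isLocallyConstructible [IrreducibleSpace X] {η : X}
    (hη : IsGenericPoint η (⊤ : Set X)) {E : Set X} (hE : IsLocallyConstructible E) :
    η ∈ interior E ∨ η ∈ interior Eᶜ := by
  obtain ⟨V, hVn, hVo, hVE⟩ := hE η
  have hηV : η ∈ V := mem_of_mem_nhds hVn
  haveI := irreducibleSpace_of_isOpen hVo ⟨η, hηV⟩
  obtain ⟨W, hWo, hWne, h⟩ := Groth.Agent.Lib.Helper12.constructible_dichotomy hVE
    (Y := (Set.univ : Set V)) ⟨Set.univ_nonempty, PreirreducibleSpace.isPreirreducible_univ⟩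
  rw [Set.inter_univ] at hWne h
  have hW'o : IsOpen (Subtype.val '' W : Set X) := hVo.isOpenMap_subtype_val _ hWo
  have hηW' : η ∈ (Subtype.val '' W : Set X) := by
    rw [hη.mem_open_set_iff hW'o]
    obtain ⟨w, hw⟩ := hWne
    exact ⟨w.1, trivial, w, hw, rfl⟩
  rcases h with h | h
  · left
    refine mem_interior.2 ⟨_, ?_, hW'o, hηW'⟩
    rintro _ ⟨w, hw, rfl⟩
    exact h hw
  · right
    refine mem_interior.2 ⟨_, ?_, hW'o, hηW'⟩
    rintro _ ⟨w, hw, rfl⟩
    exact h hw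

theorem generic_mem_interior_of_isIndConstructible [IrreducibleSpace X] {η : X}
    (hη : IsGenericPoint η (⊤ : Set X)) {E : Set X} (hE : ProCons.IsIndConstructible E)
    (h : η ∈ E) : η ∈ interior E := by
  obtain ⟨U, hUo, hηU, 𝒮, h𝒮, heq⟩ := hE η
  have h1 : (⟨η, hηU⟩ : U) ∈ (Subtype.val ⁻¹' E : Set U) := h
  rw [heq] at h1
  obtain ⟨T, hT, hηT⟩ := h1
  haveI := irreducibleSpace_of_isOpen hUo ⟨η, hηU⟩
  have hdich := generic_dichotomy_of_isLocallyConstructible (isGenericPoint_subtype hη hηU)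
    (h𝒮 T hT)
  rcases hdich with h2 | h2
  · obtain ⟨W, hWT, hWo, hηW⟩ := mem_interior.1 h2
    have hW'o : IsOpen (Subtype.val '' W : Set X) := hUo.isOpenMap_subtype_val _ hWo
    refine mem_interior.2 ⟨_, ?_, hW'o, ⟨_, hηW, rfl⟩⟩
    rintro _ ⟨w, hw, rfl⟩
    have : w ∈ (Subtype.val ⁻¹' E : Set U) := by
      rw [heq]
      exact ⟨T, hT, hWT hw⟩
    exact this
  · exact absurd hηT (interior_subset h2)

end Top

section Mod

variable {P : ∀ ⦃Y T : Scheme.{u}⦄, (Y ⟶ T) → Y.Modules → Prop}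

theorem isCoh_of_isFP {X : Scheme.{u}} (F : X.Modules) [F.IsQuasicoherent] (hF : CohB1.IsFP F) :
    Coh.IsCoh F := by
  haveI : F.IsFinitePresentation := hF
  exact ⟨inferInstance, inferInstance⟩

theorem exists_local_model_mod (hP : ConsProp.IsFieldStableMod P) {X S : Scheme.{u}}
    (u : X ⟶ S) [LocallyOfFinitePresentation u] [QuasiCompact u] [QuasiSeparated u]
    (F : X.Modules) [F.IsQuasicoherent] (hF : CohB1.IsFP F)
    (U : S.Opens) (hU : IsAffineOpen U) :
    ∃ (X₀ S₀ : Scheme.{u}) (u₀ : X₀ ⟶ S₀) (F₀ : X₀.Modules) (h : (U : Scheme.{u}) ⟶ S₀),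
      IsNoetherian S₀ ∧ LocallyOfFiniteType u₀ ∧ QuasiCompact u₀ ∧ Coh.IsCoh F₀ ∧
      U.ι ⁻¹' ConsProp.locusMod P u F = h ⁻¹' ConsProp.locusMod P u₀ F₀ := by
  haveI : IsAffine (U : Scheme.{u}) := hU
  have hX : IsPullback (u ⁻¹ᵁ U).ι (u ∣_ U) u U.ι := (isPullback_morphismRestrict u U).flip
  haveI : LocallyOfFinitePresentation (u ∣_ U) := MorphismProperty.of_isPullback hX inferInstance
  haveI : QuasiCompact (u ∣_ U) := MorphismProperty.of_isPullback hX inferInstance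
  haveI : QuasiSeparated (u ∣_ U) := MorphismProperty.of_isPullback hX inferInstance
  haveI : F.IsFinitePresentation := hF
  obtain ⟨X₀, S₀, u₀, h, e, F₀, i1, i2, i3, sq, hF₀, ⟨iso⟩⟩ :=
    exists_noetherian_model_mod (u ∣_ U) ((Scheme.Modules.pullback (u ⁻¹ᵁ U).ι).obj F)
      (inferInstanceAs
        ((Scheme.Modules.pullback (u ⁻¹ᵁ U).ι).obj F).IsFinitePresentation)
  refine ⟨X₀, S₀, u₀, F₀, h, i1, i2, i3, hF₀, ?_⟩
  rw [← locusMod_baseChange hP hX F (isCoh_of_isFP F hF) _ (Iso.refl _),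
    locusMod_baseChange hP sq F₀ hF₀ _ iso]

/-- **S5878** -/
theorem isLocallyConstructible_locusMod (hP : ConsProp.IsConsMod P) {X S : Scheme.{u}}
    (u : X ⟶ S) [LocallyOfFinitePresentation u] [QuasiCompact u] [QuasiSeparated u]
    (F : X.Modules) [F.IsQuasicoherent] (hF : CohB1.IsFP F) :
    IsLocallyConstructible (ConsProp.locusMod P u F) := by
  refine isLocallyConstructible_of_local_models _ fun U hU => ?_
  obtain ⟨X₀, S₀, u₀, F₀, h, i1, i2, i3, i4, heq⟩ := exists_local_model_mod hP.1 u F hF U hU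
  exact ⟨S₀, h, _, isConstructible_locusMod_of_isNoetherian hP u₀ F₀ i4, heq⟩

/-- **S5879** -/
theorem isIndConstructible_locusMod (hP : ConsProp.IsIndConsMod P) {X S : Scheme.{u}}
    (u : X ⟶ S) [LocallyOfFinitePresentation u] [QuasiCompact u] [QuasiSeparated u]
    (F : X.Modules) [F.IsQuasicoherent] (hF : CohB1.IsFP F) :
    ProCons.IsIndConstructible (ConsProp.locusMod P u F) := by
  refine isIndConstructible_of_local_models _ fun U hU => ?_
  obtain ⟨X₀, S₀, u₀, F₀, h, i1, i2, i3, i4, heq⟩ := exists_local_model_mod hP.1 u F hF U hU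
  obtain ⟨𝒞, h𝒞, hcov⟩ := exists_cover_locusMod_of_isNoetherian hP u₀ F₀ i4
  exact ⟨S₀, h, 𝒞, h𝒞, by rw [heq, hcov]⟩

end Mod

section Limit

variable {I : Type u} [SmallCategory I] [IsCofiltered I]
    (D : I ⥤ Scheme.{u}) (c : Limits.Cone D) (hc : Limits.IsLimit c)
    [∀ (i j : I) (a : i ⟶ j), IsAffineHom (D.map a)]

include hc in
/-- **S5892** -/
theorem forall_locusMod_iff_stage {P : ∀ ⦃Y T : Scheme.{u}⦄, (Y ⟶ T) → Y.Modules → Prop}
    (hP : ConsProp.IsIndConsMod P) (i₀ : I) [CompactSpace ↥(D.obj i₀)]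
    {X₀ : Scheme.{u}} (u₀ : X₀ ⟶ D.obj i₀)
    [LocallyOfFinitePresentation u₀] [QuasiCompact u₀] [QuasiSeparated u₀]
    (F₀ : X₀.Modules) [F₀.IsQuasicoherent] (hF₀ : CohB1.IsFP F₀)
    {X : Scheme.{u}} (u : X ⟶ c.pt) (q : X ⟶ X₀) (hX : IsPullback q u u₀ (c.π.app i₀)) :
    (∀ s : ↥c.pt, s ∈ ConsProp.locusMod P u ((Scheme.Modules.pullback q).obj F₀)) ↔
      ∃ (j : I) (φ : j ⟶ i₀) (Xj : Scheme.{u}) (uj : Xj ⟶ D.obj j) (p : Xj ⟶ X₀),
        IsPullback p uj u₀ (D.map φ) ∧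
          ∀ t : ↥(D.obj j), t ∈ ConsProp.locusMod P uj ((Scheme.Modules.pullback p).obj F₀) := by
  have hcoh := isCoh_of_isFP F₀ hF₀
  have e1 : ConsProp.locusMod P u ((Scheme.Modules.pullback q).obj F₀) =
      (c.π.app i₀) ⁻¹' ConsProp.locusMod P u₀ F₀ :=
    locusMod_baseChange hP.1 hX F₀ hcoh _ (Iso.refl _)
  constructor
  · intro h
    obtain ⟨j, φ, hj⟩ := exists_stage_preimage_univ D c hc i₀ _
      (isIndConstructible_locusMod hP u₀ F₀ hF₀) (fun s => by
        have := h s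
        rw [e1] at this
        exact this)
    refine ⟨j, φ, pullback u₀ (D.map φ), pullback.snd _ _, pullback.fst _ _,
      IsPullback.of_hasPullback _ _, fun t => ?_⟩
    rw [locusMod_baseChange hP.1 (IsPullback.of_hasPullback _ _) F₀ hcoh _ (Iso.refl _)]
    exact hj t
  · rintro ⟨j, φ, Xj, uj, p, h1, h3⟩ s
    rw [e1]
    have e2 := locusMod_baseChange hP.1 h1 F₀ hcoh _ (Iso.refl _)
    have := h3 (c.π.app j s)
    rw [e2] at this
    have hw : D.map φ (c.π.app j s) = c.π.app i₀ s := by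
      rw [← Scheme.Hom.comp_apply, c.w]
    rw [Set.mem_preimage, hw] at this
    exact this

end Limit

end Groth.Agent.Lib.Helper12.H12ConsP
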