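import Mathlib
import Groth.Agent.Lib.Helper12.ModGlue16
import Groth.Agent.Lib.Helper12.FlatInj5

set_option autoImplicit false
universe u

open CategoryTheory CategoryTheory.Limits AlgebraicGeometry TopologicalSpace Opposite Function
open Groth.Agent.Lib.Helper29.QCoh Groth.Agent.Lib.Helper12.H12HomGlue

namespace Groth.Agent.Lib.Helper12.H12ModGlue

section Assoc
variable {S X₂ X₁ X₀ : Scheme.{u}} (f : S ⟶ X₂) (g : X₂ ⟶ X₁) (h : X₁ ⟶ X₀)

set_option backward.isDefEq.respectTransparency false in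
theorem compIso_assoc (gh : X₂ ⟶ X₀) (fg : S ⟶ X₁) (fgh : S ⟶ X₀) (e₁ : g ≫ h = gh)
    (e₂ : f ≫ g = fg) (e₃ : f ≫ gh = fgh) (e₄ : fg ≫ h = fgh) (M : X₀.Modules) :
    (Scheme.Modules.pullback f).map (compIso g h gh e₁ M).hom ≫ (compIso f gh fgh e₃ M).hom =
      (compIso f g fg e₂ ((Scheme.Modules.pullback h).obj M)).hom ≫
        (compIso fg h fgh e₄ M).hom := by
  subst e₁ e₂ e₃
  have key := congrArg (fun t => t.app M) (Scheme.Modules.pseudofunctor_associativity f g h)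
  unfold compIso
  simp only [Scheme.Modules.pullbackCongr, eqToIso_refl, Iso.trans_refl, Iso.app_hom]
  simp only [NatTrans.comp_app, Functor.whiskerRight_app, Functor.associator_hom_app,
    Functor.whiskerLeft_app, Category.id_comp] at key
  have h1 : (eqToHom (by simp : Scheme.Modules.pullback (f ≫ g ≫ h) =
      Scheme.Modules.pullback ((f ≫ g) ≫ h))).app M = 𝟙 _ := by
    simp
  rw [h1] at key
  have h2 : (Scheme.Modules.pullback f).map ((Scheme.Modules.pullbackComp g h).hom.app M) ≫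
      (Scheme.Modules.pullbackComp f (g ≫ h)).hom.app M ≫
      ((Scheme.Modules.pullbackComp f (g ≫ h)).inv.app M ≫
      (Scheme.Modules.pullback f).map ((Scheme.Modules.pullbackComp g h).inv.app M) ≫
        (Scheme.Modules.pullbackComp f g).hom.app ((Scheme.Modules.pullback h).obj M) ≫
          (Scheme.Modules.pullbackComp (f ≫ g) h).hom.app M) =
      (Scheme.Modules.pullbackComp f g).hom.app ((Scheme.Modules.pullback h).obj M) ≫
          (Scheme.Modules.pullbackComp (f ≫ g) h).hom.app M := by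
    rw [Iso.hom_inv_id_app_assoc, ← Functor.map_comp_assoc, Iso.hom_inv_id_app,
      CategoryTheory.Functor.map_id, Category.id_comp]
  rw [key] at h2
  rw [← h2]
  simp

end Assoc

section Quot
variable {I : Type u} [SmallCategory I] [IsCofiltered I] (D : I ⥤ Scheme.{u}) (c : Cone D)
  (hc : IsLimit c) [∀ {i j : I} (f : i ⟶ j), IsAffineHom (D.map f)] (i₀ : I)

open Groth.Agent.Lib.Helper12.H12ModLim Groth.Agent.Lib.Helper12.H12FlatInj in
include hc in
/-- **Descent of quotients of finite presentation** (EGA IV 8.5.6-type statement). -/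
theorem exists_quotient_descend [CompactSpace (D.obj i₀)] [QuasiSeparatedSpace (D.obj i₀)]
    (F₀ : (D.obj i₀).Modules) [F₀.IsQuasicoherent] [F₀.IsFinitePresentation]
    {G : c.pt.Modules} [G.IsQuasicoherent] [G.IsFinitePresentation]
    (p : (Scheme.Modules.pullback (c.π.app i₀)).obj F₀ ⟶ G) [Epi p] :
    ∃ (j : I) (φ : j ⟶ i₀) (Gj : (D.obj j).Modules) (_ : Gj.IsQuasicoherent)
      (pj : (Scheme.Modules.pullback (D.map φ)).obj F₀ ⟶ Gj)
      (e : (Scheme.Modules.pullback (c.π.app j)).obj Gj ≅ G),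
      Gj.IsFinitePresentation ∧ Epi pj ∧
        (compIso (c.π.app j) (D.map φ) (c.π.app i₀) (c.w φ) F₀).inv ≫
          (Scheme.Modules.pullback (c.π.app j)).map pj ≫ e.hom = p := by
  haveI hA : ∀ (i j : I) (a : i ⟶ j), IsAffineHom (D.map a) := fun _ _ a => inferInstance
  -- Step 1: descend the target
  obtain ⟨i₁, φ₁, G₁, hG₁q, hG₁fp, ⟨ε⟩⟩ := exists_module_descend D c hc i₀ G
  haveI := hG₁q
  haveI := hG₁fp
  haveI : CompactSpace (D.obj i₁) := QuasiCompact.compactSpace_of_compactSpace (D.map φ₁)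
  haveI : QuasiSeparatedSpace (D.obj i₁) := quasiSeparatedSpace_of_quasiSeparated (D.map φ₁)
  -- Step 2: descend the homomorphism
  let h : (Scheme.Modules.pullback (c.π.app i₁)).obj ((Scheme.Modules.pullback (D.map φ₁)).obj F₀) ⟶
      (Scheme.Modules.pullback (c.π.app i₁)).obj G₁ :=
    (compIso (c.π.app i₁) (D.map φ₁) (c.π.app i₀) (c.w φ₁) F₀).hom ≫ p ≫ ε.inv
  obtain ⟨j, φ₂, hj, hhj⟩ := exists_stage_hom_pullback D c hc i₁
    ((Scheme.Modules.pullback (D.map φ₁)).obj F₀) G₁ h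
  change (compIso (c.π.app j) (D.map φ₂) (c.π.app i₁) (c.w φ₂) _).inv ≫
    (Scheme.Modules.pullback (c.π.app j)).map hj ≫
    (compIso (c.π.app j) (D.map φ₂) (c.π.app i₁) (c.w φ₂) G₁).hom = h at hhj
  haveI : CompactSpace (D.obj j) := QuasiCompact.compactSpace_of_compactSpace (D.map φ₂)
  have h1 : (Scheme.Modules.pullback (c.π.app j)).map hj =
      (compIso (c.π.app j) (D.map φ₂) (c.π.app i₁) (c.w φ₂) _).hom ≫ h ≫
        (compIso (c.π.app j) (D.map φ₂) (c.π.app i₁) (c.w φ₂) G₁).inv := by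
    rw [← hhj]
    simp
  have hepi : Epi ((Scheme.Modules.pullback (c.π.app j)).map hj) := by
    rw [h1]
    infer_instance
  obtain ⟨j', φ₃, hepi'⟩ := (epi_pullback_iff_stage D c hc j hj).mp hepi
  -- the canonical isomorphisms
  let A := compIso (D.map φ₂) (D.map φ₁) (D.map (φ₂ ≫ φ₁)) (D.map_comp φ₂ φ₁).symm F₀
  let B := compIso (D.map φ₃) (D.map (φ₂ ≫ φ₁)) (D.map (φ₃ ≫ φ₂ ≫ φ₁))
    (D.map_comp φ₃ (φ₂ ≫ φ₁)).symm F₀
  let c₃ : (Scheme.Modules.pullback (D.map φ₃)).obj ((Scheme.Modules.pullback (D.map φ₂)).obj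
      ((Scheme.Modules.pullback (D.map φ₁)).obj F₀)) ≅
      (Scheme.Modules.pullback (D.map (φ₃ ≫ φ₂ ≫ φ₁))).obj F₀ :=
    (Scheme.Modules.pullback (D.map φ₃)).mapIso A ≪≫ B
  let K := compIso (c.π.app j') (D.map (φ₃ ≫ φ₂ ≫ φ₁)) (c.π.app i₀) (c.w (φ₃ ≫ φ₂ ≫ φ₁)) F₀
  let C₃G := compIso (c.π.app j') (D.map φ₃) (c.π.app j) (c.w φ₃)
    ((Scheme.Modules.pullback (D.map φ₂)).obj G₁)
  let C₂G := compIso (c.π.app j) (D.map φ₂) (c.π.app i₁) (c.w φ₂) G₁
  let C₃F := compIso (c.π.app j') (D.map φ₃) (c.π.app j) (c.w φ₃)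
    ((Scheme.Modules.pullback (D.map φ₂)).obj ((Scheme.Modules.pullback (D.map φ₁)).obj F₀))
  let C₂F := compIso (c.π.app j) (D.map φ₂) (c.π.app i₁) (c.w φ₂)
    ((Scheme.Modules.pullback (D.map φ₁)).obj F₀)
  let C₁F := compIso (c.π.app i₁) (D.map φ₁) (c.π.app i₀) (c.w φ₁) F₀
  -- coherence
  have coh : (Scheme.Modules.pullback (c.π.app j')).map c₃.hom ≫ K.hom =
      C₃F.hom ≫ C₂F.hom ≫ C₁F.hom := by
    have a1 := compIso_assoc (c.π.app j') (D.map φ₃) (D.map (φ₂ ≫ φ₁))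
      (D.map (φ₃ ≫ φ₂ ≫ φ₁)) (c.π.app j) (c.π.app i₀) (D.map_comp φ₃ (φ₂ ≫ φ₁)).symm
      (c.w φ₃) (c.w (φ₃ ≫ φ₂ ≫ φ₁)) (c.w (φ₂ ≫ φ₁)) F₀
    have a2 := compIso_assoc (c.π.app j) (D.map φ₂) (D.map φ₁)
      (D.map (φ₂ ≫ φ₁)) (c.π.app i₁) (c.π.app i₀) (D.map_comp φ₂ φ₁).symm
      (c.w φ₂) (c.w (φ₂ ≫ φ₁)) (c.w φ₁) F₀
    have a3 := compIso_nat (c.π.app j') (D.map φ₃) (c.π.app j) (c.w φ₃) A.hom
    change (Scheme.Modules.pullback (c.π.app j')).map
      ((Scheme.Modules.pullback (D.map φ₃)).map A.hom ≫ B.hom) ≫ K.hom = _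
    rw [(Scheme.Modules.pullback (c.π.app j')).map_comp, Category.assoc]
    refine (congrArg (fun t => (Scheme.Modules.pullback (c.π.app j')).map
      ((Scheme.Modules.pullback (D.map φ₃)).map A.hom) ≫ t) a1).trans ?_
    refine (Category.assoc _ _ _).symm.trans ?_
    refine (congrArg (fun t => t ≫ (compIso (c.π.app j) (D.map (φ₂ ≫ φ₁)) (c.π.app i₀)
      (c.w (φ₂ ≫ φ₁)) F₀).hom) a3).trans ?_
    refine (Category.assoc _ _ _).trans ?_
    exact congrArg (fun t => C₃F.hom ≫ t) a2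
  -- the descended quotient
  haveI : Epi ((Scheme.Modules.pullback (D.map φ₃)).map hj) := hepi'
  refine ⟨j', φ₃ ≫ φ₂ ≫ φ₁,
    (Scheme.Modules.pullback (D.map φ₃)).obj ((Scheme.Modules.pullback (D.map φ₂)).obj G₁),
    inferInstance, c₃.inv ≫ (Scheme.Modules.pullback (D.map φ₃)).map hj,
    C₃G ≪≫ C₂G ≪≫ ε, inferInstance, inferInstance, ?_⟩
  have n1 := compIso_nat (c.π.app j') (D.map φ₃) (c.π.app j) (c.w φ₃) hj
  have n2 : (Scheme.Modules.pullback (c.π.app j)).map hj ≫ C₂G.hom = C₂F.hom ≫ h := by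
    rw [← hhj]
    simp [C₂F, C₂G]
  have n3 : h ≫ ε.hom = C₁F.hom ≫ p := by
    simp [h, C₁F]
  have n4 : K.inv ≫ (Scheme.Modules.pullback (c.π.app j')).map c₃.inv ≫
      C₃F.hom ≫ C₂F.hom ≫ C₁F.hom = 𝟙 _ := by
    rw [← coh, ← Category.assoc ((Scheme.Modules.pullback (c.π.app j')).map c₃.inv),
      ← (Scheme.Modules.pullback (c.π.app j')).map_comp, Iso.inv_hom_id,
      CategoryTheory.Functor.map_id, Category.id_comp, Iso.inv_hom_id]
  change K.inv ≫ (Scheme.Modules.pullback (c.π.app j')).map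
    (c₃.inv ≫ (Scheme.Modules.pullback (D.map φ₃)).map hj) ≫ (C₃G.hom ≫ C₂G.hom ≫ ε.hom) = p
  rw [(Scheme.Modules.pullback (c.π.app j')).map_comp]
  calc K.inv ≫ ((Scheme.Modules.pullback (c.π.app j')).map c₃.inv ≫
        (Scheme.Modules.pullback (c.π.app j')).map
          ((Scheme.Modules.pullback (D.map φ₃)).map hj)) ≫ C₃G.hom ≫ C₂G.hom ≫ ε.hom
      = K.inv ≫ (Scheme.Modules.pullback (c.π.app j')).map c₃.inv ≫
        ((Scheme.Modules.pullback (c.π.app j')).map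
          ((Scheme.Modules.pullback (D.map φ₃)).map hj) ≫ C₃G.hom) ≫ C₂G.hom ≫ ε.hom := by
        simp only [Category.assoc]
    _ = K.inv ≫ (Scheme.Modules.pullback (c.π.app j')).map c₃.inv ≫
        (C₃F.hom ≫ (Scheme.Modules.pullback (c.π.app j)).map hj) ≫ C₂G.hom ≫ ε.hom := by
        rw [n1]
    _ = K.inv ≫ (Scheme.Modules.pullback (c.π.app j')).map c₃.inv ≫
        C₃F.hom ≫ ((Scheme.Modules.pullback (c.π.app j)).map hj ≫ C₂G.hom) ≫ ε.hom := by
        simp only [Category.assoc]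
    _ = K.inv ≫ (Scheme.Modules.pullback (c.π.app j')).map c₃.inv ≫
        C₃F.hom ≫ (C₂F.hom ≫ h) ≫ ε.hom := by
        rw [n2]
    _ = K.inv ≫ (Scheme.Modules.pullback (c.π.app j')).map c₃.inv ≫
        C₃F.hom ≫ C₂F.hom ≫ (h ≫ ε.hom) := by
        simp only [Category.assoc]
    _ = (K.inv ≫ (Scheme.Modules.pullback (c.π.app j')).map c₃.inv ≫
        C₃F.hom ≫ C₂F.hom ≫ C₁F.hom) ≫ p := by
        rw [n3]
        simp only [Category.assoc]
    _ = p := by rw [n4, Category.id_comp]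

end Quot

end Groth.Agent.Lib.Helper12.H12ModGlue
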