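import Mathlib

set_option autoImplicit false
universe u

namespace Groth.Agent.Lib.Helper12.MonoLoc

open Polynomial

section
variable (A C : Type u) [CommRing A] [IsLocalRing A]
    [CommRing C] [Algebra A C] [Module.Finite A C] (r : Ideal C) [r.IsMaximal] (u : C)

omit [IsLocalRing A] in
/-- key lemma: elements outside `r` divide an element of `A[u]` outside `n = r ∩ A[u]` -/
theorem exists_mul_eq (hu₁ : ∀ r' : Ideal C, r'.IsMaximal → r' ≠ r → u ∈ r') (hu₂ : u ∉ r)
    (s : C) (hs : s ∉ r) :
    ∃ (c : C) (t : Algebra.adjoin A ({u} : Set C)), (t : C) ∉ r ∧ s * c = (t : C) := by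
  classical
  set B := Algebra.adjoin A ({u} : Set C) with hB
  let n : Ideal B := Ideal.comap (algebraMap B C) r
  haveI : Algebra.IsIntegral A C := inferInstance
  haveI : Algebra.IsIntegral B C := Algebra.IsIntegral.tower_top (R := A)
  haveI hnmax : n.IsMaximal := Ideal.isMaximal_comap_of_isIntegral_of_isMaximal r
  by_contra hcon
  push Not at hcon
  have hIP : (Ideal.span {s}).comap (algebraMap B C) ≤ n := by
    intro b hb
    obtain ⟨c, hc⟩ := Ideal.mem_span_singleton.1 (Ideal.mem_comap.1 hb)
    by_contra hbn
    exact hcon c b hbn hc.symm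
  obtain ⟨Q, hQs, hQp, hQn⟩ := Ideal.exists_ideal_over_prime_of_isIntegral n (Ideal.span {s}) hIP
  have hQmax : Q.IsMaximal :=
    Ideal.isMaximal_of_isIntegral_of_isMaximal_comap (R := B) Q (hQn ▸ hnmax)
  have hsQ : s ∈ Q := hQs (Ideal.subset_span rfl)
  have hQr : Q = r := by
    by_contra hne
    have huQ : u ∈ Q := hu₁ Q hQmax hne
    have huB : (⟨u, Algebra.subset_adjoin rfl⟩ : B) ∈ Q.comap (algebraMap B C) := huQ
    rw [hQn] at huB
    exact hu₂ huB
  exact hs (hQr ▸ hsQ)


theorem localRingHom_adjoin_bijective
    (hu₁ : ∀ r' : Ideal C, r'.IsMaximal → r' ≠ r → u ∈ r') (hu₂ : u ∉ r)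
    (hu₃ : Subalgebra.toSubmodule (Algebra.adjoin A {algebraMap C (Localization.AtPrime r) u}) ⊔
        Submodule.restrictScalars A (Ideal.map (algebraMap A (Localization.AtPrime r))
          (IsLocalRing.maximalIdeal A)) = ⊤) :
    Function.Bijective (Localization.localRingHom
      (Ideal.comap (Algebra.adjoin A ({u} : Set C)).val.toRingHom r) r
      (Algebra.adjoin A ({u} : Set C)).val.toRingHom rfl) := by
  classical
  set B := Algebra.adjoin A ({u} : Set C) with hB
  set n : Ideal B := Ideal.comap B.val.toRingHom r with hn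
  set f := Localization.localRingHom n r B.val.toRingHom rfl with hf
  have hK := exists_mul_eq A C r u hu₁ hu₂
  have hmemn : ∀ t : B, t ∈ n ↔ (t : C) ∈ r := fun t => Iff.rfl
  constructor
  · -- injectivity
    rw [injective_iff_map_eq_zero]
    intro x hx
    obtain ⟨⟨b, t⟩, rfl⟩ := IsLocalization.mk'_surjective n.primeCompl x
    rw [hf, Localization.localRingHom_mk', IsLocalization.mk'_eq_zero_iff] at hx
    obtain ⟨⟨s, hs⟩, hsb⟩ := hx
    obtain ⟨c, t', ht', hsc⟩ := hK s hs
    rw [IsLocalization.mk'_eq_zero_iff]
    refine ⟨⟨t', fun h => ht' ((hmemn t').1 h)⟩, ?_⟩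
    apply Subtype.ext
    change (t' : C) * (b : C) = 0
    rw [← hsc]
    have : s * (b : C) = 0 := hsb
    rw [mul_comm s c, mul_assoc, this, mul_zero]
  · -- surjectivity, by Nakayama
    let Bn := Localization.AtPrime n
    let Cr := Localization.AtPrime r
    letI : Algebra Bn Cr := f.toAlgebra
    have hsmul : ∀ (β : Bn) (y : Cr), β • y = f β * y := fun β y => rfl
    have hfB : ∀ b : B, f (algebraMap B Bn b) = algebraMap C Cr (b : C) := by
      intro b
      rw [hf, Localization.localRingHom_to_map]
      rfl
    have hcomap : r.comap (algebraMap A C) = IsLocalRing.maximalIdeal A :=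
      IsLocalRing.eq_maximalIdeal (Ideal.isMaximal_comap_of_isIntegral_of_isMaximal r)
    let N : Submodule Bn Cr := LinearMap.range (Algebra.linearMap Bn Cr)
    have hN : ∀ β : Bn, f β ∈ N := fun β => ⟨β, rfl⟩
    -- every element is `(1/t) • image of c`
    have hrepr : ∀ x : Cr, ∃ (β : Bn) (c : C), x = β • algebraMap C Cr c := by
      intro x
      obtain ⟨⟨c, ⟨s, hs⟩⟩, rfl⟩ := IsLocalization.mk'_surjective r.primeCompl x
      obtain ⟨c', t, ht, hsc⟩ := hK s hs
      have htn : t ∈ n.primeCompl := fun h => ht ((hmemn t).1 h)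
      refine ⟨IsLocalization.mk' Bn (1 : B) ⟨t, htn⟩, c * c', ?_⟩
      have hσ : IsUnit (algebraMap C Cr s) := IsLocalization.map_units Cr (⟨s, hs⟩ : r.primeCompl)
      apply hσ.mul_left_injective
      change IsLocalization.mk' Cr c (⟨s, hs⟩ : r.primeCompl) * algebraMap C Cr s =
        (IsLocalization.mk' Bn (1 : B) ⟨t, htn⟩ • algebraMap C Cr (c * c')) * algebraMap C Cr s
      have h1 : IsLocalization.mk' Cr c (⟨s, hs⟩ : r.primeCompl) * algebraMap C Cr s =
          algebraMap C Cr c := IsLocalization.mk'_spec Cr c (⟨s, hs⟩ : r.primeCompl)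
      have h2 : f (IsLocalization.mk' Bn (1 : B) ⟨t, htn⟩) * algebraMap C Cr (t : C) = 1 := by
        rw [← hfB, ← map_mul]
        have : IsLocalization.mk' Bn (1 : B) ⟨t, htn⟩ * algebraMap B Bn t = algebraMap B Bn 1 :=
          IsLocalization.mk'_spec Bn (1 : B) (⟨t, htn⟩ : n.primeCompl)
        rw [this, map_one, map_one]
      rw [h1, hsmul, map_mul]
      calc algebraMap C Cr c = algebraMap C Cr c *
            (f (IsLocalization.mk' Bn (1 : B) ⟨t, htn⟩) * algebraMap C Cr (t : C)) := by
              rw [h2, mul_one]
        _ = f (IsLocalization.mk' Bn (1 : B) ⟨t, htn⟩) *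
            (algebraMap C Cr c * algebraMap C Cr c') * algebraMap C Cr s := by
              rw [← hsc, map_mul]; ring
    have hAact : ∀ (a : A) (y : Cr), algebraMap C Cr (algebraMap A C a) * y =
        (algebraMap B Bn (algebraMap A B a)) • y := by
      intro a y
      rw [hsmul, hfB]
      rfl
    have hFG : (⊤ : Submodule Bn Cr).FG := by
      obtain ⟨T, hT⟩ := (Module.Finite.fg_top : (⊤ : Submodule A C).FG)
      refine ⟨T.image (algebraMap C Cr), ?_⟩
      rw [eq_top_iff]
      intro x _
      obtain ⟨β, c, rfl⟩ := hrepr x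
      refine Submodule.smul_mem _ _ ?_
      have hc : c ∈ Submodule.span A (T : Set C) := by rw [hT]; trivial
      refine Submodule.span_induction ?_ ?_ ?_ ?_ hc
      · intro z hz
        exact Submodule.subset_span (by
          rw [Finset.coe_image]; exact ⟨z, hz, rfl⟩)
      · rw [map_zero]; exact Submodule.zero_mem _
      · intro z w _ _ hz hw
        rw [map_add]; exact Submodule.add_mem _ hz hw
      · intro a z _ hz
        rw [Algebra.smul_def, map_mul, hAact]
        exact Submodule.smul_mem _ _ hz
    have hNN : (⊤ : Submodule Bn Cr) ≤ N ⊔ IsLocalRing.maximalIdeal Bn • ⊤ := by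
      intro x _
      have hx : x ∈ Subalgebra.toSubmodule
          (Algebra.adjoin A {algebraMap C (Localization.AtPrime r) u}) ⊔
          Submodule.restrictScalars A (Ideal.map (algebraMap A (Localization.AtPrime r))
            (IsLocalRing.maximalIdeal A)) := by rw [hu₃]; trivial
      obtain ⟨y, hy, z, hz, rfl⟩ := Submodule.mem_sup.1 hx
      refine Submodule.add_mem_sup ?_ ?_
      · -- y in the range
        have hy' : y ∈ Algebra.adjoin A {algebraMap C (Localization.AtPrime r) u} := hy
        rw [Algebra.adjoin_singleton_eq_range_aeval] at hy'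
        obtain ⟨p, rfl⟩ := hy'
        have : (aeval (algebraMap C (Localization.AtPrime r) u)) p =
            f (algebraMap B Bn (aeval (⟨u, Algebra.subset_adjoin rfl⟩ : B) p)) := by
          rw [hfB, aeval_algebraMap_apply]
          congr 1
          exact (Subalgebra.aeval_coe B (⟨u, Algebra.subset_adjoin rfl⟩ : B) p)
        change (aeval (algebraMap C (Localization.AtPrime r) u)) p ∈ N
        rw [this]
        exact hN _
      · -- z in m • ⊤
        have hz' : z ∈ Ideal.map (algebraMap A (Localization.AtPrime r))
            (IsLocalRing.maximalIdeal A) := hz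
        rw [Ideal.map] at hz'
        refine Submodule.span_induction ?_ ?_ ?_ ?_ hz'
        · rintro _ ⟨a, ha, rfl⟩
          have h1 : algebraMap A (Localization.AtPrime r) a =
              algebraMap C Cr (algebraMap A C a) * 1 := by
            rw [mul_one]; exact IsScalarTower.algebraMap_apply A C _ a
          rw [h1, hAact]
          refine Submodule.smul_mem_smul ?_ trivial
          rw [IsLocalization.AtPrime.to_map_mem_maximal_iff Bn n]
          change (algebraMap A C a) ∈ r
          have : a ∈ r.comap (algebraMap A C) := by rw [hcomap]; exact ha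
          exact this
        · exact Submodule.zero_mem _
        · intro z w _ _ hz hw
          exact Submodule.add_mem _ hz hw
        · intro c z _ hz
          have : c • z = z * c := by rw [smul_eq_mul, mul_comm]
          rw [this]
          refine Submodule.smul_induction_on hz ?_ ?_
          · intro β hβ w _
            have : β • w * c = β • (w * c) := by rw [hsmul, hsmul, mul_assoc]
            rw [this]
            exact Submodule.smul_mem_smul hβ trivial
          · intro w₁ w₂ h₁ h₂
            rw [add_mul]
            exact Submodule.add_mem _ h₁ h₂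
    have hle := Submodule.le_of_le_smul_of_le_jacobson_bot hFG
      (IsLocalRing.maximalIdeal_le_jacobson _) hNN
    intro x
    obtain ⟨β, hβ⟩ := hle (show x ∈ (⊤ : Submodule Bn Cr) from trivial)
    exact ⟨β, by rw [← hβ]; rfl⟩

end

end Groth.Agent.Lib.Helper12.MonoLoc
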