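import Mathlib
import Groth.Agent.Lib.Helper12.MonoSep

set_option autoImplicit false
universe u

namespace Groth.Agent.Lib.Helper12.MonoSep

open Polynomial
open scoped TensorProduct

/-- finite etale local algebra with prescribed (finite separable) residue field -/
theorem exists_finite_etale_local (A : Type u)
    [CommRing A] [IsLocalRing A] (l : Type u) [Field l]
    [Algebra (IsLocalRing.ResidueField A) l] [FiniteDimensional (IsLocalRing.ResidueField A) l]
    [Algebra.IsSeparable (IsLocalRing.ResidueField A) l] :
    ∃ (E : Type u) (_ : CommRing E) (_ : IsLocalRing E) (_ : Algebra A E)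
      (_ : IsLocalHom (algebraMap A E)),
      Module.Finite A E ∧ Algebra.Etale A E ∧
        Nonempty (IsLocalRing.ResidueField E ≃ₐ[IsLocalRing.ResidueField A] l) := by
  classical
  let k := IsLocalRing.ResidueField A
  letI : Algebra A l := ((algebraMap k l).comp (IsLocalRing.residue A)).toAlgebra
  haveI : IsScalarTower A k l := IsScalarTower.of_algebraMap_eq fun _ => rfl
  obtain ⟨α, hα⟩ := Field.exists_primitive_element k l
  have hint : IsIntegral k α := Algebra.IsIntegral.isIntegral α
  set f := minpoly k α with hf
  have hfsep : f.Separable := Algebra.IsSeparable.isSeparable k α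
  obtain ⟨F, hFmap, -, hFmonic⟩ := lifts_and_natDegree_eq_and_monic
    ((Polynomial.mem_lifts f).2 (map_surjective _ IsLocalRing.residue_surjective f))
    (minpoly.monic hint)
  have hFsep : F.Separable := separable_of_map_residue F hFmonic (by rw [hFmap]; exact hfsep)
  let E := A[X] ⧸ Ideal.span {F}
  haveI : Module.Finite A E := hFmonic.finite_quotient
  haveI : Algebra.FormallyEtale A E := formallyEtale_quotient_of_separable F hFmonic hFsep
  haveI : Algebra.FinitePresentation A E :=
    Algebra.FinitePresentation.quotient (Submodule.fg_span (Set.finite_singleton F))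
  haveI : Algebra.Etale A E := {}
  -- the map to l
  have hFα : aeval α F = 0 := by
    have : aeval α (F.map (algebraMap A k)) = 0 := by
      change aeval α (F.map (IsLocalRing.residue A)) = 0
      rw [hFmap, hf, minpoly.aeval]
    rwa [aeval_map_algebraMap] at this
  have hker : ∀ a ∈ Ideal.span {F}, (aeval α : A[X] →ₐ[A] l) a = 0 := by
    intro a ha
    obtain ⟨q, rfl⟩ := Ideal.mem_span_singleton.1 ha
    rw [map_mul, hFα, zero_mul]
  let ψ : E →ₐ[A] l := Ideal.Quotient.liftₐ (Ideal.span {F}) (aeval α) hker
  have hψmk : ∀ p : A[X], ψ (Ideal.Quotient.mk _ p) = aeval α p := fun p => rfl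
  have hψsurj : Function.Surjective ψ := by
    intro x
    have hx : x ∈ (IntermediateField.adjoin k {α}).toSubalgebra := by rw [hα]; trivial
    rw [IntermediateField.adjoin_simple_toSubalgebra_of_isAlgebraic hint.isAlgebraic,
      Algebra.adjoin_singleton_eq_range_aeval] at hx
    obtain ⟨p, hp⟩ := hx
    obtain ⟨P, rfl⟩ := map_surjective _ IsLocalRing.residue_surjective p
    refine ⟨Ideal.Quotient.mk _ P, ?_⟩
    rw [hψmk, ← hp]
    change _ = aeval α (P.map (algebraMap A k))
    rw [aeval_map_algebraMap]
  let M : Ideal E := RingHom.ker ψ.toRingHom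
  have hMmax : M.IsMaximal := RingHom.ker_isMaximal_of_surjective ψ.toRingHom hψsurj
  have hmk_mem : ∀ g : A[X], (∀ i, g.coeff i ∈ IsLocalRing.maximalIdeal A) →
      Ideal.Quotient.mk (Ideal.span {F}) g ∈
        (IsLocalRing.maximalIdeal A).map (algebraMap A E) := by
    intro g hg
    rw [g.as_sum_range_C_mul_X_pow, map_sum]
    refine Ideal.sum_mem _ fun i _ => ?_
    rw [map_mul]
    refine Ideal.mul_mem_right _ _ ?_
    exact Ideal.mem_map_of_mem (algebraMap A E) (hg i)
  have hMle : M ≤ (IsLocalRing.maximalIdeal A).map (algebraMap A E) := by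
    intro z hz
    obtain ⟨p, rfl⟩ := Ideal.Quotient.mk_surjective z
    have hz' : aeval α p = 0 := hz
    have h2 : aeval α (p.map (IsLocalRing.residue A)) = 0 := by
      change aeval α (p.map (algebraMap A k)) = 0
      rw [aeval_map_algebraMap]; exact hz'
    obtain ⟨q, hq⟩ := minpoly.dvd k α h2
    obtain ⟨Q, rfl⟩ := map_surjective _ IsLocalRing.residue_surjective q
    have h3 : Ideal.Quotient.mk (Ideal.span {F}) p = Ideal.Quotient.mk (Ideal.span {F}) (p - F * Q) := by
      have hFz : Ideal.Quotient.mk (Ideal.span {F}) F = 0 :=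
        Ideal.Quotient.eq_zero_iff_mem.2 (Ideal.subset_span rfl)
      rw [map_sub, map_mul, hFz, zero_mul, sub_zero]
    rw [h3]
    apply hmk_mem
    intro i
    rw [← IsLocalRing.residue_eq_zero_iff, ← coeff_map, Polynomial.map_sub, Polynomial.map_mul,
      hFmap, hq, sub_self, coeff_zero]
  have huniq : ∀ N : Ideal E, N.IsMaximal → N = M := by
    intro N hN
    have h1 : N.comap (algebraMap A E) = IsLocalRing.maximalIdeal A :=
      IsLocalRing.eq_maximalIdeal (Ideal.isMaximal_comap_of_isIntegral_of_isMaximal N)
    have h2 : (IsLocalRing.maximalIdeal A).map (algebraMap A E) ≤ N := by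
      rw [Ideal.map_le_iff_le_comap, h1]
    exact (hMmax.eq_of_le hN.ne_top (hMle.trans h2)).symm
  haveI : IsLocalRing E := IsLocalRing.of_unique_max_ideal ⟨M, hMmax, huniq⟩
  have hMeq : IsLocalRing.maximalIdeal E = M := (IsLocalRing.eq_maximalIdeal hMmax).symm
  haveI hloc : IsLocalHom (algebraMap A E) := by
    constructor
    intro a ha
    by_contra hna
    have ham : a ∈ IsLocalRing.maximalIdeal A := (IsLocalRing.mem_maximalIdeal a).2 hna
    have h0 : ψ (algebraMap A E a) = 0 := by
      rw [AlgHom.commutes]
      change algebraMap k l (IsLocalRing.residue A a) = 0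
      rw [(IsLocalRing.residue_eq_zero_iff a).2 ham, map_zero]
    exact (ha.map ψ).ne_zero h0
  refine ⟨E, inferInstance, inferInstance, inferInstance, hloc, inferInstance, inferInstance, ?_⟩
  have hg0 : ∀ a ∈ IsLocalRing.maximalIdeal E, ψ.toRingHom a = 0 := by
    intro a ha
    rw [hMeq] at ha
    exact ha
  let g : IsLocalRing.ResidueField E →+* l :=
    Ideal.Quotient.lift (IsLocalRing.maximalIdeal E) ψ.toRingHom hg0
  have hgres : ∀ z : E, g (IsLocalRing.residue E z) = ψ z := fun z => rfl
  let g' : IsLocalRing.ResidueField E →ₐ[k] l :=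
    { g with
      commutes' := by
        intro c
        obtain ⟨a, rfl⟩ := IsLocalRing.residue_surjective c
        change g (algebraMap k (IsLocalRing.ResidueField E) (IsLocalRing.residue A a)) = _
        have : algebraMap k (IsLocalRing.ResidueField E) (IsLocalRing.residue A a) =
            IsLocalRing.residue E (algebraMap A E a) := rfl
        rw [this, hgres, AlgHom.commutes]
        rfl }
  refine ⟨AlgEquiv.ofBijective g' ⟨g.injective, ?_⟩⟩
  intro x
  obtain ⟨z, rfl⟩ := hψsurj x
  exact ⟨IsLocalRing.residue E z, hgres z⟩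

end Groth.Agent.Lib.Helper12.MonoSep
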