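import Mathlib
import Groth.Agent.Lib.Helper12.MonoSep

set_option autoImplicit false
universe u

namespace Groth.Agent.Lib.Helper12.MonoSep

open Polynomial
open scoped TensorProduct

/-- monic lift of the minimal polynomial of the reduction of a generator -/
theorem exists_monic_lift_of_generator (A B : Type u) [CommRing A] [IsLocalRing A]
    [CommRing B] [Algebra A B] [Module.Finite A B] (u : B)
    (hu : ∀ x : B, ∃ p : A[X], x = aeval u p) :
    ∃ F : A[X], F.Monic ∧ aeval u F = 0 ∧
      ∀ G : A[X], aeval u G = 0 →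
        ∃ q : A[X], ∀ i, (G - F * q).coeff i ∈ IsLocalRing.maximalIdeal A := by
  classical
  let k := IsLocalRing.ResidueField A
  let Bb := k ⊗[A] B
  have hincl : Function.Surjective (Algebra.TensorProduct.includeRight : B →ₐ[A] Bb) :=
    TensorProduct.mk_surjective A B k IsLocalRing.residue_surjective
  set θ : Bb := (Algebra.TensorProduct.includeRight : B →ₐ[A] Bb) u with hθdef
  have hθ : ∀ x : Bb, ∃ p : k[X], x = aeval θ p := by
    intro x
    obtain ⟨b, rfl⟩ := hincl x
    obtain ⟨p, rfl⟩ := hu b
    refine ⟨p.map (algebraMap A k), ?_⟩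
    rw [aeval_map_algebraMap, hθdef, aeval_algHom_apply]
  have hint : IsIntegral k θ := Algebra.IsIntegral.isIntegral θ
  have hadj : Algebra.adjoin k {θ} = ⊤ := by
    rw [Algebra.adjoin_singleton_eq_range_aeval, eq_top_iff]
    intro x _
    obtain ⟨p, hp⟩ := hθ x
    exact ⟨p, hp.symm⟩
  let pb := PowerBasis.ofAdjoinEqTop hint hadj
  have hdim : pb.dim = (minpoly k θ).natDegree := rfl
  have hspan : Submodule.span A (Set.range fun i : Fin pb.dim => u ^ (i : ℕ)) = ⊤ := by
    refine IsLocalRing.span_eq_top_of_tmul_eq_basis _ pb.basis fun i => ?_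
    rw [pb.basis_eq_pow]
    change _ = θ ^ (i : ℕ)
    rw [hθdef]
    change _ = ((1 : k) ⊗ₜ[A] u) ^ (i : ℕ)
    rw [Algebra.TensorProduct.tmul_pow, one_pow]
  obtain ⟨c, hc⟩ := (Submodule.mem_span_range_iff_exists_fun A).1
    (show u ^ pb.dim ∈ Submodule.span A (Set.range fun i : Fin pb.dim => u ^ (i : ℕ)) by
      rw [hspan]; trivial)
  set P : A[X] := ∑ i : Fin pb.dim, C (c i) * X ^ (i : ℕ) with hP
  have hPdeg : P.degree < pb.dim := degree_sum_fin_lt c
  set F : A[X] := X ^ pb.dim - P with hF
  have hFmonic : F.Monic := monic_X_pow_sub hPdeg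
  have hFdeg : F.natDegree = pb.dim := by
    apply natDegree_eq_of_degree_eq_some
    rw [hF, degree_sub_eq_left_of_degree_lt (by rwa [degree_X_pow]), degree_X_pow]
  have hFu : aeval u F = 0 := by
    rw [hF, map_sub, map_pow, aeval_X, hP, map_sum, ← hc, sub_eq_zero]
    refine Finset.sum_congr rfl fun i _ => ?_
    rw [map_mul, aeval_C, map_pow, aeval_X, Algebra.smul_def]
  have hFb : aeval θ (F.map (IsLocalRing.residue A)) = 0 := by
    have : (IsLocalRing.residue A) = algebraMap A k := rfl
    rw [this, aeval_map_algebraMap, hθdef, aeval_algHom_apply, hFu, map_zero]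
  have hmonic' : (F.map (IsLocalRing.residue A)).Monic := hFmonic.map _
  have hdvd : minpoly k θ ∣ F.map (IsLocalRing.residue A) := minpoly.dvd k θ hFb
  have heq : F.map (IsLocalRing.residue A) = minpoly k θ := by
    refine eq_of_monic_of_dvd_of_natDegree_le (minpoly.monic hint) hmonic' hdvd ?_
    rw [hFmonic.natDegree_map, hFdeg, hdim]
  refine ⟨F, hFmonic, hFu, fun G hG => ?_⟩
  have hGb : aeval θ (G.map (IsLocalRing.residue A)) = 0 := by
    have : (IsLocalRing.residue A) = algebraMap A k := rfl
    rw [this, aeval_map_algebraMap, hθdef, aeval_algHom_apply, hG, map_zero]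
  obtain ⟨q, hq⟩ := minpoly.dvd k θ hGb
  obtain ⟨Q, rfl⟩ := map_surjective _ IsLocalRing.residue_surjective q
  refine ⟨Q, fun i => ?_⟩
  rw [← IsLocalRing.residue_eq_zero_iff, ← coeff_map, Polynomial.map_sub, Polynomial.map_mul,
    heq, hq, sub_self, coeff_zero]

/-- at an unramified prime of a monogenic algebra some relation has derivative outside the prime -/
theorem exists_derivative_notMem (A B : Type u) [CommRing A] [CommRing B] [Algebra A B] (u : B)
    (hu : ∀ x : B, ∃ p : A[X], x = aeval u p) (n : Ideal B) [hnp : n.IsPrime]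
    (hn : Algebra.IsUnramifiedAt A n) :
    ∃ G : A[X], aeval u G = 0 ∧ aeval u (derivative G) ∉ n := by
  classical
  by_contra hcon
  push Not at hcon
  -- `hcon : ∀ G, aeval u G = 0 → aeval u G' ∈ n`
  have WD : ∀ p q : A[X], aeval u p = aeval u q →
      Ideal.Quotient.mk n (aeval u (derivative p)) = Ideal.Quotient.mk n (aeval u (derivative q)) := by
    intro p q hpq
    have := hcon (p - q) (by rw [map_sub, hpq, sub_self])
    rw [derivative_sub, map_sub] at this
    rw [← sub_eq_zero, ← map_sub]
    exact Ideal.Quotient.eq_zero_iff_mem.2 this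
  let rep : B → A[X] := fun b => (hu b).choose
  have hrep : ∀ b, aeval u (rep b) = b := fun b => ((hu b).choose_spec).symm
  let d : Derivation A B (B ⧸ n) :=
    { toFun := fun b => Ideal.Quotient.mk n (aeval u (derivative (rep b)))
      map_add' := by
        intro b c
        rw [← map_add, ← map_add, ← derivative_add]
        exact WD _ _ (by rw [hrep, map_add, hrep, hrep])
      map_smul' := by
        intro a b
        simp only [RingHom.id_apply]
        have h1 : a • Ideal.Quotient.mk n (aeval u (derivative (rep b))) =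
            Ideal.Quotient.mk n (aeval u (derivative (a • rep b))) := by
          rw [derivative_smul, map_smul]
          rfl
        rw [h1]
        exact WD _ _ (by rw [hrep, map_smul, hrep])
      map_one_eq_zero' := by
        change Ideal.Quotient.mk n (aeval u (derivative (rep 1))) = 0
        rw [WD (rep 1) 1 (by rw [hrep, map_one]), derivative_one, map_zero, map_zero]
      leibniz' := by
        intro b c
        change Ideal.Quotient.mk n (aeval u (derivative (rep (b * c)))) =
          b • Ideal.Quotient.mk n (aeval u (derivative (rep c))) +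
            c • Ideal.Quotient.mk n (aeval u (derivative (rep b)))
        rw [WD (rep (b * c)) (rep b * rep c) (by rw [hrep, map_mul, hrep, hrep]), derivative_mul,
          map_add, map_mul, map_mul, hrep, hrep, map_add]
        have h1 : ∀ x y : B, x • Ideal.Quotient.mk n y = Ideal.Quotient.mk n (x * y) :=
          fun x y => rfl
        rw [h1, h1, add_comm, mul_comm c] }
  have hdu : d u = 1 := by
    change Ideal.Quotient.mk n (aeval u (derivative (rep u))) = 1
    rw [WD (rep u) X (by rw [hrep, aeval_X]), derivative_X, map_one, map_one]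
  have hmem : (⟨n, hnp⟩ : PrimeSpectrum B) ∈ Algebra.unramifiedLocus A B := hn
  rw [Algebra.unramifiedLocus_eq_compl_support, Set.mem_compl_iff,
    Module.notMem_support_iff'] at hmem
  obtain ⟨r, hr, hr0⟩ := hmem (KaehlerDifferential.D A B u)
  have := congrArg d.liftKaehlerDifferential hr0
  rw [map_smul, Derivation.liftKaehlerDifferential_comp_D, hdu, map_zero] at this
  apply hr
  have h2 : r • (1 : B ⧸ n) = Ideal.Quotient.mk n r := by
    change Ideal.Quotient.mk n (r * 1) = _
    rw [mul_one]
  rw [h2] at this
  exact Ideal.Quotient.eq_zero_iff_mem.1 this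

theorem exists_monic_derivative_notMem (A B : Type u) [CommRing A] [IsLocalRing A]
    [CommRing B] [Algebra A B] [Module.Finite A B] (u : B)
    (hu : Algebra.adjoin A ({u} : Set B) = ⊤) :
    ∃ F : Polynomial A, F.Monic ∧ Polynomial.aeval u F = 0 ∧
      ∀ (n : Ideal B) [n.IsMaximal], Algebra.IsUnramifiedAt A n →
        Polynomial.aeval u (Polynomial.derivative F) ∉ n := by
  have hu' : ∀ x : B, ∃ p : A[X], x = aeval u p := by
    intro x
    have hx : x ∈ Algebra.adjoin A ({u} : Set B) := by rw [hu]; trivial
    rw [Algebra.adjoin_singleton_eq_range_aeval] at hx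
    obtain ⟨p, hp⟩ := hx
    exact ⟨p, hp.symm⟩
  obtain ⟨F, hFm, hFu, hFG⟩ := exists_monic_lift_of_generator A B u hu'
  refine ⟨F, hFm, hFu, ?_⟩
  intro n hnmax hn hFn
  obtain ⟨G, hGu, hGn⟩ := exists_derivative_notMem A B u hu' n hn
  obtain ⟨q, hq⟩ := hFG G hGu
  apply hGn
  have hcomap : n.comap (algebraMap A B) = IsLocalRing.maximalIdeal A :=
    IsLocalRing.eq_maximalIdeal (Ideal.isMaximal_comap_of_isIntegral_of_isMaximal n)
  have hεn : ∀ g : A[X], (∀ i, g.coeff i ∈ IsLocalRing.maximalIdeal A) → aeval u g ∈ n := by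
    intro g hg
    rw [aeval_eq_sum_range]
    refine Ideal.sum_mem _ fun i _ => ?_
    rw [Algebra.smul_def]
    refine Ideal.mul_mem_right _ _ ?_
    have : g.coeff i ∈ n.comap (algebraMap A B) := by rw [hcomap]; exact hg i
    exact this
  have hG : G = F * q + (G - F * q) := by ring
  have hG' : aeval u (derivative G) = aeval u (derivative F) * aeval u q +
      aeval u (derivative (G - F * q)) := by
    conv_lhs => rw [hG]
    rw [derivative_add, derivative_mul, map_add, map_add, map_mul, map_mul, hFu, zero_mul,
      add_zero]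
  rw [hG']
  refine Ideal.add_mem _ (Ideal.mul_mem_right _ _ hFn) (hεn _ fun i => ?_)
  rw [coeff_derivative]
  exact Ideal.mul_mem_right _ _ (hq _)

end Groth.Agent.Lib.Helper12.MonoSep
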