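import Mathlib
import Groth.Agent.Lib.Helper12.MonoSep

set_option autoImplicit false
universe u

namespace Groth.Agent.Lib.Helper12.MonoSep

open Polynomial

theorem etale_adjoinRoot_X_pow_sub_one (A : Type u) [CommRing A] (n : ℕ) (hn : 1 ≤ n) :
    Algebra.Etale A (AdjoinRoot ((X : A[X]) ^ n - 1)) ↔ IsUnit ((n : ℕ) : A) := by
  have hder : derivative ((X : A[X]) ^ n - 1) = C (n : A) * X ^ (n - 1) := by
    rw [derivative_sub, derivative_one, sub_zero, derivative_X_pow]
  constructor
  · intro hE
    haveI : Algebra.FormallyUnramified A (AdjoinRoot ((X : A[X]) ^ n - 1)) := inferInstance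
    obtain ⟨a, b, hab⟩ := separable_of_formallyUnramified_adjoinRoot ((X : A[X]) ^ n - 1)
    rw [hder] at hab
    have h1 := congrArg (eval 1) hab
    simp only [eval_add, eval_mul, eval_sub, eval_pow, eval_X, one_pow, eval_one, sub_self,
      mul_zero, zero_add, eval_C, mul_one] at h1
    exact IsUnit.of_mul_eq_one _ (by rw [mul_comm]; exact h1)
  · intro hu
    obtain ⟨v, hv⟩ := hu.exists_right_inv
    have hmonic : ((X : A[X]) ^ n - 1).Monic := monic_X_pow_sub_C (1 : A) (by omega)
    have hsep : ((X : A[X]) ^ n - 1).Separable := by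
      refine ⟨-1, C v * X, ?_⟩
      rw [hder]
      have hX : (X : A[X]) ^ n = X * X ^ (n - 1) := by
        rw [← pow_succ', Nat.sub_add_cancel hn]
      have hC : C (n : A) * C v = (1 : A[X]) := by rw [← C_mul, hv, C_1]
      calc -1 * ((X : A[X]) ^ n - 1) + C v * X * (C (n : A) * X ^ (n - 1))
          = -1 * ((X : A[X]) ^ n - 1) + (C (n : A) * C v) * (X * X ^ (n - 1)) := by ring
        _ = 1 := by rw [hC, ← hX]; ring
    haveI : Algebra.FormallyEtale A (A[X] ⧸ Ideal.span {(X : A[X]) ^ n - 1}) :=
      formallyEtale_quotient_of_separable _ hmonic hsep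
    haveI : Algebra.FormallyEtale A (AdjoinRoot ((X : A[X]) ^ n - 1)) :=
      ‹Algebra.FormallyEtale A (A[X] ⧸ Ideal.span {(X : A[X]) ^ n - 1})›
    haveI : Algebra.FinitePresentation A (AdjoinRoot ((X : A[X]) ^ n - 1)) :=
      Algebra.FinitePresentation.quotient (Submodule.fg_span (Set.finite_singleton _))
    exact {}

end Groth.Agent.Lib.Helper12.MonoSep
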