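import Mathlib
import Groth.Agent.Lib.Helper12.MonoSep5

set_option autoImplicit false
universe u

namespace Groth.Agent.Lib.Helper12.MonoSep

open Polynomial IsLocalRing

/-- abstract core: a surjection `Π : R[X] → L` onto a local ring whose kernel is `(G)` with `G`
monic dividing `F`, such that `X - a₀` is not a unit of `L`, forces `G = X - a` with `a ≡ a₀` -/
theorem root_of_local_quotient (R : Type u) [CommRing R] [IsLocalRing R] (F G : R[X])
    (hG : G.Monic) (hGF : G ∣ F) (L : Type u) [CommRing L] [IsLocalRing L]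
    (Φ : R[X] →+* L) (hΦsurj : Function.Surjective Φ) (hΦ : ∀ p, Φ p = 0 ↔ G ∣ p)
    (a₀ : R) (h₁ : IsUnit (F.derivative.eval a₀)) (hnu : ¬ IsUnit (Φ (X - C a₀))) :
    ∃ a : R, F.IsRoot a ∧ a - a₀ ∈ maximalIdeal R := by
  classical
  let k := ResidueField R
  let ρ : R →+* k := residue R
  -- step 6: `G(a₀) ∈ m`
  have hGa : G.eval a₀ ∈ maximalIdeal R := by
    by_contra hna
    have hu : IsUnit (G.eval a₀) := by
      by_contra h
      exact hna ((mem_maximalIdeal _).2 h)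
    -- G = C (G a₀) + (X - C a₀) q
    have hdiv : (X - C a₀) * ((G - C (G.eval a₀)) /ₘ (X - C a₀)) = G - C (G.eval a₀) := by
      rw [mul_divByMonic_eq_iff_isRoot]
      simp [IsRoot]
    have h1 : Φ G = 0 := (hΦ G).2 dvd_rfl
    have h2 : Φ (X - C a₀) * Φ (-((G - C (G.eval a₀)) /ₘ (X - C a₀))) = Φ (C (G.eval a₀)) := by
      rw [← map_mul, mul_neg, hdiv, neg_sub, map_sub, h1, sub_zero]
    have h3 : IsUnit (Φ (C (G.eval a₀))) := (hu.map C).map Φ
    rw [← h2] at h3
    exact hnu (isUnit_of_mul_isUnit_left h3)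
  -- reduction mod m
  set Gb : k[X] := G.map ρ with hGb
  have hGbm : Gb.Monic := hG.map ρ
  have hroot : Gb.IsRoot (ρ a₀) := by
    rw [IsRoot, hGb, eval_map, eval₂_hom]
    exact (residue_eq_zero_iff _).2 hGa
  obtain ⟨H, rfl⟩ := hGF
  -- `G'(a₀)` is a unit
  have hG'u : IsUnit ((derivative G).eval a₀) := by
    rw [derivative_mul, eval_add, eval_mul, eval_mul] at h₁
    have h2 : G.eval a₀ * (derivative H).eval a₀ ∈ maximalIdeal R :=
      Ideal.mul_mem_right _ _ hGa
    by_contra hnu'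
    have h3 : (derivative G).eval a₀ ∈ maximalIdeal R := (mem_maximalIdeal _).2 hnu'
    have h4 : (derivative G).eval a₀ * H.eval a₀ + G.eval a₀ * (derivative H).eval a₀ ∈
        maximalIdeal R := Ideal.add_mem _ (Ideal.mul_mem_right _ _ h3) h2
    exact (mem_maximalIdeal _).1 h4 h₁
  have hGb' : (derivative Gb).eval (ρ a₀) ≠ 0 := by
    rw [hGb, derivative_map, eval_map, eval₂_hom]
    intro h
    exact (mem_maximalIdeal _).1 ((residue_eq_zero_iff _).1 h) hG'u
  -- factor out the simple root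
  set g₁ : k[X] := Gb /ₘ (X - C (ρ a₀)) with hg₁
  have hfac : (X - C (ρ a₀)) * g₁ = Gb := mul_divByMonic_eq_iff_isRoot.2 hroot
  have hg₁root : g₁.eval (ρ a₀) ≠ 0 := by
    rw [← hfac, derivative_mul, eval_add, eval_mul, eval_mul] at hGb'
    simpa using hGb'
  -- coprimality
  obtain ⟨α, β, hαβ⟩ : IsCoprime (X - C (ρ a₀)) g₁ := by
    have hdiv : (X - C (ρ a₀)) * ((g₁ - C (g₁.eval (ρ a₀))) /ₘ (X - C (ρ a₀))) =
        g₁ - C (g₁.eval (ρ a₀)) := by
      rw [mul_divByMonic_eq_iff_isRoot]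
      simp [IsRoot]
    set q₁ := (g₁ - C (g₁.eval (ρ a₀))) /ₘ (X - C (ρ a₀))
    refine ⟨-(C (g₁.eval (ρ a₀))⁻¹ * q₁), C (g₁.eval (ρ a₀))⁻¹, ?_⟩
    have hc : C (g₁.eval (ρ a₀))⁻¹ * C (g₁.eval (ρ a₀)) = (1 : k[X]) := by
      rw [← C_mul, inv_mul_cancel₀ hg₁root, C_1]
    calc -(C (g₁.eval (ρ a₀))⁻¹ * q₁) * (X - C (ρ a₀)) + C (g₁.eval (ρ a₀))⁻¹ * g₁
        = C (g₁.eval (ρ a₀))⁻¹ * (g₁ - (X - C (ρ a₀)) * q₁) := by ring
      _ = 1 := by rw [hdiv, sub_sub_cancel, hc]
  -- elements reducing to zero map into the maximal ideal of `L`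
  have hΦC : ∀ r ∈ maximalIdeal R, Φ (C r) ∈ maximalIdeal L := by
    intro r hr
    by_contra hnm
    have hu : IsUnit (Φ (C r)) := by
      by_contra h
      exact hnm ((mem_maximalIdeal _).2 h)
    obtain ⟨y, hy⟩ := hu.exists_right_inv
    obtain ⟨s, rfl⟩ := hΦsurj y
    have h1 : Φ (C r * s - 1) = 0 := by rw [map_sub, map_mul, hy, map_one, sub_self]
    obtain ⟨w, hw⟩ := (hΦ _).1 h1
    have h2 := congrArg (Polynomial.map ρ) hw
    rw [Polynomial.map_sub, Polynomial.map_mul, Polynomial.map_mul, Polynomial.map_one, map_C,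
      (residue_eq_zero_iff r).2 hr, C_0, zero_mul, zero_sub] at h2
    have h3 : IsUnit Gb := IsUnit.of_mul_eq_one (-(w.map ρ)) (by rw [hGb, mul_neg, ← h2, neg_neg])
    rw [hGbm.isUnit_iff] at h3
    rw [h3, IsRoot, eval_one] at hroot
    exact one_ne_zero hroot
  have hΦm : ∀ p : R[X], p.map ρ = 0 → Φ p ∈ maximalIdeal L := by
    intro p hp
    rw [p.as_sum_range_C_mul_X_pow, map_sum]
    refine Ideal.sum_mem _ fun i _ => ?_
    rw [map_mul]
    refine Ideal.mul_mem_right _ _ (hΦC _ ?_)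
    rw [← residue_eq_zero_iff, ← coeff_map, hp, coeff_zero]
  -- lift
  obtain ⟨A', rfl⟩ := map_surjective ρ residue_surjective α
  obtain ⟨B', rfl⟩ := map_surjective ρ residue_surjective β
  obtain ⟨V, hV⟩ := map_surjective ρ residue_surjective g₁
  have hE₂ : (A' * (X - C a₀) + B' * V - 1).map ρ = 0 := by
    rw [Polynomial.map_sub, Polynomial.map_add, Polynomial.map_mul, Polynomial.map_mul,
      Polynomial.map_sub, map_X, map_C, hV, Polynomial.map_one, hαβ, sub_self]
  have hVu : IsUnit (Φ V) := by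
    have h1 := hΦm _ hE₂
    have h2 : Φ (X - C a₀) ∈ maximalIdeal L := (mem_maximalIdeal _).2 hnu
    have h3 : Φ B' * Φ V = 1 + (Φ (A' * (X - C a₀) + B' * V - 1) - Φ A' * Φ (X - C a₀)) := by
      rw [map_sub, map_add, map_mul, map_mul, map_one]; ring
    have h4 : Φ (A' * (X - C a₀) + B' * V - 1) - Φ A' * Φ (X - C a₀) ∈ maximalIdeal L :=
      Ideal.sub_mem _ h1 (Ideal.mul_mem_left _ _ h2)
    have h5 : IsUnit (Φ B' * Φ V) := by
      rw [h3]
      by_contra hnu5
      have h6 := (mem_maximalIdeal _).2 hnu5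
      have h7 : (1 : L) ∈ maximalIdeal L := by
        have := Ideal.sub_mem _ h6 h4
        rwa [add_sub_cancel_right] at this
      exact (Ideal.ne_top_iff_one _).1 (maximalIdeal.isMaximal L).ne_top h7
    exact isUnit_of_mul_isUnit_right h5
  -- hence `g₁` is a unit
  have hg₁u : IsUnit g₁ := by
    obtain ⟨y, hy⟩ := hVu.exists_right_inv
    obtain ⟨W, rfl⟩ := hΦsurj y
    have h1 : Φ (V * W - 1) = 0 := by rw [map_sub, map_mul, hy, map_one, sub_self]
    obtain ⟨w, hw⟩ := (hΦ _).1 h1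
    have h2 := congrArg (Polynomial.map ρ) hw
    rw [Polynomial.map_sub, Polynomial.map_mul, Polynomial.map_mul, Polynomial.map_one, hV,
      ← hGb, ← hfac] at h2
    refine IsUnit.of_mul_eq_one (W.map ρ - (X - C (ρ a₀)) * w.map ρ) ?_
    linear_combination h2
  have hdeg : G.natDegree = 1 := by
    rw [← hG.natDegree_map ρ, ← hGb, ← hfac, natDegree_mul (X_sub_C_ne_zero _) hg₁u.ne_zero,
      natDegree_X_sub_C, natDegree_eq_zero_of_isUnit hg₁u]
  have hGeq := hG.eq_X_add_C hdeg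
  refine ⟨-G.coeff 0, ?_, ?_⟩
  · rw [IsRoot, eval_mul]
    have : G.eval (-G.coeff 0) = 0 := by
      rw [hGeq]; simp
    rw [this, zero_mul]
  · have h1 : G.eval a₀ = a₀ + G.coeff 0 := by
      conv_lhs => rw [hGeq]
      simp
    rw [h1] at hGa
    have : -G.coeff 0 - a₀ = -(a₀ + G.coeff 0) := by ring
    rw [this]
    exact Ideal.neg_mem_iff _ |>.2 hGa

theorem henselian_of_forall_prod_local (R : Type u) [CommRing R] [IsLocalRing R]
    (h : ∀ F : Polynomial R, F.Monic →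
      ∃ (ι : Type u) (_ : Fintype ι) (A : ι → Type u) (_ : ∀ i, CommRing (A i)),
        (∀ i, IsLocalRing (A i)) ∧ Nonempty (AdjoinRoot F ≃+* (∀ i, A i))) :
    HenselianLocalRing R := by
  classical
  refine { is_henselian := fun F hF a₀ h₀ h₁ => ?_ }
  obtain ⟨ι, hι, A, hA, hloc, ⟨ε'⟩⟩ := h F hF
  let ε : (R[X] ⧸ Ideal.span {F}) ≃+* (∀ i, A i) := ε'
  let mkF := Ideal.Quotient.mk (Ideal.span {F})
  have hdvdF : ∀ p : R[X], mkF p = 0 → F ∣ p := fun p hp =>
    Ideal.mem_span_singleton.1 (Ideal.Quotient.eq_zero_iff_mem.1 hp)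
  set t := mkF (X - C a₀) with ht
  have htnu : ¬ IsUnit t := by
    intro hu
    obtain ⟨s, hs⟩ := hu.exists_right_inv
    obtain ⟨q, rfl⟩ := Ideal.Quotient.mk_surjective s
    have h1 : mkF ((X - C a₀) * q - 1) = 0 := by
      rw [map_sub, map_mul, map_one]
      exact sub_eq_zero.2 hs
    obtain ⟨w, hw⟩ := hdvdF _ h1
    have h2 := congrArg (eval a₀) hw
    simp only [eval_sub, eval_mul, eval_X, eval_C, sub_self, zero_mul, eval_one, zero_sub] at h2
    have h3 : (-1 : R) ∈ maximalIdeal R := by rw [h2]; exact Ideal.mul_mem_right _ _ h₀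
    have h4 : (1 : R) ∈ maximalIdeal R := by simpa using Ideal.neg_mem_iff _ |>.2 h3
    exact (Ideal.ne_top_iff_one _).1 (maximalIdeal.isMaximal R).ne_top h4
  have hεt : ¬ IsUnit (ε t) := fun hu => htnu (by
    have := hu.map ε.symm.toRingHom
    simpa using this)
  rw [Pi.isUnit_iff] at hεt
  push Not at hεt
  obtain ⟨i₀, hi₀⟩ := hεt
  let e : R[X] ⧸ Ideal.span {F} := ε.symm (Pi.single i₀ 1)
  have hεe : ε e = Pi.single i₀ 1 := ε.apply_symm_apply _
  have he : IsIdempotentElem e := by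
    change e * e = e
    apply ε.injective
    rw [map_mul, hεe, ← Pi.single_mul, mul_one]
  obtain ⟨G, H, hGm, -, -, hGH, hGe, -⟩ := idempotent_factorization R F hF (1 - e) he.one_sub
  haveI := hloc i₀
  let Φ : R[X] →+* A i₀ := (Pi.evalRingHom A i₀).comp (ε.toRingHom.comp mkF)
  have hΦapp : ∀ p, Φ p = ε (mkF p) i₀ := fun p => rfl
  have hΦsurj : Function.Surjective Φ := by
    intro y
    obtain ⟨b, hb⟩ := ε.surjective (Pi.single i₀ y)
    obtain ⟨p, rfl⟩ := Ideal.Quotient.mk_surjective b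
    refine ⟨p, ?_⟩
    rw [hΦapp]
    change ε (mkF p) i₀ = y
    rw [hb, Pi.single_eq_same]
  have hΦ : ∀ p, Φ p = 0 ↔ G ∣ p := by
    intro p
    constructor
    · intro hp
      rw [hΦapp] at hp
      have h1 : mkF p * e = 0 := by
        apply ε.injective
        rw [map_mul, hεe, map_zero]
        funext i
        by_cases hi : i = i₀
        · subst hi
          rw [Pi.mul_apply, hp, zero_mul]; rfl
        · rw [Pi.mul_apply, Pi.single_eq_of_ne hi, mul_zero]; rfl
      have h2 : mkF p ∈ Ideal.span {mkF G} := by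
        rw [hGe]
        have : mkF p = mkF p * (1 - e) := by rw [mul_sub, mul_one, h1, sub_zero]
        rw [this]
        exact Ideal.mul_mem_left _ _ (Ideal.subset_span rfl)
      obtain ⟨z, hz⟩ := Ideal.mem_span_singleton'.1 h2
      obtain ⟨z, rfl⟩ := Ideal.Quotient.mk_surjective z
      have h3 : mkF (p - z * G) = 0 := by rw [map_sub, map_mul, hz, sub_self]
      obtain ⟨w, hw⟩ := hdvdF _ h3
      refine ⟨z + H * w, ?_⟩
      have : p = z * G + F * w := by rw [← hw]; ring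
      rw [this, ← hGH]; ring
    · rintro ⟨z, rfl⟩
      rw [hΦapp]
      have h1 : mkF G ∈ Ideal.span {1 - e} := by rw [← hGe]; exact Ideal.subset_span rfl
      obtain ⟨b, hb⟩ := Ideal.mem_span_singleton'.1 h1
      rw [map_mul, ← hb, map_mul, map_mul, map_sub, map_one, hεe]
      simp
  exact root_of_local_quotient R F G hGm ⟨H, hGH.symm⟩ (A i₀) Φ hΦsurj hΦ a₀ h₁ hi₀

end Groth.Agent.Lib.Helper12.MonoSep
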