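import Mathlib
import Groth.Agent.Lib.Helper12.OneDim

/-! The multiplicity formula `len(M/tM) = len(M[t]) + Σ_p len(M_p) · len(B/(p,t))` for finite modules
with one-dimensional support over a Noetherian local ring. -/

set_option autoImplicit false
universe u v

namespace Groth.Agent.Lib.Helper12.MultFormula

open Function IsLocalRing
open scoped Pointwise

section finlen

variable {B : Type u} [CommRing B] [IsNoetherianRing B] [IsLocalRing B]

theorem isSimpleModule_residue : IsSimpleModule B (B ⧸ maximalIdeal B) :=
  isSimpleModule_iff_quot_maximal.mpr ⟨maximalIdeal B, inferInstance, ⟨LinearEquiv.refl _ _⟩⟩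

/-- A finite module supported at the closed point has finite length. -/
theorem isFiniteLength_of_support (N : Type v) [AddCommGroup N] [Module B N] [hN : Module.Finite B N]
    (h : ∀ q ∈ Module.support B N, q = closedPoint B) : IsFiniteLength B N := by
  induction hN using IsNoetherianRing.induction_on_isQuotientEquivQuotientPrime B with
  | subsingleton N => exact IsFiniteLength.of_subsingleton
  | quotient N p e =>
    have hp : p ∈ Module.support B N := by
      rw [e.support_eq, Module.mem_support_iff_of_finite, Ideal.annihilator_quotient]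
    have hpm : p.asIdeal = maximalIdeal B := by rw [h p hp]; rfl
    rw [hpm] at e
    haveI := isSimpleModule_residue (B := B)
    haveI : IsSimpleModule B N := IsSimpleModule.congr e
    rw [← Module.length_ne_top_iff, Module.length_eq_one]
    exact ENat.one_ne_top
  | exact N₁ N₂ N₃ f g hf hg hfg h₁ h₃ =>
    have h1 := h₁ fun q hq => h q (Module.support_subset_of_injective f hf hq)
    have h3 := h₃ fun q hq => h q (Module.support_subset_of_surjective g hg hq)
    rw [isFiniteLength_iff_isNoetherian_isArtinian] at h1 h3 ⊢
    haveI := h1.2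
    haveI := h3.2
    exact ⟨inferInstance, isArtinian_of_range_eq_ker f g (LinearMap.exact_iff.mp hfg).symm⟩

end finlen

section loc

variable {B : Type u} [CommRing B] (p : Ideal B) [hp : p.IsPrime]

/-- The length of the localization at `p`. -/
noncomputable def ell (N : Type v) [AddCommGroup N] [Module B N] : ℕ∞ :=
  Module.length (Localization.AtPrime p) (LocalizedModule p.primeCompl N)

variable {N₁ N₂ N₃ : Type v} [AddCommGroup N₁] [Module B N₁] [AddCommGroup N₂] [Module B N₂]
  [AddCommGroup N₃] [Module B N₃]

theorem ell_add (f : N₁ →ₗ[B] N₂) (g : N₂ →ₗ[B] N₃) (hf : Injective f) (hg : Surjective g)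
    (hfg : Exact f g) : ell p N₂ = ell p N₁ + ell p N₃ := by
  apply Module.length_eq_add_of_exact (LocalizedModule.map p.primeCompl f)
    (LocalizedModule.map p.primeCompl g) (LocalizedModule.map_injective _ f hf)
    (LocalizedModule.map_surjective _ g hg)
  exact LocalizedModule.map_exact p.primeCompl f g hfg

theorem ell_congr {N N' : Type*} [AddCommGroup N] [Module B N] [AddCommGroup N'] [Module B N']
    (e : N ≃ₗ[B] N') : ell p N = ell p N' :=
  (IsLocalizedModule.mapEquiv p.primeCompl (LocalizedModule.mkLinearMap p.primeCompl N)
    (LocalizedModule.mkLinearMap p.primeCompl N') (Localization.AtPrime p) e).length_eq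

theorem ell_eq_zero (h : (⟨p, hp⟩ : PrimeSpectrum B) ∉ Module.support B N₁) : ell p N₁ = 0 := by
  rw [Module.notMem_support_iff] at h
  exact Module.length_eq_zero_iff.mpr h

theorem ell_quot_self : ell p (B ⧸ p) = 1 := by
  rw [ell, Module.length_eq_one_iff, isSimpleModule_iff_toSpanSingleton_surjective]
  have hne : ∀ (x : B) (s : p.primeCompl),
      LocalizedModule.mk (Ideal.Quotient.mk p x) s = 0 ↔ x ∈ p := by
    intro x s
    rw [← LocalizedModule.zero_mk 1, LocalizedModule.mk_eq]
    constructor
    · rintro ⟨u, hu⟩
      rw [smul_zero, one_smul, smul_zero] at hu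
      have h1 : Ideal.Quotient.mk p (u * x) = 0 := by
        rw [map_mul]; exact hu
      rw [Ideal.Quotient.eq_zero_iff_mem] at h1
      exact (hp.mem_or_mem h1).resolve_left u.2
    · intro hx
      refine ⟨1, ?_⟩
      rw [Ideal.Quotient.eq_zero_iff_mem.mpr hx]
      simp
  constructor
  · refine ⟨⟨LocalizedModule.mk (Ideal.Quotient.mk p 1) 1, 0, ?_⟩⟩
    rw [Ne, hne]
    exact fun h => hp.ne_top ((Ideal.eq_top_iff_one _).mpr h)
  · intro m hm
    induction m using LocalizedModule.induction_on with
    | h x s =>
      obtain ⟨x, rfl⟩ := Ideal.Quotient.mk_surjective x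
      have hx : x ∉ p := fun h => hm ((hne x s).mpr h)
      intro y
      induction y using LocalizedModule.induction_on with
      | h y s' =>
        obtain ⟨y, rfl⟩ := Ideal.Quotient.mk_surjective y
        have hx' : x ∈ p.primeCompl := hx
        refine ⟨Localization.mk (y * s) (⟨x, hx'⟩ * s'), ?_⟩
        rw [LinearMap.toSpanSingleton_apply]
        refine (LocalizedModule.mk_smul_mk (y * s)
          (Ideal.Quotient.mk p x) (⟨x, hx'⟩ * s') s).trans ?_
        rw [LocalizedModule.mk_eq]
        refine ⟨1, ?_⟩
        simp only [one_smul, Submonoid.smul_def, Submonoid.coe_mul, smul_eq_mul, Algebra.smul_def,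
          Ideal.Quotient.algebraMap_eq, ← map_mul]
        congr 1
        ring

end loc

section formula

variable {B : Type u} [CommRing B] [IsNoetherianRing B] [IsLocalRing B] (t : B)
  (T : Finset (PrimeSpectrum B))

/-- The weight `len (B/(p,t))` of a prime. -/
noncomputable def wt (p : PrimeSpectrum B) : ℕ∞ :=
  Module.length B (QuotSMulTop t (B ⧸ p.asIdeal))

/-- The weighted sum of localized lengths. -/
noncomputable def wsum (N : Type v) [AddCommGroup N] [Module B N] : ℕ∞ :=
  ∑ p ∈ T, ell p.asIdeal N * wt t p

/-- `V(t) ∩ Supp N` is contained in the closed point. -/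
def Cond (N : Type v) [AddCommGroup N] [Module B N] : Prop :=
  ∀ q ∈ Module.support B N, t ∈ q.asIdeal → q = closedPoint B

/-- The support is contained in `T ∪ {m}`. -/
def SuppIn (N : Type v) [AddCommGroup N] [Module B N] : Prop :=
  ∀ q ∈ Module.support B N, q = closedPoint B ∨ q ∈ T

variable {t T}

theorem length_ker_lt_top {N : Type v} [AddCommGroup N] [Module B N] [Module.Finite B N]
    (hC : Cond t N) : Module.length B (LinearMap.ker (t • (LinearMap.id : N →ₗ[B] N))) < ⊤ := by
  rw [lt_top_iff_ne_top, Module.length_ne_top_iff]
  apply isFiniteLength_of_support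
  intro q hq
  apply hC q (Module.support_subset_of_injective _ (Submodule.injective_subtype _) hq)
  apply Module.annihilator_le_of_mem_support hq
  rw [Module.mem_annihilator]
  rintro ⟨x, hx⟩
  rw [LinearMap.mem_ker, LinearMap.smul_apply, LinearMap.id_apply] at hx
  exact Subtype.ext hx

theorem length_quot_lt_top {N : Type v} [AddCommGroup N] [Module B N] [Module.Finite B N]
    (hC : Cond t N) : Module.length B (QuotSMulTop t N) < ⊤ := by
  rw [lt_top_iff_ne_top, Module.length_ne_top_iff]
  apply isFiniteLength_of_support
  intro q hq
  rw [Module.support_quotSMulTop] at hq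
  exact hC q hq.1 (hq.2 (Set.mem_singleton t))

theorem mem_support_quot_iff (q p : PrimeSpectrum B) :
    p ∈ Module.support B (B ⧸ q.asIdeal) ↔ q.asIdeal ≤ p.asIdeal := by
  rw [Module.mem_support_iff_of_finite, Ideal.annihilator_quotient]

theorem formula (hT1 : closedPoint B ∉ T)
    (hT2 : ∀ p ∈ T, ∀ q ∈ T, p.asIdeal ≤ q.asIdeal → p = q)
    (N : Type v) [AddCommGroup N] [Module B N] [hN : Module.Finite B N]
    (hC : Cond t N) (hS : SuppIn T N) :
    Module.length B (QuotSMulTop t N) =
      Module.length B (LinearMap.ker (t • (LinearMap.id : N →ₗ[B] N))) + wsum t T N := by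
  induction hN using IsNoetherianRing.induction_on_isQuotientEquivQuotientPrime B with
  | subsingleton N =>
    rw [Module.length_eq_zero, Module.length_eq_zero, zero_add, wsum]
    symm
    apply Finset.sum_eq_zero
    intro p _
    rw [ell, Module.length_eq_zero, zero_mul]
  | quotient N q e =>
    have hell : ∀ p : PrimeSpectrum B, ¬ q.asIdeal ≤ p.asIdeal → ell p.asIdeal N = 0 := by
      intro p hp
      rw [ell_congr p.asIdeal e]
      apply ell_eq_zero
      rwa [mem_support_quot_iff]
    have hqN : q ∈ Module.support B N := by
      rw [e.support_eq, mem_support_quot_iff]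
    by_cases hq : q = closedPoint B
    · -- finite length
      have hfin : Module.length B N < ⊤ := by
        rw [lt_top_iff_ne_top, Module.length_ne_top_iff]
        apply isFiniteLength_of_support
        intro p hp
        rw [e.support_eq, mem_support_quot_iff, hq] at hp
        exact PrimeSpectrum.ext ((IsLocalRing.eq_maximalIdeal
          (Ideal.IsMaximal.eq_of_le (maximalIdeal.isMaximal B) p.2.ne_top hp ▸
            maximalIdeal.isMaximal B)))
      rw [← OneDim.length_ker_eq_length_quot t N hfin]
      have : wsum t T N = 0 := by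
        apply Finset.sum_eq_zero
        intro p hp
        rw [hell p, zero_mul]
        intro hle
        rw [hq] at hle
        have : p = closedPoint B := PrimeSpectrum.ext
          ((Ideal.IsMaximal.eq_of_le (maximalIdeal.isMaximal B) p.2.ne_top hle).symm)
        exact hT1 (this ▸ hp)
      rw [this, add_zero]
    · have hqT : q ∈ T := (hS q hqN).resolve_left hq
      have htq : t ∉ q.asIdeal := fun h => hq (hC q hqN h)
      have hK : Subsingleton (LinearMap.ker (t • (LinearMap.id : N →ₗ[B] N))) := by
        constructor
        rintro ⟨x, hx⟩ ⟨y, hy⟩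
        rw [LinearMap.mem_ker, LinearMap.smul_apply, LinearMap.id_apply] at hx hy
        have h0 : ∀ z : N, t • z = 0 → z = 0 := by
          intro z hz
          apply e.injective
          rw [map_zero]
          have h1 : t • e z = 0 := by rw [← map_smul, hz, map_zero]
          obtain ⟨w, hw⟩ := Ideal.Quotient.mk_surjective (e z)
          rw [← hw, Algebra.smul_def, Ideal.Quotient.algebraMap_eq, ← map_mul,
            Ideal.Quotient.eq_zero_iff_mem] at h1
          rw [← hw, Ideal.Quotient.eq_zero_iff_mem]
          exact (q.2.mem_or_mem h1).resolve_left htq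
        apply Subtype.ext
        show x = y
        rw [h0 x hx, h0 y hy]
      rw [Module.length_eq_zero_iff.mpr hK, zero_add, (QuotSMulTop.congr t e).length_eq, wsum,
        Finset.sum_eq_single q]
      · rw [ell_congr q.asIdeal e, ell_quot_self, one_mul, wt]
      · intro p hp hpq
        rw [hell p, zero_mul]
        intro hle
        exact hpq (hT2 q hqT p hp hle).symm
      · intro h; exact absurd hqT h
  | exact N₁ N₂ N₃ f g hf hg hfg h₁ h₃ =>
    have hC1 : Cond t N₁ := fun q hq => hC q (Module.support_subset_of_injective f hf hq)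
    have hC3 : Cond t N₃ := fun q hq => hC q (Module.support_subset_of_surjective g hg hq)
    have hS1 : SuppIn T N₁ := fun q hq => hS q (Module.support_subset_of_injective f hf hq)
    have hS3 : SuppIn T N₃ := fun q hq => hS q (Module.support_subset_of_surjective g hg hq)
    have e1 := h₁ hC1 hS1
    have e3 := h₃ hC3 hS3
    have hsn := OneDim.length_snake t f g hf hg hfg
    have hw : wsum t T N₂ = wsum t T N₁ + wsum t T N₃ := by
      rw [wsum, wsum, wsum, ← Finset.sum_add_distrib]
      apply Finset.sum_congr rfl
      intro p _
      rw [ell_add p.asIdeal f g hf hg hfg, add_mul]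
    have k1 := length_ker_lt_top hC1
    have k3 := length_ker_lt_top hC3
    rw [e1, e3] at hsn
    rw [hw]
    have hfin : Module.length B (LinearMap.ker (t • (LinearMap.id : N₁ →ₗ[B] N₁))) +
        Module.length B (LinearMap.ker (t • (LinearMap.id : N₃ →ₗ[B] N₃))) ≠ ⊤ :=
      WithTop.add_ne_top.mpr ⟨k1.ne, k3.ne⟩
    have key : (Module.length B (LinearMap.ker (t • (LinearMap.id : N₁ →ₗ[B] N₁))) +
        Module.length B (LinearMap.ker (t • (LinearMap.id : N₃ →ₗ[B] N₃)))) +
        Module.length B (QuotSMulTop t N₂) =
        (Module.length B (LinearMap.ker (t • (LinearMap.id : N₁ →ₗ[B] N₁))) +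
        Module.length B (LinearMap.ker (t • (LinearMap.id : N₃ →ₗ[B] N₃)))) +
        (Module.length B (LinearMap.ker (t • (LinearMap.id : N₂ →ₗ[B] N₂))) +
          (wsum t T N₁ + wsum t T N₃)) := by
      rw [hsn]; ring
    exact ENat.add_right_injective_of_ne_top hfin key

end formula

end Groth.Agent.Lib.Helper12.MultFormula
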