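import Mathlib
import Groth.Agent.Lib.Helper12.MultFormula

/-! Consequences of the multiplicity formula. -/

set_option autoImplicit false
universe u v

namespace Groth.Agent.Lib.Helper12.MultFormula

open Function IsLocalRing
open scoped Pointwise

section enat

theorem enat_key {ι : Type*} [DecidableEq ι] (T : Finset ι) (l w : ι → ℕ∞) (k q : ℕ∞) (hq : q < ⊤)
    (hw : ∀ p ∈ T, 1 ≤ w p) (h : q = k + ∑ p ∈ T, l p * w p) :
    ∑ p ∈ T, l p ≤ q ∧ (∑ p ∈ T, l p = q ↔ k = 0 ∧ ∀ p ∈ T, l p = 0 ∨ w p = 1) := by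
  have hle : ∀ p ∈ T, l p ≤ l p * w p := fun p hp => le_mul_of_one_le_right' (hw p hp)
  have h1 : ∑ p ∈ T, l p ≤ ∑ p ∈ T, l p * w p := Finset.sum_le_sum hle
  have h2 : ∑ p ∈ T, l p ≤ q := by rw [h]; exact h1.trans le_add_self
  refine ⟨h2, ?_⟩
  have hfin : ∑ p ∈ T, l p ≠ ⊤ := (h2.trans_lt hq).ne
  constructor
  · intro heq
    constructor
    · by_contra hk
      have hk1 : 1 ≤ k := Order.one_le_iff_ne_zero.mpr hk
      have : ∑ p ∈ T, l p + 1 ≤ ∑ p ∈ T, l p := by
        calc ∑ p ∈ T, l p + 1 ≤ ∑ p ∈ T, l p * w p + k := add_le_add h1 hk1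
          _ = q := by rw [h, add_comm]
          _ = ∑ p ∈ T, l p := heq.symm
      exact absurd ((ENat.add_one_le_iff hfin).mp this) (lt_irrefl _)
    · intro p₀ hp₀
      by_contra hcon
      push Not at hcon
      obtain ⟨hl0, hw1⟩ := hcon
      have hw2 : 2 ≤ w p₀ := by
        have := hw p₀ hp₀
        rcases eq_or_lt_of_le this with h' | h'
        · exact absurd h'.symm hw1
        · have := Order.add_one_le_of_lt h'
          rwa [one_add_one_eq_two] at this
      have hl1 : 1 ≤ l p₀ := Order.one_le_iff_ne_zero.mpr hl0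
      have h3 : l p₀ + 1 ≤ l p₀ * w p₀ := by
        calc l p₀ + 1 ≤ l p₀ + l p₀ := add_le_add le_rfl hl1
          _ = l p₀ * 2 := by rw [mul_two]
          _ ≤ l p₀ * w p₀ := by gcongr
      have : ∑ p ∈ T, l p + 1 ≤ ∑ p ∈ T, l p := by
        calc ∑ p ∈ T, l p + 1 = (l p₀ + 1) + ∑ p ∈ T.erase p₀, l p := by
              rw [← Finset.add_sum_erase T l hp₀]; ring
          _ ≤ l p₀ * w p₀ + ∑ p ∈ T.erase p₀, l p * w p :=
              add_le_add h3 (Finset.sum_le_sum fun p hp => hle p (Finset.mem_of_mem_erase hp))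
          _ = ∑ p ∈ T, l p * w p := Finset.add_sum_erase T (fun p => l p * w p) hp₀
          _ ≤ q := by rw [h]; exact le_add_self
          _ = ∑ p ∈ T, l p := heq.symm
      exact absurd ((ENat.add_one_le_iff hfin).mp this) (lt_irrefl _)
  · rintro ⟨hk, hp⟩
    rw [h, hk, zero_add]
    apply Finset.sum_congr rfl
    intro p hpT
    rcases hp p hpT with h0 | h1
    · rw [h0, zero_mul]
    · rw [h1, mul_one]

end enat

section weights

variable {B : Type u} [CommRing B] [IsLocalRing B] (t : B)

theorem one_le_wt (htm : t ∈ maximalIdeal B) (p : PrimeSpectrum B) : 1 ≤ wt t p := by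
  rw [Order.one_le_iff_pos, wt, Module.length_pos_iff]
  by_contra h
  rw [not_nontrivial_iff_subsingleton] at h
  have := OneDim.subsingleton_of_subsingleton_quot t htm (B ⧸ p.asIdeal) h
  exact not_subsingleton (B ⧸ p.asIdeal) this

/-- `(B/p)/t(B/p) ≅ B/(p + (t))`. -/
theorem wt_eq (p : PrimeSpectrum B) :
    wt t p = Module.length B (B ⧸ (p.asIdeal ⊔ Ideal.span {t})) := by
  let φ : B →ₗ[B] QuotSMulTop t (B ⧸ p.asIdeal) :=
    (t • (⊤ : Submodule B (B ⧸ p.asIdeal))).mkQ ∘ₗ (Submodule.mkQ p.asIdeal)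
  have hφs : Surjective φ :=
    (Submodule.mkQ_surjective _).comp (Submodule.mkQ_surjective _)
  have hker : LinearMap.ker φ = p.asIdeal ⊔ Ideal.span {t} := by
    ext x
    rw [LinearMap.mem_ker, LinearMap.comp_apply, Submodule.mkQ_apply, Submodule.mkQ_apply,
      Submodule.Quotient.mk_eq_zero, Submodule.mem_smul_pointwise_iff_exists, Submodule.mem_sup]
    constructor
    · rintro ⟨y, -, hy⟩
      obtain ⟨y, rfl⟩ := Submodule.mkQ_surjective _ y
      rw [Submodule.mkQ_apply, ← Submodule.Quotient.mk_smul, eq_comm, Submodule.Quotient.eq] at hy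
      refine ⟨x - t • y, hy, t • y, ?_, by ring⟩
      rw [smul_eq_mul, mul_comm]
      exact Ideal.mul_mem_left _ _ (Ideal.subset_span rfl)
    · rintro ⟨a, ha, b, hb, rfl⟩
      obtain ⟨c, rfl⟩ := Ideal.mem_span_singleton'.mp hb
      refine ⟨Submodule.Quotient.mk c, trivial, ?_⟩
      rw [← Submodule.Quotient.mk_smul, Submodule.Quotient.eq, smul_eq_mul]
      have : t * c - (a + c * t) = -a := by ring
      rw [this]
      exact Submodule.neg_mem _ ha
  have e1 := (φ.quotKerEquivOfSurjective hφs).length_eq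
  have e2 := (Submodule.quotEquivOfEq _ _ hker).length_eq
  rw [wt, ← e1, e2]

theorem wt_eq_one_iff (p : PrimeSpectrum B) :
    wt t p = 1 ↔ (maximalIdeal B).map (Ideal.Quotient.mk p.asIdeal) =
      Ideal.span {Ideal.Quotient.mk p.asIdeal t} := by
  rw [wt_eq, Module.length_eq_one_iff, isSimpleModule_iff_isCoatom, ← Ideal.isMaximal_def]
  have hmap : Ideal.span {Ideal.Quotient.mk p.asIdeal t} =
      (p.asIdeal ⊔ Ideal.span {t}).map (Ideal.Quotient.mk p.asIdeal) := by
    rw [Ideal.map_sup, Ideal.map_span, Set.image_singleton, Ideal.map_quotient_self, bot_sup_eq]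
  constructor
  · intro hmax
    rw [hmap, IsLocalRing.eq_maximalIdeal hmax]
  · intro h
    have h1 : (maximalIdeal B) = p.asIdeal ⊔ Ideal.span {t} := by
      have := congrArg (Ideal.comap (Ideal.Quotient.mk p.asIdeal)) (h.trans hmap)
      rw [Ideal.comap_map_of_surjective _ Ideal.Quotient.mk_surjective,
        Ideal.comap_map_of_surjective _ Ideal.Quotient.mk_surjective, ← RingHom.ker_eq_comap_bot,
        Ideal.mk_ker] at this
      rw [sup_eq_left.mpr (IsLocalRing.le_maximalIdeal p.2.ne_top)] at this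
      rw [this, sup_assoc, sup_comm (Ideal.span {t}), ← sup_assoc, sup_idem]
    rw [← h1]
    infer_instance

end weights

section dim1

variable {A : Type u} [CommRing A] [IsNoetherianRing A] [IsLocalRing A]

theorem height_maximalIdeal (hdim : ringKrullDim A = 1) : (maximalIdeal A).height = 1 := by
  have h := IsLocalRing.maximalIdeal_height_eq_ringKrullDim (R := A)
  rw [hdim] at h
  exact_mod_cast h

theorem mem_minimalPrimes_of_ne (hdim : ringKrullDim A = 1) (q : Ideal A) [q.IsPrime]
    (hq : q ≠ maximalIdeal A) : q ∈ minimalPrimes A := by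
  rw [← Ideal.height_eq_zero_iff]
  have hlt : q < maximalIdeal A := lt_of_le_of_ne (IsLocalRing.le_maximalIdeal Ideal.IsPrime.ne_top') hq
  have := Ideal.height_add_one_le_of_lt_of_isPrime hlt
  rw [height_maximalIdeal hdim] at this
  have h0 : q.height + 1 ≤ 0 + 1 := by rwa [zero_add]
  exact nonpos_iff_eq_zero.mp ((ENat.add_le_add_iff_right ENat.one_ne_top).mp h0)

theorem maximalIdeal_notMem_minimalPrimes (hdim : ringKrullDim A = 1) :
    maximalIdeal A ∉ minimalPrimes A := by
  rw [← Ideal.height_eq_zero_iff, height_maximalIdeal hdim]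
  exact one_ne_zero

variable (A) in
/-- The finite set of minimal primes, as points of the spectrum. -/
noncomputable def minT : Finset (PrimeSpectrum A) :=
  ((minimalPrimes.finite_of_isNoetherianRing A).preimage
    (f := PrimeSpectrum.asIdeal) (fun _ _ _ _ h => PrimeSpectrum.ext h)).toFinset

theorem mem_minT (p : PrimeSpectrum A) : p ∈ minT A ↔ p.asIdeal ∈ minimalPrimes A := by
  rw [minT, Set.Finite.mem_toFinset, Set.mem_preimage]

theorem minT_antichain : ∀ p ∈ minT A, ∀ q ∈ minT A, p.asIdeal ≤ q.asIdeal → p = q := by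
  intro p hp q hq hle
  rw [mem_minT] at hp hq
  exact PrimeSpectrum.ext (le_antisymm hle (hq.2 ⟨p.2, bot_le⟩ hle))

theorem closedPoint_notMem_minT (hdim : ringKrullDim A = 1) : closedPoint A ∉ minT A := by
  rw [mem_minT]
  exact maximalIdeal_notMem_minimalPrimes hdim

theorem suppIn_minT (hdim : ringKrullDim A = 1) (N : Type v) [AddCommGroup N] [Module A N] :
    SuppIn (minT A) N := by
  intro q _
  by_cases hq : q = closedPoint A
  · exact Or.inl hq
  · right
    rw [mem_minT]
    apply mem_minimalPrimes_of_ne hdim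
    intro h
    exact hq (PrimeSpectrum.ext h)

end dim1

section s0616

variable {A : Type u} [CommRing A] [IsNoetherianRing A] [IsLocalRing A]

theorem finsum_minimalPrimes_eq (F : PrimeSpectrum A → ℕ∞) :
    ∑ᶠ (p : PrimeSpectrum A) (_ : p.asIdeal ∈ minimalPrimes A), F p = ∑ p ∈ minT A, F p := by
  have hfin : {p : PrimeSpectrum A | p.asIdeal ∈ minimalPrimes A}.Finite :=
    (minimalPrimes.finite_of_isNoetherianRing A).preimage
      (f := PrimeSpectrum.asIdeal) (fun _ _ _ _ h => PrimeSpectrum.ext h)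
  exact finsum_mem_eq_finite_toFinset_sum F hfin

theorem main_0616 (hA : ringKrullDim A = 1) (M : Type v) [AddCommGroup M]
    [Module A M] [Module.Finite A M] (a : A) (ha : ∀ p ∈ minimalPrimes A, a ∉ p) :
    Module.length A (M ⧸ a • (⊤ : Submodule A M)) =
      Module.length A (LinearMap.ker (LinearMap.lsmul A M a)) +
      ∑ᶠ (p : PrimeSpectrum A) (_ : p.asIdeal ∈ minimalPrimes A),
        Module.length (Localization.AtPrime p.asIdeal) (LocalizedModule p.asIdeal.primeCompl M) *
          Module.length A (A ⧸ (p.asIdeal ⊔ Ideal.span {a})) := by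
  have hC : Cond a M := by
    intro q _ haq
    by_contra hne
    exact ha q.asIdeal (mem_minimalPrimes_of_ne hA q.asIdeal
      (fun h => hne (PrimeSpectrum.ext h))) haq
  have h := formula (closedPoint_notMem_minT hA) minT_antichain M hC (suppIn_minT hA M)
  have hker : LinearMap.ker (LinearMap.lsmul A M a) =
      LinearMap.ker (a • (LinearMap.id : M →ₗ[A] M)) := by
    ext x; simp
  rw [hker, finsum_minimalPrimes_eq]
  rw [wsum] at h
  simp only [wt_eq] at h
  exact h

end s0616

end Groth.Agent.Lib.Helper12.MultFormula
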