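import Mathlib
import Groth.Agent.Lib.Helper12.MultFormula3

/-! The length inequality for modules with one-dimensional support over any Noetherian local ring. -/

set_option autoImplicit false
universe u v

namespace Groth.Agent.Lib.Helper12.MultFormula

open Function IsLocalRing
open scoped Pointwise

section pit

/-- In a Noetherian domain, if `𝔫` is the only prime containing `t`, then there is no prime strictly
between `⊥` and `𝔫`. -/
theorem eq_of_bot_lt {D : Type*} [CommRing D] [IsDomain D] [IsNoetherianRing D] (t : D)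
    (n : Ideal D) [hn : n.IsPrime] (htn : t ∈ n)
    (h : ∀ P : Ideal D, P.IsPrime → t ∈ P → P = n) (q : Ideal D) [hq : q.IsPrime]
    (hq0 : q ≠ ⊥) (hqn : q ≤ n) : q = n := by
  by_contra hne
  have hmin : n ∈ (Ideal.span {t}).minimalPrimes := by
    refine ⟨⟨hn, (Ideal.span_singleton_le_iff_mem _).mpr htn⟩, ?_⟩
    rintro P ⟨hP, htP⟩ _
    rw [h P hP ((Ideal.span_singleton_le_iff_mem _).mp htP)]
  have h1 := Ideal.height_le_one_of_isPrincipal_of_mem_minimalPrimes _ n hmin
  have h2 := Ideal.height_add_one_le_of_lt_of_isPrime (lt_of_le_of_ne hqn hne)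
  haveI : (⊥ : Ideal D).IsPrime := Ideal.isPrime_bot
  have h3 := Ideal.height_add_one_le_of_lt_of_isPrime (bot_lt_iff_ne_bot.mpr hq0)
  have h4 : (1 : ℕ∞) + 1 ≤ 1 :=
    calc (1 : ℕ∞) + 1 ≤ (⊥ : Ideal D).height + 1 + 1 := by
            rw [add_assoc]; exact le_add_self
      _ ≤ q.height + 1 := by gcongr
      _ ≤ n.height := h2
      _ ≤ 1 := h1
  exact absurd h4 (by decide)

end pit

section s12132

variable {B : Type u} [CommRing B] [IsNoetherianRing B] [IsLocalRing B]

/-- The support of a module of finite length is contained in the closed point. -/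
theorem support_of_isFiniteLength {N : Type v} [AddCommGroup N] [Module B N]
    (h : IsFiniteLength B N) : ∀ q ∈ Module.support B N, q = closedPoint B := by
  induction h with
  | of_subsingleton =>
    intro q hq
    rw [Module.support_eq_empty] at hq
    exact absurd hq (Set.notMem_empty q)
  | @of_simple_quotient N _ _ P hsimple _ ih =>
    intro q hq
    rw [Module.support_of_exact (LinearMap.exact_subtype_mkQ P) (Submodule.injective_subtype _)
      (Submodule.mkQ_surjective _)] at hq
    rcases hq with hq | hq
    · exact ih q hq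
    · obtain ⟨J, hJ, ⟨e⟩⟩ := isSimpleModule_iff_quot_maximal.mp hsimple
      rw [e.support_eq, Module.mem_support_iff_of_finite, Ideal.annihilator_quotient,
        IsLocalRing.eq_maximalIdeal hJ] at hq
      exact PrimeSpectrum.ext ((maximalIdeal.isMaximal B).eq_of_le q.2.ne_top hq).symm

variable (B) (M : Type v) [AddCommGroup M] [Module B M] [Module.Finite B M]

/-- The minimal primes of the support, as a finset of points. -/
noncomputable def annT : Finset (PrimeSpectrum B) :=
  (((Module.annihilator B M).finite_minimalPrimes_of_isNoetherianRing B).preimage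
    (f := PrimeSpectrum.asIdeal) (fun _ _ _ _ h => PrimeSpectrum.ext h)).toFinset

variable {B M}

theorem mem_annT (p : PrimeSpectrum B) :
    p ∈ annT B M ↔ p.asIdeal ∈ (Module.annihilator B M).minimalPrimes := by
  rw [annT, Set.Finite.mem_toFinset, Set.mem_preimage]

theorem annT_antichain :
    ∀ p ∈ annT B M, ∀ q ∈ annT B M, p.asIdeal ≤ q.asIdeal → p = q := by
  intro p hp q hq hle
  rw [mem_annT] at hp hq
  exact PrimeSpectrum.ext (le_antisymm hle (hq.2 hp.1 hle))

theorem closedPoint_notMem_annT (hdim : 0 < Module.supportDim B M) :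
    closedPoint B ∉ annT B M := by
  rw [mem_annT]
  intro hm
  have hsub : Subsingleton (Module.support B M) := by
    constructor
    rintro ⟨q, hq⟩ ⟨q', hq'⟩
    have h1 : ∀ r ∈ Module.support B M, r = closedPoint B := by
      intro r hr
      rw [Module.mem_support_iff_of_finite] at hr
      have := hm.2 ⟨r.2, hr⟩ (IsLocalRing.le_maximalIdeal r.2.ne_top)
      exact PrimeSpectrum.ext (le_antisymm (IsLocalRing.le_maximalIdeal r.2.ne_top) this)
    exact Subtype.ext ((h1 q hq).trans (h1 q' hq').symm)
  have : Module.supportDim B M ≤ 0 := Order.krullDim_nonpos_of_subsingleton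
  exact absurd (lt_of_lt_of_le hdim this) (lt_irrefl _)

theorem cond_of_length {t : B}
    (hfin : Module.length B (M ⧸ (Ideal.span {t} • (⊤ : Submodule B M))) ≠ ⊤) : Cond t M := by
  intro q hq htq
  rw [Module.length_ne_top_iff] at hfin
  apply support_of_isFiniteLength hfin q
  rw [Module.support_quotient]
  refine ⟨hq, ?_⟩
  rw [PrimeSpectrum.mem_zeroLocus, SetLike.coe_subset_coe, Ideal.span_le,
    Set.singleton_subset_iff]
  exact htq

theorem suppIn_annT {t : B} (htm : t ∈ maximalIdeal B) (hC : Cond t M) :
    SuppIn (annT B M) M := by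
  intro q hq
  by_cases hqm : q = closedPoint B
  · exact Or.inl hqm
  right
  rw [mem_annT]
  have hann : Module.annihilator B M ≤ q.asIdeal := Module.mem_support_iff_of_finite.mp hq
  obtain ⟨p, hp, hpq⟩ := Ideal.exists_minimalPrimes_le hann
  suffices p = q.asIdeal by rw [← this]; exact hp
  by_contra hne
  haveI hpp : p.IsPrime := hp.1.1
  have htq : t ∉ q.asIdeal := fun h => hqm (hC q hq h)
  -- work in the domain `B ⧸ p`
  let f := Ideal.Quotient.mk p
  have hf : Surjective f := Ideal.Quotient.mk_surjective
  have hkerm : RingHom.ker f ≤ maximalIdeal B := by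
    rw [Ideal.mk_ker]; exact IsLocalRing.le_maximalIdeal hpp.ne_top
  have hkerq : RingHom.ker f ≤ q.asIdeal := by rw [Ideal.mk_ker]; exact hpq
  haveI hn : ((maximalIdeal B).map f).IsPrime := Ideal.map_isPrime_of_surjective hf hkerm
  haveI hq' : (q.asIdeal.map f).IsPrime := Ideal.map_isPrime_of_surjective hf hkerq
  have hcomap : ∀ I : Ideal B, RingHom.ker f ≤ I → (I.map f).comap f = I := by
    intro I hI
    rw [Ideal.comap_map_of_surjective f hf, ← RingHom.ker_eq_comap_bot, sup_eq_left.mpr hI]
  have key := eq_of_bot_lt (f t) ((maximalIdeal B).map f) (Ideal.mem_map_of_mem f htm) ?_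
    (q.asIdeal.map f) ?_ (Ideal.map_mono (IsLocalRing.le_maximalIdeal q.2.ne_top))
  · have := congrArg (Ideal.comap f) key
    rw [hcomap _ hkerq, hcomap _ hkerm] at this
    exact hqm (PrimeSpectrum.ext this)
  · intro P hP htP
    have hP' : (P.comap f).IsPrime := Ideal.comap_isPrime f P
    have hmem : (⟨P.comap f, hP'⟩ : PrimeSpectrum B) ∈ Module.support B M := by
      rw [Module.mem_support_iff_of_finite]
      refine hp.1.2.trans ?_
      show p ≤ P.comap f
      intro x hx
      rw [Ideal.mem_comap]
      have : f x = 0 := Ideal.Quotient.eq_zero_iff_mem.mpr hx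
      rw [this]; exact P.zero_mem
    have := hC _ hmem htP
    have h2 : P.comap f = maximalIdeal B := congrArg PrimeSpectrum.asIdeal this
    rw [← Ideal.map_comap_of_surjective f hf P, h2]
  · intro h0
    rw [Ideal.map_eq_bot_iff_le_ker, Ideal.mk_ker] at h0
    exact hne (le_antisymm hpq h0)

end s12132

section main12132

variable {B : Type u} [CommRing B] [IsNoetherianRing B] [IsLocalRing B]
  {M : Type v} [AddCommGroup M] [Module B M] [Module.Finite B M]

theorem finsum_annT_eq (G : PrimeSpectrum B → ℕ∞) :
    ∑ᶠ p : (Module.annihilator B M).minimalPrimes, G ⟨p.1, p.2.1.1⟩ = ∑ p ∈ annT B M, G p := by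
  have hfin : {p : PrimeSpectrum B | p.asIdeal ∈ (Module.annihilator B M).minimalPrimes}.Finite :=
    ((Module.annihilator B M).finite_minimalPrimes_of_isNoetherianRing B).preimage
      (f := PrimeSpectrum.asIdeal) (fun _ _ _ _ h => PrimeSpectrum.ext h)
  have h1 : ∑ p ∈ annT B M, G p = ∑ᶠ (p : PrimeSpectrum B)
      (_ : p ∈ {p : PrimeSpectrum B | p.asIdeal ∈ (Module.annihilator B M).minimalPrimes}), G p :=
    (finsum_mem_eq_finite_toFinset_sum G hfin).symm
  rw [h1, ← finsum_set_coe_eq_finsum_mem]
  let e : (Module.annihilator B M).minimalPrimes ≃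
      {p : PrimeSpectrum B | p.asIdeal ∈ (Module.annihilator B M).minimalPrimes} :=
    { toFun := fun p => ⟨⟨p.1, p.2.1.1⟩, p.2⟩
      invFun := fun p => ⟨p.1.asIdeal, p.2⟩
      left_inv := fun p => rfl
      right_inv := fun p => rfl }
  exact finsum_comp_equiv e (f := fun p => G p.1)

theorem main_12132 (t : B) (ht : t ∈ maximalIdeal B)
    (hdim : 0 < Module.supportDim B M)
    (hfin : Module.length B (M ⧸ (Ideal.span {t} • (⊤ : Submodule B M))) ≠ ⊤) :
    (∑ᶠ p : (Module.annihilator B M).minimalPrimes,
        haveI : p.1.IsPrime := p.2.1.1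
        Module.length (Localization.AtPrime p.1) (LocalizedModule p.1.primeCompl M)) ≤
      Module.length B (M ⧸ (Ideal.span {t} • (⊤ : Submodule B M))) ∧
    ((∑ᶠ p : (Module.annihilator B M).minimalPrimes,
        haveI : p.1.IsPrime := p.2.1.1
        Module.length (Localization.AtPrime p.1) (LocalizedModule p.1.primeCompl M)) =
      Module.length B (M ⧸ (Ideal.span {t} • (⊤ : Submodule B M))) ↔
    IsSMulRegular M t ∧
      ∀ p : (Module.annihilator B M).minimalPrimes,
        Ideal.map (Ideal.Quotient.mk p.1) (IsLocalRing.maximalIdeal B) =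
          Ideal.span {Ideal.Quotient.mk p.1 t}) := by
  have hC : Cond t M := cond_of_length hfin
  have hc := consequences ht (closedPoint_notMem_annT hdim) annT_antichain M hC
    (suppIn_annT ht hC)
  have e1 : (∑ᶠ p : (Module.annihilator B M).minimalPrimes,
        haveI : p.1.IsPrime := p.2.1.1
        Module.length (Localization.AtPrime p.1) (LocalizedModule p.1.primeCompl M)) =
      ∑ p ∈ annT B M, ell p.asIdeal M := finsum_annT_eq (fun p => ell p.asIdeal M)
  rw [e1, Submodule.ideal_span_singleton_smul]
  refine ⟨hc.1, hc.2.trans (and_congr Iff.rfl ?_)⟩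
  constructor
  · intro h p
    have hp : (⟨p.1, p.2.1.1⟩ : PrimeSpectrum B) ∈ annT B M := (mem_annT _).mpr p.2
    rcases h _ hp with h0 | h0
    · exfalso
      rw [ell, Module.length_eq_zero_iff, ← Module.notMem_support_iff] at h0
      apply h0
      rw [Module.mem_support_iff_of_finite]
      exact p.2.1.2
    · exact h0
  · intro h p hp
    exact Or.inr (h ⟨p.asIdeal, (mem_annT p).mp hp⟩)

end main12132

end Groth.Agent.Lib.Helper12.MultFormula
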