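import Mathlib
import Groth.Agent.Lib.Helper22.FibreDim

/-!
# Noether normalization on a fibre of a finite type morphism of affine schemes
-/

universe u

namespace Groth.Agent.Lib.Helper12.H12NNFib

open TensorProduct AlgebraicGeometry CategoryTheory Limits

section ring

variable (R S K : Type u) [CommRing R] [CommRing S] [Field K] [Algebra R S] [Algebra R K]

theorem exists_smul_eq_one_tmul
    (hfrac : ∀ z : K, ∃ a r : R, algebraMap R K r ≠ 0 ∧ z * algebraMap R K r = algebraMap R K a)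
    (x : K ⊗[R] S) :
    ∃ (r : R) (b : S), algebraMap R K r ≠ 0 ∧ (algebraMap R K r) • x = (1 : K) ⊗ₜ[R] b := by
  induction x using TensorProduct.induction_on with
  | zero => exact ⟨1, 0, by simp, by simp⟩
  | tmul z s =>
    obtain ⟨a, r, hr, h⟩ := hfrac z
    refine ⟨r, a • s, hr, ?_⟩
    rw [TensorProduct.smul_tmul', smul_eq_mul, mul_comm, h, ← TensorProduct.smul_tmul,
      Algebra.algebraMap_eq_smul_one]
  | add x y hx hy =>
    obtain ⟨r1, b1, hr1, h1⟩ := hx
    obtain ⟨r2, b2, hr2, h2⟩ := hy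
    refine ⟨r1 * r2, r2 • b1 + r1 • b2, by rw [map_mul]; exact mul_ne_zero hr1 hr2, ?_⟩
    rw [smul_add, map_mul]
    conv_lhs => 
      rw [mul_comm, mul_smul, h1, mul_comm, mul_smul, h2]
    rw [TensorProduct.tmul_add, ← TensorProduct.smul_tmul, ← TensorProduct.smul_tmul,
      TensorProduct.smul_tmul', TensorProduct.smul_tmul', Algebra.smul_def, Algebra.smul_def,
      mul_one, mul_one]
    simp [Algebra.smul_def]

theorem exists_vector_finite [Algebra.FiniteType R S]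
    (hfrac : ∀ z : K, ∃ a r : R, algebraMap R K r ≠ 0 ∧ z * algebraMap R K r = algebraMap R K a)
    (e : ℕ) (he : ringKrullDim (K ⊗[R] S) = e) :
    ∃ b : Fin e → S, (MvPolynomial.aeval (fun i => (1 : K) ⊗ₜ[R] b i) :
      MvPolynomial (Fin e) K →ₐ[K] K ⊗[R] S).Finite := by
  haveI : Nontrivial (K ⊗[R] S) := by
    by_contra hn
    rw [not_nontrivial_iff_subsingleton] at hn
    rw [ringKrullDim_eq_bot_of_subsingleton] at he
    exact WithBot.bot_ne_coe he
  obtain ⟨s, g, hinj, hfin⟩ := exists_finite_inj_algHom_of_fg K (K ⊗[R] S)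
  have hint : ∀ a : K ⊗[R] S, g.toRingHom.IsIntegralElem a := fun a => hfin.to_isIntegral a
  have hs := Groth.Agent.Lib.Helper22.ringKrullDim_eq_of_finite_inj s g hinj hint
  rw [he] at hs
  have hse : e = s := by exact_mod_cast hs
  subst hse
  choose r b hr hrb using fun i : Fin e => exists_smul_eq_one_tmul R S K hfrac (g (MvPolynomial.X i))
  refine ⟨b, ?_⟩
  let σ : MvPolynomial (Fin e) K →ₐ[K] MvPolynomial (Fin e) K :=
    MvPolynomial.aeval (fun i => MvPolynomial.C (algebraMap R K (r i)) * MvPolynomial.X i)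
  let τ : MvPolynomial (Fin e) K →ₐ[K] MvPolynomial (Fin e) K :=
    MvPolynomial.aeval (fun i => MvPolynomial.C (algebraMap R K (r i))⁻¹ * MvPolynomial.X i)
  have hστ : σ.comp τ = AlgHom.id K _ := by
    apply MvPolynomial.algHom_ext
    intro i
    simp only [AlgHom.comp_apply, τ, σ, MvPolynomial.aeval_X, map_mul, MvPolynomial.aeval_C,
      AlgHom.id_apply, MvPolynomial.algebraMap_eq]
    rw [← mul_assoc, ← MvPolynomial.C_mul, inv_mul_cancel₀ (hr i), MvPolynomial.C_1, one_mul]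
  have hσ : Function.Surjective σ := by
    intro p
    exact ⟨τ p, by rw [← AlgHom.comp_apply, hστ]; rfl⟩
  have hcomp : (MvPolynomial.aeval (fun i => (1 : K) ⊗ₜ[R] b i) :
      MvPolynomial (Fin e) K →ₐ[K] K ⊗[R] S) = g.comp σ := by
    apply MvPolynomial.algHom_ext
    intro i
    simp only [AlgHom.comp_apply, σ, MvPolynomial.aeval_X, map_mul]
    rw [← hrb i, ← MvPolynomial.algebraMap_eq, AlgHom.commutes, Algebra.smul_def]
  rw [hcomp]
  exact AlgHom.Finite.comp hfin (AlgHom.Finite.of_surjective σ hσ)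

end ring

section scheme

variable {Y : Scheme.{u}}




theorem fromSpecResidueField_appTop (y : Y) :
    (Y.fromSpecResidueField y).appTop ≫ (Scheme.ΓSpecIso (Y.residueField y)).hom =
      Y.Γevaluation y := by
  rw [Scheme.fromSpecResidueField, Scheme.Hom.comp_appTop, Scheme.fromSpecStalk_appTop]
  have h1 : (Spec (Y.presheaf.stalk y)).presheaf.map (homOfLE (le_top : (Y.fromSpecStalk y) ⁻¹ᵁ ⊤ ≤ ⊤)).op = 𝟙 _ := by
    exact (Spec (Y.presheaf.stalk y)).presheaf.map_id _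
  simp only [Category.assoc]
  erw [h1]
  rw [Category.id_comp, ← Scheme.ΓSpecIso_inv_naturality_assoc]
  simp
  rfl





theorem exists_evaluation_mul_eq [IsAffine Y] (y : Y) (z : Y.residueField y) :
    ∃ a r : Γ(Y, ⊤), Y.Γevaluation y r ≠ 0 ∧ z * Y.Γevaluation y r = Y.Γevaluation y a := by
  obtain ⟨m, rfl⟩ := Y.residue_surjective y z
  letI := Y.presheaf.algebra_section_stalk (U := ⊤) ⟨y, trivial⟩
  haveI := (isAffineOpen_top Y).isLocalization_stalk ⟨y, trivial⟩
  obtain ⟨a, s, rfl⟩ := IsLocalization.exists_mk'_eq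
    ((isAffineOpen_top Y).primeIdealOf ⟨y, trivial⟩).asIdeal.primeCompl m
  refine ⟨a, s.1, ?_, ?_⟩
  · have hu : IsUnit (algebraMap Γ(Y, ⊤) (Y.presheaf.stalk y) s.1) :=
      IsLocalization.map_units _ s
    have hu2 : IsUnit (Y.residue y (algebraMap Γ(Y, ⊤) (Y.presheaf.stalk y) s.1)) :=
      hu.map (Y.residue y).hom
    exact hu2.ne_zero
  · have h := IsLocalization.mk'_spec (Y.presheaf.stalk y) a s
    have h2 := congrArg (Y.residue y).hom h
    rw [map_mul] at h2
    exact h2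



theorem exists_ringEquiv_of_isPullback {X Y P : Scheme.{u}} [IsAffine X] [IsAffine Y] (f : X ⟶ Y)
    (K : CommRingCat.{u}) (j : Spec K ⟶ Y) (p1 : P ⟶ X) (p2 : P ⟶ Spec K)
    (h : IsPullback p1 p2 f j) :
    letI := f.appTop.hom.toAlgebra
    letI := (j.appTop ≫ (Scheme.ΓSpecIso K).hom).hom.toAlgebra
    ∃ θ : K ⊗[Γ(Y, ⊤)] Γ(X, ⊤) ≃+* Γ(P, ⊤), (∀ s, θ (1 ⊗ₜ s) = p1.appTop s) ∧
      (∀ z, θ (z ⊗ₜ 1) = p2.appTop ((Scheme.ΓSpecIso K).inv z)) := by
  letI := f.appTop.hom.toAlgebra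
  letI := (j.appTop ≫ (Scheme.ΓSpecIso K).hom).hom.toAlgebra
  have hpo := isPushout_appTop_of_isPullback h
  have hpo' : IsPushout (j.appTop ≫ (Scheme.ΓSpecIso K).hom) f.appTop
      ((Scheme.ΓSpecIso K).inv ≫ p2.appTop) p1.appTop := by
    refine IsPushout.of_iso hpo.flip (Iso.refl _) (Scheme.ΓSpecIso K) (Iso.refl _) (Iso.refl _)
      ?_ ?_ ?_ ?_ <;> simp
  have hT := CommRingCat.isPushout_tensorProduct Γ(Y, ⊤) K Γ(X, ⊤)
  let iso := hT.isoIsPushout _ _ hpo'
  refine ⟨iso.commRingCatIsoToRingEquiv, ?_, ?_⟩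
  · intro s
    exact congr($(hT.inr_isoIsPushout_hom _ _ hpo').hom s)
  · intro z
    exact congr($(hT.inl_isoIsPushout_hom _ _ hpo').hom z)


theorem ringKrullDim_Γ_eq (P : Scheme.{u}) [IsAffine P] :
    ringKrullDim Γ(P, ⊤) = topologicalKrullDim P := by
  have h2 : topologicalKrullDim P = topologicalKrullDim (PrimeSpectrum Γ(P, ⊤)) :=
    IsHomeomorph.topologicalKrullDim_eq _ (Scheme.homeoOfIso P.isoSpec).isHomeomorph
  rw [h2, PrimeSpectrum.topologicalKrullDim_eq_ringKrullDim]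

theorem main {X Y : Scheme.{u}} [IsAffine X] [IsAffine Y] (f : X ⟶ Y)
    [LocallyOfFiniteType f] (y : Y) (e : ℕ)
    (he : topologicalKrullDim ↥(f.fiber y) = e) :
    ∃ g : X ⟶ 𝔸(ULift.{u} (Fin e); Y), g ≫ (𝔸(ULift.{u} (Fin e); Y) ↘ Y) = f ∧
      IsFinite (pullback.snd g ((𝔸(ULift.{u} (Fin e); Y) ↘ Y).fiberι y)) := by
  let K := Y.residueField y
  let j := Y.fromSpecResidueField y
  letI := f.appTop.hom.toAlgebra
  letI := (j.appTop ≫ (Scheme.ΓSpecIso K).hom).hom.toAlgebra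
  haveI : Algebra.FiniteType Γ(Y, ⊤) Γ(X, ⊤) :=
    (HasRingHomProperty.iff_of_isAffine (P := @LocallyOfFiniteType)).mp ‹_›
  have halg : algebraMap Γ(Y, ⊤) K = (Y.Γevaluation y).hom := by
    rw [RingHom.algebraMap_toAlgebra, fromSpecResidueField_appTop]
  have hfrac : ∀ z : K, ∃ a r : Γ(Y, ⊤), algebraMap Γ(Y, ⊤) K r ≠ 0 ∧
      z * algebraMap Γ(Y, ⊤) K r = algebraMap Γ(Y, ⊤) K a := by
    intro z
    obtain ⟨a, r, h1, h2⟩ := exists_evaluation_mul_eq y z
    rw [halg]
    exact ⟨a, r, h1, h2⟩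
  obtain ⟨θ₀, -, -⟩ := exists_ringEquiv_of_isPullback f K j _ _ (IsPullback.of_hasPullback f j)
  have hdim : ringKrullDim (K ⊗[Γ(Y, ⊤)] Γ(X, ⊤)) = e := by
    rw [ringKrullDim_eq_of_ringEquiv θ₀, ← he]
    exact ringKrullDim_Γ_eq _
  obtain ⟨b, hb⟩ := exists_vector_finite Γ(Y, ⊤) Γ(X, ⊤) K hfrac e hdim
  let g : X ⟶ 𝔸(ULift.{u} (Fin e); Y) :=
    AffineSpace.homOfVector f (fun i : ULift.{u} (Fin e) => b i.down)
  have hg : g ≫ (𝔸(ULift.{u} (Fin e); Y) ↘ Y) = f := AffineSpace.homOfVector_over ..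
  refine ⟨g, hg, ?_⟩
  let π := 𝔸(ULift.{u} (Fin e); Y) ↘ Y
  let ι' : pullback π j ⟶ 𝔸(ULift.{u} (Fin e); Y) := pullback.fst π j
  change IsFinite (pullback.snd g ι')
  have hpb : IsPullback (pullback.fst g ι') (pullback.snd g ι' ≫ pullback.snd π j) f j := by
    have := IsPullback.paste_vert (IsPullback.of_hasPullback g ι') (IsPullback.of_hasPullback π j)
    rwa [hg] at this
  obtain ⟨θ, hθ1, hθ2⟩ := exists_ringEquiv_of_isPullback f K j _ _ hpb
  let Φ : MvPolynomial (Fin e) K →+* Γ(pullback π j, ⊤) :=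
    MvPolynomial.eval₂Hom ((Scheme.ΓSpecIso K).inv ≫ (pullback.snd π j).appTop).hom
      (fun i => ι'.appTop (AffineSpace.coord Y (ULift.up i)))
  have hcomp : (pullback.snd g ι').appTop.hom.comp Φ = θ.toRingHom.comp
      (MvPolynomial.aeval (fun i => (1 : K) ⊗ₜ[Γ(Y, ⊤)] b i) :
        MvPolynomial (Fin e) K →ₐ[K] K ⊗[Γ(Y, ⊤)] Γ(X, ⊤)).toRingHom := by
    apply MvPolynomial.ringHom_ext
    · intro z
      simp only [RingHom.comp_apply, Φ, MvPolynomial.eval₂Hom_C, AlgHom.toRingHom_eq_coe,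
        RingHom.coe_coe, MvPolynomial.aeval_C, RingEquiv.toRingHom_eq_coe]
      rw [Algebra.TensorProduct.algebraMap_apply, Algebra.algebraMap_self_apply]
      erw [hθ2 z]
      simp
    · intro i
      simp only [RingHom.comp_apply, Φ, MvPolynomial.eval₂Hom_X', AlgHom.toRingHom_eq_coe,
        RingHom.coe_coe, MvPolynomial.aeval_X, RingEquiv.toRingHom_eq_coe]
      erw [hθ1 (b i)]
      have h1 : (pullback.snd g ι').appTop.hom (ι'.appTop.hom (AffineSpace.coord Y (ULift.up i))) =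
          (pullback.fst g ι').appTop.hom (g.appTop.hom (AffineSpace.coord Y (ULift.up i))) := by
        rw [← CommRingCat.comp_apply, ← CommRingCat.comp_apply, ← Scheme.Hom.comp_appTop,
          ← Scheme.Hom.comp_appTop, pullback.condition]
      refine h1.trans ?_
      rw [AffineSpace.homOfVector_appTop_coord]
  have hfin : (pullback.snd g ι').appTop.hom.Finite := by
    apply RingHom.Finite.of_comp_finite (f := Φ)
    rw [hcomp]
    exact RingHom.Finite.comp (RingHom.Finite.of_surjective _ θ.surjective) hb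
  exact (HasAffineProperty.iff_of_isAffine (P := @IsFinite)).mpr ⟨inferInstance, hfin⟩

end scheme

end Groth.Agent.Lib.Helper12.H12NNFib
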