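import Mathlib
import Groth.Prelude.Def_W4c1frobunstivaNR

set_option autoImplicit false
universe u

namespace H12S14034

open W4c1frobunstiva

variable (R : Type u) [CommRing R] [IsNoetherianRing R] [IsLocalRing R] (f : R)
  (hann : ∀ a : R, a * f = 0 → IsNilpotent a) (r s l : ℕ) (hls : l ≤ s)

/-- the generators of the relation module -/
def v : Fin l → (Fin s → R) := fun i => Pi.single (Fin.castLE hls i) f

/-- the relation module -/
abbrev Wm : Submodule R (Fin s → R) := Submodule.span R (Set.range (v R f s l hls))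

/-- any linear functional on `R^l` maps vectors with nilpotent coordinates to nilpotents -/
lemma nilp_of_coords (lam : (Fin l → R) →ₗ[R] R) (c : Fin l → R) (hc : ∀ i, IsNilpotent (c i)) :
    IsNilpotent (lam c) := by
  rw [LinearMap.pi_apply_eq_sum_univ lam c, ← mem_nilradical]
  apply Ideal.sum_mem
  intro i _
  rw [smul_eq_mul]
  exact Ideal.mul_mem_right _ _ (mem_nilradical.mpr (hc i))

include hann in
theorem main
    (φ : (Fin r → R) →ₗ[R] ((Fin s → R) ⧸ Wm R f s l hls))
    (hφ : Function.Surjective φ) :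
    IsNRFree R (LinearMap.ker φ) (r + l - s) ∧
      (l = 0 → Nonempty (Module.Basis (Fin (r - s)) R (LinearMap.ker φ))) := by
  classical
  let W := Wm R f s l hls
  obtain ⟨φt, hφt⟩ := Module.projective_lifting_property W.mkQ φ (Submodule.mkQ_surjective W)
  let g : (Fin l → R) →ₗ[R] (Fin s → R) := Fintype.linearCombination R (v R f s l hls)
  have hg_range : LinearMap.range g = W := Fintype.range_linearCombination R (v R f s l hls)
  have hg_mem : ∀ c, g c ∈ W := fun c => hg_range ▸ LinearMap.mem_range_self g c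
  let ψ : ((Fin r → R) × (Fin l → R)) →ₗ[R] (Fin s → R) := φt.coprod g
  have hψ : Function.Surjective ψ := by
    intro y
    obtain ⟨a, ha⟩ := hφ (W.mkQ y)
    have h1 : W.mkQ (y - φt a) = 0 := by
      rw [map_sub, ← ha, ← hφt]; simp
    have h2 : y - φt a ∈ W := by
      rwa [Submodule.mkQ_apply, Submodule.Quotient.mk_eq_zero] at h1
    rw [← hg_range] at h2
    obtain ⟨c, hc⟩ := h2
    refine ⟨(a, c), ?_⟩
    show φt a + g c = y
    rw [hc]; abel
  obtain ⟨σ, hσ⟩ := Module.projective_lifting_property ψ LinearMap.id hψ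
  have hσ' : ∀ y, ψ (σ y) = y := fun y => LinearMap.congr_fun hσ y
  set K₀ := LinearMap.ker ψ with hK₀
  let ρ : ((Fin r → R) × (Fin l → R)) →ₗ[R] K₀ :=
    LinearMap.codRestrict K₀ (LinearMap.id - σ.comp ψ) (fun x => by
      rw [hK₀, LinearMap.mem_ker, LinearMap.sub_apply, map_sub, LinearMap.comp_apply, hσ']
      simp)
  have hρ : ∀ k : K₀, ρ k.1 = k := by
    intro k
    apply Subtype.ext
    show k.1 - σ (ψ k.1) = k.1
    rw [LinearMap.mem_ker.mp k.2, map_zero, sub_zero]
  have hρval : ∀ x, ((ρ x : K₀) : (Fin r → R) × (Fin l → R)) = x - σ (ψ x) := fun x => rfl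
  haveI : Module.Finite R K₀ := Module.Finite.of_surjective ρ (fun k => ⟨k.1, hρ k⟩)
  haveI : Module.Projective R K₀ :=
    Module.Projective.of_split K₀.subtype ρ (LinearMap.ext fun k => hρ k)
  haveI : Module.Free R K₀ := Module.free_of_flat_of_isLocalRing
  let E : (K₀ × (Fin s → R)) ≃ₗ[R] ((Fin r → R) × (Fin l → R)) :=
    LinearEquiv.ofLinearMap (K₀.subtype.coprod σ) (ρ.prod ψ)
      (by
        apply LinearMap.ext
        intro x
        show ((ρ x : K₀) : (Fin r → R) × (Fin l → R)) + σ (ψ x) = x
        rw [hρval]; abel)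
      (by
        apply LinearMap.ext
        rintro ⟨k, y⟩
        have h1 : ψ ((k : (Fin r → R) × (Fin l → R)) + σ y) = y := by
          rw [map_add, LinearMap.mem_ker.mp k.2, zero_add, hσ']
        apply Prod.ext
        · apply Subtype.ext
          show ((k : (Fin r → R) × (Fin l → R)) + σ y) - σ (ψ ((k : (Fin r → R) × (Fin l → R)) + σ y)) = k
          rw [h1]; abel
        · exact h1)
  have hrank : Module.finrank R K₀ = r + l - s := by
    have h1 := E.finrank_eq
    rw [Module.finrank_prod, Module.finrank_prod] at h1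
    simp only [Module.finrank_pi, Fintype.card_fin] at h1
    omega
  let b : Module.Basis (Fin (r + l - s)) R K₀ := Module.finBasisOfFinrankEq R K₀ hrank
  -- the map to the kernel of φ
  have hp_mem : ∀ k : K₀, (k : (Fin r → R) × (Fin l → R)).1 ∈ LinearMap.ker φ := by
    intro k
    have hk : φt k.1.1 + g k.1.2 = 0 := LinearMap.mem_ker.mp k.2
    rw [LinearMap.mem_ker, ← hφt, LinearMap.comp_apply, eq_neg_of_add_eq_zero_left hk, map_neg,
      Submodule.mkQ_apply, (Submodule.Quotient.mk_eq_zero W).mpr (hg_mem _), neg_zero]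
  let p : K₀ →ₗ[R] LinearMap.ker φ :=
    LinearMap.codRestrict (LinearMap.ker φ) ((LinearMap.fst R _ _).comp K₀.subtype) hp_mem
  have hp_surj : Function.Surjective p := by
    rintro ⟨a, ha⟩
    have h1 : φt a ∈ W := by
      rw [LinearMap.mem_ker, ← hφt, LinearMap.comp_apply, Submodule.mkQ_apply,
        Submodule.Quotient.mk_eq_zero] at ha
      exact ha
    rw [← hg_range] at h1
    obtain ⟨c, hc⟩ := h1
    have hk : (a, -c) ∈ K₀ := by
      rw [hK₀, LinearMap.mem_ker]
      show φt a + g (-c) = 0
      rw [map_neg, hc]; abel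
    exact ⟨⟨(a, -c), hk⟩, Subtype.ext rfl⟩
  -- elements of the kernel of p have nilpotent second coordinates
  have hker : ∀ k : K₀, p k = 0 → ∀ i, IsNilpotent ((k : (Fin r → R) × (Fin l → R)).2 i) := by
    intro k hk i
    have h1 : (k : (Fin r → R) × (Fin l → R)).1 = 0 := congrArg Subtype.val hk
    have h2 : φt k.1.1 + g k.1.2 = 0 := LinearMap.mem_ker.mp k.2
    rw [h1, map_zero, zero_add] at h2
    apply hann
    have h3 := congrFun h2 (Fin.castLE hls i)
    rw [Fintype.linearCombination_apply, Finset.sum_apply] at h3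
    rw [Finset.sum_eq_single i] at h3
    · simpa [v] using h3
    · intro j _ hji
      have : Fin.castLE hls j ≠ Fin.castLE hls i := fun h => hji (Fin.castLE_injective hls h)
      simp [v, Pi.single_eq_of_ne this.symm]
    · intro h; exact absurd (Finset.mem_univ i) h
  have hker0 : ∀ k : K₀, p k = 0 → (k : (Fin r → R) × (Fin l → R)).1 = 0 :=
    fun k hk => congrArg Subtype.val hk
  refine ⟨⟨fun j => p (b j), ?_, ?_⟩, ?_⟩
  · rw [Set.range_comp', ← Submodule.map_span, b.span_eq, Submodule.map_top,
      LinearMap.range_eq_top.mpr hp_surj]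
  · intro a ha j
    set x : K₀ := ∑ j, a j • b j with hx
    have hpx : p x = 0 := by
      rw [hx, map_sum]
      simpa only [map_smul] using ha
    have hnil := hker x hpx
    have hx0 := hker0 x hpx
    have hxeq : (x : (Fin r → R) × (Fin l → R)) = LinearMap.inr R (Fin r → R) (Fin l → R) x.1.2 := by
      apply Prod.ext
      · exact hx0
      · rfl
    have haj : a j = b.repr x j := by
      rw [hx, map_sum]
      simp [Finsupp.single_apply]
    have hxρ : x = ρ (LinearMap.inr R (Fin r → R) (Fin l → R) x.1.2) := by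
      rw [← hxeq, hρ]
    rw [haj, hxρ]
    exact nilp_of_coords R l
      ((b.coord j).comp (ρ.comp (LinearMap.inr R (Fin r → R) (Fin l → R)))) x.1.2 hnil
  · intro hl
    subst hl
    have hp_inj : Function.Injective p := by
      rw [injective_iff_map_eq_zero]
      intro k hk
      apply Subtype.ext
      apply Prod.ext
      · exact hker0 k hk
      · exact Subsingleton.elim _ _
    have hrank' : Module.finrank R K₀ = r - s := by rw [hrank]; omega
    let b' : Module.Basis (Fin (r - s)) R K₀ := Module.finBasisOfFinrankEq R K₀ hrank'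
    exact ⟨b'.map (LinearEquiv.ofBijective p ⟨hp_inj, hp_surj⟩)⟩

end H12S14034
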