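import Mathlib

set_option autoImplicit false
universe u

namespace Groth.Agent.Lib.Helper12.NormProd

/-- `R` is ring-isomorphic to a finite product of normal domains. -/
def IsNormalProd (R : Type u) [CommRing R] : Prop :=
  ∃ (κ : Type u) (_ : Fintype κ) (E : κ → Type u) (_ : ∀ j, CommRing (E j))
    (_ : ∀ j, IsDomain (E j)) (_ : ∀ j, IsIntegrallyClosed (E j)), Nonempty (R ≃+* Π j, E j)

lemma IsNormalProd.of_equiv {R R' : Type u} [CommRing R] [CommRing R'] (e : R ≃+* R')
    (h : IsNormalProd R) : IsNormalProd R' := by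
  obtain ⟨κ, hκ, E, i1, i2, i3, ⟨f⟩⟩ := h
  exact ⟨κ, hκ, E, i1, i2, i3, ⟨e.symm.trans f⟩⟩

lemma IsNormalProd.of_domain (R : Type u) [CommRing R] [IsDomain R] [IsIntegrallyClosed R] :
    IsNormalProd R :=
  ⟨PUnit.{u+1}, inferInstance, fun _ => R, fun _ => inferInstance, fun _ => inferInstance,
    fun _ => inferInstance, ⟨(RingEquiv.piUnique (fun _ : PUnit.{u+1} => R)).symm⟩⟩

lemma IsNormalProd.of_subsingleton (R : Type u) [CommRing R] [Subsingleton R] :
    IsNormalProd R :=
  ⟨PEmpty.{u+1}, inferInstance, fun _ => R, fun _ => inferInstance, fun j => j.elim,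
    fun j => j.elim, ⟨{ toFun := fun _ j => j.elim
                        invFun := fun _ => 0
                        left_inv := fun _ => Subsingleton.elim _ _
                        right_inv := fun _ => Subsingleton.elim _ _
                        map_mul' := fun _ _ => Subsingleton.elim _ _
                        map_add' := fun _ _ => Subsingleton.elim _ _ }⟩⟩

lemma IsNormalProd.prod {R₁ R₂ : Type u} [CommRing R₁] [CommRing R₂]
    (h₁ : IsNormalProd R₁) (h₂ : IsNormalProd R₂) : IsNormalProd (R₁ × R₂) := by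
  obtain ⟨κ₁, hκ₁, E₁, i1, i2, i3, ⟨f₁⟩⟩ := h₁
  obtain ⟨κ₂, hκ₂, E₂, j1, j2, j3, ⟨f₂⟩⟩ := h₂
  letI inst : ∀ j, CommRing (Sum.elim E₁ E₂ j) :=
    fun j => Sum.rec (motive := fun j => CommRing (Sum.elim E₁ E₂ j)) i1 j1 j
  refine ⟨κ₁ ⊕ κ₂, inferInstance, Sum.elim E₁ E₂, inst, ?_, ?_, ⟨?_⟩⟩
  · rintro (j | j)
    · exact i2 j
    · exact j2 j
  · rintro (j | j)
    · exact i3 j
    · exact j3 j
  · refine (RingEquiv.prodCongr f₁ f₂).trans ?_
    exact
      { (Equiv.sumPiEquivProdPi (Sum.elim E₁ E₂)).symm with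
        map_mul' := fun x y => by
          funext j
          rcases j with j | j <;> rfl
        map_add' := fun x y => by
          funext j
          rcases j with j | j <;> rfl }

end Groth.Agent.Lib.Helper12.NormProd
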