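import Mathlib
import Groth.Agent.Lib.Helper12.NormProd1

set_option autoImplicit false
universe u

namespace Groth.Agent.Lib.Helper12.NormProd

section
variable {ι : Type u} {D : ι → Type u} [∀ i, CommRing (D i)]

open Classical in
/-- support idempotent -/
noncomputable def sI (a : Π i, D i) : Π i, D i := fun i => if a i = 0 then 0 else 1

lemma sI_apply_of_ne {a : Π i, D i} {i : ι} (h : a i ≠ 0) : sI a i = 1 := by
  simp [sI, h]

lemma sI_apply_of_eq {a : Π i, D i} {i : ι} (h : a i = 0) : sI a i = 0 := by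
  simp [sI, h]

lemma sI_mul_self (a : Π i, D i) : sI a * a = a := by
  funext i
  by_cases h : a i = 0
  · simp [h]
  · simp [sI_apply_of_ne h]

/-- the two closure properties -/
structure Good (B : Subring (Π i, D i)) : Prop where
  p1 : ∀ a ∈ B, sI a ∈ B
  p2 : ∀ b ∈ B, ∀ s, b * s ∈ B → sI b * s = s → s ∈ B

end

section Connected

variable {ι : Type u} [Nonempty ι] {D : ι → Type u} [∀ i, CommRing (D i)] [∀ i, IsDomain (D i)]

omit [Nonempty ι] [∀ i, IsDomain (D i)] in
lemma apply_ne_zero (B : Subring (Π i, D i)) (hB : Good B)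
    (hconn : ∀ f ∈ B, f * f = f → f = 0 ∨ f = 1) {a : Π i, D i} (ha : a ∈ B) (ha0 : a ≠ 0) :
    sI a = 1 := by
  have h1 : sI a * sI a = sI a := by
    funext i
    by_cases h : a i = 0
    · simp [sI_apply_of_eq h]
    · simp [sI_apply_of_ne h]
  rcases hconn _ (hB.p1 a ha) h1 with h | h
  · exfalso
    apply ha0
    rw [← sI_mul_self a, h, zero_mul]
  · exact h

lemma apply_ne_zero' (B : Subring (Π i, D i)) (hB : Good B)
    (hconn : ∀ f ∈ B, f * f = f → f = 0 ∨ f = 1) {a : Π i, D i} (ha : a ∈ B) (ha0 : a ≠ 0)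
    (i : ι) : a i ≠ 0 := by
  intro h
  have := congrFun (apply_ne_zero B hB hconn ha ha0) i
  rw [sI_apply_of_eq h] at this
  exact zero_ne_one this

lemma isDomain_of_connected (B : Subring (Π i, D i)) (hB : Good B)
    (hconn : ∀ f ∈ B, f * f = f → f = 0 ∨ f = 1) : IsDomain B := by
  haveI : Nontrivial B := by
    refine ⟨0, 1, fun h => ?_⟩
    obtain ⟨i⟩ := ‹Nonempty ι›
    have : (0 : Π i, D i) i = (1 : Π i, D i) i := congrFun (congrArg Subtype.val h) i
    exact zero_ne_one this
  haveI : NoZeroDivisors B := by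
    refine ⟨fun {a b} hab => ?_⟩
    by_contra hne
    rw [not_or] at hne
    obtain ⟨i⟩ := ‹Nonempty ι›
    have ha := apply_ne_zero' B hB hconn a.2 (fun h => hne.1 (Subtype.ext h)) i
    have hb := apply_ne_zero' B hB hconn b.2 (fun h => hne.2 (Subtype.ext h)) i
    have : (a.1 * b.1) i = 0 := by
      have := congrArg Subtype.val hab
      rw [Subring.coe_mul] at this
      rw [this]
      rfl
    exact mul_ne_zero ha hb this
  exact NoZeroDivisors.to_isDomain B


lemma isIntegrallyClosed_of_connected [∀ i, IsIntegrallyClosed (D i)]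
    (B : Subring (Π i, D i)) (hB : Good B)
    (hconn : ∀ f ∈ B, f * f = f → f = 0 ∨ f = 1) [IsDomain B] : IsIntegrallyClosed B := by
  rw [isIntegrallyClosed_iff (FractionRing B)]
  intro x hx
  obtain ⟨a, b, hb0, hab⟩ := IsFractionRing.div_surjective (A := B) x
  have hb0' : b ≠ 0 := nonZeroDivisors.ne_zero hb0
  -- the evaluation maps
  let φ : ∀ i, B →+* D i := fun i => (Pi.evalRingHom D i).comp B.subtype
  have hφ : ∀ i, Function.Injective (φ i) := by
    intro i
    rw [injective_iff_map_eq_zero]
    intro c hc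
    by_contra hne
    exact apply_ne_zero' B hB hconn c.2 (fun h => hne (Subtype.ext h)) i hc
  let g : ∀ i, B →+* FractionRing (D i) := fun i => (algebraMap (D i) _).comp (φ i)
  have hg : ∀ i, Function.Injective (g i) := fun i =>
    (IsFractionRing.injective (D i) (FractionRing (D i))).comp (hφ i)
  let ψ : ∀ i, FractionRing B →+* FractionRing (D i) := fun i => IsFractionRing.lift (hg i)
  have hψ : ∀ i (c : B), ψ i (algebraMap B _ c) = algebraMap (D i) _ (c.1 i) := fun i c =>
    IsFractionRing.lift_algebraMap (hg i) c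
  have hint : ∀ i, IsIntegral (D i) (ψ i x) := by
    intro i
    obtain ⟨p, hp, hpx⟩ := hx
    refine ⟨p.map (φ i), hp.map _, ?_⟩
    rw [Polynomial.eval₂_map]
    have : (algebraMap (D i) (FractionRing (D i))).comp (φ i) =
        (ψ i).comp (algebraMap B (FractionRing B)) := by
      ext c
      exact (hψ i c).symm
    rw [this, ← Polynomial.hom_eval₂, hpx, map_zero]
  have hs : ∀ i, ∃ s : D i, algebraMap (D i) (FractionRing (D i)) s = ψ i x := fun i =>
    IsIntegrallyClosed.algebraMap_eq_of_integral (hint i)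
  choose s hs using hs
  have hxb : x * algebraMap B _ b = algebraMap B _ a := by
    rw [← hab, div_mul_cancel₀]
    exact fun h => hb0' ((IsFractionRing.injective B (FractionRing B))
      (h.trans (map_zero _).symm))
  have hbs : b.1 * s = a.1 := by
    funext i
    apply IsFractionRing.injective (D i) (FractionRing (D i))
    rw [Pi.mul_apply, map_mul, hs i, ← hψ i b, ← hψ i a, ← map_mul, mul_comm, hxb]
  have hsB : s ∈ B := by
    refine hB.p2 b.1 b.2 s (hbs ▸ a.2) ?_
    rw [apply_ne_zero B hB hconn b.2 (fun h => hb0' (Subtype.ext h)), one_mul]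
  refine ⟨⟨s, hsB⟩, ?_⟩
  have hbK : algebraMap B (FractionRing B) b ≠ 0 := fun h =>
    hb0' ((IsFractionRing.injective B (FractionRing B)) (h.trans (map_zero _).symm))
  apply mul_right_cancel₀ hbK
  rw [hxb, ← map_mul]
  congr 1
  apply Subtype.ext
  rw [Subring.coe_mul, mul_comm]
  exact hbs

end Connected


section Split

variable {ι : Type u} {D : ι → Type u} [∀ i, CommRing (D i)]

/-- restriction to a subtype -/
def res (p : ι → Prop) : (Π i, D i) →+* Π i : {i // p i}, D i.1 :=
  RingHom.pi (fun i => Pi.evalRingHom D i.1)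

lemma res_apply (p : ι → Prop) (a : Π i, D i) (i : {i // p i}) : res p a i = a i.1 := rfl

open Classical in
/-- extension by zero -/
noncomputable def ext0 (p : ι → Prop) (s : Π i : {i // p i}, D i.1) : Π i, D i :=
  fun i => if h : p i then s ⟨i, h⟩ else 0

lemma ext0_apply_of_pos (p : ι → Prop) (s : Π i : {i // p i}, D i.1) {i : ι} (h : p i) :
    ext0 p s i = s ⟨i, h⟩ := by
  simp [ext0, h]

lemma ext0_apply_of_neg (p : ι → Prop) (s : Π i : {i // p i}, D i.1) {i : ι} (h : ¬ p i) :
    ext0 p s i = 0 := by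
  simp [ext0, h]

lemma res_ext0 (p : ι → Prop) (s : Π i : {i // p i}, D i.1) : res p (ext0 p s) = s := by
  funext i
  rw [res_apply, ext0_apply_of_pos p s i.2]

lemma sI_res (p : ι → Prop) (a : Π i, D i) : sI (res p a) = res p (sI a) := by
  funext i
  by_cases h : a i.1 = 0
  · rw [res_apply, sI_apply_of_eq h, sI_apply_of_eq]
    rw [res_apply]; exact h
  · rw [res_apply, sI_apply_of_ne h, sI_apply_of_ne]
    rw [res_apply]; exact h

lemma good_map [∀ i, IsDomain (D i)] (B : Subring (Π i, D i)) (hB : Good B) (p : ι → Prop)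
    (f : Π i, D i) (hfB : f ∈ B) (hf1 : ∀ i, p i → f i = 1) (hf0 : ∀ i, ¬ p i → f i = 0) :
    Good (B.map (res p)) := by
  constructor
  · rintro _ ⟨a, ha, rfl⟩
    rw [sI_res]
    exact ⟨_, hB.p1 a ha, rfl⟩
  · rintro _ ⟨b, hb, rfl⟩ s' ⟨c, hc, hcs⟩ hs'
    have hbf : b * f ∈ B := B.mul_mem hb hfB
    have h1 : (b * f) * ext0 p s' = c * f := by
      funext i
      by_cases h : p i
      · have := congrFun hcs ⟨i, h⟩
        rw [res_apply, Pi.mul_apply, res_apply] at this
        simp only [Pi.mul_apply, hf1 i h, mul_one, ext0_apply_of_pos p s' h]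
        exact this.symm
      · simp only [Pi.mul_apply, hf0 i h, mul_zero, zero_mul]
    have h2 : sI (b * f) * ext0 p s' = ext0 p s' := by
      funext i
      by_cases h : p i
      · have := congrFun hs' ⟨i, h⟩
        rw [Pi.mul_apply] at this
        rw [Pi.mul_apply, ext0_apply_of_pos p s' h]
        by_cases hbi : b i = 0
        · rw [sI_apply_of_eq (by rw [res_apply]; exact hbi), zero_mul] at this
          rw [← this, mul_zero]
        · rw [sI_apply_of_ne (by rw [Pi.mul_apply, hf1 i h, mul_one]; exact hbi), one_mul]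
      · rw [Pi.mul_apply, ext0_apply_of_neg p s' h, mul_zero]
    have h3 : ext0 p s' ∈ B := hB.p2 _ hbf _ (h1 ▸ B.mul_mem hc hfB) h2
    exact ⟨_, h3, res_ext0 p s'⟩

/-- the splitting of `B` along an idempotent -/
noncomputable def splitHom (B : Subring (Π i, D i)) (p : ι → Prop) :
    B →+* (B.map (res p)) × (B.map (res (fun i => ¬ p i))) :=
  RingHom.prod ((res p).restrict B (B.map (res p)) (fun x hx => Subring.mem_map.mpr ⟨x, hx, rfl⟩))
    ((res (fun i => ¬ p i)).restrict B (B.map (res (fun i => ¬ p i)))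
      (fun x hx => Subring.mem_map.mpr ⟨x, hx, rfl⟩))

lemma splitHom_bijective (B : Subring (Π i, D i)) (p : ι → Prop)
    (f : Π i, D i) (hfB : f ∈ B) (hf1 : ∀ i, p i → f i = 1) (hf0 : ∀ i, ¬ p i → f i = 0) :
    Function.Bijective (splitHom B p) := by
  constructor
  · rw [injective_iff_map_eq_zero]
    intro b hb
    have h1 : res p b.1 = 0 := congrArg (fun x => (x.1 : Π i : {i // p i}, D i.1)) hb
    have h2 : res (fun i => ¬ p i) b.1 = 0 :=
      congrArg (fun x => (x.2 : Π i : {i // ¬ p i}, D i.1)) hb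
    apply Subtype.ext
    funext i
    by_cases h : p i
    · exact congrFun h1 ⟨i, h⟩
    · exact congrFun h2 ⟨i, h⟩
  · rintro ⟨⟨_, b, hb, rfl⟩, ⟨_, c, hc, rfl⟩⟩
    refine ⟨⟨b * f + c * (1 - f), B.add_mem (B.mul_mem hb hfB)
      (B.mul_mem hc (B.sub_mem B.one_mem hfB))⟩, ?_⟩
    apply Prod.ext
    · apply Subtype.ext
      funext i
      change (b * f + c * (1 - f)) i.1 = b i.1
      simp [hf1 i.1 i.2]
    · apply Subtype.ext
      funext i
      change (b * f + c * (1 - f)) i.1 = c i.1
      simp [hf0 i.1 i.2]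

end Split


theorem isNormalProd_of_good : ∀ (n : ℕ) (ι : Type u) [Fintype ι] (D : ι → Type u)
    [∀ i, CommRing (D i)] [∀ i, IsDomain (D i)] [∀ i, IsIntegrallyClosed (D i)]
    (B : Subring (Π i, D i)), Fintype.card ι = n → Good B → IsNormalProd B := by
  intro n
  induction n using Nat.strong_induction_on with
  | _ n IH =>
    intro ι _ D _ _ _ B hn hB
    by_cases hι : IsEmpty ι
    · haveI : Subsingleton B := ⟨fun a b => Subtype.ext (funext fun i => hι.elim i)⟩
      exact IsNormalProd.of_subsingleton B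
    rw [not_isEmpty_iff] at hι
    by_cases hconn : ∀ f ∈ B, f * f = f → f = 0 ∨ f = 1
    · haveI := isDomain_of_connected B hB hconn
      haveI := isIntegrallyClosed_of_connected B hB hconn
      exact IsNormalProd.of_domain B
    · push Not at hconn
      obtain ⟨f, hfB, hff, hf0, hf1⟩ := hconn
      have hfi : ∀ i, f i = 0 ∨ f i = 1 := by
        intro i
        have : f i * f i = f i := congrFun hff i
        have h2 : f i * (f i - 1) = 0 := by rw [mul_sub, this, mul_one, sub_self]
        rcases mul_eq_zero.mp h2 with h | h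
        · exact Or.inl h
        · exact Or.inr (sub_eq_zero.mp h)
      let p : ι → Prop := fun i => f i ≠ 0
      have hp1 : ∀ i, p i → f i = 1 := fun i hi => (hfi i).resolve_left hi
      have hp0 : ∀ i, ¬ p i → f i = 0 := fun i hi => not_not.mp hi
      have hq1 : ∀ i, ¬ p i → (1 - f) i = 1 := fun i hi => by
        rw [Pi.sub_apply, hp0 i hi]; simp
      have hq0 : ∀ i, ¬ ¬ p i → (1 - f) i = 0 := fun i hi => by
        rw [Pi.sub_apply, hp1 i (not_not.mp hi)]; simp
      -- there are points in both parts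
      obtain ⟨i₁, hi₁⟩ : ∃ i, p i := by
        by_contra h
        push Not at h
        exact hf0 (funext fun i => hp0 i (h i))
      obtain ⟨i₀, hi₀⟩ : ∃ i, ¬ p i := by
        by_contra h
        push Not at h
        exact hf1 (funext fun i => hp1 i (h i))
      classical
      have hc1 : Fintype.card {i // p i} < n := by
        rw [← hn]
        exact Fintype.card_subtype_lt hi₀
      have hc2 : Fintype.card {i // ¬ p i} < n := by
        rw [← hn]
        exact Fintype.card_subtype_lt (x := i₁) (not_not.mpr hi₁)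
      have g1 := IH _ hc1 {i // p i} (fun i => D i.1) (B.map (res p)) rfl
        (good_map B hB p f hfB hp1 hp0)
      have g2 := IH _ hc2 {i // ¬ p i} (fun i => D i.1) (B.map (res (fun i => ¬ p i))) rfl
        (good_map B hB (fun i => ¬ p i) (1 - f) (B.sub_mem B.one_mem hfB) hq1 hq0)
      exact (g1.prod g2).of_equiv
        (RingEquiv.ofBijective _ (splitHom_bijective B p f hfB hp1 hp0)).symm

end Groth.Agent.Lib.Helper12.NormProd
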