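import Mathlib
import Groth.Prelude.Def_HopfRep

set_option autoImplicit false
universe u
open TensorProduct

namespace Groth.Agent.Lib.Helper12.NormProd

section T
variable {k : Type u} [Field k] {H : Type u} [CommRing H] [Algebra k H]
  {S : Type u} [CommRing S] [Algebra k S]

/-- the tensor support lemma -/
lemma tmul_one_mul_eq_zero {s t : S} (hst : ∀ x, s * x = 0 → t * x = 0) (y : S ⊗[k] H)
    (hy : (s ⊗ₜ[k] (1 : H)) * y = 0) : (t ⊗ₜ[k] (1 : H)) * y = 0 := by
  have hsm : ∀ (r : S) (z : S ⊗[k] H), (r ⊗ₜ[k] (1 : H)) * z = r • z := by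
    intro r z
    rw [Algebra.smul_def, Algebra.TensorProduct.algebraMap_apply, Algebra.algebraMap_self,
      RingHom.id_apply]
  rw [hsm] at hy ⊢
  let b := Module.Basis.ofVectorSpace k H
  let 𝔟 := Algebra.TensorProduct.basis S b
  apply 𝔟.repr.injective
  rw [map_smul, map_zero]
  have h1 : s • 𝔟.repr y = 0 := by rw [← map_smul, hy, map_zero]
  ext β
  have := DFunLike.congr_fun h1 β
  rw [Finsupp.smul_apply, smul_eq_mul] at this
  rw [Finsupp.smul_apply, smul_eq_mul, hst _ this]
  rfl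

end T


section Hopf
variable {k : Type u} [Field k] {H : Type u} [CommRing H] [HopfAlgebra k H]
  {S : Type u} [CommRing S] [Algebra k S] [HopfRep.Comod k H S]

open HopfRep

variable (k H) in
/-- the coaction as an algebra map -/
noncomputable def ρ
    (hmul : ∀ x y : S, Comod.coact (k := k) (A := H) (x * y) =
      Comod.coact (k := k) (A := H) x * Comod.coact (k := k) (A := H) y)
    (hone : Comod.coact (k := k) (A := H) (1 : S) = 1) : S →ₐ[k] S ⊗[k] H :=
  AlgHom.ofLinearMap (Comod.coact (k := k) (A := H)) hone hmul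

variable (hmul : ∀ x y : S, Comod.coact (k := k) (A := H) (x * y) =
      Comod.coact (k := k) (A := H) x * Comod.coact (k := k) (A := H) y)
    (hone : Comod.coact (k := k) (A := H) (1 : S) = 1)

lemma ρ_apply (x : S) : ρ k H hmul hone x = Comod.coact (k := k) (A := H) x := rfl

/-- the twisted map `(x, g) ↦ (g x, g⁻¹)` on functions -/
noncomputable def Ξ : S ⊗[k] H →ₐ[k] S ⊗[k] H :=
  Algebra.TensorProduct.lift (ρ k H hmul hone)
    ((Algebra.TensorProduct.includeRight).comp (HopfAlgebra.antipodeAlgHom k H))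
    (fun _ _ => Commute.all _ _)

lemma Ξ_tmul (s : S) (h : H) :
    Ξ hmul hone (s ⊗ₜ h) = ρ k H hmul hone s * ((1 : S) ⊗ₜ HopfAlgebra.antipode k h) := by
  simp [Ξ]

omit [Comod k H S] in
lemma Ξ_eq_aux (z : S ⊗[k] H) (h : H) :
    z * ((1 : S) ⊗ₜ[k] HopfAlgebra.antipode k h) =
      LinearMap.lTensor S (LinearMap.mul' k H ∘ₗ LinearMap.lTensor H (HopfAlgebra.antipode k))
        (TensorProduct.assoc k S H H (z ⊗ₜ[k] h)) := by
  induction z using TensorProduct.induction_on with
  | zero => simp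
  | tmul s' h' => simp
  | add x y hx hy => rw [add_mul, hx, hy, TensorProduct.add_tmul, map_add, map_add]

lemma Ξ_ρ (s : S) : Ξ hmul hone (ρ k H hmul hone s) = s ⊗ₜ[k] (1 : H) := by
  have h1 : ∀ z : S ⊗[k] H, Ξ hmul hone z =
      LinearMap.lTensor S (LinearMap.mul' k H ∘ₗ LinearMap.lTensor H (HopfAlgebra.antipode k))
        (TensorProduct.assoc k S H H
          (LinearMap.rTensor H (Comod.coact (k := k) (A := H)) z)) := by
    intro z
    induction z using TensorProduct.induction_on with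
    | zero => simp
    | tmul s' h' =>
      rw [Ξ_tmul, Ξ_eq_aux]
      rfl
    | add x y hx hy => rw [map_add, hx, hy, map_add, map_add, map_add]
  rw [h1]
  have h2 := LinearMap.congr_fun (Comod.coassoc (k := k) (A := H) (V := S)) s
  simp only [LinearMap.comp_apply, LinearEquiv.coe_coe] at h2
  rw [ρ_apply, h2, ← LinearMap.comp_apply, ← LinearMap.lTensor_comp]
  have h3 : (LinearMap.mul' k H ∘ₗ LinearMap.lTensor H (HopfAlgebra.antipode k)) ∘ₗ
      CoalgebraStruct.comul = Algebra.linearMap k H ∘ₗ CoalgebraStruct.counit := by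
    rw [LinearMap.comp_assoc]
    exact HopfAlgebra.mul_antipode_lTensor_comul
  rw [h3, LinearMap.lTensor_comp, LinearMap.comp_apply]
  have h4 := LinearMap.congr_fun (Comod.counit_comp (k := k) (A := H) (V := S)) s
  simp only [LinearMap.comp_apply] at h4
  rw [h4]
  simp


include hmul hone in
/-- invariance of the support idempotent of an invariant element -/
lemma coact_idem {a e : S} (ha : Comod.coact (k := k) (A := H) a = a ⊗ₜ[k] (1 : H))
    (hae : a * e = a) (hsupp : ∀ x, a * x = 0 → e * x = 0) :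
    Comod.coact (k := k) (A := H) e = e ⊗ₜ[k] (1 : H) := by
  have ha' : ρ k H hmul hone a = a ⊗ₜ[k] (1 : H) := ha
  change ρ k H hmul hone e = _
  set r := ρ k H hmul hone with hr
  -- step 1
  have h1 : (a ⊗ₜ[k] (1 : H)) * r (1 - e) = 0 := by
    rw [← ha', ← map_mul, mul_sub, mul_one, hae, sub_self, map_zero]
  have h2 : (e ⊗ₜ[k] (1 : H)) * r (1 - e) = 0 := tmul_one_mul_eq_zero hsupp _ h1
  have h3 : (e ⊗ₜ[k] (1 : H)) * r e = e ⊗ₜ[k] (1 : H) := by
    rw [map_sub, map_one, mul_sub, mul_one, sub_eq_zero] at h2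
    exact h2.symm
  -- step 2
  have h4 := congrArg (Ξ hmul hone) h3
  rw [map_mul, Ξ_ρ, Ξ_tmul, HopfAlgebra.antipode_one, ← Algebra.TensorProduct.one_def,
    mul_one] at h4
  rw [← h4, mul_comm]
  exact h3

include hmul in
/-- descent of invariance along division by an invariant element -/
lemma coact_div {b s e : S} (hb : Comod.coact (k := k) (A := H) b = b ⊗ₜ[k] (1 : H))
    (hbs : Comod.coact (k := k) (A := H) (b * s) = (b * s) ⊗ₜ[k] (1 : H))
    (he : Comod.coact (k := k) (A := H) e = e ⊗ₜ[k] (1 : H))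
    (hes : e * s = s) (hsupp : ∀ x, b * x = 0 → e * x = 0) :
    Comod.coact (k := k) (A := H) s = s ⊗ₜ[k] (1 : H) := by
  have h1 : (b ⊗ₜ[k] (1 : H)) * (Comod.coact (k := k) (A := H) s - s ⊗ₜ[k] (1 : H)) = 0 := by
    rw [mul_sub, ← hb, ← hmul, hbs, hb, Algebra.TensorProduct.tmul_mul_tmul, mul_one, sub_self]
  have h2 := tmul_one_mul_eq_zero hsupp _ h1
  rw [mul_sub, ← he, ← hmul, hes, he, Algebra.TensorProduct.tmul_mul_tmul, mul_one, hes,
    sub_eq_zero] at h2
  exact h2

end Hopf

end Groth.Agent.Lib.Helper12.NormProd
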