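import Mathlib
import Groth.Agent.Lib.Helper12.NormProd2
import Groth.Agent.Lib.Helper12.NormProd3

set_option autoImplicit false
universe u
open TensorProduct

namespace Groth.Agent.Lib.Helper12.NormProd

open HopfRep

theorem invariants_isNormalProd (k : Type u) [Field k]
    (H : Type u) [CommRing H] [HopfAlgebra k H]
    (S : Type u) [CommRing S] [Algebra k S] [HopfRep.Comod k H S]
    (hmul : ∀ x y : S, HopfRep.Comod.coact (k := k) (A := H) (x * y) =
        HopfRep.Comod.coact (k := k) (A := H) x * HopfRep.Comod.coact (k := k) (A := H) y)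
    (hone : HopfRep.Comod.coact (k := k) (A := H) (1 : S) = 1)
    {ι : Type u} [Fintype ι] (D : ι → Type u) [∀ i, CommRing (D i)] [∀ i, IsDomain (D i)]
    [∀ i, IsIntegrallyClosed (D i)] (e : S ≃+* Π i, D i)
    (A : Subalgebra k S)
    (hA : ∀ a : S, a ∈ A ↔ HopfRep.Comod.coact (k := k) (A := H) a = a ⊗ₜ[k] (1 : H)) :
    IsNormalProd A := by
  let B : Subring (Π i, D i) := A.toSubring.map e.toRingHom
  have hBmem : ∀ a : S, e a ∈ B ↔ a ∈ A := by
    intro a
    constructor
    · rintro ⟨a', ha', h⟩
      have : a' = a := e.injective h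
      exact this ▸ ha'
    · intro ha
      exact ⟨a, ha, rfl⟩
  -- support facts
  have hsupp : ∀ (a : S) (x : S), a * x = 0 → e.symm (sI (e a)) * x = 0 := by
    intro a x hax
    apply e.injective
    rw [map_mul, e.apply_symm_apply, map_zero]
    have h0 : e a * e x = 0 := by rw [← map_mul, hax, map_zero]
    funext i
    have hi : e a i * e x i = 0 := congrFun h0 i
    rcases mul_eq_zero.mp hi with h | h
    · rw [Pi.mul_apply, sI_apply_of_eq h, zero_mul]; rfl
    · rw [Pi.mul_apply, h, mul_zero]; rfl
  have hp1 : ∀ a ∈ A, e.symm (sI (e a)) ∈ A := by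
    intro a ha
    rw [hA] at ha ⊢
    refine coact_idem hmul hone ha ?_ (hsupp a)
    apply e.injective
    rw [map_mul, e.apply_symm_apply, mul_comm, sI_mul_self]
  have hB : Good B := by
    constructor
    · rintro _ ⟨a, ha, rfl⟩
      have := hp1 a ha
      rw [← hBmem, e.apply_symm_apply] at this
      exact this
    · rintro _ ⟨b, hb, rfl⟩ s' hbs hs'
      have hbs' : b * e.symm s' ∈ A := by
        rw [← hBmem, map_mul, e.apply_symm_apply]
        exact hbs
      have hes : e.symm (sI (e b)) * e.symm s' = e.symm s' := by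
        rw [← map_mul]
        exact congrArg e.symm hs'
      have : e.symm s' ∈ A := by
        rw [hA]
        exact coact_div hmul ((hA b).mp hb) ((hA _).mp hbs') ((hA _).mp (hp1 b hb)) hes (hsupp b)
      rw [← hBmem, e.apply_symm_apply] at this
      exact this
  have h1 : IsNormalProd B := isNormalProd_of_good _ ι D B rfl hB
  have eAB : A.toSubring ≃+* B := A.toSubring.equivMapOfInjective e.toRingHom e.injective
  have eA : A ≃+* A.toSubring :=
    { toFun := fun x => ⟨x.1, x.2⟩
      invFun := fun x => ⟨x.1, x.2⟩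
      left_inv := fun _ => rfl
      right_inv := fun _ => rfl
      map_mul' := fun _ _ => rfl
      map_add' := fun _ _ => rfl }
  exact h1.of_equiv (eA.trans eAB).symm

end Groth.Agent.Lib.Helper12.NormProd
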