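import Mathlib

universe u

open CategoryTheory CategoryTheory.Limits AlgebraicGeometry Topology TopologicalSpace

namespace Groth.Agent.Lib.Helper12.H12OpenLim


/-- Uniqueness part of `SpecToEquivOfLocalRing` at a fixed point. -/
theorem eq_of_SpecMap_comp_fromSpecStalk_eq {X : Scheme.{u}} (x : X) {R : CommRingCat.{u}}
    [IsLocalRing R] (a b : X.presheaf.stalk x ⟶ R) [ha : IsLocalHom a.hom] [hb : IsLocalHom b.hom]
    (h : Spec.map a ≫ X.fromSpecStalk x = Spec.map b ≫ X.fromSpecStalk x) : a = b := by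
  have := (SpecToEquivOfLocalRing X R).symm.injective
    (a₁ := ⟨x, a, ha⟩) (a₂ := ⟨x, b, hb⟩) h
  simpa using this

/-- If a monomorphism `f : X ⟶ Y` admits a lift `σ` of `Spec 𝒪_{Y, f x} ⟶ Y` through `f`, then the stalk
map of `f` at `x` is an isomorphism. -/
theorem isIso_stalkMap_of_section {X Y : Scheme.{u}} (f : X ⟶ Y) [Mono f] (x : X)
    (σ : Spec (Y.presheaf.stalk (f x)) ⟶ X) (hσ : σ ≫ f = Y.fromSpecStalk (f x)) :
    IsIso (f.stalkMap x) := by
  have h2 : Spec.map (f.stalkMap x) ≫ σ = X.fromSpecStalk x := by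
    rw [← cancel_mono f, Category.assoc, hσ, Scheme.SpecMap_stalkMap_fromSpecStalk]
  have h3 : σ (IsLocalRing.closedPoint (Y.presheaf.stalk (f x))) = x := by
    apply f.injective
    rw [← Scheme.Hom.comp_apply, hσ, Scheme.fromSpecStalk_closedPoint]
  have hsp : σ (IsLocalRing.closedPoint (Y.presheaf.stalk (f x))) ⤳ x := specializes_of_eq h3
  have hiso : IsIso (X.presheaf.stalkSpecializes hsp) :=
    (X.presheaf.stalkCongr (Inseparable.of_eq h3.symm)).isIso_hom
  let ψ : X.presheaf.stalk x ⟶ Y.presheaf.stalk (f x) :=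
    X.presheaf.stalkSpecializes hsp ≫ Scheme.stalkClosedPointTo σ
  have hψ : Spec.map ψ ≫ X.fromSpecStalk x = σ := by
    simp only [ψ, Spec.map_comp, Category.assoc, Scheme.SpecMap_stalkSpecializes_fromSpecStalk,
      Scheme.Spec_stalkClosedPointTo_fromSpecStalk]
  have hloc : IsLocalHom ψ.hom := by
    have h1 : IsLocalHom (X.presheaf.stalkSpecializes hsp).hom := isLocalHom_of_isIso _
    have h2 : IsLocalHom (Scheme.stalkClosedPointTo σ).hom := inferInstance
    simp only [ψ, CommRingCat.hom_comp]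
    exact RingHom.isLocalHom_comp _ _
  have hφ : IsLocalHom (f.stalkMap x).hom := inferInstance
  have e1 : ψ ≫ f.stalkMap x = 𝟙 _ := by
    have : IsLocalHom (ψ ≫ f.stalkMap x).hom := by
      simp only [CommRingCat.hom_comp]; exact RingHom.isLocalHom_comp _ _
    have : IsLocalHom (CommRingCat.Hom.hom (𝟙 (X.presheaf.stalk x))) := by
      simp only [CommRingCat.hom_id]; exact isLocalHom_id _
    apply eq_of_SpecMap_comp_fromSpecStalk_eq x
    rw [Spec.map_comp, Category.assoc, hψ, h2, Spec.map_id, Category.id_comp]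
  have e2 : f.stalkMap x ≫ ψ = 𝟙 _ := by
    have : IsLocalHom (f.stalkMap x ≫ ψ).hom := by
      simp only [CommRingCat.hom_comp]; exact RingHom.isLocalHom_comp _ _
    have : IsLocalHom (CommRingCat.Hom.hom (𝟙 (Y.presheaf.stalk (f x)))) := by
      simp only [CommRingCat.hom_id]; exact isLocalHom_id _
    apply eq_of_SpecMap_comp_fromSpecStalk_eq (f x)
    rw [Spec.map_comp, Category.assoc, Scheme.SpecMap_stalkMap_fromSpecStalk, ← Category.assoc, hψ, hσ,
      Spec.map_id, Category.id_comp]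
  exact ⟨ψ, e2, e1⟩



section Lim
variable {I : Type u} [SmallCategory I] [IsCofiltered I] (D : I ⥤ Scheme.{u}) (c : Cone D)
  (hc : IsLimit c)

include hc in
theorem mono_π_app (hm : ∀ (i j : I) (φ : i ⟶ j), Mono (D.map φ)) (i : I) : Mono (c.π.app i) := by
  constructor
  intro T a b hab
  apply hc.hom_ext
  intro j
  have h1 : a ≫ c.π.app (IsCofiltered.min i j) = b ≫ c.π.app (IsCofiltered.min i j) := by
    haveI := hm _ _ (IsCofiltered.minToLeft i j)
    rw [← cancel_mono (D.map (IsCofiltered.minToLeft i j)), Category.assoc, Category.assoc, c.w, hab]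
  rw [← c.w (IsCofiltered.minToRight i j), ← Category.assoc, h1, Category.assoc]

include hc in
theorem isEmbedding_π_app [∀ {i j : I} (f : i ⟶ j), IsAffineHom (D.map f)]
    (hoi : ∀ (i j : I) (φ : i ⟶ j), IsOpenImmersion (D.map φ)) (i : I) :
    IsEmbedding (c.π.app i) := by
  have hm : ∀ (i j : I) (φ : i ⟶ j), Mono (D.map φ) := fun i j φ => by
    haveI := hoi i j φ; infer_instance
  haveI := mono_π_app D c hc hm i
  refine ⟨⟨?_⟩, (c.π.app i).injective⟩
  refine le_antisymm (c.π.app i).continuous.le_induced ?_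
  intro U hU
  obtain ⟨S, hS, rfl⟩ := (isBasis_preimage_isAffineOpen D c hc).open_eq_sUnion hU
  refine @isOpen_sUnion _ (TopologicalSpace.induced (c.π.app i) inferInstance) S ?_
  intro t ht
  obtain ⟨_, ⟨j, V, hV, rfl⟩, rfl⟩ := hS ht
  rw [isOpen_induced_iff]
  let k := IsCofiltered.min i j
  let a : k ⟶ i := IsCofiltered.minToLeft i j
  let b : k ⟶ j := IsCofiltered.minToRight i j
  haveI := hoi _ _ a
  refine ⟨((D.map a) ''ᵁ ((D.map b) ⁻¹ᵁ V) : (D.obj i).Opens), Opens.isOpen _, ?_⟩
  have h1 : c.π.app i ⁻¹ᵁ ((D.map a) ''ᵁ ((D.map b) ⁻¹ᵁ V)) = c.π.app j ⁻¹ᵁ V := by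
    rw [← c.w a, Scheme.Hom.comp_preimage, Scheme.Hom.preimage_image_eq, ← Scheme.Hom.comp_preimage, c.w b]
  exact congrArg (fun W : c.pt.Opens => (W : Set c.pt)) h1

end Lim



section Lim
variable {I : Type u} [SmallCategory I] [IsCofiltered I] (D : I ⥤ Scheme.{u}) (c : Cone D)
  (hc : IsLimit c)

include hc in
/-- For a cofiltered limit along open immersions, `Spec 𝒪_{S_i, π_i s} ⟶ S_i` lifts to the limit. -/
theorem exists_lift_fromSpecStalk
    (hoi : ∀ (i j : I) (φ : i ⟶ j), IsOpenImmersion (D.map φ)) (i : I) (s : c.pt) :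
    ∃ σ : Spec ((D.obj i).presheaf.stalk (c.π.app i s)) ⟶ c.pt,
      σ ≫ c.π.app i = (D.obj i).fromSpecStalk (c.π.app i s) := by
  have hrange : ∀ j : Over i, Set.range ((D.obj i).fromSpecStalk (c.π.app i s)) ⊆
      Set.range (D.map j.hom) := by
    intro j
    haveI := hoi _ _ j.hom
    rw [Scheme.range_fromSpecStalk]
    intro y (hy : y ⤳ c.π.app i s)
    have hx : c.π.app i s ∈ Set.range (D.map j.hom) := ⟨c.π.app j.left s, by
      rw [← Scheme.Hom.comp_apply, c.w]⟩
    exact hy.mem_open (D.map j.hom).opensRange.2 hx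
  let ℓ : ∀ j : Over i, Spec ((D.obj i).presheaf.stalk (c.π.app i s)) ⟶ D.obj j.left := fun j =>
    haveI := hoi _ _ j.hom
    IsOpenImmersion.lift (D.map j.hom) ((D.obj i).fromSpecStalk (c.π.app i s)) (hrange j)
  have hℓ : ∀ j : Over i, ℓ j ≫ D.map j.hom = (D.obj i).fromSpecStalk (c.π.app i s) := fun j => by
    haveI := hoi _ _ j.hom
    exact IsOpenImmersion.lift_fac _ _ _
  let cσ : Cone (Over.forget i ⋙ D) :=
    { pt := Spec ((D.obj i).presheaf.stalk (c.π.app i s))
      π := { app := fun j => ℓ j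
             naturality := fun j j' g => by
               haveI := hoi _ _ j'.hom
               simp only [Functor.const_obj_obj, Functor.const_obj_map, Category.id_comp,
                 Functor.comp_obj, Over.forget_obj, Functor.comp_map, Over.forget_map]
               rw [← cancel_mono (D.map j'.hom), hℓ, Category.assoc, ← D.map_comp, Over.w, hℓ] } }
  have hlim : IsLimit (c.whisker (Over.forget i)) :=
    (Functor.Initial.isLimitWhiskerEquiv (Over.forget i) c).symm hc
  refine ⟨hlim.lift cσ, ?_⟩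
  have h1 := hlim.fac cσ (Over.mk (𝟙 i))
  have h2 := hℓ (Over.mk (𝟙 i))
  simp only [Over.mk_left, Over.mk_hom, D.map_id, Category.comp_id] at h2
  rw [← h2]
  exact h1

end Lim


section Main
variable {I : Type u} [SmallCategory I] [IsCofiltered I] (D : I ⥤ Scheme.{u}) (c : Cone D)
  (hc : IsLimit c)

include hc in
theorem isIso_stalkMap_π_app
    (hoi : ∀ (i j : I) (φ : i ⟶ j), IsOpenImmersion (D.map φ)) (i : I) (s : c.pt) :
    IsIso ((c.π.app i).stalkMap s) := by
  have hm : ∀ (i j : I) (φ : i ⟶ j), Mono (D.map φ) := fun i j φ => by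
    haveI := hoi i j φ; infer_instance
  haveI := mono_π_app D c hc hm i
  obtain ⟨σ, hσ⟩ := exists_lift_fromSpecStalk D c hc hoi i s
  exact isIso_stalkMap_of_section (c.π.app i) s σ hσ

end Main

end Groth.Agent.Lib.Helper12.H12OpenLim
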