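import Mathlib
import Groth.Agent.Lib.Helper12.OpenLim1
import Groth.Agent.Lib.Helper12.ConsP8
import Groth.Agent.Lib.Helper29.QCohBasic

universe u

open CategoryTheory CategoryTheory.Limits AlgebraicGeometry Topology TopologicalSpace

namespace Groth.Agent.Lib.Helper12.H12OpenLim


theorem isReduced_iff_of_isLocalization {A : Type*} [CommRing A] (M : Submonoid A) (S : Type*)
    [CommRing S] [Algebra A S] [IsLocalization M S] :
    IsReduced S ↔ ∀ n ∈ nilradical A, ∃ r ∈ M, r * n = 0 := by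
  constructor
  · intro h n hn
    have h1 : IsNilpotent (algebraMap A S n) := (mem_nilradical.mp hn).map _
    have h2 : algebraMap A S n = 0 := h1.eq_zero
    obtain ⟨m, hm⟩ := (IsLocalization.map_eq_zero_iff M S n).mp h2
    exact ⟨m, m.2, hm⟩
  · intro h
    constructor
    intro y hy
    obtain ⟨x, s, rfl⟩ := IsLocalization.exists_mk'_eq M y
    obtain ⟨k, hk⟩ := hy
    rw [← IsLocalization.mk'_pow, IsLocalization.mk'_eq_zero_iff] at hk
    obtain ⟨t, ht⟩ := hk
    have h1 : (t * x) ^ (k + 1) = 0 := by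
      have : (t : A) ^ (k+1) * x ^ (k+1) = (t : A)^k * x * (t * x ^ k) := by ring
      rw [mul_pow, this, ht, mul_zero]
    have h2 : (t : A) * x ∈ nilradical A := mem_nilradical.mpr ⟨k + 1, h1⟩
    obtain ⟨r, hr, hr0⟩ := h _ h2
    rw [IsLocalization.mk'_eq_zero_iff]
    exact ⟨⟨r, hr⟩ * t, by simpa [mul_assoc] using hr0⟩


theorem isReduced_stalk_iff {X : Scheme.{u}} {U : X.Opens} (hU : IsAffineOpen U) (x : X)
    (hx : x ∈ U) :
    _root_.IsReduced (X.presheaf.stalk x) ↔
      ∀ n ∈ nilradical Γ(X, U), ∃ r : Γ(X, U), x ∈ X.basicOpen r ∧ r * n = 0 := by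
  let : Algebra Γ(X, U) (X.presheaf.stalk x) :=
    TopCat.Presheaf.algebra_section_stalk X.presheaf ⟨x, hx⟩
  have := hU.isLocalization_stalk ⟨x, hx⟩
  rw [isReduced_iff_of_isLocalization (hU.primeIdealOf ⟨x, hx⟩).asIdeal.primeCompl
    (X.presheaf.stalk x)]
  refine forall₂_congr fun n hn => ?_
  constructor
  · rintro ⟨r, hr, h0⟩
    exact ⟨r, (Groth.Agent.Lib.Helper29.QCoh.mem_basicOpen_iff_notMem_primeIdealOf hU x hx r).mpr hr, h0⟩
  · rintro ⟨r, hr, h0⟩
    exact ⟨r, (Groth.Agent.Lib.Helper29.QCoh.mem_basicOpen_iff_notMem_primeIdealOf hU x hx r).mp hr, h0⟩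

theorem isOpen_reducedLocus (X : Scheme.{u})
    (hN : ∀ U : X.affineOpens, (nilradical Γ(X, U)).FG) :
    IsOpen {x : X | _root_.IsReduced (X.presheaf.stalk x)} := by
  classical
  rw [isOpen_iff_forall_mem_open]
  intro x hx
  obtain ⟨_, ⟨U, hU, rfl⟩, hxU, -⟩ :=
    X.isBasis_affineOpens.exists_subset_of_mem_open (Set.mem_univ x) isOpen_univ
  obtain ⟨G, hG⟩ := hN ⟨U, hU⟩
  have h1 := (isReduced_stalk_iff hU x hxU).mp hx
  choose! r hr using h1
  have hGn : ∀ g ∈ G, g ∈ nilradical Γ(X, U) := fun g hg => by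
    rw [← hG]; exact Ideal.subset_span hg
  refine ⟨X.basicOpen (∏ g ∈ G, r g), ?_, (X.basicOpen _).2, ?_⟩
  · intro y hy
    have hyU : y ∈ U := X.basicOpen_le _ hy
    refine (isReduced_stalk_iff hU y hyU).mpr fun n hn => ⟨∏ g ∈ G, r g, hy, ?_⟩
    rw [← hG] at hn
    refine Submodule.span_induction (p := fun n _ => (∏ g ∈ G, r g) * n = 0) ?_ ?_ ?_ ?_ hn
    · intro g hg
      obtain ⟨c, hc⟩ := Finset.dvd_prod_of_mem r hg
      rw [hc, mul_comm (r g) c, mul_assoc, (hr g (hGn g hg)).2, mul_zero]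
    · simp
    · intro a b _ _ ha hb
      rw [mul_add, ha, hb, add_zero]
    · intro a b _ hb
      rw [smul_eq_mul, mul_left_comm, hb, mul_zero]
  · change x ∈ X.basicOpen (∏ g ∈ G, r g)
    rw [Groth.Agent.Lib.Helper29.QCoh.mem_basicOpen_iff_notMem_primeIdealOf hU x hxU]
    intro hmem
    obtain ⟨g, hg, hgm⟩ := (Ideal.IsPrime.prod_mem_iff).mp hmem
    exact (Groth.Agent.Lib.Helper29.QCoh.mem_basicOpen_iff_notMem_primeIdealOf hU x hxU _).mp
      (hr g (hGn g hg)).1 hgm

theorem isReduced_of_isOpenImmersion {X Y : Scheme.{u}} (f : Y ⟶ X) [IsOpenImmersion f]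
    (h : ∀ y : Y, _root_.IsReduced (X.presheaf.stalk (f y))) : IsReduced Y := by
  have : ∀ y : Y, _root_.IsReduced (Y.presheaf.stalk y) := fun y => by
    have := h y
    exact isReduced_of_injective (inv (f.stalkMap y)).hom
      ((ConcreteCategory.bijective_of_isIso (inv (f.stalkMap y))).injective)
  exact isReduced_of_isReduced_stalk Y


section Lim
variable {I : Type u} [SmallCategory I] [IsCofiltered I] (D : I ⥤ Scheme.{u}) (c : Cone D)
  (hc : IsLimit c)

include hc in
theorem isReduced_iff_stage [∀ (i j : I) (f : i ⟶ j), IsAffineHom (D.map f)] (i₀ : I)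
    [CompactSpace (D.obj i₀)] (hoi : ∀ (i j : I) (φ : i ⟶ j), IsOpenImmersion (D.map φ))
    (hN : ∀ U : (D.obj i₀).affineOpens, (nilradical Γ(D.obj i₀, U)).FG) :
    IsReduced c.pt ↔ ∃ (i : I) (_ : i ⟶ i₀), ∀ (j : I) (_ : j ⟶ i), IsReduced (D.obj j) := by
  constructor
  · intro hred
    have hE₀ := isOpen_reducedLocus (D.obj i₀) hN
    have h : ∀ s : c.pt, c.π.app i₀ s ∈ {x : D.obj i₀ | _root_.IsReduced ((D.obj i₀).presheaf.stalk x)} := by
      intro s
      have hiso := isIso_stalkMap_π_app D c hc hoi i₀ s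
      have hs : _root_.IsReduced (c.pt.presheaf.stalk s) := inferInstance
      let ψ : (D.obj i₀).presheaf.stalk (c.π.app i₀ s) ⟶ c.pt.presheaf.stalk s :=
        (c.π.app i₀).stalkMap s
      have hψ : IsIso ψ := hiso
      exact isReduced_of_injective ψ.hom ((ConcreteCategory.bijective_of_isIso ψ).injective)
    obtain ⟨j, φ, hj⟩ := Groth.Agent.Lib.Helper12.H12ConsP.exists_stage_preimage_univ D c hc i₀ _
      (Groth.Agent.Lib.Helper17.ProConsLib.isIndConstructible_of_isOpen hE₀) h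
    refine ⟨j, φ, fun k ψ => ?_⟩
    haveI := hoi _ _ (ψ ≫ φ)
    refine isReduced_of_isOpenImmersion (D.map (ψ ≫ φ)) fun y => ?_
    have := hj (D.map ψ y)
    rw [← Scheme.Hom.comp_apply, ← D.map_comp] at this
    exact this
  · rintro ⟨i, φ, h⟩
    have := h i (𝟙 i)
    have : ∀ s : c.pt, _root_.IsReduced (c.pt.presheaf.stalk s) := fun s => by
      have hiso := isIso_stalkMap_π_app D c hc hoi i s
      let ψ : (D.obj i).presheaf.stalk (c.π.app i s) ⟶ c.pt.presheaf.stalk s :=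
        (c.π.app i).stalkMap s
      have hψ : IsIso ψ := hiso
      exact isReduced_of_injective (inv ψ).hom ((ConcreteCategory.bijective_of_isIso (inv ψ)).injective)
    exact isReduced_of_isReduced_stalk c.pt

end Lim


end Groth.Agent.Lib.Helper12.H12OpenLim
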