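import Mathlib
import Groth.Agent.Lib.Helper12.OpenLim2

universe u

open CategoryTheory CategoryTheory.Limits AlgebraicGeometry Topology TopologicalSpace

namespace Groth.Agent.Lib.Helper12.H12OpenLim

theorem irreducibleSpace_of_forall_specializes {X : Type*} [TopologicalSpace X] (x : X)
    (h : ∀ y : X, x ⤳ y) : IrreducibleSpace X := by
  rw [irreducibleSpace_def]
  have : closure ({x} : Set X) = Set.univ := by
    ext y; simp only [Set.mem_univ, iff_true]; exact specializes_iff_mem_closure.mp (h y)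
  change IsIrreducible (Set.univ : Set X)
  rw [← this]
  exact isIrreducible_singleton.closure

theorem isIndConstructible_of_isClosed {X : Scheme.{u}} [IsLocallyNoetherian X] {Z : Set X}
    (hZ : IsClosed Z) : ProCons.IsIndConstructible Z := by
  apply Groth.Agent.Lib.Helper17.ProConsLib.isIndConstructible_of_nhds_in_closure
  intro x hx
  have : (Subtype.val ⁻¹' Z : Set ↥(closure ({x} : Set X))) = Set.univ := by
    ext ⟨w, hw⟩
    simp only [Set.mem_preimage, Set.mem_univ, iff_true]
    exact (specializes_iff_mem_closure.mpr hw).mem_closed hZ hx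
  rw [this]
  exact Filter.univ_mem

section Lim
variable {I : Type u} [SmallCategory I] [IsCofiltered I] (D : I ⥤ Scheme.{u}) (c : Cone D)
  (hc : IsLimit c)

include hc in
theorem irreducibleSpace_iff_stage [∀ (i j : I) (f : i ⟶ j), IsAffineHom (D.map f)] (i₀ : I)
    [IsNoetherian (D.obj i₀)] (hoi : ∀ (i j : I) (φ : i ⟶ j), IsOpenImmersion (D.map φ)) :
    IrreducibleSpace c.pt ↔
      ∃ (i : I) (_ : i ⟶ i₀), ∀ (j : I) (_ : j ⟶ i), IrreducibleSpace (D.obj j) := by
  have haff : ∀ {i j : I} (f : i ⟶ j), IsAffineHom (D.map f) := fun f => inferInstance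
  constructor
  · intro hirr
    let ξ : c.pt := genericPoint c.pt
    have hξ : ∀ s : c.pt, ξ ⤳ s := fun s => by
      rw [specializes_iff_mem_closure, (genericPoint_spec c.pt).def]; trivial
    let y := c.π.app i₀ ξ
    have h : ∀ s : c.pt, c.π.app i₀ s ∈ closure ({y} : Set (D.obj i₀)) := fun s =>
      specializes_iff_mem_closure.mp ((hξ s).map (c.π.app i₀).continuous)
    obtain ⟨j, φ, hj⟩ := Groth.Agent.Lib.Helper12.H12ConsP.exists_stage_preimage_univ D c hc i₀ _
      (isIndConstructible_of_isClosed isClosed_closure) h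
    refine ⟨j, φ, fun k ψ => ?_⟩
    haveI := hoi _ _ (ψ ≫ φ)
    refine irreducibleSpace_of_forall_specializes (c.π.app k ξ) fun t => ?_
    have h1 : D.map (ψ ≫ φ) t ∈ closure ({y} : Set (D.obj i₀)) := by
      have := hj (D.map ψ t)
      rwa [← Scheme.Hom.comp_apply, ← D.map_comp] at this
    have h2 : D.map (ψ ≫ φ) (c.π.app k ξ) = y := by
      rw [← Scheme.Hom.comp_apply, c.w]
    rw [← (D.map (ψ ≫ φ)).isOpenEmbedding.isInducing.specializes_iff, h2]
    exact specializes_iff_mem_closure.mpr h1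
  · rintro ⟨i, φ, h⟩
    have hi := h i (𝟙 i)
    let η : D.obj i := genericPoint (D.obj i)
    have hη : η ∈ Set.range (c.π.app i) := by
      rw [Groth.Agent.Lib.Helper11.range_π_eq_iInter_range_map D c hc i]
      simp only [Set.mem_iInter]
      intro j a
      haveI := hoi _ _ a
      have hne : Nonempty (D.obj j) := (h j a).toNonempty
      obtain ⟨t⟩ := hne
      exact ((genericPoint_spec (D.obj i)).mem_open_set_iff (D.map a).opensRange.2).mpr
        ⟨D.map a t, trivial, ⟨t, rfl⟩⟩
    obtain ⟨ξ, hξ⟩ := hη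
    refine irreducibleSpace_of_forall_specializes ξ fun s => ?_
    rw [← (isEmbedding_π_app D c hc hoi i).isInducing.specializes_iff, hξ]
    rw [specializes_iff_mem_closure, (genericPoint_spec (D.obj i)).def]; trivial

include hc in
theorem isIntegral_iff_stage [∀ (i j : I) (f : i ⟶ j), IsAffineHom (D.map f)] (i₀ : I)
    [IsNoetherian (D.obj i₀)] (hoi : ∀ (i j : I) (φ : i ⟶ j), IsOpenImmersion (D.map φ)) :
    IsIntegral c.pt ↔
      ∃ (i : I) (_ : i ⟶ i₀), ∀ (j : I) (_ : j ⟶ i), IsIntegral (D.obj j) := by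
  have hN : ∀ U : (D.obj i₀).affineOpens, (nilradical Γ(D.obj i₀, U)).FG := fun U => by
    have : IsNoetherianRing Γ(D.obj i₀, U) := IsLocallyNoetherian.component_noetherian U
    exact (isNoetherianRing_iff_ideal_fg _).mp this _
  constructor
  · intro h
    obtain ⟨i₁, φ₁, H1⟩ := (isReduced_iff_stage D c hc i₀ hoi hN).mp inferInstance
    obtain ⟨i₂, φ₂, H2⟩ := (irreducibleSpace_iff_stage D c hc i₀ hoi).mp inferInstance
    refine ⟨IsCofiltered.min i₁ i₂, IsCofiltered.minToLeft _ _ ≫ φ₁, fun j ψ => ?_⟩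
    have := H1 j (ψ ≫ IsCofiltered.minToLeft _ _)
    have := H2 j (ψ ≫ IsCofiltered.minToRight _ _)
    exact isIntegral_of_irreducibleSpace_of_isReduced _
  · rintro ⟨i, φ, h⟩
    have : IsReduced c.pt := (isReduced_iff_stage D c hc i₀ hoi hN).mpr
      ⟨i, φ, fun j ψ => by have := h j ψ; infer_instance⟩
    have : IrreducibleSpace c.pt := (irreducibleSpace_iff_stage D c hc i₀ hoi).mpr
      ⟨i, φ, fun j ψ => by have := h j ψ; infer_instance⟩
    exact isIntegral_of_irreducibleSpace_of_isReduced _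

end Lim

end Groth.Agent.Lib.Helper12.H12OpenLim
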