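import Mathlib

set_option autoImplicit false

namespace H12PFix

open MulAction in
theorem exists_fixed_mod {p : ℕ} [Fact p.Prime] {G : Type*} [Group G] [Finite G]
    (hG : IsPGroup p G)
    {M : Type*} [AddCommGroup M] (hp : ∀ x : M, p • x = 0) (ρ : G →* AddMonoid.End M)
    (N : AddSubgroup M) (hN : ∀ σ, ∀ x ∈ N, ρ σ x ∈ N) (v : M) (hv : v ∉ N) :
    ∃ x : M, x ∉ N ∧ ∀ σ, ρ σ x - x ∈ N := by
  classical
  let ρ' : G → ((M ⧸ N) →+ (M ⧸ N)) := fun σ =>
    QuotientAddGroup.map N N (ρ σ) (fun x hx => hN σ x hx)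
  have hmk : ∀ σ x, ρ' σ (QuotientAddGroup.mk x) = QuotientAddGroup.mk (ρ σ x) := fun _ _ => rfl
  have hone : ∀ q, ρ' 1 q = q := by
    intro q
    induction q using QuotientAddGroup.induction_on with
    | H x => rw [hmk, map_one]; rfl
  have hmul : ∀ σ τ q, ρ' (σ * τ) q = ρ' σ (ρ' τ q) := by
    intro σ τ q
    induction q using QuotientAddGroup.induction_on with
    | H x => rw [hmk, hmk, hmk, map_mul]; rfl
  have hpN : ∀ x : M, p • x ∈ N := fun x => by rw [hp x]; exact N.zero_mem
  haveI instQ : Module (ZMod p) (M ⧸ N) := QuotientAddGroup.zmodModule hpN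
  let S : Set (M ⧸ N) := Set.range fun σ => ρ' σ (QuotientAddGroup.mk v)
  let H : Submodule (ZMod p) (M ⧸ N) := Submodule.span (ZMod p) S
  have hHstab : ∀ (σ : G) (q : M ⧸ N), q ∈ H → ρ' σ q ∈ H := by
    intro σ q hq
    induction hq using Submodule.span_induction with
    | mem y hy =>
      obtain ⟨τ, rfl⟩ := hy
      rw [← hmul]
      exact Submodule.subset_span ⟨σ * τ, rfl⟩
    | zero => rw [map_zero]; exact H.zero_mem
    | add y z _ _ hy hz => rw [map_add]; exact H.add_mem hy hz
    | smul c y _ hy => rw [ZMod.map_smul]; exact H.smul_mem c hy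
  haveI : Module.Finite (ZMod p) H := Module.Finite.span_of_finite (ZMod p) (Set.finite_range _)
  haveI : Finite H := Module.finite_of_finite (ZMod p)
  letI : MulAction G H :=
    { smul := fun σ h => ⟨ρ' σ h.1, hHstab σ h.1 h.2⟩
      one_smul := fun h => Subtype.ext (hone h.1)
      mul_smul := fun σ τ h => Subtype.ext (hmul σ τ h.1) }
  have hsmul : ∀ (σ : G) (h : H), ((σ • h : H) : M ⧸ N) = ρ' σ h.1 := fun _ _ => rfl
  have hvH : (QuotientAddGroup.mk v : M ⧸ N) ∈ H :=
    Submodule.subset_span ⟨1, hone _⟩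
  have hv0 : (QuotientAddGroup.mk v : M ⧸ N) ≠ 0 := by
    intro h
    exact hv ((QuotientAddGroup.eq_zero_iff v).mp h)
  have hcard : p ∣ Nat.card H := by
    have hPG : IsPGroup p (Multiplicative H) := ZModModule.isPGroup_multiplicative
    have h1 : Nat.card (Multiplicative H) = 1 ∨ p ∣ Nat.card (Multiplicative H) :=
      hPG.card_eq_or_dvd
    have h2 : Nat.card (Multiplicative H) = Nat.card H := rfl
    rw [h2] at h1
    rcases h1 with h1 | h1
    · exfalso
      have hsub : Subsingleton H := (Nat.card_eq_one_iff_unique.mp h1).1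
      have : (⟨_, hvH⟩ : H) = 0 := Subsingleton.elim _ _
      exact hv0 (congrArg Subtype.val this)
    · exact h1
  have h0 : (0 : H) ∈ fixedPoints G H := by
    intro σ
    apply Subtype.ext
    rw [hsmul]
    exact map_zero _
  obtain ⟨b, hb, hb0⟩ := hG.exists_fixed_point_of_prime_dvd_card_of_fixed_point H hcard h0
  obtain ⟨x, hx⟩ := QuotientAddGroup.mk_surjective b.1
  refine ⟨x, ?_, ?_⟩
  · intro hxN
    apply hb0
    apply Subtype.ext
    rw [← hx]
    exact ((QuotientAddGroup.eq_zero_iff x).mpr hxN).symm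
  · intro σ
    have h1 := congrArg Subtype.val (hb σ)
    rw [hsmul, ← hx, hmk] at h1
    rw [← QuotientAddGroup.eq_zero_iff, QuotientAddGroup.mk_sub, h1, sub_self]

end H12PFix
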