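import Mathlib
import Groth.Agent.Lib.Helper12.PFix1

set_option autoImplicit false

namespace H12PFix

variable {p : ℕ} [Fact p.Prime] {G : Type*} [Group G] [Finite G]
  {κ : Type*} [Field κ] {Ω : Type*} [AddCommGroup Ω] [Module κ Ω]

/-- the underlying additive representation. -/
def addRep (ρ : G →* (Ω →ₗ[κ] Ω)) : G →* AddMonoid.End Ω where
  toFun σ := (ρ σ).toAddMonoidHom
  map_one' := by ext x; rw [map_one]; rfl
  map_mul' a b := by ext x; rw [map_mul]; rfl

@[simp] lemma addRep_apply (ρ : G →* (Ω →ₗ[κ] Ω)) (σ : G) (x : Ω) : addRep ρ σ x = ρ σ x := rfl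

theorem exists_flag_aux (hG : IsPGroup p G) [FiniteDimensional κ Ω]
    (hp : ∀ x : Ω, p • x = 0)
    (ρ : G →* (Ω →ₗ[κ] Ω)) (k : ℕ) (hk : k ≤ Module.finrank κ Ω) :
    ∃ b : Fin k → Ω, LinearIndependent κ b ∧
      ∀ σ i, ρ σ (b i) - b i ∈ Submodule.span κ (b '' {j | j < i}) := by
  classical
  induction k with
  | zero => exact ⟨Fin.elim0, linearIndependent_empty_type, fun _ i => i.elim0⟩
  | succ k ih =>
    obtain ⟨b, hli, hflag⟩ := ih (by omega)
    set U := Submodule.span κ (Set.range b) with hU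
    have hUstab : ∀ σ, ∀ x ∈ U, ρ σ x ∈ U := by
      intro σ x hx
      induction hx using Submodule.span_induction with
      | mem y hy =>
        obtain ⟨i, rfl⟩ := hy
        have h1 : ρ σ (b i) - b i ∈ U :=
          Submodule.span_mono (Set.image_subset_range _ _) (hflag σ i)
        have h2 : b i ∈ U := Submodule.subset_span ⟨i, rfl⟩
        have : ρ σ (b i) = (ρ σ (b i) - b i) + b i := by abel
        rw [this]
        exact U.add_mem h1 h2
      | zero => rw [map_zero]; exact U.zero_mem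
      | add y z _ _ hy hz => rw [map_add]; exact U.add_mem hy hz
      | smul c y _ hy => rw [map_smul]; exact U.smul_mem c hy
    have hUrank : Module.finrank κ U = k := by
      rw [hU, finrank_span_eq_card hli, Fintype.card_fin]
    have hUtop : U ≠ ⊤ := by
      intro h
      rw [h, finrank_top] at hUrank
      omega
    obtain ⟨v, hv⟩ : ∃ v, v ∉ U := by
      by_contra hcon
      push Not at hcon
      exact hUtop (eq_top_iff.mpr fun x _ => hcon x)
    obtain ⟨x, hxU, hx⟩ := exists_fixed_mod hG hp (addRep ρ) U.toAddSubgroup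
      (fun σ y hy => hUstab σ y hy) v hv
    refine ⟨Fin.snoc b x, hli.finSnoc hxU, ?_⟩
    intro σ i
    refine Fin.lastCases ?_ (fun j => ?_) i
    · rw [Fin.snoc_last]
      refine Submodule.span_mono ?_ (hx σ)
      rintro _ ⟨j, rfl⟩
      exact ⟨Fin.castSucc j, Fin.castSucc_lt_last j, Fin.snoc_castSucc _ _ _⟩
    · rw [Fin.snoc_castSucc]
      refine Submodule.span_mono ?_ (hflag σ j)
      rintro _ ⟨l, hl, rfl⟩
      exact ⟨Fin.castSucc l, Fin.castSucc_lt_castSucc_iff.mpr hl, Fin.snoc_castSucc _ _ _⟩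

theorem exists_flag (hG : IsPGroup p G) [FiniteDimensional κ Ω]
    (hp : ∀ x : Ω, p • x = 0)
    (ρ : G →* (Ω →ₗ[κ] Ω)) (n : ℕ) (hn : Module.finrank κ Ω = n) :
    ∃ b : Fin n → Ω, Submodule.span κ (Set.range b) = ⊤ ∧
      ∀ σ i, ρ σ (b i) - b i ∈ Submodule.span κ (b '' {j | j < i}) := by
  obtain ⟨b, hli, hflag⟩ := exists_flag_aux hG hp ρ n hn.ge
  refine ⟨b, ?_, hflag⟩
  exact hli.span_eq_top_of_card_eq_finrank' (by rw [Fintype.card_fin, hn])

end H12PFix
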