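import Mathlib
import Groth.Agent.Lib.Helper12.PFix2
import Groth.Agent.S15795

set_option autoImplicit false
universe u v

namespace H12PFix

open IsLocalRing

section cot
variable {A : Type u} [CommRing A] [IsLocalRing A]

/-- membership in a residue-field span of cotangent classes, read in the ring. -/
lemma mem_span_sup_sq (s : Set (maximalIdeal A)) (y : maximalIdeal A)
    (hy : (maximalIdeal A).toCotangent y ∈
      Submodule.span (ResidueField A) ((maximalIdeal A).toCotangent '' s)) :
    (y : A) ∈ Ideal.span (Subtype.val '' s) ⊔ maximalIdeal A ^ 2 := by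
  have h1 : (Submodule.span (ResidueField A) ((maximalIdeal A).toCotangent '' s)).restrictScalars A
      = Submodule.span A ((maximalIdeal A).toCotangent '' s) :=
    Submodule.restrictScalars_span _ _ Ideal.Quotient.mk_surjective _
  have h2 : (maximalIdeal A).toCotangent y ∈
      Submodule.span A ((maximalIdeal A).toCotangent '' s) := by
    rw [← h1]; exact hy
  rw [← Submodule.map_span] at h2
  obtain ⟨z, hz, hzy⟩ := h2
  have h3 : ((z : A) - (y : A)) ∈ maximalIdeal A ^ 2 := (Ideal.toCotangent_eq _).mp hzy
  have h4 : (z : A) ∈ Ideal.span (Subtype.val '' s) := by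
    have : (z : A) ∈ Submodule.map (maximalIdeal A).subtype (Submodule.span A s) := ⟨z, hz, rfl⟩
    rw [Submodule.map_span] at this
    exact this
  have : (y : A) = (z : A) + -((z : A) - (y : A)) := by ring
  rw [this]
  exact Submodule.add_mem_sup h4 (Submodule.neg_mem _ h3)

end cot

end H12PFix
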