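import Mathlib
import Groth.Agent.Lib.Helper12.PFix3

set_option autoImplicit false
universe u v

namespace H12PFix

open IsLocalRing

section rep
variable {A : Type u} [CommRing A] [IsLocalRing A]
  {G : Type v} [Group G] [MulSemiringAction G A]
  (hres : ∀ (σ : G) (a : A), σ • a - a ∈ maximalIdeal A)

include hres in
lemma smul_mem_max (σ : G) (x : A) (hx : x ∈ maximalIdeal A) : σ • x ∈ maximalIdeal A := by
  have : σ • x = (σ • x - x) + x := by ring
  rw [this]
  exact Ideal.add_mem _ (hres σ x) hx

/-- the additive action on the cotangent space. -/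
noncomputable def cotMap (σ : G) : CotangentSpace A →ₗ[ℤ] CotangentSpace A :=
  Ideal.mapCotangent (maximalIdeal A) (maximalIdeal A)
    ((MulSemiringAction.toRingHom G A σ).toIntAlgHom)
    (fun x hx => smul_mem_max hres σ x hx)

lemma cotMap_toCotangent (σ : G) (x : maximalIdeal A) :
    cotMap hres σ ((maximalIdeal A).toCotangent x) =
      (maximalIdeal A).toCotangent ⟨σ • (x : A), smul_mem_max hres σ x x.2⟩ := rfl

/-- the residue-field-linear representation on the cotangent space. -/
noncomputable def cotRep : G →* (CotangentSpace A →ₗ[ResidueField A] CotangentSpace A) where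
  toFun σ :=
    { toFun := cotMap hres σ
      map_add' := map_add _
      map_smul' := fun c ω => by
        obtain ⟨a, rfl⟩ := IsLocalRing.residue_surjective c
        obtain ⟨x, rfl⟩ := (maximalIdeal A).toCotangent_surjective ω
        change cotMap hres σ ((algebraMap A (ResidueField A) a) • _) =
          (algebraMap A (ResidueField A) a) • cotMap hres σ _
        rw [algebraMap_smul, algebraMap_smul, ← map_smul, cotMap_toCotangent, cotMap_toCotangent,
          ← map_smul, Ideal.toCotangent_eq]
        change σ • (a * (x : A)) - a * σ • (x : A) ∈ _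
        rw [smul_mul', ← sub_mul, pow_two]
        exact Ideal.mul_mem_mul (hres σ a) (smul_mem_max hres σ x x.2) }
  map_one' := by
    ext ω
    obtain ⟨x, rfl⟩ := (maximalIdeal A).toCotangent_surjective ω
    change cotMap hres 1 _ = (maximalIdeal A).toCotangent x
    rw [cotMap_toCotangent]
    congr 1
    exact Subtype.ext (one_smul G (x : A))
  map_mul' σ τ := by
    ext ω
    obtain ⟨x, rfl⟩ := (maximalIdeal A).toCotangent_surjective ω
    rw [Module.End.mul_apply]
    change cotMap hres (σ * τ) _ = cotMap hres σ (cotMap hres τ _)
    rw [cotMap_toCotangent, cotMap_toCotangent, cotMap_toCotangent]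
    congr 1
    exact Subtype.ext (mul_smul σ τ (x : A))

lemma cotRep_toCotangent (σ : G) (x : maximalIdeal A) :
    cotRep hres σ ((maximalIdeal A).toCotangent x) =
      (maximalIdeal A).toCotangent ⟨σ • (x : A), smul_mem_max hres σ x x.2⟩ := rfl

end rep

end H12PFix
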