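import Mathlib
import Groth.Agent.Lib.Helper12.PFix4

set_option autoImplicit false
universe u v

namespace H12PFix

open IsLocalRing

theorem main
    (p : ℕ) [Fact p.Prime] (A : Type u) [CommRing A] [IsRegularLocalRing A] [CharP A p]
    (G : Type v) [Group G] [Finite G] [MulSemiringAction G A] (hG : IsPGroup p G)
    (hres : ∀ (σ : G) (a : A), σ • a - a ∈ IsLocalRing.maximalIdeal A)
    (n : ℕ) (hn : ringKrullDim A = n) :
    ∃ u : Fin n → A, ∀ τ : Fin n → G,
      Ideal.span (Set.range fun i => τ i • u i) = IsLocalRing.maximalIdeal A := by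
  classical
  have hfin : Module.finrank (ResidueField A) (CotangentSpace A) = n := by
    have h := (IsRegularLocalRing.iff_finrank_cotangentSpace A).mp inferInstance
    rw [hn] at h
    exact_mod_cast h
  have hp : ∀ ω : CotangentSpace A, p • ω = 0 := by
    intro ω
    obtain ⟨x, rfl⟩ := (maximalIdeal A).toCotangent_surjective ω
    rw [← map_nsmul]
    have : p • x = 0 := by
      apply Subtype.ext
      change p • (x : A) = 0
      rw [nsmul_eq_mul, CharP.cast_eq_zero, zero_mul]
    rw [this, map_zero]
  obtain ⟨b, hb, hflag⟩ := exists_flag hG hp (cotRep hres) n hfin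
  choose w hw using fun i => (maximalIdeal A).toCotangent_surjective (b i)
  let u : Fin n → A := fun i => (w i : A)
  have hu : Ideal.span (Set.range u) = maximalIdeal A := by
    have h1 : Submodule.span (ResidueField A)
        ((maximalIdeal A).toCotangent '' Set.range w) = ⊤ := by
      rw [← Set.range_comp]
      have : (maximalIdeal A).toCotangent ∘ w = b := funext hw
      rw [this, hb]
    rw [CotangentSpace.span_image_eq_top_iff] at h1
    have h2 := congrArg (Submodule.map (maximalIdeal A).subtype) h1
    rw [Submodule.map_span, Submodule.map_subtype_top, ← Set.range_comp] at h2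
    exact h2
  have htri : ∀ (σ : G) (i : Fin n),
      σ • u i ∈ Ideal.span (u '' {j | j ≤ i}) ⊔ maximalIdeal A ^ 2 := by
    intro σ i
    have h1 : cotRep hres σ (b i) ∈
        Submodule.span (ResidueField A) ((maximalIdeal A).toCotangent '' (w '' {j | j ≤ i})) := by
      have h2 := hflag σ i
      have h3 : b i ∈ Submodule.span (ResidueField A)
          ((maximalIdeal A).toCotangent '' (w '' {j | j ≤ i})) :=
        Submodule.subset_span ⟨w i, ⟨i, show i ≤ i from le_refl i, rfl⟩, hw i⟩
      have h4 : cotRep hres σ (b i) - b i ∈ Submodule.span (ResidueField A)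
          ((maximalIdeal A).toCotangent '' (w '' {j | j ≤ i})) := by
        refine Submodule.span_mono ?_ h2
        rintro _ ⟨j, hj, rfl⟩
        exact ⟨w j, ⟨j, show j ≤ i from le_of_lt hj, rfl⟩, hw j⟩
      have : cotRep hres σ (b i) = (cotRep hres σ (b i) - b i) + b i := by abel
      rw [this]
      exact Submodule.add_mem _ h4 h3
    rw [← hw i, cotRep_toCotangent] at h1
    have h5 := mem_span_sup_sq _ _ h1
    have h6 : (Subtype.val '' (w '' {j | j ≤ i}) : Set A) = u '' {j | j ≤ i} := by
      rw [Set.image_image]
    rw [h6] at h5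
    exact h5
  exact ⟨u, Groth.Agent.S15795.result A G hres n hn u hu htri⟩

end H12PFix
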