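import Mathlib
import Groth.Prelude.Def_PLie
import Groth.Agent.Lib.Helper2.PLie.Jac4

set_option autoImplicit false
universe u v w

namespace H12PJ

open Groth.Agent.Lib.Helper2.PL

section words

variable {R : Type u} [CommRing R] {L : Type v} [LieRing L] [LieAlgebra R L]

theorem bracketWord_concat {ι : Type w} (x : ι → L) (x₁ v : L) (lam gam : ι → R)
    (h1 : ∀ i, ⁅x i, v⁆ = lam i • v) (h2 : ∀ i, ⁅x i, x₁⁆ = gam i • v) (w : List ι) (s : ι) :
    PLie.bracketWord x x₁ (w ++ [s]) = ((w.map lam).prod * gam s) • v := by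
  induction w with
  | nil => simp [h2]
  | cons i w ih =>
    rw [List.cons_append, PLie.bracketWord_cons, ih, lie_smul, h1, smul_smul, List.map_cons,
      List.prod_cons]
    congr 1
    ring

end words

section G

variable (R : Type u) [CommRing R] (p : ℕ) [Fact p.Prime] [CharP R p]

/-- the two-variable polynomial governing Jacobson's sum in a Lie algebra with `[x,y] = f(x,y) v`. -/
noncomputable def G (a b : R) : R :=
  ∑ t : Fin (p - 2) → Bool, zeta R p (nf t + 1) * a ^ (nf t) * b ^ (p - 2 - nf t)

end G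

section jac

variable (R : Type u) [CommRing R] (p : ℕ) [hpf : Fact p.Prime] [CharP R p]
  {L : Type v} [LieRing L] [LieAlgebra R L]

theorem sum_snoc {M : Type*} [AddCommMonoid M] (F : (k : ℕ) → (Fin k → Bool) → M) (m n : ℕ)
    (h : m = n + 1) :
    ∑ t : Fin m → Bool, F m t = ∑ t' : Fin n → Bool, ∑ s : Bool, F (n + 1) (Fin.snoc t' s) := by
  subst h
  rw [← Fintype.sum_prod_type']
  refine Fintype.sum_equiv ((Fin.snocEquiv (fun _ : Fin (n + 1) => Bool)).symm.trans
    (Equiv.prodComm _ _)) _ _ ?_
  intro t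
  change F (n + 1) t = F (n + 1) (Fin.snoc (Fin.init t) (t (Fin.last n)))
  rw [Fin.snoc_init_self]

theorem nf_snoc {n : ℕ} (s : Bool) (t : Fin n → Bool) :
    nf (Fin.snoc t s : Fin (n + 1) → Bool) = nf t + (if s = false then 1 else 0) := by
  unfold nf
  rw [Finset.card_filter, Finset.card_filter, Fin.sum_univ_castSucc]
  simp only [Fin.snoc_last, Fin.snoc_castSucc]

theorem prod_map_ofFn {n : ℕ} (a b : R) (t : Fin n → Bool) :
    ((List.ofFn t).map (fun s : Bool => if s then b else a)).prod = a ^ (nf t) * b ^ (n - nf t) := by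
  induction n with
  | zero => simp [nf]
  | succ n ih =>
    rw [List.ofFn_succ, List.map_cons, List.prod_cons, ih]
    have h1 : t = Fin.cons (t 0) (fun i => t i.succ) := (Fin.cons_self_tail t).symm
    have h2 : nf t = (if t 0 = false then 1 else 0) + nf (fun i => t i.succ) := by
      conv_lhs => rw [h1]
      exact nf_cons _ _
    have h3 := nf_le (fun i : Fin n => t i.succ)
    rw [h2]
    cases h : t 0
    · simp only [Bool.false_eq_true, if_false, if_true]
      rw [show n + 1 - (1 + nf fun i => t i.succ) = n - nf fun i => t i.succ by omega]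
      ring
    · simp only [if_true, Bool.true_eq_false, if_false, zero_add]
      rw [show n + 1 - (nf fun i => t i.succ) = (n - nf fun i => t i.succ) + 1 by omega]
      ring

include hpf in
theorem jacobson_eq (x₀ x₁ v : L) (a b γ : R)
    (h0 : ⁅x₀, v⁆ = a • v) (h1 : ⁅x₁, v⁆ = b • v) (h01 : ⁅x₀, x₁⁆ = γ • v) :
    PLie.jacobson R p x₀ x₁ = (γ * G R p a b) • v := by
  have hp2 : 2 ≤ p := hpf.out.two_le
  unfold PLie.jacobson
  have hcard : ∀ (k : ℕ) (t : Fin k → Bool), Fintype.card {i // t i = false} = nf t := by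
    intro k t
    unfold nf
    rw [Fintype.card_subtype]
  rw [sum_snoc (fun k t => ((ZMod.castHom (dvd_refl p) R)
      ((Fintype.card {i // t i = false} : ZMod p)⁻¹)) •
      PLie.bracketWord (PLie.pair x₀ x₁) x₁ (List.ofFn t)) (p - 1) (p - 2) (by omega)]
  simp only [Fintype.sum_bool]
  have hw : ∀ (t' : Fin (p - 2) → Bool) (s : Bool),
      PLie.bracketWord (PLie.pair x₀ x₁) x₁ (List.ofFn (Fin.snoc t' s : Fin (p - 2 + 1) → Bool)) =
      ((a ^ (nf t') * b ^ (p - 2 - nf t')) * (if s then 0 else γ)) • v := by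
    intro t' s
    have h5 : List.ofFn (Fin.snoc t' s : Fin (p - 2 + 1) → Bool) = List.ofFn t' ++ [s] := by
      rw [List.ofFn_succ']
      simp [List.concat_eq_append]
    rw [h5, bracketWord_concat (PLie.pair x₀ x₁) x₁ v (fun s => if s then b else a)
      (fun s => if s then 0 else γ), prod_map_ofFn]
    · intro i
      cases i
      · simpa [PLie.pair] using h0
      · simpa [PLie.pair] using h1
    · intro i
      cases i
      · simpa [PLie.pair] using h01
      · simp [PLie.pair]
  simp only [hw, hcard, nf_snoc]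
  simp only [if_true, Bool.false_eq_true, if_false, mul_zero, zero_smul, smul_zero, zero_add,
    add_zero]
  rw [G, Finset.mul_sum, Finset.sum_smul]
  refine Finset.sum_congr rfl fun t _ => ?_
  rw [smul_smul]
  congr 1
  unfold zeta
  push_cast
  ring

end jac

end H12PJ
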