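import Mathlib
import Groth.Agent.Lib.Helper12.PJac1

set_option autoImplicit false
universe u v w

namespace H12PJ

open Groth.Agent.Lib.Helper2.PL

section mat

variable (R : Type u) [CommRing R] (p : ℕ) [hpf : Fact p.Prime] [CharP R p]

attribute [local instance] LieRing.ofAssociativeRing

theorem row_pow (a μ : R) (n : ℕ) :
    (!![a, μ; 0, 0] : Matrix (Fin 2) (Fin 2) R) ^ (n + 1) = a ^ n • !![a, μ; 0, 0] := by
  induction n with
  | zero => simp
  | succ n ih =>
    rw [pow_succ, ih]
    ext i j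
    fin_cases i <;> fin_cases j <;> simp [pow_succ]

include hpf in
theorem G_general (a b μ ν : R) :
    (a + b) ^ (p - 1) * (μ + ν) = a ^ (p - 1) * μ + b ^ (p - 1) * ν - (a * ν - b * μ) * G R p a b := by
  have hp1 : p = (p - 1) + 1 := by have := hpf.out.two_le; omega
  let X : Matrix (Fin 2) (Fin 2) R := !![a, μ; 0, 0]
  let Y : Matrix (Fin 2) (Fin 2) R := !![b, ν; 0, 0]
  let V : Matrix (Fin 2) (Fin 2) R := !![0, 1; 0, 0]
  have hXV : ⁅X, V⁆ = a • V := by
    rw [Ring.lie_def]
    ext i j
    fin_cases i <;> fin_cases j <;> simp [X, V]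
  have hYV : ⁅Y, V⁆ = b • V := by
    rw [Ring.lie_def]
    ext i j
    fin_cases i <;> fin_cases j <;> simp [Y, V]
  have hXY : ⁅X, Y⁆ = (a * ν - b * μ) • V := by
    rw [Ring.lie_def]
    ext i j
    fin_cases i <;> fin_cases j <;> simp [X, Y, V] <;> ring
  have hJ := jacobson_eq R p X Y V a b (a * ν - b * μ) hXV hYV hXY
  have hJ2 := e_jacobson R p (LinearMap.id : Matrix (Fin 2) (Fin 2) R →ₗ[R] _)
    (fun x y => Ring.lie_def x y) X Y
  simp only [LinearMap.id_coe, id_eq] at hJ2
  have hadd := add_pow_char_eq R p X Y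
  rw [← hJ2, hJ] at hadd
  have hXYsum : X + Y = !![a + b, μ + ν; 0, 0] := by
    ext i j
    fin_cases i <;> fin_cases j <;> simp [X, Y]
  have hpow : ∀ a μ : R, (!![a, μ; 0, 0] : Matrix (Fin 2) (Fin 2) R) ^ p =
      a ^ (p - 1) • !![a, μ; 0, 0] := by
    intro a μ
    have := row_pow R a μ (p - 1)
    rwa [← hp1] at this
  rw [hXYsum, hpow, hpow, hpow] at hadd
  have := congrFun (congrFun hadd 0) 1
  simpa [V] using this

include hpf in
theorem G1 (a b : R) : b * G R p a b = (a + b) ^ (p - 1) - a ^ (p - 1) := by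
  have := G_general R p a b 1 0
  linear_combination (-1 : R) * this

include hpf in
theorem G2 (a b : R) : a * G R p a b = b ^ (p - 1) - (a + b) ^ (p - 1) := by
  have := G_general R p a b 0 1
  linear_combination (1 : R) * this

end mat

end H12PJ
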