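import Mathlib
import Groth.Agent.Lib.Helper12.PJac2

set_option autoImplicit false
universe u v w

namespace H12PJ

open Groth.Agent.Lib.Helper2.PL

section nat

variable {S : Type*} [CommRing S] {R : Type*} [CommRing R] (p : ℕ) [Fact p.Prime]
  [CharP S p] [CharP R p] (φ : S →+* R)

theorem map_zeta (i : ℕ) : φ (zeta S p i) = zeta R p i := by
  unfold zeta
  have h : φ.comp (ZMod.castHom (dvd_refl p) S) = ZMod.castHom (dvd_refl p) R :=
    Subsingleton.elim _ _
  exact RingHom.congr_fun h _

theorem map_G (a b : S) : φ (G S p a b) = G R p (φ a) (φ b) := by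
  simp only [G, map_sum, map_mul, map_pow, map_zeta]

end nat

section poly

variable (R : Type u) [CommRing R] (p : ℕ) [hpf : Fact p.Prime] [CharP R p]

include hpf in
theorem G_homog (c a b : R) : G R p (c * a) (c * b) = c ^ (p - 2) * G R p a b := by
  unfold G
  rw [Finset.mul_sum]
  refine Finset.sum_congr rfl fun t _ => ?_
  have h := nf_le t
  rw [mul_pow, mul_pow]
  have : c ^ (p - 2) = c ^ (nf t) * c ^ (p - 2 - nf t) := by
    rw [← pow_add]; congr 1; omega
  rw [this]; ring

theorem G_antisymm_dom {S : Type*} [CommRing S] [IsDomain S] [CharP S p] (a b : S)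
    (hab : a + b ≠ 0) : G S p b a = - G S p a b := by
  have h1 := G1 S p a b
  have h2 := G2 S p a b
  have h3 := G1 S p b a
  have h4 := G2 S p b a
  have h5 : (a + b) * (G S p b a + G S p a b) = 0 := by
    linear_combination h1 + h2 + h3 + h4
  rcases mul_eq_zero.1 h5 with h | h
  · exact absurd h hab
  · exact eq_neg_of_add_eq_zero_left h

theorem G3_dom {S : Type*} [CommRing S] [IsDomain S] [CharP S p] (a b c : S) (hc : c ≠ 0) :
    ∃ q : S, G S p a b - G S p a (b + c) = q * c ∧ G S p (a + b) c - G S p a (b + c) = -(q * b) ∧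
      G S p (a + b) c - G S p b c = q * a := by
  have hdvd : c ∣ G S p a b - G S p a (b + c) := by
    unfold G
    rw [← Finset.sum_sub_distrib]
    refine Finset.dvd_sum fun t _ => ?_
    rw [← mul_sub]
    refine Dvd.dvd.mul_left ?_ _
    have := sub_dvd_pow_sub_pow b (b + c) (p - 2 - nf t)
    rw [sub_add_cancel_left, neg_dvd] at this
    exact this
  obtain ⟨q, hq⟩ := hdvd
  have e1 := G1 S p (a + b) c
  have e2 := G1 S p a (b + c)
  have e3 := G1 S p a b
  have e4 := G1 S p b c
  have e5 := G2 S p a b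
  have e6 := G2 S p a (b + c)
  refine ⟨q, by rw [hq]; ring, ?_, ?_⟩
  · apply mul_left_cancel₀ hc
    have : a + b + c = a + (b + c) := by ring
    rw [this] at e1
    linear_combination e1 - e2 + e3 - b * hq
  · apply mul_left_cancel₀ hc
    have : a + b + c = a + (b + c) := by ring
    rw [this] at e1
    linear_combination e1 - e4 - e5 + e6 + a * hq

/-- evaluation `F_p[X0,X1,X2] → R`. -/
noncomputable def ev3 (a b c : R) : MvPolynomial (Fin 3) (ZMod p) →+* R :=
  MvPolynomial.eval₂Hom (ZMod.castHom (dvd_refl p) R) ![a, b, c]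

theorem X_add_X_ne : (MvPolynomial.X 0 + MvPolynomial.X 1 : MvPolynomial (Fin 3) (ZMod p)) ≠ 0 := by
  intro h
  have := congrArg (MvPolynomial.eval ![1, 0, 0]) h
  simp at this

theorem G_antisymm (a b : R) : G R p b a = - G R p a b := by
  have h := G_antisymm_dom p (MvPolynomial.X 0 : MvPolynomial (Fin 3) (ZMod p)) (MvPolynomial.X 1)
    (X_add_X_ne p)
  have h2 := congrArg (ev3 R p a b 0) h
  rw [map_neg, map_G, map_G] at h2
  simpa [ev3] using h2

theorem G3 (a b c : R) :
    ∃ q : R, G R p a b - G R p a (b + c) = q * c ∧ G R p (a + b) c - G R p a (b + c) = -(q * b) ∧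
      G R p (a + b) c - G R p b c = q * a := by
  obtain ⟨q, h1, h2, h3⟩ := G3_dom p (MvPolynomial.X 0 : MvPolynomial (Fin 3) (ZMod p))
    (MvPolynomial.X 1) (MvPolynomial.X 2) (MvPolynomial.X_ne_zero _)
  refine ⟨ev3 R p a b c q, ?_, ?_, ?_⟩
  · have := congrArg (ev3 R p a b c) h1
    rw [map_sub, map_G, map_G, map_mul] at this
    simpa [ev3] using this
  · have := congrArg (ev3 R p a b c) h2
    rw [map_sub, map_G, map_G, map_neg, map_mul] at this
    simpa [ev3] using this
  · have := congrArg (ev3 R p a b c) h3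
    rw [map_sub, map_G, map_G, map_mul] at this
    simpa [ev3] using this

end poly

end H12PJ
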