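import Mathlib
import Groth.Agent.Lib.Helper12.PJac3

set_option autoImplicit false
universe u v w

namespace H12PJ

open Groth.Agent.Lib.Helper2.PL

section lie

variable {R : Type u} [CommRing R] {L : Type v} [LieRing L] [LieAlgebra R L]
  (v : L) (f : L →ₗ[R] L →ₗ[R] R) (hf : ∀ x y : L, ⁅x, y⁆ = f x y • v)

/-- the central-valued alternating bilinear map. -/
def C (x y : L) : L := f y v • x - f x v • y + f x y • v

include hf

theorem jacobi_v (x y z : L) :
    (f x v * f y z + f y v * f z x + f z v * f x y) • v = 0 := by
  have h := lie_jacobi x y z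
  rw [hf y z, hf z x, hf x y, lie_smul, lie_smul, lie_smul, hf x v, hf y v, hf z v] at h
  rw [← h]
  simp only [add_smul, mul_smul]
  rw [smul_comm (f x v) (f y z), smul_comm (f y v) (f z x), smul_comm (f z v) (f x y)]

theorem C_central (x y z : L) : ⁅C v f x y, z⁆ = 0 := by
  have h := leibniz_lie x y z
  rw [hf y z, hf x y, hf x z, lie_smul, smul_lie, lie_smul, hf x v, hf y v] at h
  unfold C
  rw [add_lie, sub_lie, smul_lie, smul_lie, smul_lie, hf x z, hf y z]
  rw [smul_comm (f y z) (f x v) v, smul_comm (f x z) (f y v) v] at h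
  rw [h]
  abel

theorem C_jacobi (x y z : L) :
    f z v • C v f x y + f x v • C v f y z + f y v • C v f z x = 0 := by
  have h := jacobi_v v f hf x y z
  unfold C
  simp only [smul_add, smul_sub, smul_smul]
  have e : (f z v * f y v) • x - (f z v * f x v) • y + (f z v * f x y) • v +
      ((f x v * f z v) • y - (f x v * f y v) • z + (f x v * f y z) • v) +
      ((f y v * f x v) • z - (f y v * f z v) • x + (f y v * f z x) • v) =
      (f x v * f y z + f y v * f z x + f z v * f x y) • v := by
    rw [mul_comm (f z v) (f y v), mul_comm (f z v) (f x v), mul_comm (f y v) (f x v)]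
    simp only [add_smul]
    abel
  rw [e, h]

theorem C_self (x : L) : C v f x x = 0 := by
  unfold C
  rw [sub_self, zero_add, ← hf, lie_self]

theorem C_symm (x y : L) : C v f y x = - C v f x y := by
  unfold C
  have h : f y x • v = - (f x y • v) := by rw [← hf, ← hf, lie_skew]
  rw [h]
  abel

omit hf in
theorem C_add_left (x x' y : L) : C v f (x + x') y = C v f x y + C v f x' y := by
  unfold C
  simp only [map_add, LinearMap.add_apply, add_smul, smul_add]
  abel

omit hf in
theorem C_add_right (x y y' : L) : C v f x (y + y') = C v f x y + C v f x y' := by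
  unfold C
  simp only [map_add, LinearMap.add_apply, add_smul, smul_add]
  abel

omit hf in
theorem C_smul_left (c : R) (x y : L) : C v f (c • x) y = c • C v f x y := by
  unfold C
  simp only [map_smul, LinearMap.smul_apply, smul_eq_mul, smul_add, smul_sub, smul_smul]
  rw [mul_comm (f y v) c]

omit hf in
theorem C_smul_right (c : R) (x y : L) : C v f x (c • y) = c • C v f x y := by
  unfold C
  simp only [map_smul, LinearMap.smul_apply, smul_eq_mul, smul_add, smul_sub, smul_smul]
  rw [mul_comm (f x v) c]

omit hf in
theorem C_zero_left (y : L) : C v f 0 y = 0 := by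
  unfold C; simp

end lie

section theta

variable (R : Type u) [CommRing R] (p : ℕ) [hpf : Fact p.Prime] [CharP R p]
  {L : Type v} [LieRing L] [LieAlgebra R L]
  (v : L) (f : L →ₗ[R] L →ₗ[R] R) (hf : ∀ x y : L, ⁅x, y⁆ = f x y • v)

/-- the central-valued symmetric 2-cocycle. -/
noncomputable def Theta (x y : L) : L := G R p (f x v) (f y v) • C v f x y

include hf

theorem Theta_central (x y z : L) : ⁅Theta R p v f x y, z⁆ = 0 := by
  unfold Theta
  rw [smul_lie, C_central v f hf, smul_zero]

theorem Theta_symm (x y : L) : Theta R p v f x y = Theta R p v f y x := by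
  unfold Theta
  rw [G_antisymm R p (f x v) (f y v), C_symm v f hf x y, neg_smul, smul_neg, neg_neg]

omit hf in
theorem Theta_zero_left (y : L) : Theta R p v f 0 y = 0 := by
  unfold Theta
  rw [C_zero_left, smul_zero]

theorem Theta_smul (c : R) (x y : L) :
    Theta R p v f (c • x) (c • y) = c ^ p • Theta R p v f x y := by
  have hp2 : 2 ≤ p := hpf.out.two_le
  unfold Theta
  rw [map_smul, map_smul, LinearMap.smul_apply, LinearMap.smul_apply, smul_eq_mul, smul_eq_mul,
    G_homog, C_smul_left, C_smul_right, smul_smul, smul_smul, smul_smul]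
  congr 1
  have : c ^ p = c ^ (p - 2) * c * c := by
    rw [mul_assoc, ← pow_two, ← pow_add]; congr 1; omega
  rw [this]; ring

theorem Theta_diag (c d : R) (x : L) : Theta R p v f (c • x) (d • x) = 0 := by
  unfold Theta
  rw [C_smul_left, C_smul_right, C_self v f hf, smul_zero, smul_zero, smul_zero]

theorem Theta_cocycle (x y z : L) :
    Theta R p v f x y + Theta R p v f (x + y) z = Theta R p v f y z + Theta R p v f x (y + z) := by
  obtain ⟨q, h1, h2, h3⟩ := G3 R p (f x v) (f y v) (f z v)
  have hJ := C_jacobi v f hf x y z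
  have hzx : C v f z x = - C v f x z := C_symm v f hf x z
  unfold Theta
  rw [C_add_left, C_add_right, map_add, map_add, LinearMap.add_apply, LinearMap.add_apply]
  rw [← sub_eq_zero]
  have e : G R p (f x v) (f y v) • C v f x y +
      G R p (f x v + f y v) (f z v) • (C v f x z + C v f y z) -
      (G R p (f y v) (f z v) • C v f y z +
        G R p (f x v) (f y v + f z v) • (C v f x y + C v f x z)) =
      (G R p (f x v) (f y v) - G R p (f x v) (f y v + f z v)) • C v f x y +
      (G R p (f x v + f y v) (f z v) - G R p (f x v) (f y v + f z v)) • C v f x z +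
      (G R p (f x v + f y v) (f z v) - G R p (f y v) (f z v)) • C v f y z := by
    simp only [sub_smul, smul_add]
    abel
  rw [e, h1, h2, h3]
  have e2 : (q * f z v) • C v f x y + -(q * f y v) • C v f x z + (q * f x v) • C v f y z =
      q • (f z v • C v f x y + f x v • C v f y z + f y v • C v f z x) := by
    rw [hzx]
    simp only [smul_add, smul_neg, neg_smul, smul_smul]
    abel
  rw [e2, hJ, smul_zero]

include hpf in
theorem key (x y : L) :
    (f (x + y) v) ^ (p - 1) • (x + y) - (f x v) ^ (p - 1) • x - (f y v) ^ (p - 1) • y +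
      PLie.jacobson R p x y = Theta R p v f x y := by
  have hJ := jacobson_eq R p x y v (f x v) (f y v) (f x y) (hf x v) (hf y v) (hf x y)
  have g1 := G1 R p (f x v) (f y v)
  have g2 := G2 R p (f x v) (f y v)
  rw [hJ, map_add, LinearMap.add_apply]
  unfold Theta C
  have e : (f x v + f y v) ^ (p - 1) • (x + y) - f x v ^ (p - 1) • x - f y v ^ (p - 1) • y =
      ((f x v + f y v) ^ (p - 1) - f x v ^ (p - 1)) • x -
      (f y v ^ (p - 1) - (f x v + f y v) ^ (p - 1)) • y := by
    simp only [sub_smul, smul_add]
    abel
  rw [e, ← g1, ← g2]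
  simp only [smul_add, smul_sub, smul_smul]
  rw [mul_comm (f y v) (G R p (f x v) (f y v)), mul_comm (f x v) (G R p (f x v) (f y v)),
    mul_comm (f x y) (G R p (f x v) (f y v))]

end theta

end H12PJ
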