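import Mathlib

set_option autoImplicit false
universe u v w

namespace H12PJ

/-- a symmetric 2-cocycle, homogeneous of Frobenius degree. -/
structure Cocycle (R : Type u) [CommRing R] (p : ℕ) (L : Type v) [AddCommGroup L] [Module R L] where
  Θ : L → L → L
  symm : ∀ x y, Θ x y = Θ y x
  coc : ∀ x y z, Θ x y + Θ (x + y) z = Θ y z + Θ x (y + z)
  zero_left : ∀ x, Θ 0 x = 0
  smul : ∀ (c : R) x y, Θ (c • x) (c • y) = c ^ p • Θ x y
  diag : ∀ (c d : R) x, Θ (c • x) (d • x) = 0

variable {R : Type u} [CommRing R] {p : ℕ} {L : Type v} [AddCommGroup L] [Module R L]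

/-- the extension of `L` by (Frobenius-twisted) `L` defined by the cocycle. -/
@[ext] structure Ext (c : Cocycle R p L) where
  z : L
  x : L

namespace Ext

variable (c : Cocycle R p L)

instance : Zero (Ext c) := ⟨⟨0, 0⟩⟩
instance : Add (Ext c) := ⟨fun a b => ⟨a.z + b.z + c.Θ a.x b.x, a.x + b.x⟩⟩
instance : Neg (Ext c) := ⟨fun a => ⟨-a.z - c.Θ a.x (-a.x), -a.x⟩⟩

@[simp] theorem zero_z : (0 : Ext c).z = 0 := rfl
@[simp] theorem zero_x : (0 : Ext c).x = 0 := rfl
@[simp] theorem add_z (a b : Ext c) : (a + b).z = a.z + b.z + c.Θ a.x b.x := rfl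
@[simp] theorem add_x (a b : Ext c) : (a + b).x = a.x + b.x := rfl
@[simp] theorem neg_z (a : Ext c) : (-a).z = -a.z - c.Θ a.x (-a.x) := rfl
@[simp] theorem neg_x (a : Ext c) : (-a).x = -a.x := rfl

theorem zero_right (x : L) : c.Θ x 0 = 0 := by rw [c.symm, c.zero_left]

instance : AddCommGroup (Ext c) where
  add_assoc a b d := by
    ext
    · simp only [add_z, add_x]
      have := c.coc a.x b.x d.x
      calc a.z + b.z + c.Θ a.x b.x + d.z + c.Θ (a.x + b.x) d.x
          = a.z + b.z + d.z + (c.Θ a.x b.x + c.Θ (a.x + b.x) d.x) := by abel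
        _ = a.z + b.z + d.z + (c.Θ b.x d.x + c.Θ a.x (b.x + d.x)) := by rw [this]
        _ = _ := by abel
    · simp only [add_x, add_assoc]
  zero_add a := by
    ext
    · simp [c.zero_left]
    · simp
  add_zero a := by
    ext
    · simp [zero_right]
    · simp
  nsmul := nsmulRec
  zsmul := zsmulRec
  neg_add_cancel a := by
    ext
    · simp only [add_z, neg_z, neg_x, zero_z]
      rw [c.symm (-a.x) a.x]
      abel
    · simp
  add_comm a b := by
    ext
    · simp only [add_z]
      rw [c.symm a.x b.x]
      abel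
    · simp only [add_x, add_comm]

variable [hpf : Fact p.Prime] [CharP R p]

instance : SMul R (Ext c) := ⟨fun r a => ⟨r ^ p • a.z, r • a.x⟩⟩

@[simp] theorem smul_z (r : R) (a : Ext c) : (r • a).z = r ^ p • a.z := rfl
@[simp] theorem smul_x (r : R) (a : Ext c) : (r • a).x = r • a.x := rfl

instance : Module R (Ext c) where
  one_smul a := by
    ext <;> simp
  mul_smul r s a := by
    ext
    · simp [mul_pow, mul_smul]
    · simp [mul_smul]
  smul_zero r := by
    ext <;> simp
  smul_add r a b := by
    ext
    · simp [c.smul, smul_add]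
    · simp [smul_add]
  add_smul r s a := by
    ext
    · simp only [smul_z, add_z, smul_x]
      rw [c.diag, add_zero, add_pow_char, add_smul]
    · simp [add_smul]
  zero_smul a := by
    ext
    · simp [zero_pow hpf.out.ne_zero]
    · simp

/-- projection onto `L`. -/
def proj : Ext c →ₗ[R] L where
  toFun a := a.x
  map_add' _ _ := rfl
  map_smul' _ _ := rfl

end Ext

section split

variable [hpf : Fact p.Prime] [CharP R p] (c : Cocycle R p L) {ι : Type w} (b : Module.Basis ι R L)

/-- the `R`-linear section determined by the basis. -/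
noncomputable def sec : L →ₗ[R] Ext c := b.constr R (fun i => (⟨0, b i⟩ : Ext c))

theorem sec_x (x : L) : (sec c b x).x = x := by
  have h : (Ext.proj c) ∘ₗ (sec c b) = LinearMap.id := by
    apply b.ext
    intro i
    simp [sec, Ext.proj, Module.Basis.constr_basis]
  exact LinearMap.congr_fun h x

/-- the correction term. -/
noncomputable def sig (x : L) : L := (sec c b x).z

theorem sig_basis (i : ι) : sig c b (b i) = 0 := by
  simp [sig, sec, Module.Basis.constr_basis]

theorem sig_add (x y : L) : sig c b (x + y) = sig c b x + sig c b y + c.Θ x y := by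
  unfold sig
  rw [map_add, Ext.add_z, sec_x, sec_x]

theorem sig_smul (r : R) (x : L) : sig c b (r • x) = r ^ p • sig c b x := by
  unfold sig
  rw [map_smul, Ext.smul_z]

theorem sig_zero : sig c b 0 = 0 := by
  unfold sig
  rw [map_zero, Ext.zero_z]

theorem sig_mem (N : Submodule R L) (hN : ∀ x y, c.Θ x y ∈ N) (x : L) : sig c b x ∈ N := by
  have hx : x ∈ Submodule.span R (Set.range b) := by rw [b.span_eq]; trivial
  induction hx using Submodule.span_induction with
  | mem y hy =>
    obtain ⟨i, rfl⟩ := hy
    rw [sig_basis]; exact zero_mem _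
  | zero => rw [sig_zero]; exact zero_mem _
  | add y z _ _ hy hz =>
    rw [sig_add]
    exact add_mem (add_mem hy hz) (hN y z)
  | smul r y _ hy =>
    rw [sig_smul]
    exact N.smul_mem _ hy

end split

end H12PJ
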