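import Mathlib
import Groth.Agent.Lib.Helper12.PJac4
import Groth.Agent.Lib.Helper12.PJac5

set_option autoImplicit false
universe u v w

namespace H12PJ

section final

variable (R : Type u) [CommRing R] (p : ℕ) [hpf : Fact p.Prime] [CharP R p]
  {L : Type v} [LieRing L] [LieAlgebra R L]
  (v : L) (f : L →ₗ[R] L →ₗ[R] R) (hf : ∀ x y : L, ⁅x, y⁆ = f x y • v)

include hf in
theorem ad_pow (x : L) (n : ℕ) :
    LieAlgebra.ad R L x ^ (n + 1) = (f x v) ^ n • LieAlgebra.ad R L x := by
  induction n with
  | zero => simp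
  | succ n ih =>
    rw [pow_succ, ih]
    ext z
    simp only [Module.End.mul_apply, LinearMap.smul_apply, LieAlgebra.ad_apply]
    rw [hf x z, lie_smul, hf x v, smul_smul, smul_smul, smul_smul]
    congr 1
    ring

/-- the cocycle attached to the Lie algebra. -/
noncomputable def cocycle : Cocycle R p L where
  Θ := Theta R p v f
  symm := Theta_symm R p v f hf
  coc := Theta_cocycle R p v f hf
  zero_left := Theta_zero_left R p v f
  smul := Theta_smul R p v f hf
  diag := Theta_diag R p v f hf

include hf in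
theorem exists_pmap {ι : Type w} (b : Module.Basis ι R L) :
    ∃ φ : PLie.PMap R p L, ∀ i : ι, φ (b i) = (f (b i) v) ^ (p - 1) • b i := by
  have hp1 : p = (p - 1) + 1 := by have := hpf.out.two_le; omega
  let c := cocycle R p v f hf
  let N : Submodule R L :=
    { carrier := {w | ∀ z : L, ⁅w, z⁆ = 0}
      add_mem' := fun {a b} ha hb z => by rw [add_lie, ha z, hb z, add_zero]
      zero_mem' := fun z => zero_lie z
      smul_mem' := fun r a ha z => by rw [smul_lie, ha z, smul_zero] }
  have hN : ∀ w : L, w ∈ N ↔ ∀ z : L, ⁅w, z⁆ = 0 := fun w => Iff.rfl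
  have hsig : ∀ x z : L, ⁅sig c b x, z⁆ = 0 := by
    intro x
    exact (hN _).1 (sig_mem c b N (fun x y => (hN _).2 (Theta_central R p v f hf x y)) x)
  refine ⟨⟨fun x => (f x v) ^ (p - 1) • x - sig c b x, ?_, ?_, ?_⟩, ?_⟩
  · intro r x
    have hrp : r ^ p = r ^ (p - 1) * r := by
      conv_lhs => rw [hp1, pow_succ]
    rw [sig_smul, map_smul, LinearMap.smul_apply, smul_eq_mul, mul_pow, smul_sub, smul_smul,
      smul_smul, hrp]
    congr 2
    ring
  · intro x
    have h1 := ad_pow R v f hf x (p - 1)
    rw [← hp1] at h1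
    rw [h1]
    ext z
    simp only [LieAlgebra.ad_apply, LinearMap.smul_apply, sub_lie, smul_lie, hsig, sub_zero]
  · intro x y
    have hk := key R p v f hf x y
    have hs : sig c b (x + y) = sig c b x + sig c b y + Theta R p v f x y := sig_add c b x y
    rw [hs, ← hk]
    abel
  · intro i
    change (f (b i) v) ^ (p - 1) • b i - sig c b (b i) = _
    rw [sig_basis, sub_zero]

end final

end H12PJ
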