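import Mathlib
import Groth.Agent.Lib.Helper12.Fit2
import Groth.Agent.Lib.Helper12.Lang2

set_option autoImplicit false
universe u v

namespace H12PLie

/-- abstract version: a semilinear Frobenius-type map on a nonzero f.d. space has an eigenvector
with eigenvalue `0` or `1`. -/
theorem exists_eigen (k : Type u) [Field k] [IsAlgClosed k] (p : ℕ) [Fact p.Prime] [CharP k p]
    (W : Type v) [AddCommGroup W] [Module k W] [FiniteDimensional k W] [Nontrivial W]
    (F : W →ₛₗ[frobenius k p] W) :
    ∃ u : W, u ≠ 0 ∧ (F u = 0 ∨ F u = u) := by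
  classical
  have hσ : Function.Surjective (frobenius k p) := by
    intro c
    obtain ⟨z, hz⟩ := IsAlgClosed.exists_pow_nat_eq c (Fact.out : p.Prime).pos
    exact ⟨z, by rw [frobenius_def, hz]⟩
  obtain ⟨⟨W₀, hW₀, -, hcompl⟩, -⟩ := H12Fit.main F hσ
  by_cases hbot : W₀ = ⊥
  · rw [hbot] at hcompl
    have htop : (⨅ n : ℕ, Submodule.span k (Set.range ((⇑F)^[n]))) = ⊤ := by
      have := hcompl.sup_eq_top
      rwa [bot_sup_eq] at this
    have hss : Submodule.span k (Set.range F) = ⊤ := by
      rw [eq_top_iff, ← htop]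
      exact iInf_le _ 1
    obtain ⟨v, hv, hFv⟩ := H12Lang.exists_fixed (q := p) (fun c => frobenius_def p c)
      (CharP.cast_eq_zero k p) (Fact.out : p.Prime).two_le F hss
    exact ⟨v, hv, Or.inr hFv⟩
  · obtain ⟨v, hvW, hv0⟩ := Submodule.exists_mem_ne_zero_of_ne_bot hbot
    have hex : ∃ n : ℕ, (⇑F)^[n] v = 0 := by
      have : v ∈ (W₀ : Set W) := hvW
      rw [hW₀] at this
      exact this
    have hn0 : Nat.find hex ≠ 0 := by
      intro h0
      have := Nat.find_spec hex
      rw [h0] at this
      exact hv0 this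
    obtain ⟨m, hm⟩ := Nat.exists_eq_succ_of_ne_zero hn0
    refine ⟨(⇑F)^[m] v, ?_, Or.inl ?_⟩
    · exact Nat.find_min hex (m := m) (by omega)
    · have := Nat.find_spec hex
      rw [hm, Function.iterate_succ_apply'] at this
      exact this

end H12PLie
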