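import Mathlib
import Groth.Agent.Lib.Helper12.PLie1

set_option autoImplicit false
universe u v

namespace H12PLie

theorem main (k : Type u) [Field k] [IsAlgClosed k]
    (p : ℕ) [Fact p.Prime] [CharP k p] (V : Type v) [AddCommGroup V] [Module k V]
    [FiniteDimensional k V]
    (g : Submodule k (Module.End k V)) (hg : ∀ u ∈ g, u ^ p ∈ g) (hne : g ≠ ⊥) :
    ∃ u ∈ g, u ≠ 0 ∧ ∃ c : k, u ^ p = c • u := by
  classical
  obtain ⟨x, hxg, hx0⟩ := Submodule.exists_mem_ne_zero_of_ne_bot hne
  haveI : Nontrivial (Module.End k V) := ⟨⟨x, 0, hx0⟩⟩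
  haveI : CharP (Module.End k V) p :=
    charP_of_injective_algebraMap (algebraMap k (Module.End k V)).injective p
  have hp0 : p ≠ 0 := (Fact.out : p.Prime).ne_zero
  let W : Submodule k (Module.End k V) :=
    Submodule.span k (Set.range fun i : ℕ => x ^ (p ^ i))
  have hgen : ∀ i : ℕ, x ^ (p ^ i) ∈ W := fun i => Submodule.subset_span ⟨i, rfl⟩
  have hcomm1 : ∀ u ∈ W, ∀ i : ℕ, Commute (x ^ (p ^ i)) u := by
    intro u hu i
    induction hu using Submodule.span_induction with
    | mem y hy =>
      obtain ⟨j, rfl⟩ := hy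
      exact (Commute.refl x).pow_pow _ _
    | zero => exact Commute.zero_right _
    | add y z _ _ hy hz => exact hy.add_right hz
    | smul c y _ hy => exact hy.smul_right c
  have hcomm : ∀ u ∈ W, ∀ v ∈ W, Commute u v := by
    intro u hu v hv
    induction hu using Submodule.span_induction with
    | mem y hy =>
      obtain ⟨j, rfl⟩ := hy
      exact hcomm1 v hv j
    | zero => exact Commute.zero_left _
    | add y z _ _ hy hz => exact hy.add_left hz
    | smul c y _ hy => exact hy.smul_left c
  have hWg : W ≤ g := by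
    have hi : ∀ i : ℕ, x ^ (p ^ i) ∈ g := by
      intro i
      induction i with
      | zero => simpa using hxg
      | succ i ih =>
        have : x ^ (p ^ (i + 1)) = (x ^ (p ^ i)) ^ p := by rw [← pow_mul, pow_succ]
        rw [this]
        exact hg _ ih
    rw [Submodule.span_le]
    rintro _ ⟨i, rfl⟩
    exact hi i
  have hpow : ∀ u ∈ W, u ^ p ∈ W := by
    intro u hu
    induction hu using Submodule.span_induction with
    | mem y hy =>
      obtain ⟨j, rfl⟩ := hy
      have : (x ^ (p ^ j)) ^ p = x ^ (p ^ (j + 1)) := by rw [← pow_mul, pow_succ]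
      rw [this]
      exact hgen _
    | zero => rw [zero_pow hp0]; exact W.zero_mem
    | add y z hy hz hy' hz' =>
      rw [add_pow_char_of_commute _ (hcomm y hy z hz)]
      exact W.add_mem hy' hz'
    | smul c y _ hy => rw [smul_pow]; exact W.smul_mem _ hy
  let F : W →ₛₗ[frobenius k p] W :=
    { toFun := fun u => ⟨u.1 ^ p, hpow u.1 u.2⟩
      map_add' := fun u v => by
        apply Subtype.ext
        change (u.1 + v.1) ^ p = u.1 ^ p + v.1 ^ p
        exact add_pow_char_of_commute _ (hcomm u.1 u.2 v.1 v.2)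
      map_smul' := fun c u => by
        apply Subtype.ext
        change (c • u.1) ^ p = frobenius k p c • u.1 ^ p
        rw [smul_pow, frobenius_def] }
  haveI : Nontrivial W := ⟨⟨⟨x, by simpa using hgen 0⟩, 0, fun h => hx0 (congrArg Subtype.val h)⟩⟩
  obtain ⟨u, hu0, hu⟩ := exists_eigen k p W F
  refine ⟨u.1, hWg u.2, fun h => hu0 (Subtype.ext h), ?_⟩
  rcases hu with h | h
  · refine ⟨0, ?_⟩
    have := congrArg Subtype.val h
    rw [zero_smul]
    exact this
  · refine ⟨1, ?_⟩
    have := congrArg Subtype.val h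
    rw [one_smul]
    exact this

end H12PLie
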