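import Mathlib

set_option autoImplicit false
universe u
open scoped TensorProduct

namespace H12PPLoc

variable (A B B' : Type u) [CommRing A] [CommRing B] [Algebra A B]
    [CommRing B'] [Algebra B B'] [Algebra A B'] [IsScalarTower A B B'] (S : Submonoid B)
    [IsLocalization S B']

/-- first step `B ⊗ B → B' ⊗ B` -/
noncomputable def φ₁ : B ⊗[A] B →ₐ[A] B' ⊗[A] B :=
  Algebra.TensorProduct.map (IsScalarTower.toAlgHom A B B') (AlgHom.id A B)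

/-- second step `B' ⊗ B → B' ⊗ B'` -/
noncomputable def φ₂ : B' ⊗[A] B →ₐ[A] B' ⊗[A] B' :=
  Algebra.TensorProduct.map (AlgHom.id A B') (IsScalarTower.toAlgHom A B B')

theorem inj₁ (x : B ⊗[A] B) (hx : φ₁ A B B' x = 0) : ∃ s ∈ S, (s ⊗ₜ[A] (1 : B)) * x = 0 := by
  letI : Algebra (B ⊗[A] B) (B' ⊗[A] B) := (φ₁ A B B').toRingHom.toAlgebra
  haveI : IsScalarTower B (B ⊗[A] B) (B' ⊗[A] B) := IsScalarTower.of_algebraMap_eq (fun b => by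
    change algebraMap B B' b ⊗ₜ[A] (1 : B) = φ₁ A B B' (b ⊗ₜ[A] (1 : B))
    simp [φ₁])
  haveI := IsLocalization.tensorProduct_tensorProduct A B S B' (by
    ext b
    change φ₁ A B B' ((1 : B) ⊗ₜ[A] b) = (1 : B') ⊗ₜ[A] b
    simp [φ₁])
  have hx' : algebraMap (B ⊗[A] B) (B' ⊗[A] B) x = 0 := hx
  rw [IsLocalization.map_eq_zero_iff (Algebra.algebraMapSubmonoid (B ⊗[A] B) S)] at hx'
  obtain ⟨⟨_, s, hs, rfl⟩, hm⟩ := hx'
  exact ⟨s, hs, hm⟩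


theorem inj₂ (x : B' ⊗[A] B) (hx : φ₂ A B B' x = 0) : ∃ t ∈ S, ((1 : B') ⊗ₜ[A] t) * x = 0 := by
  letI : Algebra (B' ⊗[A] B) (B' ⊗[A] B') := (φ₂ A B B').toRingHom.toAlgebra
  haveI : IsScalarTower B' (B' ⊗[A] B) (B' ⊗[A] B') := IsScalarTower.of_algebraMap_eq (fun b => by
    change b ⊗ₜ[A] (1 : B') = φ₂ A B B' (b ⊗ₜ[A] (1 : B))
    simp [φ₂])
  haveI := IsLocalization.tensorProduct_tensorProduct_right A B' S B' (by
    ext b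
    change φ₂ A B B' ((1 : B') ⊗ₜ[A] b) = (1 : B') ⊗ₜ[A] algebraMap B B' b
    simp [φ₂])
  have hx' : algebraMap (B' ⊗[A] B) (B' ⊗[A] B') x = 0 := hx
  rw [IsLocalization.map_eq_zero_iff
    (S.map (Algebra.TensorProduct.includeRight (R := A) (A := B') (B := B)))] at hx'
  obtain ⟨⟨_, t, ht, rfl⟩, hm⟩ := hx'
  exact ⟨t, ht, hm⟩

/-- the full map -/
noncomputable def φ : B ⊗[A] B →ₐ[A] B' ⊗[A] B' :=
  Algebra.TensorProduct.map (IsScalarTower.toAlgHom A B B') (IsScalarTower.toAlgHom A B B')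

theorem φ_eq (x : B ⊗[A] B) : φ A B B' x = φ₂ A B B' (φ₁ A B B' x) := by
  induction x using TensorProduct.induction_on with
  | zero => simp
  | tmul b c => simp [φ, φ₁, φ₂]
  | add x y hx hy => rw [map_add, map_add, map_add, hx, hy]

theorem K_inj (x : B ⊗[A] B) (hx : φ A B B' x = 0) :
    ∃ s ∈ S, ∃ t ∈ S, (s ⊗ₜ[A] t) * x = 0 := by
  rw [φ_eq] at hx
  obtain ⟨t, ht, h1⟩ := inj₂ A B B' S _ hx
  have h2 : φ₁ A B B' (((1 : B) ⊗ₜ[A] t) * x) = 0 := by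
    rw [map_mul]
    have : φ₁ A B B' ((1 : B) ⊗ₜ[A] t) = (1 : B') ⊗ₜ[A] t := by simp [φ₁]
    rw [this, h1]
  obtain ⟨s, hs, h3⟩ := inj₁ A B B' S _ h2
  refine ⟨s, hs, t, ht, ?_⟩
  rw [← h3, ← mul_assoc, Algebra.TensorProduct.tmul_mul_tmul, mul_one, one_mul]

theorem K_surj (x' : B' ⊗[A] B') :
    ∃ s ∈ S, ∃ t ∈ S, ∃ x : B ⊗[A] B, x' * φ A B B' (s ⊗ₜ[A] t) = φ A B B' x := by
  induction x' using TensorProduct.induction_on with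
  | zero => exact ⟨1, S.one_mem, 1, S.one_mem, 0, by simp⟩
  | tmul b' c' =>
    obtain ⟨⟨b, s⟩, hb⟩ := IsLocalization.surj S b'
    obtain ⟨⟨c, t⟩, hc⟩ := IsLocalization.surj S c'
    refine ⟨s, s.2, t, t.2, b ⊗ₜ[A] c, ?_⟩
    simp only [φ, Algebra.TensorProduct.map_tmul, IsScalarTower.coe_toAlgHom',
      Algebra.TensorProduct.tmul_mul_tmul]
    rw [hb, hc]
  | add x y hx hy =>
    obtain ⟨s₁, hs₁, t₁, ht₁, x₁, h₁⟩ := hx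
    obtain ⟨s₂, hs₂, t₂, ht₂, x₂, h₂⟩ := hy
    refine ⟨s₁ * s₂, S.mul_mem hs₁ hs₂, t₁ * t₂, S.mul_mem ht₁ ht₂,
      (s₂ ⊗ₜ[A] t₂) * x₁ + (s₁ ⊗ₜ[A] t₁) * x₂, ?_⟩
    have e : (s₁ * s₂) ⊗ₜ[A] (t₁ * t₂) = (s₁ ⊗ₜ[A] t₁) * (s₂ ⊗ₜ[A] t₂) := by
      rw [Algebra.TensorProduct.tmul_mul_tmul]
    rw [e, map_mul, map_add, map_mul, map_mul, ← h₁, ← h₂]
    ring

end H12PPLoc
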