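import Mathlib
import Groth.Agent.Lib.Helper12.PPLoc1

set_option autoImplicit false
universe u
open scoped TensorProduct

namespace H12PPLoc

variable (A B B' : Type u) [CommRing A] [CommRing B] [Algebra A B]
    [CommRing B'] [Algebra B B'] [Algebra A B'] [IsScalarTower A B B'] (S : Submonoid B)
    [IsLocalization S B']

theorem lmul_φ (x : B ⊗[A] B) :
    Algebra.TensorProduct.lmul' A (φ A B B' x) = algebraMap B B' (Algebra.TensorProduct.lmul' A x) := by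
  induction x using TensorProduct.induction_on with
  | zero => simp
  | tmul b c => simp [φ]
  | add x y hx hy => rw [map_add, map_add, map_add, map_add, hx, hy]

theorem isUnit_φ (s t : B) (hs : s ∈ S) (ht : t ∈ S) : IsUnit (φ A B B' (s ⊗ₜ[A] t)) := by
  have h1 : IsUnit (algebraMap B B' s) := IsLocalization.map_units B' ⟨s, hs⟩
  have h2 : IsUnit (algebraMap B B' t) := IsLocalization.map_units B' ⟨t, ht⟩
  have : φ A B B' (s ⊗ₜ[A] t) = (algebraMap B B' s ⊗ₜ[A] (1 : B')) * ((1 : B') ⊗ₜ[A] algebraMap B B' t) := by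
    simp [φ]
  rw [this]
  exact (h1.map (Algebra.TensorProduct.includeLeft : B' →ₐ[A] B' ⊗[A] B')).mul
    (h2.map (Algebra.TensorProduct.includeRight : B' →ₐ[A] B' ⊗[A] B'))

include S in
/-- the ideal of the diagonal of `B'` is the extension of that of `B`. -/
theorem ideal_le : KaehlerDifferential.ideal A B' ≤
    (KaehlerDifferential.ideal A B).map (φ A B B').toRingHom := by
  intro x' hx'
  obtain ⟨s, hs, t, ht, x, hx⟩ := K_surj A B B' S x'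
  have h1 : algebraMap B B' (Algebra.TensorProduct.lmul' A x) = 0 := by
    rw [← lmul_φ, ← hx, map_mul, RingHom.mem_ker.mp hx', zero_mul]
  rw [IsLocalization.map_eq_zero_iff S] at h1
  obtain ⟨⟨s₃, hs₃⟩, h3⟩ := h1
  have h4 : (s₃ ⊗ₜ[A] (1 : B)) * x ∈ KaehlerDifferential.ideal A B := by
    rw [RingHom.mem_ker, map_mul]
    simp only [Algebra.TensorProduct.lmul'_apply_tmul, mul_one]
    exact h3
  have h5 : x' * φ A B B' ((s₃ * s) ⊗ₜ[A] t) = φ A B B' ((s₃ ⊗ₜ[A] (1 : B)) * x) := by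
    have e : (s₃ * s) ⊗ₜ[A] t = (s₃ ⊗ₜ[A] (1 : B)) * (s ⊗ₜ[A] t) := by
      rw [Algebra.TensorProduct.tmul_mul_tmul, one_mul]
    rw [e, map_mul, map_mul, ← hx]
    ring
  obtain ⟨u, hu⟩ := isUnit_φ A B B' S (s₃ * s) t (S.mul_mem hs₃ hs) ht
  have h6 : x' = φ A B B' ((s₃ ⊗ₜ[A] (1 : B)) * x) * ↑u⁻¹ := by
    rw [← h5, ← hu, mul_assoc, Units.mul_inv, mul_one]
  rw [h6]
  exact Ideal.mul_mem_right _ _ (Ideal.mem_map_of_mem _ h4)

/-- elements of the extension of `J` have a multiple coming from `J`. -/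
theorem mem_map_φ (J : Ideal (B ⊗[A] B)) (z' : B' ⊗[A] B') (hz' : z' ∈ J.map (φ A B B').toRingHom) :
    ∃ s ∈ S, ∃ t ∈ S, ∃ a ∈ J, z' * φ A B B' (s ⊗ₜ[A] t) = φ A B B' a := by
  rw [Ideal.map] at hz'
  refine Submodule.span_induction (p := fun z' _ => ∃ s ∈ S, ∃ t ∈ S, ∃ a ∈ J,
    z' * φ A B B' (s ⊗ₜ[A] t) = φ A B B' a) ?_ ?_ ?_ ?_ hz'
  · rintro _ ⟨a, ha, rfl⟩
    refine ⟨1, S.one_mem, 1, S.one_mem, a, ha, ?_⟩
    have : ((1 : B) ⊗ₜ[A] (1 : B)) = 1 := rfl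
    rw [this, map_one, mul_one]
    rfl
  · exact ⟨1, S.one_mem, 1, S.one_mem, 0, J.zero_mem, by simp⟩
  · rintro x y _ _ ⟨s₁, hs₁, t₁, ht₁, a₁, ha₁, h₁⟩ ⟨s₂, hs₂, t₂, ht₂, a₂, ha₂, h₂⟩
    refine ⟨s₁ * s₂, S.mul_mem hs₁ hs₂, t₁ * t₂, S.mul_mem ht₁ ht₂,
      (s₂ ⊗ₜ[A] t₂) * a₁ + (s₁ ⊗ₜ[A] t₁) * a₂,
      J.add_mem (J.mul_mem_left _ ha₁) (J.mul_mem_left _ ha₂), ?_⟩
    have e : (s₁ * s₂) ⊗ₜ[A] (t₁ * t₂) = (s₁ ⊗ₜ[A] t₁) * (s₂ ⊗ₜ[A] t₂) := by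
      rw [Algebra.TensorProduct.tmul_mul_tmul]
    rw [e, map_mul, map_add, map_mul, map_mul, ← h₁, ← h₂]
    ring
  · rintro r' y _ ⟨s, hs, t, ht, a, ha, h⟩
    obtain ⟨s₀, hs₀, t₀, ht₀, r₀, hr₀⟩ := K_surj A B B' S r'
    refine ⟨s₀ * s, S.mul_mem hs₀ hs, t₀ * t, S.mul_mem ht₀ ht, r₀ * a, J.mul_mem_left _ ha, ?_⟩
    have e : (s₀ * s) ⊗ₜ[A] (t₀ * t) = (s₀ ⊗ₜ[A] t₀) * (s ⊗ₜ[A] t) := by
      rw [Algebra.TensorProduct.tmul_mul_tmul]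
    rw [e, map_mul, map_mul, ← hr₀, ← h, smul_eq_mul]
    ring

end H12PPLoc
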