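import Mathlib
import Groth.Prelude.Def_PP16
import Groth.Agent.Lib.Helper12.PPLoc2

set_option autoImplicit false
universe u
open scoped TensorProduct
attribute [local instance] PP16.mapAlgebra PP16.isScalarTower_mapAlgebra
open PP16

namespace H12PPLoc

variable (n : ℕ) (A B B' : Type u) [CommRing A] [CommRing B] [Algebra A B]
    [CommRing B'] [Algebra B B'] [Algebra A B'] [IsScalarTower A B B'] (S : Submonoid B)
    [IsLocalization S B']

theorem tensorMap_eq (x : B ⊗[A] B) : PP16.tensorMap A B A B' x = φ A B B' x := by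
  induction x using TensorProduct.induction_on with
  | zero => simp
  | tmul b c => rw [PP16.tensorMap_tmul]; simp [φ]
  | add x y hx hy => rw [map_add, map_add, hx, hy]

theorem algebraMap_P (b : B) :
    algebraMap B (P n A B) b = Ideal.Quotient.mk _ (b ⊗ₜ[A] (1 : B)) := rfl

theorem algebraMap_PP (x : B ⊗[A] B) :
    algebraMap (P n A B) (P n A B') (Ideal.Quotient.mk _ x) =
      Ideal.Quotient.mk _ (φ A B B' x) := by
  change PP16.map n A B A B' _ = _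
  rw [PP16.map_mk, tensorMap_eq]

/-- nilpotent trick -/
theorem exists_c (t : B) : ∃ c : P n A B,
    (Ideal.Quotient.mk _ (t ⊗ₜ[A] (1 : B)) : P n A B) ^ (n + 1) =
      Ideal.Quotient.mk _ ((1 : B) ⊗ₜ[A] t) * c := by
  obtain ⟨u, hu⟩ : ∃ u : P n A B, u = Ideal.Quotient.mk _ (t ⊗ₜ[A] (1 : B)) := ⟨_, rfl⟩
  obtain ⟨v, hv⟩ : ∃ v : P n A B, v = Ideal.Quotient.mk _ ((1 : B) ⊗ₜ[A] t) := ⟨_, rfl⟩
  have h0 : (u - v) ^ (n + 1) = 0 := by
    have h1 : (v - u) ^ (n + 1) = 0 := by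
      rw [hu, hv, ← map_sub, ← map_pow, Ideal.Quotient.eq_zero_iff_mem]
      exact Ideal.pow_mem_pow (KaehlerDifferential.one_smul_sub_smul_one_mem_ideal A t) _
    have : u - v = -(v - u) := by ring
    rw [this, neg_pow, h1, mul_zero]
  have h2 := sub_dvd_pow_sub_pow u (u - v) (n + 1)
  rw [h0, sub_zero, sub_sub_cancel] at h2
  obtain ⟨c, hc⟩ := h2
  exact ⟨c, by rw [← hu, ← hv, hc]⟩

theorem key (s t : B) : ∃ c : P n A B,
    algebraMap B (P n A B) (s * t ^ (n + 1)) = Ideal.Quotient.mk _ (s ⊗ₜ[A] t) * c := by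
  obtain ⟨c, hc⟩ := exists_c n A B t
  refine ⟨c, ?_⟩
  rw [algebraMap_P]
  have e1 : ((s * t ^ (n + 1)) ⊗ₜ[A] (1 : B) : B ⊗[A] B) =
      (s ⊗ₜ[A] (1 : B)) * (t ⊗ₜ[A] (1 : B)) ^ (n + 1) := by
    rw [Algebra.TensorProduct.tmul_pow, one_pow, Algebra.TensorProduct.tmul_mul_tmul, one_mul]
  have e2 : (s ⊗ₜ[A] t : B ⊗[A] B) = (s ⊗ₜ[A] (1 : B)) * ((1 : B) ⊗ₜ[A] t) := by
    rw [Algebra.TensorProduct.tmul_mul_tmul, one_mul, mul_one]
  rw [e1, e2, map_mul, map_pow, hc, map_mul, mul_assoc]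

theorem main : IsLocalization (S.map (algebraMap B (PP16.P n A B))) (PP16.P n A B') := by
  rw [isLocalization_iff]
  refine ⟨?_, ?_, ?_⟩
  · rintro ⟨_, s, hs, rfl⟩
    change IsUnit (algebraMap (P n A B) (P n A B') (algebraMap B (P n A B) s))
    rw [algebraMap_P, algebraMap_PP]
    exact (isUnit_φ A B B' S s 1 hs S.one_mem).map _
  · intro z
    obtain ⟨x', rfl⟩ := Ideal.Quotient.mk_surjective z
    obtain ⟨s, hs, t, ht, x₀, hx₀⟩ := K_surj A B B' S x'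
    obtain ⟨c, hc⟩ := key n A B s t
    refine ⟨⟨Ideal.Quotient.mk _ x₀ * c, ⟨algebraMap B (P n A B) (s * t ^ (n + 1)),
      s * t ^ (n + 1), S.mul_mem hs (S.pow_mem ht _), rfl⟩⟩, ?_⟩
    change Ideal.Quotient.mk _ x' * algebraMap (P n A B) (P n A B')
      (algebraMap B (P n A B) (s * t ^ (n + 1))) =
      algebraMap (P n A B) (P n A B') (Ideal.Quotient.mk _ x₀ * c)
    rw [hc, map_mul, map_mul, algebraMap_PP, algebraMap_PP, ← mul_assoc, ← map_mul, hx₀]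
  · intro x y hxy
    obtain ⟨x₀, rfl⟩ := Ideal.Quotient.mk_surjective x
    obtain ⟨y₀, rfl⟩ := Ideal.Quotient.mk_surjective y
    rw [algebraMap_PP, algebraMap_PP, Ideal.Quotient.eq, ← map_sub] at hxy
    have h1 : KaehlerDifferential.ideal A B' ^ (n + 1) ≤
        ((KaehlerDifferential.ideal A B) ^ (n + 1)).map (φ A B B').toRingHom := by
      rw [Ideal.map_pow]
      exact Ideal.pow_right_mono (ideal_le A B B' S) _
    obtain ⟨s, hs, t, ht, a, ha, h2⟩ := mem_map_φ A B B' S _ _ (h1 hxy)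
    have h3 : φ A B B' ((x₀ - y₀) * (s ⊗ₜ[A] t) - a) = 0 := by
      rw [map_sub, map_mul, h2, sub_self]
    obtain ⟨σ, hσ, τ, hτ, h4⟩ := K_inj A B B' S _ h3
    have h5 : ((σ * s) ⊗ₜ[A] (τ * t) : B ⊗[A] B) * (x₀ - y₀) ∈
        (KaehlerDifferential.ideal A B) ^ (n + 1) := by
      have e : ((σ * s) ⊗ₜ[A] (τ * t) : B ⊗[A] B) * (x₀ - y₀) = (σ ⊗ₜ[A] τ) * a := by
        have e' : ((σ * s) ⊗ₜ[A] (τ * t) : B ⊗[A] B) = (σ ⊗ₜ[A] τ) * (s ⊗ₜ[A] t) := by
          rw [Algebra.TensorProduct.tmul_mul_tmul]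
        rw [e']
        linear_combination h4
      rw [e]
      exact Ideal.mul_mem_left _ _ ha
    obtain ⟨c, hc⟩ := key n A B (σ * s) (τ * t)
    refine ⟨⟨algebraMap B (P n A B) ((σ * s) * (τ * t) ^ (n + 1)), (σ * s) * (τ * t) ^ (n + 1),
      S.mul_mem (S.mul_mem hσ hs) (S.pow_mem (S.mul_mem hτ ht) _), rfl⟩, ?_⟩
    change algebraMap B (P n A B) ((σ * s) * (τ * t) ^ (n + 1)) * _ =
      algebraMap B (P n A B) ((σ * s) * (τ * t) ^ (n + 1)) * _
    rw [← sub_eq_zero, ← mul_sub, hc, ← map_sub, mul_right_comm, ← map_mul,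
      Ideal.Quotient.eq_zero_iff_mem.mpr h5, zero_mul]

end H12PPLoc
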