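import Mathlib

set_option autoImplicit false

namespace H12PiTensor

open TensorProduct

variable {R : Type*} [CommRing R]

section Free
variable {N N' : Type*} [AddCommGroup N] [Module R N] [AddCommGroup N'] [Module R N']
  (κ : Type*) [DecidableEq κ]

lemma fsl_lTensor (f : N →ₗ[R] N') (z : (κ →₀ R) ⊗[R] N) (k : κ) :
    finsuppScalarLeft R N' κ (LinearMap.lTensor (κ →₀ R) f z) k =
      f (finsuppScalarLeft R N κ z k) := by
  induction z using TensorProduct.induction_on with
  | zero => simp
  | tmul q n =>
    rw [LinearMap.lTensor_tmul, finsuppScalarLeft_apply_tmul_apply,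
      finsuppScalarLeft_apply_tmul_apply, map_smul]
  | add x y hx hy => simp only [map_add, Finsupp.add_apply, hx, hy]

end Free

section Inj

variable {ι : Type*} (T : ι → Type*) [∀ i, AddCommGroup (T i)] [∀ i, Module R (T i)]
  {N : Type*} [AddCommGroup N] [Module R N] (ev : ∀ i, N →ₗ[R] T i)

/-- the comparison map `M ⊗ N → Π (M ⊗ T i)` -/
noncomputable def cmp (M : Type*) [AddCommGroup M] [Module R M] :
    M ⊗[R] N →ₗ[R] (Π i, M ⊗[R] T i) :=
  LinearMap.pi fun i => LinearMap.lTensor M (ev i)

lemma cmp_apply (M : Type*) [AddCommGroup M] [Module R M] (z : M ⊗[R] N) (i : ι) :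
    cmp T ev M z i = LinearMap.lTensor M (ev i) z := rfl

lemma cmp_rTensor {M M' : Type*} [AddCommGroup M] [Module R M] [AddCommGroup M'] [Module R M']
    (s : M →ₗ[R] M') (z : M ⊗[R] N) (i : ι) :
    cmp T ev M' (LinearMap.rTensor N s z) i = LinearMap.rTensor (T i) s (cmp T ev M z i) := by
  rw [cmp_apply, cmp_apply, ← LinearMap.comp_apply, ← LinearMap.comp_apply,
    LinearMap.lTensor_comp_rTensor, LinearMap.rTensor_comp_lTensor]

include ev in
theorem cmp_injective_free (hev : ∀ x : N, (∀ i, ev i x = 0) → x = 0) (κ : Type*) :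
    Function.Injective (cmp T ev (κ →₀ R)) := by
  classical
  rw [injective_iff_map_eq_zero]
  intro z hz
  apply (finsuppScalarLeft R N κ).injective
  rw [map_zero]
  ext k
  rw [Finsupp.zero_apply]
  apply hev
  intro i
  rw [← fsl_lTensor, ← cmp_apply T ev, hz]
  simp

theorem cmp_injective (hev : ∀ x : N, (∀ i, ev i x = 0) → x = 0) (M : Type*) [AddCommGroup M]
    [Module R M] [Module.Projective R M] : Function.Injective (cmp T ev M) := by
  obtain ⟨s, hs⟩ := (Module.projective_def' (R := R) (P := M)).mp inferInstance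
  rw [injective_iff_map_eq_zero]
  intro z hz
  have h1 : cmp T ev (M →₀ R) (LinearMap.rTensor N s z) = 0 := by
    funext i
    rw [cmp_rTensor, hz]
    simp
  have h2 := cmp_injective_free T ev hev M (h1.trans (map_zero _).symm)
  have h3 : LinearMap.rTensor N (Finsupp.linearCombination R id ∘ₗ s) z = z := by
    rw [hs, LinearMap.rTensor_id, LinearMap.id_apply]
  rw [← h3, LinearMap.rTensor_comp, LinearMap.comp_apply, h2, map_zero]

end Inj

end H12PiTensor
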