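import Mathlib
import Groth.Agent.Lib.Helper12.PiTensor

set_option autoImplicit false

namespace H12PiTensor

open TensorProduct

variable {R : Type*} [CommRing R]
  (T : ℕ → Type*) [∀ i, AddCommGroup (T i)] [∀ i, Module R (T i)]
  (Fr : ∀ i, T (i + 1) →ₗ[R] T i)
  {N : Type*} [AddCommGroup N] [Module R N] (ev : ∀ i, N →ₗ[R] T i)

include Fr in
theorem compat_of_mem_range (hFr : ∀ i, (Fr i).comp (ev (i + 1)) = ev i)
    (M : Type*) [AddCommGroup M] [Module R M] (z : M ⊗[R] N) (i : ℕ) :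
    LinearMap.lTensor M (Fr i) (cmp T ev M z (i + 1)) = cmp T ev M z i := by
  rw [cmp_apply, cmp_apply, ← LinearMap.comp_apply, ← LinearMap.lTensor_comp, hFr]

theorem mem_range_free (hex : ∀ w : Π i, T i, (∀ i, Fr i (w (i + 1)) = w i) →
      ∃ x : N, ∀ i, ev i x = w i)
    (κ : Type*) [Finite κ] (y : Π i, (κ →₀ R) ⊗[R] T i)
    (hy : ∀ i, LinearMap.lTensor (κ →₀ R) (Fr i) (y (i + 1)) = y i) :
    y ∈ LinearMap.range (cmp T ev (κ →₀ R)) := by
  classical
  have h1 : ∀ k : κ, ∃ x : N, ∀ i, ev i x = finsuppScalarLeft R (T i) κ (y i) k := by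
    intro k
    apply hex (fun i => finsuppScalarLeft R (T i) κ (y i) k)
    intro i
    rw [← fsl_lTensor, hy]
  choose x hx using h1
  refine ⟨(finsuppScalarLeft R N κ).symm (Finsupp.equivFunOnFinite.symm x), ?_⟩
  funext i
  apply (finsuppScalarLeft R (T i) κ).injective
  ext k
  rw [cmp_apply, fsl_lTensor, LinearEquiv.apply_symm_apply, Finsupp.equivFunOnFinite_symm_apply_apply,
    hx]

theorem mem_range_iff (hFr : ∀ i, (Fr i).comp (ev (i + 1)) = ev i)
    (hex : ∀ w : Π i, T i, (∀ i, Fr i (w (i + 1)) = w i) → ∃ x : N, ∀ i, ev i x = w i)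
    (M : Type*) [AddCommGroup M] [Module R M] [Module.Finite R M] [Module.Projective R M]
    (y : Π i, M ⊗[R] T i) :
    y ∈ LinearMap.range (cmp T ev M) ↔ ∀ i, LinearMap.lTensor M (Fr i) (y (i + 1)) = y i := by
  constructor
  · rintro ⟨z, rfl⟩ i
    exact compat_of_mem_range T Fr ev hFr M z i
  · intro hy
    obtain ⟨n, f, hf⟩ := Module.Finite.exists_fin' R M
    let π : (Fin n →₀ R) →ₗ[R] M := f.comp (Finsupp.linearEquivFunOnFinite R R (Fin n)).toLinearMap
    have hπ : Function.Surjective π := hf.comp (Finsupp.linearEquivFunOnFinite R R (Fin n)).surjective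
    obtain ⟨s, hs⟩ := Module.projective_lifting_property π LinearMap.id hπ
    let y' : Π i, (Fin n →₀ R) ⊗[R] T i := fun i => LinearMap.rTensor (T i) s (y i)
    have hy' : ∀ i, LinearMap.lTensor (Fin n →₀ R) (Fr i) (y' (i + 1)) = y' i := by
      intro i
      show LinearMap.lTensor (Fin n →₀ R) (Fr i) (LinearMap.rTensor (T (i + 1)) s (y (i + 1))) =
        LinearMap.rTensor (T i) s (y i)
      rw [← hy i, ← LinearMap.comp_apply, ← LinearMap.comp_apply, LinearMap.lTensor_comp_rTensor,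
        LinearMap.rTensor_comp_lTensor]
    obtain ⟨z', hz'⟩ := mem_range_free T Fr ev hex (Fin n) y' hy'
    refine ⟨LinearMap.rTensor N π z', ?_⟩
    funext i
    rw [cmp_rTensor, hz']
    show LinearMap.rTensor (T i) π (LinearMap.rTensor (T i) s (y i)) = y i
    rw [← LinearMap.comp_apply, ← LinearMap.rTensor_comp, hs, LinearMap.rTensor_id,
      LinearMap.id_apply]

end H12PiTensor
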