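import Mathlib

set_option autoImplicit false
universe u v
open scoped TensorProduct

namespace H12PicPow

variable {R : Type u} [CommRing R] {N : Type v} [AddCommGroup N] [Module R N]

/-- the determinant multilinear map -/
noncomputable def phi (n : ℕ) (e : (Fin n → N) →ₗ[R] (Fin n → R)) :
    MultilinearMap R (fun _ : Fin n => N) R :=
  (Matrix.detRowAlternating (R := R) (n := Fin n)).toMultilinearMap.compLinearMap
    (fun j => e ∘ₗ LinearMap.single R (fun _ : Fin n => N) j)

theorem phi_apply (n : ℕ) (e : (Fin n → N) →ₗ[R] (Fin n → R)) (x : Fin n → N) :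
    phi n e x = Matrix.det (Matrix.of fun j i => e (Pi.single j (x j)) i) := by
  rfl

/-- elements of `m • N` die in `(R ⧸ m) ⊗ N`. -/
theorem tmul_eq_zero_of_mem (m : Ideal R) (z : N) (hz : z ∈ m • (⊤ : Submodule R N)) :
    (1 : R ⧸ m) ⊗ₜ[R] z = 0 := by
  refine Submodule.smul_induction_on (p := fun z => (1 : R ⧸ m) ⊗ₜ[R] z = 0) hz ?_ ?_
  · intro a ha y _
    rw [← TensorProduct.smul_tmul]
    have : a • (1 : R ⧸ m) = 0 := by
      rw [Algebra.smul_def, mul_one]
      exact Ideal.Quotient.eq_zero_iff_mem.mpr ha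
    rw [this, TensorProduct.zero_tmul]
  · intro y z hy hz
    rw [TensorProduct.tmul_add, hy, hz, add_zero]

theorem exists_tmul_ne_zero [Module.Invertible R N] (m : Ideal R) [hm : m.IsMaximal] :
    ∃ x : N, (1 : R ⧸ m) ⊗ₜ[R] x ≠ 0 := by
  by_contra hcon
  push Not at hcon
  letI : Field (R ⧸ m) := Ideal.Quotient.field m
  have hall : ∀ v : (R ⧸ m) ⊗[R] N, v = 0 := by
    intro v
    induction v using TensorProduct.induction_on with
    | zero => rfl
    | tmul c y =>
      have : c ⊗ₜ[R] y = c • ((1 : R ⧸ m) ⊗ₜ[R] y) := by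
        rw [TensorProduct.smul_tmul', smul_eq_mul, mul_one]
      rw [this, hcon y, smul_zero]
    | add a b ha hb => rw [ha, hb, add_zero]
  have hf : FaithfulSMul (R ⧸ m) ((R ⧸ m) ⊗[R] N) := inferInstance
  have : (1 : R ⧸ m) = 0 := by
    apply hf.eq_of_smul_eq_smul
    intro v
    rw [hall v, smul_zero, smul_zero]
  exact one_ne_zero this

theorem mem_smul_top_of_coords (m : Ideal R) (n : ℕ) (w : Fin n → R) (hw : ∀ i, w i ∈ m) :
    w ∈ m • (⊤ : Submodule R (Fin n → R)) := by
  have : w = ∑ i, w i • (Pi.single i (1 : R) : Fin n → R) := by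
    ext k
    simp [Finset.sum_apply, Pi.single_apply]
  rw [this]
  exact Submodule.sum_mem _ fun i _ => Submodule.smul_mem_smul (hw i) Submodule.mem_top

theorem map_mem_smul_top {M M' : Type*} [AddCommGroup M] [Module R M] [AddCommGroup M']
    [Module R M'] (m : Ideal R) (f : M →ₗ[R] M') (z : M) (hz : z ∈ m • (⊤ : Submodule R M)) :
    f z ∈ m • (⊤ : Submodule R M') := by
  have : (m • (⊤ : Submodule R M)).map f ≤ m • (⊤ : Submodule R M') := by
    rw [Submodule.map_smul'']
    exact Submodule.smul_mono le_rfl le_top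
  exact this (Submodule.mem_map_of_mem hz)


theorem phi_not_mem [Module.Invertible R N] (n : ℕ) (e : (Fin n → N) ≃ₗ[R] (Fin n → R))
    (m : Ideal R) [hm : m.IsMaximal] (x : N) (hx : (1 : R ⧸ m) ⊗ₜ[R] x ≠ 0) :
    phi n e.toLinearMap (fun _ => x) ∉ m := by
  letI : Field (R ⧸ m) := Ideal.Quotient.field m
  intro hmem
  rw [phi_apply] at hmem
  set M : Matrix (Fin n) (Fin n) R := Matrix.of fun j i => e (Pi.single j x) i with hM
  have hdet : (M.map (Ideal.Quotient.mk m)).det = 0 := by
    have := RingHom.map_det (Ideal.Quotient.mk m) M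
    rw [RingHom.mapMatrix_apply] at this
    rw [← this]
    exact Ideal.Quotient.eq_zero_iff_mem.mpr hmem
  obtain ⟨v, hv0, hv⟩ := Matrix.exists_vecMul_eq_zero_iff.mpr hdet
  -- lift v
  have hsurj : ∀ j, ∃ r : R, Ideal.Quotient.mk m r = v j := fun j => Ideal.Quotient.mk_surjective (v j)
  choose r hr using hsurj
  set y : Fin n → N := fun j => r j • x with hy
  have hy' : y = ∑ j, r j • (Pi.single j x : Fin n → N) := by
    ext k
    simp [hy, Finset.sum_apply, Pi.single_apply]
  have hcoord : ∀ i, e y i ∈ m := by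
    intro i
    rw [← Ideal.Quotient.eq_zero_iff_mem]
    have h1 : e y i = ∑ j, r j * M j i := by
      rw [hy', map_sum, Finset.sum_apply]
      refine Finset.sum_congr rfl fun j _ => ?_
      rw [map_smul, Pi.smul_apply, smul_eq_mul, hM, Matrix.of_apply]
    rw [h1, map_sum]
    have h2 := congrFun hv i
    rw [Matrix.vecMul, dotProduct] at h2
    simp only [Matrix.map_apply, Pi.zero_apply] at h2
    rw [← h2]
    refine Finset.sum_congr rfl fun j _ => ?_
    rw [map_mul, hr]
  have h3 : e y ∈ m • (⊤ : Submodule R (Fin n → R)) := mem_smul_top_of_coords m n _ hcoord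
  have h4 : y ∈ m • (⊤ : Submodule R (Fin n → N)) := by
    have := map_mem_smul_top m e.symm.toLinearMap _ h3
    simpa using this
  apply hv0
  ext j
  have h5 : y j ∈ m • (⊤ : Submodule R N) :=
    map_mem_smul_top m (LinearMap.proj (R := R) (φ := fun _ : Fin n => N) j) _ h4
  have h6 := tmul_eq_zero_of_mem m _ h5
  rw [hy] at h6
  simp only at h6
  rw [TensorProduct.tmul_smul, TensorProduct.smul_tmul', ] at h6
  have h7 : (r j • (1 : R ⧸ m)) ⊗ₜ[R] x = v j • ((1 : R ⧸ m) ⊗ₜ[R] x) := by
    rw [TensorProduct.smul_tmul', smul_eq_mul, mul_one, Algebra.smul_def, mul_one, ← hr]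
    rfl
  rw [h7] at h6
  rcases smul_eq_zero.mp h6 with h | h
  · simpa using h
  · exact absurd h hx

end H12PicPow
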