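import Mathlib
import Groth.Agent.Lib.Helper12.PicPow1

set_option autoImplicit false
universe u v
open scoped TensorProduct

namespace H12PicPow

variable {R : Type u} [CommRing R] (N : Type v) [AddCommGroup N] [Module R N] [Module.Invertible R N]

theorem pow_eq (k : ℕ) : ∃ _ : Module.Invertible R (⨂[R] _ : Fin k, N),
    CommRing.Pic.mk R (⨂[R] _ : Fin k, N) = CommRing.Pic.mk R N ^ k := by
  induction k with
  | zero =>
    have e : (⨂[R] _ : Fin 0, N) ≃ₗ[R] R := PiTensorProduct.isEmptyEquiv (Fin 0)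
    haveI : Module.Invertible R (⨂[R] _ : Fin 0, N) := Module.Invertible.congr e.symm
    refine ⟨this, ?_⟩
    rw [pow_zero, CommRing.Pic.mk_eq_one_iff]
    exact ⟨e⟩
  | succ k ih =>
    obtain ⟨hinv, hk⟩ := ih
    have e1 : (⨂[R] _ : Fin 1, N) ≃ₗ[R] N := PiTensorProduct.subsingletonEquiv (0 : Fin 1)
    have e : ((⨂[R] _ : Fin k, N) ⊗[R] N) ≃ₗ[R] (⨂[R] _ : Fin (k+1), N) :=
      (TensorProduct.congr (LinearEquiv.refl R _) e1.symm).trans (TensorPower.mulEquiv (R := R) (M := N))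
    haveI : Module.Invertible R (⨂[R] _ : Fin (k+1), N) := Module.Invertible.congr e
    refine ⟨this, ?_⟩
    rw [pow_succ, ← hk, ← CommRing.Pic.mk_tensor, CommRing.Pic.mk_eq_mk_iff]
    exact ⟨e.symm⟩

theorem main (n : ℕ) (e : (Fin n → N) ≃ₗ[R] (Fin n → R)) :
    CommRing.Pic.mk R N ^ n = 1 := by
  obtain ⟨hinv, hk⟩ := pow_eq (R := R) N n
  rw [← hk, CommRing.Pic.mk_eq_one_iff]
  set f : (⨂[R] _ : Fin n, N) →ₗ[R] R := PiTensorProduct.lift (phi n e.toLinearMap) with hf
  have hsurj : Function.Surjective f := by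
    rw [← LinearMap.range_eq_top]
    by_contra hne
    have hne' : (LinearMap.range f : Ideal R) ≠ ⊤ := hne
    obtain ⟨m, hm, hle⟩ := Ideal.exists_le_maximal _ hne'
    obtain ⟨x, hx⟩ := exists_tmul_ne_zero (N := N) m
    have := phi_not_mem n e m x hx
    apply this
    apply hle
    refine ⟨PiTensorProduct.tprod R (fun _ => x), ?_⟩
    rw [hf, PiTensorProduct.lift.tprod]
  exact ⟨LinearEquiv.ofBijective f (Module.Invertible.bijective_of_surjective hsurj)⟩

end H12PicPow
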