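import Mathlib
import Groth.Agent.Lib.Helper12.Poinc2

namespace Groth.Agent.Lib.Helper12.Poinc

open ExteriorAlgebra CliffordAlgebra Module
open Groth.Agent.Lib.Helper12.DeRham (ι_mul_eq involute_of_mem mul_mem_exteriorPower ι_mem algebraMap_mem)

universe u v w

variable {k : Type w} {A : Type u} {M : Type v} [CommRing k] [CommRing A] [Algebra k A]
  [AddCommGroup M] [Module A M] [Module k M] [IsScalarTower k A M]
  {σ : Type*} [LinearOrder σ] [Fintype σ]

/-- the basis element of the exterior power, as an element of the exterior algebra -/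
noncomputable def bE (b : Basis σ A M) (p : ℕ) (s : Set.powersetCard σ p) : ExteriorAlgebra A M :=
  ((b.exteriorPower p s : ⋀[A]^p M) : ExteriorAlgebra A M)

theorem bE_eq (b : Basis σ A M) (p : ℕ) (s : Set.powersetCard σ p) :
    bE b p s = ((List.ofFn (b ∘ (Set.powersetCard.ofFinEmbEquiv.symm s))).map (ι A)).prod := by
  rw [bE, exteriorPower.basis_apply, exteriorPower.ιMulti_family, exteriorPower.ιMulti_apply_coe,
    ExteriorAlgebra.ιMulti_apply, List.map_ofFn]
  rfl

/-- linear combination of basis elements -/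
noncomputable def W (b : Basis σ A M) (p : ℕ) (c : Set.powersetCard σ p → A) : ExteriorAlgebra A M :=
  ∑ s, algebraMap A _ (c s) * bE b p s

theorem W_eq_coe (b : Basis σ A M) (p : ℕ) (c : Set.powersetCard σ p → A) :
    W b p c = ((∑ s, c s • b.exteriorPower p s : ⋀[A]^p M) : ExteriorAlgebra A M) := by
  rw [W, Submodule.coe_sum]
  refine Finset.sum_congr rfl fun s _ => ?_
  rw [Submodule.coe_smul, Algebra.smul_def]; rfl

theorem W_mem (b : Basis σ A M) (p : ℕ) (c : Set.powersetCard σ p → A) :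
    W b p c ∈ ⋀[A]^p M := by
  rw [W_eq_coe]; exact Subtype.property _

theorem exists_W (b : Basis σ A M) (p : ℕ) {ω : ExteriorAlgebra A M} (hω : ω ∈ ⋀[A]^p M) :
    ∃ c, ω = W b p c := by
  refine ⟨fun s => (b.exteriorPower p).repr ⟨ω, hω⟩ s, ?_⟩
  rw [W_eq_coe, (b.exteriorPower p).sum_repr]

theorem W_eq_zero (b : Basis σ A M) (p : ℕ) (c : Set.powersetCard σ p → A) (h : W b p c = 0) :
    c = 0 := by
  rw [W_eq_coe] at h
  have h' : (∑ s, c s • b.exteriorPower p s : ⋀[A]^p M) = 0 := Subtype.ext h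
  funext s
  exact Fintype.linearIndependent_iff.1 (b.exteriorPower p).linearIndependent c h' s

variable {δ : Derivation k A M} {D : ExteriorAlgebra A M →+ ExteriorAlgebra A M}

theorem span_of_basis (b : Basis σ A M) (x : σ → A) (hb : ∀ i, b i = δ (x i)) :
    Submodule.span A (Set.range δ) = ⊤ := by
  rw [eq_top_iff, ← b.span_eq]
  apply Submodule.span_mono
  rintro _ ⟨i, rfl⟩
  exact ⟨x i, (hb i).symm⟩

/-- the Euler form -/
noncomputable def eul (b : Basis σ A M) (x : σ → A) : Module.Dual A M := b.constr A x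

theorem eul_basis (b : Basis σ A M) (x : σ → A) (i : σ) : eul b x (b i) = x i :=
  b.constr_basis A x i

theorem Lop_W (h : IsDR δ D) (b : Basis σ A M) (x : σ → A) (hb : ∀ i, b i = δ (x i)) (p : ℕ)
    (c : Set.powersetCard σ p → A) :
    Lop D (eul b x) (W b p c) = W b p (fun s => eul b x (δ (c s)) + p • c s) := by
  have hspan := span_of_basis (δ := δ) b x hb
  rw [W, Lop_sum, W]
  refine Finset.sum_congr rfl fun s _ => ?_
  rw [bE_eq, Lop_coeff h hspan, List.length_ofFn]
  intro m hm
  rw [List.mem_ofFn] at hm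
  obtain ⟨i, rfl⟩ := hm
  simp only [Function.comp_apply]
  rw [hb, Lop_ι_δ h, ← hb, eul_basis, hb]

/-- the abstract Poincaré lemma -/
theorem poincare (h : IsDR δ D) (b : Basis σ A M) (x : σ → A) (hb : ∀ i, b i = δ (x i))
    (hbij : ∀ q : ℕ, 1 ≤ q → Function.Bijective (fun a : A => eul b x (δ a) + q • a))
    (p : ℕ) (ω : ExteriorAlgebra A M) (hω : ω ∈ ⋀[A]^(p + 1) M) (hclosed : D ω = 0) :
    ∃ θ ∈ ⋀[A]^p M, D θ = ω := by
  obtain ⟨c, rfl⟩ := exists_W b (p + 1) hω
  have hsurj := (hbij (p + 1) (by omega)).2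
  choose c' hc' using fun s => hsurj (c s)
  have hL : Lop D (eul b x) (W b (p + 1) c') = W b (p + 1) c := by
    rw [Lop_W h b x hb]
    congr 1
    funext s
    exact hc' s
  have hη : D (W b (p + 1) c') = 0 := by
    obtain ⟨e, he⟩ := exists_W b (p + 1 + 1) (h.mem _ _ (W_mem b (p + 1) c'))
    have h1 : Lop D (eul b x) (W b (p + 1 + 1) e) = 0 := by
      rw [← he, Lop_D h, hL, hclosed]
    rw [Lop_W h b x hb] at h1
    have h2 := W_eq_zero b _ _ h1
    have h3 : e = 0 := by
      funext s
      have := congrFun h2 s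
      apply (hbij (p + 1 + 1) (by omega)).1
      simp only [Pi.zero_apply] at this ⊢
      rw [this]
      simp
    rw [he, h3]
    simp [W]
  refine ⟨ctr (eul b x) (W b (p + 1) c'), ?_, ?_⟩
  · exact (ctr_mem _ (p + 1) (W_mem b (p + 1) c')).2
  · have := hL
    rw [Lop, hη, map_zero, add_zero] at this
    exact this

end Groth.Agent.Lib.Helper12.Poinc
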