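import Mathlib
import Groth.Agent.Lib.Helper12.Poinc3

namespace Groth.Agent.Lib.Helper12.Poinc

open ExteriorAlgebra CliffordAlgebra Module MvPolynomial
open Groth.Agent.Lib.Helper12.DeRham (ι_mul_eq involute_of_mem mul_mem_exteriorPower ι_mem algebraMap_mem)

universe u

section poly
variable {k : Type u} [Field k] [CharZero k] {n : ℕ}

/-- the Euler operator on polynomials -/
noncomputable def eulP (f : MvPolynomial (Fin n) k) : MvPolynomial (Fin n) k :=
  ∑ i, pderiv i f * X i

omit [CharZero k] in
theorem eulP_add (f g : MvPolynomial (Fin n) k) : eulP (f + g) = eulP f + eulP g := by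
  simp only [eulP, map_add, add_mul, Finset.sum_add_distrib]

omit [CharZero k] in
theorem eulP_monomial (s : Fin n →₀ ℕ) (c : k) :
    eulP (monomial s c) = monomial s (c * (s.degree : k)) := by
  have h : ∀ i : Fin n, pderiv i (monomial s c) * X i = monomial s (c * (s i : k)) := by
    intro i
    rw [pderiv_monomial, X, monomial_mul, mul_one]
    rcases Nat.eq_zero_or_pos (s i) with h0 | hpos
    · rw [h0]; simp
    · have : s - Finsupp.single i 1 + Finsupp.single i 1 = s := by
        ext j
        by_cases hj : j = i
        · subst hj; simp; omega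
        · simp [Finsupp.single_apply, Ne.symm hj]
      rw [this]
  rw [eulP, Finset.sum_congr rfl (fun i _ => h i), ← map_sum, Finsupp.degree_eq_sum]
  push_cast
  rw [Finset.mul_sum]

omit [CharZero k] in
theorem coeff_eulP (f : MvPolynomial (Fin n) k) (s : Fin n →₀ ℕ) :
    coeff s (eulP f) = coeff s f * (s.degree : k) := by
  induction f using MvPolynomial.induction_on' with
  | monomial u c =>
    rw [eulP_monomial, coeff_monomial, coeff_monomial]
    split_ifs with hus
    · rw [hus]
    · rw [zero_mul]
  | add p q hp hq => rw [eulP_add, coeff_add, coeff_add, hp, hq, add_mul]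

theorem tq_bijective (q : ℕ) (hq : 1 ≤ q) :
    Function.Bijective (fun f : MvPolynomial (Fin n) k => eulP f + q • f) := by
  have hne : ∀ s : Fin n →₀ ℕ, ((s.degree : k) + (q : k)) ≠ 0 := by
    intro s
    have : ((s.degree + q : ℕ) : k) ≠ 0 := Nat.cast_ne_zero.2 (by omega)
    simpa using this
  have hcoeff : ∀ (f : MvPolynomial (Fin n) k) (s : Fin n →₀ ℕ),
      coeff s (eulP f + q • f) = coeff s f * ((s.degree : k) + (q : k)) := by
    intro f s
    rw [coeff_add, coeff_eulP, nsmul_eq_mul, ← map_natCast (C : k →+* MvPolynomial (Fin n) k),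
      coeff_C_mul]
    ring
  refine ⟨?_, ?_⟩
  · intro f g hfg
    ext s
    have := congrArg (coeff s) hfg
    simp only at this
    rw [hcoeff, hcoeff] at this
    exact mul_right_cancel₀ (hne s) this
  · intro g
    refine ⟨∑ s ∈ g.support, monomial s (coeff s g * ((s.degree : k) + (q : k))⁻¹), ?_⟩
    ext s
    simp only
    rw [hcoeff, coeff_sum]
    simp only [coeff_monomial]
    rw [Finset.sum_ite_eq' g.support s]
    split_ifs with hs
    · rw [mul_assoc, inv_mul_cancel₀ (hne s), mul_one]
    · rw [zero_mul]
      exact (notMem_support_iff.1 hs).symm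

end poly

end Groth.Agent.Lib.Helper12.Poinc
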