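import Mathlib
import Groth.Agent.Lib.Helper12.Poinc4

namespace Groth.Agent.Lib.Helper12.Poinc

open ExteriorAlgebra CliffordAlgebra Module MvPolynomial
open Groth.Agent.Lib.Helper12.DeRham (ι_mul_eq involute_of_mem mul_mem_exteriorPower ι_mem algebraMap_mem)

universe u

section poly
variable {k : Type u} [Field k] [CharZero k] {n : ℕ}

omit [CharZero k] in
theorem eul_eq (a : MvPolynomial (Fin n) k) :
    eul (KaehlerDifferential.mvPolynomialBasis k (Fin n)) X
      (KaehlerDifferential.D k (MvPolynomial (Fin n) k) a) = eulP a := by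
  rw [eul, Basis.constr_apply_fintype, eulP]
  refine Finset.sum_congr rfl fun i _ => ?_
  rw [Basis.equivFun_apply, KaehlerDifferential.mvPolynomialBasis_repr_apply, smul_eq_mul]

theorem const_of_D_eq_zero (a : MvPolynomial (Fin n) k)
    (ha : KaehlerDifferential.D k (MvPolynomial (Fin n) k) a = 0) : ∃ c : k, a = C c := by
  have hp : ∀ i, pderiv i a = 0 := by
    intro i
    rw [← KaehlerDifferential.mvPolynomialBasis_repr_apply, ha, map_zero]
    rfl
  refine ⟨coeff 0 a, ?_⟩
  ext s
  rw [coeff_C]
  split_ifs with hs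
  · rw [← hs]
  · have : ∃ i, s i ≠ 0 := by
      by_contra hcon
      push Not at hcon
      exact hs (Finsupp.ext fun i => (hcon i).symm ▸ rfl)
    obtain ⟨i, hi⟩ := this
    have h1 := coeff_pderiv (i := i) a (s - Finsupp.single i 1)
    rw [hp i, coeff_zero] at h1
    have h2 : s - Finsupp.single i 1 + Finsupp.single i 1 = s := by
      ext j
      by_cases hj : j = i
      · subst hj; simp; omega
      · simp [Ne.symm hj]
    rw [h2] at h1
    have h3 : ((((s - Finsupp.single i 1 : Fin n →₀ ℕ) i : ℕ)) : k) + 1 ≠ 0 :=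
      Nat.cast_add_one_ne_zero _
    rcases mul_eq_zero.1 h1.symm with h | h
    · exact h
    · exact absurd h h3

theorem main_15299
    (d : ExteriorAlgebra (MvPolynomial (Fin n) k) (KaehlerDifferential k (MvPolynomial (Fin n) k)) →ₗ[k]
      ExteriorAlgebra (MvPolynomial (Fin n) k) (KaehlerDifferential k (MvPolynomial (Fin n) k)))
    (h0 : ∀ a : MvPolynomial (Fin n) k,
      d (algebraMap (MvPolynomial (Fin n) k) _ a) =
        ExteriorAlgebra.ι (MvPolynomial (Fin n) k) (KaehlerDifferential.D k (MvPolynomial (Fin n) k) a))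
    (hdeg : ∀ (p : ℕ) (ω : ExteriorAlgebra (MvPolynomial (Fin n) k) (KaehlerDifferential k (MvPolynomial (Fin n) k))),
      ω ∈ ExteriorAlgebra.exteriorPower (MvPolynomial (Fin n) k) p (KaehlerDifferential k (MvPolynomial (Fin n) k)) →
        d ω ∈ ExteriorAlgebra.exteriorPower (MvPolynomial (Fin n) k) (p + 1) (KaehlerDifferential k (MvPolynomial (Fin n) k)))
    (hder : ∀ (p : ℕ) (ω η : ExteriorAlgebra (MvPolynomial (Fin n) k) (KaehlerDifferential k (MvPolynomial (Fin n) k))),
      ω ∈ ExteriorAlgebra.exteriorPower (MvPolynomial (Fin n) k) p (KaehlerDifferential k (MvPolynomial (Fin n) k)) →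
        d (ω * η) = d ω * η + (-1) ^ p * ω * d η)
    (hdd : ∀ ω, d (d ω) = 0) :
    (∀ a : MvPolynomial (Fin n) k, d (algebraMap (MvPolynomial (Fin n) k) _ a) = 0 →
        ∃ c : k, a = MvPolynomial.C c) ∧
    ∀ (p : ℕ) (ω : ExteriorAlgebra (MvPolynomial (Fin n) k) (KaehlerDifferential k (MvPolynomial (Fin n) k))),
      ω ∈ ExteriorAlgebra.exteriorPower (MvPolynomial (Fin n) k) (p + 1) (KaehlerDifferential k (MvPolynomial (Fin n) k)) →
        d ω = 0 →
          ∃ θ ∈ ExteriorAlgebra.exteriorPower (MvPolynomial (Fin n) k) p (KaehlerDifferential k (MvPolynomial (Fin n) k)),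
            d θ = ω := by
  refine ⟨?_, ?_⟩
  · intro a ha
    rw [h0] at ha
    apply const_of_D_eq_zero
    exact (ExteriorAlgebra.ι_inj _ _ _).1 (ha.trans (map_zero _).symm)
  · have hd1 : d 1 = 0 := by
      have := h0 1
      rw [map_one] at this
      rw [this, Derivation.map_one_eq_zero, map_zero]
    have hdι : ∀ b : MvPolynomial (Fin n) k,
        d (ι (MvPolynomial (Fin n) k) (KaehlerDifferential.D k (MvPolynomial (Fin n) k) b)) = 0 := by
      intro b
      rw [← h0, hdd]
    have hDR : IsDR (KaehlerDifferential.D k (MvPolynomial (Fin n) k)) d.toAddMonoidHom := by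
      refine ⟨hd1, ?_, ?_, hdeg, hdd⟩
      · intro a x
        have := hder 0 _ x (algebraMap_mem a)
        rw [pow_zero, one_mul, h0] at this
        exact this
      · intro b x
        have := hder 1 _ x (ι_mem (KaehlerDifferential.D k (MvPolynomial (Fin n) k) b))
        rw [hdι, zero_mul, zero_add, pow_one, neg_one_mul, neg_mul] at this
        exact this
    intro p ω hω hclosed
    exact poincare hDR (KaehlerDifferential.mvPolynomialBasis k (Fin n)) X
      (fun i => KaehlerDifferential.mvPolynomialBasis_apply k (Fin n) i)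
      (fun q hq => by
        have := tq_bijective (k := k) (n := n) q hq
        convert this using 2 with a
        rw [eul_eq])
      p ω hω hclosed

end poly

end Groth.Agent.Lib.Helper12.Poinc
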