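import Mathlib
import Groth.Agent.Lib.Helper12.Poinc3
import Groth.Agent.Lib.Helper12.DRGlob

namespace Groth.Agent.Lib.Helper12.Poinc

open ExteriorAlgebra CliffordAlgebra Module MvPowerSeries
open Groth.Agent.Lib.Helper12.DeRham (ι_mul_eq involute_of_mem mul_mem_exteriorPower ι_mem algebraMap_mem)

universe u

section ps
variable {k : Type u} [Field k] [CharZero k] {σ : Type u} [Fintype σ]

/-- the Euler operator on power series -/
noncomputable def eulS (f : MvPowerSeries σ k) : MvPowerSeries σ k :=
  ∑ i, pderiv k i f * X i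

omit [CharZero k] in
theorem coeff_pderiv_mul_X (f : MvPowerSeries σ k) (i : σ) (s : σ →₀ ℕ) :
    coeff s (pderiv k i f * X i) = coeff s f * (s i : k) := by
  classical
  rw [X_def, coeff_mul_monomial]
  split_ifs with h
  · have hi : 1 ≤ s i := by simpa using h i
    rw [coeff_pderiv, tsub_add_cancel_of_le h, mul_one]
    congr 1
    have : (s - Finsupp.single i 1 : σ →₀ ℕ) i = s i - 1 := by simp
    rw [this]
    push_cast [hi]
    ring
  · have hi : s i = 0 := by
      by_contra hne
      apply h
      intro j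
      by_cases hj : j = i
      · subst hj; simp; omega
      · simp [Finsupp.single_apply, Ne.symm hj]
    rw [hi]; simp

omit [CharZero k] in
theorem coeff_eulS (f : MvPowerSeries σ k) (s : σ →₀ ℕ) :
    coeff s (eulS f) = coeff s f * (s.degree : k) := by
  rw [eulS, map_sum, Finset.sum_congr rfl (fun i _ => coeff_pderiv_mul_X f i s),
    Finsupp.degree_eq_sum]
  push_cast
  rw [Finset.mul_sum]

theorem tqS_bijective (q : ℕ) (hq : 1 ≤ q) :
    Function.Bijective (fun f : MvPowerSeries σ k => eulS f + q • f) := by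
  have hne : ∀ s : σ →₀ ℕ, ((s.degree : k) + (q : k)) ≠ 0 := by
    intro s
    have : ((s.degree + q : ℕ) : k) ≠ 0 := Nat.cast_ne_zero.2 (by omega)
    simpa using this
  have hcoeff : ∀ (f : MvPowerSeries σ k) (s : σ →₀ ℕ),
      coeff s (eulS f + q • f) = coeff s f * ((s.degree : k) + (q : k)) := by
    intro f s
    rw [map_add, coeff_eulS, map_nsmul, nsmul_eq_mul]
    ring
  refine ⟨?_, ?_⟩
  · intro f g hfg
    ext s
    have := congrArg (coeff s) hfg
    simp only at this
    rw [hcoeff, hcoeff] at this
    exact mul_right_cancel₀ (hne s) this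
  · intro g
    let f₀ : MvPowerSeries σ k := fun s => coeff s g * ((s.degree : k) + (q : k))⁻¹
    have hf₀ : ∀ s, coeff s f₀ = coeff s g * ((s.degree : k) + (q : k))⁻¹ := fun s => rfl
    refine ⟨f₀, ?_⟩
    ext s
    simp only
    rw [hcoeff, hf₀, mul_assoc, inv_mul_cancel₀ (hne s), mul_one]

end ps

end Groth.Agent.Lib.Helper12.Poinc
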