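import Mathlib
import Groth.Agent.Lib.Helper12.Poinc6

namespace Groth.Agent.Lib.Helper12.Poinc

open ExteriorAlgebra CliffordAlgebra Module MvPowerSeries
open Groth.Agent.Lib.Helper12.DeRham (ι_mul_eq involute_of_mem mul_mem_exteriorPower ι_mem algebraMap_mem)
open exteriorPower

universe u

section ps
variable {k : Type u} [Field k] [CharZero k] {σ : Type u}

theorem main_18616_aux [Fintype σ] [LinearOrder σ]
    (δ : Derivation k (MvPowerSeries σ k) (σ → MvPowerSeries σ k))
    (hδ : ∀ (f : MvPowerSeries σ k) (i : σ), δ f i = MvPowerSeries.pderiv k i f)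
    (hgen : Submodule.span (MvPowerSeries σ k) (Set.range δ) = ⊤)
    (d : ∀ p : ℕ, ↥(⋀[MvPowerSeries σ k]^p (σ → MvPowerSeries σ k)) →ₗ[k]
      ↥(⋀[MvPowerSeries σ k]^(p + 1) (σ → MvPowerSeries σ k)))
    (hd : DeRham.IsDiff δ d) (p : ℕ) :
    DeRham.cocycles d (p + 1) ≤ DeRham.coboundaries d (p + 1) := by
  classical
  have hDR := isDR_glob hd hgen
  let b : Basis σ (MvPowerSeries σ k) (σ → MvPowerSeries σ k) := Pi.basisFun _ σ
  have hb : ∀ i, b i = δ (X i) := by
    intro i
    funext j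
    rw [hδ, pderiv_X, Pi.basisFun_apply]
    simp only [Pi.single_apply]
    by_cases h : i = j
    · subst h; simp
    · rw [if_neg (Ne.symm h), if_neg h]
  have heul : ∀ a : MvPowerSeries σ k, eul b X (δ a) = eulS a := by
    intro a
    rw [eul, Basis.constr_apply_fintype, eulS]
    refine Finset.sum_congr rfl fun i _ => ?_
    rw [Pi.basisFun_equivFun, LinearEquiv.refl_apply, hδ, smul_eq_mul]
  intro ω hω
  have hω' : d (p + 1) ω = 0 := hω
  have hclosed : glob d (ω : ExteriorAlgebra _ _) = 0 := by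
    rw [glob_coe, hω']; rfl
  obtain ⟨θ, hθ, hθω⟩ := poincare hDR b X hb
    (fun q hq => by
      have := tqS_bijective (k := k) (σ := σ) q hq
      convert this using 2 with a
      rw [heul])
    p ω ω.2 hclosed
  show ω ∈ LinearMap.range (d p)
  refine ⟨⟨θ, hθ⟩, ?_⟩
  apply Subtype.ext
  rw [← hθω, glob_of_mem d hθ]

theorem main_18616 [Finite σ]
    (δ : Derivation k (MvPowerSeries σ k) (σ → MvPowerSeries σ k))
    (hδ : ∀ (f : MvPowerSeries σ k) (i : σ), δ f i = MvPowerSeries.pderiv k i f)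
    (hgen : Submodule.span (MvPowerSeries σ k) (Set.range δ) = ⊤)
    (d : ∀ p : ℕ, ↥(⋀[MvPowerSeries σ k]^p (σ → MvPowerSeries σ k)) →ₗ[k]
      ↥(⋀[MvPowerSeries σ k]^(p + 1) (σ → MvPowerSeries σ k)))
    (hd : DeRham.IsDiff δ d) (p : ℕ) :
    DeRham.cocycles d (p + 1) ≤ DeRham.coboundaries d (p + 1) := by
  classical
  letI : Fintype σ := Fintype.ofFinite σ
  letI : LinearOrder σ := LinearOrder.lift' (Fintype.equivFin σ) (Equiv.injective _)
  exact main_18616_aux δ hδ hgen d hd p

end ps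

end Groth.Agent.Lib.Helper12.Poinc
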