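import Mathlib
import Groth.Prelude.Def_GLin

set_option autoImplicit false
universe u

namespace H12PolyInv

open TensorProduct Polynomial

variable (k : Type u) [Field k] (A : Type u) [CommRing A] [Bialgebra k A]
  (R : Type u) [CommRing R] [Algebra k R]

/-- coefficient extraction `R[t] ⊗ A → R ⊗ A` -/
noncomputable def cf (r : ℕ) : R[X] ⊗[k] A →ₗ[k] R ⊗[k] A :=
  LinearMap.rTensor A ((Polynomial.lcoeff R r).restrictScalars k)

noncomputable abbrev Γ : R ⊗[k] A →ₐ[k] R[X] ⊗[k] A :=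
  Algebra.TensorProduct.map (Polynomial.CAlgHom : R →ₐ[k] R[X]) (AlgHom.id k A)

theorem cf_tmul (r : ℕ) (p : R[X]) (a : A) : cf k A R r (p ⊗ₜ a) = p.coeff r ⊗ₜ a := by
  simp [cf]

theorem cf_Γ_mul (r s : ℕ) (u : R ⊗[k] A) (a : A) :
    cf k A R r (Γ k A R u * (((X : R[X]) ^ s) ⊗ₜ[k] a)) =
      if r = s then u * ((1 : R) ⊗ₜ[k] a) else 0 := by
  induction u using TensorProduct.induction_on with
  | zero => simp
  | tmul x b =>
    rw [Algebra.TensorProduct.map_tmul, Algebra.TensorProduct.tmul_mul_tmul, cf_tmul]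
    simp only [CAlgHom_apply, AlgHom.coe_id, id_eq, coeff_C_mul, coeff_X_pow]
    split_ifs with h
    · rw [Algebra.TensorProduct.tmul_mul_tmul, mul_one]
    · rw [mul_zero, zero_tmul]
  | add u v hu hv =>
    rw [map_add, add_mul, map_add, hu, hv]
    split_ifs
    · rw [add_mul]
    · rw [add_zero]

variable [HopfRep.Comod k A R] [GLin.IsCoactAlg k A R]
  [HopfRep.Comod k A (Polynomial R)] [GLin.IsCoactAlg k A (Polynomial R)]

theorem main (χ χ' : A) (hχχ' : χ * χ' = 1)
    (hC : ∀ r : R, HopfRep.Comod.coact (k := k) (A := A) (Polynomial.C r) =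
      Algebra.TensorProduct.map (Polynomial.CAlgHom : R →ₐ[k] Polynomial R) (AlgHom.id k A)
        (HopfRep.Comod.coact (k := k) (A := A) r))
    (hX : HopfRep.Comod.coact (k := k) (A := A) (Polynomial.X : Polynomial R) = Polynomial.X ⊗ₜ[k] χ')
    (g : Polynomial R) :
    g ∈ GLin.invariants k A (Polynomial R) ↔
      ∀ r : ℕ, g.coeff r ∈ HopfRep.eigenspace k A R (χ ^ r) := by
  have hcoact : HopfRep.Comod.coact (k := k) (A := A) g =
      ∑ s ∈ g.support, Γ k A R (HopfRep.Comod.coact (k := k) (A := A) (g.coeff s)) *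
        (((X : R[X]) ^ s) ⊗ₜ[k] (χ' ^ s)) := by
    conv_lhs => rw [g.as_sum_support_C_mul_X_pow]
    rw [map_sum]
    refine Finset.sum_congr rfl fun s _ => ?_
    rw [← GLin.coactAlgHom_apply, map_mul, map_pow, GLin.coactAlgHom_apply, GLin.coactAlgHom_apply,
      hC, hX, Algebra.TensorProduct.tmul_pow]
  have hpow : ∀ r : ℕ, χ ^ r * χ' ^ r = 1 := fun r => by rw [← mul_pow, hχχ', one_pow]
  rw [GLin.mem_invariants_iff]
  constructor
  · intro h r
    show HopfRep.Comod.coact (k := k) (A := A) (g.coeff r) = g.coeff r ⊗ₜ[k] (χ ^ r)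
    by_cases hr : r ∈ g.support
    · have h1 := congrArg (cf k A R r) h
      rw [hcoact, map_sum, cf_tmul] at h1
      simp only [cf_Γ_mul] at h1
      rw [Finset.sum_ite_eq, if_pos hr] at h1
      have h2 : _ * ((1 : R) ⊗ₜ[k] (χ ^ r)) = _ * ((1 : R) ⊗ₜ[k] (χ ^ r)) :=
        congrArg (· * ((1 : R) ⊗ₜ[k] (χ ^ r))) h1
      rw [mul_assoc, Algebra.TensorProduct.tmul_mul_tmul, Algebra.TensorProduct.tmul_mul_tmul,
        mul_one, one_mul, mul_one, mul_comm (χ' ^ r), hpow, ← Algebra.TensorProduct.one_def,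
        mul_one] at h2
      exact h2
    · rw [Polynomial.notMem_support_iff.mp hr, map_zero, zero_tmul]
  · intro h
    rw [hcoact]
    have h' : ∀ s, HopfRep.Comod.coact (k := k) (A := A) (g.coeff s) = g.coeff s ⊗ₜ[k] (χ ^ s) := h
    conv_rhs => rw [g.as_sum_support_C_mul_X_pow, TensorProduct.sum_tmul]
    refine Finset.sum_congr rfl fun s _ => ?_
    rw [h' s, Γ, Algebra.TensorProduct.map_tmul, Algebra.TensorProduct.tmul_mul_tmul, AlgHom.id_apply, hpow]
    rfl

end H12PolyInv
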