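import Groth.Prelude.Def_PP16
import Mathlib.LinearAlgebra.TensorProduct.Quotient
import Mathlib.LinearAlgebra.TensorProduct.RightExactness
import Mathlib.RingTheory.Ideal.Maps

/-!
# Principal parts: kernels of functoriality maps
-/

set_option autoImplicit false
universe u

open scoped TensorProduct

namespace Groth.Agent.Lib.Helper12.PP

/-- General lemma on maps between quotients by powers. -/
theorem quot_pow_map {S T : Type*} [CommRing S] [CommRing T] (π : S →+* T)
    (hπ : Function.Surjective π) (I : Ideal S) (I' : Ideal T) (h : I.map π = I') (m : ℕ)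
    (φ : S ⧸ I ^ m →+* T ⧸ I' ^ m)
    (hφ : ∀ x, φ (Ideal.Quotient.mk _ x) = Ideal.Quotient.mk _ (π x)) :
    Function.Surjective φ ∧
      RingHom.ker φ = (RingHom.ker π).map (Ideal.Quotient.mk (I ^ m)) := by
  constructor
  · intro y
    obtain ⟨t, rfl⟩ := Ideal.Quotient.mk_surjective y
    obtain ⟨s, rfl⟩ := hπ t
    exact ⟨Ideal.Quotient.mk _ s, hφ s⟩
  · ext x
    obtain ⟨x, rfl⟩ := Ideal.Quotient.mk_surjective x
    rw [RingHom.mem_ker, hφ, Ideal.Quotient.eq_zero_iff_mem, ← h, ← Ideal.map_pow,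
      ← Ideal.mem_comap, Ideal.comap_map_of_surjective π hπ,
      Ideal.mem_map_iff_of_surjective _ Ideal.Quotient.mk_surjective]
    constructor
    · intro hx
      obtain ⟨a, ha, k, hk, rfl⟩ := Submodule.mem_sup.1 hx
      refine ⟨k, ?_, ?_⟩
      · rwa [Ideal.mem_comap, Submodule.mem_bot] at hk
      · rw [Ideal.Quotient.mk_eq_mk_iff_sub_mem]
        simpa using (I ^ m).neg_mem ha
    · rintro ⟨k, hk, hkx⟩
      rw [Ideal.Quotient.mk_eq_mk_iff_sub_mem] at hkx
      have : x = -(k - x) + k := by ring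
      rw [this]
      refine Submodule.add_mem_sup ((I ^ m).neg_mem hkx) ?_
      rwa [Ideal.mem_comap, Submodule.mem_bot]

end Groth.Agent.Lib.Helper12.PP
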