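import Mathlib

set_option autoImplicit false
open CategoryTheory CategoryTheory.Limits Opposite
universe v u

namespace H12S6137

variable {C : Type u} [Category.{v} C]

/-- forward: representability of the presheaf on `Cᵒᵖ`. -/
def repBy (F : C ⥤ Type v) {X : C} (h : F.CorepresentableBy X) :
    (unopUnop C ⋙ F).RepresentableBy (op X) where
  homEquiv {Y} := (opEquiv Y (op X)).trans (h.homEquiv (Y := unop Y))
  homEquiv_comp {Y Y'} f g := by
    dsimp [opEquiv]
    exact h.homEquiv_comp f.unop g.unop

lemma forward (F : C ⥤ Type v) [HasLimitsOfSize.{v, v} C] (hF : F.IsCorepresentable) :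
    IsIndObject (unopUnop C ⋙ F) ∧ PreservesLimitsOfSize.{v, v} F := by
  constructor
  · have h := repBy F F.corepresentableBy
    exact (isIndObject_yoneda (op F.coreprX)).map h.toIso.hom
  · exact preservesLimits_of_natIso F.coreprW

end H12S6137

namespace H12S6137

variable {C : Type u} [Category.{v} C]

section backward

variable (F : C ⥤ Type v) (P : IndObjectPresentation (unopUnop C ⋙ F))

/-- the canonical element attached to an index. -/
def ξ (i : P.I) : F.obj (unop (P.F.obj i)) :=
  (P.ι.app i).app (op (P.F.obj i)) (𝟙 _)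

/-- the element of the category of elements. -/
def e (i : P.I) : F.Elements := ⟨unop (P.F.obj i), ξ F P i⟩

lemma ι_app_eq (i : P.I) (Y : C) (g : op Y ⟶ P.F.obj i) :
    (P.ι.app i).app (op (op Y)) g = F.map g.unop (ξ F P i) := by
  have := NatTrans.naturality_apply (CD := fun X => X) (P.ι.app i) g.op (𝟙 _)
  unfold ξ
  refine Eq.trans ?_ this
  congr 1
  simp

lemma exists_hom (y : F.Elements) : ∃ i : P.I, Nonempty (e F P i ⟶ y) := by
  obtain ⟨Y, y⟩ := y
  have hc : IsColimit (((evaluation _ _).obj (op (op Y))).mapCocone P.cocone) :=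
    isColimitOfPreserves _ P.coconeIsColimit
  obtain ⟨i, g, hg⟩ := Types.jointly_surjective_of_isColimit hc y
  refine ⟨i, ⟨⟨g.unop, ?_⟩⟩⟩
  have := ι_app_eq F P i Y g
  exact this.symm.trans hg

end backward

lemma backward (F : C ⥤ Type v) [HasLimitsOfSize.{v, v} C]
    (h1 : IsIndObject (unopUnop C ⋙ F)) (h2 : PreservesLimitsOfSize.{v, v} F) :
    F.IsCorepresentable := by
  obtain ⟨⟨P⟩⟩ := h1
  haveI : HasWideEqualizers.{v} F.Elements := fun J => inferInstance
  haveI : HasLimitsOfShape (Discrete P.I) F.Elements := inferInstance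
  haveI : HasInitial F.Elements := by
    apply hasInitial_of_weakly_initial_and_hasWideEqualizers (T := ∏ᶜ (e F P))
    intro y
    obtain ⟨i, ⟨g⟩⟩ := exists_hom F P y
    exact ⟨Pi.π _ i ≫ g⟩
  exact Functor.Elements.isCorepresentable_of_hasInitial F

end H12S6137
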