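import Mathlib

/-!
# Products of valuation rings (helper12)

* `isBezout_pi`: a product of valuation rings is a Bézout ring.
* `flat_ideal`: every ideal of a product of valuation rings is flat (weak dimension `≤ 1`).
* `isLocalization_pi`: `Π i, V i → Π i, K` is a localization for valuation subrings `V i` of `K`.
-/

set_option autoImplicit false

namespace Groth.Agent.Lib.Helper12.ProdVal

open scoped Classical

section Bezout

variable {ι : Type*} {W : ι → Type*} [∀ i, CommRing (W i)] [∀ i, IsDomain (W i)]
  [∀ i, ValuationRing (W i)]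

theorem isBezout_pi : IsBezout (Π i, W i) := by
  rw [IsBezout.iff_span_pair_isPrincipal]
  intro a b
  have h : ∀ i, ∃ c α β γ δ : W i, a i = c * α ∧ b i = c * β ∧ c = a i * γ + b i * δ := by
    intro i
    rcases ValuationRing.dvd_total (a i) (b i) with ⟨q, hq⟩ | ⟨q, hq⟩
    · exact ⟨a i, 1, q, 1, 0, by simp, hq, by simp⟩
    · exact ⟨b i, q, 1, 0, 1, hq, by simp, by simp⟩
  choose c α β γ δ h1 h2 h3 using h
  refine ⟨⟨c, ?_⟩⟩
  apply le_antisymm
  · rw [Submodule.span_le]
    rintro x (rfl | rfl)
    · exact Ideal.mem_span_singleton'.2 ⟨α, by funext i; rw [Pi.mul_apply, mul_comm]; exact (h1 i).symm⟩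
    · exact Ideal.mem_span_singleton'.2 ⟨β, by funext i; rw [Pi.mul_apply, mul_comm]; exact (h2 i).symm⟩
  · rw [Submodule.span_singleton_le_iff_mem]
    have : c = a * γ + b * δ := funext h3
    rw [this]
    exact Ideal.add_mem _ (Ideal.mul_mem_right _ _ (Ideal.subset_span (by simp)))
      (Ideal.mul_mem_right _ _ (Ideal.subset_span (by simp)))

theorem flat_span_singleton (c : Π i, W i) :
    Module.Flat (Π i, W i) (Ideal.span {c} : Ideal (Π i, W i)) := by
  let φ : (Π i, W i) →ₗ[Π i, W i] (Π i, W i) := LinearMap.mulRight (Π i, W i) c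
  let e : Π i, W i := fun i => if c i = 0 then 1 else 0
  have hec : e * c = 0 := by
    funext i
    by_cases h : c i = 0 <;> simp [e, h]
  have he : IsIdempotentElem e := by
    funext i
    by_cases h : c i = 0 <;> simp [e, h]
  have hker : (LinearMap.ker φ : Ideal (Π i, W i)) = Ideal.span {e} := by
    ext v
    rw [LinearMap.mem_ker, Ideal.mem_span_singleton']
    constructor
    · intro hv
      refine ⟨v, ?_⟩
      funext i
      have hvi : v i * c i = 0 := congrFun hv i
      by_cases h : c i = 0
      · simp [e, h]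
      · simp [e, h, (mul_eq_zero.1 hvi).resolve_right h]
    · rintro ⟨w, rfl⟩
      show w * e * c = 0
      rw [mul_assoc, hec, mul_zero]
  have hpure : Ideal.Pure (LinearMap.ker φ : Ideal (Π i, W i)) := by
    rw [hker]
    refine Ideal.Pure.of_isIdempotentElem ⟨{e}, by simp⟩ ?_
    show Ideal.span {e} * Ideal.span {e} = Ideal.span {e}
    rw [Ideal.span_singleton_mul_span_singleton, he.eq]
  have hrange : LinearMap.range φ = (Ideal.span {c} : Ideal (Π i, W i)) := by
    ext x
    rw [LinearMap.mem_range, Ideal.mem_span_singleton']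
    rfl
  have h1 : Module.Flat (Π i, W i) ((Π i, W i) ⧸ LinearMap.ker φ) := hpure
  have h2 : Module.Flat (Π i, W i) (LinearMap.range φ) :=
    Module.Flat.of_linearEquiv φ.quotKerEquivRange.symm
  exact Module.Flat.of_linearEquiv (LinearEquiv.ofEq _ _ hrange).symm

theorem flat_ideal (I : Ideal (Π i, W i)) : Module.Flat (Π i, W i) I := by
  have hB : IsBezout (Π i, W i) := isBezout_pi
  refine Module.Flat.of_forall_isTrivialRelation ?_
  intro l f x hfx
  let I' : Ideal (Π i, W i) := Ideal.span (Set.range fun i => (x i : Π i, W i))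
  have hfg : I'.FG := ⟨Finset.univ.image (fun i => (x i : Π i, W i)), by simp [I']⟩
  obtain ⟨c, hc⟩ := (IsBezout.isPrincipal_of_FG I' hfg).principal
  have hI'I : I' ≤ I := Ideal.span_le.2 (by rintro _ ⟨i, rfl⟩; exact (x i).2)
  have hflat : Module.Flat (Π i, W i) I' := by
    rw [hc]; exact flat_span_singleton c
  let x' : Fin l → I' := fun i => ⟨x i, Ideal.subset_span ⟨i, rfl⟩⟩
  have hfx' : ∑ i, f i • x' i = 0 := by
    apply Subtype.ext
    have := congrArg Subtype.val hfx
    simpa [x'] using this
  obtain ⟨k, a, y, h1, h2⟩ := Module.Flat.isTrivialRelation_of_sum_smul_eq_zero hfx'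
  refine ⟨k, a, fun j => ⟨y j, hI'I (y j).2⟩, ?_, h2⟩
  intro i
  apply Subtype.ext
  have := congrArg Subtype.val (h1 i)
  simpa [x'] using this

end Bezout

section Loc

variable {K : Type*} [Field K] {ι : Type*} (V : ι → ValuationSubring K)

/-- the componentwise inclusion `Π i, V i → Π i, K` -/
def gHom : (Π i, V i) →+* (ι → K) :=
  Pi.ringHom fun i => (V i).subtype.comp (Pi.evalRingHom (fun i => V i) i)

@[simp] theorem gHom_apply (v : Π i, V i) (i : ι) : gHom V v i = (v i : K) := rfl

theorem gHom_injective : Function.Injective (gHom V) := by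
  intro v w h
  funext i
  exact Subtype.ext (congrFun h i)

/-- the multiplicative set of componentwise nonzero elements -/
def S : Submonoid (Π i, V i) where
  carrier := {s | ∀ i, s i ≠ 0}
  one_mem' := fun _ => one_ne_zero
  mul_mem' := fun ha hb i => mul_ne_zero (ha i) (hb i)

theorem isLocalization_pi :
    @IsLocalization _ _ (S V) (ι → K) _ (gHom V).toAlgebra := by
  letI := (gHom V).toAlgebra
  refine ⟨?_, ?_, ?_⟩
  · rintro ⟨s, hs⟩
    show IsUnit (gHom V s)
    rw [Pi.isUnit_iff]
    intro i
    rw [gHom_apply, isUnit_iff_ne_zero]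
    exact fun h => hs i (Subtype.ext h)
  · intro z
    have h : ∀ i, ∃ a s : V i, s ≠ 0 ∧ z i * (s : K) = (a : K) := by
      intro i
      rcases (V i).mem_or_inv_mem (z i) with hz | hz
      · exact ⟨⟨z i, hz⟩, 1, one_ne_zero, by simp⟩
      · by_cases h0 : z i = 0
        · exact ⟨0, 1, one_ne_zero, by simp [h0]⟩
        · refine ⟨1, ⟨(z i)⁻¹, hz⟩, ?_, ?_⟩
          · intro h
            have := congrArg Subtype.val h
            simp [h0] at this
          · simp [h0]
    choose a s hs hzs using h
    refine ⟨(a, ⟨s, hs⟩), ?_⟩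
    funext i
    exact hzs i
  · intro x y h
    exact ⟨1, by rw [gHom_injective V h]⟩

end Loc

end Groth.Agent.Lib.Helper12.ProdVal
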