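import Mathlib

namespace H12QSym

open Finsupp

/-- decomposition of an exponent vector along the increasing enumeration of its support. -/
theorem mapDomain_eq_sum {n : ℕ} {β : Type*} (g : Fin n → β) (e : Fin n →₀ ℕ) :
    mapDomain g e = ∑ t : Fin e.support.card,
      single (g (e.support.orderEmbOfFin rfl t)) (e (e.support.orderEmbOfFin rfl t)) := by
  have h1 : mapDomain g e = ∑ x ∈ e.support, single (g x) (e x) := rfl
  rw [h1]
  conv_lhs => rw [← Finset.map_orderEmbOfFin_univ e.support rfl]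
  rw [Finset.sum_map]
  rfl

theorem partA (F : MvPowerSeries ℕ ℤ)
    (hQS : ∀ (ℓ : ℕ) (i j : Fin ℓ → ℕ) (a : Fin ℓ → ℕ), StrictMono i → StrictMono j → (∀ t, 0 < a t) →
        MvPowerSeries.coeff (∑ t : Fin ℓ, Finsupp.single (i t) (a t)) F =
          MvPowerSeries.coeff (∑ t : Fin ℓ, Finsupp.single (j t) (a t)) F)
    (n m : ℕ) (φ : Fin n ↪o Fin m) (e : Fin n →₀ ℕ) :
    MvPowerSeries.coeff (Finsupp.mapDomain Fin.val e) F =
      MvPowerSeries.coeff (Finsupp.mapDomain Fin.val (Finsupp.mapDomain φ e)) F := by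
  rw [← Finsupp.mapDomain_comp, mapDomain_eq_sum, mapDomain_eq_sum]
  apply hQS
  · intro s t hst
    exact (e.support.orderEmbOfFin rfl).strictMono hst
  · intro s t hst
    exact φ.strictMono ((e.support.orderEmbOfFin rfl).strictMono hst)
  · intro t
    have := Finset.orderEmbOfFin_mem e.support rfl t
    rw [Finsupp.mem_support_iff] at this
    omega

theorem exists_lift (e' : ℕ →₀ ℕ) : ∃ (n : ℕ) (e : Fin n →₀ ℕ), mapDomain Fin.val e = e' := by
  refine ⟨e'.support.sup id + 1, comapDomain Fin.val e' Fin.val_injective.injOn, ?_⟩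
  apply mapDomain_comapDomain _ Fin.val_injective
  intro x hx
  have : x ≤ e'.support.sup id := Finset.le_sup (f := id) hx
  exact ⟨⟨x, by omega⟩, rfl⟩

section partB

variable (f : (n : ℕ) → MvPolynomial (Fin n) ℤ)
  (hc : ∀ (n m : ℕ) (φ : Fin n ↪o Fin m) (e : Fin n →₀ ℕ),
        MvPolynomial.coeff e (f n) = MvPolynomial.coeff (Finsupp.mapDomain φ e) (f m))

include hc in
theorem wellDef {n₁ n₂ : ℕ} (e₁ : Fin n₁ →₀ ℕ) (e₂ : Fin n₂ →₀ ℕ)
    (h : mapDomain Fin.val e₁ = mapDomain Fin.val e₂) :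
    MvPolynomial.coeff e₁ (f n₁) = MvPolynomial.coeff e₂ (f n₂) := by
  rw [hc n₁ (max n₁ n₂) (Fin.castLEOrderEmb (le_max_left _ _)) e₁,
    hc n₂ (max n₁ n₂) (Fin.castLEOrderEmb (le_max_right _ _)) e₂]
  congr 1
  apply Finsupp.mapDomain_injective Fin.val_injective
  rw [← Finsupp.mapDomain_comp, ← Finsupp.mapDomain_comp]
  exact h

/-- the quasisymmetric power series assembled from the compatible family. -/
noncomputable def bigF : MvPowerSeries ℕ ℤ := fun e' =>
  MvPolynomial.coeff (Classical.choose (Classical.choose_spec (exists_lift e')))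
    (f (Classical.choose (exists_lift e')))

include hc in
theorem bigF_restrict (n : ℕ) (e : Fin n →₀ ℕ) :
    MvPowerSeries.coeff (mapDomain Fin.val e) (bigF f) = MvPolynomial.coeff e (f n) := by
  change bigF f (mapDomain Fin.val e) = _
  unfold bigF
  apply wellDef f hc
  exact Classical.choose_spec (Classical.choose_spec (exists_lift (mapDomain Fin.val e)))

include hc in
theorem bigF_qs (ℓ : ℕ) (i j : Fin ℓ → ℕ) (a : Fin ℓ → ℕ) (hi : StrictMono i) (hj : StrictMono j) :
    MvPowerSeries.coeff (∑ t : Fin ℓ, Finsupp.single (i t) (a t)) (bigF f) =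
      MvPowerSeries.coeff (∑ t : Fin ℓ, Finsupp.single (j t) (a t)) (bigF f) := by
  have key : ∀ (i : Fin ℓ → ℕ), StrictMono i →
      MvPowerSeries.coeff (∑ t : Fin ℓ, Finsupp.single (i t) (a t)) (bigF f) =
        MvPolynomial.coeff (∑ t : Fin ℓ, Finsupp.single t (a t)) (f ℓ) := by
    intro i hi
    set n := Finset.univ.sup i + 1 with hn
    have hlt : ∀ t, i t < n := fun t => by
      have : i t ≤ Finset.univ.sup i := Finset.le_sup (Finset.mem_univ t)
      omega
    let ι : Fin ℓ ↪o Fin n := OrderEmbedding.ofStrictMono (fun t => ⟨i t, hlt t⟩)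
      (fun s t hst => hi hst)
    have h1 : (∑ t : Fin ℓ, Finsupp.single (i t) (a t)) =
        mapDomain Fin.val (mapDomain ι (∑ t : Fin ℓ, Finsupp.single t (a t))) := by
      rw [← Finsupp.mapDomain_comp, Finsupp.mapDomain_finsetSum]
      refine Finset.sum_congr rfl fun t _ => ?_
      rw [Finsupp.mapDomain_single]
      rfl
    rw [h1, bigF_restrict f hc, ← hc]
  rw [key i hi, key j hj]

include hc in
theorem bigF_homog (d : ℕ) (hf : ∀ n, (f n).IsHomogeneous d) (e' : ℕ →₀ ℕ)
    (h : MvPowerSeries.coeff e' (bigF f) ≠ 0) : e'.degree = d := by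
  obtain ⟨n, e, rfl⟩ := exists_lift e'
  rw [bigF_restrict f hc] at h
  have := hf n h
  rw [Finsupp.degree_mapDomain, Finsupp.degree_eq_weight_one]
  exact this

end partB

end H12QSym
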