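import Mathlib
import Groth.Prelude.Def_SGA1
import Groth.Agent.Lib.Helper12.FinSigma

set_option autoImplicit false
universe u w

namespace H12S13740

open CategoryTheory CategoryTheory.Limits AlgebraicGeometry Opposite

/-- universally closed surjective morphisms are universally submersive -/
theorem univSubmersive_of_universallyClosed {X Y : Scheme.{u}} (f : X ⟶ Y) [UniversallyClosed f]
    [Surjective f] : SGA1.UnivSubmersive f := by
  intro X' Y' i₁ i₂ f' h
  have h1 : UniversallyClosed f' := MorphismProperty.of_isPullback h.flip inferInstance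
  have h2 : Surjective f' := MorphismProperty.of_isPullback h.flip inferInstance
  exact IsClosedMap.isQuotientMap f'.isClosedMap f'.continuous f'.surjective

variable {X S : Scheme.{u}} (q : X ⟶ S) [IsFinite q] [Surjective q]
  {G : Type u} [Group G] [Finite G] (ρ : G →* Aut X)

/-- the graph maps -/
noncomputable def gr (hρ : ∀ g : G, (ρ g).hom ≫ q = q) (σ : G) : X ⟶ pullback q q :=
  pullback.lift (𝟙 X) (ρ σ).hom (by rw [Category.id_comp, hρ])

theorem surjective_desc_gr (hρ : ∀ g : G, (ρ g).hom ≫ q = q)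
    (htrans : ∀ (Ω : Type u) [Field Ω] [IsAlgClosed Ω] (τ₁ τ₂ : Spec (CommRingCat.of Ω) ⟶ X),
      τ₁ ≫ q = τ₂ ≫ q → ∃ g : G, τ₁ ≫ (ρ g).hom = τ₂) :
    Surjective (Sigma.desc (gr q ρ hρ)) := by
  constructor
  intro z
  let P := pullback q q
  let Ω := AlgebraicClosure (P.residueField z)
  let pt : Spec (CommRingCat.of Ω) := IsLocalRing.closedPoint Ω
  obtain ⟨ζ, hz⟩ : ∃ ζ : Spec (CommRingCat.of Ω) ⟶ P, ζ pt = z := by
    refine ⟨Spec.map (CommRingCat.ofHom (algebraMap (P.residueField z) Ω)) ≫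
      P.fromSpecResidueField z, ?_⟩
    rw [Scheme.Hom.comp_apply, Scheme.fromSpecResidueField_apply]
  obtain ⟨g, hg⟩ := htrans Ω (ζ ≫ pullback.fst q q) (ζ ≫ pullback.snd q q) (by
    rw [Category.assoc, Category.assoc, pullback.condition])
  have hζ : ζ = (ζ ≫ pullback.fst q q) ≫ Sigma.ι (fun _ : G => X) g ≫ Sigma.desc (gr q ρ hρ) := by
    rw [Sigma.ι_desc]
    apply pullback.hom_ext
    · rw [Category.assoc, gr, pullback.lift_fst, Category.comp_id]
    · rw [Category.assoc, gr, pullback.lift_snd, hg]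
  have h3 : ((ζ ≫ pullback.fst q q) ≫ Sigma.ι (fun _ : G => X) g ≫ Sigma.desc (gr q ρ hρ)) pt = z := by
    rw [← hζ]; exact hz
  exact ⟨Sigma.ι (fun _ : G => X) g ((ζ ≫ pullback.fst q q) pt), by
    simpa only [Scheme.Hom.comp_apply] using h3⟩

instance isFinite_gr (hρ : ∀ g : G, (ρ g).hom ≫ q = q) (σ : G) : IsFinite (gr q ρ hρ σ) := by
  haveI : IsFinite (gr q ρ hρ σ ≫ pullback.fst q q) := by
    rw [gr, pullback.lift_fst]; infer_instance
  exact IsFinite.of_comp _ (pullback.fst q q)

theorem main (hρ : ∀ g : G, (ρ g).hom ≫ q = q)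
    (htrans : ∀ (Ω : Type u) [Field Ω] [IsAlgClosed Ω] (τ₁ τ₂ : Spec (CommRingCat.of Ω) ⟶ X),
      τ₁ ≫ q = τ₂ ≫ q → ∃ g : G, τ₁ ≫ (ρ g).hom = τ₂)
    (F : Scheme.{u}ᵒᵖ ⥤ Type w)
    (hF : ∀ ⦃T : Scheme.{u}⦄ (E : PreZeroHypercover.{u} T), Finite E.I₀ →
      (∀ i, LocallyOfFiniteType (E.f i)) → (∀ i, QuasiCompact (E.f i)) →
      (∀ i, LocallyQuasiFinite (E.f i)) → SGA1.UnivSubmersive (Sigma.desc E.f) →
      Presieve.IsSheafFor F E.presieve₀) :
    Function.Injective (F.map q.op) ∧
      Set.range (F.map q.op) = {f : F.obj (op X) | ∀ g : G, F.map (ρ g).hom.op f = f} := by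
  -- the two covers
  let E₁ : PreZeroHypercover.{u} S := ⟨PUnit.{u+1}, fun _ => X, fun _ => q⟩
  let E₂ : PreZeroHypercover.{u} (pullback q q) := ⟨G, fun _ => X, gr q ρ hρ⟩
  have hE₁ : Presieve.IsSheafFor F E₁.presieve₀ := by
    apply hF E₁ (inferInstanceAs (Finite PUnit)) (fun _ => inferInstanceAs (LocallyOfFiniteType q))
      (fun _ => inferInstanceAs (QuasiCompact q)) (fun _ => inferInstanceAs (LocallyQuasiFinite q))
    haveI : IsFinite (Sigma.desc E₁.f) :=
      H12FinSigma.isFinite_sigmaDesc _ (fun _ => inferInstanceAs (IsFinite q))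
    haveI : Surjective (Sigma.desc E₁.f) := by
      apply Surjective.sigmaDesc_of_union_range_eq_univ
      apply Set.eq_univ_of_forall
      intro s
      obtain ⟨x, hx⟩ := q.surjective s
      exact Set.mem_iUnion.mpr ⟨PUnit.unit, x, hx⟩
    exact univSubmersive_of_universallyClosed _
  have hE₂ : Presieve.IsSheafFor F E₂.presieve₀ := by
    apply hF E₂ (inferInstanceAs (Finite G))
      (fun σ => inferInstanceAs (LocallyOfFiniteType (gr q ρ hρ σ)))
      (fun σ => inferInstanceAs (QuasiCompact (gr q ρ hρ σ)))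
      (fun σ => inferInstanceAs (LocallyQuasiFinite (gr q ρ hρ σ)))
    haveI : IsFinite (Sigma.desc E₂.f) :=
      H12FinSigma.isFinite_sigmaDesc _ (fun σ => inferInstanceAs (IsFinite (gr q ρ hρ σ)))
    haveI : Surjective (Sigma.desc E₂.f) := surjective_desc_gr q ρ hρ htrans
    exact univSubmersive_of_universallyClosed _
  constructor
  · intro a b hab
    apply hE₁.isSeparatedFor.ext
    rintro Y f ⟨i⟩
    exact hab
  · ext f
    constructor
    · rintro ⟨a, rfl⟩ g
      rw [← Functor.map_comp_apply, ← op_comp, hρ]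
    · intro hf
      rw [Set.mem_ofPred_eq] at hf
      have hE₁' := (Presieve.isSheafFor_arrows_iff_pullbacks (P := F) (X := E₁.X) (π := E₁.f)).mp hE₁
      obtain ⟨t, ht, -⟩ := hE₁' (fun _ => f) (by
        intro i j
        show F.map (pullback.fst q q).op f = F.map (pullback.snd q q).op f
        apply hE₂.isSeparatedFor.ext
        rintro Y k ⟨σ⟩
        show F.map (gr q ρ hρ σ).op (F.map (pullback.fst q q).op f) =
          F.map (gr q ρ hρ σ).op (F.map (pullback.snd q q).op f)
        rw [← Functor.map_comp_apply, ← Functor.map_comp_apply, ← op_comp, ← op_comp,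
          gr, pullback.lift_fst, pullback.lift_snd, hf σ]
        simp)
      exact ⟨t, ht PUnit.unit⟩

end H12S13740
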