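import Mathlib
import Groth.Prelude.Def_Red
import Groth.Agent.S0114

/-!
# Quasi-compactness descends along open surjective base change; quasi-separatedness of a quotient
-/

set_option autoImplicit false
universe u
open CategoryTheory CategoryTheory.Limits AlgebraicGeometry

namespace Groth.Agent.Lib.Helper12.H12Quot

/-- a compact open of the source mapping onto a given affine open of the target, for an open
surjective morphism. -/
theorem exists_compact_open_image_eq {B B' : Scheme.{u}} (h : B' ⟶ B) [Surjective h]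
    (ho : IsOpenMap h.base) (U : B.Opens) (hU : IsCompact (U : Set B)) :
    ∃ W : B'.Opens, IsCompact (W : Set B') ∧ h.base '' (W : Set B') = (U : Set B) := by
  classical
  -- for each point of `U` choose an affine open neighbourhood of a preimage inside `h⁻¹ U`
  have hx : ∀ y : U, ∃ W : B'.affineOpens, (W : B'.Opens) ≤ h ⁻¹ᵁ U ∧
      (y : B) ∈ h.base '' ((W : B'.Opens) : Set B') := by
    intro y
    obtain ⟨x, hx⟩ := h.surjective y
    have hxU : x ∈ h ⁻¹ᵁ U := by
      change h.base x ∈ U
      rw [hx]; exact y.2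
    obtain ⟨_, ⟨W, hW, rfl⟩, hxW, hWU⟩ := B'.isBasis_affineOpens.exists_subset_of_mem_open hxU
      (h ⁻¹ᵁ U).isOpen
    exact ⟨⟨W, hW⟩, hWU, x, hxW, hx⟩
  choose W hW1 hW2 using hx
  obtain ⟨t, ht⟩ := hU.elim_finite_subcover (fun y : U => h.base '' ((W y : B'.Opens) : Set B'))
    (fun y => ho _ (W y : B'.Opens).isOpen) (fun y hy => Set.mem_iUnion.2 ⟨⟨y, hy⟩, hW2 ⟨y, hy⟩⟩)
  refine ⟨⨆ y ∈ t, (W y : B'.Opens), ?_, ?_⟩
  · simp only [TopologicalSpace.Opens.coe_iSup]
    exact t.finite_toSet.isCompact_biUnion (fun y _ => (W y).2.isCompact)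
  · apply Set.Subset.antisymm
    · rintro _ ⟨x, hx, rfl⟩
      simp only [TopologicalSpace.Opens.coe_iSup, Set.mem_iUnion] at hx
      obtain ⟨y, _, hxy⟩ := hx
      exact hW1 y hxy
    · intro y hy
      have := ht hy
      simp only [Set.mem_iUnion] at this
      obtain ⟨z, hz, x, hxz, hxy⟩ := this
      refine ⟨x, ?_, hxy⟩
      simp only [TopologicalSpace.Opens.coe_iSup, Set.mem_iUnion]
      exact ⟨z, hz, hxz⟩

theorem quasiCompact_of_pullback_snd {A B B' : Scheme.{u}} (g : A ⟶ B) (h : B' ⟶ B)
    [Surjective h] (ho : IsOpenMap h.base) [QuasiCompact (pullback.snd g h)] : QuasiCompact g := by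
  rw [quasiCompact_iff_forall_isAffineOpen]
  intro U hU
  obtain ⟨W, hWc, hWU⟩ := exists_compact_open_image_eq h ho U hU.isCompact
  have hc : IsCompact ((pullback.snd g h) ⁻¹ᵁ W : Set ↥(pullback g h)) :=
    QuasiCompact.isCompact_preimage (f := pullback.snd g h) _ W.isOpen hWc
  have himg : (g ⁻¹ᵁ U : Set A) =
      (pullback.fst g h).base '' ((pullback.snd g h) ⁻¹ᵁ W : Set ↥(pullback g h)) := by
    apply Set.Subset.antisymm
    · intro a ha
      have : g.base a ∈ (U : Set B) := ha
      rw [← hWU] at this
      obtain ⟨w, hw, hwa⟩ := this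
      obtain ⟨z, hz1, hz2⟩ := Scheme.Pullback.exists_preimage_pullback (f := g) (g := h) a w hwa.symm
      exact ⟨z, by change (pullback.snd g h).base z ∈ W; rw [hz2]; exact hw, hz1⟩
    · rintro _ ⟨z, hz, rfl⟩
      change g.base ((pullback.fst g h).base z) ∈ U
      have e : g.base ((pullback.fst g h).base z) = h.base ((pullback.snd g h).base z) := by
        have := congrArg (fun f => f.base z) (pullback.condition (f := g) (g := h))
        simpa using this
      rw [e]
      have : h.base ((pullback.snd g h).base z) ∈ h.base '' (W : Set B') := ⟨_, hz, rfl⟩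
      rw [hWU] at this
      exact this
  rw [himg]
  exact hc.image (pullback.fst g h).continuous

/-- quasi-separatedness of `q` from a universally open surjective cover `p` of its source whose
kernel pair is quasi-compact over the double fibre product. -/
theorem quasiSeparated_of_cover {X Y S : Scheme.{u}} (p : X ⟶ Y) (q : Y ⟶ S) [Surjective p]
    [UniversallyOpen p]
    (hR : QuasiCompact (pullback.lift (pullback.fst p p) (pullback.snd p p)
      (by rw [pullback.condition_assoc]) : pullback p p ⟶ pullback (p ≫ q) (p ≫ q))) :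
    QuasiSeparated q := by
  constructor
  let pp : pullback (p ≫ q) (p ≫ q) ⟶ pullback q q :=
    pullback.map (p ≫ q) (p ≫ q) q q p p (𝟙 S) (Category.comp_id _) (Category.comp_id _)
  haveI : Surjective pp :=
    MorphismProperty.pullbackMap (P := @Surjective) ‹Surjective p› ‹Surjective p› rfl rfl
  haveI : UniversallyOpen pp :=
    MorphismProperty.pullbackMap (P := @UniversallyOpen) ‹UniversallyOpen p› ‹UniversallyOpen p›
      rfl rfl
  have hsnd : pullback.snd (pullback.diagonal q) pp =
      (pullbackDiagonalMapIdIso p p q).hom ≫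
        (pullback.lift (pullback.fst p p) (pullback.snd p p)
          (by rw [pullback.condition_assoc]) : pullback p p ⟶ pullback (p ≫ q) (p ≫ q)) := by
    rw [← Iso.inv_comp_eq]
    apply pullback.hom_ext
    · rw [Category.assoc, pullbackDiagonalMapIdIso_inv_snd_fst, pullback.lift_fst]
    · rw [Category.assoc, pullbackDiagonalMapIdIso_inv_snd_snd, pullback.lift_snd]
  haveI : QuasiCompact (pullback.snd (pullback.diagonal q) pp) := by
    rw [hsnd]
    infer_instance
  exact quasiCompact_of_pullback_snd (pullback.diagonal q) pp pp.isOpenMap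

theorem quasiCompact_of_comp_surjective {X Y S : Scheme.{u}} (p : X ⟶ Y) (q : Y ⟶ S)
    [Surjective p] [QuasiCompact (p ≫ q)] : QuasiCompact q := by
  rw [quasiCompact_iff_forall_isAffineOpen]
  intro U hU
  have hc : IsCompact ((p ≫ q) ⁻¹ᵁ U : Set X) :=
    QuasiCompact.isCompact_preimage (f := p ≫ q) _ U.isOpen hU.isCompact
  have : (q ⁻¹ᵁ U : Set Y) = p.base '' ((p ≫ q) ⁻¹ᵁ U : Set X) := by
    apply Set.Subset.antisymm
    · intro y hy
      obtain ⟨x, rfl⟩ := p.surjective y
      exact ⟨x, by simpa using hy, rfl⟩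
    · rintro _ ⟨x, hx, rfl⟩
      simpa using hx
  rw [this]
  exact hc.image p.continuous

/-- the quotient of a finitely presented object by a finitely presented flat equivalence relation
is finitely presented. -/
theorem fp_of_quotient {S : Scheme.{u}} {X R Y : Over S} (s t : R ⟶ X) (p : X ⟶ Y)
    (hpb : IsPullback s t p p) [Flat p.left] [Surjective p.left]
    [LocallyOfFinitePresentation p.left]
    [LocallyOfFinitePresentation X.hom] [QuasiCompact X.hom] [QuasiSeparated X.hom]
    [QuasiCompact R.hom] :
    LocallyOfFinitePresentation Y.hom ∧ QuasiCompact Y.hom ∧ QuasiSeparated Y.hom := by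
  haveI : LocallyOfFinitePresentation (p.left ≫ Y.hom) := by rw [Over.w p]; infer_instance
  haveI : QuasiCompact (p.left ≫ Y.hom) := by rw [Over.w p]; infer_instance
  haveI : QuasiSeparated (p.left ≫ Y.hom) := by rw [Over.w p]; infer_instance
  refine ⟨Groth.Agent.S0114.result p.left Y.hom, quasiCompact_of_comp_surjective p.left Y.hom, ?_⟩
  have hpb' : IsPullback s.left t.left p.left p.left := hpb.map (Over.forget S)
  apply quasiSeparated_of_cover p.left Y.hom
  have hσ : QuasiCompact (pullback.lift s.left t.left (by rw [reassoc_of% hpb'.w]) :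
      R.left ⟶ pullback (p.left ≫ Y.hom) (p.left ≫ Y.hom)) := by
    haveI : QuasiCompact ((pullback.lift s.left t.left (by rw [reassoc_of% hpb'.w]) :
        R.left ⟶ pullback (p.left ≫ Y.hom) (p.left ≫ Y.hom)) ≫
          (pullback.fst (p.left ≫ Y.hom) (p.left ≫ Y.hom) ≫ p.left ≫ Y.hom)) := by
      rw [pullback.lift_fst_assoc, Over.w p, Over.w s]
      infer_instance
    exact QuasiCompact.of_comp _ (pullback.fst (p.left ≫ Y.hom) (p.left ≫ Y.hom) ≫ p.left ≫ Y.hom)
  have heq : (pullback.lift (pullback.fst p.left p.left) (pullback.snd p.left p.left)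
      (by rw [pullback.condition_assoc]) :
        pullback p.left p.left ⟶ pullback (p.left ≫ Y.hom) (p.left ≫ Y.hom)) =
      hpb'.isoPullback.inv ≫ (pullback.lift s.left t.left (by rw [reassoc_of% hpb'.w]) :
        R.left ⟶ pullback (p.left ≫ Y.hom) (p.left ≫ Y.hom)) := by
    apply pullback.hom_ext
    · rw [pullback.lift_fst, Category.assoc, pullback.lift_fst, IsPullback.isoPullback_inv_fst]
    · rw [pullback.lift_snd, Category.assoc, pullback.lift_snd, IsPullback.isoPullback_inv_snd]
  rw [heq]
  infer_instance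

end Groth.Agent.Lib.Helper12.H12Quot
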