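import Mathlib
import Groth.Prelude.Def_Red
import Groth.Agent.Lib.Helper12.Quot1
import Groth.Agent.Lib.Helper12.GrpLim9

/-!
# Representable flat quotients: invariance and base change
-/

set_option autoImplicit false
universe u
open CategoryTheory CategoryTheory.Limits AlgebraicGeometry

namespace Groth.Agent.Lib.Helper12.H12Quot

open Groth.Agent.Lib.Helper12.H12GrpLim

/-- the quotient of `X` by `(s, t) : R ⇉ X` is representable by a flat, surjective, locally finitely
presented morphism. -/
def QuotRep {U : Scheme.{u}} {X R : Over U} (s t : R ⟶ X) : Prop :=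
  ∃ (Y : Over U) (p : X ⟶ Y), Flat p.left ∧ Surjective p.left ∧
    LocallyOfFinitePresentation p.left ∧ IsPullback s t p p

theorem QuotRep.of_iso {U : Scheme.{u}} {X R X' R' : Over U} {s t : R ⟶ X} {s' t' : R' ⟶ X'}
    (h : QuotRep s t) (eX : X ≅ X') (eR : R ≅ R') (hs : s ≫ eX.hom = eR.hom ≫ s')
    (ht : t ≫ eX.hom = eR.hom ≫ t') : QuotRep s' t' := by
  obtain ⟨Y, p, h1, h2, h3, h4⟩ := h
  haveI : IsIso eX.inv.left := inferInstanceAs (IsIso ((Over.forget U).map eX.inv))
  refine ⟨Y, eX.inv ≫ p, ?_, ?_, ?_, ?_⟩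
  · rw [Over.comp_left]; infer_instance
  · rw [Over.comp_left]; infer_instance
  · rw [Over.comp_left]; infer_instance
  · exact h4.of_iso eR eX eX (Iso.refl Y) hs ht (by simp) (by simp)

theorem QuotRep.map {U U' : Scheme.{u}} (g : U' ⟶ U) {X R : Over U} {s t : R ⟶ X}
    (h : QuotRep s t) : QuotRep ((Over.pullback g).map s) ((Over.pullback g).map t) := by
  obtain ⟨Y, p, h1, h2, h3, h4⟩ := h
  refine ⟨(Over.pullback g).obj Y, (Over.pullback g).map p, ?_, ?_, ?_, h4.map (Over.pullback g)⟩
  · exact MorphismProperty.of_isPullback (P := @Flat) (isPullback_map_left g p) h1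
  · exact MorphismProperty.of_isPullback (P := @Surjective) (isPullback_map_left g p) h2
  · exact MorphismProperty.of_isPullback (P := @LocallyOfFinitePresentation)
      (isPullback_map_left g p) h3

section Pers
variable {S U U' : Scheme.{u}} (a : U' ⟶ U) (b : U ⟶ S) (c' : U' ⟶ S) (h : a ≫ b = c')

include h in
theorem QuotRep.pers {X R : Over S} {s t : R ⟶ X}
    (hq : QuotRep ((Over.pullback b).map s) ((Over.pullback b).map t)) :
    QuotRep ((Over.pullback c').map s) ((Over.pullback c').map t) :=
  (hq.map a).of_iso (ψ a b c' h X) (ψ a b c' h R) (ψ_naturality a b c' h s)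
    (ψ_naturality a b c' h t)

end Pers

end Groth.Agent.Lib.Helper12.H12Quot
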