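import Mathlib
import Groth.Prelude.Def_Red
import Groth.Agent.Lib.Helper12.Quot2
import Groth.Agent.Lib.Helper12.LqfConstr

/-!
# Descent of flat / surjective morphisms to a stage; persistence
-/

set_option autoImplicit false
universe u
open CategoryTheory CategoryTheory.Limits AlgebraicGeometry

namespace Groth.Agent.Lib.Helper12.H12Quot

open Groth.Agent.Lib.Helper12.H12GrpLim

section Pers
variable {S U U' : Scheme.{u}} (a : U' ⟶ U) (b : U ⟶ S) (c' : U' ⟶ S) (h : a ≫ b = c')

theorem isIso_left {T : Scheme.{u}} {A B : Over T} (e : A ⟶ B) [IsIso e] : IsIso e.left :=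
  inferInstanceAs (IsIso ((Over.forget T).map e))

include h in
theorem prop_pers (P : MorphismProperty Scheme.{u}) [P.IsStableUnderBaseChange]
    {A B : Over S} (w : A ⟶ B)
    (hw : P ((Over.pullback b).map w).left) : P ((Over.pullback c').map w).left := by
  rw [pers_eq a b c' h w]
  simp only [Over.comp_left]
  haveI := isIso_left (ψ a b c' h A).inv
  haveI := isIso_left (ψ a b c' h B).hom
  rw [P.cancel_left_of_respectsIso, P.cancel_right_of_respectsIso]
  exact MorphismProperty.of_isPullback (P := P) (isPullback_map_left a _) hw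

end Pers

theorem lfp_left {S : Scheme.{u}} {A B : Over S} (w : A ⟶ B)
    [LocallyOfFinitePresentation A.hom] [LocallyOfFinitePresentation B.hom] :
    LocallyOfFinitePresentation w.left := by
  haveI : LocallyOfFinitePresentation (w.left ≫ B.hom) := by rw [Over.w w]; infer_instance
  exact Groth.Agent.Lib.Helper12.H12LqfConstr.locallyOfFinitePresentation_of_comp w.left B.hom

theorem qc_left {S : Scheme.{u}} {A B : Over S} (w : A ⟶ B)
    [QuasiCompact A.hom] [QuasiSeparated B.hom] : QuasiCompact w.left := by
  haveI : QuasiCompact (w.left ≫ B.hom) := by rw [Over.w w]; infer_instance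
  exact QuasiCompact.of_comp w.left B.hom

theorem qs_left {S : Scheme.{u}} {A B : Over S} (w : A ⟶ B)
    [QuasiSeparated A.hom] : QuasiSeparated w.left := by
  haveI : QuasiSeparated (w.left ≫ B.hom) := by rw [Over.w w]; infer_instance
  exact QuasiSeparated.of_comp w.left B.hom

variable {I : Type u} [SmallCategory I] [IsCofiltered I]
  (D : I ⥤ Scheme.{u}) (c : Limits.Cone D) (hc : Limits.IsLimit c)
  [∀ (i j : I) (f : i ⟶ j), IsAffineHom (D.map f)]
  [∀ i, CompactSpace (D.obj i)] [∀ i, QuasiSeparatedSpace (D.obj i)]

include hc in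
theorem flat_descend {j : I} (A B : Over (D.obj j))
    [LocallyOfFinitePresentation A.hom] [QuasiCompact A.hom] [QuasiSeparated A.hom]
    [LocallyOfFinitePresentation B.hom] [QuasiCompact B.hom] [QuasiSeparated B.hom]
    (w : A ⟶ B) (hm : Flat ((Over.pullback (c.π.app j)).map w).left) :
    ∃ (i : I) (φ : i ⟶ j), Flat ((Over.pullback (D.map φ)).map w).left := by
  haveI := compactSpace_left A
  haveI := quasiSeparatedSpace_left A
  haveI := compactSpace_left B
  haveI := quasiSeparatedSpace_left B
  haveI := lfp_left w
  exact descend_wrap D @Flat w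
    (Groth.Agent.S2075.result D c hc j w.left B.hom
      ((Over.pullback (c.π.app j)).map w).left (pullback.snd B.hom (c.π.app j))
      (pullback.fst B.hom (c.π.app j)) (pullback.fst A.hom (c.π.app j))
      (IsPullback.of_hasPullback _ _) (isPullback_map_left _ w))

include hc in
theorem surj_descend {j : I} (A B : Over (D.obj j))
    [LocallyOfFinitePresentation A.hom] [QuasiCompact A.hom] [QuasiSeparated A.hom]
    [LocallyOfFinitePresentation B.hom] [QuasiCompact B.hom] [QuasiSeparated B.hom]
    (w : A ⟶ B) (hm : Surjective ((Over.pullback (c.π.app j)).map w).left) :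
    ∃ (i : I) (φ : i ⟶ j), Surjective ((Over.pullback (D.map φ)).map w).left := by
  haveI : LocallyOfFinitePresentation (w.left ≫ B.hom) := by rw [Over.w w]; infer_instance
  haveI : QuasiCompact (w.left ≫ B.hom) := by rw [Over.w w]; infer_instance
  haveI : QuasiSeparated (w.left ≫ B.hom) := by rw [Over.w w]; infer_instance
  exact descend_wrap D @Surjective w
    (Groth.Agent.S2581.result D c hc j w.left B.hom
      ((Over.pullback (c.π.app j)).map w).left (pullback.snd B.hom (c.π.app j))
      (pullback.fst B.hom (c.π.app j)) (pullback.fst A.hom (c.π.app j))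
      (IsPullback.of_hasPullback _ _) (isPullback_map_left _ w))

end Groth.Agent.Lib.Helper12.H12Quot
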