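import Mathlib
import Groth.Prelude.Def_Red
import Groth.Agent.Lib.Helper12.Quot3

/-!
# Descent of an honest quotient presentation to a stage
-/

set_option autoImplicit false
universe u
open CategoryTheory CategoryTheory.Limits AlgebraicGeometry

namespace Groth.Agent.Lib.Helper12.H12Quot

open Groth.Agent.Lib.Helper12.H12GrpLim

variable {I : Type u} [SmallCategory I] [IsCofiltered I]
  (D : I ⥤ Scheme.{u}) (c : Limits.Cone D) (hc : Limits.IsLimit c)
  [∀ (i j : I) (f : i ⟶ j), IsAffineHom (D.map f)]
  [∀ i, CompactSpace (D.obj i)] [∀ i, QuasiSeparatedSpace (D.obj i)]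

/-- the kernel pair of a morphism between finitely presented objects is finitely presented. -/
theorem fp_kernelPair {S : Scheme.{u}} {X Y : Over S} (p : X ⟶ Y)
    [LocallyOfFinitePresentation X.hom] [QuasiCompact X.hom] [QuasiSeparated X.hom]
    [LocallyOfFinitePresentation Y.hom] [QuasiCompact Y.hom] [QuasiSeparated Y.hom] :
    LocallyOfFinitePresentation (pullback p p).hom ∧ QuasiCompact (pullback p p).hom ∧
      QuasiSeparated (pullback p p).hom := by
  have hK : IsPullback (pullback.fst p p).left (pullback.snd p p).left p.left p.left :=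
    (IsPullback.of_hasPullback p p).map (Over.forget S)
  haveI := lfp_left p
  haveI := qc_left p
  haveI := qs_left p
  haveI : LocallyOfFinitePresentation (pullback.fst p p).left :=
    MorphismProperty.of_isPullback (P := @LocallyOfFinitePresentation) hK.flip inferInstance
  haveI : QuasiCompact (pullback.fst p p).left :=
    MorphismProperty.of_isPullback (P := @QuasiCompact) hK.flip inferInstance
  haveI : QuasiSeparated (pullback.fst p p).left :=
    MorphismProperty.of_isPullback (P := @QuasiSeparated) hK.flip inferInstance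
  rw [← Over.w (pullback.fst p p)]
  exact ⟨inferInstance, inferInstance, inferInstance⟩

include hc in
theorem quot_descend_honest {j : I} (X R Y : Over (D.obj j))
    [LocallyOfFinitePresentation X.hom] [QuasiCompact X.hom] [QuasiSeparated X.hom]
    [LocallyOfFinitePresentation R.hom] [QuasiCompact R.hom] [QuasiSeparated R.hom]
    [LocallyOfFinitePresentation Y.hom] [QuasiCompact Y.hom] [QuasiSeparated Y.hom]
    (s t : R ⟶ X) (p : X ⟶ Y) (hst : s ≫ p = t ≫ p)
    (hfl : Flat ((Over.pullback (c.π.app j)).map p).left)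
    (hsu : Surjective ((Over.pullback (c.π.app j)).map p).left)
    (hpb : IsPullback ((Over.pullback (c.π.app j)).map s) ((Over.pullback (c.π.app j)).map t)
      ((Over.pullback (c.π.app j)).map p) ((Over.pullback (c.π.app j)).map p)) :
    ∃ (i : I) (f : i ⟶ j), Flat ((Over.pullback (D.map f)).map p).left ∧
      Surjective ((Over.pullback (D.map f)).map p).left ∧
      IsPullback ((Over.pullback (D.map f)).map s) ((Over.pullback (D.map f)).map t)
        ((Over.pullback (D.map f)).map p) ((Over.pullback (D.map f)).map p) := by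
  obtain ⟨hK1, hK2, hK3⟩ := fp_kernelPair p
  let cmp : R ⟶ pullback p p := pullback.lift s t hst
  have hcmp1 : cmp ≫ pullback.fst p p = s := pullback.lift_fst _ _ _
  have hcmp2 : cmp ≫ pullback.snd p p = t := pullback.lift_snd _ _ _
  -- `cmp` becomes an isomorphism over the limit
  have hKlim := (IsPullback.of_hasPullback p p).map (Over.pullback (c.π.app j))
  have hiso : IsIso ((Over.pullback (c.π.app j)).map cmp) := by
    have : (Over.pullback (c.π.app j)).map cmp = (hpb.isoIsPullback _ _ hKlim).hom := by
      apply hKlim.hom_ext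
      · rw [IsPullback.isoIsPullback_hom_fst, ← Functor.map_comp, hcmp1]
      · rw [IsPullback.isoIsPullback_hom_snd, ← Functor.map_comp, hcmp2]
    rw [this]
    infer_instance
  have e1 := iso_descend D c hc R (pullback p p) cmp hiso
  have e2 := flat_descend D c hc X Y p hfl
  have e3 := surj_descend D c hc X Y p hsu
  have hmc : ∀ (i' : I) (g : i' ⟶ j) (i'' : I) (g' : i'' ⟶ i'),
      D.map g' ≫ D.map g = D.map (g' ≫ g) := fun _ _ _ _ => (D.map_comp _ _).symm
  obtain ⟨i₁, f₁, h1, h2⟩ := exists_stage_and
    (fun i' g => IsIso ((Over.pullback (D.map g)).map cmp))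
    (fun i' g => Flat ((Over.pullback (D.map g)).map p).left)
    (fun i' g i'' g' h => isIso_pers (D.map g') (D.map g) _ (hmc _ g _ g') cmp h)
    (fun i' g i'' g' h => prop_pers (D.map g') (D.map g) _ (hmc _ g _ g') @Flat p h) e1 e2
  obtain ⟨i, f, ⟨h1, h2⟩, h3⟩ := exists_stage_and
    (fun i' g => IsIso ((Over.pullback (D.map g)).map cmp) ∧
      Flat ((Over.pullback (D.map g)).map p).left)
    (fun i' g => Surjective ((Over.pullback (D.map g)).map p).left)
    (fun i' g i'' g' h => ⟨isIso_pers (D.map g') (D.map g) _ (hmc _ g _ g') cmp h.1,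
      prop_pers (D.map g') (D.map g) _ (hmc _ g _ g') @Flat p h.2⟩)
    (fun i' g i'' g' h => prop_pers (D.map g') (D.map g) _ (hmc _ g _ g') @Surjective p h)
    ⟨i₁, f₁, h1, h2⟩ e3
  refine ⟨i, f, h2, h3, ?_⟩
  have hKf := (IsPullback.of_hasPullback p p).map (Over.pullback (D.map f))
  haveI := h1
  refine hKf.of_iso (asIso ((Over.pullback (D.map f)).map cmp)).symm (Iso.refl _) (Iso.refl _)
    (Iso.refl _) ?_ ?_ (by simp) (by simp)
  · simp only [Iso.refl_hom, Category.comp_id, Iso.symm_hom, asIso_inv, IsIso.eq_inv_comp]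
    rw [← Functor.map_comp, hcmp1]
  · simp only [Iso.refl_hom, Category.comp_id, Iso.symm_hom, asIso_inv, IsIso.eq_inv_comp]
    rw [← Functor.map_comp, hcmp2]

end Groth.Agent.Lib.Helper12.H12Quot
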