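import Mathlib
import Groth.Prelude.Def_Red
import Groth.Agent.Lib.Helper12.Quot4

/-!
# Descent of a quotient presentation whose data live at a stage
-/

set_option autoImplicit false
universe u
open CategoryTheory CategoryTheory.Limits AlgebraicGeometry

namespace Groth.Agent.Lib.Helper12.H12Quot

open Groth.Agent.Lib.Helper12.H12GrpLim

section Nest
variable {S U U' : Scheme.{u}} (a : U' ⟶ U) (b : U ⟶ S) (c' : U' ⟶ S) (h : a ≫ b = c')

include h in
theorem QuotRep.unnest {X R : Over S} {s t : R ⟶ X}
    (hq : QuotRep ((Over.pullback a).map ((Over.pullback b).map s))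
      ((Over.pullback a).map ((Over.pullback b).map t))) :
    QuotRep ((Over.pullback c').map s) ((Over.pullback c').map t) :=
  hq.of_iso (ψ a b c' h X) (ψ a b c' h R) (ψ_naturality a b c' h s) (ψ_naturality a b c' h t)

include h in
theorem prop_nest (P : MorphismProperty Scheme.{u}) [P.RespectsIso] {A B : Over S} (w : A ⟶ B) :
    P ((Over.pullback a).map ((Over.pullback b).map w)).left ↔
      P ((Over.pullback c').map w).left := by
  rw [pers_eq a b c' h w]
  simp only [Over.comp_left]
  haveI := isIso_left (ψ a b c' h A).inv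
  haveI := isIso_left (ψ a b c' h B).hom
  rw [P.cancel_left_of_respectsIso, P.cancel_right_of_respectsIso]

include h in
theorem isPullback_nest {X R Y : Over S} (s t : R ⟶ X) (p : X ⟶ Y)
    (hpb : IsPullback ((Over.pullback c').map s) ((Over.pullback c').map t)
      ((Over.pullback c').map p) ((Over.pullback c').map p)) :
    IsPullback ((Over.pullback a).map ((Over.pullback b).map s))
      ((Over.pullback a).map ((Over.pullback b).map t))
      ((Over.pullback a).map ((Over.pullback b).map p))
      ((Over.pullback a).map ((Over.pullback b).map p)) := by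
  refine hpb.of_iso (ψ a b c' h R).symm (ψ a b c' h X).symm (ψ a b c' h X).symm
    (ψ a b c' h Y).symm ?_ ?_ ?_ ?_
  all_goals
    simp only [Iso.symm_hom]
    rw [Iso.eq_inv_comp, ← Category.assoc, Iso.comp_inv_eq]
    exact (ψ_naturality a b c' h _).symm

end Nest

variable {I : Type u} [SmallCategory I] [IsCofiltered I]
  (D : I ⥤ Scheme.{u}) (c : Limits.Cone D) (hc : Limits.IsLimit c)
  [∀ (i j : I) (f : i ⟶ j), IsAffineHom (D.map f)]
  [∀ i, CompactSpace (D.obj i)] [∀ i, QuasiSeparatedSpace (D.obj i)]

include hc in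
theorem quot_descend_stage {j : I} (X R Y : Over (D.obj j))
    [LocallyOfFinitePresentation X.hom] [QuasiCompact X.hom] [QuasiSeparated X.hom]
    [LocallyOfFinitePresentation R.hom] [QuasiCompact R.hom] [QuasiSeparated R.hom]
    [LocallyOfFinitePresentation Y.hom] [QuasiCompact Y.hom] [QuasiSeparated Y.hom]
    (s t : R ⟶ X) (p : X ⟶ Y)
    (hfl : Flat ((Over.pullback (c.π.app j)).map p).left)
    (hsu : Surjective ((Over.pullback (c.π.app j)).map p).left)
    (hpb : IsPullback ((Over.pullback (c.π.app j)).map s) ((Over.pullback (c.π.app j)).map t)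
      ((Over.pullback (c.π.app j)).map p) ((Over.pullback (c.π.app j)).map p)) :
    ∃ (i : I) (f : i ⟶ j),
      QuotRep ((Over.pullback (D.map f)).map s) ((Over.pullback (D.map f)).map t) := by
  obtain ⟨i', g, hg⟩ := faithful D c hc R Y (s ≫ p) (t ≫ p)
    (by rw [Functor.map_comp, Functor.map_comp, hpb.w])
  rw [Functor.map_comp, Functor.map_comp] at hg
  obtain ⟨i, f, h1, h2, h3⟩ := quot_descend_honest D c hc
    (Red.bc (D.map g) X) (Red.bc (D.map g) R) (Red.bc (D.map g) Y)
    ((Over.pullback (D.map g)).map s) ((Over.pullback (D.map g)).map t)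
    ((Over.pullback (D.map g)).map p) hg
    ((prop_nest (c.π.app i') (D.map g) (c.π.app j) (c.w g) @Flat p).2 hfl)
    ((prop_nest (c.π.app i') (D.map g) (c.π.app j) (c.w g) @Surjective p).2 hsu)
    (isPullback_nest (c.π.app i') (D.map g) (c.π.app j) (c.w g) s t p hpb)
  refine ⟨i, f ≫ g, QuotRep.unnest (D.map f) (D.map g) _ (D.map_comp f g).symm ?_⟩
  haveI : LocallyOfFinitePresentation
      ((Over.pullback (D.map f)).map ((Over.pullback (D.map g)).map p)).left :=
    lfp_left (A := Red.bc (D.map f) (Red.bc (D.map g) X))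
      (B := Red.bc (D.map f) (Red.bc (D.map g) Y)) _
  exact ⟨_, _, h1, h2, inferInstance, h3⟩

end Groth.Agent.Lib.Helper12.H12Quot
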