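import Mathlib
import Groth.Prelude.Def_Red
import Groth.Agent.Lib.Helper12.Quot5

/-!
# Descent of representability of a quotient to a stage
-/

set_option autoImplicit false
universe u
open CategoryTheory CategoryTheory.Limits AlgebraicGeometry

namespace Groth.Agent.Lib.Helper12.H12Quot

open Groth.Agent.Lib.Helper12.H12GrpLim

variable {I : Type u} [SmallCategory I] [IsCofiltered I]
  (D : I ⥤ Scheme.{u}) (c : Limits.Cone D) (hc : Limits.IsLimit c)

/-- two-step comparison isomorphism. -/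
noncomputable def θ₂ {i k j : I} (f : i ⟶ k) (b : k ⟶ j) (A : Over (D.obj j)) :
    Red.bc (c.π.app i) (Red.bc (D.map f) (Red.bc (D.map b) A)) ≅ Red.bc (c.π.app j) A :=
  θ D c f (Red.bc (D.map b) A) ≪≫ θ D c b A

theorem θ₂_naturality {i k j : I} (f : i ⟶ k) (b : k ⟶ j) {A B : Over (D.obj j)} (w : A ⟶ B) :
    (Over.pullback (c.π.app i)).map ((Over.pullback (D.map f)).map ((Over.pullback (D.map b)).map w))
      ≫ (θ₂ D c f b B).hom = (θ₂ D c f b A).hom ≫ (Over.pullback (c.π.app j)).map w := by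
  unfold θ₂
  simp only [Iso.trans_hom, Category.assoc]
  rw [← Category.assoc, ψ_naturality, Category.assoc, ψ_naturality]

theorem prop_conj (P : MorphismProperty Scheme.{u}) [P.RespectsIso] {S : Scheme.{u}}
    {A A' B B' : Over S} (eA : A' ≅ A) (eB : B ≅ B') (w : A ⟶ B) :
    P (eA.hom ≫ w ≫ eB.hom).left ↔ P w.left := by
  simp only [Over.comp_left]
  haveI := isIso_left eA.hom
  haveI := isIso_left eB.hom
  rw [P.cancel_left_of_respectsIso, P.cancel_right_of_respectsIso]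

variable [∀ (i j : I) (f : i ⟶ j), IsAffineHom (D.map f)]
  [∀ i, CompactSpace (D.obj i)] [∀ i, QuasiSeparatedSpace (D.obj i)]

include hc in
theorem quot_descend {j : I} (Xj Rj : Over (D.obj j))
    [LocallyOfFinitePresentation Xj.hom] [QuasiCompact Xj.hom] [QuasiSeparated Xj.hom]
    [LocallyOfFinitePresentation Rj.hom] [QuasiCompact Rj.hom] [QuasiSeparated Rj.hom]
    (sj tj : Rj ⟶ Xj)
    (hq : QuotRep ((Over.pullback (c.π.app j)).map sj) ((Over.pullback (c.π.app j)).map tj)) :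
    ∃ (i : I) (f : i ⟶ j),
      QuotRep ((Over.pullback (D.map f)).map sj) ((Over.pullback (D.map f)).map tj) := by
  obtain ⟨Y, p, hfl, hsu, hlfp, hpb⟩ := hq
  -- `Y` is finitely presented over the limit
  obtain ⟨hY1, hY2, hY3⟩ := fp_of_quotient (X := Red.bc (c.π.app j) Xj)
    (R := Red.bc (c.π.app j) Rj) _ _ p hpb
  obtain ⟨i₁, Z₁, v₁, q₁, hv1, hv2, hv3, hpb₁⟩ := Groth.Agent.S0591.result D c hc Y.left Y.hom
  let B₁ : Over (D.obj i₁) := Over.mk v₁
  haveI : LocallyOfFinitePresentation B₁.hom := hv1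
  haveI : QuasiCompact B₁.hom := hv2
  haveI : QuasiSeparated B₁.hom := hv3
  let e₀ : Y ≅ Red.bc (c.π.app i₁) B₁ := Over.isoMk hpb₁.isoPullback
    (by
      change hpb₁.isoPullback.hom ≫ pullback.snd v₁ (c.π.app i₁) = Y.hom
      exact hpb₁.isoPullback_hom_snd)
  let k := IsCofiltered.min i₁ j
  let a : k ⟶ i₁ := IsCofiltered.minToLeft i₁ j
  let b : k ⟶ j := IsCofiltered.minToRight i₁ j
  let p' : Red.bc (c.π.app k) (Red.bc (D.map b) Xj) ⟶ Red.bc (c.π.app k) (Red.bc (D.map a) B₁) :=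
    (θ D c b Xj).hom ≫ p ≫ e₀.hom ≫ (θ D c a B₁).inv
  obtain ⟨i₂, f₂, p₂, hrel⟩ := full D c hc (Red.bc (D.map b) Xj) (Red.bc (D.map a) B₁) p'
  -- the comparison isomorphisms
  let EY : Y ≅ Red.bc (c.π.app i₂) (Red.bc (D.map f₂) (Red.bc (D.map a) B₁)) :=
    e₀ ≪≫ (θ₂ D c f₂ a B₁).symm
  have hp₂ : (Over.pullback (c.π.app i₂)).map p₂ = (θ₂ D c f₂ b Xj).hom ≫ p ≫ EY.hom := by
    unfold H12GrpLim.Rel at hrel
    rw [hrel]
    simp [p', EY, θ₂]
  obtain ⟨i₃, f₃, hq₃⟩ := quot_descend_stage D c hc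
    (Red.bc (D.map f₂) (Red.bc (D.map b) Xj)) (Red.bc (D.map f₂) (Red.bc (D.map b) Rj))
    (Red.bc (D.map f₂) (Red.bc (D.map a) B₁))
    ((Over.pullback (D.map f₂)).map ((Over.pullback (D.map b)).map sj))
    ((Over.pullback (D.map f₂)).map ((Over.pullback (D.map b)).map tj)) p₂
    (by rw [hp₂]; exact (prop_conj @Flat _ _ p).2 hfl)
    (by rw [hp₂]; exact (prop_conj @Surjective _ _ p).2 hsu)
    (by
      rw [hp₂]
      refine hpb.of_iso (θ₂ D c f₂ b Rj).symm (θ₂ D c f₂ b Xj).symm (θ₂ D c f₂ b Xj).symm EY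
        ?_ ?_ ?_ ?_
      · simp only [Iso.symm_hom]
        rw [Iso.eq_inv_comp, ← Category.assoc, Iso.comp_inv_eq]
        exact (θ₂_naturality D c f₂ b sj).symm
      · simp only [Iso.symm_hom]
        rw [Iso.eq_inv_comp, ← Category.assoc, Iso.comp_inv_eq]
        exact (θ₂_naturality D c f₂ b tj).symm
      · simp only [Iso.symm_hom, Iso.inv_hom_id_assoc]
      · simp only [Iso.symm_hom, Iso.inv_hom_id_assoc])
  refine ⟨i₃, (f₃ ≫ f₂) ≫ b, ?_⟩
  exact QuotRep.unnest (D.map (f₃ ≫ f₂)) (D.map b) _ (D.map_comp _ _).symm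
    (QuotRep.unnest (D.map f₃) (D.map f₂) _ (D.map_comp _ _).symm hq₃)

end Groth.Agent.Lib.Helper12.H12Quot
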