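import Mathlib
import Groth.Prelude.Def_Red
import Groth.Prelude.Def_AlgGrp
import Groth.Agent.Lib.Helper12.Quot6

/-!
# Quotient of a group by a subgroup as a quotient by an equivalence relation
-/

set_option autoImplicit false
universe u v₁ u₁
open CategoryTheory CategoryTheory.Limits AlgebraicGeometry MonoidalCategory
  CartesianMonoidalCategory MonObj GrpObj

namespace Groth.Agent.Lib.Helper12.H12Quot

open Groth.Agent.Lib.Helper12.H12GrpLim

theorem whisker_mul_eq_commL {C : Type u₁} [Category.{v₁} C] [CartesianMonoidalCategory C]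
    {G N : C} [GrpObj G] [GrpObj N] (u : N ⟶ G) : (G ◁ u) ≫ μ[G] = commL u := by
  unfold commL
  rw [Hom.mul_def]
  congr 1
  apply CartesianMonoidalCategory.hom_ext <;> simp

theorem quotRep_grp_iff {S U : Scheme.{u}} (g : U ⟶ S) {G G' : Over S} [GrpObj G] [GrpObj G']
    (u : G' ⟶ G) :
    (∃ (Q : Over U) (p : Red.bc g G ⟶ Q), Flat p.left ∧ Surjective p.left ∧
      LocallyOfFinitePresentation p.left ∧
      IsPullback ((Red.bc g G ◁ (Over.pullback g).map u) ≫ μ[Red.bc g G])
        (fst (Red.bc g G) (Red.bc g G')) p p) ↔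
      QuotRep ((Over.pullback g).map (commL u)) ((Over.pullback g).map (fst G G')) := by
  have e1 : Functor.LaxMonoidal.μ (Over.pullback g) G G' ≫ (Over.pullback g).map (commL u) =
      (Red.bc g G ◁ (Over.pullback g).map u) ≫ μ[Red.bc g G] := by
    rw [whisker_mul_eq_commL]
    exact μ_map_commL u (Over.pullback g)
  have e2 : Functor.LaxMonoidal.μ (Over.pullback g) G G' ≫ (Over.pullback g).map (fst G G') =
      fst (Red.bc g G) (Red.bc g G') := Functor.Monoidal.μ_fst _ _ _
  constructor
  · rintro ⟨Q, p, h1, h2, h3, h4⟩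
    refine ⟨Q, p, h1, h2, h3, ?_⟩
    refine h4.of_iso (Functor.Monoidal.μIso (Over.pullback g) G G') (Iso.refl _) (Iso.refl _)
      (Iso.refl _) ?_ ?_ (by simp) (by simp)
    · rw [Iso.refl_hom, Category.comp_id]; exact e1.symm
    · rw [Iso.refl_hom, Category.comp_id]; exact e2.symm
  · rintro ⟨Q, p, h1, h2, h3, h4⟩
    refine ⟨Q, p, h1, h2, h3, ?_⟩
    refine h4.of_iso (Functor.Monoidal.μIso (Over.pullback g) G G').symm (Iso.refl _) (Iso.refl _)
      (Iso.refl _) ?_ ?_ (by simp) (by simp)
    · rw [Iso.refl_hom, Category.comp_id, Iso.symm_hom, Iso.eq_inv_comp]; exact e1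
    · rw [Iso.refl_hom, Category.comp_id, Iso.symm_hom, Iso.eq_inv_comp]; exact e2

end Groth.Agent.Lib.Helper12.H12Quot
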