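import Mathlib

set_option autoImplicit false
universe u v

namespace Groth.Agent.Lib.Helper12.RInvA

/-- a reduced two-dimensional algebra over a field which is not a field is `k × k`. -/
theorem nonempty_algEquiv_prod_of_not_isField (k : Type u) (A : Type v) [Field k] [CommRing A]
    [Algebra k A] [IsReduced A] (h2 : Module.finrank k A = 2) (hF : ¬ IsField A) :
    Nonempty (A ≃ₐ[k] (k × k)) := by
  haveI : Module.Finite k A := Module.finite_of_finrank_pos (by rw [h2]; norm_num)
  haveI : Nontrivial A := Module.nontrivial_of_finrank_pos (R := k) (by rw [h2]; norm_num)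
  -- a nonzero non-unit
  obtain ⟨x, hx0, hxu⟩ : ∃ x : A, x ≠ 0 ∧ ¬ IsUnit x := by
    by_contra hcon
    push Not at hcon
    apply hF
    refine ⟨exists_pair_ne A, mul_comm, fun {a} ha => ?_⟩
    obtain ⟨b, hb⟩ := (hcon a ha).exists_right_inv
    exact ⟨b, hb⟩
  -- `1, x` is a basis
  have hli : LinearIndependent k ![(1 : A), x] := by
    rw [LinearIndependent.pair_iff]
    intro s t hst
    by_cases ht : t = 0
    · subst ht
      rw [zero_smul, add_zero] at hst
      rcases smul_eq_zero.mp hst with h | h
      · exact ⟨h, rfl⟩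
      · exact absurd h one_ne_zero
    · exfalso
      apply hxu
      have hx : x = algebraMap k A (-(t⁻¹ * s)) := by
        have h1 : t • x = -(s • (1 : A)) := by
          rw [eq_neg_iff_add_eq_zero, add_comm]; exact hst
        have h2 : x = t⁻¹ • (t • x) := by rw [smul_smul, inv_mul_cancel₀ ht, one_smul]
        rw [h2, h1, smul_neg, smul_smul, Algebra.algebraMap_eq_smul_one, neg_smul]
      have hne : -(t⁻¹ * s) ≠ 0 := by
        intro h0
        rw [h0, map_zero] at hx
        exact hx0 hx
      rw [hx]
      exact (isUnit_iff_ne_zero.mpr hne).map (algebraMap k A)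
  have hsp : Submodule.span k (Set.range ![(1 : A), x]) = ⊤ :=
    hli.span_eq_top_of_card_eq_finrank' (by simp [h2])
  -- `x ^ 2 = a + c x`
  have hx2 : x * x ∈ Submodule.span k (Set.range ![(1 : A), x]) := by rw [hsp]; trivial
  rw [Matrix.range_cons, Matrix.range_cons, Matrix.range_empty, Set.union_empty,
    Set.union_comm, Set.singleton_union, Submodule.mem_span_pair] at hx2
  obtain ⟨c, a, hca⟩ := hx2
  -- `a = 0`
  have ha : a = 0 := by
    by_contra ha
    apply hxu
    have h1 : x * (x - c • 1) = a • 1 := by
      rw [mul_sub, ← hca, mul_smul_comm, mul_one]; abel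
    refine IsUnit.of_mul_eq_one (a⁻¹ • (x - c • 1)) ?_
    rw [mul_smul_comm, h1, smul_smul, inv_mul_cancel₀ ha, one_smul]
  rw [ha, zero_smul, add_zero] at hca
  have hc : c ≠ 0 := by
    intro hc
    rw [hc, zero_smul] at hca
    have : IsNilpotent x := ⟨2, by rw [pow_two, ← hca]⟩
    exact hx0 this.eq_zero
  -- the idempotent
  set e : A := c⁻¹ • x with he
  have hee : e * e = e := by
    rw [he, smul_mul_smul_comm, ← hca, smul_smul, mul_assoc, inv_mul_cancel₀ hc, mul_one]
  have he0 : e ≠ 0 := by
    intro h
    rcases smul_eq_zero.mp h with h | h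
    · exact inv_ne_zero hc h
    · exact hx0 h
  have he1 : 1 - e ≠ 0 := by
    intro h
    apply hxu
    have : x = c • 1 := by
      have h1 : e = 1 := (sub_eq_zero.mp h).symm
      rw [← h1, he, smul_smul, mul_inv_cancel₀ hc, one_smul]
    rw [this, ← Algebra.algebraMap_eq_smul_one]
    exact (isUnit_iff_ne_zero.mpr hc).map (algebraMap k A)
  have hee' : (1 - e) * (1 - e) = 1 - e := by
    rw [mul_sub, mul_one, sub_mul, one_mul, hee, sub_self, sub_zero]
  have he0' : e * (1 - e) = 0 := by rw [mul_sub, mul_one, hee, sub_self]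
  -- the map
  let φl : (k × k) →ₗ[k] A :=
    (LinearMap.fst k k k).smulRight (1 - e) + (LinearMap.snd k k k).smulRight e
  have hφl : ∀ p : k × k, φl p = p.1 • (1 - e) + p.2 • e := fun p => rfl
  let φ : (k × k) →ₐ[k] A := AlgHom.ofLinearMap φl
    (by rw [hφl]; simp)
    (by
      intro p q
      rw [hφl, hφl, hφl]
      simp only [Prod.fst_mul, Prod.snd_mul]
      rw [add_mul, mul_add, mul_add, smul_mul_smul_comm, smul_mul_smul_comm, smul_mul_smul_comm,
        smul_mul_smul_comm, hee, hee', he0', mul_comm (1 - e) e, he0', smul_zero, smul_zero,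
        add_zero, zero_add])
  have hinj : Function.Injective φl := by
    rw [injective_iff_map_eq_zero]
    intro p hp
    rw [hφl] at hp
    have h1 : p.2 • e = 0 := by
      have := congrArg (fun y => e * y) hp
      simp only [mul_add, mul_smul_comm, he0', hee, smul_zero, zero_add, mul_zero] at this
      exact this
    have h2 : p.1 • (1 - e) = 0 := by
      have := congrArg (fun y => (1 - e) * y) hp
      simp only [mul_add, mul_smul_comm, hee', mul_comm (1 - e) e, he0', smul_zero, add_zero,
        mul_zero] at this
      exact this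
    apply Prod.ext
    · exact (smul_eq_zero.mp h2).resolve_right he1
    · exact (smul_eq_zero.mp h1).resolve_right he0
  have hsurj : Function.Surjective φl := by
    rw [← LinearMap.injective_iff_surjective_of_finrank_eq_finrank]
    · exact hinj
    · rw [h2]; simp
  exact ⟨(AlgEquiv.ofBijective φ ⟨hinj, hsurj⟩).symm⟩

end Groth.Agent.Lib.Helper12.RInvA
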