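import Mathlib
import Groth.Agent.Lib27.RInvL
import Groth.Agent.S15586

set_option autoImplicit false
universe u v w
open TensorProduct

namespace Groth.Agent.Lib.Helper12.RInvB

open RInv Groth.Agent.Lib27.RInvL

variable {S : Type u} {R : Type v} [CommRing S] [CommRing R] [Algebra S R] (lam : R ≃+* R)
  (hS : IsFixedRing S R lam)

/-- the involution as an `S`-algebra automorphism -/
def lamA : R ≃ₐ[S] R := AlgEquiv.ofRingEquiv (f := lam) (fun s => lam_algebraMap lam hS s)

@[simp] lemma lamA_apply (r : R) : lamA lam hS r = lam r := rfl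

variable (S' : Type w) [CommRing S'] [Algebra S S']

/-- the base-changed involution -/
noncomputable def Λ : S' ⊗[S] R ≃+* S' ⊗[S] R :=
  (Algebra.TensorProduct.congr (AlgEquiv.refl : S' ≃ₐ[S] S') (lamA lam hS)).toRingEquiv

@[simp] lemma Λ_tmul (a : S') (r : R) : Λ lam hS S' (a ⊗ₜ r) = a ⊗ₜ lam r := by
  simp [Λ]

lemma Λ_involutive (hlam : Function.Involutive lam) : Function.Involutive (Λ lam hS S') := by
  intro x
  induction x using TensorProduct.induction_on with
  | zero => simp
  | tmul a r => rw [Λ_tmul, Λ_tmul, hlam r]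
  | add x y hx hy => rw [map_add, map_add, hx, hy]

lemma isFixedRing_Λ (hlam : Function.Involutive lam) [Module.Flat S S'] :
    IsFixedRing S' (S' ⊗[S] R) (Λ lam hS S') :=
  Groth.Agent.S15586.result S R S' (lamA lam hS) hlam hS (Or.inl inferInstance)

lemma Λ_smul (a : S') (x : S' ⊗[S] R) : Λ lam hS S' (a • x) = a • Λ lam hS S' x := by
  induction x using TensorProduct.induction_on with
  | zero => simp
  | tmul b r => rw [TensorProduct.smul_tmul', Λ_tmul, Λ_tmul, TensorProduct.smul_tmul']
  | add x y hx hy => rw [smul_add, map_add, map_add, hx, hy, smul_add]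

end Groth.Agent.Lib.Helper12.RInvB
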