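import Mathlib
import Groth.Agent.Lib.Helper12.RInvB

set_option autoImplicit false
universe u v
open TensorProduct

namespace Groth.Agent.Lib.Helper12.RInvC

open RInv Groth.Agent.Lib27.RInvL Groth.Agent.Lib.Helper12.RInvB

variable {S : Type u} {R : Type v} [CommRing S] [CommRing R] [Algebra S R]
  (p : Ideal S) [p.IsPrime]

/-- the map `R → S_p ⊗ R` -/
noncomputable def f : R →+* Localization.AtPrime p ⊗[S] R :=
  (Algebra.TensorProduct.includeRight : R →ₐ[S] Localization.AtPrime p ⊗[S] R).toRingHom

lemma f_apply (r : R) : f p r = (1 : Localization.AtPrime p) ⊗ₜ[S] r := rfl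

lemma f_comp : (f p).comp (algebraMap S R) =
    (algebraMap (Localization.AtPrime p) (Localization.AtPrime p ⊗[S] R)).comp
      (algebraMap S (Localization.AtPrime p)) := by
  ext s
  simp only [RingHom.comp_apply, f_apply, Algebra.TensorProduct.algebraMap_apply,
    Algebra.algebraMap_self, RingHom.id_apply]
  rw [Algebra.algebraMap_eq_smul_one, Algebra.algebraMap_eq_smul_one, TensorProduct.tmul_smul,
    TensorProduct.smul_tmul']

/-- every element is a fraction -/
lemma exists_rep (x : Localization.AtPrime p ⊗[S] R) :
    ∃ (r : R) (s : p.primeCompl),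
      (algebraMap S (Localization.AtPrime p) s) • x = f p r := by
  obtain ⟨⟨r, s⟩, h⟩ := IsLocalizedModule.surj p.primeCompl
    (TensorProduct.mk S (Localization.AtPrime p) R 1) x
  refine ⟨r, s, ?_⟩
  rw [algebraMap_smul]
  exact h

/-- a prime lying over `p` does not blow up -/
lemma map_ne_top (q : Ideal R) [q.IsPrime] (hq : q.comap (algebraMap S R) = p) :
    q.map (f p) ≠ ⊤ := by
  letI : Algebra R (Localization.AtPrime p ⊗[S] R) := Algebra.TensorProduct.rightAlgebra
  haveI : IsLocalization (Algebra.algebraMapSubmonoid R p.primeCompl)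
      (Localization.AtPrime p ⊗[S] R) := IsLocalization.tensorRight _ _
  have hdisj : Disjoint (Algebra.algebraMapSubmonoid R p.primeCompl : Set R) (q : Set R) := by
    rw [Set.disjoint_left]
    rintro _ ⟨s, hs, rfl⟩ hsq
    apply hs
    rw [← hq]
    exact hsq
  intro htop
  have h1 := IsLocalization.under_map_of_isPrime_disjoint
    (Algebra.algebraMapSubmonoid R p.primeCompl) (Localization.AtPrime p ⊗[S] R)
    (inferInstance : q.IsPrime) hdisj
  have h2 : Ideal.map (algebraMap R (Localization.AtPrime p ⊗[S] R)) q = ⊤ := htop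
  rw [h2] at h1
  exact (inferInstance : q.IsPrime).ne_top (h1 ▸ rfl)

section Inv

variable (lam : R ≃+* R) (hlam : Function.Involutive lam) (hS : IsFixedRing S R lam)

include hlam hS in
/-- maximal ideals of `S_p ⊗ R` contract to primes over `p` -/
lemma comap_comap_eq (N : Ideal (Localization.AtPrime p ⊗[S] R)) [N.IsMaximal] :
    (N.comap (f p)).comap (algebraMap S R) = p := by
  have hfix := isFixedRing_Λ lam hS (Localization.AtPrime p) hlam
  have hinv := Λ_involutive lam hS (Localization.AtPrime p) hlam
  rw [Ideal.comap_comap, f_comp, ← Ideal.comap_comap,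
    comap_eq_maximalIdeal (Λ lam hS (Localization.AtPrime p)) hinv hfix N]
  exact Localization.AtPrime.under_maximalIdeal

end Inv

end Groth.Agent.Lib.Helper12.RInvC
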