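import Mathlib
import Groth.Agent.Lib.Helper12.RInvC

set_option autoImplicit false
universe u v
open TensorProduct

namespace Groth.Agent.Lib.Helper12.RInvD

open RInv Groth.Agent.Lib27.RInvL Groth.Agent.Lib.Helper12.RInvB Groth.Agent.Lib.Helper12.RInvC

variable {S : Type u} {R : Type v} [CommRing S] [CommRing R] [Algebra S R]
  (lam : R ≃+* R) (hlam : Function.Involutive lam) (hS : IsFixedRing S R lam)

/-- the set of "discriminant-like" elements of `S` -/
def Sig : Set S := {s | ∃ r w : R, (r - lam r) * w = algebraMap S R s}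

variable (p : Ideal S) [p.IsPrime]

include hlam hS in
lemma exists_mem_Sig (hp : IsQuadEtale (Localization.AtPrime p) (Localization.AtPrime p ⊗[S] R)) :
    ∃ s ∈ Sig lam (S := S), s ∉ p := by
  classical
  have hfix := isFixedRing_Λ lam hS (Localization.AtPrime p) hlam
  have hinv := Λ_involutive lam hS (Localization.AtPrime p) hlam
  obtain ⟨r', hr'⟩ := exists_isUnit_sub_of_isQuadEtale
    (Λ lam hS (Localization.AtPrime p)) hinv hfix hp
  obtain ⟨r₀, s₀, h0'⟩ := exists_rep p r'
  have hs₀ : IsUnit (algebraMap S (Localization.AtPrime p) s₀) :=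
    IsLocalization.map_units _ s₀
  have hunit : IsUnit (f p (r₀ - lam r₀)) := by
    have : f p (r₀ - lam r₀) =
        (algebraMap S (Localization.AtPrime p) s₀) •
          (r' - Λ lam hS (Localization.AtPrime p) r') := by
      rw [smul_sub, ← Λ_smul, h0']
      simp only [f_apply, Λ_tmul, TensorProduct.tmul_sub]
    rw [this, Algebra.smul_def]
    exact (hs₀.map _).mul hr'
  obtain ⟨w, hw⟩ := hunit.exists_right_inv
  obtain ⟨r₁, s₁, h1⟩ := exists_rep p w
  have h2 : TensorProduct.mk S (Localization.AtPrime p) R 1 ((r₀ - lam r₀) * r₁) =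
      TensorProduct.mk S (Localization.AtPrime p) R 1 ((s₁ : S) • (1 : R)) := by
    change f p ((r₀ - lam r₀) * r₁) = f p ((s₁ : S) • (1 : R))
    have e : (algebraMap S (Localization.AtPrime p) s₁) • (1 : Localization.AtPrime p ⊗[S] R) =
        f p ((s₁ : S) • (1 : R)) := by
      rw [f_apply, Algebra.TensorProduct.one_def, TensorProduct.smul_tmul', smul_eq_mul, mul_one,
        Algebra.algebraMap_eq_smul_one, TensorProduct.smul_tmul]
    rw [map_mul, ← h1, mul_smul_comm, hw, e]
  obtain ⟨c, hc⟩ := (IsLocalizedModule.eq_iff_exists p.primeCompl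
    (TensorProduct.mk S (Localization.AtPrime p) R 1)).mp h2
  refine ⟨(c : S) * (s₁ : S), ⟨r₀, (c : S) • r₁, ?_⟩, (c * s₁).2⟩
  rw [mul_smul_comm, Algebra.algebraMap_eq_smul_one, mul_smul]
  exact hc

include hlam hS in
lemma isQuadEtale_of_mem_Sig {s : S} (hs : s ∈ Sig lam (S := S)) (hsp : s ∉ p) :
    IsQuadEtale (Localization.AtPrime p) (Localization.AtPrime p ⊗[S] R) := by
  obtain ⟨r, w, hrw⟩ := hs
  have hfix := isFixedRing_Λ lam hS (Localization.AtPrime p) hlam
  have hinv := Λ_involutive lam hS (Localization.AtPrime p) hlam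
  have hu : IsUnit (f p r - Λ lam hS (Localization.AtPrime p) (f p r)) := by
    rw [f_apply, Λ_tmul, ← TensorProduct.tmul_sub]
    have h1 : ((1 : Localization.AtPrime p) ⊗ₜ[S] (r - lam r)) * f p w =
        algebraMap (Localization.AtPrime p) (Localization.AtPrime p ⊗[S] R)
          (algebraMap S (Localization.AtPrime p) s) := by
      rw [← f_apply, ← map_mul, hrw]
      exact RingHom.congr_fun (f_comp p) s
    have h2 : IsUnit (algebraMap (Localization.AtPrime p) (Localization.AtPrime p ⊗[S] R)
          (algebraMap S (Localization.AtPrime p) s)) :=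
      (IsLocalization.map_units (Localization.AtPrime p) (⟨s, hsp⟩ : p.primeCompl)).map _
    rw [← h1] at h2
    exact isUnit_of_mul_isUnit_left h2
  exact isQuadEtale_of_isUnit (Λ lam hS (Localization.AtPrime p)) hinv hfix hu

include hlam hS in
/-- the branch locus is the zero locus of `Sig` -/
lemma branch_eq_zeroLocus :
    {p : PrimeSpectrum S | ¬ IsQuadEtale (Localization.AtPrime p.asIdeal)
      (Localization.AtPrime p.asIdeal ⊗[S] R)} = PrimeSpectrum.zeroLocus (Sig lam (S := S)) := by
  ext p
  haveI := p.isPrime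
  rw [Set.mem_ofPred_eq, PrimeSpectrum.mem_zeroLocus]
  constructor
  · intro h s hs
    by_contra hsp
    exact h (isQuadEtale_of_mem_Sig lam hlam hS p.asIdeal hs hsp)
  · intro h hq
    obtain ⟨s, hs, hsp⟩ := exists_mem_Sig lam hlam hS p.asIdeal hq
    exact hsp (h hs)

end Groth.Agent.Lib.Helper12.RInvD
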