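import Mathlib

set_option autoImplicit false
universe u v

open IsLocalRing

namespace H12RegColim

section crit

variable {B : Type*} [CommRing B] [IsLocalRing B] {σ : Type*} [Fintype σ] (x : σ → maximalIdeal B)

theorem sum_smul_toCotangent (c : σ → B) :
    ∑ i, residue B (c i) • (maximalIdeal B).toCotangent (x i) =
      (maximalIdeal B).toCotangent (∑ i, c i • x i) := by
  rw [map_sum]
  refine Finset.sum_congr rfl fun i _ => ?_
  rw [map_smul]
  exact IsScalarTower.algebraMap_smul (ResidueField B) (c i) _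

theorem linInd_iff : LinearIndependent (ResidueField B) (⇑(maximalIdeal B).toCotangent ∘ x) ↔
    ∀ c : σ → B, (∑ i, c i * (x i : B)) ∈ (maximalIdeal B) ^ 2 → ∀ i, c i ∈ maximalIdeal B := by
  rw [Fintype.linearIndependent_iff]
  have hcoe : ∀ c : σ → B, ((∑ i, c i • x i : maximalIdeal B) : B) = ∑ i, c i * (x i : B) := by
    intro c
    simp
  constructor
  · intro h c hc i
    have h1 := h (fun i => residue B (c i)) (by
      simp only [Function.comp_apply]
      rw [sum_smul_toCotangent, Ideal.toCotangent_eq_zero, hcoe]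
      exact hc)
    exact (residue_eq_zero_iff _).1 (h1 i)
  · intro h a ha i
    choose c hc using fun i => residue_surjective (a i)
    have h1 : ∑ i, residue B (c i) • (maximalIdeal B).toCotangent (x i) = 0 := by
      simp only [hc]
      exact ha
    rw [sum_smul_toCotangent, Ideal.toCotangent_eq_zero, hcoe] at h1
    rw [← hc i]
    exact (residue_eq_zero_iff _).2 (h c h1 i)

end crit

section transfer

variable {B A : Type*} [CommRing B] [IsLocalRing B] [CommRing A] [IsLocalRing A]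
  (ψ : B →+* A) [IsLocalHom ψ] {σ : Type*} [Fintype σ]

theorem linInd_of_map (x : σ → maximalIdeal B) (y : σ → maximalIdeal A)
    (hxy : ∀ i, ψ (x i : B) = (y i : A))
    (hy : LinearIndependent (ResidueField A) (⇑(maximalIdeal A).toCotangent ∘ y)) :
    LinearIndependent (ResidueField B) (⇑(maximalIdeal B).toCotangent ∘ x) := by
  rw [linInd_iff] at hy ⊢
  intro c hc i
  have hmap : (maximalIdeal B).map ψ ≤ maximalIdeal A := by
    rw [Ideal.map_le_iff_le_comap]
    intro b hb
    exact (mem_maximalIdeal _).2 (fun hu => (mem_maximalIdeal _).1 hb (isUnit_of_map_unit ψ b hu))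
  have h1 : ψ (∑ i, c i * (x i : B)) ∈ (maximalIdeal A) ^ 2 := by
    have : ψ (∑ i, c i * (x i : B)) ∈ ((maximalIdeal B) ^ 2).map ψ := Ideal.mem_map_of_mem _ hc
    rw [Ideal.map_pow] at this
    exact Ideal.pow_right_mono hmap 2 this
  rw [map_sum] at h1
  simp only [map_mul, hxy] at h1
  have h2 := hy (fun i => ψ (c i)) h1 i
  by_contra hci
  have hu : IsUnit (c i) := by
    by_contra hnu
    exact hci ((mem_maximalIdeal _).2 hnu)
  exact (mem_maximalIdeal _).1 h2 (hu.map ψ)

end transfer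

end H12RegColim

namespace H12RegColim

theorem main
    {A : Type u} [CommRing A] [IsLocalRing A]
    {ι : Type v} [Preorder ι] [Nonempty ι] [IsDirected ι (· ≤ ·)]
    (B : ι → Type u) [∀ j, CommRing (B j)] [∀ j, IsLocalRing (B j)]
    (φ : ∀ i j, i ≤ j → (B i →+* B j)) (hφloc : ∀ i j (h : i ≤ j), IsLocalHom (φ i j h))
    (hφ : ∀ i j l (hij : i ≤ j) (hjl : j ≤ l), (φ j l hjl).comp (φ i j hij) = φ i l (hij.trans hjl))
    (ψ : ∀ j, B j →+* A) (hψ : ∀ i j (h : i ≤ j), (ψ j).comp (φ i j h) = ψ i)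
    (hsurj : ∀ a : A, ∃ j, ∃ x : B j, ψ j x = a)
    (hker : ∀ j (x : B j), ψ j x = 0 → ∃ l, ∃ h : j ≤ l, φ j l h x = 0)
    (c d : ℕ) (f : Fin c → maximalIdeal A) (g : Fin d → maximalIdeal A)
    (hind : LinearIndependent (ResidueField A) (⇑(maximalIdeal A).toCotangent ∘ Sum.elim f g)) :
    ∃ j₀ : ι, ∃ (P : ∀ j, j₀ ≤ j → Ideal (B j)) (Q : ∀ j, j₀ ≤ j → Ideal (B j)),
      (∀ j (hj : j₀ ≤ j), ∃ (F : Fin c → maximalIdeal (B j)) (E : Fin d → maximalIdeal (B j)),
        LinearIndependent (ResidueField (B j)) (⇑(maximalIdeal (B j)).toCotangent ∘ Sum.elim F E) ∧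
        P j hj = Ideal.span (Set.range (fun s => (F s : B j))) ∧
        Q j hj = P j hj ⊔ Ideal.span (Set.range (fun t => (E t : B j)))) ∧
      (∀ i j (hi : j₀ ≤ i) (hij : i ≤ j),
        (P i hi).map (φ i j hij) = P j (le_trans hi hij) ∧ (Q i hi).map (φ i j hij) = Q j (le_trans hi hij)) ∧
      (∀ j (hj : j₀ ≤ j),
        (P j hj).map (ψ j) = Ideal.span (Set.range (fun s => (f s : A))) ∧
        (Q j hj).map (ψ j) = Ideal.span (Set.range (fun s => (f s : A))) ⊔ Ideal.span (Set.range (fun t => (g t : A)))) := by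
  classical
  -- ψ_j is local
  have hψloc : ∀ j, IsLocalHom (ψ j) := by
    intro j
    refine ⟨fun x hx => ?_⟩
    obtain ⟨y, hy⟩ := hx.exists_right_inv
    obtain ⟨l, y', hy'⟩ := hsurj y
    obtain ⟨m, hjm, hlm⟩ := exists_ge_ge j l
    have h0 : ψ m (φ j m hjm x * φ l m hlm y' - 1) = 0 := by
      rw [map_sub, map_mul, map_one]
      have e1 : ψ m (φ j m hjm x) = ψ j x := RingHom.congr_fun (hψ j m hjm) x
      have e2 : ψ m (φ l m hlm y') = ψ l y' := RingHom.congr_fun (hψ l m hlm) y'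
      rw [e1, e2, hy', hy, sub_self]
    obtain ⟨n, hmn, hn⟩ := hker m _ h0
    rw [map_sub, map_mul, map_one, sub_eq_zero] at hn
    have e3 : φ m n hmn (φ j m hjm x) = φ j n (hjm.trans hmn) x := RingHom.congr_fun (hφ j m n hjm hmn) x
    rw [e3] at hn
    have hu : IsUnit (φ j n (hjm.trans hmn) x) := IsUnit.of_mul_eq_one _ hn
    haveI := hφloc j n (hjm.trans hmn)
    exact isUnit_of_map_unit (φ j n (hjm.trans hmn)) x hu
  -- lifts
  let z : Fin c ⊕ Fin d → maximalIdeal A := Sum.elim f g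
  have hlift : ∀ s, ∃ j, ∃ x : B j, ψ j x = (z s : A) := fun s => hsurj _
  choose js xs hxs using hlift
  obtain ⟨j₀, hj₀⟩ := Finite.exists_le js
  let X : Fin c ⊕ Fin d → B j₀ := fun s => φ (js s) j₀ (hj₀ s) (xs s)
  have hX : ∀ s, ψ j₀ (X s) = (z s : A) := by
    intro s
    have e1 : ψ j₀ (φ (js s) j₀ (hj₀ s) (xs s)) = ψ (js s) (xs s) :=
      RingHom.congr_fun (hψ (js s) j₀ (hj₀ s)) (xs s)
    rw [← hxs s, ← e1]
  -- the lifted families at stage j
  let Y : ∀ j, j₀ ≤ j → Fin c ⊕ Fin d → B j := fun j hj s => φ j₀ j hj (X s)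
  have hY : ∀ j (hj : j₀ ≤ j) s, ψ j (Y j hj s) = (z s : A) := by
    intro j hj s
    have e1 : ψ j (φ j₀ j hj (X s)) = ψ j₀ (X s) := RingHom.congr_fun (hψ j₀ j hj) (X s)
    rw [← hX s, ← e1]
  have hYmem : ∀ j (hj : j₀ ≤ j) s, Y j hj s ∈ maximalIdeal (B j) := by
    intro j hj s
    rw [mem_maximalIdeal]
    intro hu
    have h1 : IsUnit (ψ j (Y j hj s)) := hu.map (ψ j)
    rw [hY] at h1
    exact (mem_maximalIdeal _).1 (z s).2 h1
  have hYtrans : ∀ i j (hi : j₀ ≤ i) (hij : i ≤ j) s, φ i j hij (Y i hi s) = Y j (hi.trans hij) s := by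
    intro i j hi hij s
    exact RingHom.congr_fun (hφ j₀ i j hi hij) (X s)
  refine ⟨j₀, fun j hj => Ideal.span (Set.range (fun s : Fin c => Y j hj (Sum.inl s))),
    fun j hj => Ideal.span (Set.range (fun s : Fin c => Y j hj (Sum.inl s))) ⊔
      Ideal.span (Set.range (fun t : Fin d => Y j hj (Sum.inr t))), ?_, ?_, ?_⟩
  · intro j hj
    refine ⟨fun s => ⟨Y j hj (Sum.inl s), hYmem j hj _⟩, fun t => ⟨Y j hj (Sum.inr t), hYmem j hj _⟩,
      ?_, rfl, rfl⟩
    haveI := hψloc j
    refine linInd_of_map (ψ j) _ z ?_ hind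
    rintro (s | t)
    · exact hY j hj (Sum.inl s)
    · exact hY j hj (Sum.inr t)
  · intro i j hi hij
    have e1 : (Ideal.span (Set.range (fun s : Fin c => Y i hi (Sum.inl s)))).map (φ i j hij) =
        Ideal.span (Set.range (fun s : Fin c => Y j (hi.trans hij) (Sum.inl s))) := by
      rw [Ideal.map_span, ← Set.range_comp]
      congr 2
      funext s
      exact hYtrans i j hi hij _
    have e2 : (Ideal.span (Set.range (fun t : Fin d => Y i hi (Sum.inr t)))).map (φ i j hij) =
        Ideal.span (Set.range (fun t : Fin d => Y j (hi.trans hij) (Sum.inr t))) := by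
      rw [Ideal.map_span, ← Set.range_comp]
      congr 2
      funext s
      exact hYtrans i j hi hij _
    refine ⟨e1, ?_⟩
    rw [Ideal.map_sup, e1, e2]
  · intro j hj
    have e1 : (Ideal.span (Set.range (fun s : Fin c => Y j hj (Sum.inl s)))).map (ψ j) =
        Ideal.span (Set.range (fun s => (f s : A))) := by
      rw [Ideal.map_span, ← Set.range_comp]
      congr 2
      funext s
      exact hY j hj (Sum.inl s)
    have e2 : (Ideal.span (Set.range (fun t : Fin d => Y j hj (Sum.inr t)))).map (ψ j) =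
        Ideal.span (Set.range (fun t => (g t : A))) := by
      rw [Ideal.map_span, ← Set.range_comp]
      congr 2
      funext s
      exact hY j hj (Sum.inr s)
    refine ⟨e1, ?_⟩
    rw [Ideal.map_sup, e1, e2]

end H12RegColim
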