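import Mathlib
import Groth.Agent.Lib.Helper12.Poinc3
import Groth.Agent.Lib.Helper12.DRGlob

namespace Groth.Agent.Lib.Helper12.Poinc

open ExteriorAlgebra CliffordAlgebra Module Polynomial
open Groth.Agent.Lib.Helper12.DeRham (ι_mul_eq involute_of_mem mul_mem_exteriorPower ι_mem algebraMap_mem)

universe u

section indep
variable {V : Type*} [AddCommGroup V]

/-- eigenvectors of an additive endomorphism for distinct natural eigenvalues are independent,
in a torsion-free group -/
theorem eigen_indep (L : V → V) (hLadd : ∀ x y, L (x + y) = L x + L y)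
    (htf : ∀ (n : ℤ) (z : V), n ≠ 0 → n • z = 0 → z = 0)
    (S : Finset ℕ) (z : ℕ → V) (hz : ∀ N ∈ S, L (z N) = N • z N)
    (hsum : ∑ N ∈ S, z N = 0) : ∀ N ∈ S, z N = 0 := by
  classical
  have hL0 : L 0 = 0 := by
    have := hLadd 0 0
    rw [add_zero] at this
    exact left_eq_add.mp this
  have hLsum : ∀ (T : Finset ℕ) (w : ℕ → V), L (∑ N ∈ T, w N) = ∑ N ∈ T, L (w N) := by
    intro T w
    induction T using Finset.induction_on with
    | empty => simpa using hL0
    | insert a T ha ih => rw [Finset.sum_insert ha, Finset.sum_insert ha, hLadd, ih]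
  have hLneg : ∀ x, L (-x) = -L x := by
    intro x
    have := hLadd x (-x)
    rw [add_neg_cancel, hL0] at this
    exact (neg_eq_of_add_eq_zero_right this.symm).symm
  have hLzsmul : ∀ (n : ℤ) x, L (n • x) = n • L x := by
    intro n x
    induction n using Int.induction_on with
    | zero => simpa using hL0
    | succ i ih => rw [add_smul, one_smul, hLadd, ih, add_smul, one_smul]
    | pred i ih => rw [sub_smul, one_smul, sub_eq_add_neg, hLadd, ih, hLneg, sub_smul, one_smul,
        sub_eq_add_neg]
  induction S using Finset.induction_on generalizing z with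
  | empty => intro N hN; simp at hN
  | insert K S hK ih =>
    rw [Finset.sum_insert hK] at hsum
    have h1 : ∑ N ∈ S, (((N : ℤ) - K) • z N) = 0 := by
      have e1 := congrArg L hsum
      rw [hLadd, hL0, hLsum, hz K (Finset.mem_insert_self ..)] at e1
      have e2 : ∑ N ∈ S, L (z N) = ∑ N ∈ S, (N : ℤ) • z N := by
        refine Finset.sum_congr rfl fun N hN => ?_
        rw [hz N (Finset.mem_insert_of_mem hN), natCast_zsmul]
      rw [e2] at e1
      have e3 : (K : ℤ) • (z K + ∑ N ∈ S, z N) = 0 := by rw [hsum, smul_zero]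
      rw [smul_add, Finset.smul_sum, natCast_zsmul] at e3
      have : ∑ N ∈ S, (((N : ℤ) - K) • z N) = ∑ N ∈ S, (N : ℤ) • z N - ∑ N ∈ S, (K : ℤ) • z N := by
        rw [← Finset.sum_sub_distrib]
        refine Finset.sum_congr rfl fun N _ => ?_
        rw [sub_smul]
      rw [this]
      have e4 : K • z K + ∑ N ∈ S, (N : ℤ) • z N = K • z K + ∑ N ∈ S, (K : ℤ) • z N := by
        rw [e1, e3]
      exact sub_eq_zero.2 (add_left_cancel e4)
    have h2 : ∀ N ∈ S, ((N : ℤ) - K) • z N = 0 := by
      apply ih (fun N => ((N : ℤ) - K) • z N)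
      · intro N hN
        rw [hLzsmul, hz N (Finset.mem_insert_of_mem hN), smul_comm]
      · exact h1
    have h3 : ∀ N ∈ S, z N = 0 := by
      intro N hN
      apply htf ((N : ℤ) - K) _ ?_ (h2 N hN)
      intro h
      have : N = K := by omega
      exact hK (this ▸ hN)
    intro N hN
    rcases Finset.mem_insert.1 hN with rfl | hN
    · rw [Finset.sum_eq_zero h3, add_zero] at hsum
      exact hsum
    · exact h3 N hN

end indep

end Groth.Agent.Lib.Helper12.Poinc
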