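import Mathlib
import Groth.Agent.Lib.Helper12.RelP1

namespace Groth.Agent.Lib.Helper12.Poinc

open ExteriorAlgebra CliffordAlgebra Module Polynomial
open Groth.Agent.Lib.Helper12.DeRham (ι_mul_eq involute_of_mem mul_mem_exteriorPower ι_mem algebraMap_mem)

universe u

section rel
variable (R : Type u) {A : Type u} [CommRing R] [CommRing A] [Algebra R A]

/-- the derivation `t d/dt` of `A[t]` -/
noncomputable def tdt : Derivation R A[X] A[X] :=
  (X : A[X]) • (Polynomial.derivative' (R := A)).restrictScalars R

theorem tdt_apply (f : A[X]) : tdt R f = X * derivative f := rfl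

theorem tdt_monomial (n : ℕ) (a : A) : tdt R (monomial n a) = n • monomial n a := by
  rw [tdt_apply, derivative_monomial]
  rcases Nat.eq_zero_or_pos n with rfl | hn
  · simp
  · rw [X_mul_monomial, Nat.sub_add_cancel hn, nsmul_eq_mul, ← C_eq_natCast, C_mul_monomial,
      mul_comm]

/-- the linear form on differentials of `A[t]` given by `t d/dt` -/
noncomputable def epsT : Module.Dual A[X] (Ω[A[X]⁄R]) := (tdt R (A := A)).liftKaehlerDifferential

theorem epsT_D (f : A[X]) : epsT R (KaehlerDifferential.D R A[X] f) = X * derivative f :=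
  Derivation.liftKaehlerDifferential_comp_D _ f

theorem epsT_D_monomial (n : ℕ) (a : A) :
    epsT R (KaehlerDifferential.D R A[X] (monomial n a)) = n • monomial n a := by
  rw [epsT_D, ← tdt_apply R, tdt_monomial]

end rel

end Groth.Agent.Lib.Helper12.Poinc
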