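import Mathlib
import Groth.Agent.Lib.Helper12.RelP2

namespace Groth.Agent.Lib.Helper12.Poinc

open ExteriorAlgebra CliffordAlgebra Module Polynomial
open Groth.Agent.Lib.Helper12.DeRham (ι_mul_eq involute_of_mem mul_mem_exteriorPower ι_mem algebraMap_mem)
open exteriorPower

universe u

section rel
variable {R A : Type u} [CommRing R] [CommRing A] [Algebra R A]

/-- notation: the exterior algebra of the differentials of `A[t]` -/
abbrev EB (R A : Type u) [CommRing R] [CommRing A] [Algebra R A] :=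
  ExteriorAlgebra A[X] (Ω[A[X]⁄R])

variable (d' : ∀ p : ℕ, ↥(⋀[A[X]]^p (Ω[A[X]⁄R])) →ₗ[R] ↥(⋀[A[X]]^(p + 1) (Ω[A[X]⁄R])))
  (ψ : ∀ p : ℕ, ↥(⋀[A]^p (Ω[A⁄R])) →+ ↥(⋀[A[X]]^p (Ω[A[X]⁄R])))

/-- the Lie derivative along `t d/dt` -/
noncomputable def LB (x : EB R A) : EB R A := Lop (glob d') (epsT R) x

/-- `w` has weight `n` as a left multiplier -/
def IsWtMul (w : EB R A) (n : ℕ) : Prop :=
  ∀ x : EB R A, LB d' (w * x) = n • (w * x) + w * LB d' x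

/-- weight decomposition predicate -/
def InV (i : ℕ) (y : EB R A) : Prop :=
  ∃ z : Polynomial (EB R A),
    (∀ N, z.coeff N ∈ ⋀[A[X]]^i (Ω[A[X]⁄R]) ∧ LB d' (z.coeff N) = N • z.coeff N) ∧
    z.eval 1 = y ∧
    ∃ x' : ↥(⋀[A]^i (Ω[A⁄R])), z.coeff 0 = ((ψ i x' : ↥(⋀[A[X]]^i (Ω[A[X]⁄R]))) : EB R A)

theorem LB_zero : LB d' (0 : EB R A) = 0 := Lop_zero _

theorem LB_add (x y : EB R A) : LB d' (x + y) = LB d' x + LB d' y := Lop_add _ x y

theorem InV_zero (i : ℕ) : InV d' ψ i 0 := by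
  refine ⟨0, fun N => ⟨by simp, by simp [LB_zero]⟩, by simp, 0, by simp⟩

theorem InV_add {i : ℕ} {y y' : EB R A} (h : InV d' ψ i y) (h' : InV d' ψ i y') :
    InV d' ψ i (y + y') := by
  obtain ⟨z, hz, hy, x, hx⟩ := h
  obtain ⟨z', hz', hy', x', hx'⟩ := h'
  refine ⟨z + z', fun N => ⟨?_, ?_⟩, ?_, x + x', ?_⟩
  · rw [coeff_add]; exact Submodule.add_mem _ (hz N).1 (hz' N).1
  · rw [coeff_add, LB_add, (hz N).2, (hz' N).2, smul_add]
  · rw [eval_add, hy, hy']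
  · rw [coeff_add, hx, hx', map_add, Submodule.coe_add]

theorem InV_shift {i j k n : ℕ} (hk : j + i = k) {w : EB R A} (hw : IsWtMul d' w n)
    (hwj : w ∈ ⋀[A[X]]^j (Ω[A[X]⁄R]))
    (h0 : n = 0 → ∀ x' : ↥(⋀[A]^i (Ω[A⁄R])), ∃ x'' : ↥(⋀[A]^k (Ω[A⁄R])),
      w * ((ψ i x' : ↥(⋀[A[X]]^i (Ω[A[X]⁄R]))) : EB R A) =
        ((ψ k x'' : ↥(⋀[A[X]]^k (Ω[A[X]⁄R]))) : EB R A))
    {y : EB R A} (h : InV d' ψ i y) : InV d' ψ k (w * y) := by
  subst hk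
  obtain ⟨z, hz, hy, x, hx⟩ := h
  refine ⟨C w * (z * X ^ n), fun N => ?_, ?_, ?_⟩
  · rw [coeff_C_mul, coeff_mul_X_pow']
    split_ifs with hN
    · refine ⟨mul_mem_exteriorPower hwj (hz _).1, ?_⟩
      rw [hw, (hz _).2, mul_smul_comm, ← add_smul, Nat.add_sub_cancel' hN]
    · rw [mul_zero]
      exact ⟨Submodule.zero_mem _, by rw [LB_zero, smul_zero]⟩
  · rw [eval_C_mul, eval_mul_X_pow, one_pow, mul_one, hy]
  · rw [coeff_C_mul, coeff_mul_X_pow']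
    split_ifs with hN
    · have hn : n = 0 := by omega
      subst hn
      obtain ⟨x'', hx''⟩ := h0 rfl x
      exact ⟨x'', by rw [Nat.sub_zero, hx, hx'']⟩
    · exact ⟨0, by simp⟩

end rel

end Groth.Agent.Lib.Helper12.Poinc
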