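import Mathlib
import Groth.Agent.Lib.Helper12.RelP3

namespace Groth.Agent.Lib.Helper12.Poinc

open ExteriorAlgebra CliffordAlgebra Module Polynomial
open Groth.Agent.Lib.Helper12.DeRham (ι_mul_eq involute_of_mem mul_mem_exteriorPower ι_mem algebraMap_mem)
open exteriorPower

universe u w

section gens
variable {k : Type w} {A M : Type u} [CommRing k] [CommRing A] [Algebra k A]
  [AddCommGroup M] [Module A M] [Module k M] [IsScalarTower k A M]

theorem ι_mul_coe_gen (δ : Derivation k A M) (p : ℕ) (a b₀ : A) (b : Fin p → A) :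
    ι A (δ a) * ((DeRham.gen δ p b₀ b : ↥(⋀[A]^p M)) : ExteriorAlgebra A M) =
      ((DeRham.gen δ (p + 1) b₀ (Fin.cons a b) : ↥(⋀[A]^(p + 1) M)) : ExteriorAlgebra A M) := by
  rw [coe_gen, coe_gen]
  have e3 : ExteriorAlgebra.ιMulti A (p + 1)
        (fun i => δ ((Fin.cons a b : Fin (p + 1) → A) i)) =
      ι A (δ a) * ExteriorAlgebra.ιMulti A p (fun i => δ (b i)) := by
    rw [ExteriorAlgebra.ιMulti_succ_apply]
    rfl
  rw [e3, ← mul_assoc, ← Algebra.commutes b₀, mul_assoc]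

theorem algebraMap_mul_coe_gen (δ : Derivation k A M) (p : ℕ) (a b₀ : A) (b : Fin p → A) :
    algebraMap A _ a * ((DeRham.gen δ p b₀ b : ↥(⋀[A]^p M)) : ExteriorAlgebra A M) =
      ((DeRham.gen δ p (a * b₀) b : ↥(⋀[A]^p M)) : ExteriorAlgebra A M) := by
  rw [coe_gen, coe_gen, map_mul, mul_assoc]

end gens

section rel
variable {R A : Type u} [CommRing R] [CommRing A] [Algebra R A]

variable (d' : ∀ p : ℕ, ↥(⋀[A[X]]^p (Ω[A[X]⁄R])) →ₗ[R] ↥(⋀[A[X]]^(p + 1) (Ω[A[X]⁄R])))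
  (ψ : ∀ p : ℕ, ↥(⋀[A]^p (Ω[A⁄R])) →+ ↥(⋀[A[X]]^p (Ω[A[X]⁄R])))

/-- left multiplication by `ι (D a)` on homogeneous elements, as an additive map -/
noncomputable def mulι (a : A) (i : ℕ) : ↥(⋀[A]^i (Ω[A⁄R])) →+ ↥(⋀[A]^(i + 1) (Ω[A⁄R])) where
  toFun x := ⟨ι A (KaehlerDifferential.D R A a) * (x : ExteriorAlgebra A (Ω[A⁄R])), by
    have := mul_mem_exteriorPower (ι_mem (A := A) (KaehlerDifferential.D R A a)) x.2
    rwa [Nat.add_comm 1 i] at this⟩
  map_zero' := by apply Subtype.ext; simp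
  map_add' x y := by apply Subtype.ext; simp [mul_add]

theorem mulι_coe (a : A) (i : ℕ) (x : ↥(⋀[A]^i (Ω[A⁄R]))) :
    ((mulι (R := R) a i x : ↥(⋀[A]^(i + 1) (Ω[A⁄R]))) : ExteriorAlgebra A (Ω[A⁄R])) =
      ι A (KaehlerDifferential.D R A a) * (x : ExteriorAlgebra A (Ω[A⁄R])) := rfl

variable {ψ}

theorem psi_smul (hψ : DeRham.IsCxMap (KaehlerDifferential.D R A) (KaehlerDifferential.D R A[X])
      (algebraMap A A[X]) ψ) (i : ℕ) (a : A) (x : ↥(⋀[A]^i (Ω[A⁄R]))) :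
    ((ψ i (a • x) : ↥(⋀[A[X]]^i (Ω[A[X]⁄R]))) : EB R A) =
      algebraMap A[X] (EB R A) (C a) * ((ψ i x : ↥(⋀[A[X]]^i (Ω[A[X]⁄R]))) : EB R A) := by
  induction x using Groth.Agent.Lib.Helper5.DeRhamGen.gen_induction (KaehlerDifferential.D R A)
    (KaehlerDifferential.span_range_derivation R A) i with
  | h0 => simp
  | hadd x y hx hy => rw [smul_add, map_add, map_add, Submodule.coe_add, Submodule.coe_add, hx, hy,
      mul_add]
  | hgen b₀ b =>
    rw [Groth.Agent.Lib.Helper5.DeRhamGen.smul_gen, hψ, hψ, algebraMap_mul_coe_gen, map_mul]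
    rfl

theorem psi_mulι (hψ : DeRham.IsCxMap (KaehlerDifferential.D R A) (KaehlerDifferential.D R A[X])
      (algebraMap A A[X]) ψ) (i : ℕ) (a : A) (x : ↥(⋀[A]^i (Ω[A⁄R]))) :
    ((ψ (i + 1) (mulι a i x) : ↥(⋀[A[X]]^(i + 1) (Ω[A[X]⁄R]))) : EB R A) =
      ι A[X] (KaehlerDifferential.D R A[X] (C a)) *
        ((ψ i x : ↥(⋀[A[X]]^i (Ω[A[X]⁄R]))) : EB R A) := by
  induction x using Groth.Agent.Lib.Helper5.DeRhamGen.gen_induction (KaehlerDifferential.D R A)
    (KaehlerDifferential.span_range_derivation R A) i with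
  | h0 => simp
  | hadd x y hx hy => rw [map_add, map_add, map_add, Submodule.coe_add, Submodule.coe_add, hx, hy,
      mul_add]
  | hgen b₀ b =>
    have e : mulι (R := R) a i (DeRham.gen (KaehlerDifferential.D R A) i b₀ b) =
        DeRham.gen (KaehlerDifferential.D R A) (i + 1) b₀ (Fin.cons a b) := by
      apply Subtype.ext
      rw [mulι_coe, ι_mul_coe_gen]
    rw [e, hψ, hψ, ι_mul_coe_gen]
    congr 3
    funext j
    refine Fin.cases ?_ (fun l => ?_) j <;> simp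

end rel

end Groth.Agent.Lib.Helper12.Poinc
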