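import Mathlib
import Groth.Agent.Lib.Helper12.RelP4

namespace Groth.Agent.Lib.Helper12.Poinc

open ExteriorAlgebra CliffordAlgebra Module Polynomial
open Groth.Agent.Lib.Helper12.DeRham (ι_mul_eq involute_of_mem mul_mem_exteriorPower ι_mem algebraMap_mem)
open exteriorPower

universe u

section rel
variable {R A : Type u} [CommRing R] [CommRing A] [Algebra R A]

variable {d' : ∀ p : ℕ, ↥(⋀[A[X]]^p (Ω[A[X]⁄R])) →ₗ[R] ↥(⋀[A[X]]^(p + 1) (Ω[A[X]⁄R]))}
  {ψ : ∀ p : ℕ, ↥(⋀[A]^p (Ω[A⁄R])) →+ ↥(⋀[A[X]]^p (Ω[A[X]⁄R]))}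

theorem isDR_B (hd' : DeRham.IsDiff (KaehlerDifferential.D R A[X]) d') :
    IsDR (KaehlerDifferential.D R A[X]) (glob d') :=
  isDR_glob hd' (KaehlerDifferential.span_range_derivation R A[X])

theorem wt_algebraMap (hd' : DeRham.IsDiff (KaehlerDifferential.D R A[X]) d') (n : ℕ) (a : A) :
    IsWtMul d' (algebraMap A[X] (EB R A) (monomial n a)) n := by
  intro x
  rw [LB, Lop_algebraMap_mul (isDR_B hd'), epsT_D_monomial, map_nsmul, smul_mul_assoc]
  rfl

theorem wt_ι (hd' : DeRham.IsDiff (KaehlerDifferential.D R A[X]) d') (n : ℕ) (a : A) :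
    IsWtMul d' (ι A[X] (KaehlerDifferential.D R A[X] (monomial n a))) n := by
  intro x
  rw [LB, Lop_ι_mul (isDR_B hd') (KaehlerDifferential.span_range_derivation R A[X]),
    Lop_ι_δ (isDR_B hd'), epsT_D_monomial, map_nsmul, map_nsmul, smul_mul_assoc]
  rfl

variable (hd' : DeRham.IsDiff (KaehlerDifferential.D R A[X]) d')
  (hψ : DeRham.IsCxMap (KaehlerDifferential.D R A) (KaehlerDifferential.D R A[X])
      (algebraMap A A[X]) ψ)

include hd' hψ

theorem InV_one : InV d' ψ 0 (1 : EB R A) := by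
  refine ⟨C 1, fun N => ?_, by simp, DeRham.gen (KaehlerDifferential.D R A) 0 1 Fin.elim0, ?_⟩
  · rw [coeff_C]
    split_ifs with hN
    · subst hN
      refine ⟨?_, ?_⟩
      · have := algebraMap_mem (A := A[X]) (M := Ω[A[X]⁄R]) 1
        rwa [map_one] at this
      · rw [LB, Lop_one (isDR_B hd'), zero_smul]
    · exact ⟨Submodule.zero_mem _, by rw [LB_zero, smul_zero]⟩
  · rw [coeff_C_zero, hψ, coe_gen, map_one, map_one, one_mul, ExteriorAlgebra.ιMulti_zero_apply]

theorem InV_algebraMap_mul (b : A[X]) {i : ℕ} {y : EB R A} (h : InV d' ψ i y) :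
    InV d' ψ i (algebraMap A[X] (EB R A) b * y) := by
  induction b using Polynomial.induction_on' with
  | add p q hp hq =>
    rw [map_add, add_mul]
    exact InV_add d' ψ hp hq
  | monomial n a =>
    refine InV_shift d' ψ (zero_add i) (wt_algebraMap hd' n a) (algebraMap_mem _) ?_ h
    intro hn x'
    subst hn
    exact ⟨a • x', (psi_smul hψ i a x').symm⟩

theorem InV_ιD_mul (b : A[X]) {i : ℕ} {y : EB R A} (h : InV d' ψ i y) :
    InV d' ψ (i + 1) (ι A[X] (KaehlerDifferential.D R A[X] b) * y) := by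
  induction b using Polynomial.induction_on' with
  | add p q hp hq =>
    rw [map_add, map_add, add_mul]
    exact InV_add d' ψ hp hq
  | monomial n a =>
    refine InV_shift d' ψ (Nat.add_comm 1 i) (wt_ι hd' n a) (ι_mem _) ?_ h
    intro hn x'
    subst hn
    exact ⟨mulι a i x', (psi_mulι hψ i a x').symm⟩

theorem InV_ι_mul (m : Ω[A[X]⁄R]) {i : ℕ} {y : EB R A} (h : InV d' ψ i y) :
    InV d' ψ (i + 1) (ι A[X] m * y) := by
  have hm : m ∈ Submodule.span A[X] (Set.range (KaehlerDifferential.D R A[X])) := by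
    rw [KaehlerDifferential.span_range_derivation]; trivial
  induction hm using Submodule.span_induction with
  | mem m hm =>
    obtain ⟨b, rfl⟩ := hm
    exact InV_ιD_mul hd' hψ b h
  | zero =>
    rw [map_zero, zero_mul]
    exact InV_zero d' ψ _
  | add m n _ _ hm hn =>
    rw [map_add, add_mul]
    exact InV_add d' ψ hm hn
  | smul c m _ hm =>
    rw [map_smul, Algebra.smul_def, mul_assoc]
    exact InV_algebraMap_mul hd' hψ c hm

theorem InV_of_mem {i : ℕ} {y : EB R A} (hy : y ∈ ⋀[A[X]]^i (Ω[A[X]⁄R])) : InV d' ψ i y := by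
  induction hy using Submodule.pow_induction_on_left' with
  | algebraMap b =>
    have := InV_algebraMap_mul hd' hψ b (InV_one hd' hψ)
    rwa [mul_one] at this
  | add x y i hx hy ihx ihy => exact InV_add d' ψ ihx ihy
  | mem_mul m hm i x hx ih =>
    obtain ⟨ω, rfl⟩ := hm
    exact InV_ι_mul hd' hψ ω ih

end rel

end Groth.Agent.Lib.Helper12.Poinc
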