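import Mathlib
import Groth.Agent.Lib.Helper12.RelP5
import Groth.Agent.S15293
import Groth.Agent.S15294

namespace Groth.Agent.Lib.Helper12.Poinc

open ExteriorAlgebra CliffordAlgebra Module Polynomial
open Groth.Agent.Lib.Helper12.DeRham (ι_mul_eq involute_of_mem mul_mem_exteriorPower ι_mem algebraMap_mem)
open exteriorPower

universe u

section rel
variable {R A : Type u} [CommRing R] [CommRing A] [Algebra R A]

theorem exists_retraction
    (d : ∀ p : ℕ, ↥(⋀[A]^p (Ω[A⁄R])) →ₗ[R] ↥(⋀[A]^(p + 1) (Ω[A⁄R])))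
    (hd : DeRham.IsDiff (KaehlerDifferential.D R A) d)
    (d' : ∀ p : ℕ, ↥(⋀[A[X]]^p (Ω[A[X]⁄R])) →ₗ[R] ↥(⋀[A[X]]^(p + 1) (Ω[A[X]⁄R])))
    (hd' : DeRham.IsDiff (KaehlerDifferential.D R A[X]) d') :
    ∃ ρ : ∀ p : ℕ, ↥(⋀[A[X]]^p (Ω[A[X]⁄R])) →+ ↥(⋀[A]^p (Ω[A⁄R])),
      (∀ ψ : ∀ p : ℕ, ↥(⋀[A]^p (Ω[A⁄R])) →+ ↥(⋀[A[X]]^p (Ω[A[X]⁄R])),
        DeRham.IsCxMap (KaehlerDifferential.D R A) (KaehlerDifferential.D R A[X])
          (algebraMap A A[X]) ψ → ∀ p x, ρ p (ψ p x) = x) ∧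
      (∀ p x, ρ (p + 1) (d' p x) = d p (ρ p x)) := by
  letI : Algebra A[X] A := (Polynomial.evalRingHom (0 : A)).toAlgebra
  have halg : ∀ f : A[X], algebraMap A[X] A f = f.eval 0 := fun f => rfl
  haveI : IsScalarTower R A[X] A := IsScalarTower.of_algebraMap_eq (fun r => by
    rw [halg, IsScalarTower.algebraMap_apply R A A[X], Polynomial.algebraMap_apply,
      Algebra.algebraMap_self_apply, eval_C])
  obtain ⟨ρ, hρ⟩ := Groth.Agent.S15293.result R R A[X] A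
  refine ⟨ρ, ?_, ?_⟩
  · intro ψ hψ p x
    have key : (ρ p).comp (ψ p) = AddMonoidHom.id _ := by
      refine Groth.Agent.Lib.Helper5.DeRhamGen.ext_gen (KaehlerDifferential.D R A)
        (KaehlerDifferential.span_range_derivation R A) p _ _ (fun b₀ b => ?_)
      show ρ p (ψ p _) = _
      rw [hψ, hρ]
      simp only [halg, Polynomial.algebraMap_apply, Algebra.algebraMap_self_apply, eval_C]
      rfl
    exact DFunLike.congr_fun key x
  · intro p x
    exact Groth.Agent.S15294.result R R A[X] A d' hd' d hd ρ hρ p x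

end rel

end Groth.Agent.Lib.Helper12.Poinc
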