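import Mathlib
import Groth.Agent.Lib.Helper12.RelP6

namespace Groth.Agent.Lib.Helper12.Poinc

open ExteriorAlgebra CliffordAlgebra Module Polynomial
open Groth.Agent.Lib.Helper12.DeRham (ι_mul_eq involute_of_mem mul_mem_exteriorPower ι_mem algebraMap_mem)
open exteriorPower

universe u

section rel
variable {R A : Type u} [CommRing R] [CommRing A] [Algebra R A] [Algebra ℚ R]

/-- scalars from `R` inside the exterior algebra -/
noncomputable def kap (r : R) : EB R A := algebraMap A[X] (EB R A) (algebraMap R A[X] r)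

omit [Algebra ℚ R] in
theorem kap_mul (r s : R) : kap (A := A) (r * s) = kap r * kap s := by
  simp [kap]

omit [Algebra ℚ R] in
theorem kap_one : kap (A := A) (1 : R) = 1 := by simp [kap]

omit [Algebra ℚ R] in
theorem kap_intCast (n : ℤ) : kap (A := A) ((n : ℤ) : R) = (n : EB R A) := by simp [kap]

theorem torsion_free (n : ℤ) (z : EB R A) (hn : n ≠ 0) (h : n • z = 0) : z = 0 := by
  have h1 : kap (A := A) (algebraMap ℚ R ((n : ℚ)⁻¹)) * (n : EB R A) = 1 := by
    rw [← kap_intCast, ← kap_mul, ← map_intCast (algebraMap ℚ R), ← map_mul,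
      inv_mul_cancel₀ (Int.cast_ne_zero.2 hn), map_one, kap_one]
  rw [zsmul_eq_mul] at h
  calc z = (kap (A := A) (algebraMap ℚ R ((n : ℚ)⁻¹)) * (n : EB R A)) * z := by rw [h1, one_mul]
    _ = 0 := by rw [mul_assoc, h, mul_zero]

variable {d' : ∀ p : ℕ, ↥(⋀[A[X]]^p (Ω[A[X]⁄R])) →ₗ[R] ↥(⋀[A[X]]^(p + 1) (Ω[A[X]⁄R]))}

omit [Algebra ℚ R] in
theorem glob_kap_mul (hd' : DeRham.IsDiff (KaehlerDifferential.D R A[X]) d') (r : R) (u : EB R A) :
    glob d' (kap r * u) = kap r * glob d' u := by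
  rw [kap, (isDR_B hd').algebraMap_mul, Derivation.map_algebraMap, map_zero, zero_mul, zero_add]

/-- the key decomposition: a closed form is the image of a form plus an exact form -/
theorem key_decomp (hd' : DeRham.IsDiff (KaehlerDifferential.D R A[X]) d')
    {ψ : ∀ p : ℕ, ↥(⋀[A]^p (Ω[A⁄R])) →+ ↥(⋀[A[X]]^p (Ω[A[X]⁄R]))}
    (hψ : DeRham.IsCxMap (KaehlerDifferential.D R A) (KaehlerDifferential.D R A[X])
      (algebraMap A A[X]) ψ) (i : ℕ) (y : ↥(⋀[A[X]]^i (Ω[A[X]⁄R]))) (hy : d' i y = 0) :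
    ∃ (x' : ↥(⋀[A]^i (Ω[A⁄R]))) (θ : EB R A),
      (i = 0 → θ = 0) ∧ θ ∈ ⋀[A[X]]^(i - 1) (Ω[A[X]⁄R]) ∧
      (y : EB R A) = ((ψ i x' : ↥(⋀[A[X]]^i (Ω[A[X]⁄R]))) : EB R A) + glob d' θ := by
  have hDR := isDR_B hd'
  obtain ⟨z, hz, hzy, x', hx'⟩ := InV_of_mem hd' hψ y.2
  have hsum : (y : EB R A) = ∑ N ∈ Finset.range (z.natDegree + 1), z.coeff N := by
    rw [← hzy, eval_eq_sum_range]
    simp
  have hDy : glob d' (y : EB R A) = 0 := by rw [glob_coe, hy]; rfl
  have hDz : ∀ N, glob d' (z.coeff N) = 0 := by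
    intro N
    by_cases hN : N ∈ Finset.range (z.natDegree + 1)
    · refine eigen_indep (LB d') (LB_add d') torsion_free (Finset.range (z.natDegree + 1))
        (fun N => glob d' (z.coeff N)) ?_ ?_ N hN
      · intro N _
        show Lop (glob d') (epsT R) (glob d' (z.coeff N)) = _
        rw [Lop_D hDR]
        have := (hz N).2
        rw [LB] at this
        rw [this, map_nsmul]
      · rw [← map_sum, ← hsum, hDy]
    · rw [Finset.mem_range, not_lt] at hN
      rw [coeff_eq_zero_of_natDegree_lt (by omega), map_zero]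
  have hzN : ∀ N : ℕ, z.coeff (N + 1) =
      glob d' (kap (algebraMap ℚ R (((N + 1 : ℕ) : ℚ)⁻¹)) * ctr (epsT R) (z.coeff (N + 1))) := by
    intro N
    have h1 : ((N + 1 : ℕ)) • z.coeff (N + 1) = glob d' (ctr (epsT R) (z.coeff (N + 1))) := by
      have := (hz (N + 1)).2
      rw [LB, Lop, hDz, map_zero, add_zero] at this
      exact this.symm
    have h2 : kap (A := A) (algebraMap ℚ R (((N + 1 : ℕ) : ℚ)⁻¹)) * ((N + 1 : ℕ) : EB R A) = 1 := by
      have : ((N + 1 : ℕ) : EB R A) = kap (A := A) (((N + 1 : ℕ) : ℤ) : R) := by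
        rw [kap_intCast]; simp
      rw [this, ← kap_mul, ← map_intCast (algebraMap ℚ R), ← map_mul]
      have h3 : (((N + 1 : ℕ) : ℚ))⁻¹ * (((N + 1 : ℕ) : ℤ) : ℚ) = 1 := by
        rw [Int.cast_natCast]
        exact inv_mul_cancel₀ (Nat.cast_ne_zero.2 (by omega))
      rw [h3, map_one, kap_one]
    rw [glob_kap_mul hd', ← h1, nsmul_eq_mul, ← mul_assoc, h2, one_mul]
  refine ⟨x', ∑ N ∈ Finset.range z.natDegree,
    kap (algebraMap ℚ R (((N + 1 : ℕ) : ℚ)⁻¹)) * ctr (epsT R) (z.coeff (N + 1)), ?_, ?_, ?_⟩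
  · intro hi
    subst hi
    refine Finset.sum_eq_zero fun N _ => ?_
    rw [(ctr_mem (epsT R) 0 (hz (N + 1)).1).1 rfl, mul_zero]
  · refine Submodule.sum_mem _ fun N _ => ?_
    rw [kap, ← Algebra.smul_def]
    exact Submodule.smul_mem _ _ (ctr_mem (epsT R) i (hz (N + 1)).1).2
  · rw [hsum, Finset.sum_range_succ', map_sum, ← hx', add_comm]
    congr 1
    exact Finset.sum_congr rfl fun N _ => hzN N

end rel

end Groth.Agent.Lib.Helper12.Poinc
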