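import Mathlib
import Groth.Agent.Lib.Helper12.RelP7

namespace Groth.Agent.Lib.Helper12.Poinc

open ExteriorAlgebra CliffordAlgebra Module Polynomial
open Groth.Agent.Lib.Helper12.DeRham (ι_mul_eq involute_of_mem mul_mem_exteriorPower ι_mem algebraMap_mem)
open exteriorPower

universe u

section rel
variable {R A : Type u} [CommRing R] [CommRing A] [Algebra R A] [Algebra ℚ R]

theorem main_15536
    (d : ∀ p : ℕ, ↥(⋀[A]^p (Ω[A⁄R])) →ₗ[R] ↥(⋀[A]^(p + 1) (Ω[A⁄R])))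
    (hd : DeRham.IsDiff (KaehlerDifferential.D R A) d)
    (d' : ∀ p : ℕ, ↥(⋀[A[X]]^p (Ω[A[X]⁄R])) →ₗ[R] ↥(⋀[A[X]]^(p + 1) (Ω[A[X]⁄R])))
    (hd' : DeRham.IsDiff (KaehlerDifferential.D R A[X]) d')
    (ψ : ∀ p : ℕ, ↥(⋀[A]^p (Ω[A⁄R])) →+ ↥(⋀[A[X]]^p (Ω[A[X]⁄R])))
    (hψ : DeRham.IsCxMap (KaehlerDifferential.D R A) (KaehlerDifferential.D R A[X]) (algebraMap A A[X]) ψ)
    (hcomm : ∀ (p : ℕ) (x : ↥(⋀[A]^p (Ω[A⁄R]))), ψ (p + 1) (d p x) = d' p (ψ p x)) (i : ℕ) :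
    (∀ y ∈ DeRham.cocycles d' i, ∃ x ∈ DeRham.cocycles d i, y - ψ i x ∈ DeRham.coboundaries d' i) ∧
      (∀ x ∈ DeRham.cocycles d i, ψ i x ∈ DeRham.coboundaries d' i → x ∈ DeRham.coboundaries d i) := by
  obtain ⟨ρ, hρψ, hρd⟩ := exists_retraction d hd d' hd'
  have hinj : ∀ p, Function.Injective (ψ p) := fun p =>
    Function.LeftInverse.injective (g := ρ p) (hρψ ψ hψ p)
  refine ⟨?_, ?_⟩
  · intro y hy
    have hy' : d' i y = 0 := hy
    obtain ⟨x', θ, hθ0, hθmem, hyx⟩ := key_decomp hd' hψ i y hy'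
    cases i with
    | zero =>
      have hθ : θ = 0 := hθ0 rfl
      rw [hθ, map_zero, add_zero] at hyx
      have hyψ : y = ψ 0 x' := Subtype.ext hyx
      refine ⟨x', ?_, ?_⟩
      · show d 0 x' = 0
        apply hinj 1
        rw [hcomm, ← hyψ, hy', map_zero]
      · rw [hyψ, sub_self]
        exact Submodule.zero_mem _
    | succ j =>
      have hθmem' : θ ∈ ⋀[A[X]]^j (Ω[A[X]⁄R]) := hθmem
      have hyψ : y - ψ (j + 1) x' = d' j ⟨θ, hθmem'⟩ := by
        apply Subtype.ext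
        rw [Submodule.coe_sub, hyx, add_sub_cancel_left, glob_of_mem d' hθmem']
      refine ⟨x', ?_, ?_⟩
      · show d (j + 1) x' = 0
        apply hinj (j + 1 + 1)
        have h1 : ψ (j + 1) x' = y - d' j ⟨θ, hθmem'⟩ := by rw [← hyψ]; abel
        rw [hcomm, h1, map_sub, hy', map_zero]
        have := LinearMap.congr_fun (hd'.2 j) ⟨θ, hθmem'⟩
        rw [LinearMap.comp_apply, LinearMap.zero_apply] at this
        rw [this, sub_zero]
      · rw [hyψ]
        exact ⟨_, rfl⟩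
  · intro x _ hx
    cases i with
    | zero =>
      have h0 : ψ 0 x = 0 := hx
      have : x = 0 := by
        apply hinj 0
        rw [h0, map_zero]
      rw [this]
      exact Submodule.zero_mem _
    | succ j =>
      obtain ⟨u, hu⟩ := hx
      refine ⟨ρ j u, ?_⟩
      rw [← hρd, hu, hρψ ψ hψ]

end rel

end Groth.Agent.Lib.Helper12.Poinc
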