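import Mathlib

set_option autoImplicit false
universe u

namespace H12Rep
open TensorProduct

variable {A : Type u} [CommRing A]

section ev
variable (W M : Type u) [AddCommGroup W] [Module A W] [AddCommGroup M] [Module A M]

/-- `W ⊗ M → Hom(W^∨, M)`, `w ⊗ m ↦ (f ↦ f w • m)`. -/
noncomputable def ev : W ⊗[A] M →ₗ[A] (Module.Dual A W →ₗ[A] M) :=
  dualTensorHom A (Module.Dual A W) M ∘ₗ (Module.Dual.eval A W).rTensor M

@[simp] lemma ev_tmul (w : W) (m : M) (f : Module.Dual A W) : ev W M (w ⊗ₜ m) f = f w • m := by
  simp [ev]

lemma ev_bijective [Module.Finite A W] [Module.Projective A W] :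
    Function.Bijective (ev (A := A) W M) := by
  unfold ev
  rw [LinearMap.coe_comp]
  refine Function.Bijective.comp dualTensorHom_bijective ?_
  have : (Module.Dual.eval A W).rTensor M =
      ((Module.evalEquiv A W).rTensor M : W ⊗[A] M →ₗ[A] _) := by
    ext; simp
  rw [this]
  exact (LinearEquiv.rTensor M (Module.evalEquiv A W)).bijective

variable {W M}
variable {N M' : Type u} [AddCommGroup N] [Module A N] [AddCommGroup M'] [Module A M']

lemma ev_natural_left (δ : W →ₗ[A] N) (x : W ⊗[A] M) :
    ev N M (δ.rTensor M x) = ev W M x ∘ₗ δ.dualMap := by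
  induction x using TensorProduct.induction_on with
  | zero => simp
  | tmul w m => ext f; simp
  | add x y hx hy => rw [map_add, map_add, hx, hy, map_add, LinearMap.add_comp]

lemma ev_natural_right (u : M →ₗ[A] M') (x : W ⊗[A] M) :
    ev W M' (u.lTensor W x) = u ∘ₗ ev W M x := by
  induction x using TensorProduct.induction_on with
  | zero => simp
  | tmul w m => ext f; simp
  | add x y hx hy => rw [map_add, map_add, hx, hy, map_add, LinearMap.comp_add]

end ev

end H12Rep
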