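import Mathlib
import Groth.Agent.Lib.Helper12.Rep1

set_option autoImplicit false
universe u

namespace H12Rep
open TensorProduct

variable {A : Type u} [CommRing A]
variable {W N : Type u} [AddCommGroup W] [Module A W] [AddCommGroup N] [Module A N]
variable (δ : W →ₗ[A] N)

/-- the representing module: coker of the transpose. -/
abbrev Q : Type u := Module.Dual A W ⧸ LinearMap.range δ.dualMap

variable (M : Type u) [AddCommGroup M] [Module A M]

lemma ev_vanish (x : W ⊗[A] M) (hx : δ.rTensor M x = 0) :
    LinearMap.range δ.dualMap ≤ LinearMap.ker (ev W M x) := by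
  rintro _ ⟨g, rfl⟩
  rw [LinearMap.mem_ker]
  have := ev_natural_left (M := M) δ x
  rw [hx, map_zero] at this
  have := LinearMap.congr_fun this g
  simpa using this.symm

noncomputable def kerToHom : LinearMap.ker (δ.rTensor M) →ₗ[A] (Q δ →ₗ[A] M) where
  toFun x := (LinearMap.range δ.dualMap).liftQ (ev W M x.1) (ev_vanish δ M x.1 x.2)
  map_add' x y := by
    apply Submodule.linearMap_qext
    ext f
    simp
  map_smul' a x := by
    apply Submodule.linearMap_qext
    ext f
    simp

@[simp] lemma kerToHom_mk (x : LinearMap.ker (δ.rTensor M)) (f : Module.Dual A W) :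
    kerToHom δ M x (Submodule.Quotient.mk f) = ev W M x.1 f := rfl

lemma kerToHom_bijective [Module.Finite A W] [Module.Projective A W]
    [Module.Finite A N] [Module.Projective A N] : Function.Bijective (kerToHom δ M) := by
  constructor
  · rw [injective_iff_map_eq_zero]
    intro x hx
    apply Subtype.ext
    apply (ev_bijective (A := A) W M).1
    rw [Submodule.coe_zero, map_zero]
    ext f
    have := LinearMap.congr_fun hx (Submodule.Quotient.mk f)
    simpa using this
  · intro φ
    obtain ⟨x, hx⟩ := (ev_bijective (A := A) W M).2 (φ ∘ₗ (LinearMap.range δ.dualMap).mkQ)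
    have hx0 : δ.rTensor M x = 0 := by
      apply (ev_bijective (A := A) N M).1
      rw [map_zero, ev_natural_left, hx]
      ext g
      simp only [LinearMap.comp_apply, Submodule.mkQ_apply, LinearMap.zero_apply]
      have : (Submodule.Quotient.mk (δ.dualMap g) : Q δ) = 0 := by
        rw [Submodule.Quotient.mk_eq_zero]
        exact ⟨g, rfl⟩
      rw [this, map_zero]
    refine ⟨⟨x, hx0⟩, ?_⟩
    apply Submodule.linearMap_qext
    ext f
    have := LinearMap.congr_fun hx f
    simpa using this

instance [Module.Finite A W] [Module.Projective A W] : Module.Finite A (Q δ) :=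
  Module.Finite.quotient A _

end H12Rep
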