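import Mathlib
import Groth.Prelude.Def_ega3
import Groth.Agent.Lib.Helper28.FlatCx
import Groth.Agent.Lib.Helper12.Rep2

set_option autoImplicit false
universe u

namespace H12Rep
open CategoryTheory CategoryTheory.Limits MonoidalCategory CohIII Opposite
open Groth.Agent.Lib.Helper28.FlatCx

variable {A : Type u} [CommRing A] {ι : Type} {c : ComplexShape ι}
variable (P : HomologicalComplex (ModuleCat.{u} A) c) (p : ι)

noncomputable abbrev del : P.opcycles p →ₗ[A] P.X (c.next p) := (P.fromOpcycles p (c.next p)).hom

noncomputable def thetaKer (M : ModuleCat.{u} A) :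
    T P p M →ₗ[A] LinearMap.ker ((del P p).rTensor M) :=
  LinearMap.codRestrict _ (theta P p M).hom (fun t => by
    rw [LinearMap.mem_ker]
    exact theta_fromOpcycles_apply P p M (c.next p) t)

lemma thetaKer_coe (M : ModuleCat.{u} A) (t : T P p M) :
    ((thetaKer P p M t : LinearMap.ker ((del P p).rTensor M)) : TensorProduct A (P.opcycles p) M)
      = (theta P p M).hom t := rfl

lemma thetaKer_bijective (M : ModuleCat.{u} A) : Function.Bijective (thetaKer P p M) := by
  constructor
  · intro t t' h
    apply theta_injective P p M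
    exact congrArg Subtype.val h
  · rintro ⟨x, hx⟩
    obtain ⟨t, ht⟩ := exists_theta_eq P p M x (LinearMap.mem_ker.mp hx)
    exact ⟨t, Subtype.ext ht⟩

/-- the representing object. -/
noncomputable abbrev QQ : ModuleCat.{u} A := ModuleCat.of A (Q (del P p))

variable [Module.Finite A (P.opcycles p)] [Module.Projective A (P.opcycles p)]
  [Module.Finite A (P.X (c.next p))] [Module.Projective A (P.X (c.next p))]

def homEquiv' (X : Type u) [AddCommGroup X] [Module A X] (M : ModuleCat.{u} A) :
    (X →ₗ[A] M) ≃ₗ[A] (ModuleCat.of A X ⟶ M) where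
  toFun := ModuleCat.ofHom
  invFun := ModuleCat.Hom.hom
  map_add' _ _ := rfl
  map_smul' _ _ := rfl
  left_inv _ := rfl
  right_inv _ := rfl

noncomputable def compEquiv (M : ModuleCat.{u} A) :
    T P p M ≃ₗ[A] (QQ P p ⟶ M) :=
  (LinearEquiv.ofBijective (kerToHom (del P p) M ∘ₗ thetaKer P p M)
    ((kerToHom_bijective (del P p) M).comp (thetaKer_bijective P p M))).trans
    (homEquiv' _ M)

lemma compEquiv_apply (M : ModuleCat.{u} A) (t : T P p M) (f : Module.Dual A (P.opcycles p)) :
    (compEquiv P p M t).hom (Submodule.Quotient.mk f) =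
      ev (P.opcycles p) M ((theta P p M).hom t) f := rfl

noncomputable def repIso : TFun P p ≅ (linearCoyoneda A (ModuleCat.{u} A)).obj (op (QQ P p)) :=
  NatIso.ofComponents (fun M => (compEquiv P p M).toModuleIso) (by
    intro M M' g
    ext t
    apply ModuleCat.hom_ext
    apply Submodule.linearMap_qext
    ext f
    change (compEquiv P p M' ((TFun P p).map g t)).hom (Submodule.Quotient.mk f) =
      g.hom ((compEquiv P p M t).hom (Submodule.Quotient.mk f))
    rw [compEquiv_apply, compEquiv_apply]
    have h1 := theta_naturality_apply P p g t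
    have h2 : (theta P p M').hom ((TFun P p).map g t) =
        g.hom.lTensor (P.opcycles p) ((theta P p M).hom t) := by
      rw [← ModuleCat.hom_whiskerLeft]
      exact h1
    rw [h2, ev_natural_right]
    rfl)

end H12Rep
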