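import Mathlib
import Groth.Prelude.Def_ega3
import Groth.Agent.Lib.Helper28.FlatCx
import Groth.Agent.Lib.Helper12.Rep3

set_option autoImplicit false
universe u

namespace H12Rep
open CategoryTheory CategoryTheory.Limits MonoidalCategory CohIII Opposite
open Groth.Agent.Lib.Helper28.FlatCx

lemma coyoneda_preservesMono {A : Type u} [CommRing A] (Q : ModuleCat.{u} A) :
    ((linearCoyoneda A (ModuleCat.{u} A)).obj (op Q)).PreservesMonomorphisms := by
  constructor
  intro X Y f hf
  rw [ModuleCat.mono_iff_injective]
  intro a b hab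
  exact (cancel_mono f).mp hab

theorem main {A : Type u} [CommRing A] [IsNoetherianRing A]
    (P : ChainComplex (ModuleCat.{u} A) ℤ)
    (hP : ∀ i, Module.Finite A (P.X i) ∧ Module.Flat A (P.X i)) (p : ℤ) :
    ((CohIII.TFun P p).PreservesMonomorphisms ↔
      ∃ Q : ModuleCat.{u} A, Nonempty (CohIII.TFun P p ≅
        (linearCoyoneda A (ModuleCat.{u} A)).obj (op Q))) ∧
    ∀ Q : ModuleCat.{u} A, Nonempty (CohIII.TFun P p ≅
        (linearCoyoneda A (ModuleCat.{u} A)).obj (op Q)) → Module.Finite A Q := by
  have hproj : ∀ i, Module.Projective A (P.X i) := fun i => by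
    have := (hP i).1
    have := (hP i).2
    have : Module.FinitePresentation A (P.X i) := Module.finitePresentation_of_finite A _
    exact Module.Flat.projective_of_finitePresentation
  have hfin : ∀ i, Module.Finite A (P.X i) := fun i => (hP i).1
  have key : (TFun P p).PreservesMonomorphisms → (Module.Finite A (QQ P p) ∧
      Nonempty (TFun P p ≅ (linearCoyoneda A (ModuleCat.{u} A)).obj (op (QQ P p)))) := by
    intro h
    have hW : Module.Flat A (P.opcycles p) :=
      (preservesMono_iff_flat_opcycles P (fun i => (hP i).2) p).mp h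
    have : Module.Finite A (P.opcycles p) := finite_opcycles P p
    have : Module.FinitePresentation A (P.opcycles p) := Module.finitePresentation_of_finite A _
    have : Module.Projective A (P.opcycles p) := Module.Flat.projective_of_finitePresentation
    have := hproj ((ComplexShape.down ℤ).next p)
    have := hfin ((ComplexShape.down ℤ).next p)
    exact ⟨inferInstance, ⟨repIso P p⟩⟩
  have back : ∀ Q : ModuleCat.{u} A, Nonempty (CohIII.TFun P p ≅
        (linearCoyoneda A (ModuleCat.{u} A)).obj (op Q)) → (TFun P p).PreservesMonomorphisms := by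
    rintro Q ⟨α⟩
    have := coyoneda_preservesMono Q
    exact Functor.PreservesMonomorphisms.of_iso α.symm
  refine ⟨⟨fun h => ⟨_, (key h).2⟩, fun ⟨Q, hQ⟩ => back Q hQ⟩, fun Q hQ => ?_⟩
  obtain ⟨hfinQ, ⟨β⟩⟩ := key (back Q hQ)
  obtain ⟨α⟩ := hQ
  let e : op Q ≅ op (QQ P p) := (linearCoyoneda A (ModuleCat.{u} A)).preimageIso (α.symm ≪≫ β)
  exact Module.Finite.equiv (e.unop.toLinearEquiv)

end H12Rep
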