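import Mathlib
import Groth.Prelude.Def_Coh

/-! # Stalks of higher direct images, part 1: the local pullback square -/

set_option autoImplicit false
universe u
open CategoryTheory CategoryTheory.Limits AlgebraicGeometry TopologicalSpace Opposite

namespace Groth.Agent.Lib.Helper12.H12SF

variable {X Y : Scheme.{u}} (f : X ⟶ Y) (y : Y) (V : Y.Opens) (hV : IsAffineOpen V) (hy : y ∈ V)

theorem isPullback_right :
    IsPullback (f ⁻¹ᵁ V).ι ((f ∣_ V) ≫ V.toSpecΓ) f hV.fromSpec := by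
  refine (isPullback_morphismRestrict f V).flip.of_iso (Iso.refl _) (Iso.refl _) hV.isoSpec
    (Iso.refl _) ?_ ?_ ?_ ?_
  · simp
  · simp [IsAffineOpen.isoSpec_hom]
  · simp
  · rw [Iso.refl_hom, Category.comp_id, ← hV.isoSpec_inv_ι, Iso.hom_inv_id_assoc]

theorem fromSpecStalk_eq :
    Spec.map (Y.presheaf.germ V y hy) ≫ hV.fromSpec = Y.fromSpecStalk y :=
  hV.fromSpecStalk_eq_fromSpecStalk hy

section
variable (X₁ : Scheme.{u}) [X₁.Over (Spec (CommRingCat.of (Y.presheaf.stalk y)))] (g : X₁ ⟶ X)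
  (hsq : IsPullback g (X₁ ↘ Spec (CommRingCat.of (Y.presheaf.stalk y))) f (Y.fromSpecStalk y))

include hsq hV in
theorem exists_local_pullback :
    ∃ g' : X₁ ⟶ (f ⁻¹ᵁ V).toScheme, g' ≫ (f ⁻¹ᵁ V).ι = g ∧
      IsPullback g' (X₁ ↘ Spec (CommRingCat.of (Y.presheaf.stalk y)))
        ((f ∣_ V) ≫ V.toSpecΓ) (Spec.map (Y.presheaf.germ V y hy)) := by
  have t := isPullback_right f V hV
  have s : IsPullback g (X₁ ↘ Spec (CommRingCat.of (Y.presheaf.stalk y))) f
      (Spec.map (Y.presheaf.germ V y hy) ≫ hV.fromSpec) := by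
    rw [fromSpecStalk_eq]
    exact hsq
  exact ⟨_, t.lift_fst _ _ _, IsPullback.of_right' s t⟩

end

end Groth.Agent.Lib.Helper12.H12SF
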