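import Mathlib
import Groth.Agent.Lib.Helper12.RP4

/-! # Stalks of higher direct images, part 2: `H^p(f⁻¹V, F) ≃ₗ Γ(V, R^p f_* F)` for `V` affine -/

set_option autoImplicit false
universe u
open CategoryTheory CategoryTheory.Limits AlgebraicGeometry TopologicalSpace Opposite

namespace Groth.Agent.Lib.Helper12.H12SF
open Groth.Agent.Lib.Helper12.H12RP

variable {X Y : Scheme.{u}} (f : X ⟶ Y) [QuasiCompact f] [QuasiSeparated f]
  [HasInjectiveResolutions X.Modules] (V : Y.Opens) (hV : IsAffineOpen V)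
  (F : X.Modules) [F.IsQuasicoherent] (p : ℕ)

theorem toGlobal_restrict (a : Γ(Y, V)) :
    Coh.toGlobal (A := Γ(Y, V)) ((f ∣_ V) ≫ V.toSpecΓ) a =
      (f ∣_ V).appTop.hom (V.topIso.inv.hom a) := by
  unfold Coh.toGlobal
  have h1 : Scheme.Hom.appTop (X := (f ⁻¹ᵁ V).toScheme) (Y := Spec Γ(Y, V))
      ((f ∣_ V) ≫ V.toSpecΓ) = V.toSpecΓ.appTop ≫ (f ∣_ V).appTop :=
    Scheme.Hom.comp_appTop _ _
  have h2 : ((Scheme.ΓSpecIso Γ(Y, V)).inv ≫ V.toSpecΓ.appTop : Γ(Y, V) ⟶ Γ(V.toScheme, ⊤)) =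
      V.topIso.inv := by
    rw [Scheme.Opens.toSpecΓ_appTop]
    exact Iso.inv_hom_id_assoc _ _
  rw [h1]
  exact congrArg (fun φ : Γ(Y, V) ⟶ Γ(V.toScheme, ⊤) => (f ∣_ V).appTop.hom (φ.hom a)) h2

include hV in
theorem exists_linearEquiv_sections :
    letI : (f ⁻¹ᵁ V).toScheme.Over (Spec (CommRingCat.of Γ(Y, V))) := ⟨(f ∣_ V) ≫ V.toSpecΓ⟩
    Nonempty (Coh.HH (f ⁻¹ᵁ V).toScheme (F.restrict (f ⁻¹ᵁ V).ι) p ≃ₗ[Γ(Y, V)]
      (Γ((Coh.Rpush f p).obj F, V) : Type u)) := by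
  letI : (f ⁻¹ᵁ V).toScheme.Over (Spec (CommRingCat.of Γ(Y, V))) := ⟨(f ∣_ V) ≫ V.toSpecΓ⟩
  haveI : IsAffine V.toScheme := hV
  haveI : EnoughInjectives (f ⁻¹ᵁ V).toScheme.Modules :=
    Groth.Agent.S0485.result (Opens.grothendieckTopology _) (f ⁻¹ᵁ V).toScheme.ringCatSheaf
  haveI : HasInjectiveResolutions (f ⁻¹ᵁ V).toScheme.Modules := inferInstance
  haveI : (F.restrict (f ⁻¹ᵁ V).ι).IsQuasicoherent :=
    Scheme.Modules.isQuasicoherent_restrictFunctor (f ⁻¹ᵁ V).ι F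
  obtain ⟨e₁, he₁⟩ := exists_HH_addEquiv_sections_Rpush_linear (f ∣_ V)
    (F.restrict (f ⁻¹ᵁ V).ι) p
  let N := (Coh.Rpush f p).obj F
  let ρ := (RpushRestrictIso f V p).app F
  have h1 : ρ.hom.app ⊤ ≫ ρ.inv.app ⊤ = 𝟙 _ := by
    rw [← Scheme.Modules.Hom.comp_app, ρ.hom_inv_id]
    rfl
  have h2 : ρ.inv.app ⊤ ≫ ρ.hom.app ⊤ = 𝟙 _ := by
    rw [← Scheme.Modules.Hom.comp_app, ρ.inv_hom_id]
    rfl
  let e₂ : (Γ((Coh.Rpush (f ∣_ V) p).obj (F.restrict (f ⁻¹ᵁ V).ι), ⊤) : Type u) ≃+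
      (Γ(N.restrict V.ι, ⊤) : Type u) :=
    { toFun := (ρ.inv.app ⊤).hom
      invFun := (ρ.hom.app ⊤).hom
      left_inv := fun x => ConcreteCategory.congr_hom h2 x
      right_inv := fun x => ConcreteCategory.congr_hom h1 x
      map_add' := (ρ.inv.app ⊤).hom.map_add }
  let e₃ := Groth.Agent.Lib.Helper12.H12Fin.restrictTopEquiv V N
  refine ⟨{ toFun := fun x => e₃ (e₂ (e₁ x))
            invFun := fun z => e₁.symm (e₂.symm (e₃.symm z))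
            left_inv := fun x => by simp
            right_inv := fun z => by simp
            map_add' := fun x x' => by rw [map_add, map_add, map_add]
            map_smul' := ?_ }⟩
  intro a x
  change e₃ (e₂ (e₁ (Coh.toGlobal (A := Γ(Y, V)) ((f ∣_ V) ≫ V.toSpecΓ) a • x))) =
    a • e₃ (e₂ (e₁ x))
  rw [toGlobal_restrict, he₁]
  have h3 : e₂ ((show ↑Γ(V.toScheme, ⊤) from V.topIso.inv.hom a) • e₁ x) =
      (show ↑Γ(V.toScheme, ⊤) from V.topIso.inv.hom a) • e₂ (e₁ x) :=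
    Scheme.Modules.Hom.app_smul ρ.inv _ _
  rw [h3]
  exact Groth.Agent.Lib.Helper12.H12Fin.restrictTopEquiv_smul V N a _

end Groth.Agent.Lib.Helper12.H12SF
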