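import Mathlib
import Groth.Agent.Lib.Helper29.QCohBasic

/-! # Stalks of higher direct images, part 3: the stalk of a quasi-coherent module as a base change -/

set_option autoImplicit false
universe u
open CategoryTheory CategoryTheory.Limits AlgebraicGeometry TopologicalSpace Opposite TensorProduct

namespace Groth.Agent.Lib.Helper12.H12SF
open Groth.Agent.Lib.Helper29.QCoh

variable {Y : Scheme.{u}} (N : Y.Modules) [N.IsQuasicoherent] (V : Y.Opens) (hV : IsAffineOpen V)
  (y : Y) (hy : y ∈ V)

include hV in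
theorem nonempty_stalk_linearEquiv :
    letI : Algebra Γ(Y, V) (Y.presheaf.stalk y) :=
      TopCat.Presheaf.algebra_section_stalk Y.presheaf ⟨y, hy⟩
    Nonempty ((Y.presheaf.stalk y) ⊗[Γ(Y, V)] (Γ(N, V) : Type u) ≃ₗ[Y.presheaf.stalk y]
      (N.presheaf.stalk y : Type u)) := by
  letI alg : Algebra Γ(Y, V) (Y.presheaf.stalk y) :=
    TopCat.Presheaf.algebra_section_stalk Y.presheaf ⟨y, hy⟩
  letI := stalkModule N V y hy
  haveI : IsScalarTower Γ(Y, V) (Y.presheaf.stalk y) (N.presheaf.stalk y) :=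
    IsScalarTower.of_algebraMap_smul (fun r x => rfl)
  haveI := hV.isLocalization_stalk ⟨y, hy⟩
  haveI := isLocalizedModule_germ N hV y hy
  have hbc : IsBaseChange (Y.presheaf.stalk y) (germₗ N V y hy) :=
    IsLocalizedModule.isBaseChange (hV.primeIdealOf ⟨y, hy⟩).asIdeal.primeCompl
      (Y.presheaf.stalk y) (germₗ N V y hy)
  exact ⟨hbc.equiv⟩

end Groth.Agent.Lib.Helper12.H12SF
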