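import Mathlib
import Groth.Agent.Lib.Helper12.SF1
import Groth.Agent.Lib.Helper12.SF2
import Groth.Agent.Lib.Helper12.SF3
import Groth.Agent.Lib.Helper12.HomGlue3
import Groth.Agent.Lib.Helper22.FBC.Main
import Groth.Agent.Lib.Lead.LinLES.Biprod

/-! # Stalks of higher direct images, part 4: `(R^p f_* F)_y ≃ₗ H^p(X ×_Y Spec O_{Y,y}, g^* F)` -/

set_option autoImplicit false
universe u
open CategoryTheory CategoryTheory.Limits AlgebraicGeometry TopologicalSpace Opposite TensorProduct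

namespace Groth.Agent.Lib.Helper12.H12SF
open Groth.Agent.Lib.Lead.LinLES

section Iso
variable (A : Type u) [CommRing A] {Z : Scheme.{u}} [Z.Over (Spec (CommRingCat.of A))]

/-- an isomorphism of modules induces a linear equivalence on cohomology -/
noncomputable def HHlinIso {M N : Z.Modules} (e : M ≅ N) (q : ℕ) :
    Coh.HH Z M q ≃ₗ[A] Coh.HH Z N q :=
  LinearEquiv.ofLinearMap (Canon.HHlin A e.hom q) (Canon.HHlin A e.inv q)
    (by
      ext x
      change Canon.HHlin A e.hom q (Canon.HHlin A e.inv q x) = x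
      rw [← HHlin_comp, e.inv_hom_id, HHlin_id])
    (by
      ext x
      change Canon.HHlin A e.inv q (Canon.HHlin A e.hom q x) = x
      rw [← HHlin_comp, e.hom_inv_id, HHlin_id])

end Iso

variable {X Y : Scheme.{u}} (f : X ⟶ Y) [QuasiCompact f] [QuasiSeparated f]
  [HasInjectiveResolutions X.Modules] (F : X.Modules) [F.IsQuasicoherent] (y : Y) (p : ℕ)
  (X₁ : Scheme.{u}) [X₁.Over (Spec (CommRingCat.of (Y.presheaf.stalk y)))] (g : X₁ ⟶ X)
  (hsq : IsPullback g (X₁ ↘ Spec (CommRingCat.of (Y.presheaf.stalk y))) f (Y.fromSpecStalk y))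

include hsq in
theorem nonempty_stalk_Rpush_linearEquiv [((Coh.Rpush f p).obj F).IsQuasicoherent] :
    Nonempty ((((Coh.Rpush f p).obj F).presheaf.stalk y : Type u) ≃ₗ[Y.presheaf.stalk y]
      Coh.HH X₁ ((Scheme.Modules.pullback g).obj F) p) := by
  obtain ⟨V, hV, hy, -⟩ := AlgebraicGeometry.exists_isAffineOpen_mem_and_subset
    (x := y) (U := ⊤) trivial
  letI ovr : (f ⁻¹ᵁ V).toScheme.Over (Spec (CommRingCat.of Γ(Y, V))) :=
    ⟨(f ∣_ V) ≫ V.toSpecΓ⟩
  letI alg : Algebra Γ(Y, V) (Y.presheaf.stalk y) :=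
    TopCat.Presheaf.algebra_section_stalk Y.presheaf ⟨y, hy⟩
  haveI := hV.isLocalization_stalk ⟨y, hy⟩
  haveI flat : Module.Flat Γ(Y, V) (Y.presheaf.stalk y) :=
    IsLocalization.flat (Y.presheaf.stalk y) (hV.primeIdealOf ⟨y, hy⟩).asIdeal.primeCompl
  obtain ⟨g', hg', hpb⟩ := exists_local_pullback f y V hV hy X₁ g hsq
  haveI : IsAffine V.toScheme := hV
  haveI : CompactSpace (f ⁻¹ᵁ V).toScheme :=
    QuasiCompact.compactSpace_of_compactSpace (f ∣_ V)
  haveI : QuasiSeparatedSpace (f ⁻¹ᵁ V).toScheme :=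
    quasiSeparatedSpace_of_quasiSeparated (f ∣_ V)
  haveI : (F.restrict (f ⁻¹ᵁ V).ι).IsQuasicoherent :=
    Scheme.Modules.isQuasicoherent_restrictFunctor (f ⁻¹ᵁ V).ι F
  obtain ⟨ψ⟩ := exists_linearEquiv_sections f V hV F p
  obtain ⟨σ⟩ := nonempty_stalk_linearEquiv ((Coh.Rpush f p).obj F) V hV y hy
  obtain ⟨β⟩ := Groth.Agent.Lib.Helper22.FBC.flat_base_change Γ(Y, V) (Y.presheaf.stalk y)
    (f ⁻¹ᵁ V).toScheme X₁ g' hpb (F.restrict (f ⁻¹ᵁ V).ι) p
  let γ : (Scheme.Modules.pullback g').obj (F.restrict (f ⁻¹ᵁ V).ι) ≅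
      (Scheme.Modules.pullback g).obj F :=
    (Scheme.Modules.pullback g').mapIso
      ((Scheme.Modules.restrictFunctorIsoPullback (f ⁻¹ᵁ V).ι).app F) ≪≫
      Groth.Agent.Lib.Helper12.H12HomGlue.compIso g' (f ⁻¹ᵁ V).ι g hg' F
  exact ⟨σ.symm.trans (((LinearEquiv.baseChange Γ(Y, V) (Y.presheaf.stalk y) _ _ ψ).symm.trans
    β).trans (HHlinIso (Y.presheaf.stalk y) γ p))⟩

end Groth.Agent.Lib.Helper12.H12SF
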