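import Mathlib
import Groth.Agent.Lib.Helper12.SF4
import Groth.Agent.Lib.Helper12.FF10
import Groth.Agent.Lib.Helper12.ModCons1
import Groth.Agent.Lib.Helper12.Dev2
import Groth.Agent.Lib.Helper29.QCohRestrict
import Groth.Agent.S0030
import Groth.Agent.S0036

/-! # Stalks of higher direct images, part 5: formal functions for the stalks of `R^p f_* F` -/

set_option autoImplicit false
universe u
open CategoryTheory CategoryTheory.Limits AlgebraicGeometry TopologicalSpace Opposite TensorProduct

namespace Groth.Agent.Lib.Helper12.H12SF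
open Groth.Agent.Lib.Helper12.H12FF
open Groth.Agent.Lib.Helper29.QCoh

variable {X Y : Scheme.{u}} (f : X ⟶ Y) [IsProper f] [IsLocallyNoetherian Y]
  [HasInjectiveResolutions X.Modules] (F : X.Modules) (hF : Coh.IsCoh F) (y : Y) (p : ℕ)
  (X₁ : Scheme.{u}) [X₁.Over (Spec (CommRingCat.of (Y.presheaf.stalk y)))] (g : X₁ ⟶ X)
  (hsq : IsPullback g (X₁ ↘ Spec (CommRingCat.of (Y.presheaf.stalk y))) f (Y.fromSpecStalk y))

include hF hsq in
theorem stalk_formal_functions :
    Module.Finite (Y.presheaf.stalk y) (((Coh.Rpush f p).obj F).presheaf.stalk y) ∧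
    Nonempty (AdicCompletion (IsLocalRing.maximalIdeal (Y.presheaf.stalk y))
        (((Coh.Rpush f p).obj F).presheaf.stalk y) ≃+
      Formal.HHlim (IsLocalRing.maximalIdeal (Y.presheaf.stalk y))
        ((Scheme.Modules.pullback g).obj F) p) ∧
    (Formal.HHlim (IsLocalRing.maximalIdeal (Y.presheaf.stalk y))
        ((Scheme.Modules.pullback g).obj F) p = ⊥ →
      Subsingleton (((Coh.Rpush f p).obj F).presheaf.stalk y)) := by
  haveI := hF.1
  haveI : ((Coh.Rpush f p).obj F).IsQuasicoherent := Groth.Agent.S0030.result f F p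
  obtain ⟨ε⟩ := nonempty_stalk_Rpush_linearEquiv f F y p X₁ g hsq
  haveI : IsProper (X₁ ↘ Spec (CommRingCat.of (Y.presheaf.stalk y))) :=
    MorphismProperty.of_isPullback (P := @IsProper) hsq inferInstance
  have hG : Coh.IsCoh ((Scheme.Modules.pullback g).obj F) :=
    Groth.Agent.Lib.Helper12.H12ConsP.isCoh_pullback g F hF
  haveI hfin : Module.Finite (Y.presheaf.stalk y)
      (Coh.HH X₁ ((Scheme.Modules.pullback g).obj F) p) :=
    Groth.Agent.Lib.Helper12.H12Fin.module_finite_HH_of_isProper (Y.presheaf.stalk y) X₁ _ hG p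
  obtain ⟨ff⟩ := formal_functions (Y.presheaf.stalk y)
    (IsLocalRing.maximalIdeal (Y.presheaf.stalk y)) X₁ ((Scheme.Modules.pullback g).obj F) hG p
  refine ⟨Module.Finite.equiv ε.symm, ⟨(AdicCompletion.congr _ ε).toAddEquiv.trans ff⟩, ?_⟩
  intro hlim
  haveI : IsHausdorff (IsLocalRing.maximalIdeal (Y.presheaf.stalk y))
      (Coh.HH X₁ ((Scheme.Modules.pullback g).obj F) p) :=
    inferInstance
  have hsub : Subsingleton (Formal.HHlim (IsLocalRing.maximalIdeal (Y.presheaf.stalk y))
      ((Scheme.Modules.pullback g).obj F) p) := by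
    rw [hlim]
    infer_instance
  have hH : Subsingleton (Coh.HH X₁ ((Scheme.Modules.pullback g).obj F) p) := by
    refine ⟨fun a b => ?_⟩
    apply AdicCompletion.of_injective (IsLocalRing.maximalIdeal (Y.presheaf.stalk y))
      (Coh.HH X₁ ((Scheme.Modules.pullback g).obj F) p)
    apply ff.injective
    exact Subsingleton.elim _ _
  exact ε.toEquiv.subsingleton

theorem isZero_restrict_of_stalk (M : Y.Modules) (V : Y.Opens)
    (h : ∀ v : V, Subsingleton (M.presheaf.stalk (V.ι.base v))) : IsZero (M.restrict V.ι) := by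
  rw [isZero_iff_stalk_subsingleton]
  intro v
  have h2 : IsZero (M.presheaf.stalk (V.ι.base v)) :=
    @AddCommGrpCat.isZero_of_subsingleton _ (h v)
  exact AddCommGrpCat.subsingleton_of_isZero (h2.of_iso (restrictStalkIso V.ι M v))

include hF hsq in
theorem exists_nhd_Rpush_isZero
    (hlim : Formal.HHlim (IsLocalRing.maximalIdeal (Y.presheaf.stalk y))
      ((Scheme.Modules.pullback g).obj F) p = ⊥) :
    ∃ V : Y.Opens, y ∈ V ∧ IsZero (((Coh.Rpush f p).obj F).restrict V.ι) := by
  have hsub := (stalk_formal_functions f F hF y p X₁ g hsq).2.2 hlim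
  have hN : Coh.IsCoh ((Coh.Rpush f p).obj F) := Groth.Agent.S0036.result f F hF p
  haveI := hN.2
  have hcl := Groth.Agent.Lib.Helper12.H12Dev.isClosed_support ((Coh.Rpush f p).obj F)
  refine ⟨⟨(CohB1.support ((Coh.Rpush f p).obj F))ᶜ, hcl.isOpen_compl⟩, ?_, ?_⟩
  · exact fun h => h hsub
  · apply isZero_restrict_of_stalk
    intro v
    exact not_not.mp v.2

end Groth.Agent.Lib.Helper12.H12SF
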