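import Mathlib
import Groth.Agent.Lib.Helper12.PS5
import Groth.Agent.Lib.Helper12.SF5
import Groth.Agent.Lib.Helper12.FF7
import Groth.Agent.Lib.Helper5.Sobrify
import Groth.Agent.Lib.Helper5.RpushAb
import Groth.Agent.S0485

/-! # Vanishing of the stalks of higher direct images above the fibre dimension -/

set_option autoImplicit false
universe u
open CategoryTheory CategoryTheory.Limits AlgebraicGeometry TopologicalSpace Opposite

namespace Groth.Agent.Lib.Helper12.H12SV
open Groth.Agent.Lib.Helper29.QCoh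

section Support
variable {A : Type u} [CommRing A] [IsLocalRing A] {X₁ : Scheme.{u}}
  [X₁.Over (Spec (CommRingCat.of A))]

/-- a module killed by a power of the maximal ideal is supported in the closed fibre -/
theorem support_subset_closedFibre (N : X₁.Modules) (k : ℕ)
    (hN : ∀ a ∈ (IsLocalRing.maximalIdeal A) ^ k, Formal.smulMod A N a = 0) :
    CohB1.support N ⊆
      (X₁ ↘ Spec (CommRingCat.of A)).base ⁻¹' {IsLocalRing.closedPoint A} := by
  intro x hx
  by_contra hne
  apply hx
  set π := X₁ ↘ Spec (CommRingCat.of A) with hπ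
  have hne' : π.base x ≠ IsLocalRing.closedPoint A := hne
  -- an element of the maximal ideal outside the prime `π x`
  obtain ⟨a, ham, hap⟩ : ∃ a ∈ IsLocalRing.maximalIdeal A, a ∉ (π.base x).asIdeal := by
    by_contra hcon
    have hcon : ∀ a ∈ IsLocalRing.maximalIdeal A, a ∈ (π.base x).asIdeal := fun a ha => by
      by_contra h
      exact hcon ⟨a, ha, h⟩
    apply hne'
    apply PrimeSpectrum.ext
    change (π.base x).asIdeal = IsLocalRing.maximalIdeal A
    exact le_antisymm (IsLocalRing.le_maximalIdeal (π.base x).isPrime.ne_top) hcon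
  have hak : a ^ k ∈ (IsLocalRing.maximalIdeal A) ^ k := Ideal.pow_mem_pow ham k
  have hapk : a ^ k ∉ (π.base x).asIdeal := fun h => hap ((π.base x).isPrime.mem_of_pow_mem k h)
  set r : Coh.Γtop X₁ := Coh.toGlobal π (a ^ k) with hr
  have hxr : x ∈ X₁.basicOpen (show Γ(X₁, ⊤) from r) := by
    have h1 : π.base x ∈ (Spec (CommRingCat.of A)).basicOpen
        ((Scheme.ΓSpecIso (CommRingCat.of A)).inv (a ^ k)) := by
      rw [basicOpen_eq_of_affine]
      exact hapk
    have h2 : x ∈ π ⁻¹ᵁ (Spec (CommRingCat.of A)).basicOpen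
        ((Scheme.ΓSpecIso (CommRingCat.of A)).inv (a ^ k)) := h1
    rw [Scheme.preimage_basicOpen_top] at h2
    exact h2
  have hunit : IsUnit (X₁.presheaf.germ ⊤ x trivial (show Γ(X₁, ⊤) from r)) :=
    isUnit_germ_of_mem_basicOpen (U := ⊤) _ x trivial hxr
  refine ⟨fun t t' => ?_⟩
  suffices h : ∀ t : N.presheaf.stalk x, t = 0 by rw [h t, h t']
  intro t
  obtain ⟨U, hxU, s, rfl⟩ := N.presheaf.exists_germ_eq t
  have h0 : (Formal.smulMod A N (a ^ k)).app U s = 0 := by
    rw [hN _ hak]; rfl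
  have h1 : (Formal.smulMod A N (a ^ k)).app U s =
      (X₁.presheaf.map (homOfLE (le_top : U ≤ ⊤)).op (show Γ(X₁, ⊤) from r)) • s := rfl
  rw [h1] at h0
  have h2 := congrArg (N.presheaf.germ U x hxU) h0
  rw [germ_smul, map_zero] at h2
  have h3 : X₁.presheaf.germ U x hxU
      (X₁.presheaf.map (homOfLE (le_top : U ≤ ⊤)).op (show Γ(X₁, ⊤) from r)) =
      X₁.presheaf.germ ⊤ x trivial (show Γ(X₁, ⊤) from r) :=
    X₁.presheaf.germ_res_apply (homOfLE (le_top : U ≤ ⊤)) x hxU _
  rw [h3] at h2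
  exact eq_zero_of_isUnit_smul hunit h2

end Support

section Dim
variable {X Y : Scheme.{u}} (f : X ⟶ Y) (y : Y) (X₁ : Scheme.{u})
  [X₁.Over (Spec (CommRingCat.of (Y.presheaf.stalk y)))] (g : X₁ ⟶ X)
  (hsq : IsPullback g (X₁ ↘ Spec (CommRingCat.of (Y.presheaf.stalk y))) f (Y.fromSpecStalk y))
  {Z : Scheme.{u}} (i : Z ⟶ X₁) [IsClosedImmersion i]
  (hr : Set.range i.base ⊆ (X₁ ↘ Spec (CommRingCat.of (Y.presheaf.stalk y))).base ⁻¹'
    {IsLocalRing.closedPoint (Y.presheaf.stalk y)})

include hsq hr in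
/-- a closed subscheme of `X ×_Y Spec O_y` lying in the closed fibre has dimension at most that of
the fibre of `f` at `y` -/
theorem topologicalKrullDim_le_fiber :
    topologicalKrullDim Z ≤ topologicalKrullDim ↥(f.fiber y) := by
  haveI : IsPreimmersion g :=
    MorphismProperty.of_isPullback (P := @IsPreimmersion) hsq.flip inferInstance
  have hemb : Topology.IsEmbedding (i ≫ g).base := (i ≫ g).isEmbedding
  have hmem : ∀ z : Z, (i ≫ g).base z ∈ f.base ⁻¹' {y} := by
    intro z
    have h1 : (X₁ ↘ Spec (CommRingCat.of (Y.presheaf.stalk y))).base (i.base z) =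
        IsLocalRing.closedPoint (Y.presheaf.stalk y) := hr ⟨z, rfl⟩
    have h2 : f.base (g.base (i.base z)) =
        (Y.fromSpecStalk y).base ((X₁ ↘ Spec (CommRingCat.of (Y.presheaf.stalk y))).base
          (i.base z)) := by
      have := congrArg (fun φ => φ.base (i.base z)) hsq.w
      simpa using this
    change f.base (g.base (i.base z)) = y
    rw [h2, h1]
    exact Scheme.fromSpecStalk_closedPoint
  have hind : Topology.IsInducing (Set.codRestrict (i ≫ g).base (f.base ⁻¹' {y}) hmem) :=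
    hemb.isInducing.codRestrict hmem
  refine hind.topologicalKrullDim_le.trans (le_of_eq ?_)
  exact (IsHomeomorph.topologicalKrullDim_eq _ (f.fiberHomeo y).isHomeomorph).symm

end Dim

section Vanish
open Groth.Agent.Lib.Helper12.H12PS Groth.Agent.Lib.Helper12.H12FF
variable {X Y : Scheme.{u}} (f : X ⟶ Y) [IsProper f] [IsLocallyNoetherian Y] (y : Y) (d : ℕ)
  (hd : topologicalKrullDim ↥(f.fiber y) ≤ d) (X₁ : Scheme.{u})
  [X₁.Over (Spec (CommRingCat.of (Y.presheaf.stalk y)))] (g : X₁ ⟶ X)
  (hsq : IsPullback g (X₁ ↘ Spec (CommRingCat.of (Y.presheaf.stalk y))) f (Y.fromSpecStalk y))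
  (G : X₁.Modules) (hG : Coh.IsCoh G) (n p : ℕ) (hp : d < p)

include hd hsq hG hp in
theorem subsingleton_HHmodPow :
    Subsingleton (Formal.HHmodPow (IsLocalRing.maximalIdeal (Y.presheaf.stalk y)) G p n) := by
  haveI := hG.1
  haveI := hG.2
  let N : X₁.Modules := Formal.modPow (IsLocalRing.maximalIdeal (Y.presheaf.stalk y)) (n + 1) G
  haveI : N.IsQuasicoherent :=
    inferInstanceAs (Formal.modPow (IsLocalRing.maximalIdeal (Y.presheaf.stalk y)) (n + 1) G).IsQuasicoherent
  haveI : Epi (Formal.modPowπ (IsLocalRing.maximalIdeal (Y.presheaf.stalk y)) (n + 1) G) := inferInstance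
  haveI : N.IsFiniteType := isFiniteType_of_epi (Formal.modPowπ (IsLocalRing.maximalIdeal (Y.presheaf.stalk y)) (n + 1) G)
  let Z : Scheme.{u} := (annIdeal N).subscheme
  let i : Z ⟶ X₁ := (annIdeal N).subschemeι
  letI : Z.Over (Spec (CommRingCat.of (Y.presheaf.stalk y))) := ⟨i ≫ (X₁ ↘ Spec (CommRingCat.of (Y.presheaf.stalk y)))⟩
  have hi : i ≫ (X₁ ↘ Spec (CommRingCat.of (Y.presheaf.stalk y))) = Z ↘ Spec (CommRingCat.of (Y.presheaf.stalk y)) := rfl
  haveI : IsProper (X₁ ↘ Spec (CommRingCat.of (Y.presheaf.stalk y))) :=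
    MorphismProperty.of_isPullback (P := @IsProper) hsq inferInstance
  haveI : IsProper (Z ↘ Spec (CommRingCat.of (Y.presheaf.stalk y))) := by
    change IsProper (i ≫ (X₁ ↘ Spec (CommRingCat.of (Y.presheaf.stalk y))))
    infer_instance
  have hk : ∀ (U : X₁.affineOpens) (a : Γ(X₁, U.1)),
      a ∈ i.ker.ideal U → ∀ s : Γ(N, U.1), a • s = 0 := by
    intro U a ha s
    rw [Scheme.IdealSheafData.ker_subschemeι] at ha
    exact killed_of_epi (𝟙 N) U a ha s
  have hη : IsIso ((Scheme.Modules.pullbackPushforwardAdjunction i).unit.app N) :=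
    Groth.Agent.Helper19.ClImmUnit.isIso_unit_of_killed i N hk
  have hb := Theta_bijective (Y.presheaf.stalk y) i hi N hη (isQuasicoherent_pullback _ N) p
  have hr : Set.range i.base ⊆ (X₁ ↘ Spec (CommRingCat.of (Y.presheaf.stalk y))).base ⁻¹'
      {IsLocalRing.closedPoint (Y.presheaf.stalk y)} := by
    have h1 : Set.range i.base = ((annIdeal N).support : Set X₁) :=
      Scheme.IdealSheafData.range_subschemeι _
    rw [h1]
    exact (support_annIdeal_subset N).trans
      (support_subset_closedFibre N (n + 1) (fun a ha => smulMod_modPow_eq_zero (IsLocalRing.maximalIdeal (Y.presheaf.stalk y)) (n + 1) G a ha))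
  have hdim : topologicalKrullDim Z ≤ ((d : ℕ) : WithBot ℕ∞) :=
    (topologicalKrullDim_le_fiber f y X₁ g hsq i hr).trans hd
  haveI : IsLocallyNoetherian Z :=
    LocallyOfFiniteType.isLocallyNoetherian (Z ↘ Spec (CommRingCat.of (Y.presheaf.stalk y)))
  haveI : CompactSpace Z := by
    have : QuasiCompact (Z ↘ Spec (CommRingCat.of (Y.presheaf.stalk y))) := inferInstance
    exact (quasiCompact_iff_compactSpace (Z ↘ Spec (CommRingCat.of (Y.presheaf.stalk y)))).mp this
  haveI : IsNoetherian Z := {}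
  haveI hns : NoetherianSpace Z := inferInstance
  haveI : NoetherianSpace ↑Z.toTopCat := hns
  have hv : Subsingleton (Coh.HH Z ((Scheme.Modules.pullback i).obj N) p) :=
    Groth.Agent.Lib.Helper5.Sobrify.noetherian_vanishing (X := Z.toTopCat) d hdim
      (Coh.toAb ((Scheme.Modules.pullback i).obj N)) p hp
  exact ⟨fun a b => hb.1 (Subsingleton.elim _ _)⟩

end Vanish

section Final
variable {X Y : Scheme.{u}} (f : X ⟶ Y) [IsProper f] [IsLocallyNoetherian Y] (y : Y) (d : ℕ)
  (hd : topologicalKrullDim ↥(f.fiber y) ≤ d) (M : X.Modules) (hM : Coh.IsCoh M) (p : ℕ)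
  (hp : d < p)

include hd hM hp in
/-- **The stalks of `R^p f_* M` vanish above the fibre dimension.** -/
theorem isZero_stalk_RpushAb :
    IsZero (TopCat.Presheaf.stalk ((Coh.RpushAb f p).obj (Coh.toAb M)).obj y) := by
  haveI : EnoughInjectives X.Modules :=
    Groth.Agent.S0485.result (Opens.grothendieckTopology X) X.ringCatSheaf
  haveI : HasInjectiveResolutions X.Modules := inferInstance
  let X₁ : Scheme.{u} := pullback f (Y.fromSpecStalk y)
  letI : X₁.Over (Spec (CommRingCat.of (Y.presheaf.stalk y))) :=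
    ⟨pullback.snd f (Y.fromSpecStalk y)⟩
  let g : X₁ ⟶ X := pullback.fst f (Y.fromSpecStalk y)
  have hsq : IsPullback g (X₁ ↘ Spec (CommRingCat.of (Y.presheaf.stalk y))) f
      (Y.fromSpecStalk y) := IsPullback.of_hasPullback _ _
  have hG : Coh.IsCoh ((Scheme.Modules.pullback g).obj M) :=
    Groth.Agent.Lib.Helper12.H12ConsP.isCoh_pullback g M hM
  have hlim : Formal.HHlim (IsLocalRing.maximalIdeal (Y.presheaf.stalk y))
      ((Scheme.Modules.pullback g).obj M) p = ⊥ := by
    rw [eq_bot_iff]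
    intro x _
    rw [AddSubgroup.mem_bot]
    funext n
    exact (subsingleton_HHmodPow f y d hd X₁ g hsq _ hG n p hp).elim _ _
  have hsub := (Groth.Agent.Lib.Helper12.H12SF.stalk_formal_functions f M hM y p X₁ g hsq).2.2 hlim
  obtain ⟨e⟩ := Groth.Agent.Lib.Helper5.RpushAb.main f M p
  have h0 : IsZero (((Coh.Rpush f p).obj M).presheaf.stalk y) :=
    @AddCommGrpCat.isZero_of_subsingleton _ hsub
  exact h0.of_iso ((TopCat.Presheaf.stalkFunctor AddCommGrpCat.{u} y).mapIso
    ((sheafToPresheaf _ _).mapIso e)).symm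

end Final

end Groth.Agent.Lib.Helper12.H12SV
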