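import Mathlib
import Groth.Prelude.Def_CInt

/-!
# Schematically dense open subschemes

Basis criterion, and stability under flat pullback when the open is locally quasi-compact
(e.g. over a locally Noetherian base).
-/

universe u

namespace Groth.Agent.Lib.Helper12.SchDense

open AlgebraicGeometry CategoryTheory TopologicalSpace

/-- Algebra: flat base change of an injective map `A → A^s`, `a ↦ (b a)_{b ∈ s}`. -/
lemma eq_zero_of_flat {A B : Type*} [CommRing A] [CommRing B] (φ : A →+* B) (hφ : φ.Flat)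
    (s : Finset A) (hs : ∀ a : A, (∀ b ∈ s, b * a = 0) → a = 0) (t : B)
    (ht : ∀ b ∈ s, φ b * t = 0) : t = 0 := by
  classical
  let _ := φ.toAlgebra
  have : Module.Flat A B := hφ
  let ψ : A →ₗ[A] (s → A) := LinearMap.pi fun b => LinearMap.mulLeft A (b : A)
  have hψ : Function.Injective ψ := by
    rw [injective_iff_map_eq_zero]
    intro a ha
    apply hs a
    intro b hb
    have := congrFun ha ⟨b, hb⟩
    simpa [ψ] using this
  have hinj := Module.Flat.lTensor_preserves_injective_linearMap (M := B) ψ hψ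
  have h1 : (ψ.lTensor B) (t ⊗ₜ[A] (1 : A)) = 0 := by
    rw [LinearMap.lTensor_tmul]
    have hψ1 : ψ 1 = ∑ b : s, (b : A) • (Pi.single b (1 : A) : s → A) := by
      ext b
      simp [ψ, Finset.sum_apply, Pi.single_apply]
    rw [hψ1, TensorProduct.tmul_sum]
    refine Finset.sum_eq_zero fun b _ => ?_
    rw [TensorProduct.tmul_smul, TensorProduct.smul_tmul']
    have : (b : A) • t = 0 := by
      rw [Algebra.smul_def]
      exact ht b b.2
    rw [this, TensorProduct.zero_tmul]
  have h2 : t ⊗ₜ[A] (1 : A) = 0 := hinj (by rw [h1, map_zero])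
  have h3 := congrArg (TensorProduct.rid A B) h2
  simpa using h3

/-- Basis criterion for schematic density. -/
theorem of_basis {X : Scheme.{u}} (U : X.Opens) (B : Set X.Opens) (hB : Opens.IsBasis B)
    (h : ∀ W ∈ B, Function.Injective (X.presheaf.map (homOfLE (inf_le_left : W ⊓ U ≤ W)).op)) :
    CInt.IsSchematicallyDense U := by
  intro V
  rw [injective_iff_map_eq_zero]
  intro t ht
  refine TopCat.Presheaf.section_ext X.sheaf V t 0 ?_
  intro x hx
  obtain ⟨W, hW, hxW, hWV⟩ := (Opens.isBasis_iff_nbhd.1 hB) hx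
  have h0 : X.presheaf.map (homOfLE hWV).op t = 0 := by
    apply h W hW
    rw [map_zero]
    have h1 : X.presheaf.map (homOfLE (inf_le_left : W ⊓ U ≤ W)).op
        (X.presheaf.map (homOfLE hWV).op t) =
        X.presheaf.map (homOfLE (inf_le_inf_right U hWV)).op
          (X.presheaf.map (homOfLE (inf_le_left : V ⊓ U ≤ V)).op t) := by
      rw [← CommRingCat.comp_apply, ← CommRingCat.comp_apply, ← Functor.map_comp,
        ← Functor.map_comp]
      rfl
    rw [h1, ht, map_zero]
  have h2 := TopCat.Presheaf.germ_res_apply X.presheaf (homOfLE hWV) x hxW t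
  change X.presheaf.germ V x hx t = X.presheaf.germ V x hx 0
  rw [map_zero, ← h2, h0, map_zero]

/-- Monotonicity. -/
theorem mono {X : Scheme.{u}} {U U' : X.Opens} (hUU' : U ≤ U') (hU : CInt.IsSchematicallyDense U) :
    CInt.IsSchematicallyDense U' := by
  intro V
  have h1 : X.presheaf.map (homOfLE (inf_le_left : V ⊓ U ≤ V)).op =
      X.presheaf.map (homOfLE (inf_le_left : V ⊓ U' ≤ V)).op ≫
        X.presheaf.map (homOfLE (inf_le_inf_left V hUU')).op := by
    rw [← Functor.map_comp]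
    rfl
  intro a b hab
  apply hU V
  rw [h1, CommRingCat.comp_apply, CommRingCat.comp_apply, hab]

/-- A compact open of an affine open is a finite union of basic opens. -/
lemma exists_finset_basicOpen_cover {X : Scheme.{u}} {W : X.Opens} (hW : IsAffineOpen W)
    (O : X.Opens) (hOW : O ≤ W) (hO : IsCompact (O : Set X)) :
    ∃ s : Finset Γ(X, W), (∀ a ∈ s, X.basicOpen a ≤ O) ∧
      ∀ x ∈ O, ∃ a ∈ s, x ∈ X.basicOpen a := by
  classical
  choose a ha1 ha2 using fun x : O => hW.exists_basicOpen_le x (hOW x.2)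
  obtain ⟨t, ht⟩ := hO.elim_finite_subcover (fun x : O => (X.basicOpen (a x) : Set X))
    (fun x => (X.basicOpen (a x)).isOpen)
    (fun x hx => Set.mem_iUnion.2 ⟨⟨x, hx⟩, ha2 ⟨x, hx⟩⟩)
  refine ⟨t.image a, ?_, ?_⟩
  · intro b hb
    obtain ⟨x, _, rfl⟩ := Finset.mem_image.1 hb
    exact ha1 x
  · intro x hx
    obtain ⟨y, hy, hxy⟩ : ∃ y ∈ t, x ∈ X.basicOpen (a y) := by simpa using ht hx
    exact ⟨a y, Finset.mem_image_of_mem _ hy, hxy⟩

/-- If the basic opens `D(b)`, `b ∈ s`, cover `W ⊓ V`, `W` affine, and `Γ(W) → Γ(W ⊓ V)` is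
injective, then `a ↦ (b^N a)_b` is injective. -/
lemma eq_zero_of_forall_pow_mul_eq_zero {X : Scheme.{u}} {W : X.Opens} (V : X.Opens)
    (hinj : Function.Injective (X.presheaf.map (homOfLE (inf_le_left : W ⊓ V ≤ W)).op))
    (s : Finset Γ(X, W)) (hs : ∀ x ∈ W ⊓ V, ∃ a ∈ s, x ∈ X.basicOpen a) (N : ℕ)
    (a : Γ(X, W)) (ha : ∀ b ∈ s, b ^ N * a = 0) : a = 0 := by
  apply hinj
  rw [map_zero]
  refine TopCat.Presheaf.section_ext X.sheaf (W ⊓ V) _ 0 ?_
  intro x hx
  obtain ⟨b, hb, hxb⟩ := hs x hx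
  have hxW : x ∈ W := hx.1
  have hu : IsUnit (X.presheaf.germ W x hxW b) := (X.mem_basicOpen b x hxW).1 hxb
  have h1 := congrArg (X.presheaf.germ W x hxW) (ha b hb)
  rw [map_mul, map_pow, map_zero] at h1
  have h2 : X.presheaf.germ W x hxW a = 0 := (hu.pow N).mul_right_eq_zero.1 h1
  have h3 := TopCat.Presheaf.germ_res_apply X.presheaf
    (homOfLE (inf_le_left : W ⊓ V ≤ W)) x hx a
  change X.presheaf.germ (W ⊓ V) x hx _ = X.presheaf.germ (W ⊓ V) x hx 0
  rw [map_zero]
  exact h3.trans h2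

/-- Core affine-local statement: flat pullback preserves injectivity of restriction to a
quasi-compact open. -/
theorem injective_of_flat {X X' : Scheme.{u}} (f : X' ⟶ X) [Flat f] (V : X.Opens)
    {W : X.Opens} (hW : IsAffineOpen W) {W' : X'.Opens} (hW' : IsAffineOpen W')
    (e : W' ≤ f ⁻¹ᵁ W) (hc : IsCompact ((W ⊓ V : X.Opens) : Set X))
    (hinj : Function.Injective (X.presheaf.map (homOfLE (inf_le_left : W ⊓ V ≤ W)).op)) :
    Function.Injective
      (X'.presheaf.map (homOfLE (inf_le_left : W' ⊓ f ⁻¹ᵁ V ≤ W')).op) := by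
  classical
  rw [injective_iff_map_eq_zero]
  intro t ht
  obtain ⟨s, hs1, hs2⟩ := exists_finset_basicOpen_cover hW (W ⊓ V) inf_le_left hc
  set φ := (f.appLE W W' e).hom with hφ
  have hφflat : φ.Flat := f.flat_appLE hW hW' e
  -- each `φ b` kills `t` up to a power
  have h1 : ∀ b : Γ(X, W), ∃ n : ℕ, b ∈ s → φ b ^ n * t = 0 := by
    intro b
    by_cases hb : b ∈ s
    · have hle : X'.basicOpen (φ b) ≤ W' ⊓ f ⁻¹ᵁ V := by
        rw [hφ, Scheme.basicOpen_appLE]
        refine inf_le_inf_left _ ?_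
        intro x hx
        exact ((hs1 b hb) hx).2
      have H : X'.presheaf.map (homOfLE (X'.basicOpen_le (φ b))).op t = 0 := by
        have h1 : X'.presheaf.map (homOfLE (X'.basicOpen_le (φ b))).op t =
            X'.presheaf.map (homOfLE hle).op
              (X'.presheaf.map (homOfLE (inf_le_left : W' ⊓ f ⁻¹ᵁ V ≤ W')).op t) := by
          rw [← CommRingCat.comp_apply, ← Functor.map_comp]
          rfl
        rw [h1, ht, map_zero]
      obtain ⟨n, hn⟩ :=
        exists_pow_mul_eq_zero_of_res_basicOpen_eq_zero_of_isAffineOpen X' hW' t (φ b) H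
      exact ⟨n, fun _ => hn⟩
    · exact ⟨0, fun h => (hb h).elim⟩
  choose n hn using h1
  set N := s.sup n with hN
  have h2 : ∀ b ∈ s, φ b ^ N * t = 0 := by
    intro b hb
    have hle : n b ≤ N := Finset.le_sup hb
    rw [← Nat.sub_add_cancel hle, pow_add, mul_assoc, hn b hb, mul_zero]
  refine eq_zero_of_flat φ hφflat (s.image (· ^ N)) ?_ t ?_
  · intro a ha
    refine eq_zero_of_forall_pow_mul_eq_zero V hinj s hs2 N a ?_
    intro b hb
    exact ha _ (Finset.mem_image_of_mem _ hb)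
  · intro b' hb'
    obtain ⟨b, hb, rfl⟩ := Finset.mem_image.1 hb'
    rw [map_pow]
    exact h2 b hb

/-- Flat pullback preserves schematic density of opens that are quasi-compact inside every
affine open of the target. -/
theorem preimage_of_flat {X X' : Scheme.{u}} (f : X' ⟶ X) [Flat f] (V : X.Opens)
    (hV : CInt.IsSchematicallyDense V)
    (hc : ∀ W : X.Opens, IsAffineOpen W → IsCompact ((W ⊓ V : X.Opens) : Set X)) :
    CInt.IsSchematicallyDense (f ⁻¹ᵁ V) := by
  refine of_basis _ {W' : X'.Opens | IsAffineOpen W' ∧ ∃ W : X.Opens, IsAffineOpen W ∧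
    W' ≤ f ⁻¹ᵁ W} ?_ ?_
  · rw [Opens.isBasis_iff_nbhd]
    intro U x hx
    obtain ⟨W, hW, hxW, -⟩ := (Opens.isBasis_iff_nbhd.1 X.isBasis_affineOpens)
      (show f x ∈ (⊤ : X.Opens) from trivial)
    obtain ⟨W', hW', hxW', hW'U⟩ := (Opens.isBasis_iff_nbhd.1 X'.isBasis_affineOpens)
      (show x ∈ f ⁻¹ᵁ W ⊓ U from ⟨hxW, hx⟩)
    exact ⟨W', ⟨hW', W, hW, hW'U.trans inf_le_left⟩, hxW', hW'U.trans inf_le_right⟩
  · rintro W' ⟨hW', W, hW, e⟩
    exact injective_of_flat f V hW hW' e (hc W hW) (hV W)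

/-- Flat pullback preserves schematic density over a locally Noetherian base. -/
theorem preimage_of_flat_of_isLocallyNoetherian {X X' : Scheme.{u}} (f : X' ⟶ X) [Flat f]
    [IsLocallyNoetherian X] (V : X.Opens) (hV : CInt.IsSchematicallyDense V) :
    CInt.IsSchematicallyDense (f ⁻¹ᵁ V) := by
  refine preimage_of_flat f V hV ?_
  intro W hW
  have : IsNoetherianRing Γ(X, W) := IsLocallyNoetherian.component_noetherian ⟨W, hW⟩
  have hN := noetherianSpace_of_isAffineOpen W hW
  have h1 : IsCompact {x : W | (x : X) ∈ V} := @NoetherianSpace.isCompact _ _ hN _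
  have h2 := h1.image continuous_subtype_val
  convert h2 using 1
  ext x
  simp only [Opens.coe_inf, Set.mem_inter_iff, SetLike.mem_coe, Set.mem_image, Set.mem_ofPred_eq,
    Subtype.exists, exists_and_right, exists_eq_right]
  tauto

/-- A schematically dense open is dense. -/
theorem dense {X : Scheme.{u}} {U : X.Opens} (hU : CInt.IsSchematicallyDense U) :
    Dense (U : Set X) := by
  rw [dense_iff_inter_open]
  intro O hO hne
  by_contra hcon
  let V : X.Opens := ⟨O, hO⟩
  have hVU : V ⊓ U = ⊥ := by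
    ext x
    simp only [Opens.coe_inf, Set.mem_inter_iff, SetLike.mem_coe, Opens.coe_bot,
      Set.mem_empty_iff_false, iff_false, not_and]
    intro hxO hxU
    exact hcon ⟨x, hxO, hxU⟩
  have hinj := hU V
  have hsub : Subsingleton Γ(X, V ⊓ U) := by
    rw [hVU]
    infer_instance
  have hsubV : Subsingleton Γ(X, V) := hinj.subsingleton
  obtain ⟨x, hx⟩ := hne
  have hx' : x ∈ V := hx
  have : (1 : X.presheaf.stalk x) = 0 := by
    rw [← map_one (X.presheaf.germ V x hx').hom, ← map_zero (X.presheaf.germ V x hx').hom]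
    congr 1
    exact Subsingleton.elim _ _
  exact one_ne_zero this

/-- On a reduced scheme, a dense open is schematically dense. -/
theorem of_dense_of_isReduced {X : Scheme.{u}} [IsReduced X] {U : X.Opens}
    (hU : Dense (U : Set X)) : CInt.IsSchematicallyDense U := by
  intro V
  rw [injective_iff_map_eq_zero]
  intro t ht
  rw [← basicOpen_eq_bot_iff]
  have h1 : X.basicOpen (X.presheaf.map (homOfLE (inf_le_left : V ⊓ U ≤ V)).op t) = ⊥ := by
    rw [ht]
    simp
  rw [Scheme.basicOpen_res] at h1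
  by_contra hne
  have hne' : (X.basicOpen t : Set X).Nonempty := by
    rw [Set.nonempty_iff_ne_empty]
    intro h
    apply hne
    ext x
    simp [h]
  obtain ⟨y, hy1, hy2⟩ := hU.inter_open_nonempty _ (X.basicOpen t).isOpen hne'
  have hy : y ∈ (V ⊓ U) ⊓ X.basicOpen t := ⟨⟨X.basicOpen_le t hy1, hy2⟩, hy1⟩
  rw [h1] at hy
  exact hy.elim

theorem iff_dense_of_isReduced {X : Scheme.{u}} [IsReduced X] {U : X.Opens} :
    CInt.IsSchematicallyDense U ↔ Dense (U : Set X) :=
  ⟨dense, of_dense_of_isReduced⟩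

section topology

variable {X X' : Type*} [TopologicalSpace X] [TopologicalSpace X']

/-- With locally finite irreducible components, a dense open meets every irreducible
component. -/
lemma inter_nonempty_of_dense_of_mem_irreducibleComponents
    (hfin : ∀ x : X, ∃ W : Set X, IsOpen W ∧ x ∈ W ∧
      {Z ∈ irreducibleComponents X | (Z ∩ W).Nonempty}.Finite)
    {V : Set X} (hV : Dense V) {Z : Set X} (hZ : Z ∈ irreducibleComponents X) :
    (V ∩ Z).Nonempty := by
  classical
  obtain ⟨x, hxZ⟩ := hZ.1.nonempty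
  obtain ⟨W, hWo, hxW, hF⟩ := hfin x
  set F := {Z ∈ irreducibleComponents X | (Z ∩ W).Nonempty} with hFdef
  have hZF : Z ∈ F := ⟨hZ, ⟨x, hxZ, hxW⟩⟩
  set F' : Finset (Set X) := hF.toFinset.erase Z with hF'
  have hF'closed : ∀ Z₁ ∈ F', IsClosed Z₁ := by
    intro Z₁ hZ₁
    have : Z₁ ∈ F := hF.mem_toFinset.1 (Finset.mem_of_mem_erase hZ₁)
    exact isClosed_of_mem_irreducibleComponents _ this.1
  set C : Set X := ⋃₀ (F' : Set (Set X)) with hC
  have hCclosed : IsClosed C := by
    rw [hC, Set.sUnion_eq_biUnion]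
    exact F'.finite_toSet.isClosed_biUnion fun Z₁ hZ₁ => hF'closed Z₁ hZ₁
  -- `W \ C` meets `Z`
  have h1 : (Z ∩ (W \ C)).Nonempty := by
    by_contra hcon
    rw [Set.not_nonempty_iff_eq_empty] at hcon
    have hsub : Z ⊆ ⋃₀ ((insert Wᶜ F' : Finset (Set X)) : Set (Set X)) := by
      intro z hz
      by_cases hzW : z ∈ W
      · by_cases hzC : z ∈ C
        · obtain ⟨Z₁, hZ₁, hzZ₁⟩ := hzC
          exact ⟨Z₁, by simp [hZ₁] , hzZ₁⟩
        · exact absurd (show z ∈ Z ∩ (W \ C) from ⟨hz, hzW, hzC⟩) (by rw [hcon]; simp)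
      · exact ⟨Wᶜ, by simp, hzW⟩
    obtain ⟨Z₁, hZ₁, hZZ₁⟩ := (isIrreducible_iff_sUnion_isClosed.1 hZ.1) _
      (by
        intro Z₁ hZ₁
        rcases Finset.mem_insert.1 hZ₁ with rfl | h
        · exact hWo.isClosed_compl
        · exact hF'closed _ h) hsub
    rcases Finset.mem_insert.1 hZ₁ with rfl | h
    · exact hZZ₁ hxZ hxW
    · have hZ₁F : Z₁ ∈ F := hF.mem_toFinset.1 (Finset.mem_of_mem_erase h)
      have : Z₁ = Z := le_antisymm (hZ.2 hZ₁F.1.1 hZZ₁) hZZ₁
      exact (Finset.ne_of_mem_erase h) this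
  -- `W \ C ⊆ Z`
  have h2 : W \ C ⊆ Z := by
    rintro w ⟨hwW, hwC⟩
    by_contra hwZ
    have hZ₂ := irreducibleComponent_mem_irreducibleComponents w
    have hZ₂F : irreducibleComponent w ∈ F := ⟨hZ₂, ⟨w, mem_irreducibleComponent, hwW⟩⟩
    have hne : irreducibleComponent w ≠ Z := by
      intro h
      exact hwZ (h ▸ mem_irreducibleComponent)
    exact hwC ⟨irreducibleComponent w,
      Finset.mem_erase.2 ⟨hne, hF.mem_toFinset.2 hZ₂F⟩, mem_irreducibleComponent⟩
  obtain ⟨y, hy⟩ := h1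
  obtain ⟨v, hv1, hv2⟩ := hV.inter_open_nonempty _ (hWo.sdiff hCclosed) ⟨y, hy.2⟩
  exact ⟨v, hv2, h2 hv1⟩

/-- If the irreducible components of `X` are locally finite and every irreducible component of
`X'` dominates one of `X`, then the preimage of a dense open is dense. -/
lemma dense_preimage_of_components_dominate {f : X' → X} (hf : Continuous f)
    (hfin : ∀ x : X, ∃ W : Set X, IsOpen W ∧ x ∈ W ∧
      {Z ∈ irreducibleComponents X | (Z ∩ W).Nonempty}.Finite)
    (hdom : ∀ Z' ∈ irreducibleComponents X', closure (f '' Z') ∈ irreducibleComponents X)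
    {V : Set X} (hVo : IsOpen V) (hV : Dense V) : Dense (f ⁻¹' V) := by
  rw [dense_iff_inter_open]
  rintro O' hO' ⟨x', hx'⟩
  have hZ' := irreducibleComponent_mem_irreducibleComponents x'
  obtain ⟨v, hvV, hvZ⟩ :=
    inter_nonempty_of_dense_of_mem_irreducibleComponents hfin hV (hdom _ hZ')
  obtain ⟨_, hw1, ⟨z', hz', rfl⟩⟩ := mem_closure_iff.1 hvZ V hVo hvV
  obtain ⟨w, hwZ, hwO, hwV⟩ := hZ'.1.2 O' (f ⁻¹' V) hO' (hVo.preimage hf)
    ⟨x', mem_irreducibleComponent, hx'⟩ ⟨z', hz', hw1⟩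
  exact ⟨w, hwO, hwV⟩

end topology

section algebra

variable {R : Type*} [CommRing R]

/-- Noetherian case: an ideal consisting of zero divisors is killed by a nonzero element. -/
lemma exists_ne_zero_mul_eq_zero_of_noetherian [IsNoetherianRing R] (I : Ideal R)
    (hI : ∀ a ∈ I, a ∉ nonZeroDivisors R) : ∃ m : R, m ≠ 0 ∧ ∀ a ∈ I, a * m = 0 := by
  classical
  have hfin : (associatedPrimes R R).Finite := associatedPrimes.finite R R
  have hsub : (I : Set R) ⊆ ⋃ p ∈ (hfin.toFinset : Set (Ideal R)), (id p : Ideal R) := by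
    intro a ha
    have h1 : a ∈ ((nonZeroDivisors R : Set R))ᶜ := hI a ha
    rw [← biUnion_associatedPrimes_eq_compl_nonZeroDivisors] at h1
    simpa using h1
  obtain ⟨p, hp, hIp⟩ := (Ideal.subset_union_prime (R := R) (s := hfin.toFinset) (f := id)
    ⊥ ⊥ (fun q hq _ _ => (hfin.mem_toFinset.1 hq).isPrime)).1 hsub
  have hp' : IsAssociatedPrime p R := hfin.mem_toFinset.1 hp
  obtain ⟨hpp, m, hm⟩ := isAssociatedPrime_iff.1 hp'
  refine ⟨m, ?_, fun a ha => ?_⟩
  · rintro rfl
    apply hpp.ne_top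
    rw [hm, Ideal.eq_top_iff_one, Submodule.mem_colon_singleton]
    simp
  · have : a ∈ (⊥ : Submodule R R).colon {m} := hm ▸ hIp ha
    rw [Submodule.mem_colon_singleton] at this
    simpa using this

/-- Reduced case with finitely many minimal primes: an element outside all minimal primes is a
nonzerodivisor. -/
lemma mem_nonZeroDivisors_of_forall_notMem_minimalPrimes [IsReduced R] (a : R)
    (ha : ∀ q ∈ minimalPrimes R, a ∉ q) : a ∈ nonZeroDivisors R := by
  rw [mem_nonZeroDivisors_iff_right]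
  intro b hb
  have : b ∈ sInf (minimalPrimes R) := by
    rw [Ideal.mem_sInf]
    intro q hq
    have hqp : q.IsPrime := hq.1.1
    have : b * a ∈ q := by rw [hb]; exact zero_mem _
    exact (hqp.mem_or_mem this).resolve_right (ha q hq)
  rw [minimalPrimes, Ideal.sInf_minimalPrimes] at this
  have hn : IsNilpotent b := by
    rwa [← mem_nilradical, nilradical]
  exact hn.eq_zero

/-- Reduced case with finitely many minimal primes: a minimal prime is killed by a nonzero
element. -/
lemma exists_ne_zero_mul_eq_zero_of_mem_minimalPrimes [IsReduced R]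
    (hfin : (minimalPrimes R).Finite) {p : Ideal R} (hp : p ∈ minimalPrimes R) :
    ∃ m : R, m ≠ 0 ∧ ∀ a ∈ p, a * m = 0 := by
  classical
  set S := hfin.toFinset.erase p with hS
  have hpp : p.IsPrime := hp.1.1
  have hJ : ¬ (S.inf id ≤ p) := by
    intro h
    obtain ⟨q, hq, hqp⟩ := (Ideal.IsPrime.inf_le' hpp).1 h
    have hq' : q ∈ minimalPrimes R := hfin.mem_toFinset.1 (Finset.mem_of_mem_erase hq)
    have : p ≤ q := hp.2 ⟨hq'.1.1, bot_le⟩ hqp
    exact Finset.ne_of_mem_erase hq (le_antisymm hqp this)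
  obtain ⟨m, hmJ, hmp⟩ := SetLike.not_le_iff_exists.1 hJ
  refine ⟨m, fun h => hmp (h ▸ zero_mem _), fun a ha => ?_⟩
  have hmem : a * m ∈ sInf (minimalPrimes R) := by
    rw [Ideal.mem_sInf]
    intro q hq
    by_cases hqp : q = p
    · subst hqp
      exact Ideal.mul_mem_right _ _ ha
    · have hle : S.inf id ≤ q :=
        Finset.inf_le (f := id) (Finset.mem_erase.2 ⟨hqp, hfin.mem_toFinset.2 hq⟩)
      exact Ideal.mul_mem_left _ _ (hle hmJ)
  rw [minimalPrimes, Ideal.sInf_minimalPrimes] at hmem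
  have hn : IsNilpotent (a * m) := by
    rwa [← mem_nilradical, nilradical]
  exact hn.eq_zero

/-- Reduced case with finitely many minimal primes: an ideal consisting of zero divisors is killed
by a nonzero element. -/
lemma exists_ne_zero_mul_eq_zero_of_isReduced [IsReduced R] (hfin : (minimalPrimes R).Finite)
    (I : Ideal R) (hI : ∀ a ∈ I, a ∉ nonZeroDivisors R) :
    ∃ m : R, m ≠ 0 ∧ ∀ a ∈ I, a * m = 0 := by
  classical
  have hsub : (I : Set R) ⊆ ⋃ p ∈ (hfin.toFinset : Set (Ideal R)), (id p : Ideal R) := by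
    intro a ha
    by_contra hcon
    apply hI a ha
    apply mem_nonZeroDivisors_of_forall_notMem_minimalPrimes
    intro q hq haq
    apply hcon
    simp only [Set.mem_iUnion, exists_prop]
    exact ⟨q, by simpa using hq, haq⟩
  obtain ⟨p, hp, hIp⟩ := (Ideal.subset_union_prime (R := R) (s := hfin.toFinset) (f := id)
    ⊥ ⊥ (fun q hq _ _ => (hfin.mem_toFinset.1 hq).1.1)).1 hsub
  obtain ⟨m, hm0, hm⟩ :=
    exists_ne_zero_mul_eq_zero_of_mem_minimalPrimes hfin (hfin.mem_toFinset.1 hp)
  exact ⟨m, hm0, fun a ha => hm a (hIp ha)⟩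

end algebra

section affine

/-- If the germs of a global section `s` are nonzerodivisors in all stalks, then `X_s` is
schematically dense. -/
theorem basicOpen_of_germ_mem_nonZeroDivisors (X : Scheme.{u}) (s : Γ(X, ⊤))
    (hs : ∀ x : ↥X, (X.presheaf.germ ⊤ x trivial s) ∈ nonZeroDivisors ↑(X.presheaf.stalk x)) :
    CInt.IsSchematicallyDense (X.basicOpen s) := by
  intro V
  rw [injective_iff_map_eq_zero]
  intro t ht
  refine TopCat.Presheaf.section_ext X.sheaf V t 0 ?_
  intro x hx
  obtain ⟨W, hW, hxW, hWV⟩ := (Opens.isBasis_iff_nbhd.1 X.isBasis_affineOpens) hx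
  have hWaff : IsAffineOpen W := hW
  set tW : Γ(X, W) := X.presheaf.map (homOfLE hWV).op t with htW
  set sW : Γ(X, W) := X.presheaf.map (homOfLE (le_top : W ≤ ⊤)).op s with hsW
  have hle : X.basicOpen sW ≤ V ⊓ X.basicOpen s := by
    rw [hsW, Scheme.basicOpen_res]
    exact inf_le_inf_right _ hWV
  have H : X.presheaf.map (homOfLE (X.basicOpen_le sW)).op tW = 0 := by
    have h1 : X.presheaf.map (homOfLE (X.basicOpen_le sW)).op tW =
        X.presheaf.map (homOfLE hle).op
          (X.presheaf.map (homOfLE (inf_le_left : V ⊓ X.basicOpen s ≤ V)).op t) := by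
      rw [htW, ← CommRingCat.comp_apply, ← CommRingCat.comp_apply, ← Functor.map_comp,
        ← Functor.map_comp]
      rfl
    rw [h1, ht, map_zero]
  obtain ⟨n, hn⟩ := exists_pow_mul_eq_zero_of_res_basicOpen_eq_zero_of_isAffineOpen X hWaff tW sW H
  have h2 := congrArg (X.presheaf.germ W x hxW) hn
  rw [map_mul, map_pow, map_zero, htW, hsW, TopCat.Presheaf.germ_res_apply,
    TopCat.Presheaf.germ_res_apply] at h2
  rw [map_zero]
  have h3 := pow_mem (hs x) n
  rw [mul_comm] at h2
  exact (mul_right_mem_nonZeroDivisors_eq_zero_iff h3).1 h2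

/-- On an affine scheme, germs of a nonzerodivisor are nonzerodivisors. -/
lemma germ_mem_nonZeroDivisors_of_isAffine {X : Scheme.{u}} [IsAffine X] (t : Γ(X, ⊤))
    (ht : t ∈ nonZeroDivisors Γ(X, ⊤)) (x : X) :
    X.presheaf.germ ⊤ x trivial t ∈ nonZeroDivisors (X.presheaf.stalk x) := by
  let _ := X.presheaf.algebra_section_stalk (U := ⊤) ⟨x, trivial⟩
  have hloc := (isAffineOpen_top X).isLocalization_stalk ⟨x, trivial⟩
  have h := IsLocalization.map_nonZeroDivisors_le
    ((isAffineOpen_top X).primeIdealOf ⟨x, trivial⟩).asIdeal.primeCompl (X.presheaf.stalk x)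
  exact h ⟨t, ht, rfl⟩

/-- The ideal of global sections whose basic open lies in `U`. -/
def idealOfOpen (X : Scheme.{u}) (U : X.Opens) : Ideal Γ(X, ⊤) where
  carrier := {a | X.basicOpen a ≤ U}
  add_mem' := fun {a b} ha hb => (X.basicOpen_add_le a b).trans (sup_le ha hb)
  zero_mem' := by simp
  smul_mem' := fun c {a} ha => by
    change X.basicOpen (c * a) ≤ U
    rw [Scheme.basicOpen_mul]
    exact inf_le_right.trans ha

lemma eq_zero_of_forall_mul_eq_zero {X : Scheme.{u}} [IsAffine X] {U : X.Opens}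
    (hU : CInt.IsSchematicallyDense U) (m : Γ(X, ⊤))
    (hm : ∀ a : Γ(X, ⊤), X.basicOpen a ≤ U → a * m = 0) : m = 0 := by
  apply hU ⊤
  rw [map_zero]
  refine TopCat.Presheaf.section_ext X.sheaf (⊤ ⊓ U) _ 0 ?_
  intro x hx
  obtain ⟨a, haU, hxa⟩ := (isAffineOpen_top X).exists_basicOpen_le (V := U) ⟨x, hx.2⟩ trivial
  have hu : IsUnit (X.presheaf.germ ⊤ x trivial a) := (X.mem_basicOpen a x trivial).1 hxa
  have h1 := congrArg (X.presheaf.germ ⊤ x trivial) (hm a haU)
  rw [map_mul, map_zero] at h1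
  have h2 : X.presheaf.germ ⊤ x trivial m = 0 := hu.mul_right_eq_zero.1 h1
  have h3 := TopCat.Presheaf.germ_res_apply X.presheaf
    (homOfLE (inf_le_left : ⊤ ⊓ U ≤ ⊤)) x hx m
  change X.presheaf.germ (⊤ ⊓ U) x hx _ = X.presheaf.germ (⊤ ⊓ U) x hx 0
  rw [map_zero]
  exact h3.trans h2

lemma finite_minimalPrimes_of_finite_irreducibleComponents {X : Scheme.{u}} [IsAffine X]
    (hF : (irreducibleComponents ↥X).Finite) : (minimalPrimes Γ(X, ⊤)).Finite := by
  let h : X ≃ₜ Spec Γ(X, ⊤) := Scheme.homeoOfIso X.isoSpec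
  let e := irreducibleComponentsEquivOfIsPreirreducibleFiber h h.continuous h.isOpenMap
    (fun x => (Set.subsingleton_singleton.preimage h.injective).isPreirreducible) h.surjective
  have hF1 : Finite (irreducibleComponents ↥X) := hF.to_subtype
  have hF2 : Finite (irreducibleComponents ↥(Spec Γ(X, ⊤))) := Finite.of_equiv _ e.symm.toEquiv
  have hF3 : (irreducibleComponents (PrimeSpectrum Γ(X, ⊤))).Finite :=
    @Set.toFinite _ _ hF2
  rw [← PrimeSpectrum.vanishingIdeal_irreducibleComponents]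
  exact hF3.image _

theorem iff_exists_basicOpen_le {X : Scheme.{u}} [IsAffine X]
    (hX : IsNoetherian X ∨ (IsReduced X ∧ (irreducibleComponents ↥X).Finite)) (U : X.Opens) :
    CInt.IsSchematicallyDense U ↔
      ∃ t : Γ(X, ⊤), t ∈ nonZeroDivisors Γ(X, ⊤) ∧ X.basicOpen t ≤ U := by
  constructor
  · intro hU
    by_contra hcon
    push Not at hcon
    have hI : ∀ a ∈ idealOfOpen X U, a ∉ nonZeroDivisors Γ(X, ⊤) :=
      fun a ha hnz => hcon a hnz ha
    obtain ⟨m, hm0, hm⟩ : ∃ m : Γ(X, ⊤), m ≠ 0 ∧ ∀ a ∈ idealOfOpen X U, a * m = 0 := by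
      rcases hX with hN | ⟨hR, hF⟩
      · have : IsNoetherianRing Γ(X, ⊤) :=
          IsLocallyNoetherian.component_noetherian ⟨⊤, isAffineOpen_top X⟩
        exact exists_ne_zero_mul_eq_zero_of_noetherian _ hI
      · have : _root_.IsReduced Γ(X, ⊤) := inferInstance
        exact exists_ne_zero_mul_eq_zero_of_isReduced
          (finite_minimalPrimes_of_finite_irreducibleComponents hF) _ hI
    exact hm0 (eq_zero_of_forall_mul_eq_zero hU m hm)
  · rintro ⟨t, ht, htU⟩
    exact mono htU (basicOpen_of_germ_mem_nonZeroDivisors X t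
      (germ_mem_nonZeroDivisors_of_isAffine t ht))

end affine

end Groth.Agent.Lib.Helper12.SchDense
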