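import Mathlib
import Groth.Agent.Lib.Helper12.SchDense

universe u

namespace Groth.Agent.Lib.Helper12.SchDense

open AlgebraicGeometry CategoryTheory TopologicalSpace

/-- Algebra: if `B` is flat over `A` and every `a` killed by all `b ∈ s` dies in `B`, then
every `t : B` killed by all `φ b`, `b ∈ s`, vanishes. -/
lemma eq_zero_of_flat_of_kill {A B : Type*} [CommRing A] [CommRing B] (φ : A →+* B) (hφ : φ.Flat)
    (s : Finset A) (hs : ∀ a : A, (∀ b ∈ s, b * a = 0) → φ a = 0) (t : B)
    (ht : ∀ b ∈ s, φ b * t = 0) : t = 0 := by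
  classical
  let _ := φ.toAlgebra
  have : Module.Flat A B := hφ
  let f : (s → A) →ₗ[A] A := Fintype.linearCombination A (fun b : s => (b : A))
  let x : A →ₗ[A] B := LinearMap.toSpanSingleton A B t
  have hxf : x ∘ₗ f = 0 := by
    refine LinearMap.pi_ext' fun b => ?_
    ext
    simp only [LinearMap.coe_comp, LinearMap.coe_single, Function.comp_apply, LinearMap.zero_comp,
      LinearMap.zero_apply, f, x, Fintype.linearCombination_apply_single, one_smul,
      LinearMap.toSpanSingleton_apply]
    rw [Algebra.smul_def]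
    exact ht b b.2
  obtain ⟨k, a, y, hxy, haf⟩ := Module.Flat.exists_factorization_of_comp_eq_zero_of_free hxf
  have h1 : t = y (a 1) := by
    have := LinearMap.congr_fun hxy 1
    simpa [x] using this
  have h2 : ∀ j : Fin k, φ (a 1 j) = 0 := by
    intro j
    apply hs
    intro b hb
    have h3 := LinearMap.congr_fun haf (Pi.single ⟨b, hb⟩ 1)
    simp only [LinearMap.coe_comp, Function.comp_apply, LinearMap.zero_apply, f,
      Fintype.linearCombination_apply_single, one_smul] at h3
    have h4 : a b = b • a 1 := by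
      rw [← map_smul, smul_eq_mul, mul_one]
    rw [h4] at h3
    have h5 := DFunLike.congr_fun h3 j
    simpa using h5
  have h3 : a 1 = ∑ j : Fin k, (a 1 j) • Finsupp.single j (1 : A) := by
    ext j
    simp
  rw [h1, h3, map_sum]
  refine Finset.sum_eq_zero fun j _ => ?_
  rw [map_smul, Algebra.smul_def]
  change φ (a 1 j) * _ = 0
  rw [h2 j, zero_mul]

/-- Variant of `injective_of_flat`: instead of injectivity downstairs we only ask that the
elements killed by powers of the `b ∈ s` die upstairs. -/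
theorem injective_of_flat_of_kill {X X' : Scheme.{u}} (f : X' ⟶ X) [Flat f] (V : X.Opens)
    {W : X.Opens} (hW : IsAffineOpen W) {W' : X'.Opens} (hW' : IsAffineOpen W')
    (e : W' ≤ f ⁻¹ᵁ W) (s : Finset Γ(X, W)) (hs1 : ∀ a ∈ s, X.basicOpen a ≤ W ⊓ V)
    (hK : ∀ (N : ℕ) (a : Γ(X, W)), (∀ b ∈ s, b ^ N * a = 0) → (f.appLE W W' e).hom a = 0) :
    Function.Injective
      (X'.presheaf.map (homOfLE (inf_le_left : W' ⊓ f ⁻¹ᵁ V ≤ W')).op) := by
  classical
  rw [injective_iff_map_eq_zero]
  intro t ht
  set φ := (f.appLE W W' e).hom with hφ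
  have hφflat : φ.Flat := f.flat_appLE hW hW' e
  have h1 : ∀ b : Γ(X, W), ∃ n : ℕ, b ∈ s → φ b ^ n * t = 0 := by
    intro b
    by_cases hb : b ∈ s
    · have hle : X'.basicOpen (φ b) ≤ W' ⊓ f ⁻¹ᵁ V := by
        rw [hφ, Scheme.basicOpen_appLE]
        refine inf_le_inf_left _ ?_
        intro x hx
        exact ((hs1 b hb) hx).2
      have H : X'.presheaf.map (homOfLE (X'.basicOpen_le (φ b))).op t = 0 := by
        have h1 : X'.presheaf.map (homOfLE (X'.basicOpen_le (φ b))).op t =
            X'.presheaf.map (homOfLE hle).op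
              (X'.presheaf.map (homOfLE (inf_le_left : W' ⊓ f ⁻¹ᵁ V ≤ W')).op t) := by
          rw [← CommRingCat.comp_apply, ← Functor.map_comp]
          rfl
        rw [h1, ht, map_zero]
      obtain ⟨n, hn⟩ :=
        exists_pow_mul_eq_zero_of_res_basicOpen_eq_zero_of_isAffineOpen X' hW' t (φ b) H
      exact ⟨n, fun _ => hn⟩
    · exact ⟨0, fun h => (hb h).elim⟩
  choose n hn using h1
  set N := s.sup n with hN
  have h2 : ∀ b ∈ s, φ b ^ N * t = 0 := by
    intro b hb
    have hle : n b ≤ N := Finset.le_sup hb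
    rw [← Nat.sub_add_cancel hle, pow_add, mul_assoc, hn b hb, mul_zero]
  refine eq_zero_of_flat_of_kill φ hφflat (s.image (· ^ N)) ?_ t ?_
  · intro a ha
    refine hK N a ?_
    intro b hb
    exact ha _ (Finset.mem_image_of_mem _ hb)
  · intro b' hb'
    obtain ⟨b, hb, rfl⟩ := Finset.mem_image.1 hb'
    rw [map_pow]
    exact h2 b hb

end Groth.Agent.Lib.Helper12.SchDense
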