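import Mathlib
import Groth.Agent.Lib.Helper12.SchDense2
import Groth.Agent.Lib.Helper12.FlatLim1
import Groth.Agent.Lib.Helper29.QCohQcqs

universe u

namespace Groth.Agent.Lib.Helper12.SchDense

open AlgebraicGeometry CategoryTheory CategoryTheory.Limits TopologicalSpace Opposite
open Groth.Agent.Lib.Helper12.H12ModLim Groth.Agent.Lib.Helper12.H12FlatLim

theorem injective_congr {X : Scheme.{u}} {W O O' : X.Opens} (h : O = O')
    (hinj : Function.Injective (X.presheaf.map (homOfLE (inf_le_left : W ⊓ O ≤ W)).op)) :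
    Function.Injective (X.presheaf.map (homOfLE (inf_le_left : W ⊓ O' ≤ W)).op) := by
  subst h; exact hinj

theorem isCompact_inf_of_isLocallyNoetherian {X : Scheme.{u}} [IsLocallyNoetherian X]
    (W V : X.Opens) (hW : IsAffineOpen W) : IsCompact ((W ⊓ V : X.Opens) : Set X) := by
  have : IsNoetherianRing Γ(X, W) := IsLocallyNoetherian.component_noetherian ⟨W, hW⟩
  have hN := noetherianSpace_of_isAffineOpen W hW
  have h1 : IsCompact {x : W | (x : X) ∈ V} := @NoetherianSpace.isCompact _ _ hN _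
  have h2 := h1.image continuous_subtype_val
  convert h2 using 1
  ext x
  simp only [Opens.coe_inf, Set.mem_inter_iff, SetLike.mem_coe, Set.mem_image, Set.mem_ofPred_eq,
    Subtype.exists, exists_and_right, exists_eq_right]
  tauto

section Lim
variable {I : Type u} [SmallCategory I] [IsCofiltered I] (D : I ⥤ Scheme.{u}) (c : Cone D)
  (hc : IsLimit c) [∀ {i j : I} (f : i ⟶ j), IsAffineHom (D.map f)]

include hc in
theorem exists_stage_algebraMap_eq_zero (i₀ : I) (V : (D.obj i₀).Opens) (hV : IsAffineOpen V)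
    (T : Finset Γ(D.obj i₀, V))
    (h : ∀ a ∈ T, algebraMap Γ(D.obj i₀, V) (StB D c i₀ V) a = 0) :
    ∃ k : (Over i₀)ᵒᵖ, ∀ a ∈ T, algebraMap Γ(D.obj i₀, V) (StA D i₀ V k) a = 0 := by
  classical
  let k₀ : (Over i₀)ᵒᵖ := op (Over.mk (𝟙 i₀))
  have E2 : ∀ (k : (Over i₀)ᵒᵖ) (a : StA D i₀ V k), stρ D c i₀ V k a = 0 →
      ∃ (k' : (Over i₀)ᵒᵖ) (f : k ⟶ k'), stτ D i₀ V f a = 0 := by
    intro k a ha
    rw [stρ_apply] at ha
    obtain ⟨k', g, hg⟩ := exists_appLE_eq_zero D c hc i₀ V hV k.unop a ha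
    exact ⟨op k', g.op, (stτ_apply D i₀ V g.op a).trans hg⟩
  have he : ∀ a ∈ T, stρ D c i₀ V k₀ (algebraMap Γ(D.obj i₀, V) (StA D i₀ V k₀) a) = 0 := by
    intro a ha
    rw [AlgHom.commutes]
    exact h a ha
  obtain ⟨k', f, hf⟩ := exists_common_kill (StA D i₀ V) (stρ D c i₀ V) (fun f => stτ D i₀ V f)
    (fun f g a => stτ_comp D i₀ V f g a) (fun f a => stρ_τ D c i₀ V f a) E2 T k₀
    (fun a => algebraMap Γ(D.obj i₀, V) (StA D i₀ V k₀) a) he
  refine ⟨k', fun a ha => ?_⟩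
  have := hf a ha
  rwa [AlgHom.commutes] at this

include hc in
/-- One affine open: injectivity of restriction at some stage. -/
theorem exists_stage_injective (hfl : ∀ {i j : I} (φ : i ⟶ j), Flat (D.map φ)) (i₀ : I)
    [IsLocallyNoetherian (D.obj i₀)] (U₀ : (D.obj i₀).Opens)
    (hU : CInt.IsSchematicallyDense (c.π.app i₀ ⁻¹ᵁ U₀)) (V : (D.obj i₀).Opens)
    (hV : IsAffineOpen V) :
    ∃ k : Over i₀, Function.Injective ((D.obj k.left).presheaf.map
      (homOfLE (inf_le_left : D.map k.hom ⁻¹ᵁ V ⊓ D.map k.hom ⁻¹ᵁ U₀ ≤ D.map k.hom ⁻¹ᵁ V)).op) := by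
  classical
  have hNoeth : IsNoetherianRing Γ(D.obj i₀, V) := IsLocallyNoetherian.component_noetherian ⟨V, hV⟩
  obtain ⟨s, hs1, hs2⟩ := exists_finset_basicOpen_cover hV (V ⊓ U₀) inf_le_left
    (isCompact_inf_of_isLocallyNoetherian V U₀ hV)
  -- the ideal of elements killed by powers of the members of `s`
  let K : Ideal Γ(D.obj i₀, V) :=
    { carrier := {a | ∃ N : ℕ, ∀ b ∈ s, b ^ N * a = 0}
      add_mem' := by
        rintro a a' ⟨N, hN⟩ ⟨N', hN'⟩
        refine ⟨N + N', fun b hb => ?_⟩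
        have e1 : b ^ (N + N') * a = b ^ N' * (b ^ N * a) := by ring
        have e2 : b ^ (N + N') * a' = b ^ N * (b ^ N' * a') := by ring
        rw [mul_add, e1, e2, hN b hb, hN' b hb, mul_zero, mul_zero, add_zero]
      zero_mem' := ⟨0, fun b _ => mul_zero _⟩
      smul_mem' := by
        rintro r a ⟨N, hN⟩
        refine ⟨N, fun b hb => ?_⟩
        rw [smul_eq_mul, mul_left_comm, hN b hb, mul_zero] }
  have hKmem : ∀ a, a ∈ K ↔ ∃ N : ℕ, ∀ b ∈ s, b ^ N * a = 0 := fun a => Iff.rfl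
  obtain ⟨T, hT⟩ : K.FG := IsNoetherian.noetherian K
  -- elements of `K` die in the limit
  have h3 : ∀ a ∈ K, algebraMap Γ(D.obj i₀, V) (StB D c i₀ V) a = 0 := by
    rintro a ⟨N, hN⟩
    change (c.π.app i₀).appLE V (c.π.app i₀ ⁻¹ᵁ V) le_rfl a = 0
    rw [← Scheme.Hom.app_eq_appLE]
    refine eq_zero_of_forall_pow_mul_eq_zero (X := c.pt) (W := c.π.app i₀ ⁻¹ᵁ V)
      (c.π.app i₀ ⁻¹ᵁ U₀) (hU _) (s.image ((c.π.app i₀).app V)) ?_ N _ ?_
    · intro x hx
      obtain ⟨b, hb, hxb⟩ := hs2 (c.π.app i₀ x) hx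
      refine ⟨_, Finset.mem_image_of_mem _ hb, ?_⟩
      rw [← Scheme.preimage_basicOpen]
      exact hxb
    · intro b' hb'
      obtain ⟨b, hb, rfl⟩ := Finset.mem_image.1 hb'
      rw [← map_pow, ← map_mul, hN b hb, map_zero]
  obtain ⟨k, hk⟩ := exists_stage_algebraMap_eq_zero D c hc i₀ V hV T
    (fun a ha => h3 a (hT ▸ Submodule.subset_span ha))
  have hk' : ∀ a ∈ K, algebraMap Γ(D.obj i₀, V) (StA D i₀ V k) a = 0 := by
    intro a ha
    have : K ≤ RingHom.ker (algebraMap Γ(D.obj i₀, V) (StA D i₀ V k)) := by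
      rw [← hT, Ideal.span_le]
      intro t ht
      exact hk t ht
    exact this ha
  refine ⟨k.unop, ?_⟩
  have := hfl k.unop.hom
  refine injective_of_flat_of_kill (D.map k.unop.hom) U₀ hV (hV.preimage _) le_rfl s hs1 ?_
  intro N a ha
  exact hk' a ⟨N, ha⟩

include hc in
/-- **S5107** -/
theorem isSchematicallyDense_iff_stage (hfl : ∀ {i j : I} (φ : i ⟶ j), Flat (D.map φ))
    [∀ i, IsNoetherian (D.obj i)] (i₀ : I) (U₀ : (D.obj i₀).Opens) :
    CInt.IsSchematicallyDense (c.π.app i₀ ⁻¹ᵁ U₀) ↔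
      ∃ (i : I) (g : i ⟶ i₀), CInt.IsSchematicallyDense (D.map g ⁻¹ᵁ U₀) := by
  classical
  constructor
  · intro hU
    obtain ⟨N, V, hV, -, hcov⟩ := Groth.Agent.Lib.Helper29.QCoh.exists_finite_affine_cover
      (X := D.obj i₀) (U := ⊤) isCompact_univ
    choose kk hkk using fun t : Fin N => exists_stage_injective D c hc hfl i₀ U₀ hU (V t) (hV t)
    obtain ⟨k, hk⟩ := IsCofiltered.inf_objs_exists (Finset.univ.image kk)
    have g : ∀ t, k ⟶ kk t := fun t => (hk (Finset.mem_image_of_mem _ (Finset.mem_univ t))).some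
    have hg : ∀ t, D.map (g t).left ≫ D.map (kk t).hom = D.map k.hom := fun t => by
      rw [← D.map_comp, Over.w]
    refine ⟨k.left, k.hom, ?_⟩
    refine of_basis _ {W'' | IsAffineOpen W'' ∧
      ∃ t, W'' ≤ D.map (g t).left ⁻¹ᵁ (D.map (kk t).hom ⁻¹ᵁ V t)} ?_ ?_
    · rw [Opens.isBasis_iff_nbhd]
      intro O x hx
      obtain ⟨t, ht⟩ := Opens.mem_iSup.mp (hcov (show D.map k.hom x ∈ (⊤ : (D.obj i₀).Opens) from trivial))
      have hx2 : x ∈ D.map (g t).left ⁻¹ᵁ (D.map (kk t).hom ⁻¹ᵁ V t) := by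
        rw [← Scheme.Hom.comp_preimage, hg t]
        exact ht
      obtain ⟨W'', hW'', hxW'', hW''O⟩ := (Opens.isBasis_iff_nbhd.1 (D.obj k.left).isBasis_affineOpens)
        (show x ∈ D.map (g t).left ⁻¹ᵁ (D.map (kk t).hom ⁻¹ᵁ V t) ⊓ O from ⟨hx2, hx⟩)
      exact ⟨W'', ⟨hW'', t, hW''O.trans inf_le_left⟩, hxW'', hW''O.trans inf_le_right⟩
    · rintro W'' ⟨hW'', t, e⟩
      have := hfl (g t).left
      have h1 := injective_of_flat (D.map (g t).left) (D.map (kk t).hom ⁻¹ᵁ U₀)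
        ((hV t).preimage (D.map (kk t).hom)) hW'' e
        (isCompact_inf_of_isLocallyNoetherian _ _ ((hV t).preimage (D.map (kk t).hom))) (hkk t)
      refine injective_congr ?_ h1
      rw [← Scheme.Hom.comp_preimage, hg t]
  · rintro ⟨i, g, hi⟩
    haveI hπ : Flat (c.π.app i) := flat_π_app D c hc hfl i
    have := preimage_of_flat_of_isLocallyNoetherian (c.π.app i) _ hi
    rwa [← Scheme.Hom.comp_preimage, c.w] at this

end Lim

end Groth.Agent.Lib.Helper12.SchDense
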