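import Mathlib
import Groth.Agent.Lib.Helper25.RegularSepSmooth
import Groth.Agent.Lib.Helper12.RegularQuot

set_option autoImplicit false
universe u
open IsLocalRing TensorProduct

namespace H12SecSm

section ring
variable (A O : Type u) [CommRing A] [IsLocalRing A] [IsDomain A] [IsPrincipalIdealRing A]
  [CommRing O] [IsRegularLocalRing O] [Algebra A O]

include A in
omit [IsDomain A] [IsPrincipalIdealRing A] in
theorem isLocalHom_of_section (σ : O →ₐ[A] A) : IsLocalHom (algebraMap A O) := by
  constructor
  intro a ha
  have := ha.map σ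
  rwa [AlgHom.commutes, Algebra.algebraMap_self, RingHom.id_apply] at this

omit [IsLocalRing A] [IsDomain A] [IsPrincipalIdealRing A] [IsRegularLocalRing O] in
theorem sigma_surjective (σ : O →ₐ[A] A) : Function.Surjective σ := fun a =>
  ⟨algebraMap A O a, by rw [AlgHom.commutes, Algebra.algebraMap_self, RingHom.id_apply]⟩

/-- the closed fibre of a regular local algebra with a section is regular -/
theorem isRegularLocalRing_fibre (σ : O →ₐ[A] A) :
    IsRegularLocalRing (O ⧸ (maximalIdeal A).map (algebraMap A O)) := by
  haveI := isLocalHom_of_section A O σ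
  obtain ⟨π, hπ⟩ := (IsPrincipalIdealRing.principal (maximalIdeal A)).principal
  have hmap : (maximalIdeal A).map (algebraMap A O) = Ideal.span {algebraMap A O π} := by
    rw [hπ, Ideal.submodule_span_eq, Ideal.map_span, Set.image_singleton]
  rw [hmap]
  by_cases h0 : π = 0
  · rw [h0, map_zero]
    have : Ideal.span {(0 : O)} = ⊥ := by simp
    rw [this]
    exact IsRegularLocalRing.of_ringEquiv (RingEquiv.quotientBot O).symm
  · have hπm : π ∈ maximalIdeal A := by
      rw [hπ]
      exact Submodule.mem_span_singleton_self π
    have hx : algebraMap A O π ∈ maximalIdeal O := by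
      rw [mem_maximalIdeal, mem_nonunits_iff]
      intro hu
      exact (mem_nonunits_iff.1 ((mem_maximalIdeal π).1 hπm)) (isUnit_of_map_unit _ _ hu)
    have hx2 : algebraMap A O π ∉ maximalIdeal O ^ 2 := by
      intro hmem
      have h1 : σ (algebraMap A O π) ∈ (maximalIdeal O ^ 2).map σ.toRingHom :=
        Ideal.mem_map_of_mem _ hmem
      rw [Ideal.map_pow, map_maximalIdeal_of_surjective σ.toRingHom (sigma_surjective A O σ),
        AlgHom.commutes, Algebra.algebraMap_self, RingHom.id_apply, hπ,
        Ideal.submodule_span_eq, Ideal.span_singleton_pow, Ideal.mem_span_singleton] at h1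
      obtain ⟨c, hc⟩ := h1
      have h2 : π * (1 - π * c) = 0 := by
        rw [mul_sub, mul_one, ← mul_assoc, ← pow_two, ← hc, sub_self]
      rcases mul_eq_zero.1 h2 with h | h
      · exact h0 h
      · have hu : IsUnit (1 - π * c) := by
          have : π * c ∈ maximalIdeal A := Ideal.mul_mem_right _ _ hπm
          have h3 := (mem_maximalIdeal _).1 this
          by_contra hnu
          have h4 : (1 - π * c) ∈ maximalIdeal A := (mem_maximalIdeal _).2 hnu
          have : (1 : A) ∈ maximalIdeal A := by
            have := Ideal.add_mem _ h4 ‹π * c ∈ maximalIdeal A›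
            simp at this
          exact (Ideal.IsPrime.ne_top inferInstance) ((Ideal.eq_top_iff_one _).2 this)
        rw [h] at hu
        exact not_isUnit_zero hu
    exact Groth.Agent.Lib.Helper12.isRegularLocalRing_quotient_singleton hx hx2

attribute [local instance] Ideal.Quotient.field

omit [IsDomain A] [IsPrincipalIdealRing A] [IsRegularLocalRing O] in
theorem residue_alg_surjective [IsLocalRing O] (σ : O →ₐ[A] A)
    [IsLocalRing (O ⧸ (maximalIdeal A).map (algebraMap A O))] :
    Function.Surjective (algebraMap (A ⧸ maximalIdeal A)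
      (ResidueField (O ⧸ (maximalIdeal A).map (algebraMap A O)))) := by
  intro y
  obtain ⟨c, rfl⟩ := IsLocalRing.residue_surjective y
  obtain ⟨x, rfl⟩ := Ideal.Quotient.mk_surjective c
  refine ⟨Ideal.Quotient.mk _ (σ x), ?_⟩
  have hloc : IsLocalHom σ.toRingHom := IsLocalHom.of_surjective _ (sigma_surjective A O σ)
  have hker : x - algebraMap A O (σ x) ∈ maximalIdeal O := by
    rw [mem_maximalIdeal, mem_nonunits_iff]
    intro hu
    have := hu.map σ
    rw [map_sub, AlgHom.commutes, Algebra.algebraMap_self, RingHom.id_apply, sub_self] at this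
    exact not_isUnit_zero this
  have hloc2 : IsLocalHom (Ideal.Quotient.mk ((maximalIdeal A).map (algebraMap A O))) :=
    IsLocalHom.of_surjective _ Ideal.Quotient.mk_surjective
  have h2 : Ideal.Quotient.mk ((maximalIdeal A).map (algebraMap A O)) (x - algebraMap A O (σ x)) ∈
      maximalIdeal (O ⧸ (maximalIdeal A).map (algebraMap A O)) := by
    rw [mem_maximalIdeal, mem_nonunits_iff]
    intro hu
    exact (mem_nonunits_iff.1 ((mem_maximalIdeal _).1 hker)) (isUnit_of_map_unit _ _ hu)
  have h3 := (residue_eq_zero_iff _).2 h2
  rw [map_sub, map_sub, sub_eq_zero] at h3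
  rw [h3]
  rfl

theorem formallySmooth_fibre [Algebra.EssFiniteType A O] (σ : O →ₐ[A] A) :
    Algebra.FormallySmooth (A ⧸ maximalIdeal A) (O ⧸ (maximalIdeal A).map (algebraMap A O)) := by
  haveI := isRegularLocalRing_fibre A O σ
  haveI : Algebra.EssFiniteType A (O ⧸ (maximalIdeal A).map (algebraMap A O)) :=
    Algebra.EssFiniteType.comp A O _
  haveI : Algebra.EssFiniteType (A ⧸ maximalIdeal A)
      (O ⧸ (maximalIdeal A).map (algebraMap A O)) := Algebra.EssFiniteType.of_comp A _ _
  haveI : Algebra.IsSeparable (A ⧸ maximalIdeal A)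
      (ResidueField (O ⧸ (maximalIdeal A).map (algebraMap A O))) := by
    constructor
    intro y
    obtain ⟨a, rfl⟩ := residue_alg_surjective A O σ y
    exact isSeparable_algebraMap a
  haveI := Groth.Agent.Lib.Helper25.RegularSepSmooth.isGeometricallyReduced_of_isSeparable
    (A ⧸ maximalIdeal A) (ResidueField (O ⧸ (maximalIdeal A).map (algebraMap A O)))
  exact Groth.Agent.Lib.Helper25.RegularSepSmooth.formallySmooth_of_regular _ _

theorem formallySmooth_of_section [Module.Flat A O] [Algebra.EssFiniteType A O] (σ : O →ₐ[A] A) :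
    Algebra.FormallySmooth A O := by
  haveI := isLocalHom_of_section A O σ
  haveI h1 := formallySmooth_fibre A O σ
  have h2 : Algebra.FormallySmooth (A ⧸ maximalIdeal A) ((A ⧸ maximalIdeal A) ⊗[A] O) :=
    Algebra.FormallySmooth.of_equiv
      (Algebra.TensorProduct.quotIdealMapEquivQuotTensor O (maximalIdeal A))
  haveI : Algebra.FormallySmooth (ResidueField A) (ResidueField A ⊗[A] O) := h2
  haveI : Algebra.FinitePresentation A (Algebra.EssFiniteType.subalgebra A O) :=
    Algebra.FinitePresentation.of_finiteType.mp inferInstance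
  exact Algebra.FormallySmooth.of_formallySmooth_residueField_tensor
    (P := Algebra.EssFiniteType.subalgebra A O) (Algebra.EssFiniteType.submonoid A O)

end ring
end H12SecSm
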