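import Mathlib
import Groth.Agent.Lib.Helper12.SecSm1

set_option autoImplicit false
universe u
open CategoryTheory AlgebraicGeometry IsLocalRing

namespace H12SecSm

theorem isPrincipalIdealRing_of_local_dedekind (D : Type u) [CommRing D] [IsDedekindDomain D]
    [IsLocalRing D] : IsPrincipalIdealRing D := by
  apply IsPrincipalIdealRing.of_finite_primes
  apply Set.Finite.subset (Set.toFinite {⊥, maximalIdeal D})
  intro I hI
  have hI' : I.IsPrime := hI
  by_cases h : I = ⊥
  · left; exact h
  · right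
    exact IsLocalRing.eq_maximalIdeal (hI'.isMaximal h)

theorem stalk_spec_dedekind (R : Type u) [CommRing R] [IsDedekindDomain R]
    (y : Spec (CommRingCat.of R)) :
    IsDomain ↑((Spec (CommRingCat.of R)).presheaf.stalk y) ∧
      IsPrincipalIdealRing ↑((Spec (CommRingCat.of R)).presheaf.stalk y) := by
  letI : Algebra R ↑((Spec (CommRingCat.of R)).presheaf.stalk y) := StructureSheaf.stalkAlgebra R y
  have hloc : IsLocalization.AtPrime ↑((Spec (CommRingCat.of R)).presheaf.stalk y) y.asIdeal :=
    StructureSheaf.IsLocalization.to_stalk R y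
  have hle : y.asIdeal.primeCompl ≤ nonZeroDivisors R := Ideal.primeCompl_le_nonZeroDivisors _
  haveI hD : IsDedekindDomain ↑((Spec (CommRingCat.of R)).presheaf.stalk y) :=
    IsLocalization.isDedekindDomain R hle _
  exact ⟨inferInstance, isPrincipalIdealRing_of_local_dedekind _⟩

theorem main {R : Type u} [CommRing R] [IsDedekindDomain R]
    {X : Scheme.{u}} (p : X ⟶ Spec (CommRingCat.of R)) [Flat p] [LocallyOfFinitePresentation p]
    (hreg : ∀ x : X, IsRegularLocalRing (X.presheaf.stalk x))
    (s : Spec (CommRingCat.of R) ⟶ X) (hs : s ≫ p = 𝟙 _) (t : Spec (CommRingCat.of R)) :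
    s.base t ∈ p.smoothLocus := by
  rw [Scheme.Hom.mem_smoothLocus]
  have hpt : p (s t) = t := by
    have := congrArg (fun f : Spec (CommRingCat.of R) ⟶ Spec (CommRingCat.of R) => f t) hs
    simpa using this
  have hcomp : p.stalkMap (s t) ≫ s.stalkMap t =
      ((Spec (CommRingCat.of R)).presheaf.stalkCongr (.of_eq hpt)).hom := by
    rw [← Scheme.Hom.stalkMap_comp, Scheme.Hom.stalkMap_congr_hom (s ≫ p) (𝟙 _) hs t,
      Scheme.Hom.stalkMap_id]
    exact Category.comp_id _
  set ι := ((Spec (CommRingCat.of R)).presheaf.stalkCongr (.of_eq hpt)) with hι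
  let σ := s.stalkMap t ≫ ι.inv
  have hφσ : p.stalkMap (s t) ≫ σ = 𝟙 _ := by
    rw [← Category.assoc, hcomp, Iso.hom_inv_id]
  obtain ⟨hdom, hpid⟩ := stalk_spec_dedekind R (p (s t))
  haveI := hreg (s t)
  letI : Algebra ↑((Spec (CommRingCat.of R)).presheaf.stalk (p (s t))) ↑(X.presheaf.stalk (s t)) :=
    (p.stalkMap (s t)).hom.toAlgebra
  haveI hflat : Module.Flat ↑((Spec (CommRingCat.of R)).presheaf.stalk (p (s t)))
      ↑(X.presheaf.stalk (s t)) := Flat.stalkMap p (s t)
  haveI hess : Algebra.EssFiniteType ↑((Spec (CommRingCat.of R)).presheaf.stalk (p (s t)))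
      ↑(X.presheaf.stalk (s t)) := LocallyOfFiniteType.stalkMap p (s t)
  let σA : ↑(X.presheaf.stalk (s t)) →ₐ[↑((Spec (CommRingCat.of R)).presheaf.stalk (p (s t)))]
      ↑((Spec (CommRingCat.of R)).presheaf.stalk (p (s t))) :=
    { σ.hom with
      commutes' := fun a => by
        change (p.stalkMap (s t) ≫ σ).hom a = a
        rw [hφσ]
        rfl }
  have := formallySmooth_of_section _ _ σA
  exact this

end H12SecSm
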