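import Mathlib

set_option autoImplicit false
universe u

namespace H12SemiLoc

/-- A module over a local ring with infinite residue field is not a finite union of proper
submodules containing `m N`. -/
theorem exists_notMem {B N ι : Type*} [CommRing B] [IsLocalRing B]
    [Infinite (IsLocalRing.ResidueField B)] [AddCommGroup N] [Module B N] [Finite ι]
    (L : ι → Submodule B N)
    (hm : ∀ i, ∀ b ∈ IsLocalRing.maximalIdeal B, ∀ y : N, b • y ∈ L i)
    (hne : ∀ i, ∃ y : N, y ∉ L i) :
    ∃ y : N, ∀ i, y ∉ L i := by
  classical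
  haveI := Fintype.ofFinite ι
  by_contra hcon
  push Not at hcon
  have hcov : ⋃ i ∈ (Finset.univ : Finset ι), (L i : Set N) = Set.univ := by
    rw [Set.eq_univ_iff_forall]
    intro y
    obtain ⟨i, hi⟩ := hcon y
    exact Set.mem_biUnion (Finset.mem_univ i) hi
  obtain ⟨i, _, hfi⟩ := Submodule.exists_finiteIndex_of_cover hcov
  haveI : Finite (N ⧸ L i) := AddSubgroup.finite_quotient_of_finiteIndex
  obtain ⟨z, hz⟩ := hne i
  let f : B →ₗ[B] (N ⧸ L i) := LinearMap.toSpanSingleton B (N ⧸ L i) (Submodule.Quotient.mk z)
  have hker : LinearMap.ker f = IsLocalRing.maximalIdeal B := by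
    apply le_antisymm
    · apply IsLocalRing.le_maximalIdeal
      intro htop
      have : (1 : B) ∈ LinearMap.ker f := by rw [htop]; trivial
      rw [LinearMap.mem_ker, LinearMap.toSpanSingleton_apply, one_smul,
        Submodule.Quotient.mk_eq_zero] at this
      exact hz this
    · intro b hb
      rw [LinearMap.mem_ker, LinearMap.toSpanSingleton_apply, ← Submodule.Quotient.mk_smul,
        Submodule.Quotient.mk_eq_zero]
      exact hm i b hb z
  have hinj : Function.Injective ((LinearMap.ker f).liftQ f le_rfl) := by
    rw [← LinearMap.ker_eq_bot, Submodule.ker_liftQ, Submodule.mkQ_map_self]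
  haveI : Infinite (B ⧸ LinearMap.ker f) := by
    rw [hker]
    exact inferInstanceAs (Infinite (IsLocalRing.ResidueField B))
  haveI : Finite (B ⧸ LinearMap.ker f) := Finite.of_injective _ hinj
  exact not_finite (B ⧸ LinearMap.ker f)

end H12SemiLoc
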