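import Mathlib

set_option autoImplicit false
universe u

namespace H12SemiLoc

variable {A M : Type u} [CommRing A] [AddCommGroup M] [Module A M]

def Indep (𝔪 : Ideal A) {j : ℕ} (x : Fin j → M) : Prop :=
  ∀ c : Fin j → A, (∑ i, c i • x i) ∈ 𝔪 • (⊤ : Submodule A M) → ∀ i, c i ∈ 𝔪

theorem indep_snoc (𝔪 : Ideal A) [h𝔪 : 𝔪.IsMaximal] {j : ℕ} (x : Fin j → M) (hx : Indep 𝔪 x) (y : M)
    (hy : y ∉ Submodule.span A (Set.range x) ⊔ 𝔪 • (⊤ : Submodule A M)) :
    Indep 𝔪 (Fin.snoc (α := fun _ => M) x y) := by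
  intro c hc
  rw [Fin.sum_univ_castSucc] at hc
  simp only [Fin.snoc_castSucc, Fin.snoc_last] at hc
  have hlast : c (Fin.last j) ∈ 𝔪 := by
    by_contra hnot
    obtain ⟨c', i₀, hi₀, hci⟩ := h𝔪.exists_inv hnot
    have hc' : c' * c (Fin.last j) - 1 ∈ 𝔪 := by
      have : c' * c (Fin.last j) - 1 = -i₀ := by rw [← hci]; ring
      rw [this]
      exact 𝔪.neg_mem hi₀
    apply hy
    have h1 : c (Fin.last j) • y ∈ Submodule.span A (Set.range x) ⊔ 𝔪 • (⊤ : Submodule A M) := by
      have : c (Fin.last j) • y = (∑ i : Fin j, c i.castSucc • x i + c (Fin.last j) • y) -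
          ∑ i : Fin j, c i.castSucc • x i := by abel
      rw [this]
      refine Submodule.sub_mem _ (Submodule.mem_sup_right hc) (Submodule.mem_sup_left ?_)
      exact Submodule.sum_mem _ fun i _ => Submodule.smul_mem _ _ (Submodule.subset_span ⟨i, rfl⟩)
    have h2 : y = c' • (c (Fin.last j) • y) - (c' * c (Fin.last j) - 1) • y := by
      rw [sub_smul, one_smul, mul_smul]; abel
    rw [h2]
    refine Submodule.sub_mem _ (Submodule.smul_mem _ _ h1) (Submodule.mem_sup_right ?_)
    exact Submodule.smul_mem_smul hc' Submodule.mem_top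
  have hrest : ∑ i : Fin j, c i.castSucc • x i ∈ 𝔪 • (⊤ : Submodule A M) := by
    have : ∑ i : Fin j, c i.castSucc • x i = (∑ i : Fin j, c i.castSucc • x i + c (Fin.last j) • y) -
        c (Fin.last j) • y := by abel
    rw [this]
    exact Submodule.sub_mem _ hc (Submodule.smul_mem_smul hlast Submodule.mem_top)
  have := hx (fun i => c i.castSucc) hrest
  intro i
  refine Fin.lastCases hlast (fun i => this i) i

variable {n : ℕ} (e : Module.Basis (Fin n) A M) (𝔪 : Ideal A)

/-- reduction of coordinates mod `𝔪` -/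
noncomputable def redMap : M →ₗ[A] (Fin n → A ⧸ 𝔪) :=
  LinearMap.pi fun i => (Ideal.Quotient.mkₐ A 𝔪).toLinearMap ∘ₗ (LinearMap.proj i ∘ₗ e.equivFun.toLinearMap)

theorem redMap_apply (m : M) (i : Fin n) : redMap e 𝔪 m i = Ideal.Quotient.mk 𝔪 (e.repr m i) := rfl

theorem redMap_eq_zero_iff (m : M) : redMap e 𝔪 m = 0 ↔ m ∈ 𝔪 • (⊤ : Submodule A M) := by
  constructor
  · intro h
    rw [← e.sum_repr m]
    refine Submodule.sum_mem _ fun i _ => Submodule.smul_mem_smul ?_ Submodule.mem_top
    have := congrFun h i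
    rw [redMap_apply, Pi.zero_apply, Ideal.Quotient.eq_zero_iff_mem] at this
    exact this
  · intro h
    refine Submodule.smul_induction_on (p := fun m => redMap e 𝔪 m = 0) h ?_ ?_
    · intro a ha m' _
      ext i
      rw [redMap_apply, map_smul, Finsupp.smul_apply, smul_eq_mul, map_mul,
        Ideal.Quotient.eq_zero_iff_mem.mpr ha, zero_mul]
      rfl
    · intro a b ha hb
      rw [map_add, ha, hb, add_zero]

theorem redMap_surjective : Function.Surjective (redMap e 𝔪) := by
  intro v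
  have : ∀ i, ∃ a : A, Ideal.Quotient.mk 𝔪 a = v i := fun i => Ideal.Quotient.mk_surjective (v i)
  choose a ha using this
  refine ⟨∑ i, a i • e i, ?_⟩
  ext i
  rw [redMap_apply, ← ha i]
  congr 1
  simp [Finsupp.single_apply]

end H12SemiLoc
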