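import Mathlib
import Groth.Agent.Lib.Helper12.SemiLoc2

set_option autoImplicit false
universe u

namespace H12SemiLoc

variable {A M : Type u} [CommRing A] [AddCommGroup M] [Module A M]
variable {n : ℕ} (e : Module.Basis (Fin n) A M) (𝔪 : Ideal A) [h𝔪 : 𝔪.IsMaximal]

include e in
theorem card_le_of_indep {j : ℕ} (x : Fin j → M) (hx : Indep 𝔪 x) : j ≤ n := by
  letI : Field (A ⧸ 𝔪) := Ideal.Quotient.field 𝔪
  have hli : LinearIndependent (A ⧸ 𝔪) (fun i => redMap e 𝔪 (x i)) := by
    rw [Fintype.linearIndependent_iff]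
    intro g hg i
    have : ∀ i, ∃ a : A, Ideal.Quotient.mk 𝔪 a = g i := fun i => Ideal.Quotient.mk_surjective (g i)
    choose c hc using this
    have h1 : redMap e 𝔪 (∑ i, c i • x i) = 0 := by
      rw [map_sum, ← hg]
      refine Finset.sum_congr rfl fun i _ => ?_
      rw [map_smul, ← hc i]
      ext k
      simp only [Pi.smul_apply]
      rw [Algebra.smul_def]
      rfl
    rw [redMap_eq_zero_iff] at h1
    have := hx c h1 i
    rw [← hc i]
    exact Ideal.Quotient.eq_zero_iff_mem.mpr this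
  have := hli.fintype_card_le_finrank
  simpa using this

include e in
theorem le_card_of_span {j : ℕ} (x : Fin j → M)
    (hx : Submodule.span A (Set.range x) ⊔ 𝔪 • (⊤ : Submodule A M) = ⊤) : n ≤ j := by
  letI : Field (A ⧸ 𝔪) := Ideal.Quotient.field 𝔪
  have hsp : Submodule.span (A ⧸ 𝔪) (Set.range fun i => redMap e 𝔪 (x i)) = ⊤ := by
    rw [eq_top_iff]
    intro v _
    obtain ⟨m, rfl⟩ := redMap_surjective e 𝔪 v
    have hm : m ∈ Submodule.span A (Set.range x) ⊔ 𝔪 • (⊤ : Submodule A M) := by rw [hx]; trivial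
    rw [Submodule.mem_sup] at hm
    obtain ⟨s, hs, t, ht, rfl⟩ := hm
    rw [map_add, (redMap_eq_zero_iff e 𝔪 t).mpr ht, add_zero]
    refine Submodule.span_induction (p := fun s _ => redMap e 𝔪 s ∈
      Submodule.span (A ⧸ 𝔪) (Set.range fun i => redMap e 𝔪 (x i))) ?_ ?_ ?_ ?_ hs
    · rintro _ ⟨i, rfl⟩
      exact Submodule.subset_span ⟨i, rfl⟩
    · rw [map_zero]; exact Submodule.zero_mem _
    · intro a b _ _ ha hb
      rw [map_add]; exact Submodule.add_mem _ ha hb
    · intro a b _ hb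
      rw [map_smul]
      have : a • redMap e 𝔪 b = (Ideal.Quotient.mk 𝔪 a) • redMap e 𝔪 b := by
        ext k
        simp only [Pi.smul_apply]
        rw [Algebra.smul_def]
        rfl
      rw [this]
      exact Submodule.smul_mem _ _ hb
  have h1 := finrank_range_le_card (R := A ⧸ 𝔪) (fun i => redMap e 𝔪 (x i))
  rw [Set.finrank, hsp, finrank_top, Module.finrank_fin_fun, Fintype.card_fin] at h1
  exact h1

end H12SemiLoc
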