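import Mathlib
import Groth.Agent.Lib.Helper12.SemiLoc1
import Groth.Agent.Lib.Helper12.SemiLoc3
import Groth.Agent.Lib.Helper12.FibEt2

set_option autoImplicit false
universe u

namespace H12SemiLoc

variable {B A M : Type u} [CommRing B] [CommRing A]
    [IsLocalRing B] [Infinite (IsLocalRing.ResidueField B)] [Algebra B A]
    [Finite (MaximalSpectrum A)]
    [AddCommGroup M] [Module A M] [Module B M] [IsScalarTower B A M]

theorem exists_family {n : ℕ} (e : Module.Basis (Fin n) A M)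
    (hBA : (IsLocalRing.maximalIdeal B).map (algebraMap B A) ≤ (⊥ : Ideal A).jacobson)
    (N : Submodule B M) (hN : Submodule.span A (N : Set M) = ⊤) :
    ∀ j : ℕ, j ≤ n → ∃ x : Fin j → M, (∀ i, x i ∈ N) ∧
      ∀ 𝔪 : Ideal A, 𝔪.IsMaximal → Indep 𝔪 x := by
  intro j
  induction j with
  | zero =>
    intro _
    refine ⟨Fin.elim0, fun i => i.elim0, fun 𝔪 _ c _ i => i.elim0⟩
  | succ j ih =>
    intro hj
    obtain ⟨x, hxN, hxI⟩ := ih (by omega)
    let S : Ideal A → Submodule A M := fun 𝔪 =>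
      Submodule.span A (Set.range x) ⊔ 𝔪 • (⊤ : Submodule A M)
    have hSne : ∀ 𝔪 : Ideal A, 𝔪.IsMaximal → S 𝔪 ≠ ⊤ := by
      intro 𝔪 h𝔪 htop
      haveI := h𝔪
      have := le_card_of_span e 𝔪 x htop
      omega
    let L : MaximalSpectrum A → Submodule B ↥N := fun 𝔪 =>
      Submodule.comap N.subtype ((S 𝔪.asIdeal).restrictScalars B)
    obtain ⟨y, hy⟩ := exists_notMem L (by
      intro 𝔪 b hb y
      change b • (y : M) ∈ S 𝔪.asIdeal
      rw [← algebraMap_smul A b (y : M)]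
      refine Submodule.mem_sup_right (Submodule.smul_mem_smul ?_ Submodule.mem_top)
      have h1 : algebraMap B A b ∈ (⊥ : Ideal A).jacobson := hBA (Ideal.mem_map_of_mem _ hb)
      rw [Ideal.jacobson, Submodule.mem_sInf] at h1
      exact h1 _ ⟨bot_le, 𝔪.isMaximal⟩) (by
      intro 𝔪
      by_contra hcon
      push Not at hcon
      apply hSne 𝔪.asIdeal 𝔪.isMaximal
      rw [eq_top_iff, ← hN, Submodule.span_le]
      intro z hz
      exact hcon ⟨z, hz⟩)
    refine ⟨Fin.snoc (α := fun _ => M) x (y : M), ?_, ?_⟩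
    · intro i
      refine Fin.lastCases ?_ (fun i => ?_) i
      · rw [Fin.snoc_last]; exact y.2
      · rw [Fin.snoc_castSucc]; exact hxN i
    · intro 𝔪 h𝔪
      haveI := h𝔪
      exact indep_snoc 𝔪 x (hxI 𝔪 h𝔪) y (hy ⟨𝔪, h𝔪⟩)

end H12SemiLoc
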