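import Mathlib
import Groth.Agent.Lib.Helper12.SemiLoc4

set_option autoImplicit false
universe u

namespace H12SemiLoc

variable {B A M : Type u} [CommRing B] [CommRing A]
    [IsLocalRing B] [Infinite (IsLocalRing.ResidueField B)] [Algebra B A]
    [Finite (MaximalSpectrum A)]
    [AddCommGroup M] [Module A M] [Module B M] [IsScalarTower B A M]

theorem span_eq_top_of_indep [Module.Finite A M] {n : ℕ} (e : Module.Basis (Fin n) A M)
    (x : Fin n → M) (hx : ∀ 𝔪 : Ideal A, 𝔪.IsMaximal → Indep 𝔪 x) :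
    Submodule.span A (Set.range x) = ⊤ := by
  set S := Submodule.span A (Set.range x) with hS
  have h1 : ∀ 𝔪 : Ideal A, 𝔪.IsMaximal → S ⊔ 𝔪 • (⊤ : Submodule A M) = ⊤ := by
    intro 𝔪 h𝔪
    haveI := h𝔪
    by_contra hne
    obtain ⟨y, hy⟩ : ∃ y : M, y ∉ S ⊔ 𝔪 • (⊤ : Submodule A M) := by
      by_contra hcon
      push Not at hcon
      exact hne (eq_top_iff.mpr fun y _ => hcon y)
    have := card_le_of_indep e 𝔪 _ (indep_snoc 𝔪 x (hx 𝔪 h𝔪) y hy)
    omega
  have h2 : (⊥ : Ideal A) • (⊤ : Submodule A (M ⧸ S)) = ⊤ := by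
    apply H12FibEt.smul_top_eq_top_of_forall_max
    intro 𝔪 h𝔪 _
    rw [eq_top_iff]
    intro z _
    obtain ⟨z, rfl⟩ := Submodule.Quotient.mk_surjective S z
    have hz : z ∈ S ⊔ 𝔪 • (⊤ : Submodule A M) := by rw [h1 𝔪 h𝔪]; trivial
    rw [Submodule.mem_sup] at hz
    obtain ⟨s, hs, t, ht, rfl⟩ := hz
    rw [Submodule.Quotient.mk_add, (Submodule.Quotient.mk_eq_zero S).mpr hs, zero_add]
    have h3 : (𝔪 • (⊤ : Submodule A M)).map S.mkQ ≤ 𝔪 • (⊤ : Submodule A (M ⧸ S)) := by
      rw [Submodule.map_smul'']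
      exact Submodule.smul_mono le_rfl le_top
    exact h3 (Submodule.mem_map_of_mem ht)
  rw [Submodule.bot_smul] at h2
  rw [← Submodule.Quotient.subsingleton_iff]
  constructor
  intro a b
  have ha : a ∈ (⊤ : Submodule A (M ⧸ S)) := trivial
  have hb : b ∈ (⊤ : Submodule A (M ⧸ S)) := trivial
  rw [← h2, Submodule.mem_bot] at ha hb
  rw [ha, hb]

theorem main [Module.Free A M] [Module.Finite A M]
    (hBA : (IsLocalRing.maximalIdeal B).map (algebraMap B A) ≤ (⊥ : Ideal A).jacobson)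
    (N : Submodule B M) (hN : Submodule.span A (N : Set M) = ⊤) :
    ∃ b : Module.Basis (Fin (Module.finrank A M)) A M, ∀ i, b i ∈ N := by
  rcases subsingleton_or_nontrivial A with hA | hA
  · haveI : Subsingleton M := Module.subsingleton A M
    refine ⟨Module.Basis.ofRepr (LinearEquiv.ofSubsingleton _ _), fun i => ?_⟩
    rw [Subsingleton.elim (Module.Basis.ofRepr (LinearEquiv.ofSubsingleton _ _) i) 0]
    exact N.zero_mem
  · set n := Module.finrank A M with hn
    let e : Module.Basis (Fin n) A M := Module.finBasis A M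
    obtain ⟨x, hxN, hxI⟩ := exists_family e hBA N hN n le_rfl
    have hsp := span_eq_top_of_indep e x hxI
    have hli : LinearIndependent A x :=
      linearIndependent_of_top_le_span_of_card_eq_finrank hsp.ge (by simp [hn])
    refine ⟨Module.Basis.mk hli hsp.ge, fun i => ?_⟩
    rw [Module.Basis.mk_apply]
    exact hxN i

end H12SemiLoc
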