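import Mathlib

set_option autoImplicit false
universe u
open TensorProduct

namespace H12SepDeg

/-- lifting along a surjective algebra map. -/
theorem exists_lift {R A B D : Type*} [CommRing R] [CommRing A] [CommRing B] [CommRing D]
    [Algebra R A] [Algebra R B] [Algebra R D] (π : A →ₐ[R] B) (hπ : Function.Surjective π)
    (g : A →ₐ[R] D) (hg : ∀ a, π a = 0 → g a = 0) : ∃ h : B →ₐ[R] D, h.comp π = g := by
  let e := Ideal.quotientKerAlgEquivOfSurjective hπ
  let l : (A ⧸ RingHom.ker π.toRingHom) →ₐ[R] D :=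
    Ideal.Quotient.liftₐ (RingHom.ker π.toRingHom) g (fun a ha => hg a ha)
  refine ⟨l.comp e.symm.toAlgHom, ?_⟩
  ext a
  have h1 : e.symm (π a) = Ideal.Quotient.mk _ a := by
    rw [AlgEquiv.symm_apply_eq]
    rfl
  change l (e.symm (π a)) = g a
  rw [h1]
  rfl

/-- algebra maps from an Artinian local ring to a field factor through the residue field. -/
theorem card_local (k A Ω : Type*) [Field k] [CommRing A] [Algebra k A] [IsLocalRing A]
    [IsArtinianRing A] [Field Ω] [Algebra k Ω] :
    Nat.card (IsLocalRing.ResidueField A →ₐ[k] Ω) = Nat.card (A →ₐ[k] Ω) := by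
  let π : A →ₐ[k] IsLocalRing.ResidueField A := IsScalarTower.toAlgHom k A _
  have hπ : Function.Surjective π := IsLocalRing.residue_surjective
  refine Nat.card_congr (Equiv.ofBijective (fun h => h.comp π) ⟨?_, ?_⟩)
  · intro h₁ h₂ h
    exact (AlgHom.cancel_right hπ).1 h
  · intro g
    refine exists_lift π hπ g (fun a ha => ?_)
    have h1 : a ∈ IsLocalRing.maximalIdeal A := (IsLocalRing.residue_eq_zero_iff a).1 ha
    haveI : (RingHom.ker g.toRingHom).IsPrime := RingHom.ker_isPrime _
    haveI : (RingHom.ker g.toRingHom).IsMaximal := IsArtinianRing.isMaximal_of_isPrime _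
    have h2 : RingHom.ker g.toRingHom = IsLocalRing.maximalIdeal A :=
      IsLocalRing.eq_maximalIdeal inferInstance
    have : a ∈ RingHom.ker g.toRingHom := h2 ▸ h1
    exact this

end H12SepDeg

namespace H12SepDeg

theorem card_baseChange (k k' A Ω : Type*) [Field k] [Field k'] [Algebra k k'] [CommRing A]
    [Algebra k A] [CommRing Ω] [Algebra k Ω] [Algebra k' Ω] [IsScalarTower k k' Ω] :
    Nat.card (A →ₐ[k] Ω) = Nat.card (k' ⊗[k] A →ₐ[k'] Ω) := by
  refine Nat.card_congr ⟨fun f => Algebra.TensorProduct.lift (Algebra.ofId k' Ω) f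
    (fun _ _ => Commute.all _ _),
    fun g => (g.restrictScalars k).comp Algebra.TensorProduct.includeRight, ?_, ?_⟩
  · intro f
    ext a
    simp
  · intro g
    apply Algebra.TensorProduct.ext
    · ext
    · ext a
      simp

theorem card_sigma (k' C Ω : Type*) [Field k'] [CommRing C] [Algebra k' C] [IsArtinianRing C]
    [Field Ω] [Algebra k' Ω] :
    Nat.card (C →ₐ[k'] Ω) = Nat.card (Σ m : MaximalSpectrum C,
      (IsLocalRing.ResidueField (Localization.AtPrime m.asIdeal) →ₐ[k'] Ω)) := by
  symm
  let π : ∀ m : MaximalSpectrum C,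
      C →ₐ[k'] IsLocalRing.ResidueField (Localization.AtPrime m.asIdeal) :=
    fun m => IsScalarTower.toAlgHom k' C _
  have hπ : ∀ m, Function.Surjective (π m) := fun m =>
    Ideal.algebraMap_residueField_surjective m.asIdeal
  have hker : ∀ (m : MaximalSpectrum C)
      (h : IsLocalRing.ResidueField (Localization.AtPrime m.asIdeal) →ₐ[k'] Ω) (c : C),
      (h.comp (π m)) c = 0 ↔ c ∈ m.asIdeal := by
    intro m h c
    rw [AlgHom.comp_apply, map_eq_zero_iff h h.toRingHom.injective]
    exact Ideal.algebraMap_residueField_eq_zero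
  refine Nat.card_congr (Equiv.ofBijective (fun x => x.2.comp (π x.1)) ⟨?_, ?_⟩)
  · rintro ⟨m₁, h₁⟩ ⟨m₂, h₂⟩ heq
    have hm : m₁ = m₂ := by
      apply MaximalSpectrum.ext
      ext c
      rw [← hker m₁ h₁, ← hker m₂ h₂]
      have : h₁.comp (π m₁) = h₂.comp (π m₂) := heq
      rw [this]
    subst hm
    congr 1
    exact (AlgHom.cancel_right (hπ m₁)).1 heq
  · intro g
    haveI : (RingHom.ker g.toRingHom).IsPrime := RingHom.ker_isPrime _
    haveI : (RingHom.ker g.toRingHom).IsMaximal := IsArtinianRing.isMaximal_of_isPrime _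
    obtain ⟨h, hh⟩ := exists_lift (π ⟨RingHom.ker g.toRingHom, inferInstance⟩) (hπ _) g
      (fun a ha => by
        have : a ∈ RingHom.ker g.toRingHom := Ideal.algebraMap_residueField_eq_zero.1 ha
        exact this)
    exact ⟨⟨_, h⟩, hh⟩

end H12SepDeg

namespace H12SepDeg

theorem main (k A k' : Type u) [Field k] [CommRing A] [Algebra k A]
    [Module.Finite k A] [IsLocalRing A] [Field k'] [Algebra k k'] :
    Field.finSepDegree k (IsLocalRing.ResidueField A) =
      ∑ᶠ m : MaximalSpectrum (k' ⊗[k] A),
        Field.finSepDegree k' (IsLocalRing.ResidueField (Localization.AtPrime m.asIdeal)) := by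
  haveI : IsArtinianRing A := IsArtinianRing.of_finite k A
  haveI : IsArtinianRing (k' ⊗[k] A) := IsArtinianRing.of_finite k' _
  haveI : Module.Finite k (IsLocalRing.ResidueField A) :=
    Module.Finite.of_surjective (IsScalarTower.toAlgHom k A (IsLocalRing.ResidueField A)).toLinearMap
      IsLocalRing.residue_surjective
  haveI : ∀ m : MaximalSpectrum (k' ⊗[k] A),
      Module.Finite k' (IsLocalRing.ResidueField (Localization.AtPrime m.asIdeal)) := fun m =>
    Module.Finite.of_surjective (IsScalarTower.toAlgHom k' (k' ⊗[k] A)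
      (IsLocalRing.ResidueField (Localization.AtPrime m.asIdeal))).toLinearMap
      (Ideal.algebraMap_residueField_surjective m.asIdeal)
  haveI : Fintype (MaximalSpectrum (k' ⊗[k] A)) := Fintype.ofFinite _
  rw [Field.finSepDegree_eq_of_isAlgClosed k _ (AlgebraicClosure k'), card_local,
    card_baseChange k k' A (AlgebraicClosure k'), card_sigma, Nat.card_sigma,
    finsum_eq_sum_of_fintype]
  refine Finset.sum_congr rfl (fun m _ => ?_)
  rw [Field.finSepDegree_eq_of_isAlgClosed k' _ (AlgebraicClosure k')]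

end H12SepDeg
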