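import Mathlib
import Groth.Prelude.Def_W4stktopologysheavesBas

/-!
# Sheaves on a basis: cofinal systems of coverings
-/

universe u

namespace Groth.Agent.Lib.Helper12.ShBasis

open TopologicalSpace

variable {X : Type u} [TopologicalSpace X] {B : Set (Opens X)}

/-- restriction lemma with proof-irrelevant inclusions -/
lemma res_res (F : ShB.Pre B) {U V W : B} (h₁ : (V : Opens X) ≤ (U : Opens X))
    (h₂ : (W : Opens X) ≤ (V : Opens X)) (h₃ : (W : Opens X) ≤ (U : Opens X)) (s : F.obj U) :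
    F.res h₂ (F.res h₁ s) = F.res h₃ s :=
  F.res_comp h₁ h₂ s

/-- The hypothesis: uniqueness of gluing holds for a cofinal system of coverings. -/
structure Cofinal (F : ShB.Pre B) (C : ∀ U : B, Set (ShB.Cover B)) : Prop where
  hCU : ∀ U : B, ∀ c ∈ C U, c.U = U
  hC : ∀ (U : B) (ι : Type u) (V : ι → B), (∀ i, (V i : Opens X) ≤ (U : Opens X)) →
      (U : Opens X) ≤ ⨆ i, (V i : Opens X) →
      ∃ c ∈ C U, ∀ i' : c.ι, ∃ i, (c.V i' : Opens X) ≤ (V i : Opens X)
  H : ∀ U : B, ∀ c ∈ C U, ShB.GluesUniquely F c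

variable {F : ShB.Pre B} {C : ∀ U : B, Set (ShB.Cover B)}

/-- Step 1: separatedness for arbitrary coverings. -/
lemma Cofinal.sep (hF : Cofinal F C) (U : B) (ι : Type u) (V : ι → B)
    (hle : ∀ i, (V i : Opens X) ≤ (U : Opens X)) (hcov : (U : Opens X) ≤ ⨆ i, (V i : Opens X))
    (t t' : F.obj U) (h : ∀ i, F.res (hle i) t = F.res (hle i) t') : t = t' := by
  obtain ⟨c, hc, href⟩ := hF.hC U ι V hle hcov
  have hU := hF.hCU U c hc
  subst hU
  have hG := hF.H c.U c hc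
  obtain ⟨t0, -, huniq⟩ := hG (fun i' => F.res (c.V_le i') t) (by
    intro i j k
    rw [res_res F _ _ ((c.W_le_left i j k).trans (c.V_le i)),
      res_res F _ _ ((c.W_le_left i j k).trans (c.V_le i))])
  have h1 : t = t0 := huniq t (fun _ => rfl)
  have h2 : t' = t0 := by
    apply huniq
    intro i'
    obtain ⟨i, hi⟩ := href i'
    rw [← res_res F (hle i) hi (c.V_le i') t', ← h i, res_res F (hle i) hi (c.V_le i') t]
  rw [h1, h2]

/-- Step 1': sections agreeing locally (on members of the basis) are equal. -/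
lemma Cofinal.sep_local (hF : Cofinal F C) (U : B) (t t' : F.obj U)
    (h : ∀ x ∈ (U : Opens X), ∃ (Q : B) (_ : x ∈ (Q : Opens X))
      (hQ : (Q : Opens X) ≤ (U : Opens X)), F.res hQ t = F.res hQ t') : t = t' := by
  choose Q hxQ hQU hQ using h
  refine hF.sep U {x : X // x ∈ (U : Opens X)} (fun x => Q x.1 x.2) (fun x => hQU x.1 x.2) ?_ t t'
    (fun x => hQ x.1 x.2)
  intro x hx
  rw [Opens.mem_iSup]
  exact ⟨⟨x, hx⟩, hxQ x hx⟩

/-- Main: gluing for a cofinal system implies the sheaf condition for all covering data. -/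
theorem Cofinal.isSheaf (hB : Opens.IsBasis B) (hF : Cofinal F C) : ShB.IsSheaf F := by
  intro c s hs
  -- (a) compatibility on arbitrary members inside `V i ⊓ V j`
  have hcompat : ∀ (i j : c.ι) (Q : B) (hQi : (Q : Opens X) ≤ (c.V i : Opens X))
      (hQj : (Q : Opens X) ≤ (c.V j : Opens X)), F.res hQi (s i) = F.res hQj (s j) := by
    intro i j Q hQi hQj
    apply hF.sep_local Q
    intro x hx
    have hxW : x ∈ ⨆ k, (c.W i j k : Opens X) := c.W_cover i j ⟨hQi hx, hQj hx⟩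
    obtain ⟨k, hxk⟩ := Opens.mem_iSup.1 hxW
    obtain ⟨Q', hQ'B, hxQ', hQ'le⟩ := (Opens.isBasis_iff_nbhd.1 hB)
      (show x ∈ (Q : Opens X) ⊓ (c.W i j k : Opens X) from ⟨hx, hxk⟩)
    refine ⟨⟨Q', hQ'B⟩, hxQ', hQ'le.trans inf_le_left, ?_⟩
    have hQ'W : ((⟨Q', hQ'B⟩ : B) : Opens X) ≤ (c.W i j k : Opens X) := hQ'le.trans inf_le_right
    rw [res_res F hQi _ (hQ'W.trans (c.W_le_left i j k)),
      res_res F hQj _ (hQ'W.trans (c.W_le_right i j k)),
      ← res_res F (c.W_le_left i j k) hQ'W, ← res_res F (c.W_le_right i j k) hQ'W, hs i j k]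
  -- (b) a cofinal refinement
  obtain ⟨c', hc', href⟩ := hF.hC c.U c.ι c.V c.V_le c.V_cover
  have hU' : c'.U = c.U := hF.hCU c.U c' hc'
  have hle1 : (c'.U : Opens X) ≤ (c.U : Opens X) := by rw [hU']
  have hle2 : (c.U : Opens X) ≤ (c'.U : Opens X) := by rw [hU']
  choose α hα using href
  obtain ⟨t', ht', -⟩ := hF.H c.U c' hc' (fun i' => F.res (hα i') (s (α i'))) (by
    intro i' j' k'
    rw [res_res F (hα i') _ ((c'.W_le_left i' j' k').trans (hα i')),
      res_res F (hα j') _ ((c'.W_le_right i' j' k').trans (hα j'))]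
    exact hcompat _ _ _ _ _)
  refine ⟨F.res hle2 t', ?_, ?_⟩
  · -- (c)
    intro i
    apply hF.sep_local (c.V i)
    intro x hx
    have hxU' : x ∈ ⨆ i', (c'.V i' : Opens X) := c'.V_cover (hle2 (c.V_le i hx))
    obtain ⟨i', hxi'⟩ := Opens.mem_iSup.1 hxU'
    obtain ⟨Q, hQB, hxQ, hQle⟩ := (Opens.isBasis_iff_nbhd.1 hB)
      (show x ∈ (c.V i : Opens X) ⊓ (c'.V i' : Opens X) from ⟨hx, hxi'⟩)
    have hQi : ((⟨Q, hQB⟩ : B) : Opens X) ≤ (c.V i : Opens X) := hQle.trans inf_le_left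
    have hQi' : ((⟨Q, hQB⟩ : B) : Opens X) ≤ (c'.V i' : Opens X) := hQle.trans inf_le_right
    refine ⟨⟨Q, hQB⟩, hxQ, hQi, ?_⟩
    rw [res_res F (c.V_le i) hQi (hQi.trans (c.V_le i)),
      res_res F hle2 _ (hQi'.trans (c'.V_le i')),
      ← res_res F (c'.V_le i') hQi', ht' i', res_res F (hα i') hQi' (hQi'.trans (hα i'))]
    exact hcompat _ _ _ _ _
  · -- (d)
    intro t2 ht2
    apply hF.sep c.U c.ι c.V c.V_le c.V_cover
    intro i
    rw [ht2 i]
    -- reuse (c): recompute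
    apply hF.sep_local (c.V i)
    intro x hx
    have hxU' : x ∈ ⨆ i', (c'.V i' : Opens X) := c'.V_cover (hle2 (c.V_le i hx))
    obtain ⟨i', hxi'⟩ := Opens.mem_iSup.1 hxU'
    obtain ⟨Q, hQB, hxQ, hQle⟩ := (Opens.isBasis_iff_nbhd.1 hB)
      (show x ∈ (c.V i : Opens X) ⊓ (c'.V i' : Opens X) from ⟨hx, hxi'⟩)
    have hQi : ((⟨Q, hQB⟩ : B) : Opens X) ≤ (c.V i : Opens X) := hQle.trans inf_le_left
    have hQi' : ((⟨Q, hQB⟩ : B) : Opens X) ≤ (c'.V i' : Opens X) := hQle.trans inf_le_right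
    refine ⟨⟨Q, hQB⟩, hxQ, hQi, ?_⟩
    rw [res_res F (c.V_le i) hQi (hQi.trans (c.V_le i)),
      res_res F hle2 _ (hQi'.trans (c'.V_le i')),
      ← res_res F (c'.V_le i') hQi', ht' i', res_res F (hα i') hQi' (hQi'.trans (hα i'))]
    exact (hcompat _ _ _ _ _).symm

end Groth.Agent.Lib.Helper12.ShBasis
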