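import Groth.Agent.Lib.Helper12.ShBasis

/-!
# Sheaves on a basis: germs
-/

universe u

namespace Groth.Agent.Lib.Helper12.ShBasis

open TopologicalSpace

variable {X : Type u} [TopologicalSpace X] {B : Set (Opens X)}

lemma germ_res (F : ShB.Pre B) {U V : B} (h : (V : Opens X) ≤ (U : Opens X)) (x : X)
    (hx : x ∈ (V : Opens X)) (s : F.obj U) :
    ShB.germ F x hx (F.res h s) = ShB.germ F x (h hx) s := by
  apply Quot.sound
  refine ⟨V, hx, le_refl _, h, ?_⟩
  exact F.res_id V _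

lemma stalkRel_equivalence (hB : Opens.IsBasis B) (F : ShB.Pre B) (x : X) :
    Equivalence (ShB.StalkRel F x) := by
  refine ⟨?_, ?_, ?_⟩
  · rintro ⟨⟨U, hx⟩, s⟩
    exact ⟨U, hx, le_refl _, le_refl _, rfl⟩
  · rintro a b ⟨W, hxW, ha, hb, h⟩
    exact ⟨W, hxW, hb, ha, h.symm⟩
  · rintro a b c ⟨W, hxW, ha, hb, h⟩ ⟨W', hxW', hb', hc, h'⟩
    obtain ⟨Q, hQB, hxQ, hQle⟩ := (Opens.isBasis_iff_nbhd.1 hB)
      (show x ∈ (W : Opens X) ⊓ (W' : Opens X) from ⟨hxW, hxW'⟩)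
    have hQW : ((⟨Q, hQB⟩ : B) : Opens X) ≤ (W : Opens X) := hQle.trans inf_le_left
    have hQW' : ((⟨Q, hQB⟩ : B) : Opens X) ≤ (W' : Opens X) := hQle.trans inf_le_right
    refine ⟨⟨Q, hQB⟩, hxQ, hQW.trans ha, hQW'.trans hc, ?_⟩
    rw [← res_res F ha hQW, h, res_res F hb hQW (hQW'.trans hb'), ← res_res F hb' hQW', h',
      res_res F hc hQW']

lemma germ_eq_iff (hB : Opens.IsBasis B) (F : ShB.Pre B) {U V : B} (x : X)
    (hxU : x ∈ (U : Opens X)) (hxV : x ∈ (V : Opens X)) (s : F.obj U) (t : F.obj V) :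
    ShB.germ F x hxU s = ShB.germ F x hxV t ↔
      ∃ (W : B) (_ : x ∈ (W : Opens X)) (hU : (W : Opens X) ≤ (U : Opens X))
        (hV : (W : Opens X) ≤ (V : Opens X)), F.res hU s = F.res hV t := by
  constructor
  · intro h
    have := (stalkRel_equivalence hB F x).eqvGen_iff.1 (Quot.eqvGen_exact h)
    exact this
  · rintro ⟨W, hxW, hU, hV, h⟩
    exact Quot.sound ⟨W, hxW, hU, hV, h⟩

/-- A sheaf on a basis is a sheaf for the (cofinal) system of all coverings. -/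
lemma cofinal_of_isSheaf (hB : Opens.IsBasis B) (F : ShB.Pre B) (hF : ShB.IsSheaf F) :
    Cofinal F (fun U => {c | c.U = U}) := by
  refine ⟨fun U c hc => hc, ?_, fun U c _ => hF c⟩
  intro U ι V hle hcov
  refine ⟨{ U := U, ι := ι, V := V, V_le := hle, V_cover := hcov
            κ := fun i j => {Q : B // (Q : Opens X) ≤ (V i : Opens X) ⊓ (V j : Opens X)}
            W := fun i j Q => Q.1
            W_le_left := fun i j Q => Q.2.trans inf_le_left
            W_le_right := fun i j Q => Q.2.trans inf_le_right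
            W_cover := ?_ }, rfl, fun i => ⟨i, le_refl _⟩⟩
  intro i j x hx
  obtain ⟨Q, hQB, hxQ, hQle⟩ := (Opens.isBasis_iff_nbhd.1 hB) hx
  rw [Opens.mem_iSup]
  exact ⟨⟨⟨Q, hQB⟩, hQle⟩, hxQ⟩

/-- sections of a sheaf on a basis with equal germs are equal -/
lemma eq_of_germ_eq (hB : Opens.IsBasis B) (F : ShB.Pre B) (hF : ShB.IsSheaf F) (U : B)
    (s t : F.obj U) (h : ∀ (x : X) (hx : x ∈ (U : Opens X)), ShB.germ F x hx s = ShB.germ F x hx t) :
    s = t := by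
  apply (cofinal_of_isSheaf hB F hF).sep_local U
  intro x hx
  obtain ⟨W, hxW, hU, hV, hh⟩ := (germ_eq_iff hB F x hx hx s t).1 (h x hx)
  exact ⟨W, hxW, hU, hh⟩

end Groth.Agent.Lib.Helper12.ShBasis
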