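import Groth.Agent.Lib.Helper12.ShBasisGerm
import Groth.Agent.S7587

/-!
# Sheaves on a basis: extension to a sheaf on the space
-/

universe u

namespace Groth.Agent.Lib.Helper12.ShBasis

open TopologicalSpace CategoryTheory Opposite

variable {X : Type u} [TopologicalSpace X] {B : Set (Opens X)}

/-- iso of presheaves on a basis from a sectionwise bijective morphism -/
noncomputable def isoOfBijective {F G : ShB.Pre B} (φ : ShB.Hom F G)
    (h : ∀ U, Function.Bijective (φ.app U)) : ShB.Iso F G where
  hom := φ
  inv :=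
    { app := fun U => (Equiv.ofBijective _ (h U)).symm
      natural := by
        intro U V hVU s
        apply (h V).1
        have h1 : φ.app U ((Equiv.ofBijective _ (h U)).symm s) = s :=
          (Equiv.ofBijective _ (h U)).apply_symm_apply s
        have h2 : φ.app V ((Equiv.ofBijective _ (h V)).symm (G.res hVU s)) = G.res hVU s :=
          (Equiv.ofBijective _ (h V)).apply_symm_apply _
        rw [← φ.natural, h1, h2] }
  hom_inv := fun U s => (Equiv.ofBijective _ (h U)).symm_apply_apply s
  inv_hom := fun U t => (Equiv.ofBijective _ (h U)).apply_symm_apply t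

/-- the inverse of an isomorphism of presheaves on a basis -/
def isoSymm {F G : ShB.Pre B} (e : ShB.Iso F G) : ShB.Iso G F where
  hom := e.inv
  inv := e.hom
  hom_inv := e.inv_hom
  inv_hom := e.hom_inv

/-- The local predicate "locally given by germs of a section over a member of the basis". -/
def extPred (hB : Opens.IsBasis B) (F : ShB.Pre B) :
    TopCat.LocalPredicate (X := TopCat.of X) (fun x => ShB.Stalk F x) where
  pred {U} f := ∀ x : U, ∃ (V : B) (_ : x.1 ∈ (V : Opens X)) (hVU : (V : Opens X) ≤ U)
      (σ : F.obj V), ∀ (y : X) (hy : y ∈ (V : Opens X)), ShB.germ F y hy σ = f ⟨y, hVU hy⟩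
  res {U' U} i f hf x := by
    obtain ⟨V, hxV, hVU, σ, hσ⟩ := hf ⟨x.1, i.le x.2⟩
    obtain ⟨Q, hQB, hxQ, hQle⟩ := (Opens.isBasis_iff_nbhd.1 hB)
      (show x.1 ∈ (V : Opens X) ⊓ U' from ⟨hxV, x.2⟩)
    refine ⟨⟨Q, hQB⟩, hxQ, hQle.trans inf_le_right, F.res (V := ⟨Q, hQB⟩) (hQle.trans inf_le_left) σ, ?_⟩
    intro y hy
    rw [germ_res]
    exact hσ y _
  locality {U} f hf x := by
    obtain ⟨V', hxV', i, hV'⟩ := hf x
    obtain ⟨V, hxV, hVV', σ, hσ⟩ := hV' ⟨x.1, hxV'⟩
    exact ⟨V, hxV, hVV'.trans i.le, σ, fun y hy => hσ y hy⟩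

/-- The extension of a presheaf on a basis to a sheaf on the space. -/
noncomputable def ext (hB : Opens.IsBasis B) (F : ShB.Pre B) : TopCat.Sheaf (Type u) (TopCat.of X) :=
  TopCat.subsheafToTypes (extPred hB F)

/-- The comparison morphism. -/
noncomputable def toExt (hB : Opens.IsBasis B) (F : ShB.Pre B) :
    ShB.Hom F (ShB.restrict B (ext hB F).presheaf) where
  app U s := ⟨fun x => ShB.germ F x.1 x.2 s, fun x => ⟨U, x.2, le_refl _, s, fun y hy => rfl⟩⟩
  natural h s := by
    apply Subtype.ext
    funext x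
    exact (germ_res F h x.1 x.2 s).symm

lemma toExt_bijective (hB : Opens.IsBasis B) (F : ShB.Pre B) (hF : ShB.IsSheaf F) (U : B) :
    Function.Bijective ((toExt hB F).app U) := by
  obtain ⟨hinj, hsurj⟩ := Groth.Agent.S7587.result hB F hF U
  constructor
  · intro s t h
    apply hinj
    exact congrArg Subtype.val h
  · rintro ⟨f, hf⟩
    obtain ⟨s, hs⟩ := (hsurj f).2 hf
    exact ⟨s, Subtype.ext (funext hs)⟩

section Unique

variable (G G' : TopCat.Sheaf (Type u) (TopCat.of X)) {F : ShB.Pre B}
  (e : ShB.Iso (ShB.restrict B G.presheaf) F) (e' : ShB.Iso (ShB.restrict B G'.presheaf) F)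

/-- the family of opens indexed by the basis -/
abbrev fam (B : Set (Opens X)) : B → Opens (TopCat.of X) := fun U => (U : Opens X)

lemma isBasis_range_fam (hB : Opens.IsBasis B) : Opens.IsBasis (Set.range (fam B)) := by
  have : Set.range (fam B) = B := Subtype.range_coe
  rw [this]
  exact hB

/-- an object of the induced category as a member of the basis -/
def toB (U : InducedCategory (Opens (TopCat.of X)) (fam B)) : B := U

/-- The morphism of restricted presheaves induced by the two isomorphisms. -/
noncomputable def basisHom :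
    (inducedFunctor (fam B)).op ⋙ G.presheaf ⟶ (inducedFunctor (fam B)).op ⋙ G'.1 where
  app U := ↾(fun s => e'.inv.app (toB U.unop) (e.hom.app (toB U.unop) s))
  naturality U V f := by
    ext s
    have h : ((toB V.unop : B) : Opens X) ≤ ((toB U.unop : B) : Opens X) := f.unop.hom.le
    have h1 := e.hom.natural h s
    have h2 := e'.inv.natural h (e.hom.app (toB U.unop) s)
    have e1 : (homOfLE h) = f.unop.hom := Subsingleton.elim _ _
    change e'.inv.app (toB V.unop) (e.hom.app (toB V.unop) (G.presheaf.map f.unop.hom.op s)) =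
      G'.presheaf.map f.unop.hom.op (e'.inv.app (toB U.unop) (e.hom.app (toB U.unop) s))
    rw [← e1]
    change e'.inv.app (toB V.unop) (e.hom.app (toB V.unop) ((ShB.restrict B G.presheaf).res h s)) =
      (ShB.restrict B G'.presheaf).res h (e'.inv.app (toB U.unop) (e.hom.app (toB U.unop) s))
    rw [h2, h1]


/-- The extension of `basisHom` to a morphism of sheaves. -/
noncomputable def extHom (hB : Opens.IsBasis B) : G ⟶ G' :=
  ObjectProperty.homMk (TopCat.Sheaf.restrictHomEquivHom G.presheaf G' (isBasis_range_fam hB)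
    (basisHom G G' e e'))

lemma extHom_app (hB : Opens.IsBasis B) (U : B) (s : G.presheaf.obj (op (U : Opens X))) :
    (extHom G G' e e' hB).hom.app (op (U : Opens X)) s = e'.inv.app U (e.hom.app U s) := by
  have := TopCat.Sheaf.extend_hom_app G.presheaf G' (isBasis_range_fam hB) (basisHom G G' e e') U
  change ((TopCat.Sheaf.restrictHomEquivHom G.presheaf G' (isBasis_range_fam hB))
    (basisHom G G' e e')).app (op (fam B U)) s = _
  rw [this]
  rfl

lemma hom_ext_basis (hB : Opens.IsBasis B) (φ ψ : G ⟶ G')
    (h : ∀ (U : B) (s : G.presheaf.obj (op (U : Opens X))),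
      φ.hom.app (op (U : Opens X)) s = ψ.hom.app (op (U : Opens X)) s) : φ = ψ := by
  apply ObjectProperty.hom_ext
  apply TopCat.Sheaf.hom_ext G.presheaf G' (isBasis_range_fam hB)
  intro U
  ext s
  exact h U s

theorem existsUnique_hom (hB : Opens.IsBasis B) :
    ∃! φ : G ⟶ G', IsIso φ ∧ ∀ (U : B) (s : G.presheaf.obj (op (U : Opens X))),
      e'.hom.app U (φ.1.app (op (U : Opens X)) s) = e.hom.app U s := by
  refine ⟨extHom G G' e e' hB, ⟨?_, ?_⟩, ?_⟩
  · refine ⟨extHom G' G e' e hB, ?_, ?_⟩
    · apply hom_ext_basis G G hB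
      intro U s
      change (extHom G' G e' e hB).hom.app (op (U : Opens X))
        ((extHom G G' e e' hB).hom.app (op (U : Opens X)) s) = s
      rw [extHom_app, extHom_app, e'.inv_hom, e.hom_inv]
    · apply hom_ext_basis G' G' hB
      intro U s
      change (extHom G G' e e' hB).hom.app (op (U : Opens X))
        ((extHom G' G e' e hB).hom.app (op (U : Opens X)) s) = s
      rw [extHom_app, extHom_app, e.inv_hom, e'.hom_inv]
  · intro U s
    rw [extHom_app, e'.inv_hom]
  · rintro ψ ⟨-, hψ⟩
    apply hom_ext_basis G G' hB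
    intro U s
    rw [extHom_app]
    have := hψ U s
    rw [← this]
    exact (e'.hom_inv U _).symm

end Unique

end Groth.Agent.Lib.Helper12.ShBasis
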