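import Mathlib
import Groth.Agent.Lib.Helper12.FlatCpl3
import Groth.Agent.Lib.Helper12.FSchSmooth
import Groth.Agent.Lib.Helper25.FiberSmoothScheme2

set_option autoImplicit false
open CategoryTheory CategoryTheory.Limits AlgebraicGeometry TensorProduct

namespace H12FlatCpl

universe u

theorem exists_comap_quot_eq {A : Type u} [CommRing A] (I : Ideal A)
    (p : PrimeSpectrum A) (hp : I ≤ p.asIdeal) :
    ∃ q : PrimeSpectrum (A ⧸ I), PrimeSpectrum.comap (Ideal.Quotient.mk I) q = p := by
  have hsurj : Function.Surjective (Ideal.Quotient.mk I) := Ideal.Quotient.mk_surjective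
  refine ⟨⟨p.asIdeal.map (Ideal.Quotient.mk I),
    Ideal.map_isPrime_of_surjective hsurj (by rwa [Ideal.mk_ker])⟩, ?_⟩
  ext1
  change Ideal.comap (Ideal.Quotient.mk I) (p.asIdeal.map (Ideal.Quotient.mk I)) = _
  rw [Ideal.comap_map_of_surjective _ hsurj, ← RingHom.ker_eq_comap_bot, Ideal.mk_ker]
  exact sup_eq_left.mpr hp

theorem mem_smoothLocus_of_mem_special {A : Type u} [CommRing A] [IsNoetherianRing A] (a : A)
    {X : Scheme.{u}} [IsLocallyNoetherian X] (h : X ⟶ Spec (CommRingCat.of A))
    [LocallyOfFinitePresentation h]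
    (htf : ∀ (W : X.Opens), IsAffineOpen W → ∀ b : Γ(X, W),
      (h.appLE ⊤ W le_top).hom ((Scheme.ΓSpecIso (CommRingCat.of A)).inv.hom a) * b = 0 → b = 0)
    [Smooth (pullback.snd h (Spec.map (CommRingCat.ofHom (Ideal.Quotient.mk (Ideal.span {a})))))]
    (x : X) (hx : a ∈ (h x).asIdeal) : x ∈ h.smoothLocus := by
  have hfl := flat_stalkMap_of_mem_special a h htf x hx
  set j := Spec.map (CommRingCat.ofHom (Ideal.Quotient.mk (Ideal.span {a}))) with hj
  haveI : IsClosedImmersion j :=
    IsClosedImmersion.spec_of_surjective _ Ideal.Quotient.mk_surjective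
  obtain ⟨pbar, hpbar⟩ := exists_comap_quot_eq (Ideal.span {a}) (h x)
    ((Ideal.span_singleton_le_iff_mem _).mpr hx)
  have hpbar' : j pbar = h x := hpbar
  have hsm0 : Smooth (h.fiberToSpecResidueField (j pbar)) :=
    H12FSchSm.smooth_fiber (IsPullback.of_hasPullback h j) pbar
  have hsm : Smooth (h.fiberToSpecResidueField (h x)) := hpbar' ▸ hsm0
  have hxr : x ∈ Set.range (h.fiberι (h x)) := by
    rw [Scheme.Hom.range_fiberι]; rfl
  obtain ⟨z, hz⟩ := hxr
  have key := Groth.Agent.Lib.Helper25.FiberSmoothScheme.mem_smoothLocus_of_flat_of_fiber h (h x) z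
    (by rw [hz]; exact hfl)
    (by rw [Scheme.Hom.smoothLocus_eq_top]; trivial)
  rwa [hz] at key

theorem smooth_completion_of_smooth {V A : Type u} [CommRing V] [IsDomain V]
    [IsDiscreteValuationRing V]
    [CommRing A] [Algebra V A] [IsNoetherianRing A]
    (I : Ideal A) (hI : I = (IsLocalRing.maximalIdeal V).map (algebraMap V A))
    {X : Scheme.{u}} (h : X ⟶ Spec (CommRingCat.of A)) [IsProper h]
    [Flat (h ≫ Spec.map (CommRingCat.ofHom (algebraMap V A)))]
    [Smooth (pullback.snd h (Spec.map (CommRingCat.ofHom (Ideal.Quotient.mk I))))] :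
    Smooth (pullback.snd h (Spec.map (CommRingCat.ofHom (algebraMap A (AdicCompletion I A))))) := by
  obtain ⟨ϖ, hϖ⟩ := IsDiscreteValuationRing.exists_irreducible V
  have hI' : I = Ideal.span {algebraMap V A ϖ} := by
    rw [hI, hϖ.maximalIdeal_eq, Ideal.map_span, Set.image_singleton]
  subst hI'
  haveI : IsLocallyNoetherian X := LocallyOfFiniteType.isLocallyNoetherian h
  haveI : LocallyOfFinitePresentation h :=
    Groth.Agent.Lib.Helper26.ThickeningFT.lfp_of_lft_of_isLocallyNoetherian h
  rw [← Scheme.Hom.smoothLocus_eq_top_iff, eq_top_iff]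
  intro x' _
  obtain ⟨x'', hsp, hle⟩ := exists_specializes_special _ ⟨{algebraMap V A ϖ}, by simp⟩ h _ rfl x'
  have hmem : algebraMap V A ϖ ∈ (h (pullback.fst h _ x'')).asIdeal :=
    hle (Ideal.mem_span_singleton_self _)
  have h1 := mem_smoothLocus_of_mem_special (algebraMap V A ϖ) h
    (torsionFree_of_flat_comp h ϖ hϖ.ne_zero) _ hmem
  have h2 : pullback.fst h _ x' ∈ h.smoothLocus :=
    (hsp.map (pullback.fst h _).continuous).mem_open h.smoothLocus.2 h1
  exact Groth.Agent.Lib.Helper25.FiberSmoothScheme.preimage_smoothLocus_le_of_isPullback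
    (IsPullback.of_hasPullback h _) h2

theorem main_smooth
    (V : Type u) [CommRing V] [IsDomain V] [IsDiscreteValuationRing V]
    (A : Type u) [CommRing A] [Algebra V A] [Algebra.Smooth V A]
    (X : Scheme.{u}) (h : X ⟶ Spec (.of A)) [IsProper h] :
    (Flat (h ≫ Spec.map (CommRingCat.ofHom (algebraMap V A))) ∧
        Smooth (pullback.snd h (Spec.map (CommRingCat.ofHom
          (Ideal.Quotient.mk ((IsLocalRing.maximalIdeal V).map (algebraMap V A))))))) ↔
      Smooth (pullback.snd h (Spec.map (CommRingCat.ofHom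
          (algebraMap A (AdicCompletion ((IsLocalRing.maximalIdeal V).map (algebraMap V A)) A))))) := by
  haveI : IsNoetherianRing A := Algebra.FiniteType.isNoetherianRing V A
  constructor
  · rintro ⟨h1, h2⟩
    exact smooth_completion_of_smooth _ rfl h
  · intro h1
    exact ⟨flat_comp_of_flat_completion _ rfl h, prop_special_of_completion @Smooth _ h h1⟩

end H12FlatCpl
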