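import Mathlib
import Groth.Prelude.Def_W4stktopologysheavesDim

/-!
# The soberification of a topological space
-/

universe u

namespace Groth.Agent.Lib.Helper12.Sob

open TopologicalSpace Topology PtTop

variable {X : Type u} [TopologicalSpace X]

/-- a point of the soberification as an irreducible closed subset -/
abbrev ic (Z : Sob X) : IrreducibleCloseds X := Z

/-- The open subset of the soberification attached to a subset `U` of `X`. -/
def S (U : Set X) : Set (Sob X) := {Z : IrreducibleCloseds X | ((Z : Set X) ∩ U).Nonempty}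

lemma mem_S {U : Set X} {Z : IrreducibleCloseds X} :
    (show Sob X from Z) ∈ S U ↔ ((Z : Set X) ∩ U).Nonempty := Iff.rfl

lemma S_mono {U V : Set X} (h : U ⊆ V) : S U ⊆ S V := by
  rintro Z ⟨x, hxZ, hxU⟩
  exact ⟨x, hxZ, h hxU⟩

lemma S_univ : S (Set.univ : Set X) = Set.univ := by
  ext Z
  simp only [Set.mem_univ, iff_true]
  obtain ⟨x, hx⟩ := (IrreducibleCloseds.isIrreducible Z).1
  exact ⟨x, hx, trivial⟩

lemma S_inter {U V : Set X} (hU : IsOpen U) (hV : IsOpen V) : S (U ∩ V) = S U ∩ S V := by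
  apply Set.Subset.antisymm
  · exact Set.subset_inter (S_mono Set.inter_subset_left) (S_mono Set.inter_subset_right)
  · rintro Z ⟨h1, h2⟩
    exact (IrreducibleCloseds.isIrreducible Z).2 U V hU hV h1 h2

lemma S_iUnion {ι : Sort*} (U : ι → Set X) : S (⋃ i, U i) = ⋃ i, S (U i) := by
  ext Z
  simp only [Set.mem_iUnion]
  constructor
  · rintro ⟨x, hxZ, hxU⟩
    obtain ⟨i, hi⟩ := Set.mem_iUnion.1 hxU
    exact ⟨i, x, hxZ, hi⟩
  · rintro ⟨i, x, hxZ, hi⟩
    exact ⟨x, hxZ, Set.mem_iUnion.2 ⟨i, hi⟩⟩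

lemma isOpen_S {U : Set X} (hU : IsOpen U) : IsOpen (S U) :=
  TopologicalSpace.GenerateOpen.basic _ ⟨⟨U, hU⟩, rfl⟩

lemma preimage_S {U : Set X} (hU : IsOpen U) : toSob X ⁻¹' S U = U := by
  ext x
  change (closure {x} ∩ U).Nonempty ↔ x ∈ U
  rw [closure_inter_open_nonempty_iff hU, Set.singleton_inter_nonempty]

lemma isOpen_iff {T : Set (Sob X)} : IsOpen T ↔ ∃ U : Set X, IsOpen U ∧ T = S U := by
  constructor
  · intro h
    induction h with
    | basic T hT =>
      obtain ⟨U, rfl⟩ := hT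
      exact ⟨U, U.2, rfl⟩
    | univ => exact ⟨Set.univ, isOpen_univ, S_univ.symm⟩
    | inter T T' _ _ ih ih' =>
      obtain ⟨U, hU, rfl⟩ := ih
      obtain ⟨U', hU', rfl⟩ := ih'
      exact ⟨U ∩ U', hU.inter hU', (S_inter hU hU').symm⟩
    | sUnion 𝒯 _ ih =>
      choose U hU hUT using ih
      refine ⟨⋃ (T : Set (Sob X)) (hT : T ∈ 𝒯), U T hT, isOpen_iUnion fun T => isOpen_iUnion fun hT => hU T hT, ?_⟩
      rw [S_iUnion, Set.sUnion_eq_biUnion]
      congr 1
      ext T : 1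
      rw [S_iUnion]
      congr 1
      ext hT : 1
      exact hUT T hT
  · rintro ⟨U, hU, rfl⟩
    exact isOpen_S hU

lemma continuous_toSob : Continuous (toSob X) := by
  rw [continuous_def]
  intro T hT
  obtain ⟨U, hU, rfl⟩ := isOpen_iff.1 hT
  rw [preimage_S hU]
  exact hU

lemma S_subset_S_iff {U V : Set X} (hU : IsOpen U) (hV : IsOpen V) : S U ⊆ S V ↔ U ⊆ V := by
  refine ⟨fun h => ?_, S_mono⟩
  rw [← preimage_S hU, ← preimage_S hV]
  exact Set.preimage_mono h

lemma S_injective {U V : Set X} (hU : IsOpen U) (hV : IsOpen V) (h : S U = S V) : U = V := by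
  rw [← preimage_S hU, ← preimage_S hV, h]

lemma isClosed_iff {T : Set (Sob X)} :
    IsClosed T ↔ ∃ C : Set X, IsClosed C ∧ T = {Z : IrreducibleCloseds X | (Z : Set X) ⊆ C} := by
  rw [← isOpen_compl_iff, isOpen_iff]
  constructor
  · rintro ⟨U, hU, h⟩
    refine ⟨Uᶜ, hU.isClosed_compl, ?_⟩
    ext Z
    have : Z ∈ Tᶜ ↔ Z ∈ S U := by rw [h]
    rw [Set.mem_compl_iff] at this
    rw [← not_iff_not, this]
    change ((ic Z : Set X) ∩ U).Nonempty ↔ ¬ ((ic Z : Set X) ⊆ Uᶜ)
    rw [Set.subset_compl_iff_disjoint_right, Set.not_disjoint_iff_nonempty_inter]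
  · rintro ⟨C, hC, rfl⟩
    refine ⟨Cᶜ, hC.isOpen_compl, ?_⟩
    ext Z
    change ¬ ((ic Z : Set X) ⊆ C) ↔ ((ic Z : Set X) ∩ Cᶜ).Nonempty
    rw [← Set.not_disjoint_iff_nonempty_inter, ← Set.subset_compl_iff_disjoint_right, compl_compl]

instance : T0Space (Sob X) := by
  refine ⟨fun Z Z' h => ?_⟩
  rw [inseparable_iff_forall_isOpen] at h
  have key : ∀ Z Z' : IrreducibleCloseds X, (∀ s : Set (Sob X), IsOpen s → (Z ∈ s ↔ Z' ∈ s)) →
      (Z : Set X) ⊆ Z' := by
    intro Z Z' h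
    by_contra hne
    rw [Set.not_subset] at hne
    obtain ⟨x, hxZ, hxZ'⟩ := hne
    have := (h (S (Z' : Set X)ᶜ) (isOpen_S Z'.isClosed.isOpen_compl)).1 ⟨x, hxZ, hxZ'⟩
    obtain ⟨y, hy, hy'⟩ := this
    exact hy' hy
  exact IrreducibleCloseds.ext (Set.Subset.antisymm (key Z Z' h) (key Z' Z fun s hs => (h s hs).symm))

instance : QuasiSober (Sob X) := by
  refine ⟨fun {T} hT hT' => ?_⟩
  obtain ⟨C, hC, rfl⟩ := isClosed_iff.1 hT'
  have hCirr : IsIrreducible C := by
    refine ⟨?_, ?_⟩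
    · obtain ⟨Z, hZ⟩ := hT.1
      obtain ⟨x, hx⟩ := (IrreducibleCloseds.isIrreducible Z).1
      exact ⟨x, hZ hx⟩
    · rintro u v hu hv ⟨a, haC, hau⟩ ⟨b, hbC, hbv⟩
      have h1 : ({Z : IrreducibleCloseds X | (Z : Set X) ⊆ C} ∩ S u).Nonempty :=
        ⟨toSob X a, closure_minimal (Set.singleton_subset_iff.2 haC) hC, ⟨a, subset_closure rfl, hau⟩⟩
      have h2 : ({Z : IrreducibleCloseds X | (Z : Set X) ⊆ C} ∩ S v).Nonempty :=
        ⟨toSob X b, closure_minimal (Set.singleton_subset_iff.2 hbC) hC, ⟨b, subset_closure rfl, hbv⟩⟩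
      obtain ⟨Z, hZC, hZu, hZv⟩ := hT.2 (S u) (S v) (isOpen_S hu) (isOpen_S hv) h1 h2
      obtain ⟨x, hxZ, hxuv⟩ := (IrreducibleCloseds.isIrreducible Z).2 u v hu hv hZu hZv
      exact ⟨x, hZC hxZ, hxuv⟩
  refine ⟨(⟨C, hCirr, hC⟩ : IrreducibleCloseds X), ?_⟩
  rw [isGenericPoint_def]
  apply Set.Subset.antisymm
  · apply closure_minimal
    · rw [Set.singleton_subset_iff]
      exact le_refl C
    · exact isClosed_iff.2 ⟨C, hC, rfl⟩
  · intro Z hZ
    rw [mem_closure_iff]
    intro o ho hZo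
    obtain ⟨U, hU, rfl⟩ := isOpen_iff.1 ho
    obtain ⟨x, hxZ, hxU⟩ := hZo
    exact ⟨_, ⟨x, hZ hxZ, hxU⟩, rfl⟩

/-- the bijection between opens -/
lemma bijOn_preimage :
    Set.BijOn (fun U' : Set (Sob X) => toSob X ⁻¹' U') {U' | IsOpen U'} {U : Set X | IsOpen U} := by
  refine ⟨?_, ?_, ?_⟩
  · intro T hT
    exact continuous_toSob.isOpen_preimage T hT
  · intro T hT T' hT' h
    obtain ⟨U, hU, rfl⟩ := isOpen_iff.1 hT
    obtain ⟨U', hU', rfl⟩ := isOpen_iff.1 hT'
    simp only [preimage_S hU, preimage_S hU'] at h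
    rw [h]
  · intro U hU
    exact ⟨S U, isOpen_S hU, preimage_S hU⟩

/-- the universal property -/
lemma exists_factor {Y : Type*} [TopologicalSpace Y] [QuasiSober Y] [T0Space Y] (f : X → Y)
    (hf : Continuous f) : ∃ g : Sob X → Y, Continuous g ∧ g ∘ toSob X = f := by
  have hirr : ∀ Z : Sob X, IsIrreducible (f '' (ic Z : Set X)) := fun Z =>
    (IrreducibleCloseds.isIrreducible (ic Z)).image f hf.continuousOn
  refine ⟨fun Z => (hirr Z).genericPoint, ?_, ?_⟩
  · rw [continuous_def]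
    intro V hV
    have : (fun Z => (hirr Z).genericPoint) ⁻¹' V = S (f ⁻¹' V) := by
      ext Z
      change (hirr Z).genericPoint ∈ V ↔ ((ic Z : Set X) ∩ f ⁻¹' V).Nonempty
      rw [(hirr Z).isGenericPoint_genericPoint_closure.mem_open_set_iff hV,
        closure_inter_open_nonempty_iff hV]
      constructor
      · rintro ⟨_, ⟨x, hxZ, rfl⟩, hxV⟩
        exact ⟨x, hxZ, hxV⟩
      · rintro ⟨x, hxZ, hxV⟩
        exact ⟨f x, ⟨x, hxZ, rfl⟩, hxV⟩
    rw [this]
    exact isOpen_S (hf.isOpen_preimage V hV)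
  · funext x
    change (hirr (toSob X x)).genericPoint = f x
    apply IsGenericPoint.eq (hirr (toSob X x)).isGenericPoint_genericPoint_closure
    rw [isGenericPoint_def]
    change closure {f x} = closure (f '' closure {x})
    rw [closure_image_closure hf, Set.image_singleton]

/-- `U ↦ S U` as an order isomorphism on opens -/
def opensIso : Opens X ≃o Opens (Sob X) where
  toFun U := ⟨S (U : Set X), isOpen_S U.2⟩
  invFun T := ⟨toSob X ⁻¹' (T : Set (Sob X)), continuous_toSob.isOpen_preimage _ T.2⟩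
  left_inv U := by
    apply Opens.ext
    exact preimage_S U.2
  right_inv T := by
    apply Opens.ext
    obtain ⟨U, hU, h⟩ := isOpen_iff.1 T.2
    change S (toSob X ⁻¹' T.carrier) = T.carrier
    rw [h, preimage_S hU]
  map_rel_iff' := by
    intro U V
    exact S_subset_S_iff U.2 V.2

lemma isCompactElement_orderIso {α β : Type*} [CompleteLattice α] [CompleteLattice β]
    (e : α ≃o β) {k : α} (hk : IsCompactElement k) : IsCompactElement (e k) := by
  classical
  rw [CompleteLattice.isCompactElement_iff_exists_le_sSup_of_le_sSup] at hk ⊢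
  intro s hs
  have h1 : k ≤ sSup (e.symm '' s) := by
    rw [sSup_image, ← e.symm.map_sSup]
    rw [← e.symm_apply_apply k]
    exact e.symm.monotone hs
  obtain ⟨t, hts, hkt⟩ := hk (e.symm '' s) h1
  refine ⟨t.image e, ?_, ?_⟩
  · intro x hx
    rw [Finset.coe_image] at hx
    obtain ⟨y, hy, rfl⟩ := hx
    obtain ⟨z, hz, rfl⟩ := hts hy
    rw [e.apply_symm_apply]
    exact hz
  · rw [Finset.sup_image]
    have := e.monotone hkt
    rw [map_finset_sup] at this
    exact this

lemma isCompactElement_orderIso_iff {α β : Type*} [CompleteLattice α] [CompleteLattice β]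
    (e : α ≃o β) {k : α} : IsCompactElement (e k) ↔ IsCompactElement k := by
  refine ⟨fun h => ?_, isCompactElement_orderIso e⟩
  have := isCompactElement_orderIso e.symm h
  rwa [e.symm_apply_apply] at this

lemma isCompact_S_iff {U : Set X} (hU : IsOpen U) : IsCompact (S U) ↔ IsCompact U := by
  have h1 := Opens.isCompactElement_iff (⟨U, hU⟩ : Opens X)
  have h2 := Opens.isCompactElement_iff (opensIso (⟨U, hU⟩ : Opens X))
  change _ ↔ IsCompact U at h1
  change _ ↔ IsCompact (S U) at h2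
  rw [← h1, ← h2, isCompactElement_orderIso_iff]

lemma compactSpace [CompactSpace X] : CompactSpace (Sob X) := by
  refine ⟨?_⟩
  rw [← S_univ, isCompact_S_iff isOpen_univ]
  exact isCompact_univ

lemma noetherianSpace [NoetherianSpace X] : NoetherianSpace (Sob X) := by
  change WellFoundedGT (Opens (Sob X))
  have : WellFoundedGT (Opens X) := ‹NoetherianSpace X›
  exact (opensIso (X := X)).symm.toOrderEmbedding.wellFoundedGT

lemma prespectralSpace [PrespectralSpace X] : PrespectralSpace (Sob X) := by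
  refine PrespectralSpace.of_isTopologicalBasis (B := {T | ∃ U : Set X, IsOpen U ∧ IsCompact U ∧ T = S U}) ?_ ?_
  · apply TopologicalSpace.isTopologicalBasis_of_isOpen_of_nhds
    · rintro _ ⟨U, hU, -, rfl⟩
      exact isOpen_S hU
    · intro Z T hZT hT
      obtain ⟨U, hU, rfl⟩ := isOpen_iff.1 hT
      obtain ⟨x, hxZ, hxU⟩ := hZT
      obtain ⟨V, ⟨hV, hVc⟩, hxV, hVU⟩ :=
        (PrespectralSpace.isTopologicalBasis (X := X)).exists_subset_of_mem_open hxU hU
      exact ⟨S V, ⟨V, hV, hVc, rfl⟩, ⟨x, hxZ, hxV⟩, S_mono hVU⟩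
  · rintro _ ⟨U, hU, hUc, rfl⟩
    exact (isCompact_S_iff hU).2 hUc

lemma quasiSeparatedSpace [QuasiSeparatedSpace X] : QuasiSeparatedSpace (Sob X) := by
  refine ⟨fun T T' hT hTc hT' hTc' => ?_⟩
  obtain ⟨U, hU, rfl⟩ := isOpen_iff.1 hT
  obtain ⟨U', hU', rfl⟩ := isOpen_iff.1 hT'
  rw [← S_inter hU hU', isCompact_S_iff (hU.inter hU')]
  exact QuasiSeparatedSpace.inter_isCompact U U' hU ((isCompact_S_iff hU).1 hTc) hU'
    ((isCompact_S_iff hU').1 hTc')

lemma spectralSpace [CompactSpace X] [PrespectralSpace X] [QuasiSeparatedSpace X] :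
    SpectralSpace (Sob X) :=
  { compactSpace, prespectralSpace, quasiSeparatedSpace, (inferInstance : T0Space (Sob X)),
    (inferInstance : QuasiSober (Sob X)) with }

end Groth.Agent.Lib.Helper12.Sob
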