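import Mathlib.AlgebraicGeometry.SpreadingOut
import Mathlib.AlgebraicGeometry.Morphisms.FinitePresentation

/-!
# Spreading out morphisms locally of finite presentation (no germ-injectivity needed)
-/

set_option autoImplicit false

namespace Groth.Agent.Lib.Helper12

open AlgebraicGeometry CategoryTheory TopologicalSpace Opposite

universe u

variable {X : Scheme.{u}} {R A : CommRingCat.{u}}

/-- Given a commutative square `R ⟶ Γ(X, U)`, `R ⟶ A`, `A ⟶ 𝒪_{X,x}` with `A` of finite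
presentation over `R`, the map `A ⟶ 𝒪_{X,x}` lifts to `A ⟶ Γ(X, V)` for some affine open
neighbourhood `V ≤ U` of `x`. -/
lemma exists_lift_of_finitePresentation {U : X.Opens} {x : X} (hxU : x ∈ U)
    (φ : A ⟶ X.presheaf.stalk x) (φRA : R ⟶ A) (φRX : R ⟶ Γ(X, U))
    (hφRA : RingHom.FinitePresentation φRA.hom)
    (e : φRA ≫ φ = φRX ≫ X.presheaf.germ U x hxU) :
    ∃ (V : X.Opens) (hxV : x ∈ V) (φ' : A ⟶ Γ(X, V)) (i : V ≤ U), IsAffineOpen V ∧
      φ = φ' ≫ X.presheaf.germ V x hxV ∧ φRX ≫ X.presheaf.map i.hom.op = φRA ≫ φ' := by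
  classical
  let _ := φRA.hom.toAlgebra
  obtain ⟨n, π, hπ, s, hs⟩ := hφRA
  -- lifts of the generators
  choose W hxW f hf using fun i : Fin n ↦ X.presheaf.exists_germ_eq (φ (π (MvPolynomial.X i)))
  let W₀ : X.Opens := Finset.univ.inf W ⊓ U
  have hxW₀ : x ∈ W₀ := by
    rw [← SetLike.mem_coe, TopologicalSpace.Opens.coe_inf, TopologicalSpace.Opens.coe_finset_inf]
    exact ⟨by simpa using fun i ↦ hxW i, hxU⟩
  have hW₀W : ∀ i, W₀ ≤ W i := fun i => inf_le_left.trans (Finset.inf_le (Finset.mem_univ i))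
  have hW₀U : W₀ ≤ U := inf_le_right
  let f' : Fin n → Γ(X, W₀) := fun i => X.presheaf.map (homOfLE (hW₀W i)).op (f i)
  let g₀ : MvPolynomial (Fin n) R →+* Γ(X, W₀) :=
    MvPolynomial.eval₂Hom (φRX ≫ X.presheaf.map (homOfLE hW₀U).op).hom f'
  have hπC : ∀ r : R, π (MvPolynomial.C r) = φRA r := fun r => π.commutes r
  have hg₀ : (X.presheaf.germ W₀ x hxW₀).hom.comp g₀ = φ.hom.comp π.toRingHom := by
    apply MvPolynomial.ringHom_ext
    · intro r
      simp only [RingHom.coe_comp, Function.comp_apply, g₀, MvPolynomial.coe_eval₂Hom,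
        MvPolynomial.eval₂_C, CommRingCat.hom_comp]
      rw [AlgHom.toRingHom_eq_coe, RingHom.coe_coe, hπC]
      have h1 := X.presheaf.germ_res_apply (homOfLE hW₀U) x hxW₀ (φRX r)
      have h2 : φ (φRA r) = X.presheaf.germ U x hxU (φRX r) :=
        congr($e r)
      exact h1.trans h2.symm
    · intro i
      simp only [RingHom.coe_comp, Function.comp_apply, g₀, MvPolynomial.coe_eval₂Hom,
        MvPolynomial.eval₂_X, f']
      rw [AlgHom.toRingHom_eq_coe, RingHom.coe_coe]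
      exact (X.presheaf.germ_res_apply (homOfLE (hW₀W i)) x hxW₀ (f i)).trans (hf i)
  have hg₀' : ∀ p, X.presheaf.germ W₀ x hxW₀ (g₀ p) = φ (π p) := fun p =>
    congr($hg₀ p)
  -- the relations vanish on a smaller neighbourhood
  have hrel : ∀ r : s, ∃ (W' : X.Opens) (_ : x ∈ W') (h : W' ≤ W₀),
      X.presheaf.map (homOfLE h).op (g₀ r.1) = 0 := by
    intro r
    have hr : π r.1 = 0 := by
      have : r.1 ∈ RingHom.ker π.toRingHom := hs ▸ Ideal.subset_span r.2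
      exact this
    have h1 : X.presheaf.germ W₀ x hxW₀ (g₀ r.1) = X.presheaf.germ W₀ x hxW₀ 0 := by
      rw [hg₀', hr, map_zero, map_zero]
    obtain ⟨W', hxW', iU, iV, h2⟩ := X.presheaf.germ_eq x hxW₀ hxW₀ _ _ h1
    refine ⟨W', hxW', iU.le, ?_⟩
    rw [map_zero] at h2
    exact h2
  choose W' hxW' hW'W₀ hW' using hrel
  let W₁ : X.Opens := Finset.univ.inf W' ⊓ W₀
  have hxW₁ : x ∈ W₁ := by
    rw [← SetLike.mem_coe, TopologicalSpace.Opens.coe_inf, TopologicalSpace.Opens.coe_finset_inf]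
    exact ⟨by simpa using fun r hr ↦ hxW' ⟨r, hr⟩, hxW₀⟩
  obtain ⟨_, ⟨V, hV, rfl⟩, hxV, hVW₁⟩ :=
    X.isBasis_affineOpens.exists_subset_of_mem_open hxW₁ W₁.2
  have hVW₁' : V ≤ W₁ := hVW₁
  have hVW₀ : V ≤ W₀ := hVW₁'.trans inf_le_right
  have hVW' : ∀ r : s, V ≤ W' r :=
    fun r => hVW₁'.trans (inf_le_left.trans (Finset.inf_le (Finset.mem_univ r)))
  let g₁ : MvPolynomial (Fin n) R →+* Γ(X, V) := (X.presheaf.map (homOfLE hVW₀).op).hom.comp g₀
  have hker : RingHom.ker π.toRingHom ≤ RingHom.ker g₁ := by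
    rw [← hs, Ideal.span_le]
    intro r hr
    have h1 : X.presheaf.map (homOfLE hVW₀).op =
        X.presheaf.map (homOfLE (hW'W₀ ⟨r, hr⟩)).op ≫ X.presheaf.map (homOfLE (hVW' ⟨r, hr⟩)).op := by
      rw [← Functor.map_comp]
      rfl
    change g₁ r = 0
    change X.presheaf.map (homOfLE hVW₀).op (g₀ r) = 0
    rw [h1, CommRingCat.comp_apply, hW' ⟨r, hr⟩, map_zero]
  let φ' : A ⟶ Γ(X, V) :=
    CommRingCat.ofHom (RingHom.liftOfSurjective π.toRingHom hπ ⟨g₁, hker⟩)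
  have hφ' : ∀ p, φ' (π p) = X.presheaf.map (homOfLE hVW₀).op (g₀ p) := fun p =>
    RingHom.liftOfSurjective_comp_apply π.toRingHom hπ ⟨g₁, hker⟩ p
  refine ⟨V, hxV, φ', hVW₀.trans hW₀U, hV, ?_, ?_⟩
  · ext a
    obtain ⟨p, rfl⟩ := hπ a
    rw [CommRingCat.comp_apply, hφ', X.presheaf.germ_res_apply (homOfLE hVW₀) x hxV, hg₀']
  · have h3 : X.presheaf.map (hVW₀.trans hW₀U).hom.op =
        X.presheaf.map (homOfLE hW₀U).op ≫ X.presheaf.map (homOfLE hVW₀).op := by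
      rw [← Functor.map_comp]
      rfl
    ext r
    rw [h3, CommRingCat.comp_apply, CommRingCat.comp_apply, CommRingCat.comp_apply, ← hπC, hφ']
    simp only [g₀, MvPolynomial.coe_eval₂Hom, MvPolynomial.eval₂_C, CommRingCat.hom_comp,
      RingHom.coe_comp, Function.comp_apply]

set_option backward.isDefEq.respectTransparency.types false in
/-- Spreading out a morphism of local rings to a neighbourhood, for a target locally of finite
presentation (Stacks 0BX6 without assumptions on the source). -/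
lemma spread_out_of_locallyOfFinitePresentation {X Y S : Scheme.{u}} (sX : X ⟶ S) (sY : Y ⟶ S)
    [LocallyOfFinitePresentation sY] {x : X} {y : Y}
    (e : sX x = sY y) (φ : Y.presheaf.stalk y ⟶ X.presheaf.stalk x)
    (h : sY.stalkMap y ≫ φ =
      S.presheaf.stalkSpecializes (Inseparable.of_eq e).specializes ≫ sX.stalkMap x) :
    ∃ (U : X.Opens) (hxU : x ∈ U) (f : U.toScheme ⟶ Y),
      Spec.map φ ≫ Y.fromSpecStalk y = U.fromSpecStalkOfMem x hxU ≫ f ∧
      f ≫ sY = U.ι ≫ sX := by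
  obtain ⟨_, ⟨U, hU, rfl⟩, hxU, -⟩ :=
    S.isBasis_affineOpens.exists_subset_of_mem_open (Set.mem_univ (sX x)) isOpen_univ
  have hyU : sY y ∈ U := e ▸ hxU
  obtain ⟨_, ⟨V : Y.Opens, hV, rfl⟩, hyV, iVU⟩ :=
    Y.isBasis_affineOpens.exists_subset_of_mem_open hyU (sY ⁻¹ᵁ U).2
  have : sY.appLE U V iVU ≫ Y.presheaf.germ V y hyV ≫ φ =
      sX.app U ≫ X.presheaf.germ (sX ⁻¹ᵁ U) x hxU := by
    rw [Scheme.Hom.appLE, Category.assoc, Y.presheaf.germ_res_assoc,
      ← Scheme.Hom.germ_stalkMap_assoc, h]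
    simp
  obtain ⟨W, hxW, φ', i, hW, h₁, h₂⟩ :=
    exists_lift_of_finitePresentation (R := Γ(S, U)) (A := Γ(Y, V)) (U := sX ⁻¹ᵁ U) (x := x) hxU
    (Y.presheaf.germ _ y hyV ≫ φ) (sY.appLE U V iVU) (sX.app U)
    (sY.finitePresentation_appLE hU hV _) this
  refine ⟨W, hxW, W.toSpecΓ ≫ Spec.map φ' ≫ hV.fromSpec, ?_, ?_⟩
  · rw [W.fromSpecStalkOfMem_toSpecΓ_assoc x hxW, ← Spec.map_comp_assoc, ← h₁,
      Spec.map_comp, Category.assoc, ← IsAffineOpen.fromSpecStalk,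
      IsAffineOpen.fromSpecStalk_eq_fromSpecStalk]
  · simp only [Category.assoc]
    rw [← IsAffineOpen.SpecMap_appLE_fromSpec sY hU hV iVU, ← Spec.map_comp_assoc, ← h₂,
      ← Scheme.Hom.appLE, ← hW.isoSpec_hom, IsAffineOpen.SpecMap_appLE_fromSpec sX hU hW i,
      ← Iso.eq_inv_comp, IsAffineOpen.isoSpec_inv_ι_assoc]

end Groth.Agent.Lib.Helper12
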