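import Mathlib
import Groth.Prelude.Def_FSch3
import Groth.Agent.Lib.Helper14.ComplFlat
import Groth.Agent.Lib.Helper3.Flat
import Groth.Agent.S2290

set_option autoImplicit false
universe u

namespace H12S4358

open Groth.Agent.Lib.Helper14

section general

variable {B C E : Type u} [CommRing B] [CommRing C] [CommRing E]

theorem complMap_comp (I : Ideal B) (K : Ideal C) (L : Ideal E) (g : B →+* C) (g' : C →+* E)
    (h : I.map g ≤ K) (h' : K.map g' ≤ L) (h'' : I.map (g'.comp g) ≤ L) :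
    FSch.complMap I L (g'.comp g) h'' = (FSch.complMap K L g' h').comp (FSch.complMap I K g h) := by
  refine RingHom.ext (fun x => ?_)
  apply AdicCompletion.ext_evalₐ
  intro n
  rw [RingHom.comp_apply, evalₐ_complMap, evalₐ_complMap, evalₐ_complMap]
  obtain ⟨b, hb⟩ := Ideal.Quotient.mk_surjective (AdicCompletion.evalₐ I n x)
  rw [← hb]
  simp

theorem evalOne_complMap (I : Ideal B) (K : Ideal C) (g : B →+* C) (h : I.map g ≤ K)
    (x : AdicCompletion I B) :
    AdicCompletion.evalOneₐ K (FSch.complMap I K g h x) =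
      Ideal.quotientMap K g (Ideal.map_le_iff_le_comap.1 h) (AdicCompletion.evalOneₐ I x) := by
  rw [← AdicCompletion.factorₐ_evalₐ_one, ← AdicCompletion.factorₐ_evalₐ_one, evalₐ_complMap]
  obtain ⟨b, hb⟩ := Ideal.Quotient.mk_surjective (AdicCompletion.evalₐ I 1 x)
  rw [← hb]
  simp

theorem isUnit_of_isUnit_evalOne (I : Ideal B) (hI : I.FG) (x : AdicCompletion I B)
    (hx : IsUnit (AdicCompletion.evalOneₐ I x)) : IsUnit x := by
  have hcomp := AdicCompletion.isAdicComplete_self I hI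
  have hjac := IsAdicComplete.le_jacobson_bot (I.map (algebraMap B (AdicCompletion I B)))
  obtain ⟨b', hb'⟩ := hx.exists_right_inv
  obtain ⟨b, rfl⟩ := AdicCompletion.evalOneₐ_surjective I b'
  have hmem : x * b - 1 ∈ RingHom.ker (AdicCompletion.evalOneₐ I).toRingHom := by
    rw [RingHom.mem_ker, map_sub, map_mul, map_one]
    exact sub_eq_zero.mpr hb'
  rw [AdicCompletion.ker_evalOneₐ_eq_map I hI] at hmem
  have := Ideal.isUnit_of_sub_one_mem_jacobson_bot (x * b) (hjac hmem)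
  exact isUnit_of_mul_isUnit_left this

end general

end H12S4358

namespace H12S4358

open Groth.Agent.Lib.Helper14

variable (A : Type u) [CommRing A] (J 𝔭 : Ideal A) [𝔭.IsPrime]

/-- transition between localizations -/
noncomputable def tr (f f' : A) (hu : IsUnit (algebraMap A (Localization.Away f') f)) :
    Localization.Away f →+* Localization.Away f' :=
  IsLocalization.Away.lift (S := Localization.Away f) f hu

lemma tr_algebraMap (f f' : A) (hu : IsUnit (algebraMap A (Localization.Away f') f)) (x : A) :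
    tr A f f' hu (algebraMap A (Localization.Away f) x) = algebraMap A (Localization.Away f') x :=
  IsLocalization.Away.lift_eq _ _ _

lemma tr_comp_algebraMap (f f' : A) (hu : IsUnit (algebraMap A (Localization.Away f') f)) :
    (tr A f f' hu).comp (algebraMap A (Localization.Away f)) = algebraMap A (Localization.Away f') :=
  RingHom.ext (tr_algebraMap A f f' hu)

lemma awayToAtPrime_comp_algebraMap (f : A) (hf : f ∉ 𝔭) :
    (FSch.awayToAtPrime A 𝔭 f hf).comp (algebraMap A (Localization.Away f)) =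
      algebraMap A (Localization.AtPrime 𝔭) := by
  ext x
  simp [FSch.awayToAtPrime]

lemma map_tr_le (f f' : A) (hu : IsUnit (algebraMap A (Localization.Away f') f)) :
    (J.map (algebraMap A (Localization.Away f))).map (tr A f f' hu) ≤
      J.map (algebraMap A (Localization.Away f')) := by
  rw [Ideal.map_map, tr_comp_algebraMap]

/-- transition between completed localizations -/
noncomputable def θ (f f' : A) (hu : IsUnit (algebraMap A (Localization.Away f') f)) :
    FSch.cAway A J f →+* FSch.cAway A J f' :=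
  FSch.complMap _ _ (tr A f f' hu) (map_tr_le A J f f' hu)

lemma awayToAtPrime_comp_tr (f f' : A) (hf : f ∉ 𝔭) (hf' : f' ∉ 𝔭)
    (hu : IsUnit (algebraMap A (Localization.Away f') f)) :
    (FSch.awayToAtPrime A 𝔭 f' hf').comp (tr A f f' hu) = FSch.awayToAtPrime A 𝔭 f hf := by
  apply IsLocalization.ringHom_ext (Submonoid.powers f)
  rw [RingHom.comp_assoc, tr_comp_algebraMap, awayToAtPrime_comp_algebraMap,
    awayToAtPrime_comp_algebraMap]

lemma φ_comp_θ (f f' : A) (hf : f ∉ 𝔭) (hf' : f' ∉ 𝔭)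
    (hu : IsUnit (algebraMap A (Localization.Away f') f)) :
    (FSch.cAwayToAtPrime A J 𝔭 f' hf').comp (θ A J f f' hu) = FSch.cAwayToAtPrime A J 𝔭 f hf := by
  unfold FSch.cAwayToAtPrime θ
  rw [← complMap_comp]
  · congr 1
    exact awayToAtPrime_comp_tr A 𝔭 f f' hf hf' hu
  · rw [awayToAtPrime_comp_tr A 𝔭 f f' hf hf' hu]
    exact FSch.map_awayToAtPrime_le A J 𝔭 f hf

lemma range_le (f f' : A) (hf : f ∉ 𝔭) (hf' : f' ∉ 𝔭)
    (hu : IsUnit (algebraMap A (Localization.Away f') f)) :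
    (FSch.cAwayToAtPrime A J 𝔭 f hf).range ≤ (FSch.cAwayToAtPrime A J 𝔭 f' hf').range := by
  rintro _ ⟨x, rfl⟩
  refine ⟨θ A J f f' hu x, ?_⟩
  rw [← φ_comp_θ A J 𝔭 f f' hf hf' hu]
  rfl

lemma isUnit_left (f₁ f₂ : A) : IsUnit (algebraMap A (Localization.Away (f₁ * f₂)) f₁) := by
  have h := IsLocalization.Away.algebraMap_isUnit (S := Localization.Away (f₁ * f₂)) (f₁ * f₂)
  rw [map_mul] at h
  exact isUnit_of_mul_isUnit_left h

lemma isUnit_right (f₁ f₂ : A) : IsUnit (algebraMap A (Localization.Away (f₁ * f₂)) f₂) := by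
  have h := IsLocalization.Away.algebraMap_isUnit (S := Localization.Away (f₁ * f₂)) (f₁ * f₂)
  rw [map_mul] at h
  exact isUnit_of_mul_isUnit_right h

lemma directed : Directed (· ≤ ·)
    (fun f : {f : A // f ∉ 𝔭} => (FSch.cAwayToAtPrime A J 𝔭 f.1 f.2).range) := by
  rintro ⟨f₁, h₁⟩ ⟨f₂, h₂⟩
  have h12 : f₁ * f₂ ∉ 𝔭 := fun h => (Ideal.IsPrime.mem_or_mem ‹_› h).elim h₁ h₂
  exact ⟨⟨f₁ * f₂, h12⟩, range_le A J 𝔭 f₁ _ h₁ h12 (isUnit_left A f₁ f₂),
    range_le A J 𝔭 f₂ _ h₂ h12 (isUnit_right A f₁ f₂)⟩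

lemma mem_stalkSubring_iff (x : FSch.cAtPrime A J 𝔭) :
    x ∈ FSch.stalkSubring A J 𝔭 ↔ ∃ (f : A) (hf : f ∉ 𝔭) (σ : FSch.cAway A J f),
      FSch.cAwayToAtPrime A J 𝔭 f hf σ = x := by
  haveI : Nonempty {f : A // f ∉ 𝔭} := ⟨⟨1, fun h => (Ideal.IsPrime.ne_top ‹_›) ((Ideal.eq_top_iff_one _).2 h)⟩⟩
  unfold FSch.stalkSubring
  rw [Subring.mem_iSup_of_directed (directed A J 𝔭)]
  constructor
  · rintro ⟨⟨f, hf⟩, σ, rfl⟩
    exact ⟨f, hf, σ, rfl⟩
  · rintro ⟨f, hf, σ, rfl⟩
    exact ⟨⟨f, hf⟩, σ, rfl⟩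

/-- finitely many elements of the stalk subring come from a common stage. -/
lemma exists_common {l : ℕ} (s : Fin l → FSch.cAtPrime A J 𝔭)
    (hs : ∀ i, s i ∈ FSch.stalkSubring A J 𝔭) :
    ∃ (f : A) (hf : f ∉ 𝔭) (σ : Fin l → FSch.cAway A J f),
      ∀ i, FSch.cAwayToAtPrime A J 𝔭 f hf (σ i) = s i := by
  induction l with
  | zero =>
    exact ⟨1, fun h => (Ideal.IsPrime.ne_top ‹_›) ((Ideal.eq_top_iff_one _).2 h),
      fun i => i.elim0, fun i => i.elim0⟩
  | succ l ih =>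
    obtain ⟨f, hf, σ, hσ⟩ := ih (fun i => s i.succ) (fun i => hs i.succ)
    obtain ⟨f₀, hf₀, σ₀, hσ₀⟩ := (mem_stalkSubring_iff A J 𝔭 _).1 (hs 0)
    have h12 : f₀ * f ∉ 𝔭 := fun h => (Ideal.IsPrime.mem_or_mem ‹_› h).elim hf₀ hf
    refine ⟨f₀ * f, h12, Fin.cons (θ A J f₀ _ (isUnit_left A f₀ f) σ₀)
      (fun i => θ A J f _ (isUnit_right A f₀ f) (σ i)), ?_⟩
    intro i
    refine Fin.cases ?_ (fun i => ?_) i
    · rw [Fin.cons_zero, ← hσ₀, ← φ_comp_θ A J 𝔭 f₀ _ hf₀ h12 (isUnit_left A f₀ f)]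
      rfl
    · rw [Fin.cons_succ, ← hσ i, ← φ_comp_θ A J 𝔭 f _ hf h12 (isUnit_right A f₀ f)]
      rfl

end H12S4358

namespace H12S4358

open Groth.Agent.Lib.Helper14

variable (A : Type u) [CommRing A] [IsNoetherianRing A] (J 𝔭 : Ideal A) [𝔭.IsPrime]

omit [IsNoetherianRing A] [𝔭.IsPrime] in
lemma general_flat {B C : Type u} [CommRing B] [CommRing C] [Algebra A B] [Algebra A C]
    (M N : Submonoid A) [IsLocalization M B] [IsLocalization N C] (hle : M ≤ N)
    (g : B →+* C) (hg : g.comp (algebraMap A B) = algebraMap A C) : g.Flat := by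
  letI : Algebra B C := g.toAlgebra
  haveI : IsScalarTower A B C :=
    IsScalarTower.of_algebraMap_eq (fun x => (congrFun (congrArg DFunLike.coe hg) x).symm)
  haveI : IsLocalization (N.map (algebraMap A B)) C :=
    IsLocalization.isLocalization_of_submonoid_le B C M N hle
  show Module.Flat B C
  exact IsLocalization.flat C (N.map (algebraMap A B))

omit [IsNoetherianRing A] in
lemma awayToAtPrime_flat (f : A) (hf : f ∉ 𝔭) : (FSch.awayToAtPrime A 𝔭 f hf).Flat := by
  have hle : Submonoid.powers f ≤ 𝔭.primeCompl := by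
    rintro _ ⟨n, rfl⟩
    exact 𝔭.primeCompl.pow_mem hf n
  exact general_flat A (Submonoid.powers f) 𝔭.primeCompl hle _
    (awayToAtPrime_comp_algebraMap A 𝔭 f hf)

lemma map_awayToAtPrime_eq (f : A) (hf : f ∉ 𝔭) :
    (J.map (algebraMap A (Localization.Away f))).map (FSch.awayToAtPrime A 𝔭 f hf) =
      J.map (algebraMap A (Localization.AtPrime 𝔭)) := by
  rw [Ideal.map_map, awayToAtPrime_comp_algebraMap]

lemma φ_flat (f : A) (hf : f ∉ 𝔭) : (FSch.cAwayToAtPrime A J 𝔭 f hf).Flat := by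
  haveI : IsNoetherianRing (Localization.Away f) :=
    IsLocalization.isNoetherianRing (Submonoid.powers f) _ inferInstance
  exact flat_complMap _ _ _ (awayToAtPrime_flat A 𝔭 f hf) (map_awayToAtPrime_eq A J 𝔭 f hf) _

omit [IsNoetherianRing A] [𝔭.IsPrime] in
lemma flat_of_directed {T : Type u} [CommRing T] (S : Subring T) {ι : Type*} (R : ι → Type u)
    [∀ i, CommRing (R i)] (φ : ∀ i, R i →+* T) (hflat : ∀ i, (φ i).Flat)
    (hmem : ∀ i x, φ i x ∈ S)
    (hcommon : ∀ {l : ℕ} (s : Fin l → T), (∀ k, s k ∈ S) →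
      ∃ (i : ι) (σ : Fin l → R i), ∀ k, φ i (σ k) = s k) : S.subtype.Flat := by
  letI : Algebra S T := S.subtype.toAlgebra
  show Module.Flat S T
  apply Module.Flat.of_forall_isTrivialRelation
  intro l s t hst
  obtain ⟨i, σ, hσ⟩ := hcommon (fun k => (s k : T)) (fun k => (s k).2)
  letI : Algebra (R i) T := (φ i).toAlgebra
  haveI : Module.Flat (R i) T := hflat i
  have hrel : ∑ k, σ k • t k = 0 := by
    rw [← hst]
    refine Finset.sum_congr rfl (fun k _ => ?_)
    show φ i (σ k) * t k = (s k : T) * t k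
    rw [hσ k]
  obtain ⟨κ, a, y, h1, h2⟩ := Module.Flat.isTrivialRelation_of_sum_smul_eq_zero (R := R i) (M := T) (f := σ) (x := t) hrel
  refine ⟨κ, fun k j => ⟨φ i (a k j), hmem i _⟩, y, ?_, ?_⟩
  · intro k
    rw [h1 k]
    rfl
  · intro j
    apply Subtype.ext
    have := congrArg (φ i) (h2 j)
    rw [map_sum, map_zero] at this
    rw [Subring.coe_zero, ← this]
    simp only [AddSubmonoidClass.coe_finsetSum, map_mul, hσ]
    rfl

/-- `T` is flat over the stalk subring. -/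
lemma subtype_flat : (FSch.stalkSubring A J 𝔭).subtype.Flat := by
  refine flat_of_directed (FSch.stalkSubring A J 𝔭) (ι := {f : A // f ∉ 𝔭})
    (fun f => FSch.cAway A J f.1) (fun f => FSch.cAwayToAtPrime A J 𝔭 f.1 f.2)
    (fun f => φ_flat A J 𝔭 f.1 f.2)
    (fun f x => (mem_stalkSubring_iff A J 𝔭 _).2 ⟨f.1, f.2, x, rfl⟩) ?_
  intro l s hs
  obtain ⟨f, hf, σ, hσ⟩ := exists_common A J 𝔭 s hs
  exact ⟨⟨f, hf⟩, σ, hσ⟩

end H12S4358

namespace H12S4358

open Groth.Agent.Lib.Helper14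

variable (A : Type u) [CommRing A] [IsNoetherianRing A] (J 𝔭 : Ideal A) [𝔭.IsPrime]

omit [IsNoetherianRing A] [𝔭.IsPrime] in
lemma isUnit_of_isUnit_mk {R : Type u} [CommRing R] [IsLocalRing R] (K : Ideal R)
    (hK : K ≤ IsLocalRing.maximalIdeal R) (y : R) (hy : IsUnit (Ideal.Quotient.mk K y)) :
    IsUnit y := by
  by_contra hny
  have hym : y ∈ IsLocalRing.maximalIdeal R := (IsLocalRing.mem_maximalIdeal y).2 hny
  obtain ⟨z', hz'⟩ := hy.exists_right_inv
  obtain ⟨z, rfl⟩ := Ideal.Quotient.mk_surjective z'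
  rw [← map_mul, ← map_one (Ideal.Quotient.mk K), Ideal.Quotient.eq] at hz'
  have h1 : y * z - 1 ∈ IsLocalRing.maximalIdeal R := hK hz'
  have h2 : y * z ∈ IsLocalRing.maximalIdeal R := Ideal.mul_mem_right _ _ hym
  have h3 : (1 : R) ∈ IsLocalRing.maximalIdeal R := by
    have := Ideal.sub_mem _ h2 h1
    simpa using this
  exact (IsLocalRing.maximalIdeal.isMaximal R).ne_top ((Ideal.eq_top_iff_one _).2 h3)

omit [IsNoetherianRing A] in
lemma evalOne_φ (f : A) (hf : f ∉ 𝔭) (σ : FSch.cAway A J f) (b : Localization.Away f)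
    (hb : Ideal.Quotient.mk (J.map (algebraMap A (Localization.Away f))) b =
      AdicCompletion.evalOneₐ (J.map (algebraMap A (Localization.Away f))) σ) :
    AdicCompletion.evalOneₐ (J.map (algebraMap A (Localization.AtPrime 𝔭)))
      (FSch.cAwayToAtPrime A J 𝔭 f hf σ) =
    Ideal.Quotient.mk (J.map (algebraMap A (Localization.AtPrime 𝔭)))
      (FSch.awayToAtPrime A 𝔭 f hf b) := by
  unfold FSch.cAwayToAtPrime
  rw [evalOne_complMap, ← hb, Ideal.quotientMap_mk]

omit [IsNoetherianRing A] in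
lemma evalOne_θ (f f' : A) (hu : IsUnit (algebraMap A (Localization.Away f') f))
    (σ : FSch.cAway A J f) (b : Localization.Away f)
    (hb : Ideal.Quotient.mk (J.map (algebraMap A (Localization.Away f))) b =
      AdicCompletion.evalOneₐ (J.map (algebraMap A (Localization.Away f))) σ) :
    AdicCompletion.evalOneₐ (J.map (algebraMap A (Localization.Away f'))) (θ A J f f' hu σ) =
    Ideal.Quotient.mk (J.map (algebraMap A (Localization.Away f'))) (tr A f f' hu b) := by
  unfold θ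
  rw [evalOne_complMap, ← hb, Ideal.quotientMap_mk]

lemma isUnit_θ (f f' : A) (hu : IsUnit (algebraMap A (Localization.Away f') f))
    (σ : FSch.cAway A J f) (b : Localization.Away f)
    (hb : Ideal.Quotient.mk (J.map (algebraMap A (Localization.Away f))) b =
      AdicCompletion.evalOneₐ (J.map (algebraMap A (Localization.Away f))) σ)
    (hub : IsUnit (tr A f f' hu b)) : IsUnit (θ A J f f' hu σ) := by
  have hfg : (J.map (algebraMap A (Localization.Away f'))).FG :=
    Ideal.FG.map (IsNoetherian.noetherian J) _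
  refine isUnit_of_isUnit_evalOne (J.map (algebraMap A (Localization.Away f'))) hfg _ ?_
  rw [evalOne_θ A J f f' hu σ b hb]
  exact hub.map _

omit [IsNoetherianRing A] in
lemma isUnit_awayToAtPrime (hJ : J ≤ 𝔭) (f : A) (hf : f ∉ 𝔭) (σ : FSch.cAway A J f)
    (b : Localization.Away f)
    (hb : Ideal.Quotient.mk (J.map (algebraMap A (Localization.Away f))) b =
      AdicCompletion.evalOneₐ (J.map (algebraMap A (Localization.Away f))) σ)
    (hu : IsUnit (FSch.cAwayToAtPrime A J 𝔭 f hf σ)) : IsUnit (FSch.awayToAtPrime A 𝔭 f hf b) := by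
  have hu1 : IsUnit (AdicCompletion.evalOneₐ (J.map (algebraMap A (Localization.AtPrime 𝔭)))
      (FSch.cAwayToAtPrime A J 𝔭 f hf σ)) := hu.map _
  rw [evalOne_φ A J 𝔭 f hf σ b hb] at hu1
  have hKle : J.map (algebraMap A (Localization.AtPrime 𝔭)) ≤
      IsLocalRing.maximalIdeal (Localization.AtPrime 𝔭) := by
    rw [← Localization.AtPrime.map_eq_maximalIdeal]
    exact Ideal.map_mono hJ
  exact isUnit_of_isUnit_mk _ hKle _ hu1

/-- unit reflection. -/
lemma exists_inv (hJ : J ≤ 𝔭) (x : FSch.cAtPrime A J 𝔭) (hx : x ∈ FSch.stalkSubring A J 𝔭)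
    (hu : IsUnit x) : ∃ y ∈ FSch.stalkSubring A J 𝔭, x * y = 1 := by
  obtain ⟨f, hf, σ, rfl⟩ := (mem_stalkSubring_iff A J 𝔭 x).1 hx
  obtain ⟨b, hb⟩ := Ideal.Quotient.mk_surjective
    (AdicCompletion.evalOneₐ (J.map (algebraMap A (Localization.Away f))) σ)
  obtain ⟨k, a, hka⟩ := IsLocalization.Away.surj f b
  have hu2 : IsUnit (FSch.awayToAtPrime A 𝔭 f hf b) := isUnit_awayToAtPrime A J 𝔭 hJ f hf σ b hb hu
  have hfu : IsUnit (algebraMap A (Localization.AtPrime 𝔭) f) :=
    IsLocalization.map_units (Localization.AtPrime 𝔭) ⟨f, show f ∈ 𝔭.primeCompl from hf⟩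
  have hau : IsUnit (algebraMap A (Localization.AtPrime 𝔭) a) := by
    have h1 := congrArg (FSch.awayToAtPrime A 𝔭 f hf) hka
    rw [map_mul, map_pow] at h1
    have e1 : FSch.awayToAtPrime A 𝔭 f hf (algebraMap A (Localization.Away f) f) =
        algebraMap A (Localization.AtPrime 𝔭) f :=
      congrFun (congrArg DFunLike.coe (awayToAtPrime_comp_algebraMap A 𝔭 f hf)) f
    have e2 : FSch.awayToAtPrime A 𝔭 f hf (algebraMap A (Localization.Away f) a) =
        algebraMap A (Localization.AtPrime 𝔭) a :=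
      congrFun (congrArg DFunLike.coe (awayToAtPrime_comp_algebraMap A 𝔭 f hf)) a
    rw [e1, e2] at h1
    rw [← h1]
    exact hu2.mul (hfu.pow k)
  have ha : a ∉ 𝔭 := by
    have := (IsLocalization.AtPrime.isUnit_to_map_iff (Localization.AtPrime 𝔭) 𝔭 a).1 hau
    exact this
  have hfa : f * a ∉ 𝔭 := fun h => (Ideal.IsPrime.mem_or_mem ‹_› h).elim hf ha
  have huf := isUnit_left A f a
  have hua := isUnit_right A f a
  have hu3 : IsUnit (tr A f (f * a) huf b) := by
    have h1 := congrArg (tr A f (f * a) huf) hka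
    rw [map_mul, map_pow, tr_algebraMap, tr_algebraMap] at h1
    have h2 : IsUnit (tr A f (f * a) huf b * algebraMap A (Localization.Away (f * a)) f ^ k) := by
      rw [h1]; exact hua
    exact isUnit_of_mul_isUnit_left h2
  have hu4 : IsUnit (θ A J f (f * a) huf σ) := isUnit_θ A J f (f * a) huf σ b hb hu3
  obtain ⟨τ, hτ⟩ := hu4.exists_right_inv
  refine ⟨FSch.cAwayToAtPrime A J 𝔭 (f * a) hfa τ,
    (mem_stalkSubring_iff A J 𝔭 _).2 ⟨_, hfa, τ, rfl⟩, ?_⟩
  have e : FSch.cAwayToAtPrime A J 𝔭 f hf σ =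
      FSch.cAwayToAtPrime A J 𝔭 (f * a) hfa (θ A J f (f * a) huf σ) := by
    rw [← φ_comp_θ A J 𝔭 f (f * a) hf hfa huf]
    rfl
  rw [e, ← map_mul, hτ, map_one]

end H12S4358

namespace H12S4358

variable (A : Type u) [CommRing A] [IsNoetherianRing A] (J 𝔭 : Ideal A) [𝔭.IsPrime]

lemma isLocalRing_T (hJ : J ≤ 𝔭) : IsLocalRing (FSch.cAtPrime A J 𝔭) :=
  Groth.Agent.S2290.result A J (IsNoetherian.noetherian J) 𝔭 hJ

lemma isUnit_subring_iff (hJ : J ≤ 𝔭) (x : FSch.stalkSubring A J 𝔭) :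
    IsUnit x ↔ IsUnit (x : FSch.cAtPrime A J 𝔭) := by
  constructor
  · intro h
    exact h.map (FSch.stalkSubring A J 𝔭).subtype
  · intro h
    obtain ⟨y, hy, hxy⟩ := exists_inv A J 𝔭 hJ x x.2 h
    exact IsUnit.of_mul_eq_one (⟨y, hy⟩ : FSch.stalkSubring A J 𝔭) (Subtype.ext hxy)

lemma isLocalRing_S (hJ : J ≤ 𝔭) : IsLocalRing (FSch.stalkSubring A J 𝔭) := by
  haveI := isLocalRing_T A J 𝔭 hJ
  haveI : Nontrivial (FSch.stalkSubring A J 𝔭) := inferInstance
  apply IsLocalRing.of_nonunits_add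
  intro a b ha hb
  rw [mem_nonunits_iff, isUnit_subring_iff A J 𝔭 hJ] at ha hb ⊢
  exact IsLocalRing.nonunits_add ha hb

lemma isLocalHom_subtype (hJ : J ≤ 𝔭) : IsLocalHom (FSch.stalkSubring A J 𝔭).subtype :=
  ⟨fun a ha => (isUnit_subring_iff A J 𝔭 hJ a).2 ha⟩

theorem main (hJ : J ≤ 𝔭)
    (h : ∀ a : A, ((algebraMap (Localization.AtPrime 𝔭) (FSch.cAtPrime A J 𝔭)).comp
      (algebraMap A (Localization.AtPrime 𝔭))) a ∈ FSch.stalkSubring A J 𝔭) :
    (((algebraMap (Localization.AtPrime 𝔭) (FSch.cAtPrime A J 𝔭)).comp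
      (algebraMap A (Localization.AtPrime 𝔭))).codRestrict (FSch.stalkSubring A J 𝔭) h).Flat := by
  haveI := isLocalRing_T A J 𝔭 hJ
  haveI := isLocalRing_S A J 𝔭 hJ
  haveI := isLocalHom_subtype A J 𝔭 hJ
  have hff : (FSch.stalkSubring A J 𝔭).subtype.FaithfullyFlat :=
    Groth.Agent.Lib.Helper3.ringHom_faithfullyFlat_of_flat_of_isLocalHom _ (subtype_flat A J 𝔭)
  refine Groth.Agent.Lib.Helper3.ringHom_flat_of_comp_faithfullyFlat _
    (FSch.stalkSubring A J 𝔭).subtype hff ?_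
  have hcomp : (FSch.stalkSubring A J 𝔭).subtype.comp
      (((algebraMap (Localization.AtPrime 𝔭) (FSch.cAtPrime A J 𝔭)).comp
        (algebraMap A (Localization.AtPrime 𝔭))).codRestrict (FSch.stalkSubring A J 𝔭) h) =
      (algebraMap (Localization.AtPrime 𝔭) (FSch.cAtPrime A J 𝔭)).comp
        (algebraMap A (Localization.AtPrime 𝔭)) := by
    ext a
    rfl
  rw [hcomp]
  haveI : IsNoetherianRing (Localization.AtPrime 𝔭) :=
    IsLocalization.isNoetherianRing 𝔭.primeCompl _ inferInstance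
  refine RingHom.Flat.comp ?_ ?_
  · rw [RingHom.flat_algebraMap_iff]
    infer_instance
  · rw [RingHom.flat_algebraMap_iff]
    infer_instance

end H12S4358
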