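import Mathlib
import Groth.Agent.Lib.Helper12.StalkFlat
import Groth.Agent.Lib.Helper3.Noetherian
import Groth.Agent.Lib.Helper21.AdicNoetherian

set_option autoImplicit false
universe u

namespace H12S4358

variable (A : Type u) [CommRing A] [IsNoetherianRing A] (J 𝔭 : Ideal A) [𝔭.IsPrime]

theorem faithfullyFlat (hJ : J ≤ 𝔭) :
    Module.FaithfullyFlat (FSch.stalkSubring A J 𝔭) (FSch.cAtPrime A J 𝔭) := by
  haveI := isLocalRing_T A J 𝔭 hJ
  haveI := isLocalRing_S A J 𝔭 hJ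
  haveI := isLocalHom_subtype A J 𝔭 hJ
  have hff : (FSch.stalkSubring A J 𝔭).subtype.FaithfullyFlat :=
    Groth.Agent.Lib.Helper3.ringHom_faithfullyFlat_of_flat_of_isLocalHom _ (subtype_flat A J 𝔭)
  have e : algebraMap (FSch.stalkSubring A J 𝔭) (FSch.cAtPrime A J 𝔭) =
      (FSch.stalkSubring A J 𝔭).subtype := rfl
  rw [← RingHom.faithfullyFlat_algebraMap_iff, e]
  exact hff

theorem isNoetherianRing_stalk (hJ : J ≤ 𝔭) : IsNoetherianRing (FSch.stalkSubring A J 𝔭) := by
  haveI := faithfullyFlat A J 𝔭 hJ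
  haveI : IsNoetherianRing (Localization.AtPrime 𝔭) :=
    IsLocalization.isNoetherianRing 𝔭.primeCompl _ inferInstance
  haveI : IsNoetherianRing (FSch.cAtPrime A J 𝔭) :=
    Groth.Agent.Lib.Helper21.isNoetherianRing_adicCompletion_of_fg _
      (Ideal.FG.map (IsNoetherian.noetherian J) _)
  exact Groth.Agent.Lib.Helper3.isNoetherianRing_of_faithfullyFlat
    (FSch.stalkSubring A J 𝔭) (FSch.cAtPrime A J 𝔭)

end H12S4358
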