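import Mathlib
import Groth.Agent.Lib.Helper25.CompleteDVRNorm
import Groth.Agent.Lib.Helper25.HenselFinite

set_option autoImplicit false
universe u
attribute [local instance] FractionRing.liftAlgebra

namespace H12TameRam
open IsLocalRing Polynomial Groth.Agent.Lib.Helper25

/-- Eisenstein: `X^n - a` irreducible and is the minimal polynomial. -/
lemma natDegree_minpoly_of_eisenstein {A B : Type*} [CommRing A] [IsDomain A] [IsIntegrallyClosed A]
    [CommRing B] [IsDomain B] [Algebra A B] [Module.IsTorsionFree A B] (P : Ideal A) [P.IsPrime]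
    (n : ℕ) (hn : n ≠ 0) (a : A) (haP : a ∈ P) (haP2 : a ∉ P ^ 2) (u : B) (hu : IsIntegral A u)
    (hroot : u ^ n = algebraMap A B a) : (minpoly A u).natDegree = n := by
  set g : A[X] := X ^ n - C a with hg
  have hgm : g.Monic := monic_X_pow_sub_C a hn
  have hgd : g.natDegree = n := natDegree_X_pow_sub_C
  have hirr : Irreducible g := by
    apply Polynomial.irreducible_of_eisenstein_criterion (P := P) inferInstance
    · rw [hgm.leadingCoeff]
      exact fun h => (Ideal.IsPrime.ne_top inferInstance) ((Ideal.eq_top_iff_one P).2 h)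
    · intro k hk
      rw [degree_eq_natDegree hgm.ne_zero, hgd, Nat.cast_lt] at hk
      rw [hg, coeff_sub, coeff_X_pow, if_neg hk.ne, zero_sub, coeff_C]
      split_ifs
      · exact P.neg_mem haP
      · simp
    · rw [degree_eq_natDegree hgm.ne_zero, hgd]
      exact_mod_cast Nat.pos_of_ne_zero hn
    · rw [hg, coeff_sub, coeff_X_pow, if_neg (Ne.symm hn), zero_sub, coeff_C_zero]
      exact fun h => haP2 (by simpa using (P ^ 2).neg_mem h)
    · exact hgm.isPrimitive
  have hzero : aeval u g = 0 := by
    simp [hg, hroot]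
  obtain ⟨q, hq⟩ := minpoly.isIntegrallyClosed_dvd hu hzero
  rcases hirr.isUnit_or_isUnit hq with h | h
  · exact absurd h (minpoly.not_isUnit A u)
  · have hq0 : q.natDegree = 0 := natDegree_eq_zero_of_isUnit h
    have := congrArg natDegree hq
    rw [natDegree_mul (minpoly.ne_zero hu) h.ne_zero, hq0, add_zero, hgd] at this
    exact this.symm

end H12TameRam

namespace H12TameRam
open IsLocalRing Polynomial Groth.Agent.Lib.Helper25

theorem main (K A B : Type u) [Field K]
    [CommRing A] [IsDomain A] [IsDiscreteValuationRing A]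
    [IsAdicComplete (IsLocalRing.maximalIdeal A) A]
    [Algebra K A] (hK : Function.Bijective ((IsLocalRing.residue A).comp (algebraMap K A)))
    [CommRing B] [IsDedekindDomain B] [Algebra A B] [Module.Finite A B] [Module.IsTorsionFree A B]
    [Algebra.IsSeparable (FractionRing A) (FractionRing B)]
    (M : Ideal B) [M.IsMaximal] (hram : M.ramificationIdx A = Module.finrank A B)
    (hm : IsUnit ((Module.finrank A B : ℕ) : A)) :
    ∃ u : B, u ∈ M ∧ u ∉ M ^ 2 ∧ u ^ Module.finrank A B ∈ (algebraMap A B).range ∧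
      (minpoly A u).natDegree = Module.finrank A B := by
  classical
  set n := Module.finrank A B with hn
  have hA : HenselianLocalRing A := henselianLocalRing_of_isAdicComplete A
  have huniq : ∀ Q : Ideal B, Q.IsMaximal → Q = M := fun Q hQ ↦
    maximal_unique_of_finite_of_henselian (A := A) B Q M hQ inferInstance
  have hBloc : IsLocalRing B := IsLocalRing.of_unique_max_ideal ⟨M, ‹_›, fun Q hQ ↦ huniq Q hQ⟩
  have hMeq : maximalIdeal B = M := huniq _ (maximalIdeal.isMaximal B)
  have hB : HenselianLocalRing B := henselianLocalRing_of_finite A B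
  have hm0 : maximalIdeal A ≠ ⊥ := IsDiscreteValuationRing.not_a_field A
  have hMm : M.LiesOver (maximalIdeal A) := liesOver_maximalIdeal A B M
  have hmB : (maximalIdeal A).map (algebraMap A B) ≠ ⊥ := Ideal.map_ne_bot_of_ne_bot hm0
  obtain ⟨hrep, hpow⟩ := eq_pow_card_normalizedFactors B M huniq _ hmB
  have hke : M.ramificationIdx A = Multiset.card (UniqueFactorizationMonoid.normalizedFactors
      ((maximalIdeal A).map (algebraMap A B))) := by
    rw [Ideal.IsDedekindDomain.ramificationIdx_eq_normalizedFactors_count (maximalIdeal A) M hmB]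
    conv_lhs => rw [hrep]
    rw [Multiset.count_replicate_self]
  have hmap : (maximalIdeal A).map (algebraMap A B) = M ^ n := by
    rw [← hram, hke]
    exact hpow
  obtain ⟨-, hef⟩ := relNorm_eq_pow_inertiaDeg_of_unique A B M huniq
  have hn0 : n ≠ 0 := by
    intro h0
    rw [h0] at hm
    simp at hm
  have hf : M.inertiaDeg A = 1 := by
    rw [hram] at hef
    exact Nat.eq_of_mul_eq_mul_left (Nat.pos_of_ne_zero hn0) (by rw [hef, mul_one])
  rw [Ideal.inertiaDeg_eq_of_isMaximal (maximalIdeal A) M] at hf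
  -- residue classes are represented by K
  have hres : ∀ b : B, ∃ κ : K, b - algebraMap A B (algebraMap K A κ) ∈ M := by
    intro b
    have h1 : (1 : B ⧸ M) ≠ 0 := one_ne_zero
    letI : Field (A ⧸ maximalIdeal A) := Ideal.Quotient.field _
    obtain ⟨c, hc⟩ := (finrank_eq_one_iff_of_nonzero' (1 : B ⧸ M) h1).1 hf (Ideal.Quotient.mk M b)
    obtain ⟨a, rfl⟩ := Ideal.Quotient.mk_surjective c
    obtain ⟨κ, hκ⟩ := hK.2 (residue A a)
    refine ⟨κ, ?_⟩
    have h2 : a - algebraMap K A κ ∈ maximalIdeal A := by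
      rw [← Ideal.Quotient.eq]
      exact hκ.symm
    have h3 : algebraMap A B (a - algebraMap K A κ) ∈ M := by
      have : (maximalIdeal A).map (algebraMap A B) ≤ M := by
        rw [hmap]
        exact Ideal.pow_le_self hn0
      exact this (Ideal.mem_map_of_mem _ h2)
    have h4 : b - algebraMap A B a ∈ M := by
      rw [← Ideal.Quotient.eq, ← hc, Algebra.smul_def, mul_one]
      rfl
    have : b - algebraMap A B (algebraMap K A κ) =
        (b - algebraMap A B a) + algebraMap A B (a - algebraMap K A κ) := by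
      rw [map_sub]
      ring
    rw [this]
    exact M.add_mem h4 h3
  -- B is a DVR
  have hM0 : M ≠ ⊥ := Ideal.ne_bot_of_liesOver_of_ne_bot hm0 M
  have hBnf : ¬ IsField B := by
    rw [Ring.not_isField_iff_exists_ideal_bot_lt_and_lt_top]
    exact ⟨M, bot_lt_iff_ne_bot.2 hM0, lt_top_iff_ne_top.2 (Ideal.IsMaximal.ne_top ‹_›)⟩
  have hdvr : IsDiscreteValuationRing B :=
    ((IsDiscreteValuationRing.TFAE B hBnf).out 2 0).1 (inferInstance : IsDedekindDomain B)
  obtain ⟨ϖ, hϖ⟩ := IsDiscreteValuationRing.exists_irreducible B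
  have hMϖ : M = Ideal.span {ϖ} := by
    rw [← hMeq]
    exact hϖ.maximalIdeal_eq
  obtain ⟨π, hπ⟩ := IsDiscreteValuationRing.exists_irreducible A
  have hmπ : maximalIdeal A = Ideal.span {π} := hπ.maximalIdeal_eq
  have hassoc : Associated (ϖ ^ n) (algebraMap A B π) := by
    rw [← Ideal.span_singleton_eq_span_singleton, ← Ideal.span_singleton_pow, ← hMϖ, ← hmap, hmπ,
      Ideal.map_span, Set.image_singleton]
  obtain ⟨v, hv⟩ := hassoc
  obtain ⟨κ, hκ⟩ := hres (v : B)
  have hκ0 : κ ≠ 0 := by
    rintro rfl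
    simp only [map_zero, sub_zero] at hκ
    exact (Ideal.IsMaximal.ne_top ‹_›) (Ideal.eq_top_of_isUnit_mem _ hκ v.isUnit)
  set cinv : B := algebraMap A B (algebraMap K A κ⁻¹) with hcinv
  have hc : algebraMap A B (algebraMap K A κ) * cinv = 1 := by
    rw [hcinv, ← map_mul, ← map_mul, mul_inv_cancel₀ hκ0, map_one, map_one]
  have hv1 : (v : B) * cinv - 1 ∈ M := by
    have : (v : B) * cinv - 1 = ((v : B) - algebraMap A B (algebraMap K A κ)) * cinv := by
      rw [sub_mul, hc]
    rw [this]
    exact M.mul_mem_right _ hκ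
  have hnB : IsUnit ((n : ℕ) : B) := by
    have := hm.map (algebraMap A B)
    simpa using this
  obtain ⟨w, hw, hw1⟩ := HenselianLocalRing.is_henselian (X ^ n - C ((v : B) * cinv))
    (monic_X_pow_sub_C _ hn0) 1 (by
      rw [hMeq]
      simp only [eval_sub, eval_pow, eval_X, one_pow, eval_C]
      have := M.neg_mem hv1
      simpa using this) (by
      simp only [derivative_sub, derivative_X_pow, derivative_C, sub_zero, eval_mul, eval_C,
        eval_pow, eval_X, one_pow, mul_one]
      exact hnB)
  rw [hMeq] at hw1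
  have hwn : w ^ n = (v : B) * cinv := by
    have := hw
    simp only [IsRoot.def, eval_sub, eval_pow, eval_X, eval_C] at this
    exact sub_eq_zero.1 this
  have hwM : w ∉ M := by
    intro h
    have : (1 : B) ∈ M := by
      have := M.sub_mem h hw1
      simpa using this
    exact (Ideal.IsMaximal.ne_top ‹_›) ((Ideal.eq_top_iff_one M).2 this)
  have hϖ0 : ϖ ≠ 0 := hϖ.ne_zero
  refine ⟨w * ϖ, ?_, ?_, ?_, ?_⟩
  · rw [hMϖ]
    exact Ideal.mul_mem_left _ _ (Ideal.mem_span_singleton_self ϖ)
  · intro h
    rw [hMϖ, Ideal.span_singleton_pow, Ideal.mem_span_singleton] at h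
    obtain ⟨t, ht⟩ := h
    have : w = ϖ * t := by
      apply mul_right_cancel₀ hϖ0
      rw [ht]
      ring
    apply hwM
    rw [hMϖ, this]
    exact Ideal.mul_mem_right _ _ (Ideal.mem_span_singleton_self ϖ)
  · refine ⟨algebraMap K A κ⁻¹ * π, ?_⟩
    rw [map_mul, ← hv, mul_pow, hwn]
    ring
  · apply natDegree_minpoly_of_eisenstein (maximalIdeal A) n hn0 (algebraMap K A κ⁻¹ * π)
    · rw [hmπ]
      exact Ideal.mul_mem_left _ _ (Ideal.mem_span_singleton_self π)
    · intro h
      rw [hmπ, Ideal.span_singleton_pow, Ideal.mem_span_singleton] at h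
      obtain ⟨t, ht⟩ := h
      have hπ0 : π ≠ 0 := hπ.ne_zero
      have h1 : algebraMap K A κ⁻¹ = π * t := by
        apply mul_right_cancel₀ hπ0
        rw [ht]
        ring
      have hu : IsUnit (algebraMap K A κ⁻¹) := (IsUnit.mk0 _ (inv_ne_zero hκ0)).map _
      have : algebraMap K A κ⁻¹ ∈ maximalIdeal A := by
        rw [hmπ, h1]
        exact Ideal.mul_mem_right _ _ (Ideal.mem_span_singleton_self π)
      exact (mem_maximalIdeal _).1 this hu
    · exact Algebra.IsIntegral.isIntegral _
    · rw [map_mul, ← hv, mul_pow, hwn]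
      ring

end H12TameRam
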