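import Mathlib

namespace H12TernForm

open MvPolynomial

variable {R : Type*} [CommRing R]

theorem finrank_homog [Nontrivial R] (n : ℕ) [Fintype {d : Fin 3 →₀ ℕ // d.degree = n}] :
    Module.finrank R ↥(homogeneousSubmodule (Fin 3) R n) =
      Fintype.card {d : Fin 3 →₀ ℕ // d.degree = n} := by
  have e1 : ↥(homogeneousSubmodule (Fin 3) R n) ≃ₗ[R]
      ↥(AddMonoidAlgebra.supported R R {d : Fin 3 →₀ ℕ | d.degree = n}) :=
    LinearEquiv.ofEq _ _ (homogeneousSubmodule_eq_finsupp_supported (Fin 3) R n)
  have e2 := AddMonoidAlgebra.supportedEquivFinsupp (R := R) (S := R) {d : Fin 3 →₀ ℕ | d.degree = n}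
  rw [(e1.trans e2).finrank_eq]
  exact Module.finrank_finsupp_self (R := R) (ι := {d : Fin 3 →₀ ℕ // d.degree = n})

end H12TernForm

namespace H12TernForm

open MvPolynomial

variable {R : Type*} [CommRing R]

section main

variable (j : Fin 3) (q : MvPolynomial (Fin 3) R) (n : ℕ)

/-- the family. -/
noncomputable def fam : {m : Fin 3 →₀ ℕ // m.degree = n ∧ m j < 2} ⊕ {m : Fin 3 →₀ ℕ // m.degree + 2 = n} →
    MvPolynomial (Fin 3) R :=
  Sum.elim (fun m => MvPolynomial.monomial m.1 (1 : R)) (fun m => q * MvPolynomial.monomial m.1 (1 : R))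

variable {j q n}

theorem fam_homog (hq : q.IsHomogeneous 2) (x) : (fam j q n x).IsHomogeneous n := by
  rcases x with ⟨m, hm, -⟩ | ⟨m, hm⟩
  · exact isHomogeneous_monomial _ hm
  · have := hq.mul (isHomogeneous_monomial (1 : R) (rfl : m.degree = m.degree))
    rw [add_comm, hm] at this
    exact this

theorem support_props (hq : q.IsHomogeneous 2) {a : Fin 3 →₀ ℕ} (ha : a ∈ q.support)
    (hne : a ≠ Finsupp.single j 2) : a.degree = 2 ∧ a j ≤ 1 := by
  have hdeg : a.degree = 2 := by
    have := hq (mem_support_iff.1 ha)
    rw [Finsupp.degree_eq_weight_one]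
    exact this
  refine ⟨hdeg, ?_⟩
  by_contra hlt
  push Not at hlt
  apply hne
  have hsum : a.degree = ∑ i, a i := by
    rw [Finsupp.degree]
    exact Finset.sum_subset (Finset.subset_univ _) (fun i _ hi => by simpa using hi)
  rw [hdeg, Fin.sum_univ_three] at hsum
  ext i
  fin_cases j <;> fin_cases i <;> simp at hlt ⊢ <;> omega

theorem monomial_mem (hq : q.IsHomogeneous 2) (hu : IsUnit (q.coeff (Finsupp.single j 2))) :
    ∀ (t : ℕ) (m : Fin 3 →₀ ℕ), m j = t → m.degree = n →
      MvPolynomial.monomial m (1 : R) ∈ Submodule.span R (Set.range (fam j q n)) := by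
  intro t
  induction t using Nat.strong_induction_on with
  | _ t ih =>
    intro m hmt hmn
    by_cases hlt : m j < 2
    · exact Submodule.subset_span ⟨Sum.inl ⟨m, hmn, hlt⟩, rfl⟩
    · push Not at hlt
      set m' : Fin 3 →₀ ℕ := m - Finsupp.single j 2 with hm'
      have hmm' : m = Finsupp.single j 2 + m' := by
        ext i
        by_cases hi : i = j
        · subst hi; simp [hm']; omega
        · simp [hm', Finsupp.single_apply, Ne.symm hi]
      have hdeg' : m'.degree + 2 = n := by
        rw [← hmn, hmm', map_add, Finsupp.degree_single]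
        ring
      obtain ⟨u, hu'⟩ := hu
      -- q * monomial m' 1 expansion
      have hexp : q * MvPolynomial.monomial m' (1 : R) =
          ∑ a ∈ q.support, q.coeff a • MvPolynomial.monomial (a + m') (1 : R) := by
        conv_lhs => rw [q.as_sum, Finset.sum_mul]
        refine Finset.sum_congr rfl fun a _ => ?_
        rw [monomial_mul, mul_one, smul_monomial, smul_eq_mul, mul_one]
      have hqm : q * MvPolynomial.monomial m' (1 : R) ∈ Submodule.span R (Set.range (fam j q n)) :=
        Submodule.subset_span ⟨Sum.inr ⟨m', hdeg'⟩, rfl⟩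
      have hrest : ∀ a ∈ q.support, a ≠ Finsupp.single j 2 →
          q.coeff a • MvPolynomial.monomial (a + m') (1 : R) ∈
            Submodule.span R (Set.range (fam j q n)) := by
        intro a ha hne
        obtain ⟨had, haj⟩ := support_props hq ha hne
        refine Submodule.smul_mem _ _ (ih ((a + m') j) ?_ (a + m') rfl ?_)
        · have : m' j + 2 = m j := by
            have := congrArg (fun g : Fin 3 →₀ ℕ => g j) hmm'
            simp at this; omega
          simp only [Finsupp.add_apply]
          omega
        · rw [map_add, had]; omega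
      by_cases hsupp : Finsupp.single j 2 ∈ q.support
      · rw [← Finset.add_sum_erase _ _ hsupp] at hexp
        have h1 : q.coeff (Finsupp.single j 2) • MvPolynomial.monomial (Finsupp.single j 2 + m') (1 : R) ∈
            Submodule.span R (Set.range (fam j q n)) := by
          have : q.coeff (Finsupp.single j 2) • MvPolynomial.monomial (Finsupp.single j 2 + m') (1 : R) =
              q * MvPolynomial.monomial m' (1 : R) -
                ∑ a ∈ q.support.erase (Finsupp.single j 2),
                  q.coeff a • MvPolynomial.monomial (a + m') (1 : R) := by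
            rw [hexp]; abel
          rw [this]
          refine Submodule.sub_mem _ hqm (Submodule.sum_mem _ fun a ha => ?_)
          exact hrest a (Finset.mem_of_mem_erase ha) (Finset.ne_of_mem_erase ha)
        rw [← hmm', ← hu'] at h1
        have := Submodule.smul_mem _ (↑u⁻¹ : R) h1
        rwa [smul_smul, Units.inv_mul, one_smul] at this
      · rw [mem_support_iff, not_not] at hsupp
        rw [hsupp] at hu'
        have h10 : (1 : R) = 0 := by rw [← u.mul_inv, hu', zero_mul]
        have : MvPolynomial.monomial m (1 : R) = 0 := by rw [h10, map_zero]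
        rw [this]
        exact zero_mem _

theorem span_eq (hq : q.IsHomogeneous 2) (hu : IsUnit (q.coeff (Finsupp.single j 2))) :
    Submodule.span R (Set.range (fam j q n)) = homogeneousSubmodule (Fin 3) R n := by
  apply le_antisymm
  · rw [Submodule.span_le]
    rintro _ ⟨x, rfl⟩
    exact fam_homog hq x
  · intro P hP
    rw [P.as_sum]
    refine Submodule.sum_mem _ fun m hm => ?_
    have hdeg : m.degree = n := by
      have := hP (mem_support_iff.1 hm)
      rw [Finsupp.degree_eq_weight_one]
      exact this
    have := monomial_mem hq hu (m j) m rfl hdeg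
    have h2 : MvPolynomial.monomial m (coeff m P) = coeff m P • MvPolynomial.monomial m (1 : R) := by
      rw [smul_monomial, smul_eq_mul, mul_one]
    rw [h2]
    exact Submodule.smul_mem _ _ this

theorem linIndep (hq : q.IsHomogeneous 2) (hu : IsUnit (q.coeff (Finsupp.single j 2))) :
    LinearIndependent R (fam j q n) := by
  rcases subsingleton_or_nontrivial R with h | h
  · exact linearIndependent_of_subsingleton
  classical
  haveI hfin : Finite {d : Fin 3 →₀ ℕ // d.degree = n} :=
    (Finsupp.finite_of_degree_le (σ := Fin 3) n).subset (fun d hd => le_of_eq hd) |>.to_subtype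
  -- injection of the index set
  let g : {m : Fin 3 →₀ ℕ // m.degree = n ∧ m j < 2} ⊕ {m : Fin 3 →₀ ℕ // m.degree + 2 = n} →
      {d : Fin 3 →₀ ℕ // d.degree = n} :=
    Sum.elim (fun m => ⟨m.1, m.2.1⟩)
      (fun m => ⟨m.1 + Finsupp.single j 2, by rw [map_add, Finsupp.degree_single]; exact m.2⟩)
  have hg : Function.Injective g := by
    rintro (⟨m, hm1, hm2⟩ | ⟨m, hm⟩) (⟨m', hm1', hm2'⟩ | ⟨m', hm'⟩) h
    · simp only [g, Sum.elim_inl, Subtype.mk.injEq] at h
      subst h; rfl
    · exfalso
      simp only [g, Sum.elim_inl, Sum.elim_inr, Subtype.mk.injEq] at h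
      rw [h] at hm2
      simp at hm2
    · exfalso
      simp only [g, Sum.elim_inl, Sum.elim_inr, Subtype.mk.injEq] at h
      rw [← h] at hm2'
      simp at hm2'
    · simp only [g, Sum.elim_inr, Subtype.mk.injEq] at h
      have := add_right_cancel h
      subst this; rfl
  haveI : Finite ({m : Fin 3 →₀ ℕ // m.degree = n ∧ m j < 2} ⊕ {m : Fin 3 →₀ ℕ // m.degree + 2 = n}) :=
    Finite.of_injective g hg
  letI := Fintype.ofFinite {d : Fin 3 →₀ ℕ // d.degree = n}
  letI := Fintype.ofFinite
    ({m : Fin 3 →₀ ℕ // m.degree = n ∧ m j < 2} ⊕ {m : Fin 3 →₀ ℕ // m.degree + 2 = n})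
  -- lift the family to the homogeneous submodule
  let fam' : {m : Fin 3 →₀ ℕ // m.degree = n ∧ m j < 2} ⊕ {m : Fin 3 →₀ ℕ // m.degree + 2 = n} →
      ↥(homogeneousSubmodule (Fin 3) R n) := fun x => ⟨fam j q n x, fam_homog hq x⟩
  have hspan : ⊤ ≤ Submodule.span R (Set.range fam') := by
    intro P _
    have hP : P.1 ∈ Submodule.span R (Set.range (fam j q n)) := by
      rw [span_eq hq hu]; exact P.2
    have hrange : Set.range (fam j q n) = (homogeneousSubmodule (Fin 3) R n).subtype '' Set.range fam' := by
      rw [← Set.range_comp]; rfl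
    rw [hrange, ← Submodule.map_span] at hP
    obtain ⟨P', hP', hPP'⟩ := hP
    have : P' = P := Subtype.ext hPP'
    rwa [← this]
  have hcard : Fintype.card
      ({m : Fin 3 →₀ ℕ // m.degree = n ∧ m j < 2} ⊕ {m : Fin 3 →₀ ℕ // m.degree + 2 = n}) ≤
      Module.finrank R ↥(homogeneousSubmodule (Fin 3) R n) := by
    rw [finrank_homog]
    exact Fintype.card_le_of_injective g hg
  have hli := linearIndependent_of_top_le_span_of_card_le_finrank hspan hcard
  have := hli.map' (homogeneousSubmodule (Fin 3) R n).subtype (Submodule.ker_subtype _)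
  exact this

end main

end H12TernForm
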