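import Mathlib
import Groth.Agent.Lib.Helper4.HenselPairZ

/-!
# Lifting coprime factorizations along an étale neighbourhood of `V(I)` (Stacks 0ALH)
-/

set_option autoImplicit false
universe u

namespace Groth.Agent.Lib.Helper12.UnivFactor

open Polynomial Polynomial.UniversalCoprimeFactorizationRing

section HomEquiv

variable {R : Type u} {S : Type u} [CommRing R] [CommRing S] [Algebra R S] {n : ℕ} (m k : ℕ)
  (hn : n = m + k) (p : MonicDegreeEq R n)

theorem homEquiv_fst (φ : UniversalCoprimeFactorizationRing m k hn p →ₐ[R] S) :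
    ((homEquiv S m k hn p) φ).1.1.1 = (factor₁ m k hn p).1.map (φ : _ →+* S) := by
  simp [homEquiv, UniversalFactorizationRing.homEquiv, factor₁, MonicDegreeEq.map,
    Polynomial.map_map]
  rfl

theorem homEquiv_snd (φ : UniversalCoprimeFactorizationRing m k hn p →ₐ[R] S) :
    ((homEquiv S m k hn p) φ).1.2.1 = (factor₂ m k hn p).1.map (φ : _ →+* S) := by
  simp [homEquiv, UniversalFactorizationRing.homEquiv, factor₂, MonicDegreeEq.map,
    Polynomial.map_map]
  rfl

end HomEquiv

theorem isUnit_away_left {U : Type*} [CommRing U] (x y : U) :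
    IsUnit (algebraMap U (Localization.Away (x * y)) x) := by
  have h := IsLocalization.Away.algebraMap_isUnit (S := Localization.Away (x * y)) (x * y)
  rw [map_mul] at h
  exact isUnit_of_mul_isUnit_left h

theorem isUnit_away_right {U : Type*} [CommRing U] (x y : U) :
    IsUnit (algebraMap U (Localization.Away (x * y)) y) := by
  have h := IsLocalization.Away.algebraMap_isUnit (S := Localization.Away (x * y)) (x * y)
  rw [map_mul] at h
  exact isUnit_of_mul_isUnit_right h

/-- The abstract localisation step: an étale `A`-algebra `U` with a retraction `σ : U → A/I`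
can be localised to an étale `A`-algebra `A'` with `A/I ≃ A'/IA'`. -/
theorem exists_localization (A : Type u) [CommRing A] (I : Ideal A) (U : Type u) [CommRing U]
    [Algebra A U] [Algebra.Etale A U] (σ : U →ₐ[A] A ⧸ I) (a : A)
    (ha : IsUnit (Ideal.Quotient.mk I a)) :
    ∃ (t : U),
      IsUnit (algebraMap A (Localization.Away t) a) ∧
      Function.Bijective (Ideal.quotientMap (I.map (algebraMap A (Localization.Away t)))
        (algebraMap A (Localization.Away t)) Ideal.le_comap_map) ∧
      (Ideal.Quotient.mk (I.map (algebraMap A (Localization.Away t)))).comp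
        (algebraMap U (Localization.Away t)) =
      (Ideal.quotientMap (I.map (algebraMap A (Localization.Away t)))
        (algebraMap A (Localization.Away t)) Ideal.le_comap_map).comp (σ : U →+* A ⧸ I) := by
  obtain ⟨ε, hε1, -, hεker⟩ :=
    Groth.Agent.Lib.Helper4.HenselPair.exists_section_idempotent I σ
  set t : U := ε * algebraMap A U a with ht
  refine ⟨t, ?_⟩
  set A' := Localization.Away t with hA'
  have hσt : σ t = Ideal.Quotient.mk I a := by
    rw [ht, map_mul, hε1, one_mul, σ.commutes]; rfl
  have hεunit : IsUnit (algebraMap U A' ε) := isUnit_away_left ε (algebraMap A U a)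
  have haunit : IsUnit (algebraMap A A' a) := by
    rw [IsScalarTower.algebraMap_apply A U A']
    exact isUnit_away_right ε (algebraMap A U a)
  -- the retraction on the localisation
  have hunits : ∀ y : Submonoid.powers t, IsUnit (σ (y : U)) := by
    rintro ⟨_, j, rfl⟩
    simp only [map_pow, hσt]
    exact ha.pow j
  let τ : A' →ₐ[A] A ⧸ I := IsLocalization.liftAlgHom (M := Submonoid.powers t) (f := σ) hunits
  have hτalg : ∀ r : U, τ (algebraMap U A' r) = σ r := fun r => IsLocalization.lift_eq _ _
  have hτker : ∀ x : A', τ x = 0 → x ∈ I.map (algebraMap A A') := by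
    intro x hx
    obtain ⟨y, s, rfl⟩ := IsLocalization.exists_mk'_eq (Submonoid.powers t) x
    have h1 : τ (IsLocalization.mk' A' y s) * σ (s : U) = σ y := by
      rw [← hτalg (s : U), ← map_mul, IsLocalization.mk'_spec, hτalg]
    rw [hx, zero_mul] at h1
    have h2 := hεker y h1.symm
    have h3 : algebraMap U A' (y * ε) ∈ I.map (algebraMap A A') := by
      have : I.map (algebraMap A A') = (I.map (algebraMap A U)).map (algebraMap U A') := by
        rw [Ideal.map_map, ← IsScalarTower.algebraMap_eq]
      rw [this]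
      exact Ideal.mem_map_of_mem _ h2
    rw [map_mul] at h3
    have h4 : algebraMap U A' y ∈ I.map (algebraMap A A') := by
      obtain ⟨w, hw⟩ := hεunit.exists_right_inv
      have : algebraMap U A' y = algebraMap U A' y * algebraMap U A' ε * w := by
        rw [mul_assoc, hw, mul_one]
      rw [this]
      exact Ideal.mul_mem_right _ _ h3
    rw [IsLocalization.mk'_eq_mul_mk'_one]
    exact Ideal.mul_mem_right _ _ h4
  have hτI : ∀ x ∈ I.map (algebraMap A A'), (τ : A' →+* A ⧸ I) x = 0 := by
    intro x hx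
    have hle : I.map (algebraMap A A') ≤ RingHom.ker (τ : A' →+* A ⧸ I) := by
      rw [Ideal.map_le_iff_le_comap]
      intro r hr
      rw [Ideal.mem_comap, RingHom.mem_ker]
      show τ (algebraMap A A' r) = 0
      rw [τ.commutes]
      exact Ideal.Quotient.eq_zero_iff_mem.2 hr
    exact hle hx
  let τbar : A' ⧸ I.map (algebraMap A A') →+* A ⧸ I := Ideal.Quotient.lift _ (τ : A' →+* A ⧸ I) hτI
  have hτbar_inj : Function.Injective τbar := by
    rw [injective_iff_map_eq_zero]
    intro z hz
    obtain ⟨x, rfl⟩ := Ideal.Quotient.mk_surjective z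
    rw [Ideal.Quotient.eq_zero_iff_mem]
    apply hτker
    exact hz
  set q := Ideal.quotientMap (I.map (algebraMap A A')) (algebraMap A A') Ideal.le_comap_map with hq
  have hτq : ∀ z, τbar (q z) = z := by
    intro z
    obtain ⟨r, rfl⟩ := Ideal.Quotient.mk_surjective z
    show τ (algebraMap A A' r) = _
    rw [τ.commutes]; rfl
  refine ⟨haunit, ⟨?_, ?_⟩, ?_⟩
  · intro z₁ z₂ h
    rw [← hτq z₁, ← hτq z₂, h]
  · intro z
    refine ⟨τbar z, ?_⟩
    apply hτbar_inj
    rw [hτq]
  · ext r
    apply hτbar_inj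
    rw [RingHom.comp_apply, RingHom.comp_apply, hτq]
    exact hτalg r

theorem main_monic (A : Type u) [CommRing A] (I : Ideal A) {n : ℕ} (m k : ℕ) (hn : n = m + k)
    (p : MonicDegreeEq A n) (gm : MonicDegreeEq (A ⧸ I) m) (hk : MonicDegreeEq (A ⧸ I) k)
    (hprod : gm.1 * hk.1 = p.1.map (algebraMap A (A ⧸ I))) (hcop : IsCoprime gm.1 hk.1)
    (a : A) (ha : IsUnit (Ideal.Quotient.mk I a)) :
    ∃ (A' : Type u) (_ : CommRing A') (_ : Algebra A A') (_ : Algebra.Etale A A'),
      Function.Bijective (Ideal.quotientMap (I.map (algebraMap A A')) (algebraMap A A')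
        Ideal.le_comap_map) ∧ IsUnit (algebraMap A A' a) ∧
      ∃ g' h' : A'[X], p.1.map (algebraMap A A') = g' * h' ∧
        g'.map (Ideal.Quotient.mk (I.map (algebraMap A A'))) =
          gm.1.map (Ideal.quotientMap (I.map (algebraMap A A')) (algebraMap A A')
            Ideal.le_comap_map) ∧
        h'.map (Ideal.Quotient.mk (I.map (algebraMap A A'))) =
          hk.1.map (Ideal.quotientMap (I.map (algebraMap A A')) (algebraMap A A')
            Ideal.le_comap_map) := by
  let U := UniversalCoprimeFactorizationRing m k hn p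
  let σ : U →ₐ[A] A ⧸ I := (homEquiv (A ⧸ I) m k hn p).symm ⟨(gm, hk), hprod, hcop⟩
  have hσ1 : (factor₁ m k hn p).1.map (σ : U →+* A ⧸ I) = gm.1 := by
    rw [← homEquiv_fst]
    show ((homEquiv (A ⧸ I) m k hn p) ((homEquiv (A ⧸ I) m k hn p).symm _)).1.1.1 = gm.1
    rw [Equiv.apply_symm_apply]
  have hσ2 : (factor₂ m k hn p).1.map (σ : U →+* A ⧸ I) = hk.1 := by
    rw [← homEquiv_snd]
    show ((homEquiv (A ⧸ I) m k hn p) ((homEquiv (A ⧸ I) m k hn p).symm _)).1.2.1 = hk.1
    rw [Equiv.apply_symm_apply]
  obtain ⟨t, haunit, hbij, hcomp⟩ := exists_localization A I U σ a ha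
  haveI : Algebra.Etale A (Localization.Away t) := Algebra.Etale.comp A U (Localization.Away t)
  refine ⟨Localization.Away t, inferInstance, inferInstance, inferInstance, hbij, haunit,
    (factor₁ m k hn p).1.map (algebraMap U (Localization.Away t)),
    (factor₂ m k hn p).1.map (algebraMap U (Localization.Away t)), ?_, ?_, ?_⟩
  · rw [← Polynomial.map_mul, factor₁_mul_factor₂, MonicDegreeEq.map_coe, Polynomial.map_map,
      ← IsScalarTower.algebraMap_eq]
  · rw [Polynomial.map_map, hcomp, ← Polynomial.map_map, hσ1]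
  · rw [Polynomial.map_map, hcomp, ← Polynomial.map_map, hσ2]

theorem main (A : Type u) [CommRing A] (I : Ideal A) (f : A[X]) (hf : f.Monic)
    (g h : (A ⧸ I)[X]) (hgh : f.map (Ideal.Quotient.mk I) = g * h)
    (hlead : IsUnit g.leadingCoeff) (hcop : IsCoprime g h) :
    ∃ (A' : Type u) (_ : CommRing A') (_ : Algebra A A') (_ : Algebra.Etale A A'),
      Function.Bijective (Ideal.quotientMap (I.map (algebraMap A A')) (algebraMap A A')
        Ideal.le_comap_map) ∧
      ∃ g' h' : A'[X], f.map (algebraMap A A') = g' * h' ∧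
        g'.map (Ideal.Quotient.mk (I.map (algebraMap A A'))) =
          g.map (Ideal.quotientMap (I.map (algebraMap A A')) (algebraMap A A')
            Ideal.le_comap_map) ∧
        h'.map (Ideal.Quotient.mk (I.map (algebraMap A A'))) =
          h.map (Ideal.quotientMap (I.map (algebraMap A A')) (algebraMap A A')
            Ideal.le_comap_map) := by
  rcases subsingleton_or_nontrivial (A ⧸ I) with hsub | hnt
  · -- degenerate case
    haveI : Subsingleton (Localization.Away (0 : A)) :=
      IsLocalization.subsingleton (M := Submonoid.powers (0 : A)) ⟨1, pow_one 0⟩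
    refine ⟨Localization.Away (0 : A), inferInstance, inferInstance, inferInstance, ⟨?_, ?_⟩,
      0, 0, Subsingleton.elim _ _, Subsingleton.elim _ _, Subsingleton.elim _ _⟩
    · intro x y _; exact Subsingleton.elim _ _
    · intro y; exact ⟨0, Subsingleton.elim _ _⟩
  · -- main case
    obtain ⟨u, hu'⟩ := hlead
    have hg₁m : (C ((u⁻¹ : (A ⧸ I)ˣ) : A ⧸ I) * g).Monic :=
      monic_C_mul_of_mul_leadingCoeff_eq_one (by rw [← hu']; simp)
    have hprod : (C ((u⁻¹ : (A ⧸ I)ˣ) : A ⧸ I) * g) * (C (u : A ⧸ I) * h) =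
        f.map (Ideal.Quotient.mk I) := by
      rw [hgh]
      have : C ((u⁻¹ : (A ⧸ I)ˣ) : A ⧸ I) * g * (C (u : A ⧸ I) * h) =
          (C ((u⁻¹ : (A ⧸ I)ˣ) : A ⧸ I) * C (u : A ⧸ I)) * (g * h) := by ring
      rw [this, ← C_mul, Units.inv_mul, C_1, one_mul]
    have hfm : (f.map (Ideal.Quotient.mk I)).Monic := hf.map _
    have hh₁m : (C (u : A ⧸ I) * h).Monic := hg₁m.of_mul_monic_left (hprod ▸ hfm)
    have hcop₁ : IsCoprime (C ((u⁻¹ : (A ⧸ I)ˣ) : A ⧸ I) * g) (C (u : A ⧸ I) * h) := by
      have hu1 : IsUnit (C ((u⁻¹ : (A ⧸ I)ˣ) : A ⧸ I)) := (Units.isUnit _).map C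
      have hu2 : IsUnit (C (u : A ⧸ I)) := (Units.isUnit _).map C
      exact (isCoprime_mul_unit_left_left hu1 _ _).2
        ((isCoprime_mul_unit_left_right hu2 _ _).2 hcop)
    have hn : f.natDegree = (C ((u⁻¹ : (A ⧸ I)ˣ) : A ⧸ I) * g).natDegree +
        (C (u : A ⧸ I) * h).natDegree := by
      rw [← hg₁m.natDegree_mul hh₁m, hprod, hf.natDegree_map]
    obtain ⟨a, ha⟩ := Ideal.Quotient.mk_surjective (u : A ⧸ I)
    obtain ⟨A', _, _, _, hbij, haunit, g'', h'', hg''h'', hg''q, hh''q⟩ :=
      main_monic A I _ _ hn (.mk f hf rfl) (.mk _ hg₁m rfl) (.mk _ hh₁m rfl) hprod hcop₁ a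
        (ha ▸ u.isUnit)
    refine ⟨A', inferInstance, inferInstance, inferInstance, hbij, ?_⟩
    have hg''q' : g''.map (Ideal.Quotient.mk (I.map (algebraMap A A'))) =
        (C ((u⁻¹ : (A ⧸ I)ˣ) : A ⧸ I) * g).map (Ideal.quotientMap (I.map (algebraMap A A'))
          (algebraMap A A') Ideal.le_comap_map) := hg''q
    have hh''q' : h''.map (Ideal.Quotient.mk (I.map (algebraMap A A'))) =
        (C (u : A ⧸ I) * h).map (Ideal.quotientMap (I.map (algebraMap A A'))
          (algebraMap A A') Ideal.le_comap_map) := hh''q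
    have hfgh : f.map (algebraMap A A') = g'' * h'' := hg''h''
    obtain ⟨va, hva⟩ := haunit.exists_right_inv
    have hqa : Ideal.Quotient.mk (I.map (algebraMap A A')) (algebraMap A A' a) =
        Ideal.quotientMap (I.map (algebraMap A A')) (algebraMap A A') Ideal.le_comap_map
          (u : A ⧸ I) := by
      rw [← ha]; rfl
    have hqva : Ideal.Quotient.mk (I.map (algebraMap A A')) va =
        Ideal.quotientMap (I.map (algebraMap A A')) (algebraMap A A') Ideal.le_comap_map
          ((u⁻¹ : (A ⧸ I)ˣ) : A ⧸ I) := by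
      have h1 : Ideal.quotientMap (I.map (algebraMap A A')) (algebraMap A A') Ideal.le_comap_map
          (u : A ⧸ I) * Ideal.Quotient.mk (I.map (algebraMap A A')) va = 1 := by
        rw [← hqa, ← map_mul, hva, map_one]
      have h2 : Ideal.quotientMap (I.map (algebraMap A A')) (algebraMap A A') Ideal.le_comap_map
          ((u⁻¹ : (A ⧸ I)ˣ) : A ⧸ I) * Ideal.quotientMap (I.map (algebraMap A A'))
          (algebraMap A A') Ideal.le_comap_map (u : A ⧸ I) = 1 := by
        rw [← map_mul, Units.inv_mul, map_one]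
      exact (left_inv_eq_right_inv h2 h1).symm
    refine ⟨C (algebraMap A A' a) * g'', C va * h'', ?_, ?_, ?_⟩
    · rw [hfgh]
      have : C (algebraMap A A' a) * g'' * (C va * h'') =
          (C (algebraMap A A' a) * C va) * (g'' * h'') := by ring
      rw [this, ← C_mul, hva, C_1, one_mul]
    · rw [Polynomial.map_mul, Polynomial.map_C, hg''q', hqa, Polynomial.map_mul,
        Polynomial.map_C, ← mul_assoc, ← C_mul, ← map_mul, Units.mul_inv, map_one, C_1, one_mul]
    · rw [Polynomial.map_mul, Polynomial.map_C, hh''q', hqva, Polynomial.map_mul,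
        Polynomial.map_C, ← mul_assoc, ← C_mul, ← map_mul, Units.inv_mul, map_one, C_1, one_mul]

end Groth.Agent.Lib.Helper12.UnivFactor
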