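import Groth.Prelude.Def_Flat
import Mathlib.AlgebraicGeometry.Morphisms.Integral
import Mathlib.AlgebraicGeometry.Morphisms.UniversallyInjective
import Mathlib.AlgebraicGeometry.Morphisms.UniversallyClosed
import Mathlib.AlgebraicGeometry.Morphisms.UnderlyingMap
import Mathlib.AlgebraicGeometry.Morphisms.FlatMono
import Mathlib.AlgebraicGeometry.Morphisms.WeaklyEtale

/-!
# Universal homeomorphisms (`FlatMor.IsUnivHomeo`)

Basic API: characterization as integral + universally injective + surjective,
stability properties, two-out-of-three.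
-/

set_option autoImplicit false
universe u

open AlgebraicGeometry CategoryTheory Limits MorphismProperty

namespace Groth.Agent.Lib.Helper12

variable {X Y Z : Scheme.{u}}

lemma isUnivHomeo_iff_universally {f : X ⟶ Y} :
    FlatMor.IsUnivHomeo f ↔ universally (topologically (fun f => IsHomeomorph f)) f := Iff.rfl

instance isUnivHomeo_respectsIso : (FlatMor.IsUnivHomeo.{u}).RespectsIso :=
  universally_respectsIso _

instance isUnivHomeo_isStableUnderBaseChange : (FlatMor.IsUnivHomeo.{u}).IsStableUnderBaseChange :=
  universally_isStableUnderBaseChange _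

lemma IsUnivHomeo.isHomeomorph {f : X ⟶ Y} (h : FlatMor.IsUnivHomeo f) : IsHomeomorph f.base :=
  universally_le _ _ h

lemma IsUnivHomeo.universallyClosed {f : X ⟶ Y} (h : FlatMor.IsUnivHomeo f) :
    UniversallyClosed f := by
  rw [universallyClosed_eq]
  exact universally_mono (fun (A B : Scheme.{u}) (g : A ⟶ B) (hg : IsHomeomorph g.base) => hg.isClosedMap) _ h

lemma IsUnivHomeo.universallyInjective {f : X ⟶ Y} (h : FlatMor.IsUnivHomeo f) :
    UniversallyInjective f := by
  rw [universallyInjective_eq]
  exact universally_mono (fun (A B : Scheme.{u}) (g : A ⟶ B) (hg : IsHomeomorph g.base) => hg.injective) _ h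

lemma IsUnivHomeo.surjective {f : X ⟶ Y} (h : FlatMor.IsUnivHomeo f) : Surjective f :=
  ⟨(IsUnivHomeo.isHomeomorph h).surjective⟩

lemma IsUnivHomeo.isAffineHom {f : X ⟶ Y} (h : FlatMor.IsUnivHomeo f) : IsAffineHom f := by
  have hh := IsUnivHomeo.isHomeomorph h
  apply isAffineHom_of_isInducing f hh.isInducing
  rw [hh.surjective.range_eq]
  exact isClosed_univ

lemma IsUnivHomeo.isIntegralHom {f : X ⟶ Y} (h : FlatMor.IsUnivHomeo f) : IsIntegralHom f := by
  rw [IsIntegralHom.iff_universallyClosed_and_isAffineHom]
  exact ⟨IsUnivHomeo.universallyClosed h, IsUnivHomeo.isAffineHom h⟩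

lemma IsUnivHomeo.quasiCompact {f : X ⟶ Y} (h : FlatMor.IsUnivHomeo f) : QuasiCompact f :=
  have := IsUnivHomeo.isAffineHom h
  inferInstance

/-- A morphism is a universal homeomorphism iff it is integral, universally injective and
surjective. -/
theorem isUnivHomeo_iff {f : X ⟶ Y} :
    FlatMor.IsUnivHomeo f ↔ IsIntegralHom f ∧ UniversallyInjective f ∧ Surjective f := by
  refine ⟨fun h => ⟨IsUnivHomeo.isIntegralHom h, IsUnivHomeo.universallyInjective h,
    IsUnivHomeo.surjective h⟩, ?_⟩
  rintro ⟨h1, h2, h3⟩
  intro X' Y' i₁ i₂ f' H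
  have hc : UniversallyClosed f' :=
    MorphismProperty.of_isPullback (P := @UniversallyClosed) H.flip inferInstance
  have hi : UniversallyInjective f' :=
    MorphismProperty.of_isPullback (P := @UniversallyInjective) H.flip inferInstance
  have hs : Surjective f' :=
    MorphismProperty.of_isPullback (P := @Surjective) H.flip inferInstance
  change IsHomeomorph f'.base
  rw [isHomeomorph_iff_continuous_isClosedMap_bijective]
  exact ⟨f'.continuous, f'.isClosedMap, f'.injective, f'.surjective⟩

lemma isUnivHomeo_of_isIso (f : X ⟶ Y) [IsIso f] : FlatMor.IsUnivHomeo f := by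
  rw [isUnivHomeo_iff]
  exact ⟨inferInstance, inferInstance, inferInstance⟩

instance isUnivHomeo_isStableUnderComposition :
    (FlatMor.IsUnivHomeo.{u}).IsStableUnderComposition where
  comp_mem f g hf hg := by
    rw [isUnivHomeo_iff] at hf hg ⊢
    obtain ⟨h1, h2, h3⟩ := hf
    obtain ⟨h1', h2', h3'⟩ := hg
    exact ⟨inferInstance, MorphismProperty.comp_mem (W := @UniversallyInjective) f g h2 h2',
      inferInstance⟩

lemma IsUnivHomeo.comp {f : X ⟶ Y} {g : Y ⟶ Z} (hf : FlatMor.IsUnivHomeo f)
    (hg : FlatMor.IsUnivHomeo g) : FlatMor.IsUnivHomeo (f ≫ g) :=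
  MorphismProperty.comp_mem _ f g hf hg

lemma isHomeomorph_of_comp_right {A B C : Type*} [TopologicalSpace A] [TopologicalSpace B]
    [TopologicalSpace C] {f : A → B} {g : B → C} (hgf : IsHomeomorph (g ∘ f))
    (hf : IsHomeomorph f) : IsHomeomorph g := by
  obtain ⟨e, rfl⟩ := isHomeomorph_iff_exists_homeomorph.1 hf
  have : g = (g ∘ e) ∘ e.symm := by
    funext y
    simp
  rw [this]
  exact hgf.comp e.symm.isHomeomorph

lemma isHomeomorph_of_comp_left {A B C : Type*} [TopologicalSpace A] [TopologicalSpace B]
    [TopologicalSpace C] {f : A → B} {g : B → C} (hgf : IsHomeomorph (g ∘ f))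
    (hg : IsHomeomorph g) : IsHomeomorph f := by
  obtain ⟨e, rfl⟩ := isHomeomorph_iff_exists_homeomorph.1 hg
  have : f = e.symm ∘ (e ∘ f) := by
    funext y
    simp
  rw [this]
  exact e.symm.isHomeomorph.comp hgf

/-- If `g ≫ h` and `g` are universal homeomorphisms then so is `h`. -/
theorem IsUnivHomeo.of_comp_right {g : X ⟶ Y} {h : Y ⟶ Z} (hgh : FlatMor.IsUnivHomeo (g ≫ h))
    (hg : FlatMor.IsUnivHomeo g) : FlatMor.IsUnivHomeo h := by
  intro Y' Z' i₁ i₂ h' H
  -- base change `g` along `i₁`
  have H1 : IsPullback (pullback.snd g i₁) (pullback.fst g i₁) i₁ g :=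
    (IsPullback.of_hasPullback g i₁).flip
  have H2 : IsPullback (pullback.snd g i₁ ≫ h') (pullback.fst g i₁) i₂ (g ≫ h) :=
    H1.paste_horiz H
  have h1 : IsHomeomorph (pullback.snd g i₁).base := hg _ _ _ H1
  have h2 : IsHomeomorph (pullback.snd g i₁ ≫ h').base := hgh _ _ _ H2
  change IsHomeomorph h'.base
  refine isHomeomorph_of_comp_right (f := (pullback.snd g i₁).base) ?_ h1
  convert h2 using 1
  funext x
  simp

/-- If `g ≫ h` and `h` are universal homeomorphisms then so is `g`. -/
theorem IsUnivHomeo.of_comp_left {g : X ⟶ Y} {h : Y ⟶ Z} (hgh : FlatMor.IsUnivHomeo (g ≫ h))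
    (hh : FlatMor.IsUnivHomeo h) : FlatMor.IsUnivHomeo g := by
  rw [isUnivHomeo_iff] at hgh ⊢
  obtain ⟨h1, h2, h3⟩ := hgh
  have hha : IsAffineHom h := IsUnivHomeo.isAffineHom hh
  refine ⟨IsIntegralHom.of_comp g h, ?_, ?_⟩
  · have := ((tfae_universallyInjective (g ≫ h)).out 0 1).1 h2
    refine ((tfae_universallyInjective g).out 0 1).2 ?_
    intro K _ a b hab
    apply this K
    dsimp only at hab ⊢
    rw [← Category.assoc, ← Category.assoc, hab]
  · constructor
    have hgh' : Function.Surjective (g ≫ h).base := h3.surj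
    have hhinj : Function.Injective h.base := (IsUnivHomeo.isHomeomorph hh).injective
    intro y
    obtain ⟨x, hx⟩ := hgh' (h.base y)
    refine ⟨x, hhinj ?_⟩
    rw [← hx]
    rfl

/-- A universally injective morphism has a diagonal which is a surjective closed immersion. -/
lemma isClosedImmersion_diagonal_of_universallyInjective (f : X ⟶ Y) [UniversallyInjective f] :
    IsClosedImmersion (pullback.diagonal f) := by
  have hs : Surjective (pullback.diagonal f) := (UniversallyInjective.iff_diagonal f).1 inferInstance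
  apply IsClosedImmersion.of_isPreimmersion
  rw [(pullback.diagonal f).surjective.range_eq]
  exact isClosed_univ

/-- A flat universally injective morphism with flat diagonal is a monomorphism. -/
lemma mono_of_weaklyEtale_of_universallyInjective (f : X ⟶ Y) [WeaklyEtale f]
    [UniversallyInjective f] : Mono f := by
  have hs : Surjective (pullback.diagonal f) := (UniversallyInjective.iff_diagonal f).1 inferInstance
  have := isClosedImmersion_diagonal_of_universallyInjective f
  have : IsIso (pullback.diagonal f) := Flat.isIso_of_surjective_of_mono _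
  exact (pullback.isIso_diagonal_iff f).1 this

/-- A weakly étale universal homeomorphism is an isomorphism. -/
theorem isIso_of_weaklyEtale_of_isUnivHomeo (f : X ⟶ Y) [WeaklyEtale f]
    (h : FlatMor.IsUnivHomeo f) : IsIso f := by
  have := IsUnivHomeo.universallyInjective h
  have := IsUnivHomeo.surjective h
  have := IsUnivHomeo.quasiCompact h
  have := mono_of_weaklyEtale_of_universallyInjective f
  exact Flat.isIso_of_surjective_of_mono f

end Groth.Agent.Lib.Helper12
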