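import Mathlib

namespace Groth.Agent.Lib.Helper12.UnivInj1

open IsLocalRing TensorProduct

variable {R : Type*} [CommRing R] [IsLocalRing R] {N : Type*} [AddCommGroup N] [Module R N]
  {I : Type*} (b : Module.Basis I R N)

/-- coordinate projection onto a finite set of basis vectors, as an endomorphism -/
noncomputable def rho (J : Finset I) : N →ₗ[R] N :=
  ∑ j ∈ J, (LinearMap.toSpanSingleton R N (b j)) ∘ₗ (b.coord j)

lemma rho_apply (J : Finset I) (x : N) : rho b J x = ∑ j ∈ J, b.repr x j • b j := by
  simp [rho, LinearMap.sum_apply]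

open Classical in
lemma rho_basis (J : Finset I) (j : I) : rho b J (b j) = if j ∈ J then b j else 0 := by
  rw [rho_apply]
  simp only [Module.Basis.repr_self]
  split_ifs with hj
  · rw [Finset.sum_eq_single j]
    · simp
    · intro i _ hij; simp [Finsupp.single_apply, Ne.symm hij]
    · intro h; exact absurd hj h
  · apply Finset.sum_eq_zero
    intro i hi
    have : i ≠ j := fun h => hj (h ▸ hi)
    simp [Finsupp.single_apply, this.symm]

lemma rho_of_support {J : Finset I} {x : N} (hx : (b.repr x).support ⊆ J) : rho b J x = x := by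
  classical
  rw [rho_apply]
  conv_rhs => rw [← b.linearCombination_repr x, Finsupp.linearCombination_apply, Finsupp.sum]
  refine (Finset.sum_subset hx ?_).symm
  intro i _ hi
  simp [Finsupp.notMem_support_iff.mp hi]

lemma rho_rho {J J' : Finset I} (h : J ⊆ J') : (rho b J') ∘ₗ (rho b J) = rho b J := by
  classical
  apply b.ext
  intro j
  simp only [LinearMap.comp_apply, rho_basis]
  split_ifs with hj
  · rw [rho_basis, if_pos (h hj)]
  · simp

/-- every tensor is supported on a finite set of basis vectors -/
lemma exists_rho_rTensor {Q : Type*} [AddCommGroup Q] [Module R Q] (w : N ⊗[R] Q) :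
    ∃ J : Finset I, (rho b J).rTensor Q w = w := by
  classical
  induction w using TensorProduct.induction_on with
  | zero => exact ⟨∅, by simp⟩
  | tmul n q =>
    refine ⟨(b.repr n).support, ?_⟩
    rw [LinearMap.rTensor_tmul, rho_of_support b (subset_refl _)]
  | add w₁ w₂ h₁ h₂ =>
    obtain ⟨J₁, hJ₁⟩ := h₁
    obtain ⟨J₂, hJ₂⟩ := h₂
    refine ⟨J₁ ∪ J₂, ?_⟩
    rw [map_add]
    congr 1
    · conv_lhs => rw [← hJ₁]
      rw [← LinearMap.comp_apply, ← LinearMap.rTensor_comp, rho_rho b Finset.subset_union_left, hJ₁]
    · conv_lhs => rw [← hJ₂]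
      rw [← LinearMap.comp_apply, ← LinearMap.rTensor_comp, rho_rho b Finset.subset_union_right, hJ₂]

/-- coordinates of elements of `𝔪 N` lie in `𝔪` -/
lemma repr_mem_of_mem_smul {x : N} (hx : x ∈ (maximalIdeal R) • (⊤ : Submodule R N)) (i : I) :
    b.repr x i ∈ maximalIdeal R := by
  induction hx using Submodule.smul_induction_on' with
  | smul r hr n _ =>
    rw [map_smul, Finsupp.smul_apply, smul_eq_mul]
    exact Ideal.mul_mem_right _ _ hr
  | add x hx y hy hx' hy' =>
    rw [map_add, Finsupp.add_apply]
    exact Ideal.add_mem _ hx' hy'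

end Groth.Agent.Lib.Helper12.UnivInj1

namespace Groth.Agent.Lib.Helper12.UnivInj1

open IsLocalRing TensorProduct

variable {R : Type*} [CommRing R] [IsLocalRing R] {N : Type*} [AddCommGroup N] [Module R N]
  {I : Type*} (b : Module.Basis I R N)

include b in
/-- An endomorphism of a free module over a local ring congruent to the identity modulo `𝔪`
is universally injective. -/
theorem rTensor_injective_of_sub_id_mem (u : N →ₗ[R] N)
    (hu : ∀ x, u x - x ∈ (maximalIdeal R) • (⊤ : Submodule R N))
    (Q : Type*) [AddCommGroup Q] [Module R Q] : Function.Injective (u.rTensor Q) := by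
  classical
  rw [injective_iff_map_eq_zero]
  intro w hw
  obtain ⟨J, hJ⟩ := exists_rho_rTensor b w
  set π : N →ₗ[R] (J → R) := LinearMap.pi (fun j => b.coord j.1) with hπ
  set ι : (J → R) →ₗ[R] N := Fintype.linearCombination R (fun j : J => b j) with hι
  have hιπ : ι ∘ₗ π = rho b J := by
    ext x
    simp only [LinearMap.comp_apply, hι, hπ, Fintype.linearCombination_apply, LinearMap.pi_apply,
      Module.Basis.coord_apply, rho_apply]
    exact Finset.sum_coe_sort J (fun j => b.repr x j • b j)
  have hπι : π ∘ₗ ι = LinearMap.id := by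
    apply LinearMap.pi_ext'
    intro j
    ext k
    simp only [LinearMap.comp_apply, hι, hπ, LinearMap.single_apply, LinearMap.pi_apply,
      Fintype.linearCombination_apply_single, one_smul, Module.Basis.coord_apply,
      Module.Basis.repr_self, LinearMap.id_apply]
    rw [Finsupp.single_apply, Pi.single_apply]
    by_cases h : j = k
    · subst h; simp
    · have : (j : I) ≠ k := fun h' => h (Subtype.ext h')
      simp [h, this, Ne.symm h]
  set v : (J → R) →ₗ[R] (J → R) := π ∘ₗ u ∘ₗ ι with hv
  have hdet : IsUnit (LinearMap.toMatrix (Pi.basisFun R J) (Pi.basisFun R J) v).det := by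
    rw [← IsLocalRing.notMem_maximalIdeal, ← residue_eq_zero_iff, RingHom.map_det]
    have : (residue R).mapMatrix (LinearMap.toMatrix (Pi.basisFun R J) (Pi.basisFun R J) v) = 1 := by
      ext i j
      rw [RingHom.mapMatrix_apply, Matrix.map_apply, LinearMap.toMatrix_apply]
      simp only [Pi.basisFun_apply, Pi.basisFun_repr, hv, LinearMap.comp_apply, hι, hπ,
        Fintype.linearCombination_apply_single, one_smul, LinearMap.pi_apply,
        Module.Basis.coord_apply]
      have h1 := repr_mem_of_mem_smul b (hu (b j)) i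
      rw [map_sub, Finsupp.sub_apply, Module.Basis.repr_self, ← residue_eq_zero_iff, map_sub,
        sub_eq_zero] at h1
      rw [h1, Matrix.one_apply, Finsupp.single_apply]
      by_cases h : i = j
      · subst h; simp
      · have : (j : I) ≠ i := fun h' => h (Subtype.ext h'.symm)
        simp [h, this]
    rw [this, Matrix.det_one]
    exact one_ne_zero
  set e := LinearEquiv.ofIsUnitDet hdet with he
  have hvinj : Function.Injective (v.rTensor Q) := by
    have : v.rTensor Q = (LinearEquiv.rTensor Q e : _ →ₗ[R] _) := by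
      rw [LinearEquiv.coe_rTensor, he, LinearEquiv.coe_ofIsUnitDet]
    rw [this]
    exact (LinearEquiv.rTensor Q e).injective
  have h1 : (v.rTensor Q) (π.rTensor Q w) = 0 := by
    rw [hv, ← LinearMap.comp_apply, ← LinearMap.rTensor_comp]
    have : (π ∘ₗ u ∘ₗ ι) ∘ₗ π = π ∘ₗ u ∘ₗ (rho b J) := by
      rw [LinearMap.comp_assoc, LinearMap.comp_assoc, hιπ]
    rw [this, LinearMap.rTensor_comp, LinearMap.rTensor_comp, LinearMap.comp_apply,
      LinearMap.comp_apply, hJ, hw, map_zero]
  have h2 : π.rTensor Q w = 0 := hvinj (by rw [h1, map_zero])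
  rw [← hJ, ← hιπ, LinearMap.rTensor_comp, LinearMap.comp_apply, h2, map_zero]

end Groth.Agent.Lib.Helper12.UnivInj1
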