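import Mathlib
import Groth.Agent.Lib.Helper12.UnivInj1
import Groth.Agent.Lib.Helper12.KaplanskyLocal

namespace Groth.Agent.Lib.Helper12.UnivInj2

open IsLocalRing TensorProduct

variable {R S : Type*} [CommRing R] [IsLocalRing R] [CommRing S] [Algebra R S]
  (N : Type*) [AddCommGroup N] [Module S N] [Module R N] [IsScalarTower R S N]

omit [IsLocalRing R] in
lemma smul_mem_of_mem_map {I : Ideal R} {g : S} (hg : g ∈ I.map (algebraMap R S)) (x : N) :
    g • x ∈ I • (⊤ : Submodule R N) := by
  revert x
  refine Submodule.span_induction (p := fun g _ => ∀ x : N, g • x ∈ I • (⊤ : Submodule R N))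
    ?_ ?_ ?_ ?_ hg
  · rintro _ ⟨r, hr, rfl⟩ x
    rw [algebraMap_smul]
    exact Submodule.smul_mem_smul hr Submodule.mem_top
  · intro x; simp
  · intro a c _ _ ha hc x
    rw [add_smul]; exact Submodule.add_mem _ (ha x) (hc x)
  · intro s a _ ha x
    rw [smul_eq_mul, mul_comm, mul_smul]; exact ha (s • x)

/-- For `N` projective over the local ring `R` and `g ∈ 𝔪 S`, multiplication by `1 - g`
is injective on `N ⊗ Q` for every `R`-module `Q`. -/
theorem one_sub_smul_injective [Module.Projective R N] {g : S}
    (hg : g ∈ (maximalIdeal R).map (algebraMap R S))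
    (Q : Type*) [AddCommGroup Q] [Module R Q] (z : N ⊗[R] Q) (hz : (1 - g) • z = 0) : z = 0 := by
  haveI : Module.Free R N := Groth.Agent.Lib.Helper12.Kap.free_of_projective_of_isLocalRing N
  let b := Module.Free.chooseBasis R N
  let u : N →ₗ[R] N :=
    { toFun := fun x => (1 - g) • x
      map_add' := fun x y => smul_add _ _ _
      map_smul' := fun r x => by simp only [RingHom.id_apply]; rw [smul_comm] }
  have hu : ∀ x, u x - x ∈ (maximalIdeal R) • (⊤ : Submodule R N) := by
    intro x
    have : u x - x = -(g • x) := by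
      change (1 - g) • x - x = _
      rw [sub_smul, one_smul]; abel
    rw [this]
    exact Submodule.neg_mem _ (smul_mem_of_mem_map N hg x)
  have hinj := UnivInj1.rTensor_injective_of_sub_id_mem b u hu Q
  have hact : ∀ w : N ⊗[R] Q, u.rTensor Q w = (1 - g) • w := by
    intro w
    induction w using TensorProduct.induction_on with
    | zero => simp
    | tmul n q => rw [LinearMap.rTensor_tmul, TensorProduct.smul_tmul']; rfl
    | add w₁ w₂ h₁ h₂ => rw [map_add, smul_add, h₁, h₂]
  apply hinj
  rw [hact, hz, map_zero]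

end Groth.Agent.Lib.Helper12.UnivInj2
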