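import Mathlib
import Groth.Prelude.Def_FlatCA
import Groth.Agent.Lib.Helper26.FiberAss
import Groth.Agent.S1199

set_option autoImplicit false
universe u
open TensorProduct
open Groth.Agent.Lib.Helper26.FiberAss

namespace H12UnivInjAss

attribute [local instance] Algebra.TensorProduct.rightAlgebra

section
variable {R S : Type u} [CommRing R] [CommRing S] [Algebra R S] (p : Ideal R) [p.IsPrime]

/-- every ideal of the fibre ring is the extension of its contraction to `S`. -/
theorem map_comap_includeRight (Q : Ideal (p.Fiber S)) :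
    (Q.comap (Algebra.TensorProduct.includeRight (R := R) (A := p.ResidueField)
      (B := S)).toRingHom).map (Algebra.TensorProduct.includeRight (R := R) (A := p.ResidueField)
      (B := S)).toRingHom = Q := by
  apply le_antisymm
  · exact Ideal.map_comap_le
  · intro f hf
    obtain ⟨r, hr, s, hs⟩ := Ideal.Fiber.exists_smul_eq_one_tmul p f
    rw [smul_eq_includeRight_mul] at hs
    have hu := isUnit_includeRight_algebraMap (S := S) p hr
    have h1 : ((1 : p.ResidueField) ⊗ₜ[R] s : p.Fiber S) ∈ Q := by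
      rw [← hs]
      exact Q.mul_mem_left _ hf
    have h2 : ((1 : p.ResidueField) ⊗ₜ[R] s : p.Fiber S) ∈
        (Q.comap (Algebra.TensorProduct.includeRight (R := R) (A := p.ResidueField)
          (B := S)).toRingHom).map (Algebra.TensorProduct.includeRight (R := R)
          (A := p.ResidueField) (B := S)).toRingHom :=
      Ideal.mem_map_of_mem _ (show s ∈ Q.comap _ from h1)
    obtain ⟨u, hu'⟩ := hu
    have h3 : f = (↑u⁻¹ : p.Fiber S) * ((1 : p.ResidueField) ⊗ₜ[R] s) := by
      rw [← hs, ← hu', ← mul_assoc, Units.inv_mul, one_mul]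
    rw [h3]
    exact Ideal.mul_mem_left _ _ h2

end

end H12UnivInjAss

namespace H12UnivInjAss

attribute [local instance] Algebra.TensorProduct.rightAlgebra

theorem main {R S : Type u} [CommRing R] [CommRing S] [Algebra R S] [IsNoetherianRing R] [IsNoetherianRing S] (I : Ideal R)
    (N : Type u) [AddCommGroup N] [Module S N] [Module R N] [IsScalarTower R S N] [Module.Finite S N] [Module.Flat R N]
    (h : ∀ (p : Ideal R) (q : Ideal S) [p.IsPrime] [q.IsPrime] [q.LiesOver p],
      FlatCA.fiberIdeal p q ∈ associatedPrimes (p.Fiber S) (FlatCA.fiberMod p S N) → I.map (algebraMap R S) ⊔ q ≠ ⊤) :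
    FlatCA.UnivInj R (AdicCompletion.of I N) := by
  apply Groth.Agent.S1199.result (S := S) I N
  intro Q _ _ hQ q hq
  have hq' : q ∈ FlatCA.ass S (N ⊗[R] Q) := by
    obtain ⟨hqp, x, hx⟩ := isAssociatedPrime_iff.1 hq
    refine ⟨hqp, x, ?_⟩
    rw [hx]
    ext r
    rw [Submodule.mem_annihilator_span_singleton, Submodule.mem_colon_singleton, Submodule.mem_bot]
  haveI : q.IsPrime := hq'.1
  obtain ⟨p, hp⟩ : ∃ p, p = q.comap (algebraMap R S) := ⟨_, rfl⟩
  haveI : p.IsPrime := hp ▸ inferInstance
  have h1 := mem_ass_quotient_of_mem_ass_tensor N Q p q hp.symm hq'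
  have h2 := mem_ass_fiberMod_of_mem_ass_quotient p N q hp.symm h1
  obtain ⟨Q', hQ', hQq⟩ := (mem_ass_fiberMod_iff p N q hp.symm).1 h2
  haveI : q.LiesOver p := ⟨hp⟩
  apply h p q
  have h3 : FlatCA.fiberIdeal p q = Q' := by
    rw [FlatCA.fiberIdeal, ← hQq, map_comap_includeRight]
  rw [h3]
  obtain ⟨hQ'p, m, hm⟩ := hQ'
  refine ⟨hQ'p, m, ?_⟩
  have h4 : Submodule.colon (⊥ : Submodule (p.Fiber S) (FlatCA.fiberMod p S N)) {m} = Q' := by
    rw [hm]
    ext r
    rw [Submodule.mem_annihilator_span_singleton, Submodule.mem_colon_singleton, Submodule.mem_bot]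
  rw [h4, hQ'p.radical]

end H12UnivInjAss
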