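import Mathlib
import Groth.Agent.Lib.Helper12.UnivInj

set_option autoImplicit false
universe u

open AlgebraicGeometry CategoryTheory Limits

namespace Groth.Agent.Lib.Helper12.H12UnivInj

open Scheme.Pullback in
theorem main {X Y : Scheme.{u}} (f : X ⟶ Y) [Flat f] [IsSeparated f]
    (h2 : ∀ ξ : X, closure ({ξ} : Set X) ∈ irreducibleComponents (X : Type u) →
      Function.Surjective (f.residueFieldMap ξ).hom)
    (h3 : Set.InjOn f.base {ξ : X | closure ({ξ} : Set X) ∈ irreducibleComponents (X : Type u)}) :
    UniversallyInjective f := by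
  rw [UniversallyInjective.iff_diagonal]
  refine ⟨fun z => ?_⟩
  obtain ⟨ζ, hζ, hsp⟩ := exists_generic_specializes z
  have hcl : IsClosed (Set.range (pullback.diagonal f)) :=
    (pullback.diagonal f).isClosedEmbedding.isClosed_range
  suffices hζr : ζ ∈ Set.range (pullback.diagonal f) from hsp.mem_closed hcl hζr
  have hf1 : closure ({pullback.fst f f ζ} : Set X) ∈ irreducibleComponents (X : Type u) :=
    closure_image_mem_irreducibleComponents (Flat.generalizingMap (pullback.fst f f)) hζ
  have hf2 : closure ({pullback.snd f f ζ} : Set X) ∈ irreducibleComponents (X : Type u) :=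
    closure_image_mem_irreducibleComponents (Flat.generalizingMap (pullback.snd f f)) hζ
  have hcond : f (pullback.fst f f ζ) = f (pullback.snd f f ζ) := by
    rw [← Scheme.Hom.comp_apply, ← Scheme.Hom.comp_apply, pullback.condition]
  have heq : pullback.fst f f ζ = pullback.snd f f ζ := h3 hf1 hf2 hcond
  refine ⟨pullback.fst f f ζ, ?_⟩
  haveI : Subsingleton (Spec (Triplet.ofPoint ζ).tensor) := by
    apply subsingleton_spec_tensor
    have := h2 _ hf1
    rw [CommRingCat.hom_comp, RingHom.coe_comp]
    refine Function.Surjective.comp this ?_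
    exact (ConcreteCategory.bijective_of_isIso
      (Y.residueFieldCongr (Triplet.ofPoint ζ).hx).inv).2
  apply eq_of_fst_eq_of_snd_eq
  · rw [← Scheme.Hom.comp_apply, pullback.diagonal_fst]
    rfl
  · rw [← Scheme.Hom.comp_apply, pullback.diagonal_snd]
    exact heq

end Groth.Agent.Lib.Helper12.H12UnivInj
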