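import Mathlib
import Groth.Prelude.Def_EtAlgD

/-!
# Weakly étale algebras over a field (helper12)

For a field `K` and a `K`-algebra `B`: `B` is weakly étale over `K` iff every element of `B`
is a root of a separable polynomial over `K`.
-/

set_option autoImplicit false

namespace Groth.Agent.Lib.Helper12.WEtField

open TensorProduct Polynomial

section Pure

variable {R : Type*} [CommRing R]

/-- `Kills J x`: some `σ ≡ 1 mod J` annihilates `x`. -/
def Kills (J : Ideal R) (x : R) : Prop := ∃ σ : R, 1 - σ ∈ J ∧ x * σ = 0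

theorem Kills.zero (J : Ideal R) : Kills J 0 := ⟨1, by simp, by simp⟩

theorem Kills.add {J : Ideal R} {x y : R} (hx : Kills J x) (hy : Kills J y) :
    Kills J (x + y) := by
  obtain ⟨σ, hσ, h1⟩ := hx
  obtain ⟨τ, hτ, h2⟩ := hy
  refine ⟨σ * τ, ?_, ?_⟩
  · have : 1 - σ * τ = (1 - σ) + σ * (1 - τ) := by ring
    rw [this]; exact J.add_mem hσ (J.mul_mem_left _ hτ)
  · linear_combination τ * h1 + σ * h2

theorem Kills.mul_left {J : Ideal R} {x : R} (z : R) (hx : Kills J x) : Kills J (z * x) := by
  obtain ⟨σ, hσ, h1⟩ := hx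
  exact ⟨σ, hσ, by linear_combination z * h1⟩

theorem Kills.mul_right {J : Ideal R} {x : R} (z : R) (hx : Kills J x) : Kills J (x * z) := by
  rw [mul_comm]; exact hx.mul_left z

theorem Kills.neg {J : Ideal R} {x : R} (hx : Kills J x) : Kills J (-x) := by
  have := hx.mul_left (-1); simpa using this

theorem Kills.sub {J : Ideal R} {x y : R} (hx : Kills J x) (hy : Kills J y) :
    Kills J (x - y) := by
  rw [sub_eq_add_neg]; exact hx.add hy.neg

theorem kills_of_mem_span {J : Ideal R} {s : Set R} (hs : ∀ x ∈ s, Kills J x) {x : R}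
    (hx : x ∈ Ideal.span s) : Kills J x := by
  induction hx using Submodule.span_induction with
  | mem x h => exact hs x h
  | zero => exact Kills.zero J
  | add x y _ _ hx hy => exact hx.add hy
  | smul a x _ hx => exact hx.mul_left a

theorem pure_of_kills (J : Ideal R) (h : ∀ x ∈ J, Kills J x) : J.Pure := by
  refine Ideal.Pure.of_inf_eq_mul J (fun I _ => le_antisymm ?_ Ideal.mul_le_inf)
  rintro x ⟨hxJ, hxI⟩
  obtain ⟨σ, hσ, h1⟩ := h x hxJ
  have : x = (1 - σ) * x := by linear_combination h1
  rw [this]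
  exact Ideal.mul_mem_mul hσ hxI

theorem kills_of_pure (J : Ideal R) [J.Pure] {x : R} (hx : x ∈ J) : Kills J x := by
  obtain ⟨y, hy, h⟩ := Ideal.exists_eq_mul_of_pure hx
  exact ⟨1 - y, by simpa using hy, by linear_combination h⟩

theorem flat_iff_pure_ker {S : Type*} [CommRing S] (f : R →+* S)
    (hs : Function.Surjective f) : f.Flat ↔ (RingHom.ker f).Pure := by
  algebraize [f]
  have e : (R ⧸ RingHom.ker (algebraMap R S)) ≃ₐ[R] S :=
    Ideal.quotientKerAlgEquivOfSurjective (f := Algebra.ofId R S) hs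
  rw [RingHom.Flat, Ideal.Pure]
  exact (Module.Flat.equiv_iff e.toLinearEquiv).symm

end Pure

section WE

variable (K : Type*) [Field K] (B : Type*) [CommRing B] [Algebra K B]

/-- kernel of the multiplication map `B ⊗ B → B`. -/
def J : Ideal (B ⊗[K] B) := RingHom.ker (Algebra.TensorProduct.lmul' K (S := B)).toRingHom

variable {K B}

theorem mem_J {x : B ⊗[K] B} : x ∈ J K B ↔ Algebra.TensorProduct.lmul' K x = 0 := Iff.rfl

variable (K B)

theorem lmul'_surjective :
    Function.Surjective (Algebra.TensorProduct.lmul' K (S := B)).toRingHom :=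
  fun x => ⟨x ⊗ₜ 1, by simp⟩

theorem weaklyEtale_iff_kills :
    Algebra.WeaklyEtale K B ↔ ∀ x ∈ J K B, Kills (J K B) x := by
  rw [Algebra.weaklyEtale_iff]
  have h1 : Module.Flat K B := inferInstance
  rw [flat_iff_pure_ker _ (lmul'_surjective K B)]
  constructor
  · rintro ⟨_, h⟩ x hx
    exact @kills_of_pure _ _ _ h x hx
  · intro h
    exact ⟨h1, pure_of_kills _ h⟩

variable {K B}

theorem exists_sigma [Algebra.WeaklyEtale K B] (b : B) :
    ∃ σ : B ⊗[K] B, Algebra.TensorProduct.lmul' K σ = 1 ∧
      (b ⊗ₜ[K] (1 : B)) * σ = ((1 : B) ⊗ₜ[K] b) * σ := by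
  have hb : (b ⊗ₜ[K] (1 : B)) - ((1 : B) ⊗ₜ[K] b) ∈ J K B := by
    rw [mem_J]; simp
  obtain ⟨σ, h1, h2⟩ := (weaklyEtale_iff_kills K B).1 inferInstance _ hb
  refine ⟨σ, ?_, ?_⟩
  · rw [mem_J, map_sub, map_one, sub_eq_zero] at h1
    exact h1.symm
  · rw [sub_mul, sub_eq_zero] at h2
    exact h2

theorem isIntegral_of_sigma (b : B) (σ : B ⊗[K] B)
    (h1 : Algebra.TensorProduct.lmul' K σ = 1)
    (h2 : (b ⊗ₜ[K] (1 : B)) * σ = ((1 : B) ⊗ₜ[K] b) * σ) : IsIntegral K b := by
  classical
  let e := Module.Basis.ofVectorSpace K B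
  let E := Algebra.TensorProduct.basis B e
  set c := E.repr σ with hc
  have hσ : σ = ∑ i ∈ c.support, c i • E i := by
    conv_lhs => rw [← E.linearCombination_repr σ]
    rw [Finsupp.linearCombination_apply, Finsupp.sum]
  have key : ∀ j, b * c j = ∑ i ∈ c.support, algebraMap K B (e.repr (b * e i) j) * c i := by
    intro j
    have h3 : E.repr ((b ⊗ₜ[K] (1:B)) * σ) = b • c := by
      rw [show (b ⊗ₜ[K] (1:B)) * σ = b • σ from ?_, map_smul]
      rw [Algebra.smul_def]; rfl
    have h4 : E.repr (((1:B) ⊗ₜ[K] b) * σ) = ∑ i ∈ c.support,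
        c i • Finsupp.mapRange (algebraMap K B) (map_zero _) (e.repr (b * e i)) := by
      conv_lhs => rw [hσ]
      rw [Finset.mul_sum, map_sum]
      refine Finset.sum_congr rfl fun i _ => ?_
      rw [mul_smul_comm, map_smul, Algebra.TensorProduct.basis_apply,
        Algebra.TensorProduct.tmul_mul_tmul, one_mul, Algebra.TensorProduct.basis_repr_tmul,
        one_smul]
    have := congrArg (fun f => f j) (h3.symm.trans ((congrArg E.repr h2).trans h4))
    simpa [Finsupp.finset_sum_apply, mul_comm] using this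
  -- the finite-dimensional subspace `M` spanned by the `c j * e i`
  let M : Submodule K B := Submodule.span K
    (Set.range fun p : c.support × c.support => c p.1 * e p.2)
  have hMfg : M.FG := Submodule.fg_span (Set.finite_range _)
  have hone : (1 : B) ∈ M := by
    have : (1 : B) = ∑ i ∈ c.support, c i * e i := by
      rw [← h1, hσ, map_sum]
      refine Finset.sum_congr rfl fun i _ => ?_
      rw [Algebra.TensorProduct.basis_repr_symm_apply', Algebra.TensorProduct.lmul'_apply_tmul]
    rw [this]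
    refine Submodule.sum_mem _ fun i hi => Submodule.subset_span ⟨(⟨i, hi⟩, ⟨i, hi⟩), rfl⟩
  have hstab : ∀ m ∈ M, b * m ∈ M := by
    intro m hm
    induction hm using Submodule.span_induction with
    | mem x hx =>
      obtain ⟨⟨⟨j, hj⟩, ⟨i, hi⟩⟩, rfl⟩ := hx
      show b * (c j * e i) ∈ M
      rw [← mul_assoc, key j, Finset.sum_mul]
      refine Submodule.sum_mem _ fun k hk => ?_
      rw [mul_assoc, ← Algebra.smul_def]
      exact Submodule.smul_mem _ _ (Submodule.subset_span ⟨(⟨k, hk⟩, ⟨i, hi⟩), rfl⟩)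
    | zero => simp
    | add x y _ _ hx hy => rw [mul_add]; exact Submodule.add_mem _ hx hy
    | smul a x _ hx => rw [mul_smul_comm]; exact Submodule.smul_mem _ _ hx
  have hpow : ∀ n : ℕ, b ^ n ∈ M := by
    intro n
    induction n with
    | zero => simpa using hone
    | succ n ih => rw [pow_succ']; exact hstab _ ih
  have hle : Subalgebra.toSubmodule (Algebra.adjoin K {b}) ≤ M := by
    intro x hx
    rw [Subalgebra.mem_toSubmodule, Algebra.adjoin_singleton_eq_range_aeval] at hx
    obtain ⟨p, rfl⟩ := hx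
    rw [AlgHom.toRingHom_eq_coe, RingHom.coe_coe, aeval_eq_sum_range]
    exact Submodule.sum_mem _ fun i _ => Submodule.smul_mem _ _ (hpow i)
  have hN : IsNoetherian K M := isNoetherian_of_fg_of_noetherian M hMfg
  have hfg : (Subalgebra.toSubmodule (Algebra.adjoin K {b})).FG :=
    isNoetherian_submodule.1 hN _ hle
  exact IsIntegral.of_mem_of_fg _ hfg b (Algebra.subset_adjoin rfl)

theorem eq_zero_of_sq_of_sigma (c : B) (hc : c * c = 0) (σ : B ⊗[K] B)
    (h1 : Algebra.TensorProduct.lmul' K σ = 1)
    (h2 : (c ⊗ₜ[K] (1 : B)) * σ = ((1 : B) ⊗ₜ[K] c) * σ) : c = 0 := by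
  let N : Submodule K B := (Ideal.span {c}).restrictScalars K
  let f : B →ₗ[K] B := LinearMap.mulLeft K c
  let A0 : Submodule K B := LinearMap.ker f
  have claim1 : ∀ z : B ⊗[K] B,
      ((1:B) ⊗ₜ[K] c) * z ∈ LinearMap.range (N.subtype.lTensor B) := by
    intro z
    induction z using TensorProduct.induction_on with
    | zero => simp
    | tmul x y =>
      rw [Algebra.TensorProduct.tmul_mul_tmul, one_mul]
      exact ⟨x ⊗ₜ ⟨c * y, Ideal.mul_mem_right _ _ (Ideal.subset_span rfl)⟩, by simp [N]⟩
    | add x y hx hy => rw [mul_add]; exact Submodule.add_mem _ hx hy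
  have hf : ∀ z : B ⊗[K] B, f.rTensor B z = (c ⊗ₜ[K] (1:B)) * z := by
    intro z
    induction z using TensorProduct.induction_on with
    | zero => simp
    | tmul x y => simp [f]
    | add x y hx hy => rw [map_add, mul_add, hx, hy]
  obtain ⟨ω', hω'⟩ := claim1 σ
  have hinj : Function.Injective (N.subtype.lTensor B) :=
    Module.Flat.lTensor_preserves_injective_linearMap N.subtype N.injective_subtype
  have h3 : (f.rTensor N) ω' = 0 := by
    apply hinj
    rw [map_zero, ← LinearMap.comp_apply, LinearMap.lTensor_comp_rTensor,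
      ← LinearMap.rTensor_comp_lTensor, LinearMap.comp_apply, hω', hf, ← h2, ← mul_assoc,
      Algebra.TensorProduct.tmul_mul_tmul, hc, one_mul, TensorProduct.zero_tmul, zero_mul]
  have hex : Function.Exact (A0.subtype.rTensor N) (f.rTensor N) :=
    Module.Flat.rTensor_exact N (LinearMap.exact_subtype_ker_map f)
  obtain ⟨ω'', hω''⟩ := (hex ω').1 h3
  have hg : (Algebra.TensorProduct.lmul' K (S := B)).toLinearMap ∘ₗ (N.subtype.lTensor B) ∘ₗ
      (A0.subtype.rTensor N) = 0 := by
    refine TensorProduct.ext' fun a n => ?_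
    obtain ⟨a, ha⟩ := a
    obtain ⟨n, hn⟩ := n
    obtain ⟨r, rfl⟩ := Ideal.mem_span_singleton'.1 hn
    have ha' : c * a = 0 := ha
    simp only [LinearMap.comp_apply, LinearMap.rTensor_tmul, LinearMap.lTensor_tmul,
      Submodule.subtype_apply, AlgHom.toLinearMap_apply, Algebra.TensorProduct.lmul'_apply_tmul,
      LinearMap.zero_apply]
    linear_combination r * ha'
  have h5 : Algebra.TensorProduct.lmul' K (((1:B) ⊗ₜ[K] c) * σ) = 0 := by
    rw [← hω', ← hω'']
    exact LinearMap.congr_fun hg ω''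
  rw [map_mul, h1, Algebra.TensorProduct.lmul'_apply_tmul, one_mul, mul_one] at h5
  exact h5

theorem isReduced_of_weaklyEtale [Algebra.WeaklyEtale K B] : IsReduced B := by
  rw [isReduced_iff_pow_one_lt 2 (by norm_num)]
  intro c hc
  obtain ⟨σ, h1, h2⟩ := exists_sigma (K := K) c
  exact eq_zero_of_sq_of_sigma c (by rw [← sq]; exact hc) σ h1 h2

theorem isIntegral_of_weaklyEtale [Algebra.WeaklyEtale K B] (b : B) : IsIntegral K b := by
  obtain ⟨σ, h1, h2⟩ := exists_sigma (K := K) b
  exact isIntegral_of_sigma b σ h1 h2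

theorem isSeparable_of_weaklyEtale [Algebra.WeaklyEtale K B] (b : B) : IsSeparable K b := by
  classical
  let L := AlgebraicClosure K
  have hred : IsReduced (L ⊗[K] B) := isReduced_of_weaklyEtale (K := L)
  have hint : IsIntegral K b := isIntegral_of_weaklyEtale b
  rw [IsSeparable, ← Polynomial.separable_map (algebraMap K L),
    PerfectField.separable_iff_squarefree]
  intro Q hQ
  obtain ⟨R, hR⟩ := hQ
  by_contra hu
  have hmonic : ((minpoly K b).map (algebraMap K L)).Monic := (minpoly.monic hint).map _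
  have hP0 : (minpoly K b).map (algebraMap K L) ≠ 0 := hmonic.ne_zero
  have hQ0 : Q ≠ 0 := by
    rintro rfl
    rw [zero_mul, zero_mul] at hR
    exact hP0 hR
  have hR0 : R ≠ 0 := by
    rintro rfl
    rw [mul_zero] at hR
    exact hP0 hR
  have hdegQ : 0 < Q.natDegree := by
    rw [Polynomial.natDegree_pos_iff_degree_pos]
    exact Polynomial.degree_pos_of_ne_zero_of_nonunit hQ0 hu
  have hdeg : (minpoly K b).natDegree = Q.natDegree + Q.natDegree + R.natDegree := by
    rw [← Polynomial.natDegree_map (algebraMap K L), hR,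
      natDegree_mul (mul_ne_zero hQ0 hQ0) hR0, natDegree_mul hQ0 hQ0]
  set G := Q * R with hG
  have hGdeg : G.natDegree < (minpoly K b).natDegree := by
    rw [hG, natDegree_mul hQ0 hR0, hdeg]; omega
  let β : L ⊗[K] B := (1 : L) ⊗ₜ b
  have hβ : aeval β ((minpoly K b).map (algebraMap K L)) = 0 := by
    rw [aeval_map_algebraMap]
    have : β = (Algebra.TensorProduct.includeRight : B →ₐ[K] L ⊗[K] B) b := rfl
    rw [this, aeval_algHom_apply, minpoly.aeval, map_zero]
  have hGβ : aeval β G = 0 := by
    apply IsReduced.eq_zero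
    refine ⟨2, ?_⟩
    rw [← map_pow, sq, hG, show Q * R * (Q * R) = Q * Q * R * R by ring, ← hR, map_mul, hβ,
      zero_mul]
  have hli : LinearIndependent L
      (fun i : Fin (minpoly K b).natDegree => (1 : L) ⊗ₜ[K] (b ^ (i : ℕ))) :=
    Module.Flat.linearIndependent_one_tmul (linearIndependent_pow b)
  rw [aeval_eq_sum_range' hGdeg, ← Fin.sum_univ_eq_sum_range (fun i => G.coeff i • β ^ i)] at hGβ
  have hcoef : ∀ i : Fin (minpoly K b).natDegree, G.coeff i = 0 := by
    refine Fintype.linearIndependent_iff.1 hli (fun i => G.coeff i) ?_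
    rw [← hGβ]
    refine Finset.sum_congr rfl fun i _ => ?_
    simp [β, Algebra.TensorProduct.tmul_pow]
  have : G = 0 := by
    ext i
    by_cases hi : i < (minpoly K b).natDegree
    · exact hcoef ⟨i, hi⟩
    · exact coeff_eq_zero_of_natDegree_lt (lt_of_lt_of_le hGdeg (not_lt.1 hi))
  exact mul_ne_zero hQ0 hR0 this

/-- `b` is a root of a separable polynomial over `K`. -/
def IsSepElt (K : Type*) [Field K] {B : Type*} [CommRing B] [Algebra K B] (b : B) : Prop :=
  ∃ P : K[X], P.Separable ∧ aeval b P = 0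

theorem isSepElt_iff_isSeparable {b : B} : IsSepElt K b ↔ IsSeparable K b := by
  constructor
  · rintro ⟨P, hP, h0⟩
    exact hP.of_dvd (minpoly.dvd K b h0)
  · intro h
    exact ⟨minpoly K b, h, minpoly.aeval K b⟩

theorem IsSepElt.map {C : Type*} [CommRing C] [Algebra K C] (f : B →ₐ[K] C) {b : B}
    (h : IsSepElt K b) : IsSepElt K (f b) := by
  obtain ⟨P, hP, h0⟩ := h
  exact ⟨P, hP, by rw [aeval_algHom_apply, h0, map_zero]⟩

theorem IsSepElt.of_map {C : Type*} [CommRing C] [Algebra K C] (f : B →ₐ[K] C)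
    (hf : Function.Injective f) {b : B} (h : IsSepElt K (f b)) : IsSepElt K b := by
  obtain ⟨P, hP, h0⟩ := h
  refine ⟨P, hP, hf ?_⟩
  rw [← aeval_algHom_apply, h0, map_zero]

theorem kills_delta_of_isSepElt {b : B} (h : IsSepElt K b) :
    Kills (J K B) (b ⊗ₜ[K] (1 : B) - (1 : B) ⊗ₜ[K] b) := by
  obtain ⟨P, hsep, hP⟩ := h
  set u : B ⊗[K] B := b ⊗ₜ[K] (1 : B) with hu
  set v : B ⊗[K] B := (1 : B) ⊗ₜ[K] b with hv
  have hPu : aeval u P = 0 := by
    have : u = (Algebra.TensorProduct.includeLeft : B →ₐ[K] B ⊗[K] B) b := rfl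
    rw [this, aeval_algHom_apply, hP, map_zero]
  have hPv : aeval v P = 0 := by
    have : v = (Algebra.TensorProduct.includeRight : B →ₐ[K] B ⊗[K] B) b := rfl
    rw [this, aeval_algHom_apply, hP, map_zero]
  obtain ⟨k, hk⟩ := Polynomial.binomExpansion (P.map (algebraMap K (B ⊗[K] B))) v (u - v)
  rw [add_sub_cancel, eval_map_algebraMap, eval_map_algebraMap, hPu, hPv, zero_add,
    derivative_map, eval_map_algebraMap] at hk
  obtain ⟨a, c, hac⟩ := hsep
  have hC : aeval v c * aeval v (derivative P) = 1 := by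
    have := congrArg (aeval v) hac
    rw [map_add, map_mul, map_mul, hPv, mul_zero, zero_add, map_one] at this
    exact this
  have huv : u - v ∈ J K B := by
    rw [mem_J]; simp [hu, hv]
  refine ⟨aeval v c * (aeval v (derivative P) + k * (u - v)), ?_, ?_⟩
  · have : 1 - aeval v c * (aeval v (derivative P) + k * (u - v)) =
        (-(aeval v c * k)) * (u - v) := by
      linear_combination (-1 : B ⊗[K] B) * hC
    rw [this]
    exact Ideal.mul_mem_left _ _ huv
  · linear_combination (-(aeval v c)) * hk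

theorem weaklyEtale_of_adjoin_eq_top (s : Set B) (hs : Algebra.adjoin K s = ⊤)
    (h : ∀ b ∈ s, IsSepElt K b) : Algebra.WeaklyEtale K B := by
  rw [weaklyEtale_iff_kills]
  let D : Subalgebra K B :=
    { carrier := {t | Kills (J K B) (t ⊗ₜ[K] (1 : B) - (1 : B) ⊗ₜ[K] t)}
      mul_mem' := by
        intro x y hx hy
        have : (x * y) ⊗ₜ[K] (1 : B) - (1 : B) ⊗ₜ[K] (x * y) =
            (x ⊗ₜ[K] (1 : B)) * (y ⊗ₜ[K] (1 : B) - (1 : B) ⊗ₜ[K] y) +
            (x ⊗ₜ[K] (1 : B) - (1 : B) ⊗ₜ[K] x) * ((1 : B) ⊗ₜ[K] y) := by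
          simp only [mul_sub, sub_mul, Algebra.TensorProduct.tmul_mul_tmul, mul_one, one_mul]
          abel
        show Kills _ _
        rw [this]
        exact (Kills.mul_left _ hy).add (Kills.mul_right _ hx)
      add_mem' := by
        intro x y hx hy
        show Kills _ _
        rw [TensorProduct.add_tmul, TensorProduct.tmul_add, add_sub_add_comm]
        exact Kills.add hx hy
      algebraMap_mem' := by
        intro r
        show Kills _ _
        rw [Algebra.algebraMap_eq_smul_one, TensorProduct.smul_tmul, sub_self]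
        exact Kills.zero _ }
  have hD : D = ⊤ := by
    rw [eq_top_iff, ← hs]
    exact Algebra.adjoin_le fun b hb => kills_delta_of_isSepElt (h b hb)
  have hall : ∀ t : B, Kills (J K B) (t ⊗ₜ[K] (1 : B) - (1 : B) ⊗ₜ[K] t) := by
    intro t
    have : t ∈ D := hD ▸ Algebra.mem_top
    exact this
  intro x hx
  have hx' : x ∈ KaehlerDifferential.ideal K B := hx
  rw [← KaehlerDifferential.span_range_eq_ideal] at hx'
  refine kills_of_mem_span ?_ hx'
  rintro _ ⟨t, rfl⟩
  have := (hall t).neg
  rwa [neg_sub] at this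

theorem weaklyEtale_iff_forall_isSepElt :
    Algebra.WeaklyEtale K B ↔ ∀ b : B, IsSepElt K b := by
  constructor
  · intro h b
    exact isSepElt_iff_isSeparable.2 (isSeparable_of_weaklyEtale b)
  · intro h
    exact weaklyEtale_of_adjoin_eq_top Set.univ (by simp) (fun b _ => h b)

theorem weaklyEtale_iff_isSeparable :
    Algebra.WeaklyEtale K B ↔ Algebra.IsSeparable K B := by
  rw [weaklyEtale_iff_forall_isSepElt, Algebra.isSeparable_def]
  exact forall_congr' fun b => isSepElt_iff_isSeparable

theorem weaklyEtale_of_injective {C : Type*} [CommRing C] [Algebra K C] (f : C →ₐ[K] B)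
    (hf : Function.Injective f) [Algebra.WeaklyEtale K B] : Algebra.WeaklyEtale K C := by
  have h := weaklyEtale_iff_forall_isSepElt.1 (inferInstance : Algebra.WeaklyEtale K B)
  exact weaklyEtale_iff_forall_isSepElt.2 fun c => IsSepElt.of_map f hf (h (f c))

theorem weaklyEtale_of_surjective {C : Type*} [CommRing C] [Algebra K C] (f : B →ₐ[K] C)
    (hf : Function.Surjective f) [Algebra.WeaklyEtale K B] : Algebra.WeaklyEtale K C := by
  have h := weaklyEtale_iff_forall_isSepElt.1 (inferInstance : Algebra.WeaklyEtale K B)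
  refine weaklyEtale_iff_forall_isSepElt.2 fun c => ?_
  obtain ⟨b, rfl⟩ := hf c
  exact (h b).map f

theorem weaklyEtale_subalgebra [Algebra.WeaklyEtale K B] (S : Subalgebra K B) :
    Algebra.WeaklyEtale K S :=
  weaklyEtale_of_injective S.val Subtype.val_injective

theorem weaklyEtale_quotient [Algebra.WeaklyEtale K B] (I : Ideal B) :
    Algebra.WeaklyEtale K (B ⧸ I) :=
  weaklyEtale_of_surjective (Ideal.Quotient.mkₐ K I) Ideal.Quotient.mk_surjective

theorem weaklyEtale_adjoin (s : Set B) (h : ∀ a ∈ s, IsSepElt K a) :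
    Algebra.WeaklyEtale K (Algebra.adjoin K s) :=
  weaklyEtale_of_adjoin_eq_top (((↑) : Algebra.adjoin K s → B) ⁻¹' s)
    Algebra.adjoin_adjoin_coe_preimage
    (fun b hb => IsSepElt.of_map (Algebra.adjoin K s).val Subtype.val_injective (h _ hb))

variable (K B) in
/-- the subalgebra of separable elements -/
def sepSubalgebra : Subalgebra K B := Algebra.adjoin K {a : B | IsSepElt K a}

instance : Algebra.WeaklyEtale K (sepSubalgebra K B) :=
  weaklyEtale_adjoin _ (fun _ h => h)

theorem mem_sepSubalgebra {a : B} : a ∈ sepSubalgebra K B ↔ IsSepElt K a := by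
  constructor
  · intro h
    have := weaklyEtale_iff_forall_isSepElt.1
      (inferInstance : Algebra.WeaklyEtale K (sepSubalgebra K B)) ⟨a, h⟩
    exact this.map (sepSubalgebra K B).val
  · intro h
    exact Algebra.subset_adjoin h

theorem le_sepSubalgebra (S : Subalgebra K B) [Algebra.WeaklyEtale K S] :
    S ≤ sepSubalgebra K B := by
  intro a ha
  rw [mem_sepSubalgebra]
  have := weaklyEtale_iff_forall_isSepElt.1 (inferInstance : Algebra.WeaklyEtale K S) ⟨a, ha⟩
  exact this.map S.val

/-- In a `K`-algebra with only trivial idempotents, nonzero separable elements are units. -/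
theorem exists_mul_eq_one_of_isSepElt (hid : ∀ e : B, IsIdempotentElem e → e = 0 ∨ e = 1)
    {b : B} (hb : IsSepElt K b) (hb0 : b ≠ 0) : ∃ c : B, b * c = 1 := by
  obtain ⟨P, hsep, hP⟩ := hb
  have hdiv : divX P * X + C (P.coeff 0) = P := divX_mul_X_add P
  by_cases h0 : P.coeff 0 = 0
  · rw [h0, map_zero, add_zero] at hdiv
    have hcop : IsCoprime (divX P) X := by
      rw [← hdiv] at hsep
      exact hsep.isCoprime
    obtain ⟨v, u, hvu⟩ := hcop
    have h1 : aeval b v * aeval b (divX P) + aeval b u * b = 1 := by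
      have := congrArg (aeval b) hvu
      simpa using this
    have h2 : aeval b (divX P) * b = 0 := by
      have := congrArg (aeval b) hdiv
      rw [hP] at this
      simpa using this
    have hidem : IsIdempotentElem (aeval b u * b) := by
      show aeval b u * b * (aeval b u * b) = aeval b u * b
      linear_combination (aeval b u * b) * h1 - (aeval b u * aeval b v) * h2
    rcases hid _ hidem with he | he
    · exfalso
      apply hb0
      rw [he, add_zero] at h1
      linear_combination (-b) * h1 + (aeval b v) * h2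
    · exact ⟨aeval b u, by rw [mul_comm]; exact he⟩
  · refine ⟨-(algebraMap K B (P.coeff 0)⁻¹) * aeval b (divX P), ?_⟩
    have h2 : aeval b (divX P) * b + algebraMap K B (P.coeff 0) = 0 := by
      have := congrArg (aeval b) hdiv
      rw [hP] at this
      simpa using this
    have h3 : algebraMap K B (P.coeff 0)⁻¹ * algebraMap K B (P.coeff 0) = 1 := by
      rw [← map_mul, inv_mul_cancel₀ h0, map_one]
    linear_combination (-(algebraMap K B (P.coeff 0)⁻¹)) * h2 + h3

end WE

section Max

universe u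

variable (K : Type u) [Field K] (A : Type u) [CommRing A] [Algebra K A]

theorem maxWeaklyEtale_eq : EtAlgD.maxWeaklyEtale K A = sepSubalgebra K A := by
  apply le_antisymm
  · refine sSup_le fun S hS => ?_
    have : Algebra.WeaklyEtale K S := hS
    exact le_sepSubalgebra S
  · exact le_sSup (show Algebra.WeaklyEtale K (sepSubalgebra K A) from inferInstance)

variable {K A}

theorem mem_maxWeaklyEtale {a : A} : a ∈ EtAlgD.maxWeaklyEtale K A ↔ IsSepElt K a := by
  rw [maxWeaklyEtale_eq, mem_sepSubalgebra]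

variable (K A)

theorem weaklyEtale_maxWeaklyEtale : Algebra.WeaklyEtale K (EtAlgD.maxWeaklyEtale K A) := by
  rw [maxWeaklyEtale_eq]
  infer_instance

end Max

end Groth.Agent.Lib.Helper12.WEtField
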