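import Mathlib
import Groth.Agent.Lib.Helper12.WEtField

/-!
# Flatness ascends along weakly étale maps (helper12)

`flat_of_flat_of_weaklyEtale`: if `V → C` is weakly étale and `N` is a `C`-module which is flat
over `V`, then `N` is flat over `C`.
`flat_ideal_of_weaklyEtale`: if all ideals of `V` are flat and `V → C` is weakly étale, all ideals
of `C` are flat.
-/

set_option autoImplicit false

namespace Groth.Agent.Lib.Helper12.WEtAscent

open TensorProduct
open Groth.Agent.Lib.Helper12.WEtField

section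

variable {V C N : Type*} [CommRing V] [CommRing C] [Algebra V C] [AddCommGroup N] [Module V N]
  [Module C N] [IsScalarTower V C N]

theorem exists_sigma_of_relation [Algebra.WeaklyEtale V C] {l : ℕ} (f : Fin l → C)
    (x : Fin l → N) (hfx : ∑ i, f i • x i = 0) :
    ∃ σ : C ⊗[V] C, Algebra.TensorProduct.lmul' V σ = 1 ∧
      (LinearMap.lTensor N (LinearMap.mulRight C σ))
        (∑ i, x i ⊗ₜ[C] ((1 : C) ⊗ₜ[V] f i)) = 0 := by
  let m' : C ⊗[V] C →ₗ[C] C := (Algebra.TensorProduct.lmul'' V).toLinearMap
  have hm' : ∀ z, m' z = Algebra.TensorProduct.lmul' V z := fun z => rfl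
  have hsurj : Function.Surjective m' := fun c => ⟨c ⊗ₜ 1, by simp [m', Algebra.TensorProduct.lmul'']⟩
  have hex : Function.Exact (LinearMap.ker m').subtype m' := LinearMap.exact_subtype_ker_map m'
  have hex2 := lTensor_exact N hex hsurj
  have hpure : (RingHom.ker (Algebra.TensorProduct.lmul' V (S := C)).toRingHom).Pure := by
    rw [← flat_iff_pure_ker _ (fun c => ⟨c ⊗ₜ 1, by simp⟩)]
    exact Algebra.WeaklyEtale.flat_lmul' V C
  have ht : LinearMap.lTensor N m' (∑ i, x i ⊗ₜ[C] ((1 : C) ⊗ₜ[V] f i)) = 0 := by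
    rw [map_sum]
    have : ∀ i, LinearMap.lTensor N m' (x i ⊗ₜ[C] ((1 : C) ⊗ₜ[V] f i)) =
        (f i • x i) ⊗ₜ[C] (1 : C) := by
      intro i
      rw [LinearMap.lTensor_tmul, hm', Algebra.TensorProduct.lmul'_apply_tmul, one_mul,
        TensorProduct.smul_tmul, smul_eq_mul, mul_one]
    simp_rw [this]
    rw [← TensorProduct.sum_tmul, hfx, TensorProduct.zero_tmul]
  obtain ⟨s, hs⟩ := (hex2 _).1 ht
  have key : ∀ s : N ⊗[C] (LinearMap.ker m'), ∃ σ : C ⊗[V] C,
      Algebra.TensorProduct.lmul' V σ = 1 ∧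
      (LinearMap.lTensor N (LinearMap.mulRight C σ))
        (LinearMap.lTensor N (LinearMap.ker m').subtype s) = 0 := by
    intro s
    induction s using TensorProduct.induction_on with
    | zero => exact ⟨1, map_one _, by simp⟩
    | tmul n j =>
      obtain ⟨j, hj⟩ := j
      have hj' : j ∈ RingHom.ker (Algebra.TensorProduct.lmul' V (S := C)).toRingHom := hj
      obtain ⟨σ, hσ1, hσ2⟩ := @kills_of_pure _ _ _ hpure j hj'
      refine ⟨σ, ?_, ?_⟩
      · have : Algebra.TensorProduct.lmul' V (1 - σ) = 0 := hσ1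
        rw [map_sub, map_one, sub_eq_zero] at this
        exact this.symm
      · rw [LinearMap.lTensor_tmul, LinearMap.lTensor_tmul, Submodule.subtype_apply,
          LinearMap.mulRight_apply, hσ2, TensorProduct.tmul_zero]
    | add s₁ s₂ h₁ h₂ =>
      obtain ⟨σ₁, h11, h12⟩ := h₁
      obtain ⟨σ₂, h21, h22⟩ := h₂
      refine ⟨σ₁ * σ₂, by rw [map_mul, h11, h21, mul_one], ?_⟩
      have e1 : LinearMap.mulRight C (σ₁ * σ₂) =
          (LinearMap.mulRight C σ₂) ∘ₗ (LinearMap.mulRight C σ₁) := by
        ext z; simp [mul_assoc]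
      have e2 : LinearMap.mulRight C (σ₁ * σ₂) =
          (LinearMap.mulRight C σ₁) ∘ₗ (LinearMap.mulRight C σ₂) := by
        ext z; simp [mul_assoc, mul_comm σ₁ σ₂]
      rw [map_add, map_add]
      conv_lhs => 
        congr
        · rw [e1, LinearMap.lTensor_comp, LinearMap.comp_apply, h12, map_zero]
        · rw [e2, LinearMap.lTensor_comp, LinearMap.comp_apply, h22, map_zero]
      rw [add_zero]
  obtain ⟨σ, hσ1, hσ2⟩ := key s
  exact ⟨σ, hσ1, by rw [← hs]; exact hσ2⟩

theorem flat_of_flat_of_weaklyEtale [Algebra.WeaklyEtale V C] [Module.Flat V N] :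
    Module.Flat C N := by
  classical
  refine Module.Flat.of_forall_isTrivialRelation ?_
  intro l f x hfx
  obtain ⟨σ, hσ1, hσ2⟩ := exists_sigma_of_relation (V := V) f x hfx
  obtain ⟨S', hS'⟩ := TensorProduct.exists_finset σ
  let Θ : N ⊗[C] (C ⊗[V] C) →ₗ[V] C ⊗[V] N :=
    (TensorProduct.comm V N C).toLinearMap ∘ₗ
      ((AlgebraTensorModule.cancelBaseChange V C C N C).toLinearMap.restrictScalars V)
  have hΘ : ∀ (n : N) (a b : C), Θ (n ⊗ₜ[C] (a ⊗ₜ[V] b)) = b ⊗ₜ[V] (a • n) := by
    intro n a b
    simp [Θ]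
  have hvan : ∑ q : Fin l × ↥S', (f q.1 * q.2.1.2) ⊗ₜ[V] (q.2.1.1 • x q.1) = 0 := by
    have h0 := congrArg Θ hσ2
    rw [map_zero, map_sum, map_sum] at h0
    rw [← h0, Fintype.sum_prod_type]
    refine Finset.sum_congr rfl fun i _ => ?_
    rw [LinearMap.lTensor_tmul, LinearMap.mulRight_apply, hS', Finset.mul_sum, TensorProduct.tmul_sum,
      map_sum, ← Finset.sum_coe_sort S']
    refine Finset.sum_congr rfl fun p _ => ?_
    rw [Algebra.TensorProduct.tmul_mul_tmul, one_mul, hΘ]
  have hinj : Function.Injective (LinearMap.rTensor N (Submodule.span V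
      (Set.range fun q : Fin l × ↥S' => f q.1 * q.2.1.2)).subtype) :=
    Module.Flat.rTensor_preserves_injective_linearMap _ (Submodule.injective_subtype _)
  obtain ⟨k, r, y, h1, h2⟩ :=
    TensorProduct.vanishesTrivially_of_sum_tmul_eq_zero_of_rTensor_injective V hinj hvan
  have hone : ∑ p : ↥S', p.1.1 * p.1.2 = (1 : C) := by
    rw [← hσ1, hS', map_sum, ← Finset.sum_coe_sort S']
    refine Finset.sum_congr rfl fun p _ => ?_
    rw [Algebra.TensorProduct.lmul'_apply_tmul]
  refine ⟨k, fun i j => ∑ p : ↥S', p.1.2 * algebraMap V C (r (i, p) j), y, ?_, ?_⟩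
  · intro i
    calc x i = (∑ p : ↥S', p.1.1 * p.1.2) • x i := by rw [hone, one_smul]
      _ = ∑ p : ↥S', p.1.2 • (p.1.1 • x i) := by
        rw [Finset.sum_smul]
        refine Finset.sum_congr rfl fun p _ => ?_
        rw [mul_comm, mul_smul]
      _ = ∑ p : ↥S', p.1.2 • ∑ j, r (i, p) j • y j := by
        refine Finset.sum_congr rfl fun p _ => ?_
        have := h1 (i, p)
        simp only at this
        rw [this]
      _ = ∑ j, (∑ p : ↥S', p.1.2 * algebraMap V C (r (i, p) j)) • y j := by
        simp_rw [Finset.smul_sum, Finset.sum_smul]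
        rw [Finset.sum_comm]
        refine Finset.sum_congr rfl fun j _ => Finset.sum_congr rfl fun p _ => ?_
        rw [mul_smul, algebraMap_smul]
  · intro j
    have := h2 j
    simp only at this
    rw [Fintype.sum_prod_type] at this
    rw [← this]
    refine Finset.sum_congr rfl fun i _ => ?_
    rw [Finset.mul_sum]
    refine Finset.sum_congr rfl fun p _ => ?_
    rw [Algebra.smul_def]
    ring

end

section Ideals

variable {V C : Type*} [CommRing V] [CommRing C] [Algebra V C]

/-- Over a ring all of whose ideals are flat, submodules of flat modules are flat. -/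
theorem flat_of_submodule (hA : ∀ I : Ideal V, Module.Flat V I)
    {M : Type*} [AddCommGroup M] [Module V M] [Module.Flat V M] (N : Submodule V M) :
    Module.Flat V N := by
  rw [Module.Flat.iff_lTensor_injective']
  intro I
  have h1 : Function.Injective (LinearMap.rTensor I N.subtype) :=
    Module.Flat.rTensor_preserves_injective_linearMap _ N.injective_subtype
  have h2 : Function.Injective (LinearMap.lTensor M I.subtype) :=
    Module.Flat.lTensor_preserves_injective_linearMap _ I.injective_subtype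
  have h3 : (LinearMap.rTensor V N.subtype) ∘ₗ (LinearMap.lTensor N I.subtype) =
      (LinearMap.lTensor M I.subtype) ∘ₗ (LinearMap.rTensor I N.subtype) := by
    rw [LinearMap.rTensor_comp_lTensor, LinearMap.lTensor_comp_rTensor]
  have h4 : Function.Injective ((LinearMap.rTensor V N.subtype) ∘ₗ
      (LinearMap.lTensor N I.subtype)) := by
    rw [h3]
    exact h2.comp h1
  exact Function.Injective.of_comp h4

theorem flat_ideal_of_weaklyEtale [Algebra.WeaklyEtale V C]
    (hV : ∀ I : Ideal V, Module.Flat V I) (I : Ideal C) : Module.Flat C I := by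
  have h1 : Module.Flat V (I.restrictScalars V) := flat_of_submodule hV (I.restrictScalars V)
  have h2 : Module.Flat V I := h1
  exact flat_of_flat_of_weaklyEtale (V := V) (C := C) (N := I)

end Ideals

end Groth.Agent.Lib.Helper12.WEtAscent
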