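import Mathlib

set_option autoImplicit false
universe u
open Polynomial IsLocalRing
open scoped Polynomial.Bivariate

namespace H12WReg

variable {R : Type u} [CommRing R] (W : WeierstrassCurve.Affine R)

/-- the class of `x` -/
noncomputable def xx : W.CoordinateRing := WeierstrassCurve.Affine.CoordinateRing.mk W (C X)
/-- the class of `y` -/
noncomputable def yy : W.CoordinateRing := WeierstrassCurve.Affine.CoordinateRing.mk W X

lemma algebraMap_eq (r : R) :
    algebraMap R W.CoordinateRing r = WeierstrassCurve.Affine.CoordinateRing.mk W (C (C r)) := rfl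

lemma a6_mem : algebraMap R W.CoordinateRing W.a₆ ∈ Ideal.span {xx W, yy W} := by
  have h : WeierstrassCurve.Affine.CoordinateRing.mk W W.polynomial = 0 := AdjoinRoot.mk_self
  simp only [WeierstrassCurve.Affine.polynomial] at h
  simp only [map_add, map_sub, map_mul, map_pow] at h
  have e : algebraMap R W.CoordinateRing W.a₆ =
      yy W * (yy W + algebraMap R W.CoordinateRing W.a₁ * xx W + algebraMap R W.CoordinateRing W.a₃)
        - xx W * (xx W ^ 2 + algebraMap R W.CoordinateRing W.a₂ * xx W
          + algebraMap R W.CoordinateRing W.a₄) := by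
    simp only [algebraMap_eq, xx, yy]
    linear_combination -h
  rw [e]
  refine Ideal.sub_mem _ (Ideal.mul_mem_right _ _ (Ideal.subset_span (by simp)))
    (Ideal.mul_mem_right _ _ (Ideal.subset_span (by simp)))

lemma exists_const (b : W.CoordinateRing) :
    ∃ r : R, b - algebraMap R W.CoordinateRing r ∈ Ideal.span {xx W, yy W} := by
  obtain ⟨p, rfl⟩ := AdjoinRoot.mk_surjective (g := W.polynomial) b
  refine ⟨(p.coeff 0).coeff 0, ?_⟩
  have h1 : p = p.divX * X + C (p.coeff 0) := (Polynomial.divX_mul_X_add p).symm
  have h2 : p.coeff 0 = (p.coeff 0).divX * X + C ((p.coeff 0).coeff 0) :=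
    (Polynomial.divX_mul_X_add (p.coeff 0)).symm
  have e : AdjoinRoot.mk W.polynomial p - algebraMap R W.CoordinateRing ((p.coeff 0).coeff 0) =
      AdjoinRoot.mk W.polynomial p.divX * yy W +
        AdjoinRoot.mk W.polynomial (C (p.coeff 0).divX) * xx W := by
    have h3 : AdjoinRoot.mk W.polynomial p = AdjoinRoot.mk W.polynomial
        (p.divX * X + C ((p.coeff 0).divX * X + C ((p.coeff 0).coeff 0))) := by
      rw [← h2, ← h1]
    rw [h3]
    simp only [algebraMap_eq, xx, yy, map_add, map_mul, WeierstrassCurve.Affine.CoordinateRing.mk]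
    ring
  rw [e]
  exact Ideal.add_mem _ (Ideal.mul_mem_left _ _ (Ideal.subset_span (by simp)))
    (Ideal.mul_mem_left _ _ (Ideal.subset_span (by simp)))

end H12WReg

namespace H12WReg
open Polynomial IsLocalRing
open scoped Polynomial.Bivariate

variable {R : Type u} [CommRing R] (W : WeierstrassCurve.Affine R)

lemma eqn : yy W * (yy W + algebraMap R W.CoordinateRing W.a₁ * xx W +
      algebraMap R W.CoordinateRing W.a₃) =
    algebraMap R W.CoordinateRing W.a₆ + xx W * (xx W ^ 2 + algebraMap R W.CoordinateRing W.a₂ * xx W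
          + algebraMap R W.CoordinateRing W.a₄) := by
  have h : WeierstrassCurve.Affine.CoordinateRing.mk W W.polynomial = 0 := AdjoinRoot.mk_self
  simp only [WeierstrassCurve.Affine.polynomial] at h
  simp only [map_add, map_sub, map_mul, map_pow] at h
  simp only [algebraMap_eq, xx, yy]
  linear_combination h

lemma algebraMap_X : algebraMap R[X] W.CoordinateRing X = xx W := rfl

lemma algebraMap_C (r : R) : algebraMap R[X] W.CoordinateRing (C r) = algebraMap R W.CoordinateRing r :=
  rfl

end H12WReg
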