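import Mathlib
import Groth.Agent.Lib.Helper12.WReg1

set_option autoImplicit false
universe u
open Polynomial IsLocalRing
open scoped Polynomial.Bivariate

namespace H12WReg

variable {R : Type u} [CommRing R] [IsDomain R] [IsDiscreteValuationRing R]
  (W : WeierstrassCurve.Affine R)

theorem P_eq (h6 : W.a₆ ∈ maximalIdeal R) (h6' : W.a₆ ∉ maximalIdeal R ^ 2)
    (P : Ideal W.CoordinateRing) [P.IsMaximal]
    (hx : xx W ∈ P) (hy : yy W ∈ P) : P = Ideal.span {xx W, yy W} := by
  obtain ⟨π, hπ⟩ := IsDiscreteValuationRing.exists_irreducible R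
  have hmπ : maximalIdeal R = Ideal.span {π} := hπ.maximalIdeal_eq
  have hu : ∃ u : R, IsUnit u ∧ W.a₆ = u * π := by
    rw [hmπ, Ideal.mem_span_singleton] at h6
    obtain ⟨u, hu⟩ := h6
    refine ⟨u, ?_, by rw [hu, mul_comm]⟩
    by_contra hnu
    have hmem : u ∈ maximalIdeal R := (mem_maximalIdeal u).2 hnu
    rw [hmπ, Ideal.mem_span_singleton] at hmem
    obtain ⟨t, rfl⟩ := hmem
    apply h6'
    rw [hmπ, Ideal.span_singleton_pow, Ideal.mem_span_singleton]
    exact ⟨t, by rw [hu]; ring⟩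
  obtain ⟨u, huu, hua⟩ := hu
  have hπJ : algebraMap R W.CoordinateRing π ∈ Ideal.span {xx W, yy W} := by
    have h := a6_mem W
    rw [hua, map_mul] at h
    obtain ⟨v, hv⟩ := huu.exists_left_inv
    have : algebraMap R W.CoordinateRing π = algebraMap R W.CoordinateRing v *
        (algebraMap R W.CoordinateRing u * algebraMap R W.CoordinateRing π) := by
      rw [← mul_assoc, ← map_mul, hv, map_one, one_mul]
    rw [this]
    exact Ideal.mul_mem_left _ _ h
  have hJP : Ideal.span {xx W, yy W} ≤ P := by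
    rw [Ideal.span_le]
    rintro _ (rfl | rfl)
    · exact hx
    · exact hy
  apply le_antisymm _ hJP
  intro b hb
  obtain ⟨r, hr⟩ := exists_const W b
  have hrP : algebraMap R W.CoordinateRing r ∈ P := by
    have := P.sub_mem hb (hJP hr)
    simpa using this
  have hrm : r ∈ maximalIdeal R := by
    by_contra hnm
    have : IsUnit r := by
      by_contra h
      exact hnm ((mem_maximalIdeal r).2 h)
    exact (Ideal.IsMaximal.ne_top ‹_›) (Ideal.eq_top_of_isUnit_mem _ hrP (this.map _))
  rw [hmπ, Ideal.mem_span_singleton] at hrm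
  obtain ⟨t, rfl⟩ := hrm
  have : b = (b - algebraMap R W.CoordinateRing (π * t)) +
      algebraMap R W.CoordinateRing π * algebraMap R W.CoordinateRing t := by
    rw [map_mul]
    ring
  rw [this]
  exact Ideal.add_mem _ hr (Ideal.mul_mem_right _ _ hπJ)

end H12WReg

namespace H12WReg
open Polynomial IsLocalRing
open scoped Polynomial.Bivariate

variable {R : Type u} [CommRing R] [IsDomain R] [IsDiscreteValuationRing R]
  (W : WeierstrassCurve.Affine R)

theorem two_le_height (h3 : W.a₃ ∈ maximalIdeal R) (h6 : W.a₆ ∈ maximalIdeal R)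
    (h6' : W.a₆ ∉ maximalIdeal R ^ 2)
    (P : Ideal W.CoordinateRing) [P.IsMaximal]
    (hP : ∀ r ∈ maximalIdeal R, algebraMap R W.CoordinateRing r ∈ P)
    (hx : xx W ∈ P) (hy : yy W ∈ P) : 2 ≤ P.height := by
  haveI : Module.Finite R[X] W.CoordinateRing := W.monic_polynomial.finite_adjoinRoot
  haveI : Algebra.IsIntegral R[X] W.CoordinateRing := Algebra.IsIntegral.of_finite _ _
  have hPJ := P_eq W h6 h6' P hx hy
  let p1 : Ideal R[X] := Ideal.map C (maximalIdeal R)
  haveI hp1 : p1.IsPrime := Ideal.isPrime_map_C_of_isPrime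
  let p0 : Ideal R[X] := P.comap (algebraMap R[X] W.CoordinateRing)
  have hp10 : p1 ≤ p0 := by
    rw [Ideal.map_le_iff_le_comap]
    intro r hr
    show algebraMap R[X] W.CoordinateRing (C r) ∈ P
    rw [algebraMap_C]
    exact hP r hr
  have hXp0 : (X : R[X]) ∈ p0 := by
    show algebraMap R[X] W.CoordinateRing X ∈ P
    rw [algebraMap_X]
    exact hx
  have hXp1 : (X : R[X]) ∉ p1 := by
    intro h
    rw [Ideal.mem_map_C_iff] at h
    have := h 1
    rw [coeff_X_one] at this
    exact (Ideal.IsPrime.ne_top inferInstance) ((Ideal.eq_top_iff_one _).2 this)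
  have hinj : Function.Injective (algebraMap R[X] W.CoordinateRing) :=
    FaithfulSMul.algebraMap_injective _ _
  obtain ⟨Q1, -, hQ1p, hQ1⟩ := Ideal.exists_ideal_over_prime_of_isIntegral p1
    (⊥ : Ideal W.CoordinateRing) (by
      rw [← RingHom.ker_eq_comap_bot, (RingHom.injective_iff_ker_eq_bot _).1 hinj]
      exact bot_le)
  obtain ⟨Q2, hQ12, hQ2p, hQ2⟩ := Ideal.exists_ideal_over_prime_of_isIntegral_of_isPrime p0 Q1
    (by rw [hQ1]; exact hp10)
  -- Q2 = P
  have hQ2P : Q2 = P := by
    have hxQ : xx W ∈ Q2 := by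
      have : (X : R[X]) ∈ Q2.comap (algebraMap R[X] W.CoordinateRing) := hQ2 ▸ hXp0
      exact this
    have hmQ : ∀ r ∈ maximalIdeal R, algebraMap R W.CoordinateRing r ∈ Q2 := by
      intro r hr
      have : C r ∈ Q2.comap (algebraMap R[X] W.CoordinateRing) :=
        hQ2 ▸ hp10 (Ideal.mem_map_of_mem _ hr)
      exact this
    have hyQ : yy W ∈ Q2 := by
      have h := eqn W
      have hr : algebraMap R W.CoordinateRing W.a₆ + xx W * (xx W ^ 2 +
          algebraMap R W.CoordinateRing W.a₂ * xx W + algebraMap R W.CoordinateRing W.a₄) ∈ Q2 :=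
        Q2.add_mem (hmQ _ h6) (Q2.mul_mem_right _ hxQ)
      rw [← h] at hr
      rcases hQ2p.mem_or_mem hr with h' | h'
      · exact h'
      · have h2 : algebraMap R W.CoordinateRing W.a₁ * xx W +
            algebraMap R W.CoordinateRing W.a₃ ∈ Q2 :=
          Q2.add_mem (Q2.mul_mem_left _ hxQ) (hmQ _ h3)
        have := Q2.sub_mem h' h2
        have e : yy W + algebraMap R W.CoordinateRing W.a₁ * xx W +
            algebraMap R W.CoordinateRing W.a₃ - (algebraMap R W.CoordinateRing W.a₁ * xx W +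
            algebraMap R W.CoordinateRing W.a₃) = yy W := by ring
        rwa [e] at this
    have hle : P ≤ Q2 := by
      rw [hPJ, Ideal.span_le]
      rintro _ (rfl | rfl)
      · exact hxQ
      · exact hyQ
    exact ((Ideal.IsMaximal.eq_of_le ‹P.IsMaximal› hQ2p.ne_top hle)).symm
  subst hQ2P
  have hQ1bot : (⊥ : Ideal W.CoordinateRing) < Q1 := by
    rw [bot_lt_iff_ne_bot]
    rintro rfl
    obtain ⟨π, hπ⟩ := IsDiscreteValuationRing.exists_irreducible R
    have hπm : π ∈ maximalIdeal R := by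
      rw [hπ.maximalIdeal_eq]
      exact Ideal.mem_span_singleton_self π
    have : C π ∈ (⊥ : Ideal W.CoordinateRing).comap (algebraMap R[X] W.CoordinateRing) :=
      hQ1 ▸ Ideal.mem_map_of_mem _ hπm
    rw [Ideal.mem_comap, Ideal.mem_bot] at this
    have h0 : (C π : R[X]) = 0 := hinj (by rw [this, map_zero])
    exact hπ.ne_zero (C_eq_zero.1 h0)
  have hQ1P : Q1 < Q2 := by
    refine lt_of_le_of_ne hQ12 ?_
    rintro rfl
    exact hXp1 (hQ1 ▸ (hQ2 ▸ hXp0 : (X : R[X]) ∈ Q1.comap (algebraMap R[X] W.CoordinateRing)))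
  haveI : (⊥ : Ideal W.CoordinateRing).IsPrime := Ideal.isPrime_bot
  have e1 := Ideal.height_add_one_le_of_lt_of_isPrime hQ1bot
  have e2 := Ideal.height_add_one_le_of_lt_of_isPrime hQ1P
  calc (2 : ℕ∞) = 0 + 1 + 1 := by norm_num
    _ ≤ (⊥ : Ideal W.CoordinateRing).height + 1 + 1 := by gcongr; exact zero_le
    _ ≤ Q1.height + 1 := by gcongr
    _ ≤ Q2.height := e2

end H12WReg
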