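import Mathlib
import Groth.Agent.Lib.Helper12.WReg2

set_option autoImplicit false
universe u
open Polynomial IsLocalRing
open scoped Polynomial.Bivariate

namespace H12WReg

theorem main (R : Type u) [CommRing R] [IsDomain R]
    [IsDiscreteValuationRing R] (W : WeierstrassCurve.Affine R)
    (h3 : W.a₃ ∈ IsLocalRing.maximalIdeal R) (h6 : W.a₆ ∈ IsLocalRing.maximalIdeal R)
    (h6' : W.a₆ ∉ IsLocalRing.maximalIdeal R ^ 2)
    (P : Ideal W.CoordinateRing) [P.IsMaximal]
    (hP : ∀ r ∈ IsLocalRing.maximalIdeal R, algebraMap R W.CoordinateRing r ∈ P)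
    (hx : WeierstrassCurve.Affine.CoordinateRing.mk W (C X) ∈ P)
    (hy : WeierstrassCurve.Affine.CoordinateRing.mk W X ∈ P) :
    IsRegularLocalRing (Localization.AtPrime P) := by
  have hPJ := P_eq W h6 h6' P hx hy
  have hh := two_le_height W h3 h6 h6' P hP hx hy
  apply IsRegularLocalRing.of_spanFinrank_maximalIdeal_le
  rw [IsLocalization.AtPrime.ringKrullDim_eq_height P (Localization.AtPrime P)]
  have hmax : maximalIdeal (Localization.AtPrime P) =
      Ideal.span {algebraMap W.CoordinateRing (Localization.AtPrime P) (xx W),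
        algebraMap W.CoordinateRing (Localization.AtPrime P) (yy W)} := by
    rw [← Localization.AtPrime.map_eq_maximalIdeal]
    have := congrArg (Ideal.map (algebraMap W.CoordinateRing (Localization.AtPrime P))) hPJ
    rw [this, Ideal.map_span, Set.image_pair]
  have h2 : (maximalIdeal (Localization.AtPrime P)).spanFinrank ≤ 2 := by
    rw [hmax]
    refine (Submodule.spanFinrank_span_le_ncard_of_finite (Set.toFinite _)).trans ?_
    exact (Set.ncard_insert_le _ _).trans (by simp)
  have h2' : (((maximalIdeal (Localization.AtPrime P)).spanFinrank : ℕ) : ℕ∞) ≤ P.height :=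
    le_trans (by exact_mod_cast h2) hh
  exact_mod_cast WithBot.coe_le_coe.2 h2'

end H12WReg
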