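import Mathlib
import Groth.Agent.Lib.Helper12.WReg3

set_option autoImplicit false
universe u
open Polynomial IsLocalRing
open scoped Polynomial.Bivariate

namespace H12WRegAll

variable {R : Type u} [CommRing R] (W : WeierstrassCurve.Affine R)

lemma derivative_polynomial : derivative W.polynomial = W.polynomialY := by
  simp only [WeierstrassCurve.Affine.polynomial, WeierstrassCurve.Affine.polynomialY]
  simp only [← C_pow, ← C_mul, ← C_add, derivative_sub, derivative_add, derivative_mul, derivative_C,
    derivative_X, derivative_X_sq]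
  simp
  rw [show (C (2:R) : R[X]) = 2 from map_ofNat C 2]

noncomputable def pairY : StandardEtalePair R[X] where
  f := W.polynomial
  monic_f := W.monic_polynomial
  g := W.polynomialY
  cond := ⟨1, 0, 1, by rw [derivative_polynomial]; ring⟩

instance etaleY : Algebra.Etale R[X]
    (Localization.Away (WeierstrassCurve.Affine.CoordinateRing.mk W W.polynomialY)) :=
  Algebra.Etale.of_equiv (pairY W).equivAwayAdjoinRoot

instance smoothPoly : Algebra.Smooth R R[X] := {}

instance smoothY : Algebra.Smooth R
    (Localization.Away (WeierstrassCurve.Affine.CoordinateRing.mk W W.polynomialY)) :=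
  Algebra.Smooth.comp R R[X] _

/-- the Weierstrass polynomial with the roles of the variables exchanged, up to sign -/
noncomputable def fX : R[X][Y] :=
  Cubic.toPoly (⟨1, C W.a₂, C W.a₄ - C W.a₁ * X, C W.a₆ - X ^ 2 - C W.a₃ * X⟩ : Cubic R[X])

lemma monic_fX : (fX W).Monic := Cubic.monic_of_a_eq_one'

lemma swap_polynomial : Bivariate.swap W.polynomial = - fX W := by
  simp only [WeierstrassCurve.Affine.polynomial, fX, Cubic.toPoly]
  simp only [map_add, map_sub, map_mul, map_pow, map_one, Bivariate.swap_X, Bivariate.swap_Y,
    Bivariate.swap_C_C]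
  ring

lemma swap_polynomialX : Bivariate.swap W.polynomialX = - derivative (fX W) := by
  simp only [WeierstrassCurve.Affine.polynomialX, fX, Cubic.toPoly]
  simp only [map_add, map_sub, map_mul, map_pow, map_one, Bivariate.swap_X, Bivariate.swap_Y,
    Bivariate.swap_C_C, map_ofNat]
  simp only [← C_pow, derivative_sub, derivative_add, derivative_mul, derivative_C,
    derivative_X, derivative_X_sq, derivative_X_pow, derivative_one, derivative_ofNat]
  simp only [Nat.cast_ofNat]
  rw [show (C (2:R[X]) : R[X][Y]) = 2 from map_ofNat C 2,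
    show (C (3:R[X]) : R[X][Y]) = 3 from map_ofNat C 3]
  ring

noncomputable def pairX : StandardEtalePair R[X] where
  f := fX W
  monic_f := monic_fX W
  g := Bivariate.swap W.polynomialX
  cond := ⟨-1, 0, 1, by rw [swap_polynomialX]; ring⟩

lemma span_fX : Ideal.span {fX W} = Ideal.map (Bivariate.swap (R := R))
    (Ideal.span {W.polynomial}) := by
  rw [Ideal.map_span, Set.image_singleton, swap_polynomial, Ideal.span_singleton_neg]

/-- the coordinate ring with the variables exchanged -/
noncomputable def swapEquiv : W.CoordinateRing ≃ₐ[R] AdjoinRoot (fX W) :=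
  Ideal.quotientEquivAlg (Ideal.span {W.polynomial}) (Ideal.span {fX W}) Bivariate.swap (span_fX W)

lemma swapEquiv_mk (p : R[X][Y]) :
    swapEquiv W (WeierstrassCurve.Affine.CoordinateRing.mk W p) =
      AdjoinRoot.mk (fX W) (Bivariate.swap p) := rfl

instance etaleX : Algebra.Etale R[X]
    (Localization.Away (AdjoinRoot.mk (fX W) (Bivariate.swap W.polynomialX))) :=
  Algebra.Etale.of_equiv (pairX W).equivAwayAdjoinRoot

instance smoothX' : Algebra.Smooth R
    (Localization.Away (AdjoinRoot.mk (fX W) (Bivariate.swap W.polynomialX))) :=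
  Algebra.Smooth.comp R R[X] _

noncomputable def locEquiv :
    Localization.Away (WeierstrassCurve.Affine.CoordinateRing.mk W W.polynomialX) ≃ₐ[R]
      Localization.Away (AdjoinRoot.mk (fX W) (Bivariate.swap W.polynomialX)) :=
  IsLocalization.algEquivOfAlgEquiv
    (M := Submonoid.powers (WeierstrassCurve.Affine.CoordinateRing.mk W W.polynomialX))
    (T := Submonoid.powers (AdjoinRoot.mk (fX W) (Bivariate.swap W.polynomialX)))
    (Localization.Away (WeierstrassCurve.Affine.CoordinateRing.mk W W.polynomialX))
    (Localization.Away (AdjoinRoot.mk (fX W) (Bivariate.swap W.polynomialX))) (swapEquiv W) (by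
    rw [Submonoid.map_powers]
    rfl)

instance smoothX : Algebra.Smooth R
    (Localization.Away (WeierstrassCurve.Affine.CoordinateRing.mk W W.polynomialX)) :=
  Algebra.Smooth.of_equiv (locEquiv W).symm

end H12WRegAll
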