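import Mathlib
import Groth.Agent.Lib.Helper12.WRegAll1
import Groth.Agent.Lib.Helper18.J2a

set_option autoImplicit false
universe u
open Polynomial IsLocalRing
open scoped Polynomial.Bivariate

namespace H12WRegAll
open H12WReg

section general
variable {R : Type u} [CommRing R] (W : WeierstrassCurve.Affine R)

lemma mk_polynomialX : WeierstrassCurve.Affine.CoordinateRing.mk W W.polynomialX =
    algebraMap R W.CoordinateRing W.a₁ * yy W - (3 * xx W ^ 2 +
      2 * algebraMap R W.CoordinateRing W.a₂ * xx W + algebraMap R W.CoordinateRing W.a₄) := by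
  simp only [WeierstrassCurve.Affine.polynomialX, H12WReg.algebraMap_eq, xx, yy]
  simp only [map_add, map_sub, map_mul, map_pow, map_ofNat]

lemma mk_polynomialY : WeierstrassCurve.Affine.CoordinateRing.mk W W.polynomialY =
    2 * yy W + algebraMap R W.CoordinateRing W.a₁ * xx W + algebraMap R W.CoordinateRing W.a₃ := by
  simp only [WeierstrassCurve.Affine.polynomialY, H12WReg.algebraMap_eq, xx, yy]
  simp only [map_add, map_sub, map_mul, map_pow, map_ofNat]
  ring

lemma xx_cube : xx W ^ 3 = 2 * algebraMap R W.CoordinateRing W.a₆ +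
    algebraMap R W.CoordinateRing W.a₄ * xx W - algebraMap R W.CoordinateRing W.a₃ * yy W -
    (xx W * WeierstrassCurve.Affine.CoordinateRing.mk W W.polynomialX +
      yy W * WeierstrassCurve.Affine.CoordinateRing.mk W W.polynomialY) := by
  rw [mk_polynomialX, mk_polynomialY]
  linear_combination (2 : W.CoordinateRing) * eqn W

lemma yy_sq : yy W ^ 2 = algebraMap R W.CoordinateRing W.a₆ + xx W * (xx W ^ 2 +
    algebraMap R W.CoordinateRing W.a₂ * xx W + algebraMap R W.CoordinateRing W.a₄) -
    yy W * (algebraMap R W.CoordinateRing W.a₁ * xx W + algebraMap R W.CoordinateRing W.a₃) := by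
  linear_combination eqn W

/-- if both partial derivatives vanish at a prime, then so does the discriminant -/
theorem Δ_mem (q : Ideal W.CoordinateRing) [q.IsPrime]
    (hX : WeierstrassCurve.Affine.CoordinateRing.mk W W.polynomialX ∈ q)
    (hY : WeierstrassCurve.Affine.CoordinateRing.mk W W.polynomialY ∈ q) :
    algebraMap R W.CoordinateRing W.Δ ∈ q := by
  by_contra hΔ
  let φ := Ideal.Quotient.mk q
  let f : R →+* (W.CoordinateRing ⧸ q) := φ.comp (algebraMap R W.CoordinateRing)
  have hΔ' : (W.map f).Δ ≠ 0 := by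
    rw [WeierstrassCurve.map_Δ]
    intro h
    exact hΔ (Ideal.Quotient.eq_zero_iff_mem.1 h)
  have heq : (W.map f).toAffine.Equation (φ (xx W)) (φ (yy W)) := by
    rw [WeierstrassCurve.Affine.equation_iff]
    have := congrArg φ (eqn W)
    simp only [map_add, map_mul, map_pow] at this
    simp only [WeierstrassCurve.map_a₁, WeierstrassCurve.map_a₂, WeierstrassCurve.map_a₃,
      WeierstrassCurve.map_a₄, WeierstrassCurve.map_a₆, f, RingHom.comp_apply]
    linear_combination this
  have hns := (WeierstrassCurve.Affine.equation_iff_nonsingular_of_Δ_ne_zero hΔ').1 heq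
  rw [WeierstrassCurve.Affine.nonsingular_iff'] at hns
  obtain ⟨-, h | h⟩ := hns
  · apply h
    have := Ideal.Quotient.eq_zero_iff_mem.2 hX
    rw [mk_polynomialX] at this
    simp only [map_add, map_sub, map_mul, map_pow, map_ofNat] at this
    simp only [WeierstrassCurve.map_a₁, WeierstrassCurve.map_a₂, WeierstrassCurve.map_a₃,
      WeierstrassCurve.map_a₄, WeierstrassCurve.map_a₆, f, RingHom.comp_apply]
    linear_combination this
  · apply h
    have := Ideal.Quotient.eq_zero_iff_mem.2 hY
    rw [mk_polynomialY] at this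
    simp only [map_add, map_sub, map_mul, map_pow, map_ofNat] at this
    simp only [WeierstrassCurve.map_a₁, WeierstrassCurve.map_a₂, WeierstrassCurve.map_a₃,
      WeierstrassCurve.map_a₄, WeierstrassCurve.map_a₆, f, RingHom.comp_apply]
    linear_combination this

end general

section dvr
variable {R : Type u} [CommRing R] [IsDomain R] [IsDiscreteValuationRing R]
  (W : WeierstrassCurve.Affine R)

theorem P_eq' (h6 : W.a₆ ∈ maximalIdeal R) (h6' : W.a₆ ∉ maximalIdeal R ^ 2)
    (P : Ideal W.CoordinateRing) (hPtop : P ≠ ⊤)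
    (hx : xx W ∈ P) (hy : yy W ∈ P) : P = Ideal.span {xx W, yy W} := by
  obtain ⟨π, hπ⟩ := IsDiscreteValuationRing.exists_irreducible R
  have hmπ : maximalIdeal R = Ideal.span {π} := hπ.maximalIdeal_eq
  have hu : ∃ u : R, IsUnit u ∧ W.a₆ = u * π := by
    rw [hmπ, Ideal.mem_span_singleton] at h6
    obtain ⟨u, hu⟩ := h6
    refine ⟨u, ?_, by rw [hu, mul_comm]⟩
    by_contra hnu
    have hmem : u ∈ maximalIdeal R := (mem_maximalIdeal u).2 hnu
    rw [hmπ, Ideal.mem_span_singleton] at hmem
    obtain ⟨t, rfl⟩ := hmem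
    apply h6'
    rw [hmπ, Ideal.span_singleton_pow, Ideal.mem_span_singleton]
    exact ⟨t, by rw [hu]; ring⟩
  obtain ⟨u, huu, hua⟩ := hu
  have hπJ : algebraMap R W.CoordinateRing π ∈ Ideal.span {xx W, yy W} := by
    have h := a6_mem W
    rw [hua, map_mul] at h
    obtain ⟨v, hv⟩ := huu.exists_left_inv
    have : algebraMap R W.CoordinateRing π = algebraMap R W.CoordinateRing v *
        (algebraMap R W.CoordinateRing u * algebraMap R W.CoordinateRing π) := by
      rw [← mul_assoc, ← map_mul, hv, map_one, one_mul]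
    rw [this]
    exact Ideal.mul_mem_left _ _ h
  have hJP : Ideal.span {xx W, yy W} ≤ P := by
    rw [Ideal.span_le]
    rintro _ (rfl | rfl)
    · exact hx
    · exact hy
  apply le_antisymm _ hJP
  intro b hb
  obtain ⟨r, hr⟩ := exists_const W b
  have hrP : algebraMap R W.CoordinateRing r ∈ P := by
    have := P.sub_mem hb (hJP hr)
    simpa using this
  have hrm : r ∈ maximalIdeal R := by
    by_contra hnm
    have : IsUnit r := by
      by_contra h
      exact hnm ((mem_maximalIdeal r).2 h)
    exact hPtop (Ideal.eq_top_of_isUnit_mem _ hrP (this.map _))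
  rw [hmπ, Ideal.mem_span_singleton] at hrm
  obtain ⟨t, rfl⟩ := hrm
  have : b = (b - algebraMap R W.CoordinateRing (π * t)) +
      algebraMap R W.CoordinateRing π * algebraMap R W.CoordinateRing t := by
    rw [map_mul]
    ring
  rw [this]
  exact Ideal.add_mem _ hr (Ideal.mul_mem_right _ _ hπJ)

theorem isMaximal_of_mem (h6 : W.a₆ ∈ maximalIdeal R) (h6' : W.a₆ ∉ maximalIdeal R ^ 2)
    (q : Ideal W.CoordinateRing) [q.IsPrime]
    (hx : xx W ∈ q) (hy : yy W ∈ q) : q.IsMaximal := by
  rw [Ideal.isMaximal_def]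
  refine ⟨Ideal.IsPrime.ne_top inferInstance, fun b hb => ?_⟩
  by_contra hbtop
  have h1 := P_eq' W h6 h6' q (Ideal.IsPrime.ne_top inferInstance) hx hy
  have h2 := P_eq' W h6 h6' b hbtop (hb.le hx) (hb.le hy)
  rw [h1, h2] at hb
  exact lt_irrefl _ hb

/-- the non-smooth primes contain the maximal ideal of `R` and the classes of `x`, `y` -/
theorem mem_of_singular (hΔ : W.Δ ≠ 0)
    (h3 : W.a₃ ∈ maximalIdeal R) (h4 : W.a₄ ∈ maximalIdeal R) (h6 : W.a₆ ∈ maximalIdeal R)
    (q : Ideal W.CoordinateRing) [q.IsPrime]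
    (hX : WeierstrassCurve.Affine.CoordinateRing.mk W W.polynomialX ∈ q)
    (hY : WeierstrassCurve.Affine.CoordinateRing.mk W W.polynomialY ∈ q) :
    (∀ r ∈ maximalIdeal R, algebraMap R W.CoordinateRing r ∈ q) ∧ xx W ∈ q ∧ yy W ∈ q := by
  have hΔq := Δ_mem W q hX hY
  have hm : ∀ r ∈ maximalIdeal R, algebraMap R W.CoordinateRing r ∈ q := by
    have hp : (q.comap (algebraMap R W.CoordinateRing)).IsPrime := inferInstance
    have hne : q.comap (algebraMap R W.CoordinateRing) ≠ ⊥ := by
      intro h
      have : W.Δ ∈ q.comap (algebraMap R W.CoordinateRing) := hΔq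
      rw [h] at this
      exact hΔ this
    have hmax : (q.comap (algebraMap R W.CoordinateRing)).IsMaximal := hp.isMaximal hne
    have := IsLocalRing.eq_maximalIdeal hmax
    intro r hr
    rw [← this] at hr
    exact hr
  have hxq : xx W ∈ q := by
    have h : xx W ^ 3 ∈ q := by
      rw [xx_cube]
      refine q.sub_mem (q.sub_mem (q.add_mem (q.mul_mem_left _ (hm _ h6))
        (q.mul_mem_right _ (hm _ h4))) (q.mul_mem_right _ (hm _ h3)))
        (q.add_mem (q.mul_mem_left _ hX) (q.mul_mem_left _ hY))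
    exact Ideal.IsPrime.mem_of_pow_mem inferInstance 3 h
  refine ⟨hm, hxq, ?_⟩
  have h : yy W ^ 2 ∈ q := by
    rw [yy_sq]
    refine q.sub_mem (q.add_mem (hm _ h6) (q.mul_mem_right _ hxq)) (q.mul_mem_left _ ?_)
    exact q.add_mem (q.mul_mem_left _ hxq) (hm _ h3)
  exact Ideal.IsPrime.mem_of_pow_mem inferInstance 2 h

theorem main (hΔ : W.Δ ≠ 0)
    (h3 : W.a₃ ∈ maximalIdeal R) (h4 : W.a₄ ∈ maximalIdeal R)
    (h6 : W.a₆ ∈ maximalIdeal R) (h6' : W.a₆ ∉ maximalIdeal R ^ 2)
    (P : Ideal W.CoordinateRing) [P.IsPrime] :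
    IsRegularLocalRing (Localization.AtPrime P) := by
  have hR : IsRegularLocalRing (Localization.AtPrime (P.comap (algebraMap R W.CoordinateRing))) :=
    Groth.Agent.Lib.Helper18.SerreReg.isRegularLocalRing_localization_atPrime R _
  by_cases hX : WeierstrassCurve.Affine.CoordinateRing.mk W W.polynomialX ∈ P
  · by_cases hY : WeierstrassCurve.Affine.CoordinateRing.mk W W.polynomialY ∈ P
    · obtain ⟨hm, hx, hy⟩ := mem_of_singular W hΔ h3 h4 h6 P hX hY
      haveI := isMaximal_of_mem W h6 h6' P hx hy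
      exact H12WReg.main R W h3 h6 h6' P hm hx hy
    · exact Groth.Agent.Lib.Helper18.J2.regular_of_smooth_away R W.CoordinateRing _ P hY hR
  · exact Groth.Agent.Lib.Helper18.J2.regular_of_smooth_away R W.CoordinateRing _ P hX hR

end dvr

end H12WRegAll
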